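import Cfsg.Statements.S4354
import Cfsg.Agent.Lib.Struct.ClassSize

set_option autoImplicit false
open Cfsg

namespace Cfsg.Agent.S4354

/-- non-abelian Sylow `p`-subgroups, all `p`-elements of `p'`-class size -/
def BadSylow (p : ℕ) (G : Type*) [Group G] : Prop :=
  (∃ P : Sylow p G, ¬ IsMulCommutative P) ∧
    ∀ x : G, (∃ k : ℕ, orderOf x = p ^ k) → ¬ p ∣ (Subgroup.centralizer ({x} : Set G)).index

open Subgroup in
theorem false_of_normal {G : Type*} [Group G] [Finite G] (p : ℕ) [Fact p.Prime] (h : BadSylow p G)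
    (N : Subgroup G) [N.Normal] (hN : ¬ BadSylow p N) (hQ : ¬ BadSylow p (G ⧸ N)) : False := by
  obtain ⟨⟨P, hP⟩, hcl⟩ := h
  have hNab : ∀ S : Sylow p N, IsMulCommutative S := by
    by_contra hc
    push_neg at hc
    refine hN ⟨hc, fun x ⟨k, hk⟩ hd => hcl (x : G) ⟨k, by rw [Subgroup.orderOf_coe]; exact hk⟩
      (hd.trans (Struct.index_centralizer_subtype_dvd N x))⟩
  have hQab : ∀ S : Sylow p (G ⧸ N), IsMulCommutative S := by
    by_contra hc
    push_neg at hc
    refine hQ ⟨hc, fun x hx hd => ?_⟩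
    obtain ⟨k, hk⟩ := hx
    have hp : IsPGroup p (zpowers x) := IsPGroup.of_card (n := k) (by rw [Nat.card_zpowers, hk])
    obtain ⟨S, hS⟩ := hp.exists_le_sylow
    obtain ⟨R, rfl⟩ := Sylow.mapSurjective_surjective (QuotientGroup.mk'_surjective N) p S
    obtain ⟨y, hy, rfl⟩ := hS (mem_zpowers x)
    obtain ⟨j, hj⟩ := (IsPGroup.iff_orderOf.mp R.isPGroup') ⟨y, hy⟩
    exact hcl y ⟨j, by simpa [Subgroup.orderOf_mk] using hj⟩
      (hd.trans (Struct.index_centralizer_map_dvd (QuotientGroup.mk' N) (QuotientGroup.mk'_surjective N) y))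
  set π := QuotientGroup.mk' N with hπ
  have hπs : Function.Surjective π := QuotientGroup.mk'_surjective N
  set Pb : Sylow p (G ⧸ N) := P.mapSurjective hπs with hPb
  have hcomm : ∀ a ∈ (Pb : Subgroup (G ⧸ N)), ∀ b ∈ (Pb : Subgroup (G ⧸ N)), a * b = b * a := fun a ha b hb =>
    congrArg Subtype.val ((hQab Pb).is_comm.comm ⟨a, ha⟩ ⟨b, hb⟩)
  have hcentral : ∀ a ∈ (Pb : Subgroup (G ⧸ N)), a ∈ centralizer ((Pb : Subgroup (G ⧸ N)) : Set (G ⧸ N)) :=
    fun a ha => mem_centralizer_iff.mpr fun b hb => hcomm b hb a ha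
  have key : ∀ x ∈ (P : Subgroup G), ∃ z ∈ (P : Subgroup G), ∃ w ∈ (P : Subgroup G),
      z ∈ centralizer ((P : Subgroup G) : Set G) ∧ w ∈ N ∧ x = z * w := by
    intro x hx
    obtain ⟨k, hk⟩ := (IsPGroup.iff_orderOf.mp P.isPGroup') ⟨x, hx⟩
    have hxk : orderOf x = p ^ k := by simpa [Subgroup.orderOf_mk] using hk
    set C := centralizer ({x} : Set G) with hC
    obtain ⟨S⟩ : Nonempty (Sylow p C) := inferInstance
    have hSi : ¬ p ∣ ((S : Subgroup C).map C.subtype).index := by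
      rw [index_map, ker_subtype, sup_bot_eq, range_subtype, (Fact.out (p := p.Prime)).dvd_mul]
      exact not_or.mpr ⟨S.not_dvd_index, hcl x ⟨k, hxk⟩⟩
    obtain ⟨g, hg⟩ := MulAction.exists_smul_eq G P ((S.isPGroup'.map C.subtype).toSylow hSi)
    have hgC : ((g • P : Sylow p G) : Subgroup G) ≤ C := by rw [hg]; exact map_subtype_le _
    have hxg : x ∈ ((g • P : Sylow p G) : Subgroup G) := by
      rw [hg]
      have hxC : x ∈ C := mem_centralizer_singleton_iff.mpr rfl
      refine ⟨⟨x, hxC⟩, ?_, rfl⟩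
      haveI : (zpowers (⟨x, hxC⟩ : C)).Normal := ⟨fun a ha b => by
        obtain ⟨i, rfl⟩ := ha
        have hb : Commute b (⟨x, hxC⟩ : C) := Subtype.ext (mem_centralizer_singleton_iff.mp b.2)
        rw [(hb.zpow_right i).eq, mul_inv_cancel_right]
        exact ⟨i, rfl⟩⟩
      have hzp : IsPGroup p (zpowers (⟨x, hxC⟩ : C)) := IsPGroup.of_card (n := k) (by
        rw [Nat.card_zpowers, Subgroup.orderOf_mk, hxk])
      exact IsPGroup.le_sylow_of_normal hzp S (mem_zpowers _)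
    rw [Sylow.coe_subgroup_smul, mem_pointwise_smul_iff_inv_smul_mem] at hxg
    set z := g⁻¹ * x * g with hz
    have hzP : z ∈ (P : Subgroup G) := by simpa [MulAut.smul_def, z] using hxg
    have hzC : z ∈ centralizer ((P : Subgroup G) : Set G) := mem_centralizer_iff.mpr fun a ha => by
      have h1 : g * a * g⁻¹ ∈ C := hgC (by
        rw [Sylow.coe_subgroup_smul, mem_pointwise_smul_iff_inv_smul_mem]
        simpa [MulAut.smul_def, mul_assoc] using (SetLike.mem_coe.mp ha))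
      have h2 : g * a * g⁻¹ * x = x * (g * a * g⁻¹) := mem_centralizer_singleton_iff.mp h1
      calc a * z = g⁻¹ * (g * a * g⁻¹ * x) * g := by rw [hz]; group
        _ = z * a := by rw [h2, hz]; group
    have hπP : ∀ a ∈ (P : Subgroup G), π a ∈ (Pb : Subgroup (G ⧸ N)) := fun a ha => mem_map_of_mem π ha
    obtain ⟨nb, hnb, hnbe⟩ := Sylow.conj_eq_normalizer_conj_of_mem_centralizer Pb (π x) (π g)
      (hcentral _ (hπP x hx)) (by
        have : (π g)⁻¹ * π x * π g = π z := by simp [z]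
        rw [this]; exact hcentral _ (hπP z hzP))
    obtain ⟨m, rfl⟩ := hπs nb
    have hmPN : ((m • P : Sylow p G) : Subgroup G) ≤ (P : Subgroup G) ⊔ N := by
      intro a ha
      rw [Sylow.coe_subgroup_smul, mem_pointwise_smul_iff_inv_smul_mem] at ha
      have ha' : m⁻¹ * a * m ∈ (P : Subgroup G) := by simpa [MulAut.smul_def] using ha
      have h1 := (mem_normalizer_iff.mp hnb (π (m⁻¹ * a * m))).mp (hπP _ ha')
      obtain ⟨b, hb, hbe⟩ := h1
      have h2 : b⁻¹ * a ∈ N := (QuotientGroup.eq).mp (show (b : G ⧸ N) = a by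
        rw [show (b : G ⧸ N) = π b from rfl, hbe, ← map_inv, ← map_mul, ← map_mul]
        show π _ = π a
        congr 1; group)
      have := mul_mem (mem_sup_left (T := N) (show b ∈ (P : Subgroup G) from hb)) (mem_sup_right (S := (P : Subgroup G)) h2)
      simpa using this
    obtain ⟨h', hh'⟩ := MulAction.exists_smul_eq ((P : Subgroup G) ⊔ N : Subgroup G)
      (P.subtype le_sup_left) ((m • P).subtype hmPN)
    rw [Sylow.smul_subtype] at hh'
    have hsm : (h' : G) • P = m • P := Sylow.subtype_injective hh'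
    set n := (h' : G)⁻¹ * m with hn
    have hnP : n ∈ normalizer ((P : Subgroup G) : Set G) := Sylow.smul_eq_iff_mem_normalizer.mp (by
      rw [hn, mul_smul, ← hsm, inv_smul_smul])
    have hπh : π (h' : G) ∈ (Pb : Subgroup (G ⧸ N)) := by
      have h1 : π (h' : G) ∈ ((P : Subgroup G) ⊔ N).map π := mem_map_of_mem π h'.2
      rwa [Subgroup.map_sup, (map_eq_bot_iff N).mpr (by rw [hπ, QuotientGroup.ker_mk']), sup_bot_eq] at h1
    set z' := n⁻¹ * x * n with hz'
    have hz'P : z' ∈ (P : Subgroup G) := (mem_normalizer_iff''.mp hnP x).mp hx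
    have hzz : π z' = π z := by
      have h1 : π z = (π m)⁻¹ * π x * π m := by rw [← hnbe]; simp [z]
      rw [h1, hz', hn]
      simp only [map_mul, map_inv]
      have h2 := hcomm _ hπh _ (hπP x hx)
      calc ((π ↑h')⁻¹ * π m)⁻¹ * π x * ((π ↑h')⁻¹ * π m) = (π m)⁻¹ * (π ↑h' * π x) * (π ↑h')⁻¹ * π m := by group
        _ = _ := by rw [h2]; group
    refine ⟨n * z * n⁻¹, (mem_normalizer_iff.mp hnP z).mp hzP, n * (z⁻¹ * z') * n⁻¹,
      (mem_normalizer_iff.mp hnP _).mp (mul_mem (inv_mem hzP) hz'P), mem_centralizer_iff.mpr fun a ha => ?_,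
      ‹N.Normal›.conj_mem _ (QuotientGroup.eq.mp hzz.symm) n, by rw [hz']; group⟩
    have h1 := mem_centralizer_iff.mp hzC (n⁻¹ * a * n) ((mem_normalizer_iff''.mp hnP a).mp ha)
    calc a * (n * z * n⁻¹) = n * ((n⁻¹ * a * n) * z) * n⁻¹ := by group
      _ = n * z * n⁻¹ * a := by rw [h1]; group
  refine hP ⟨⟨fun a b => Subtype.ext ?_⟩⟩
  obtain ⟨a, ha⟩ := a
  obtain ⟨b, hb⟩ := b
  show a * b = b * a
  obtain ⟨z, hz, w, hw, hzc, hwN, rfl⟩ := key a ha
  obtain ⟨z₂, hz₂, w₂, hw₂, hzc₂, hwN₂, rfl⟩ := key b hb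
  have hww : Commute w w₂ := by
    obtain ⟨S, hS⟩ := (P.isPGroup'.comap_subtype (K := N)).exists_le_sylow
    have := (hNab S).is_comm.comm ⟨⟨w, hwN⟩, hS hw⟩ ⟨⟨w₂, hwN₂⟩, hS hw₂⟩
    exact congrArg (fun t : S => ((t : N) : G)) this
  have c1 : Commute z z₂ := mem_centralizer_iff.mp hzc₂ z hz
  have c2 : Commute z w₂ := (mem_centralizer_iff.mp hzc w₂ hw₂).symm
  have c3 : Commute w z₂ := mem_centralizer_iff.mp hzc₂ w hw
  exact ((c1.mul_right c2).mul_left (c3.mul_right hww)).eq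

/-- Let G be a finite group and p a prime such that the Sylow p-subgroups of G are non-abelian while every element of p-power order has conjugacy class size prime to p, and suppose no nontrivial proper normal subgroup N of G has this property and no quotient G/N by such an N has it. Then G is simple. -/
theorem result {G : Type*} [Group G] [Finite G]
    (p : ℕ) [Fact p.Prime] (h : ((∃ P : Sylow p G, ¬ IsMulCommutative P) ∧ ∀ x : G, (∃ k : ℕ, orderOf x = p ^ k) → ¬ p ∣ (Subgroup.centralizer ({x} : Set G)).index))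
    (hmin : ∀ (N : Subgroup G) [N.Normal], N ≠ ⊥ → N ≠ ⊤ →
      ¬ ((∃ P : Sylow p N, ¬ IsMulCommutative P) ∧ ∀ x : N, (∃ k : ℕ, orderOf x = p ^ k) → ¬ p ∣ (Subgroup.centralizer ({x} : Set N)).index) ∧
      ¬ ((∃ P : Sylow p (G ⧸ N), ¬ IsMulCommutative P) ∧ ∀ x : (G ⧸ N), (∃ k : ℕ, orderOf x = p ^ k) → ¬ p ∣ (Subgroup.centralizer ({x} : Set (G ⧸ N))).index)) :
    IsSimpleGroup G := by
  haveI : Nontrivial G := by
    by_contra hc
    rw [not_nontrivial_iff_subsingleton] at hc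
    obtain ⟨⟨P, hP⟩, -⟩ := h
    exact hP ⟨⟨fun a b => Subtype.ext (Subsingleton.elim _ _)⟩⟩
  refine ⟨fun N hN => ?_⟩
  by_contra hc
  push_neg at hc
  haveI := hN
  obtain ⟨h1, h2⟩ := hmin N hc.1 hc.2
  exact false_of_normal p h N h1 h2

end Cfsg.Agent.S4354
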