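import Cfsg.Statements.S4357
import Cfsg.Agent.Lib.Classical.DicksonRedundant

set_option autoImplicit false
open Cfsg

open Cfsg.Agent.Classical
open scoped MatrixGroups Classical

namespace Cfsg.Agent.S4357

/-- Let F be a finite field with q elements, p a prime and G = SL(2, F). Say a Sylow p-subgroup Q of G is redundant when every element of p-power order lies in some Sylow p-subgroup other than Q. Then G has a redundant Sylow p-subgroup if and only if p = 2 and q is not of any of the forms 2ᵏ - 1, 2ᵏ, 2ᵏ + 1. -/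
theorem result {F : Type*} [Field F] [Fintype F] (p : ℕ) [Fact p.Prime] :
    (∃ Q : Sylow p (Matrix.SpecialLinearGroup (Fin 2) F), ∀ x : Matrix.SpecialLinearGroup (Fin 2) F,
        (∃ k : ℕ, orderOf x = p ^ k) → ∃ P : Sylow p (Matrix.SpecialLinearGroup (Fin 2) F), P ≠ Q ∧ x ∈ P) ↔
      (p = 2 ∧ (¬ ∃ k : ℕ, Fintype.card F + 1 = 2 ^ k) ∧ (¬ ∃ k : ℕ, Fintype.card F = 2 ^ k) ∧
        ¬ ∃ k : ℕ, Fintype.card F = 2 ^ k + 1) := by
  have hker : (SL2Two.proj (F := F)).ker ≤ Subgroup.center (Matrix.SpecialLinearGroup (Fin 2) F) :=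
    le_of_eq (QuotientGroup.ker_mk' _)
  have hcard : Nat.card (SL2Two.proj (F := F)).ker ≤ 2 := by
    have hsub : ((SL2Two.proj (F := F)).ker : Set (Matrix.SpecialLinearGroup (Fin 2) F)) ⊆ {1, SL2Two.negOne} :=
      fun g hg => (SL2Two.proj_eq_one_iff g).1 hg
    have h1 := (Set.ncard_le_ncard hsub (Set.toFinite _)).trans
      ((Set.ncard_insert_le _ _).trans (by rw [Set.ncard_singleton]))
    rwa [← Nat.card_coe_set_eq] at h1
  refine (Dickson.hasRedundant_iff_of_central (p := p) (π := SL2Two.proj) SL2Two.proj_surjective hker ?_).trans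
    (Dickson.hasRedundant_psl_iff (F := F) p)
  have hpos := Nat.card_pos (α := (SL2Two.proj (F := F)).ker)
  rcases (show Nat.card (SL2Two.proj (F := F)).ker = 1 ∨ Nat.card (SL2Two.proj (F := F)).ker = 2 by omega) with h | h
  · exact Or.inr (by rw [h]; exact Nat.coprime_one_left p)
  · by_cases hp : p = 2
    · subst hp
      exact Or.inl (IsPGroup.of_card (n := 1) (by rw [h, pow_one]))
    · exact Or.inr (by rw [h]; exact (Nat.coprime_primes Nat.prime_two Fact.out).2 (Ne.symm hp))

end Cfsg.Agent.S4357
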