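import Cfsg.Statements.S4364
import Cfsg.Agent.Lib.Perm.Kazarin

set_option autoImplicit false
open Cfsg

namespace Cfsg.Agent.S4364

open Subgroup Cfsg.Agent in
theorem aux {Q : Type*} [Group Q] [Finite Q] {p : ℕ} [hp : Fact p.Prime] (hO : pCore p Q = ⊥) (x : Q)
    (hcl : ∃ a : ℕ, (Subgroup.centralizer ({x} : Set Q)).index = p ^ a) :
    IsMulCommutative ↥(Subgroup.normalClosure ({x} : Set Q)) := by
  obtain ⟨k, hcl⟩ := hcl
  obtain ⟨a, b, hx, hb, ha, hj⟩ := Perm.Kazarin.split hp.out x hcl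
  set K := normalClosure ({x} : Set Q)
  haveI hKs : Group.IsSolvable K := Perm.Kazarin.solvable_normalClosure hp.out x hcl
  haveI := Solv.fittingSubgroup_characteristic K
  haveI hFn := Solv.fittingSubgroup_isNilpotent K
  set F := (fittingSubgroup K).map K.subtype
  haveI : F.Normal := inferInstance
  haveI hFnil : Group.IsNilpotent F :=
    Group.nilpotent_of_mulEquiv (Subgroup.equivMapOfInjective _ K.subtype K.subtype_injective)
  -- the Fitting subgroup has order prime to `p`
  have hFp : ¬ p ∣ Nat.card F := by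
    obtain ⟨P⟩ : Nonempty (Sylow p F) := inferInstance
    haveI := P.characteristic_of_normal inferInstance
    have hP : (P : Subgroup F).map F.subtype = ⊥ := le_bot_iff.mp (hO ▸ Solv.le_pCore
      (P.isPGroup'.map F.subtype))
    rw [Subgroup.map_eq_bot_iff_of_injective _ F.subtype_injective] at hP
    intro hdvd
    have h1 := P.card_eq_multiplicity
    rw [hP, Subgroup.card_bot] at h1
    have h2 := (hp.out.dvd_iff_one_le_factorization Nat.card_pos.ne').mp hdvd
    exact absurd h1.symm (Nat.one_lt_pow (by omega) hp.out.one_lt).ne'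
  -- `x` centralizes it
  have hxF : ∀ f ∈ F, f * x = x * f := by
    intro f hf
    have h1 : (centralizer ({x} : Set Q)).relIndex F ∣ p ^ k := by
      rw [← Perm.Kazarin.relIndex_sup_normal, ← hcl]
      exact Subgroup.relIndex_dvd_index_of_le le_sup_left
    have h2 : (centralizer ({x} : Set Q)).relIndex F ∣ Nat.card F := Subgroup.index_dvd_card _
    have h3 : (centralizer ({x} : Set Q)).relIndex F = 1 :=
      Nat.eq_one_of_dvd_coprimes ((hp.out.coprime_iff_not_dvd.mpr hFp).pow_left k) h1 h2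
    exact Subgroup.mem_centralizer_singleton_iff.mp (Subgroup.relIndex_eq_one.mp h3 hf)
  have hxK : x ∈ K := Subgroup.subset_normalClosure (Set.mem_singleton _)
  have hxin : (⟨x, hxK⟩ : K) ∈ fittingSubgroup K := Solv.centralizer_fittingSubgroup_le
    (Subgroup.mem_centralizer_iff.mpr fun c hc => Subtype.ext (hxF _ (Subgroup.mem_map_of_mem K.subtype hc)))
  have hxF' : x ∈ F := Subgroup.mem_map.mpr ⟨_, hxin, rfl⟩
  have hKF : K ≤ F ⊓ centralizer (F : Set Q) := by
    refine Subgroup.normalClosure_le_normal fun y hy => ?_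
    rw [Set.mem_singleton_iff] at hy
    subst hy
    exact Subgroup.mem_inf.mpr ⟨hxF', Subgroup.mem_centralizer_iff.mpr hxF⟩
  exact ⟨⟨fun u v => Subtype.ext (Subgroup.mem_centralizer_iff.mp (hKF u.2).2 _ (hKF v.2).1).symm⟩⟩

/-- Let G be a finite group, p a prime and x an element whose conjugacy class has p-power size. Then for any two conjugates y and z of x, the commutator y z y⁻¹ z⁻¹ lies in O_p(G), the largest normal p-subgroup of G. -/
theorem result {G : Type*} [Group G] [Finite G] (p : ℕ) [Fact p.Prime]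
    (x : G) (hx : ∃ a : ℕ, (Subgroup.centralizer ({x} : Set G)).index = p ^ a) (g h : G) :
    (g * x * g⁻¹) * (h * x * h⁻¹) * (g * x * g⁻¹)⁻¹ * (h * x * h⁻¹)⁻¹ ∈ Cfsg.pCore p G := by
  obtain ⟨a, ha⟩ := hx
  obtain ⟨j, -, hj⟩ := (Nat.dvd_prime_pow Fact.out).mp
    (ha ▸ Cfsg.Agent.Perm.Kazarin.index_centralizer_map_dvd _ (QuotientGroup.mk'_surjective (Cfsg.pCore p G)) x)
  have hc := aux (Cfsg.Agent.Solv.pCore_quotient_pCore p G) (QuotientGroup.mk' (Cfsg.pCore p G) x) ⟨j, hj⟩
  rw [← QuotientGroup.eq_one_iff]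
  set xb := QuotientGroup.mk' (Cfsg.pCore p G) x
  have hmem : ∀ t : G, QuotientGroup.mk' (Cfsg.pCore p G) (t * x * t⁻¹) ∈ Subgroup.normalClosure ({xb} : Set (G ⧸ Cfsg.pCore p G)) :=
    fun t => by
      rw [map_mul, map_mul, map_inv]
      exact Subgroup.normalClosure_normal.conj_mem _ (Subgroup.subset_normalClosure (Set.mem_singleton _)) _
  have hcomm := congrArg Subtype.val (hc.is_comm.comm ⟨_, hmem g⟩ ⟨_, hmem h⟩)
  show QuotientGroup.mk' (Cfsg.pCore p G) _ = 1
  rw [map_mul, map_mul, map_mul _ (g * x * g⁻¹) (h * x * h⁻¹), map_inv, map_inv]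
  simp only [Subgroup.coe_mul] at hcomm
  rw [hcomm, mul_inv_cancel_right, mul_inv_cancel]

end Cfsg.Agent.S4364
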