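import Cfsg.Statements.S4365


set_option autoImplicit false
open scoped Pointwise
open Cfsg

namespace Cfsg.Agent.S4365

/-- Let P be a finite p-group whose conjugacy class sizes are exactly 1 and pᵃ for some a ≥ 1. Then every element of P has its p-th power in the center of P (P/Z(P) has exponent p). -/
theorem result {P : Type*} [Group P] [Finite P] (p : ℕ) [Fact p.Prime]
    (hP : IsPGroup p P) (a : ℕ) (ha : 1 ≤ a)
    (hcs : {k : ℕ | ∃ x : P, (Subgroup.centralizer ({x} : Set P)).index = k} = {1, p ^ a}) (x : P) :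
    x ^ p ∈ Subgroup.center P := by
  open Subgroup in
  classical
  have hpp := (Fact.out : p.Prime)
  have hm : ∀ g : P, g ∉ center P → (centralizer ({g} : Set P)).index = p ^ a := by
    intro g hg
    have h := hcs.subset ⟨g, rfl⟩
    rcases h with h | h
    · exact absurd (mem_center_iff.2 fun t => mem_centralizer_singleton_iff.1 ((index_eq_one.1 h).ge (mem_top t))) hg
    · exact h
  have hcc : ∀ g t : P, g ∈ centralizer ({t} : Set P) ↔ g * t = t * g := fun g t => mem_centralizer_singleton_iff
  have heqC : ∀ g t : P, g ∉ center P → t ∉ center P → centralizer ({g} : Set P) ≤ centralizer ({t} : Set P) →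
      centralizer ({g} : Set P) = centralizer ({t} : Set P) := by
    intro g t hg ht hle
    refine eq_of_le_of_card_ge hle ?_
    have h1 := (centralizer ({g} : Set P)).card_mul_index
    rw [← (centralizer ({t} : Set P)).card_mul_index, hm g hg, hm t ht] at h1
    exact (Nat.eq_of_mul_eq_mul_right (pow_pos hpp.pos a) h1).ge
  have hpow : ∀ (g : P) (k : ℕ), g ^ k ∉ center P → centralizer ({g} : Set P) = centralizer ({g ^ k} : Set P) := by
    intro g k hk
    refine heqC g _ (fun h => hk (pow_mem h k)) hk fun t ht => ?_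
    rw [hcc] at ht ⊢
    exact ((show Commute t g from ht).pow_right k).eq
  by_contra hx
  -- the centraliser of such an element is abelian
  have hab : ∀ g : P, g ^ p ∉ center P → ∀ y : P, y ∈ centralizer ({g} : Set P) → y ∉ center P →
      centralizer ({y} : Set P) = centralizer ({g} : Set P) := by
    intro g hg y hy hyz
    have base : ∀ y : P, y ∈ centralizer ({g} : Set P) → y ∉ center P → y ^ p ∈ center P →
        centralizer ({y} : Set P) = centralizer ({g} : Set P) := by
      intro y hy hyz hyp
      have hgy : Commute g y := ((hcc _ _).1 hy).symm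
      have hgyp : (g * y) ^ p ∉ center P := by
        rw [hgy.mul_pow]
        intro h
        have := mul_mem h (inv_mem hyp)
        rw [mul_inv_cancel_right] at this
        exact hg this
      have e : centralizer ({g * y} : Set P) = centralizer ({g} : Set P) := by
        rw [hpow _ p hgyp, hpow g p hg]
        ext t
        rw [hcc, hcc, hgy.mul_pow, ← mul_assoc, mul_assoc (g ^ p), ← mem_center_iff.1 hyp t, ← mul_assoc]
        exact ⟨fun h => mul_right_cancel h, fun h => by rw [h]⟩
      refine (heqC g y (fun h => hg (pow_mem h p)) hyz fun t ht => ?_).symm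
      have h1 : t * (g * y) = g * y * t := (hcc _ _).1 (e.ge ht)
      rw [hcc]
      rw [← mul_assoc, (hcc _ _).1 ht, mul_assoc, mul_assoc] at h1
      exact mul_left_cancel h1
    obtain ⟨n, hn⟩ := IsPGroup.iff_orderOf.1 hP y
    have hex : ∃ k, y ^ p ^ k ∈ center P := ⟨n, by rw [← hn, pow_orderOf_eq_one]; exact one_mem _⟩
    rcases Nat.eq_zero_or_pos (Nat.find hex) with h0 | h0
    · have := Nat.find_spec hex
      rw [h0, pow_zero, pow_one] at this
      exact absurd this hyz
    obtain ⟨k, hk⟩ : ∃ k, Nat.find hex = k + 1 := ⟨Nat.find hex - 1, by omega⟩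
    have hmin : y ^ p ^ k ∉ center P := Nat.find_min hex (by omega)
    have hspec := Nat.find_spec hex
    rw [hk, pow_succ, pow_mul] at hspec
    rw [hpow y (p ^ k) hmin, base _ (pow_mem hy _) hmin hspec]
  -- an element of order `p` in the second centre
  have hx1 : x ∉ center P := fun h => hx (pow_mem h p)
  haveI : Nontrivial (P ⧸ center P) := QuotientGroup.nontrivial_iff.2 fun h => hx1 (h ▸ mem_top x)
  haveI := (hP.to_quotient (center P)).center_nontrivial
  obtain ⟨wb, hwb⟩ : ∃ wb : center (P ⧸ center P), orderOf wb = p := by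
    obtain ⟨k, hk0, hk⟩ := ((hP.to_quotient (center P)).to_subgroup (center (P ⧸ center P))).nontrivial_iff_card.1 inferInstance
    exact exists_prime_orderOf_dvd_card' p (hk ▸ dvd_pow_self p (by omega))
  obtain ⟨w, hw⟩ := QuotientGroup.mk'_surjective (center P) (wb : P ⧸ center P)
  have hwz : w ∉ center P := by
    intro h
    have h1 : orderOf (wb : P ⧸ center P) = p := (Subgroup.orderOf_coe wb).trans hwb
    rw [← hw, QuotientGroup.mk'_apply, (QuotientGroup.eq_one_iff w).2 h, orderOf_one] at h1
    exact hpp.ne_one h1.symm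
  have hwp : w ^ p ∈ center P := by
    rw [← QuotientGroup.eq_one_iff, QuotientGroup.mk_pow, ← QuotientGroup.mk'_apply, hw, ← hwb, ← Subgroup.coe_pow,
      pow_orderOf_eq_one]
    rfl
  have hw2 : ∀ t : P, t * w * t⁻¹ * w⁻¹ ∈ center P := by
    intro t
    rw [← QuotientGroup.eq_one_iff, ← QuotientGroup.mk'_apply, map_mul, map_mul, map_mul, map_inv, map_inv, hw,
      mem_center_iff.1 wb.2 (QuotientGroup.mk' _ t), mul_inv_cancel_right, mul_inv_cancel]
  set U := centralizer ({w} : Set P) with hU
  have hUeq : ∀ g : P, g ^ p ∉ center P → centralizer ({g} : Set P) = U := by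
    intro g hg
    set c := g * w * g⁻¹ * w⁻¹ with hc
    have hcz : c ∈ center P := hw2 g
    have e1 : g * w * g⁻¹ = c * w := by rw [hc]; group
    have hcp : c ^ p = 1 := by
      have h1 : g * w ^ p * g⁻¹ = c ^ p * w ^ p := by
        rw [← conj_pow, e1, (show Commute c w from (mem_center_iff.1 hcz w).symm).mul_pow]
      rw [mem_center_iff.1 hwp g, mul_inv_cancel_right] at h1
      exact mul_eq_right.1 h1.symm
    have h2 : ∀ k : ℕ, g ^ k * w * (g ^ k)⁻¹ = c ^ k * w := by
      intro k
      induction k with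
      | zero => simp
      | succ k ih =>
        calc g ^ (k + 1) * w * (g ^ (k + 1))⁻¹ = g * (g ^ k * w * (g ^ k)⁻¹) * g⁻¹ := by rw [pow_succ']; group
          _ = g * c ^ k * w * g⁻¹ := by rw [ih]; group
          _ = c ^ k * (g * w * g⁻¹) := by rw [mem_center_iff.1 (pow_mem hcz k) g]; simp only [mul_assoc]
          _ = c ^ (k + 1) * w := by rw [e1, ← mul_assoc, pow_succ]
    have h3 : w ∈ centralizer ({g ^ p} : Set P) := by
      have := h2 p
      rw [hcp, one_mul, mul_inv_eq_iff_eq_mul] at this
      exact (hcc _ _).2 this.symm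
    rw [← hpow g p hg] at h3
    exact (hab g hg w h3 hwz).symm
  have hUab : ∀ u ∈ U, ∀ v ∈ U, u * v = v * u := by
    intro u hu v hv
    rw [← hUeq x hx] at hu hv
    by_cases huz : u ∈ center P
    · exact (mem_center_iff.1 huz v).symm
    · rw [← hab x hx u hu huz, hcc] at hv
      exact hv.symm
  haveI hUn : U.Normal := ⟨fun u hu t => by
    have h1 : (t * w * t⁻¹ * w⁻¹) ∈ center P := hw2 t
    rw [hU, hcc] at hu ⊢
    set c := t⁻¹ * w * t * w⁻¹ with hc
    have hcz : c ∈ center P := by have := hw2 t⁻¹; rwa [inv_inv] at this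
    have e : t⁻¹ * w * t = c * w := by rw [hc]; group
    calc t * u * t⁻¹ * w = t * (u * (t⁻¹ * w * t)) * t⁻¹ := by group
      _ = t * (c * (u * w)) * t⁻¹ := by rw [e, ← mul_assoc u, mem_center_iff.1 hcz u, mul_assoc c]
      _ = t * (c * w) * u * t⁻¹ := by rw [hu]; group
      _ = w * (t * u * t⁻¹) := by rw [← e]; group⟩
  have hxU : x ∈ U := (hUeq x hx).le ((hcc _ _).2 rfl)
  have hout : ∀ g : P, g ∉ U → g ^ p ∈ center P := by
    intro g hg
    by_contra h
    exact hg ((hUeq g h).le ((hcc _ _).2 rfl))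
  have hfix : ∀ g : P, g ∉ U → ∀ u ∈ U, g * u = u * g → u ∈ center P := by
    intro g hg u hu hgu
    by_contra huz
    refine hg ?_
    rw [← hUeq x hx] at hu ⊢
    rw [← hab x hx u hu huz, hcc]
    exact hgu
  -- norms
  letI : CommGroup U := { (inferInstance : Group U) with mul_comm := fun u v => Subtype.ext (hUab u u.2 v v.2) }
  set φ : P →* MulAut U := MulAut.conjNormal with hφ
  have hφp : ∀ g : P, g ∉ U → φ g ^ p = 1 := by
    intro g hg
    rw [← map_pow]
    refine MulEquiv.ext fun u => Subtype.ext ?_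
    rw [hφ, MulAut.conjNormal_apply, MulAut.one_apply, ← mem_center_iff.1 (hout g hg) (u : P), mul_inv_cancel_right]
  have hnorm : ∀ g : P, g ∉ U → ∀ u : U, ((∏ j ∈ Finset.range p, (φ g ^ j) u : U) : P) ∈ center P := by
    intro g hg u
    have key : ∀ n : ℕ, ((u : P) * g) ^ n = ((∏ j ∈ Finset.range n, (φ g ^ j) u : U) : P) * g ^ n := by
      intro n
      induction n with
      | zero => simp
      | succ n ih =>
        rw [pow_succ, ih, Finset.prod_range_succ, Subgroup.coe_mul, ← map_pow, hφ, MulAut.conjNormal_apply, pow_succ]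
        group
    have hug : (u : P) * g ∉ U := fun h => hg (by simpa using mul_mem (inv_mem u.2) h)
    have h1 := hout _ hug
    rw [key] at h1
    have := mul_mem h1 (inv_mem (hout g hg))
    rwa [mul_inv_cancel_right] at this
  -- the quotient by `U` is large
  have hUne : U ≠ ⊤ := fun h => hwz (mem_center_iff.2 fun t => (hcc _ _).1 (h.ge (mem_top t)))
  obtain ⟨g, hg⟩ : ∃ g, g ∉ U := by
    by_contra h
    push Not at h
    exact hUne ((eq_top_iff' U).2 h)
  set f := QuotientGroup.mk' U
  obtain ⟨n, hn⟩ := IsPGroup.iff_card.1 (hP.to_quotient U)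
  have hn2 : 2 ≤ n := by
    by_contra hlt
    have hgz : g ∉ center P := fun h => hg (center_le_centralizer _ h)
    have hcard : Nat.card (centralizer ({g} : Set P)) = Nat.card U := by
      have h1 := (centralizer ({g} : Set P)).card_mul_index
      rw [← U.card_mul_index, hm g hgz, hm w hwz] at h1
      exact Nat.eq_of_mul_eq_mul_right (pow_pos hpp.pos a) h1
    set Cg := centralizer ({g} : Set P)
    have h2 : U.relIndex Cg ∣ p := by
      refine dvd_trans (relIndex_dvd_index_of_normal U Cg) ?_
      rw [index_eq_card, hn]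
      exact (pow_dvd_pow p (by omega : n ≤ 1)).trans (pow_one p).dvd
    have h3 : U ⊓ Cg = center P ⊓ U := by
      ext u
      exact ⟨fun h => ⟨hfix g hg u h.1 ((hcc _ _).1 h.2).symm, h.1⟩,
        fun h => ⟨h.2, center_le_centralizer _ h.1⟩⟩
    have h4 : (center P).relIndex U ∣ p := by
      have e1 := relIndex_mul_relIndex (⊥ : Subgroup P) (U ⊓ Cg) Cg bot_le inf_le_right
      have e2 := relIndex_mul_relIndex (⊥ : Subgroup P) (center P ⊓ U) U bot_le inf_le_right
      rw [relIndex_bot_left, relIndex_bot_left, inf_relIndex_right] at e1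
      rw [relIndex_bot_left, relIndex_bot_left, inf_relIndex_right, ← h3, ← hcard, ← e1] at e2
      exact (Nat.eq_of_mul_eq_mul_left Nat.card_pos e2).symm ▸ h2
    haveI : ((center P).subgroupOf U).Normal := inferInstance
    have h5 : (⟨x, hxU⟩ : U) ^ p ∈ (center P).subgroupOf U := by
      rw [← QuotientGroup.eq_one_iff, QuotientGroup.mk_pow]
      exact orderOf_dvd_iff_pow_eq_one.1 ((_root_.orderOf_dvd_natCard _).trans h4)
    exact hx (mem_subgroupOf.1 h5)
  -- an elementary subgroup of order `p²` of the quotient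
  obtain ⟨E, hE⟩ := Sylow.exists_subgroup_card_pow_prime (G := P ⧸ U) p (n := 2) (hn ▸ pow_dvd_pow p hn2)
  haveI : IsMulCommutative E := IsPGroup.isMulCommutative_of_card_eq_prime_sq hE
  obtain ⟨ab, hab1⟩ : ∃ e : E, e ≠ 1 := by
    haveI : Nontrivial E := Finite.one_lt_card_iff_nontrivial.1 (hE ▸ Nat.one_lt_pow two_ne_zero hpp.one_lt)
    exact exists_ne 1
  obtain ⟨bb, hbb⟩ : ∃ e : E, e ∉ zpowers ab := by
    by_contra h
    push Not at h
    have h1 : Nat.card E ≤ Nat.card (zpowers ab) := Nat.card_le_card_of_injective (fun e => ⟨e, h e⟩) fun e e' h' => congrArg Subtype.val h'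
    rw [Nat.card_zpowers, hE] at h1
    obtain ⟨y, hy⟩ := QuotientGroup.mk'_surjective U (ab : P ⧸ U)
    have hyU : y ∉ U := fun h => hab1 (Subtype.ext (by rw [← hy, QuotientGroup.mk'_apply, (QuotientGroup.eq_one_iff y).2 h]; rfl))
    have h2 : orderOf ab ≤ p := Nat.le_of_dvd hpp.pos (orderOf_dvd_of_pow_eq_one (Subtype.ext (by
      rw [Subgroup.coe_pow, ← hy, ← map_pow]
      exact (QuotientGroup.eq_one_iff _).2 (center_le_centralizer _ (hout y hyU)))))
    have : p < p ^ 2 := by nlinarith [hpp.two_le]
    omega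
  obtain ⟨y, hy⟩ := QuotientGroup.mk'_surjective U (ab : P ⧸ U)
  obtain ⟨z, hz⟩ := QuotientGroup.mk'_surjective U (bb : P ⧸ U)
  have hzU : z ∉ U := fun h => hbb (by
    rw [show bb = 1 from Subtype.ext (by rw [← hz, QuotientGroup.mk'_apply, (QuotientGroup.eq_one_iff z).2 h]; rfl)]
    exact one_mem _)
  have hyz : ∀ i : ℕ, y * z ^ i ∉ U := by
    intro i h
    rw [← QuotientGroup.eq_one_iff, ← QuotientGroup.mk'_apply, map_mul, map_pow, hy, hz] at h
    have h' : ab * bb ^ i = 1 := Subtype.ext h
    by_cases hpi : p ∣ i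
    · obtain ⟨j, rfl⟩ := hpi
      have hb : bb ^ p = 1 := Subtype.ext (by
        rw [Subgroup.coe_pow, ← hz, ← map_pow]
        exact (QuotientGroup.eq_one_iff _).2 (center_le_centralizer _ (hout z hzU)))
      rw [pow_mul, hb, one_pow, mul_one] at h'
      exact hab1 h'
    · have hb : bb ^ p = 1 := Subtype.ext (by
        rw [Subgroup.coe_pow, ← hz, ← map_pow]
        exact (QuotientGroup.eq_one_iff _).2 (center_le_centralizer _ (hout z hzU)))
      obtain ⟨j, hj⟩ := exists_pow_eq_self_of_coprime (x := bb) (n := i)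
        (Nat.Coprime.coprime_dvd_right (orderOf_dvd_of_pow_eq_one hb) ((hpp.coprime_iff_not_dvd.2 hpi).symm))
      refine hbb (hj ▸ pow_mem ?_ j)
      rw [eq_inv_of_mul_eq_one_right h']
      exact inv_mem (mem_zpowers ab)
  -- the norm identity
  have hcomm : Commute (φ y) (φ z) := by
    have h1 : (y * z) * (z * y)⁻¹ ∈ U := by
      rw [← QuotientGroup.eq_one_iff, ← QuotientGroup.mk'_apply, map_mul, map_inv, map_mul, map_mul, hy, hz]
      have := congrArg Subtype.val (mul_comm' ab bb)
      simp only [Subgroup.coe_mul] at this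
      rw [this, mul_inv_cancel]
    have h2 : φ ((y * z) * (z * y)⁻¹) = 1 := by
      refine MulEquiv.ext fun u => Subtype.ext ?_
      rw [hφ, MulAut.conjNormal_apply, MulAut.one_apply, hUab _ h1 (u : P) u.2, mul_inv_cancel_right]
    rw [map_mul, map_inv, mul_inv_eq_one, map_mul, map_mul] at h2
    exact h2
  have hxp : ((⟨x, hxU⟩ : U) ^ p : U) ∈ (center P).subgroupOf U := by
    set u : U := ⟨x, hxU⟩
    let F : ZMod p → ZMod p → U := fun j k => (φ y ^ j.val * φ z ^ k.val) u
    have hval : ∀ i : ℕ, φ z ^ i = φ z ^ ((i : ZMod p)).val := fun i => by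
      rw [ZMod.val_natCast, ← pow_mod_orderOf]
      conv_rhs => rw [← pow_mod_orderOf]
      congr 1
      exact (Nat.mod_mod_of_dvd _ (orderOf_dvd_of_pow_eq_one (hφp z hzU))).symm
    have hzp : ∀ G : ℕ → U, ∏ j ∈ Finset.range p, G j = ∏ j : ZMod p, G j.val := fun G => by
      refine Finset.prod_nbij' (fun j => (j : ZMod p)) (fun j => j.val) (fun _ _ => Finset.mem_univ _)
        (fun j _ => Finset.mem_range.2 j.val_lt) (fun j hj => ZMod.val_natCast_of_lt (Finset.mem_range.1 hj))
        (fun j _ => ZMod.natCast_zmod_val j) (fun j hj => by rw [ZMod.val_natCast_of_lt (Finset.mem_range.1 hj)])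
    have hL : ∀ i : ZMod p, ∏ j : ZMod p, F j (i * j) ∈ (center P).subgroupOf U := by
      intro i
      have h1 := hnorm _ (hyz i.val) u
      rw [hzp] at h1
      rw [mem_subgroupOf]
      convert h1 using 3 with j
      show (φ y ^ j.val * φ z ^ (i * j).val) u = _
      congr 1
      rw [map_mul, map_pow, (hcomm.pow_right _).mul_pow, ← pow_mul (φ z), hval (i.val * j.val), Nat.cast_mul,
        ZMod.natCast_zmod_val, ZMod.natCast_zmod_val]
    have hL0 : ∏ k : ZMod p, F 0 k ∈ (center P).subgroupOf U := by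
      have h1 := hnorm _ hzU u
      rw [hzp] at h1
      rw [mem_subgroupOf]
      convert h1 using 3 with k
      simp [F]
    have hall : ∏ j : ZMod p, ∏ k : ZMod p, F j k ∈ (center P).subgroupOf U := by
      refine prod_mem fun j _ => ?_
      have h1 := hnorm _ hzU ((φ y ^ j.val) u)
      rw [hzp] at h1
      rw [mem_subgroupOf]
      convert h1 using 3 with k
      show (φ y ^ j.val * φ z ^ k.val) u = _
      rw [(hcomm.pow_pow _ _).eq, MulAut.mul_apply]
    have key : (∏ i : ZMod p, ∏ j : ZMod p, F j (i * j)) * ∏ k : ZMod p, F 0 k =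
        (∏ j : ZMod p, ∏ k : ZMod p, F j k) * F 0 0 ^ p := by
      rw [Finset.prod_comm, ← Finset.mul_prod_erase _ _ (Finset.mem_univ (0 : ZMod p))]
      conv_rhs => rw [← Finset.mul_prod_erase _ _ (Finset.mem_univ (0 : ZMod p))]
      have e : ∀ j ∈ Finset.univ.erase (0 : ZMod p), ∏ i : ZMod p, F j (i * j) = ∏ k : ZMod p, F j k := by
        intro j hj
        exact Fintype.prod_bijective (fun i => i * j) (mulRight_bijective₀ j (Finset.ne_of_mem_erase hj)) _ _ fun i => rfl
      rw [Finset.prod_congr rfl e]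
      simp only [mul_zero, Finset.prod_const, Finset.card_univ, ZMod.card]
      ac_rfl
    have hF : F 0 0 = u := by simp [F]
    have h9 := mul_mem (prod_mem (fun i (_ : i ∈ Finset.univ) => hL i)) hL0
    rw [key, hF] at h9
    have := mul_mem (inv_mem hall) h9
    rwa [inv_mul_cancel_left] at this
  exact hx (mem_subgroupOf.1 hxp)

end Cfsg.Agent.S4365
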