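import Cfsg.Statements.S4370
import Cfsg.Agent.Lib.Struct.UniqueOrderP
import Cfsg.Agent.Lib.Perm.NilpotentMaximal

set_option autoImplicit false
open scoped Pointwise
open Cfsg

namespace Cfsg.Agent.S4370

/-- Let G be a finite non-abelian nilpotent group. Then the centralizer of every non-central element of G is cyclic if and only if G is isomorphic to the direct product of a generalized quaternion group and a cyclic group of odd order. -/
theorem result {G : Type*} [Group G] [Finite G] (hG : Group.IsNilpotent G)
    (hna : ¬ IsMulCommutative G) :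
    (∀ x : G, x ∉ Subgroup.center G → IsCyclic (Subgroup.centralizer ({x} : Set G))) ↔
      ∃ (k m : ℕ), 1 ≤ k ∧ Odd m ∧ Nonempty (G ≃* QuaternionGroup (2 ^ k) × Multiplicative (ZMod m)) := by
  open Subgroup in
  constructor
  swap
  · rintro ⟨k, m, hk, hm, ⟨e⟩⟩ x hx
    haveI : NeZero m := ⟨fun h => by simp [h] at hm⟩
    have hqc : ∀ q : QuaternionGroup (2 ^ k), q ∉ center (QuaternionGroup (2 ^ k)) →
        IsCyclic (centralizer ({q} : Set (QuaternionGroup (2 ^ k)))) := by
      intro q hq
      have key : ∀ i : ZMod (2 * 2 ^ k), (2 * i = 0 → i = 0 ∨ i = ((2 ^ k : ℕ) : ZMod (2 * 2 ^ k))) := by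
        intro i hi
        have hv : 2 * 2 ^ k ∣ 2 * i.val := by
          rw [← ZMod.natCast_eq_zero_iff]
          push_cast
          rwa [ZMod.natCast_zmod_val]
        obtain ⟨t, ht⟩ := (Nat.mul_dvd_mul_iff_left two_pos).1 hv
        have hlt := ZMod.val_lt i
        have : t < 2 := by
          by_contra hc
          have h2 : 2 ^ k * 2 ≤ 2 ^ k * t := Nat.mul_le_mul_left _ (not_lt.1 hc)
          omega
        interval_cases t
        · left; exact (ZMod.val_eq_zero i).1 (by simpa using ht)
        · right; rw [← ZMod.natCast_zmod_val i, ht, mul_one]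
      cases q with
      | a i =>
        suffices h : centralizer ({QuaternionGroup.a i} : Set (QuaternionGroup (2 ^ k))) ≤ zpowers (QuaternionGroup.a 1) from Subgroup.isCyclic_of_le h
        intro c hc
        have h := mem_centralizer_singleton_iff.1 hc
        cases c with
        | a j => exact mem_zpowers_iff.2 ⟨(j.val : ℤ), by rw [zpow_natCast, QuaternionGroup.a_one_pow, ZMod.natCast_zmod_val]⟩
        | xa j =>
          exfalso
          apply hq
          simp only [QuaternionGroup.a_mul_xa, QuaternionGroup.xa_mul_a, QuaternionGroup.xa.injEq] at h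
          have h2 : 2 * i = 0 := by linear_combination h
          rw [mem_center_iff]
          rintro (l | l)
          · rw [QuaternionGroup.a_mul_a, QuaternionGroup.a_mul_a, add_comm]
          · rw [QuaternionGroup.xa_mul_a, QuaternionGroup.a_mul_xa, QuaternionGroup.xa.injEq]
            linear_combination h2
      | xa i =>
        suffices h : centralizer ({QuaternionGroup.xa i} : Set (QuaternionGroup (2 ^ k))) ≤ zpowers (QuaternionGroup.xa i) from Subgroup.isCyclic_of_le h
        intro c hc
        have h := mem_centralizer_singleton_iff.1 hc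
        cases c with
        | a j =>
          simp only [QuaternionGroup.a_mul_xa, QuaternionGroup.xa_mul_a, QuaternionGroup.xa.injEq] at h
          rcases key j (by first | linear_combination h | linear_combination -h) with rfl | rfl
          · exact one_mem _
          · exact mem_zpowers_iff.2 ⟨2, by rw [zpow_two, ← sq, QuaternionGroup.xa_sq]⟩
        | xa j =>
          simp only [QuaternionGroup.xa_mul_xa, QuaternionGroup.a.injEq] at h
          rcases key (j - i) (by first | linear_combination h | linear_combination -h) with h' | h'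
          · rw [sub_eq_zero.1 h']; exact mem_zpowers _
          · rw [sub_eq_iff_eq_add.1 h', add_comm, ← QuaternionGroup.xa_mul_a, ← QuaternionGroup.xa_sq i]
            exact mul_mem (mem_zpowers _) (pow_mem (mem_zpowers _) 2)
    have hqx : (e x).1 ∉ center (QuaternionGroup (2 ^ k)) := by
      intro hc
      apply hx
      rw [mem_center_iff]
      intro g
      apply e.injective
      rw [map_mul, map_mul]
      exact Prod.ext (mem_center_iff.1 hc (e g).1) (mul_comm _ _)
    haveI := hqc _ hqx
    have hcop : (Nat.card (centralizer ({(e x).1} : Set (QuaternionGroup (2 ^ k))))).Coprime (Nat.card (Multiplicative (ZMod m))) := by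
      refine Nat.Coprime.coprime_dvd_left (card_subgroup_dvd_card _) ?_
      rw [Nat.card_eq_fintype_card, QuaternionGroup.card, show 4 * 2 ^ k = 2 ^ (k + 2) by rw [pow_add]; ring,
        show Nat.card (Multiplicative (ZMod m)) = m by simp [Nat.card_eq_fintype_card]]
      exact (hm.coprime_two_left).pow_left _
    haveI : IsCyclic (centralizer ({(e x).1} : Set (QuaternionGroup (2 ^ k))) × Multiplicative (ZMod m)) := Group.isCyclic_prod_iff.2 ⟨inferInstance, inferInstance, hcop⟩
    let f : centralizer ({x} : Set G) →* centralizer ({(e x).1} : Set (QuaternionGroup (2 ^ k))) × Multiplicative (ZMod m) :=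
      MonoidHom.prod (MonoidHom.codRestrict ((MonoidHom.fst _ _).comp (e.toMonoidHom.comp (centralizer ({x} : Set G)).subtype)) _
        (fun c => mem_centralizer_singleton_iff.2 (by
          have := congrArg (fun g => (e g).1) (mem_centralizer_singleton_iff.1 c.2)
          simpa using this)))
        ((MonoidHom.snd _ _).comp (e.toMonoidHom.comp (centralizer ({x} : Set G)).subtype))
    refine isCyclic_of_injective f fun c d hcd => ?_
    have h1 := congrArg (fun t => ((t.1 : QuaternionGroup (2 ^ k)), t.2)) hcd
    exact Subtype.ext (e.injective h1)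
  intro hc
  obtain ⟨x₀, hx₀⟩ : ∃ x : G, x ∉ center G := by
    by_contra hall
    push_neg at hall
    exact hna ⟨⟨fun a b => (mem_center_iff.1 (hall a) b).symm⟩⟩
  have comm : ∀ {p : ℕ}, p.Prime → ∀ a b : G, Commute a b → orderOf a = p → b ^ p = 1 → b ∈ zpowers a := by
    intro p hp a b hab ha hb
    obtain ⟨C, hC, haC, hbC⟩ : ∃ C : Subgroup G, IsCyclic C ∧ a ∈ C ∧ b ∈ C := by
      by_cases haz : a ∈ center G
      · by_cases hbz : b ∈ center G
        · exact ⟨_, hc x₀ hx₀, center_le_centralizer _ haz, center_le_centralizer _ hbz⟩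
        · exact ⟨_, hc b hbz, mem_centralizer_singleton_iff.2 hab.eq, mem_centralizer_singleton_iff.2 rfl⟩
      · exact ⟨_, hc a haz, mem_centralizer_singleton_iff.2 rfl, mem_centralizer_singleton_iff.2 hab.symm.eq⟩
    classical
    haveI := hC
    haveI := Fintype.ofFinite C
    haveI := Fintype.ofFinite G
    by_contra hn
    have hsub : insert (⟨b, hbC⟩ : C) (Finset.univ.filter fun t : C => (t : G) ∈ zpowers a) ⊆ Finset.univ.filter fun t : C => t ^ p = 1 := by
      intro t ht
      rw [Finset.mem_filter]
      refine ⟨Finset.mem_univ _, Subtype.ext ?_⟩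
      rcases Finset.mem_insert.1 ht with rfl | ht
      · simpa using hb
      · obtain ⟨j, hj⟩ := mem_zpowers_iff.1 (Finset.mem_filter.1 ht).2
        rw [coe_pow, ← hj, ← zpow_natCast, ← zpow_mul, mul_comm, zpow_mul, zpow_natCast, ← ha, pow_orderOf_eq_one, one_zpow, coe_one]
    have h1 := (Finset.card_le_card hsub).trans (IsCyclic.card_pow_eq_one_le hp.pos)
    rw [Finset.card_insert_of_notMem (by simpa using hn)] at h1
    have h2 : Nat.card (zpowers a) ≤ (Finset.univ.filter fun t : C => (t : G) ∈ zpowers a).card := by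
      rw [← Fintype.card_subtype, ← Nat.card_eq_fintype_card]
      exact Nat.card_le_card_of_injective (fun t => ⟨⟨t.1, zpowers_le.2 haC t.2⟩, t.2⟩) fun s t h => Subtype.ext (congrArg (fun u => (u.1 : G)) h)
    rw [Nat.card_zpowers, ha] at h2
    omega
  have hQ : ∀ (p : ℕ) [Fact p.Prime] (Q : Subgroup G), IsPGroup p Q → IsCyclic Q ∨ (p = 2 ∧ ∃ n : ℕ, 1 ≤ n ∧ Nonempty (Q ≃* QuaternionGroup (2 ^ n))) := by
    intro p hp Q hQp
    refine Cfsg.Agent.Struct.cyclic_or_quaternion hQp fun x y hx hy => ?_
    haveI : Nontrivial Q := ⟨⟨x, 1, fun h => by simp [h] at hx; exact hp.out.ne_one hx.symm⟩⟩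
    haveI := hQp.center_nontrivial
    obtain ⟨j, hj0, hj⟩ := (hQp.to_subgroup (center Q)).nontrivial_iff_card.1 inferInstance
    obtain ⟨z, hz⟩ := exists_prime_orderOf_dvd_card' (G := center Q) p (hj ▸ dvd_pow_self p hj0.ne')
    have hzG : orderOf ((z : Q) : G) = p := by rw [orderOf_coe, orderOf_coe, hz]
    have hcz : ∀ t : Q, Commute ((z : Q) : G) (t : G) := fun t => congrArg Subtype.val (mem_center_iff.1 z.2 t).symm
    have hy' := comm hp.out _ (y : G) (hcz y) hzG (by simpa using congrArg Subtype.val hy)
    have hz' := comm hp.out (x : G) _ (hcz x).symm (by rw [orderOf_coe, hx]) (by rw [← hzG, pow_orderOf_eq_one])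
    obtain ⟨l, hl⟩ := mem_zpowers_iff.1 (zpowers_le.2 hz' hy')
    exact mem_zpowers_iff.2 ⟨l, Subtype.ext (by simpa using hl)⟩
  haveI : Fact (Nat.Prime 2) := ⟨Nat.prime_two⟩
  obtain ⟨P, N, hN, hNP⟩ := Cfsg.Agent.Perm.hasNormalPComplement_of_isNilpotent 2 hG
  haveI := ((Group.isNilpotent_of_finite_tfae (G := G)).out 0 3 rfl rfl).mp hG 2 inferInstance P
  have hodd : ¬ 2 ∣ Nat.card N := hNP.index_eq_card ▸ P.not_dvd_index
  haveI : IsZGroup N := ⟨fun p hp R => by
    haveI := Fact.mk hp
    rcases hQ p ((R : Subgroup N).map N.subtype) (R.isPGroup'.map _) with h | ⟨rfl, -⟩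
    · exact isCyclic_of_surjective ((R : Subgroup N).equivMapOfInjective N.subtype N.subtype_injective).symm (MulEquiv.surjective _)
    · obtain ⟨j, hj⟩ := IsPGroup.iff_card.1 R.isPGroup'
      have : j = 0 := by
        by_contra h0
        exact hodd ((hj ▸ dvd_pow_self 2 h0).trans (card_subgroup_dvd_card _))
      rw [this, pow_zero, Nat.card_eq_one_iff_unique] at hj
      haveI := hj.1
      infer_instance⟩
  haveI : Group.IsNilpotent N := by haveI := hG; exact Subgroup.isNilpotent N
  have hNc : IsCyclic N := inferInstance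
  have hdis : Disjoint N (P : Subgroup G) := hNP.disjoint
  have hcomm : ∀ (a : N) (b : (P : Subgroup G)), Commute (a : G) (b : G) := fun a b =>
    Subgroup.commute_of_normal_of_disjoint _ _ hN inferInstance hdis _ _ a.2 b.2
  let e : N × (P : Subgroup G) ≃* G := MulEquiv.ofBijective (MonoidHom.noncommCoprod N.subtype (P : Subgroup G).subtype hcomm) hNP
  rcases hQ 2 (P : Subgroup G) P.isPGroup' with h | ⟨-, n, hn, ⟨eq⟩⟩
  · exfalso
    haveI := h
    haveI := hNc
    letI := IsCyclic.commGroup (α := N)
    letI := IsCyclic.commGroup (α := (P : Subgroup G))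
    exact hna ⟨⟨fun a b => e.symm.injective (by rw [map_mul, map_mul, mul_comm])⟩⟩
  · refine ⟨n, Nat.card N, hn, Nat.odd_iff.2 (by omega), ⟨e.symm.trans (MulEquiv.prodComm.trans (MulEquiv.prodCongr eq (zmodCyclicMulEquiv hNc).symm))⟩⟩

end Cfsg.Agent.S4370
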