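import Cfsg.Statements.S4377
import Mathlib

set_option autoImplicit false
open Cfsg

namespace Cfsg.Agent.S4377

---pre
theorem count_eq {G : Type*} [Group G] [Finite G] (n N : ℕ) (hN : Nat.card G < N) :
    Nat.card {g : G // g ^ n = 1} =
      ∑ d ∈ (Finset.range N).filter (· ∣ n), Nat.card {g : G // orderOf g = d} := by
  classical
  have := Fintype.ofFinite G
  simp only [Nat.card_eq_fintype_card, Fintype.card_subtype]
  rw [Finset.card_eq_sum_card_fiberwise (f := orderOf) (t := (Finset.range N).filter (· ∣ n))]
  · refine Finset.sum_congr rfl fun d hd => congrArg Finset.card ?_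
    ext g
    simp only [Finset.mem_filter, Finset.mem_univ, true_and]
    constructor
    · exact fun h => h.2
    · exact fun h => ⟨orderOf_dvd_iff_pow_eq_one.1 (h ▸ (Finset.mem_filter.1 hd).2), h⟩
  · intro g hg
    simp only [Finset.coe_filter, Finset.mem_univ, true_and, Set.mem_setOf_eq, Finset.mem_range] at hg ⊢
    exact ⟨lt_of_le_of_lt orderOf_le_card hN, orderOf_dvd_iff_pow_eq_one.2 hg⟩

/-- Two finite groups have the same number of elements of each order if and only if, for every n, they have the same number of elements g with gⁿ = 1. -/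
theorem result {G H : Type*} [Group G] [Finite G] [Group H] [Finite H] :
    (∀ n : ℕ, Nat.card {g : G // orderOf g = n} = Nat.card {h : H // orderOf h = n}) ↔
      ∀ n : ℕ, Nat.card {g : G // g ^ n = 1} = Nat.card {h : H // h ^ n = 1} := by
  classical
  constructor
  · intro h n
    rw [count_eq n (Nat.card G + Nat.card H + 1) (by omega),
      count_eq (G := H) n (Nat.card G + Nat.card H + 1) (by omega)]
    exact Finset.sum_congr rfl fun d _ => h d
  · intro h n
    induction n using Nat.strong_induction_on with
    | _ n ih =>
      rcases Nat.eq_zero_or_pos n with rfl | hn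
      · have hG : IsEmpty {g : G // orderOf g = 0} := ⟨fun g => (orderOf_pos g.1).ne' g.2⟩
        have hH : IsEmpty {g : H // orderOf g = 0} := ⟨fun g => (orderOf_pos g.1).ne' g.2⟩
        rw [Nat.card_of_isEmpty, Nat.card_of_isEmpty]
      · have h1 := h n
        set N := Nat.card G + Nat.card H + n + 1 with hN
        rw [count_eq n N (by omega), count_eq (G := H) n N (by omega)] at h1
        have hmem : n ∈ (Finset.range N).filter (· ∣ n) := by
          rw [Finset.mem_filter, Finset.mem_range]; exact ⟨by omega, dvd_rfl⟩
        rw [← Finset.add_sum_erase _ _ hmem, ← Finset.add_sum_erase _ _ hmem] at h1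
        have h2 : ∑ d ∈ ((Finset.range N).filter (· ∣ n)).erase n, Nat.card {g : G // orderOf g = d} =
            ∑ d ∈ ((Finset.range N).filter (· ∣ n)).erase n, Nat.card {g : H // orderOf g = d} := by
          refine Finset.sum_congr rfl fun d hd => ih d ?_
          rw [Finset.mem_erase, Finset.mem_filter] at hd
          exact lt_of_le_of_ne (Nat.le_of_dvd hn hd.2.2) hd.1
        omega

end Cfsg.Agent.S4377
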