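import Cfsg.Statements.S4381
import Cfsg.Agent.Lib.Solv.ActionInvariant
import Cfsg.Agent.Lib.Solv.StructMisc
import Cfsg.Agent.Lib.Struct.CoprimeMinimal

set_option autoImplicit false
open scoped commutatorElement
open Pointwise
open Cfsg

namespace Cfsg.Agent.S4381

/-- Let the finite group A act by automorphisms on the finite group G with the orders of A and G coprime, and assume that A or G is solvable. Call a proper A-invariant subgroup of G maximal A-invariant when no A-invariant subgroup lies strictly between it and G. Then all maximal A-invariant subgroups of G are conjugate under elements of the fixed-point subgroup C_G(A) if and only if G is a p-group for some prime p and A leaves invariant no subgroup strictly between the Frattini subgroup of G and G. In that case, if G is nontrivial, the Frattini subgroup is the only maximal A-invariant subgroup (a trivial G has none). -/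
theorem result {A G : Type*} [Group A] [Finite A]
    [Group G] [Finite G] [MulDistribMulAction A G] (hcop : (Nat.card A).Coprime (Nat.card G)) (hsol : Group.IsSolvable A ∨ Group.IsSolvable G) :
    ((∀ M N : Subgroup G, (M ≠ ⊤ ∧ (∀ a : A, ∀ x ∈ M, a • x ∈ M) ∧ ∀ L : Subgroup G, M < L → (∀ a : A, ∀ x ∈ L, a • x ∈ L) → L = ⊤) → (N ≠ ⊤ ∧ (∀ a : A, ∀ x ∈ N, a • x ∈ N) ∧ ∀ L : Subgroup G, N < L → (∀ a : A, ∀ x ∈ L, a • x ∈ L) → L = ⊤) →
        ∃ c : G, (∀ a : A, a • c = c) ∧ N = MulAut.conj c • M) ↔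
      ((∃ p : ℕ, p.Prime ∧ IsPGroup p G) ∧ ∀ L : Subgroup G, frattini G < L → (∀ a : A, ∀ x ∈ L, a • x ∈ L) → L = ⊤)) ∧
    (((∃ p : ℕ, p.Prime ∧ IsPGroup p G) ∧ ∀ L : Subgroup G, frattini G < L → (∀ a : A, ∀ x ∈ L, a • x ∈ L) → L = ⊤) →
      ∀ M : Subgroup G, (M ≠ ⊤ ∧ (∀ a : A, ∀ x ∈ M, a • x ∈ M) ∧ ∀ L : Subgroup G, M < L → (∀ a : A, ∀ x ∈ L, a • x ∈ L) → L = ⊤) ↔ (M = frattini G ∧ M ≠ ⊤)) := by
  open Subgroup in
  have hΦ : ∀ a : A, ∀ x ∈ frattini G, a • x ∈ frattini G := fun a x hx => by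
    exact (frattini_le_comap_frattini_of_surjective (φ := (MulDistribMulAction.toMulAut A G a : G →* G)) (MulEquiv.surjective _)) hx
  have hsup : ∀ M N : Subgroup G, (∀ a : A, ∀ x ∈ M, a • x ∈ M) → (∀ a : A, ∀ x ∈ N, a • x ∈ N) → ∀ a : A, ∀ x ∈ M ⊔ N, a • x ∈ M ⊔ N := by
    intro M N hM hN a x hx
    have : M ⊔ N ≤ (M ⊔ N).comap (MulDistribMulAction.toMonoidHom G a) :=
      sup_le (fun y hy => mem_sup_left (hM a y hy)) (fun y hy => mem_sup_right (hN a y hy))
    exact this hx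
  have hex : ∀ L : Subgroup G, L ≠ ⊤ → (∀ a : A, ∀ x ∈ L, a • x ∈ L) →
      ∃ M : Subgroup G, L ≤ M ∧ (M ≠ ⊤ ∧ (∀ a : A, ∀ x ∈ M, a • x ∈ M) ∧ ∀ L : Subgroup G, M < L → (∀ a : A, ∀ x ∈ L, a • x ∈ L) → L = ⊤) := by
    intro L hL hLi
    obtain ⟨M, hLM, hM⟩ := Finite.exists_le_maximal (p := fun M : Subgroup G => M ≠ ⊤ ∧ ∀ a : A, ∀ x ∈ M, a • x ∈ M) ⟨hL, hLi⟩
    exact ⟨M, hLM, hM.1.1, hM.1.2, fun N hN hNi => by_contra fun h => hN.not_ge (hM.2 ⟨h, hNi⟩ hN.le)⟩
  have huniq : ((∃ p : ℕ, p.Prime ∧ IsPGroup p G) ∧ ∀ L : Subgroup G, frattini G < L → (∀ a : A, ∀ x ∈ L, a • x ∈ L) → L = ⊤) →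
      ∀ M : Subgroup G, (M ≠ ⊤ ∧ (∀ a : A, ∀ x ∈ M, a • x ∈ M) ∧ ∀ L : Subgroup G, M < L → (∀ a : A, ∀ x ∈ L, a • x ∈ L) → L = ⊤) ↔ (M = frattini G ∧ M ≠ ⊤) := by
    rintro ⟨-, hirr⟩ M
    constructor
    · rintro ⟨hMt, hMi, hMm⟩
      refine ⟨?_, hMt⟩
      have hne : M ⊔ frattini G ≠ ⊤ := fun h => hMt (frattini_nongenerating h)
      have hle : frattini G ≤ M := by
        by_contra h
        exact hne (hMm _ (left_lt_sup.2 h) (hsup _ _ hMi hΦ))
      by_contra h
      exact hMt (hirr M (lt_of_le_of_ne hle (Ne.symm h)) hMi)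
    · rintro ⟨rfl, hne⟩
      exact ⟨hne, hΦ, hirr⟩
  refine ⟨⟨fun hconj => ?_, fun h M N hM hN => ⟨1, fun a => smul_one a, by rw [map_one, one_smul, ((huniq h M).1 hM).1, ((huniq h N).1 hN).1]⟩⟩, huniq⟩
  rcases subsingleton_or_nontrivial G with hG | hG
  · haveI : Fact (Nat.Prime 2) := ⟨Nat.prime_two⟩
    exact ⟨⟨2, Nat.prime_two, fun x => ⟨0, Subsingleton.elim _ _⟩⟩, fun L hL _ => by
      exact (eq_top_iff' _).2 fun x => by rw [Subsingleton.elim x 1]; exact one_mem _⟩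
  have hpg : ∃ p : ℕ, p.Prime ∧ IsPGroup p G := by
    by_contra hno
    obtain ⟨M, -, hM⟩ := hex ⊥ bot_ne_top (fun a x hx => by rw [mem_bot.1 hx, smul_one]; exact one_mem _)
    apply hM.1
    refine eq_top_of_card_eq _ (Nat.dvd_antisymm (card_subgroup_dvd_card _) ?_)
    rw [Nat.dvd_iff_prime_pow_dvd_dvd]
    intro q k hq hd
    haveI := Fact.mk hq
    obtain ⟨Q, hQ⟩ := Cfsg.Agent.Solv.exists_smul_invariant_sylow hcop hsol q
    have hQt : (Q : Subgroup G) ≠ ⊤ := fun h => hno ⟨q, hq, IsPGroup.of_equiv (h ▸ Q.isPGroup') topEquiv⟩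
    obtain ⟨N, hQN, hN⟩ := hex _ hQt hQ
    obtain ⟨c, -, hc⟩ := hconj M N hM hN
    have hcard : Nat.card N = Nat.card M := by
      rw [hc]; exact (Nat.card_congr (equivSMul (MulAut.conj c) M).toEquiv).symm
    exact (Q.pow_dvd_card_of_pow_dvd_card hd).trans (hcard ▸ card_dvd_of_le hQN)
  obtain ⟨p, hp, hP⟩ := hpg
  haveI := Fact.mk hp
  refine ⟨⟨p, hp, hP⟩, fun L hL hLi => by_contra fun hLt => ?_⟩
  obtain ⟨M, hLM, hM⟩ := hex L hLt hLi
  have hcomm : ∀ u v : G ⧸ frattini G, u * v = v * u := by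
    intro u v
    induction u using QuotientGroup.induction_on
    induction v using QuotientGroup.induction_on
    rename_i u v
    rw [← QuotientGroup.mk_mul, ← QuotientGroup.mk_mul, QuotientGroup.eq]
    haveI := hP.isNilpotent
    apply Cfsg.Agent.Solv.commutator_le_frattini
    rw [show (u * v)⁻¹ * (v * u) = ⁅v⁻¹, u⁻¹⁆ by rw [commutatorElement_def]; group]
    exact commutator_mem_commutator (mem_top _) (mem_top _)
  letI : CommGroup (G ⧸ frattini G) := { (inferInstance : Group (G ⧸ frattini G)) with mul_comm := hcomm }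
  let φ : A →* MulAut (G ⧸ frattini G) :=
    MonoidHom.mk' (fun a => QuotientGroup.congr (frattini G) (frattini G) (MulDistribMulAction.toMulAut A G a) (by
      refine eq_of_le_of_card_ge ?_ (card_map_of_injective (MulEquiv.injective _)).ge
      rintro _ ⟨x, hx, rfl⟩
      exact hΦ a x hx)) (fun a b => by
      ext v
      induction v using QuotientGroup.induction_on
      rename_i v
      show ((((a * b) • v : G)) : G ⧸ frattini G) = ((a • b • v : G) : G ⧸ frattini G)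
      rw [mul_smul])
  obtain ⟨K, hKi, hKd, hKt⟩ := Cfsg.Agent.Solv.exists_invariant_complement (p := p) (V := G ⧸ frattini G)
    (fun v => by
      induction v using QuotientGroup.induction_on
      rename_i v
      rw [← QuotientGroup.mk_pow, QuotientGroup.eq_one_iff]
      exact Cfsg.Agent.Struct.CoprimeMinimal.pow_mem_frattini hP v) φ
    (hcop.coprime_dvd_right (card_quotient_dvd_card _)) (M.map (QuotientGroup.mk' (frattini G)))
    (fun a v hv => by
      obtain ⟨x, hx, rfl⟩ := hv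
      exact ⟨a • x, hM.2.1 a x hx, rfl⟩)
  have hfM : frattini G < M := hL.trans_le hLM
  by_cases hKtop : K.comap (QuotientGroup.mk' (frattini G)) = ⊤
  · obtain ⟨x, hxM, hx⟩ := SetLike.exists_of_lt hfM
    have h1 : (QuotientGroup.mk' (frattini G)) x ∈ M.map (QuotientGroup.mk' (frattini G)) ⊓ K :=
      ⟨mem_map_of_mem _ hxM, (hKtop.ge (mem_top x) : x ∈ K.comap (QuotientGroup.mk' (frattini G)))⟩
    rw [hKd, mem_bot, QuotientGroup.mk'_apply, QuotientGroup.eq_one_iff] at h1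
    exact hx h1
  obtain ⟨N, hKN, hN⟩ := hex _ hKtop (fun a x hx => hKi a _ hx)
  obtain ⟨c, -, hc⟩ := hconj M N hM hN
  haveI : Group.IsNilpotent G := hP.isNilpotent
  haveI : M.Normal := ⟨fun n hn g => by
    rw [show g * n * g⁻¹ = ⁅g, n⁆ * n by rw [commutatorElement_def]; group]
    exact mul_mem (hfM.le (Cfsg.Agent.Solv.commutator_le_frattini (commutator_mem_commutator (mem_top _) (mem_top _)))) hn⟩
  rw [Normal.conj_smul_eq_self] at hc
  rw [hc] at hKN
  apply hM.1
  rw [← comap_map_eq_self (f := QuotientGroup.mk' (frattini G)) (H := M) (by rw [QuotientGroup.ker_mk']; exact hfM.le),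
    show M.map (QuotientGroup.mk' (frattini G)) = ⊤ from ?_, comap_top]
  rw [← hKt, left_eq_sup]
  intro v hv
  induction v using QuotientGroup.induction_on
  rename_i v
  exact ⟨v, hKN hv, rfl⟩

end Cfsg.Agent.S4381
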