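import Cfsg.Statements.S4387
import Mathlib

set_option autoImplicit false
open Pointwise
open Cfsg

namespace Cfsg.Agent.S4387

---pre
open Subgroup
open scoped Pointwise

/-- Let G be a non-trivial finite group in which any two maximal subgroups are conjugate. Then G is cyclic of prime-power order. -/
theorem result {G : Type*} [Group G] [Finite G] [Nontrivial G]
    (h : ∀ M N : Subgroup G, IsCoatom M → IsCoatom N → ∃ g : G, N = MulAut.conj g • M) :
    IsCyclic G ∧ IsPrimePow (Nat.card G) := by
  obtain ⟨M, hM, -⟩ := (eq_top_or_exists_le_coatom (⊥ : Subgroup G)).resolve_left bot_ne_top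
  have hex : ∃ p : ℕ, p.Prime ∧ IsPGroup p G := by
    by_contra hno
    push Not at hno
    have hdvd : Nat.card G ∣ Nat.card M := by
      rw [Nat.dvd_iff_prime_pow_dvd_dvd]
      intro p k hp hpk
      have := Fact.mk hp
      obtain ⟨P⟩ := (inferInstance : Nonempty (Sylow p G))
      have hPtop : (P : Subgroup G) ≠ ⊤ := fun e => hno p hp
        ((P.isPGroup'.of_equiv ((MulEquiv.subgroupCongr e).trans Subgroup.topEquiv)))
      obtain ⟨N, hN, hPN⟩ := (eq_top_or_exists_le_coatom (P : Subgroup G)).resolve_left hPtop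
      obtain ⟨g, hg⟩ := h N M hN hM
      have hcard : Nat.card M = Nat.card N := by
        rw [hg]; exact (Nat.card_congr (Subgroup.equivSMul (MulAut.conj g) N).toEquiv).symm
      rw [hcard]
      exact ((P.pow_dvd_card_of_pow_dvd_card hpk)).trans (Subgroup.card_dvd_of_le hPN)
    have := Nat.le_of_dvd Nat.card_pos hdvd
    exact hM.1 (Subgroup.eq_top_of_le_card M this)
  obtain ⟨p, hp, hG⟩ := hex
  have := Fact.mk hp
  have hnil : Group.IsNilpotent G := hG.isNilpotent
  refine ⟨?_, ?_⟩
  · obtain ⟨g, hg⟩ := SetLike.exists_of_lt hM.1.lt_top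
    refine ⟨⟨g, fun x => ?_⟩⟩
    have htop : zpowers g = ⊤ := by
      by_contra hne
      obtain ⟨N, hN, hgN⟩ := (eq_top_or_exists_le_coatom (zpowers g)).resolve_left hne
      obtain ⟨c, hc⟩ := h M N hM hN
      have hMn : M.Normal := NormalizerCondition.normal_of_coatom M
        (normalizerCondition_of_isNilpotent (G := G)) hM
      have hNM : N = M := by
        rw [hc]; ext x
        rw [mem_pointwise_smul_iff_inv_smul_mem, MulAut.smul_def, ← map_inv, MulAut.conj_apply]
        exact (hMn.mem_comm_iff.trans (by simp [mul_assoc])) 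
      exact hg.2 (hNM ▸ hgN (mem_zpowers g))
    show x ∈ zpowers g
    rw [htop]; exact mem_top x
  · obtain ⟨k, hk⟩ := IsPGroup.iff_card.1 hG
    refine hk ▸ (hp.isPrimePow.pow ?_)
    intro h0
    rw [h0, pow_zero] at hk
    exact (Finite.one_lt_card (α := G)).ne' hk

end Cfsg.Agent.S4387
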