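import Cfsg.Statements.S4400
import Cfsg.Agent.Lib.Local.PGroup
import Cfsg.Agent.Lib.Struct.CoprimeMinimal
import Cfsg.Agent.Lib.Solv.StructMisc

set_option autoImplicit false
open Cfsg
open scoped commutatorElement

namespace Cfsg.Agent.S4400

/-- Let S be a finite 2-group of sectional 2-rank at most 4, and let P and Q be normal non-abelian subgroups of S whose centres have order 2 and are different. Then P and Q commute elementwise and intersect trivially, and PQ contains its own centralizer in S. -/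
theorem result {S : Type*} [Group S] [Finite S] (h2 : IsPGroup 2 S) (hr : Cfsg.SectionalPRankLE 2 4 S)
    (P Q : Subgroup S) [P.Normal] [Q.Normal] (hP : ¬ IsMulCommutative ↥P) (hQ : ¬ IsMulCommutative ↥Q)
    (hZP : Nat.card ↥(Subgroup.center ↥P) = 2) (hZQ : Nat.card ↥(Subgroup.center ↥Q) = 2)
    (hne : (Subgroup.center ↥P).map P.subtype ≠ (Subgroup.center ↥Q).map Q.subtype) :
    ⁅P, Q⁆ = ⊥ ∧ P ⊓ Q = ⊥ ∧ Subgroup.centralizer ((P ⊔ Q : Subgroup S) : Set S) ≤ P ⊔ Q := by
  classical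
  haveI : Fact (Nat.Prime 2) := ⟨Nat.prime_two⟩
  -- facts about one of the two subgroups
  have one : ∀ (X : Subgroup S) [X.Normal], Nat.card ↥(Subgroup.center ↥X) = 2 →
      (∀ M : Subgroup S, M.Normal → M ≤ X → M ≠ ⊥ → (Subgroup.center ↥X).map X.subtype ≤ M) ∧
      (Subgroup.center ↥X).map X.subtype ≤ Subgroup.center S := by
    intro X _ hc
    refine ⟨fun M hMn hMX hM => ?_, ?_⟩
    · haveI := hMn
      have hne : M.subgroupOf X ≠ ⊥ := fun e => hM ((Subgroup.subgroupOf_eq_bot.mp e).eq_bot_of_le hMX)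
      have h1 := Cfsg.Agent.Local.inf_center_ne_bot (h2.to_subgroup X) (M.subgroupOf X) hne
      have h2' : M.subgroupOf X ⊓ Subgroup.center ↥X = Subgroup.center ↥X := by
        refine Subgroup.eq_of_le_of_card_ge inf_le_right ?_
        rw [hc]
        exact (Subgroup.one_lt_card_iff_ne_bot _).mpr h1
      rintro _ ⟨z, hz, rfl⟩
      exact (h2'.ge hz).1
    · intro z hz
      rw [Subgroup.mem_center_iff]
      intro s
      have hconj : s * z * s⁻¹ ∈ (Subgroup.center ↥X).map X.subtype := Subgroup.Normal.conj_mem inferInstance z hz s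
      have hcard : Nat.card ↥((Subgroup.center ↥X).map X.subtype) = 2 := by
        rw [Subgroup.card_map_of_injective X.subtype_injective, hc]
      obtain ⟨u, v, huv, hall⟩ := Nat.card_eq_two_iff.mp hcard
      by_cases hz1 : z = 1
      · rw [hz1, mul_one, one_mul]
      have hcases : ∀ w : ↥((Subgroup.center ↥X).map X.subtype), w = 1 ∨ w = ⟨z, hz⟩ := by
        intro w
        have hm : ∀ w', w' = u ∨ w' = v := fun w' => by
          have := hall ▸ Set.mem_univ w'
          simpa using this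
        have hne' : (⟨z, hz⟩ : ↥((Subgroup.center ↥X).map X.subtype)) ≠ 1 := fun e => hz1 (congrArg Subtype.val e)
        rcases hm w with a | a <;> rcases hm 1 with b | b <;> rcases hm ⟨z, hz⟩ with c | c <;>
          first
            | exact Or.inl (a.trans b.symm)
            | exact Or.inr (a.trans c.symm)
            | exact absurd (c.trans b.symm) hne'
      rcases hcases ⟨_, hconj⟩ with e | e
      · exact absurd (conj_eq_one_iff.mp (congrArg Subtype.val e)) hz1
      · exact mul_inv_eq_iff_eq_mul.mp (congrArg Subtype.val e)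
  obtain ⟨oneP, cenP⟩ := one P hZP
  obtain ⟨oneQ, cenQ⟩ := one Q hZQ
  have hcz : ∀ (X : Subgroup S) (z : S), z ∈ Subgroup.center S → z ∈ X → z ∈ (Subgroup.center ↥X).map X.subtype :=
    fun X z hz hX => ⟨⟨z, hX⟩, Subgroup.mem_center_iff.mpr fun w => Subtype.ext (Subgroup.mem_center_iff.mp hz w), rfl⟩
  have hPQ : P ⊓ Q = ⊥ := by
    by_contra hM
    refine hne (Subgroup.eq_of_le_of_card_ge (fun z hz => ?_) ?_)
    · exact hcz Q z (cenP hz) (oneP _ inferInstance inf_le_left hM hz).2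
    · rw [Subgroup.card_map_of_injective P.subtype_injective, Subgroup.card_map_of_injective Q.subtype_injective, hZP, hZQ]
  have hcomm : ⁅P, Q⁆ = ⊥ := le_bot_iff.mp (hPQ ▸ Subgroup.commutator_le_inf P Q)
  refine ⟨hcomm, hPQ, ?_⟩
  have hpq : ∀ x ∈ P, ∀ y ∈ Q, Commute y x := fun x hx y hy =>
    ((Subgroup.commutator_eq_bot_iff_le_centralizer.mp hcomm) hx y hy)
  -- the Frattini subgroups
  have hΦ : ∀ (X : Subgroup S) [X.Normal], ¬ IsMulCommutative ↥X → Nat.card ↥(Subgroup.center ↥X) = 2 →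
      (Subgroup.center ↥X).map X.subtype ≤ (frattini ↥X).map X.subtype ∧ 4 ≤ (frattini ↥X).index := by
    intro X _ hX hc
    haveI := (h2.to_subgroup X).isNilpotent
    refine ⟨Subgroup.map_mono (le_trans ?_ Cfsg.Agent.Solv.commutator_le_frattini), ?_⟩
    · have hne' : commutator ↥X ≠ ⊥ := fun e => hX ⟨⟨fun a b => commutatorElement_eq_one_iff_mul_comm.mp
        (Subgroup.mem_bot.mp (e ▸ Subgroup.commutator_mem_commutator (Subgroup.mem_top a) (Subgroup.mem_top b)))⟩⟩
      have h1 := Cfsg.Agent.Local.inf_center_ne_bot (h2.to_subgroup X) (commutator ↥X) hne'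
      have h2' : commutator ↥X ⊓ Subgroup.center ↥X = Subgroup.center ↥X := by
        refine Subgroup.eq_of_le_of_card_ge inf_le_right ?_
        rw [hc]
        exact (Subgroup.one_lt_card_iff_ne_bot _).mpr h1
      exact fun z hz => (h2'.ge hz).1
    · obtain ⟨k, hk⟩ := (h2.to_subgroup X).index (frattini ↥X)
      rcases k with _ | _ | k
      · exfalso
        rw [pow_zero, Subgroup.index_eq_one] at hk
        have htop : (⊥ : Subgroup ↥X) = ⊤ := frattini_nongenerating (by rw [hk, sup_top_eq])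
        exact hX ⟨⟨fun a b => by
          have e : a = 1 := Subgroup.mem_bot.mp (htop ▸ Subgroup.mem_top a)
          rw [e, one_mul, mul_one]⟩⟩
      · exfalso
        obtain ⟨x, hx⟩ : ∃ x, x ∉ frattini ↥X := by
          by_contra hh
          push Not at hh
          rw [Subgroup.eq_top_iff' (frattini ↥X) |>.mpr hh, Subgroup.index_top] at hk
          norm_num at hk
        have hmax : frattini ↥X ⊔ Subgroup.zpowers x = ⊤ := by
          rw [← Subgroup.index_eq_one]
          have hd : (frattini ↥X ⊔ Subgroup.zpowers x).index ∣ 2 := by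
            have := Subgroup.index_dvd_of_le (le_sup_left : frattini ↥X ≤ frattini ↥X ⊔ Subgroup.zpowers x)
            simpa [hk] using this
          refine ((Nat.dvd_prime Nat.prime_two).mp hd).resolve_right fun e => hx ?_
          have he := Subgroup.relIndex_mul_index (le_sup_left : frattini ↥X ≤ frattini ↥X ⊔ Subgroup.zpowers x)
          rw [e, hk] at he
          norm_num at he
          have h1 : (frattini ↥X).relIndex (frattini ↥X ⊔ Subgroup.zpowers x) = 1 := Subgroup.relIndex_eq_one.mpr (by simpa using he)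
          exact Subgroup.relIndex_eq_one.mp h1 (Subgroup.mem_sup_right (Subgroup.mem_zpowers x))
        have htop : Subgroup.zpowers x = ⊤ := frattini_nongenerating (by rw [sup_comm]; exact hmax)
        refine hX ⟨⟨fun a b => ?_⟩⟩
        obtain ⟨i, rfl⟩ := Subgroup.mem_zpowers_iff.mp (htop ▸ Subgroup.mem_top a : a ∈ Subgroup.zpowers x)
        obtain ⟨j, rfl⟩ := Subgroup.mem_zpowers_iff.mp (htop ▸ Subgroup.mem_top b : b ∈ Subgroup.zpowers x)
        exact (Commute.zpow_zpow (Commute.refl x) i j).eq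
      · rw [hk]
        exact le_trans (by norm_num) (Nat.pow_le_pow_right (by norm_num) (show 2 ≤ k + 1 + 1 by omega))
  obtain ⟨hΦP, hiP⟩ := hΦ P hP hZP
  obtain ⟨hΦQ, hiQ⟩ := hΦ Q hQ hZQ
  by_contra hnle
  obtain ⟨c₀, hc₀, hc₀M⟩ := SetLike.not_le_iff_exists.mp hnle
  -- an element of the centralizer whose square lies in the product
  obtain ⟨k, hk⟩ := h2 c₀
  have hex : ∃ j, c₀ ^ 2 ^ j ∈ P ⊔ Q := ⟨k, by rw [hk]; exact one_mem _⟩
  have hj := Nat.find_spec hex
  obtain ⟨j, hj'⟩ : ∃ j, Nat.find hex = j + 1 := ⟨Nat.find hex - 1, by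
    have : Nat.find hex ≠ 0 := fun e => hc₀M (by rw [e, pow_zero, pow_one] at hj; exact hj)
    omega⟩
  rw [hj', pow_succ, pow_mul] at hj
  set c := c₀ ^ 2 ^ j with hc
  have hcM : c ∉ P ⊔ Q := Nat.find_min hex (show j < Nat.find hex by omega)
  have hcC : c ∈ Subgroup.centralizer ((P ⊔ Q : Subgroup S) : Set S) := pow_mem hc₀ _
  -- the section
  let N₀ : Subgroup S := (frattini ↥P).map P.subtype ⊔ (frattini ↥Q).map Q.subtype
  haveI : N₀.Normal := inferInstanceAs ((frattini ↥P).map P.subtype ⊔ (frattini ↥Q).map Q.subtype).Normal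
  let f : S →* (↥(⊤ : Subgroup S) ⧸ N₀.subgroupOf ⊤) :=
    (QuotientGroup.mk' (N₀.subgroupOf ⊤)).comp (Subgroup.topEquiv.symm : S ≃* ↥(⊤ : Subgroup S)).toMonoidHom
  have hf : ∀ s, f s = 1 ↔ s ∈ N₀ := fun s =>
    (QuotientGroup.eq_one_iff _).trans Subgroup.mem_subgroupOf
  have hsq : ∀ (X : Subgroup S), (frattini ↥X).map X.subtype ≤ N₀ → ∀ x ∈ X, f x ^ 2 = 1 ∧ ∀ y ∈ X, Commute (f x) (f y) := by
    intro X hle x hx
    haveI := (h2.to_subgroup X).isNilpotent
    refine ⟨?_, fun y hy => commutatorElement_eq_one_iff_commute.mp ?_⟩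
    · rw [← map_pow, hf]
      exact hle ⟨_, Cfsg.Agent.Struct.CoprimeMinimal.pow_mem_frattini (h2.to_subgroup X) ⟨x, hx⟩, rfl⟩
    · rw [← map_commutatorElement, hf]
      exact hle ⟨⁅(⟨x, hx⟩ : X), ⟨y, hy⟩⁆, Cfsg.Agent.Solv.commutator_le_frattini
        (Subgroup.commutator_mem_commutator (Subgroup.mem_top _) (Subgroup.mem_top _)), rfl⟩
  have hc2 : f c ^ 2 = 1 := by
    rw [← map_pow, hf]
    obtain ⟨x, hx, y, hy, hxy⟩ := Subgroup.mem_sup_of_normal_right.mp hj
    have hc2C : c ^ 2 ∈ Subgroup.centralizer ((P ⊔ Q : Subgroup S) : Set S) := pow_mem hcC _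
    have key : ∀ (X : Subgroup S) (u v : S), u ∈ X → (∀ w ∈ X, Commute w v) → u * v = c ^ 2 → X ≤ P ⊔ Q →
        u ∈ (Subgroup.center ↥X).map X.subtype := by
      intro X u v hu hv huv hX
      refine ⟨⟨u, hu⟩, Subgroup.mem_center_iff.mpr fun w => Subtype.ext ?_, rfl⟩
      have h1 : Commute (w : S) (u * v) := huv ▸ hc2C w (hX w.2)
      have h2' : Commute (w : S) ((u * v) * v⁻¹) := h1.mul_right (hv w w.2).inv_right
      rw [mul_inv_cancel_right] at h2'
      exact h2'
    rw [← hxy]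
    refine mul_mem (Subgroup.mem_sup_left (hΦP ?_)) (Subgroup.mem_sup_right (hΦQ ?_))
    · exact key P x y hx (fun w hw => (hpq w hw y hy).symm) hxy le_sup_left
    · exact key Q y x hy (fun w hw => hpq x hx w hw) ((hpq x hx y hy).eq.trans hxy) le_sup_right
  let gen : Set (↥(⊤ : Subgroup S) ⧸ N₀.subgroupOf ⊤) := f '' ((P : Set S) ∪ (Q : Set S) ∪ {c})
  have hgen : ∀ u ∈ gen, u ^ 2 = 1 ∧ ∀ v ∈ gen, Commute u v := by
    have hcc : ∀ y ∈ P ⊔ Q, Commute (f y) (f c) := fun y hy => (Commute.map (hcC y hy) f)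
    rintro _ ⟨x, hx, rfl⟩
    rcases hx with (hx | hx) | hx
    · refine ⟨(hsq P le_sup_left x hx).1, ?_⟩
      rintro _ ⟨y, (hy | hy) | hy, rfl⟩
      · exact (hsq P le_sup_left x hx).2 y hy
      · exact ((hpq x hx y hy).symm).map f
      · rw [Set.mem_singleton_iff.mp hy]; exact hcc x (Subgroup.mem_sup_left hx)
    · refine ⟨(hsq Q le_sup_right x hx).1, ?_⟩
      rintro _ ⟨y, (hy | hy) | hy, rfl⟩
      · exact (hpq y hy x hx).map f
      · exact (hsq Q le_sup_right x hx).2 y hy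
      · rw [Set.mem_singleton_iff.mp hy]; exact hcc x (Subgroup.mem_sup_right hx)
    · rw [Set.mem_singleton_iff.mp hx]
      refine ⟨hc2, ?_⟩
      rintro _ ⟨y, (hy | hy) | hy, rfl⟩
      · exact (hcc y (Subgroup.mem_sup_left hy)).symm
      · exact (hcc y (Subgroup.mem_sup_right hy)).symm
      · rw [Set.mem_singleton_iff.mp hy]
  let A := Subgroup.closure gen
  letI hA : CommGroup A := Subgroup.closureCommGroupOfComm fun u hu v hv => (hgen u hu).2 v hv
  have hAc : IsMulCommutative A := ⟨⟨fun u v => mul_comm u v⟩⟩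
  have hA2 : ∀ u ∈ A, u ^ 2 = 1 := by
    intro u hu
    induction hu using Subgroup.closure_induction with
    | mem u hu => exact (hgen u hu).1
    | one => exact one_pow _
    | mul u v hu hv h h' =>
      have : Commute u v := congrArg Subtype.val (mul_comm (⟨u, hu⟩ : A) ⟨v, hv⟩)
      rw [this.mul_pow, h, h', one_mul]
    | inv u _ h => rw [inv_pow, h, inv_one]
  have hle := hr ⊤ (N₀.subgroupOf ⊤) A hAc hA2
  let g : (↥P ⧸ frattini ↥P) × (↥Q ⧸ frattini ↥Q) × Fin 2 → A := fun z =>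
    ⟨f (z.1.out : S) * f (z.2.1.out : S) * f c ^ (z.2.2 : ℕ),
      mul_mem (mul_mem (Subgroup.subset_closure ⟨_, Or.inl (Or.inl z.1.out.2), rfl⟩ : f (z.1.out : S) ∈ A)
        (Subgroup.subset_closure ⟨_, Or.inl (Or.inr z.2.1.out.2), rfl⟩ : f (z.2.1.out : S) ∈ A))
        (pow_mem (Subgroup.subset_closure ⟨c, Or.inr rfl, rfl⟩ : f c ∈ A) _)⟩
  have hN0M : N₀ ≤ P ⊔ Q := sup_le_sup (Subgroup.map_subtype_le _) (Subgroup.map_subtype_le _)
  have hginj : Function.Injective g := by
    rintro ⟨X, Y, i⟩ ⟨X', Y', i'⟩ e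
    have e' : f ((X.out : S) * Y.out * c ^ (i : ℕ)) = f ((X'.out : S) * Y'.out * c ^ (i' : ℕ)) := by
      simpa [g] using congrArg Subtype.val e
    have hm : ((X.out : S) * Y.out * c ^ (i : ℕ))⁻¹ * ((X'.out : S) * Y'.out * c ^ (i' : ℕ)) ∈ N₀ := by
      rw [← hf, map_mul, map_inv, e', inv_mul_cancel]
    have hii : i = i' := by
      have hcm : (c ^ (i : ℕ))⁻¹ * c ^ (i' : ℕ) ∈ P ⊔ Q := by
        have hPQm : ∀ (u : ↥P) (v : ↥Q), (u : S) * v ∈ P ⊔ Q := fun u v => mul_mem (Subgroup.mem_sup_left u.2) (Subgroup.mem_sup_right v.2)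
        have cm : Commute (((X.out : S) * Y.out)⁻¹ * ((X'.out : S) * Y'.out)) (c ^ (i : ℕ))⁻¹ :=
          (Commute.pow_right (hcC _ (mul_mem (inv_mem (hPQm _ _)) (hPQm _ _))) _).inv_right
        have h' : ((X.out : S) * Y.out)⁻¹ * ((X'.out : S) * Y'.out) * ((c ^ (i : ℕ))⁻¹ * c ^ (i' : ℕ)) ∈ P ⊔ Q := by
          rw [← mul_assoc, cm.eq]
          convert hN0M hm using 1
          group
        exact (Subgroup.mul_mem_cancel_left _ (mul_mem (inv_mem (hPQm _ _)) (hPQm _ _))).mp h'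
      fin_cases i <;> fin_cases i' <;> first
        | rfl
        | (exfalso; apply hcM; simpa using hcm)
    subst hii
    have h1 : f ((X.out : S) * Y.out) = f ((X'.out : S) * Y'.out) := by
      rw [map_mul _ ((X.out : S) * Y.out), map_mul _ ((X'.out : S) * Y'.out)] at e'
      exact mul_right_cancel e'
    have hm' : ((X.out : S) * Y.out)⁻¹ * ((X'.out : S) * Y'.out) ∈ N₀ := by
      rw [← hf, map_mul, map_inv, h1, inv_mul_cancel]
    obtain ⟨u, ⟨u', hu', rfl⟩, v, ⟨v', hv', rfl⟩, huv⟩ := Subgroup.mem_sup_of_normal_right.mp hm'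
    simp only [Subgroup.coe_subtype] at huv
    have hcxy : Commute ((Y.out : S)⁻¹) ((X.out : S)⁻¹ * X'.out) :=
      (hpq _ (mul_mem (inv_mem X.out.2) X'.out.2) _ (inv_mem Y.out.2))
    have hsplit : (((X.out⁻¹ * X'.out : ↥P)) : S) * ((Y.out⁻¹ * Y'.out : ↥Q) : S) = (u' : S) * v' := by
      push_cast
      rw [huv]
      calc (X.out : S)⁻¹ * X'.out * ((Y.out : S)⁻¹ * Y'.out) = ((X.out : S)⁻¹ * X'.out * (Y.out : S)⁻¹) * Y'.out := by group
        _ = ((Y.out : S)⁻¹ * ((X.out : S)⁻¹ * X'.out)) * Y'.out := by rw [hcxy.eq]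
        _ = _ := by group
    have hdj := Subgroup.mul_injective_of_disjoint (disjoint_iff.mpr hPQ)
    have := @hdj (X.out⁻¹ * X'.out, Y.out⁻¹ * Y'.out) (u', v') hsplit
    simp only [Prod.mk.injEq] at this
    refine Prod.ext ?_ (Prod.ext ?_ rfl)
    · rw [← X.out_eq, ← X'.out_eq]; exact QuotientGroup.eq.mpr (this.1 ▸ hu')
    · rw [← Y.out_eq, ← Y'.out_eq]; exact QuotientGroup.eq.mpr (this.2 ▸ hv')
  have h32 := Nat.card_le_card_of_injective g hginj
  rw [Nat.card_prod, Nat.card_prod, Nat.card_fin, ← Subgroup.index_eq_card, ← Subgroup.index_eq_card] at h32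
  have : 4 * (4 * 2) ≤ 2 ^ 4 := (Nat.mul_le_mul hiP (Nat.mul_le_mul_right 2 hiQ)).trans (h32.trans hle)
  norm_num at this

end Cfsg.Agent.S4400
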