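import Cfsg.Statements.S4401
import Cfsg.Agent.S4400

set_option autoImplicit false
open Cfsg

namespace Cfsg.Agent.S4401

/-- Let S be a finite 2-group of sectional 2-rank at most 4 and P a proper non-abelian subgroup whose centre has order 2. Let S₀ be the centralizer in S of Z(P) and suppose P is normal in S₀. Then either S₀ = S, or P has sectional 2-rank at most 2 and S₀ has index 2 in S. -/
theorem result {S : Type*} [Group S] [Finite S] (h2 : IsPGroup 2 S) (hr : Cfsg.SectionalPRankLE 2 4 S)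
    (P : Subgroup S) (hPlt : P ≠ ⊤) (hP : ¬ IsMulCommutative ↥P) (hZP : Nat.card ↥(Subgroup.center ↥P) = 2)
    (S₀ : Subgroup S) (hS₀ : S₀ = Subgroup.centralizer (((Subgroup.center ↥P).map P.subtype : Subgroup S) : Set S))
    (hPn : ∀ s ∈ S₀, ∀ x ∈ P, s * x * s⁻¹ ∈ P) :
    S₀ = ⊤ ∨ (Cfsg.SectionalPRankLE 2 2 ↥P ∧ S₀.index = 2) := by
  classical
  haveI : Fact (Nat.Prime 2) := ⟨Nat.prime_two⟩
  haveI := h2.isNilpotent
  refine or_iff_not_imp_left.mpr fun htop => ?_
  haveI : ∀ X : Subgroup S, Fintype ↥X := fun X => Fintype.ofFinite _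
  let cj : S → S →* S := fun x => (MulAut.conj x).toMonoidHom
  have hmZ : ∀ (X : Subgroup S) (u : S), u ∈ (Subgroup.center ↥X).map X.subtype ↔ u ∈ X ∧ ∀ w ∈ X, w * u = u * w := by
    intro X u
    constructor
    · rintro ⟨v, hv, rfl⟩
      exact ⟨v.2, fun w hw => congrArg Subtype.val (Subgroup.mem_center_iff.mp hv ⟨w, hw⟩)⟩
    · rintro ⟨hu, h⟩
      exact ⟨⟨u, hu⟩, Subgroup.mem_center_iff.mpr fun w => Subtype.ext (h w w.2), rfl⟩
  -- the central involution
  have hcard2 : Nat.card ↥((Subgroup.center ↥P).map P.subtype) = 2 := by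
    rw [Subgroup.card_map_of_injective P.subtype_injective, hZP]
  obtain ⟨z, hz, hz1⟩ : ∃ z ∈ (Subgroup.center ↥P).map P.subtype, z ≠ 1 := by
    by_contra hh
    push Not at hh
    have : (Subgroup.center ↥P).map P.subtype = ⊥ := (Subgroup.eq_bot_iff_forall _).mpr hh
    rw [this, Subgroup.card_bot] at hcard2
    omega
  have hZcases : ∀ u ∈ (Subgroup.center ↥P).map P.subtype, u = 1 ∨ u = z := by
    intro u hu
    by_contra hh
    rw [not_or] at hh
    have h3 : ({⟨1, one_mem _⟩, ⟨z, hz⟩, ⟨u, hu⟩} : Finset ↥((Subgroup.center ↥P).map P.subtype)).card ≤ 2 := by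
      rw [← hcard2, Nat.card_eq_fintype_card]; exact Finset.card_le_univ _
    rw [Finset.card_insert_of_notMem (by simp [Ne.symm hz1, Ne.symm hh.1]),
      Finset.card_pair (by simpa using (Ne.symm hh.2))] at h3
    omega
  have hz2 : z * z = 1 := by
    rcases hZcases (z * z) (mul_mem hz hz) with e | e
    · exact e
    · exact absurd (mul_eq_left.mp e) hz1
  have hmem0 : ∀ x, x ∈ S₀ ↔ z * x = x * z := by
    intro x
    rw [hS₀]
    refine ⟨fun h => h z hz, fun h u hu => ?_⟩
    rcases hZcases u hu with rfl | rfl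
    · simp
    · exact h
  have hPS : P ≤ S₀ := fun x hx => (hmem0 x).mpr (((hmZ P z).mp hz).2 x hx).symm
  -- conjugates by elements of the normalizer
  set N₁ := Subgroup.normalizer (S₀ : Set S) with hN₁
  have hS0N : S₀ ≤ N₁ := Subgroup.le_normalizer
  have hconj0 : ∀ x ∈ N₁, P.map (cj x) ≤ S₀ := by
    rintro x hx _ ⟨w, hw, rfl⟩
    exact (Subgroup.mem_normalizer_iff.mp hx w).mp (hPS hw)
  have hnormx : ∀ x ∈ N₁, ∀ s ∈ S₀, ∀ w ∈ P.map (cj x), s * w * s⁻¹ ∈ P.map (cj x) := by
    rintro x hx s hs _ ⟨w, hw, rfl⟩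
    refine ⟨(x⁻¹ * s * x) * w * (x⁻¹ * s * x)⁻¹, hPn _ ?_ w hw, ?_⟩
    · simpa using (Subgroup.mem_normalizer_iff.mp (inv_mem hx) s).mp hs
    · show x * (x⁻¹ * s * x * w * (x⁻¹ * s * x)⁻¹) * x⁻¹ = s * (x * w * x⁻¹) * s⁻¹
      group
  have hr0 : Cfsg.SectionalPRankLE 2 4 ↥S₀ := by
    intro H N _ A hA hA2
    let e := H.equivMapOfInjective S₀.subtype S₀.subtype_injective
    haveI : (N.map e.toMonoidHom).Normal := Subgroup.Normal.map inferInstance _ e.surjective
    let q := QuotientGroup.congr N (N.map e.toMonoidHom) e rfl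
    haveI := hA
    have := hr (H.map S₀.subtype) (N.map e.toMonoidHom) (A.map q.toMonoidHom) inferInstance (by
      rintro _ ⟨a, ha, rfl⟩
      rw [← map_pow, hA2 a ha, map_one])
    rwa [Subgroup.card_map_of_injective (show Function.Injective q.toMonoidHom from q.injective)] at this
  have pair : ∀ x ∈ N₁, x ∉ S₀ →
      (∀ a ∈ P, ∀ b ∈ P.map (cj x), a * b = b * a) ∧ P ⊓ P.map (cj x) = ⊥ ∧
      ∀ c ∈ S₀, (∀ a ∈ P, a * c = c * a) → (∀ b ∈ P.map (cj x), b * c = c * b) → c ∈ P ⊔ P.map (cj x) := by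
    intro x hx hxS
    set Q := P.map (cj x) with hQdef
    have hQS : Q ≤ S₀ := hconj0 x hx
    haveI : (P.subgroupOf S₀).Normal := ⟨fun w hw s => hPn s s.2 w hw⟩
    haveI : (Q.subgroupOf S₀).Normal := ⟨fun w hw s => hnormx x hx s s.2 w hw⟩
    have hcc : ∀ X : Subgroup S, X ≤ S₀ → Nat.card ↥(Subgroup.center ↥(X.subgroupOf S₀)) = Nat.card ↥((Subgroup.center ↥X).map X.subtype) := by
      intro X hX
      rw [← Subgroup.card_map_of_injective (X.subgroupOf S₀).subtype_injective, ← Subgroup.card_map_of_injective S₀.subtype_injective]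
      congr 2
      ext u
      rw [hmZ]
      constructor
      · rintro ⟨_, ⟨v, hv, rfl⟩, rfl⟩
        exact ⟨v.2, fun w hw => congrArg (fun t : ↥(X.subgroupOf S₀) => ((t : ↥S₀) : S))
          (Subgroup.mem_center_iff.mp hv ⟨⟨w, hX hw⟩, hw⟩)⟩
      · rintro ⟨hu, h⟩
        exact ⟨⟨u, hX hu⟩, ⟨⟨⟨u, hX hu⟩, hu⟩, Subgroup.mem_center_iff.mpr fun w =>
          Subtype.ext (Subtype.ext (h _ w.2)), rfl⟩, rfl⟩
    have hnc : ∀ X : Subgroup S, X ≤ S₀ → IsMulCommutative ↥(X.subgroupOf S₀) → ∀ a ∈ X, ∀ b ∈ X, a * b = b * a :=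
      fun X hX h a ha b hb => congrArg (fun t : ↥(X.subgroupOf S₀) => ((t : ↥S₀) : S))
        (h.is_comm.comm ⟨⟨a, hX ha⟩, ha⟩ ⟨⟨b, hX hb⟩, hb⟩)
    have hZQ : ∀ u, u ∈ (Subgroup.center ↥Q).map Q.subtype ↔ ∃ v ∈ (Subgroup.center ↥P).map P.subtype, cj x v = u := by
      intro u
      rw [hmZ]
      constructor
      · rintro ⟨⟨v, hv, rfl⟩, h⟩
        exact ⟨v, (hmZ P v).mpr ⟨hv, fun w hw => (MulAut.conj x).injective (by
          have := h _ ⟨w, hw, rfl⟩
          rw [map_mul, map_mul]; exact this)⟩, rfl⟩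
      · rintro ⟨v, hv, rfl⟩
        refine ⟨⟨v, ((hmZ P v).mp hv).1, rfl⟩, ?_⟩
        rintro _ ⟨w, hw, rfl⟩
        rw [← map_mul, ← map_mul, ((hmZ P v).mp hv).2 w hw]
    obtain ⟨h1, h2', h3⟩ := Cfsg.Agent.S4400.result (h2.to_subgroup S₀) hr0 (P.subgroupOf S₀) (Q.subgroupOf S₀)
      (fun h => hP ⟨⟨fun a b => Subtype.ext (hnc P hPS h a a.2 b b.2)⟩⟩)
      (fun h => hP ⟨⟨fun a b => Subtype.ext ((MulAut.conj x).injective (by
        have := hnc Q hQS h _ ⟨a, a.2, rfl⟩ _ ⟨b, b.2, rfl⟩
        push_cast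
        rw [map_mul, map_mul]; exact this))⟩⟩)
      (by rw [hcc P hPS, hcard2])
      (by
        rw [hcc Q hQS, ← hcard2]
        rw [show (Subgroup.center ↥Q).map Q.subtype = ((Subgroup.center ↥P).map P.subtype).map (cj x) from
          Subgroup.ext fun u => (hZQ u).trans Subgroup.mem_map.symm]
        exact Subgroup.card_map_of_injective (MulAut.conj x).injective)
      (fun he => hxS ((hmem0 x).mpr (by
        have hm : (⟨z, hPS ((hmZ P z).mp hz).1⟩ : ↥S₀) ∈ (Subgroup.center ↥(P.subgroupOf S₀)).map (P.subgroupOf S₀).subtype :=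
          ⟨⟨⟨z, hPS ((hmZ P z).mp hz).1⟩, ((hmZ P z).mp hz).1⟩,
            Subgroup.mem_center_iff.mpr fun w => Subtype.ext (Subtype.ext (((hmZ P z).mp hz).2 _ w.2)), rfl⟩
        rw [he] at hm
        obtain ⟨v, hv, hve⟩ := hm
        have hvQ : z ∈ (Subgroup.center ↥Q).map Q.subtype := by
          rw [hmZ]
          have hzv : ((v : ↥S₀) : S) = z := congrArg Subtype.val hve
          refine ⟨hzv ▸ v.2, fun w hw => ?_⟩
          rw [← hzv]
          exact congrArg (fun t : ↥(Q.subgroupOf S₀) => ((t : ↥S₀) : S)) (Subgroup.mem_center_iff.mp hv ⟨⟨w, hQS hw⟩, hw⟩)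
        obtain ⟨u, hu, hue⟩ := (hZQ z).mp hvQ
        rcases hZcases u hu with rfl | rfl
        · exact absurd (hue.symm.trans (map_one _)) hz1
        · have : x * u * x⁻¹ = u := hue
          exact (mul_inv_eq_iff_eq_mul.mp this).symm)))
    refine ⟨fun a ha b hb => ?_, ?_, fun c hc hca hcb => ?_⟩
    · exact (congrArg Subtype.val
        ((Subgroup.commutator_eq_bot_iff_le_centralizer.mp h1) (x := ⟨a, hPS ha⟩) ha ⟨b, hQS hb⟩ hb)).symm
    · rw [eq_bot_iff]
      intro u hu
      have : (⟨u, hPS hu.1⟩ : ↥S₀) ∈ P.subgroupOf S₀ ⊓ Q.subgroupOf S₀ := ⟨hu.1, hu.2⟩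
      rw [h2', Subgroup.mem_bot] at this
      exact congrArg Subtype.val this
    · have : (⟨c, hc⟩ : ↥S₀) ∈ P.subgroupOf S₀ ⊔ Q.subgroupOf S₀ := h3 (by
        refine (Subgroup.le_centralizer_iff.mp (sup_le (fun w hw => ?_) (fun w hw => ?_))) (Subgroup.mem_zpowers _)
        · exact Subgroup.mem_centralizer_iff.mpr fun u hu => by
            obtain ⟨k, rfl⟩ := Subgroup.mem_zpowers_iff.mp hu
            exact (Commute.zpow_left (Subtype.ext (hca _ hw).symm : Commute (⟨c, hc⟩ : ↥S₀) w) k).eq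
        · exact Subgroup.mem_centralizer_iff.mpr fun u hu => by
            obtain ⟨k, rfl⟩ := Subgroup.mem_zpowers_iff.mp hu
            exact (Commute.zpow_left (Subtype.ext (hcb _ hw).symm : Commute (⟨c, hc⟩ : ↥S₀) w) k).eq)
      rw [← Subgroup.subgroupOf_sup hPS hQS] at this
      exact this
  -- two elements outside
  have two : ∀ x ∈ N₁, ∀ y ∈ N₁, x ∉ S₀ → y ∉ S₀ → x⁻¹ * y ∈ S₀ := by
    intro x hx y hy hxS hyS
    by_contra hxy
    obtain ⟨c1, -, d1⟩ := pair x hx hxS
    obtain ⟨c2, -, -⟩ := pair y hy hyS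
    obtain ⟨c3, -, -⟩ := pair _ (mul_mem (inv_mem hx) hy) hxy
    have hsub : P.map (cj y) ≤ P ⊔ P.map (cj x) := by
      intro w hw
      refine d1 w (hconj0 y hy hw) (fun a ha => c2 a ha w hw) ?_
      rintro _ ⟨a, ha, rfl⟩
      obtain ⟨b, hb, rfl⟩ := hw
      have := congrArg (cj x) (c3 a ha _ ⟨b, hb, rfl⟩)
      rw [map_mul, map_mul] at this
      convert this using 2 <;> simp [cj, mul_assoc]
    refine hP ⟨⟨fun a b => Subtype.ext ((MulAut.conj y).injective ?_)⟩⟩
    have hb' : cj y b ∈ P.map (cj y) := ⟨b, b.2, rfl⟩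
    have key : ∀ w ∈ P ⊔ P.map (cj x), w * cj y b = cj y b * w := by
      intro w hw
      have hcent : P ⊔ P.map (cj x) ≤ Subgroup.centralizer ({cj y b} : Set S) := by
        refine sup_le (fun u hu => ?_) (fun u hu => ?_)
        · exact Subgroup.mem_centralizer_singleton_iff.mpr (c2 u hu _ hb')
        · obtain ⟨u, hu, rfl⟩ := hu
          refine Subgroup.mem_centralizer_singleton_iff.mpr ?_
          have := congrArg (cj x) (c3 u hu _ ⟨b, b.2, rfl⟩)
          rw [map_mul, map_mul] at this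
          convert this using 2 <;> simp [cj, mul_assoc]
      exact Subgroup.mem_centralizer_singleton_iff.mp (hcent hw)
    have := key _ (hsub ⟨a, a.2, rfl⟩)
    push_cast
    rw [map_mul, map_mul]; exact this
  have hS0top : S₀ < N₁ := normalizerCondition_of_isNilpotent S₀ (lt_top_iff_ne_top.mpr htop)
  obtain ⟨s₁, hs₁, hs₁S⟩ := SetLike.exists_of_lt hS0top
  -- the rank
  refine ⟨fun H N _ A hA hA2 => ?_, ?_⟩
  · obtain ⟨c1, d1, -⟩ := pair s₁ hs₁ hs₁S
    let φ : ↥P × ↥P →* S := MonoidHom.noncommCoprod P.subtype ((cj s₁).comp P.subtype)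
      (fun a b => c1 a a.2 _ ⟨b, b.2, rfl⟩)
    have hφ : Function.Injective φ := by
      rw [injective_iff_map_eq_one]
      rintro ⟨a, b⟩ hab
      have h1 : (a : S) = (cj s₁ b)⁻¹ := eq_inv_of_mul_eq_one_left hab
      have ha : (a : S) ∈ P ⊓ P.map (cj s₁) := Subgroup.mem_inf.mpr ⟨a.2, by rw [h1]; exact Subgroup.inv_mem _ ⟨b, b.2, rfl⟩⟩
      rw [d1, Subgroup.mem_bot] at ha
      have hb : cj s₁ b = 1 := by rw [ha] at h1; exact inv_eq_one.mp h1.symm
      exact Prod.ext (Subtype.ext ha) (Subtype.ext ((MulAut.conj s₁).injective (hb.trans (map_one _).symm)))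
    let K := (H.prod H).map φ
    let e : ↥K ≃* ↥H × ↥H := ((H.prod H).equivMapOfInjective φ hφ).symm.trans (H.prodEquiv H)
    let ψ : ↥K →* (↥H ⧸ N) × (↥H ⧸ N) :=
      ((QuotientGroup.mk' N).prodMap (QuotientGroup.mk' N)).comp e.toMonoidHom
    have hψ : Function.Surjective ψ := fun w => by
      obtain ⟨u, hu⟩ := QuotientGroup.mk'_surjective N w.1
      obtain ⟨v, hv⟩ := QuotientGroup.mk'_surjective N w.2
      exact ⟨e.symm (u, v), by simp [ψ]; exact Prod.ext hu hv⟩
    let q := QuotientGroup.quotientKerEquivOfSurjective ψ hψ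
    haveI := hA
    have h16 := hr K ψ.ker ((A.prod A).map q.symm.toMonoidHom)
      ⟨⟨by
        rintro ⟨_, u, hu, rfl⟩ ⟨_, v, hv, rfl⟩
        refine Subtype.ext ?_
        show q.symm.toMonoidHom u * q.symm.toMonoidHom v = q.symm.toMonoidHom v * q.symm.toMonoidHom u
        rw [← map_mul, ← map_mul]
        congr 1
        exact Prod.ext (congrArg Subtype.val (hA.is_comm.comm ⟨_, hu.1⟩ ⟨_, hv.1⟩))
          (congrArg Subtype.val (hA.is_comm.comm ⟨_, hu.2⟩ ⟨_, hv.2⟩))⟩⟩
      (by
        rintro _ ⟨u, hu, rfl⟩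
        rw [← map_pow, show u ^ 2 = 1 from Prod.ext (hA2 _ hu.1) (hA2 _ hu.2), map_one])
    rw [Subgroup.card_map_of_injective (show Function.Injective q.symm.toMonoidHom from q.symm.injective),
      Nat.card_congr (A.prodEquiv A).toEquiv, Nat.card_prod] at h16
    by_contra hlt
    have : 5 * 5 ≤ Nat.card A * Nat.card A := Nat.mul_le_mul (by norm_num at hlt ⊢; omega) (by norm_num at hlt ⊢; omega)
    simp only [Nat.card_eq_fintype_card] at *
    norm_num at h16
    omega
  -- the normalizer is everything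
  have hN : N₁ = ⊤ := by
    by_contra hne
    obtain ⟨g, hg, hgN⟩ := SetLike.exists_of_lt (normalizerCondition_of_isNilpotent N₁ (lt_top_iff_ne_top.mpr hne))
    have hgn : ∀ u, u ∈ N₁ ↔ g * u * g⁻¹ ∈ N₁ := Subgroup.mem_normalizer_iff.mp hg
    set y := g * z * g⁻¹ with hy
    have hy1 : y ≠ 1 := fun e => hz1 (conj_eq_one_iff.mp e)
    have hy2 : y * y = 1 := by rw [hy, show g * z * g⁻¹ * (g * z * g⁻¹) = g * (z * z) * g⁻¹ by group, hz2]; simp
    have hcy : ∀ w, y * w = w * y ↔ g⁻¹ * w * g ∈ S₀ := by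
      intro w
      rw [hmem0, hy]
      constructor
      · intro h
        calc z * (g⁻¹ * w * g) = g⁻¹ * (g * z * g⁻¹ * w) * g := by group
          _ = g⁻¹ * (w * (g * z * g⁻¹)) * g := by rw [h]
          _ = _ := by group
      · intro h
        calc g * z * g⁻¹ * w = g * (z * (g⁻¹ * w * g)) * g⁻¹ := by group
          _ = g * (g⁻¹ * w * g * z) * g⁻¹ := by rw [h]
          _ = _ := by group
    have hyN : y ∈ N₁ := (hgn z).mp (hS0N (hPS ((hmZ P z).mp hz).1))
    have hinN : ∀ w, w ∈ N₁ → g⁻¹ * w * g ∈ N₁ := fun w hw => by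
      rw [hgn]; simpa [mul_assoc] using hw
    -- the conjugate of S₀ has index two in N₁
    have hprod : ∀ u ∈ N₁, ∀ v ∈ N₁, y * u ≠ u * y → y * v ≠ v * y → y * (u * v) = u * v * y := by
      intro u hu v hv h1 h2'
      rw [ne_eq, hcy] at h1 h2'
      rw [hcy]
      have := two _ (inv_mem (hinN u hu)) _ (hinN v hv) (fun h => h1 (by simpa using inv_mem h)) h2'
      simpa [mul_assoc] using this
    have hfinal : (∀ w, w ∈ S₀ → y * w = w * y) → False := by
      intro h
      refine hgN ?_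
      rw [hN₁]
      have hle : S₀.map (cj g⁻¹) ≤ S₀ := by
        rintro _ ⟨w, hw, rfl⟩
        simpa [cj] using (hcy w).mp (h w hw)
      have heq := Subgroup.eq_of_le_of_card_ge hle (Subgroup.card_map_of_injective (MulAut.conj g⁻¹).injective).ge
      rw [← inv_mem_iff, Subgroup.mem_normalizer_iff]
      intro w
      constructor
      · intro hw
        rw [← heq]
        exact ⟨w, hw, rfl⟩
      · intro hw
        rw [← heq] at hw
        obtain ⟨v, hv, hve⟩ := hw
        rwa [(MulAut.conj g⁻¹).injective hve] at hv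
    by_cases hyS : y ∈ S₀
    · obtain ⟨c1, d1, e1⟩ := pair s₁ hs₁ hs₁S
      have hs2 : s₁ * s₁ ∈ S₀ := by
        have := two _ (inv_mem hs₁) _ hs₁ (fun h => hs₁S (inv_mem_iff.mp h)) hs₁S
        rwa [inv_inv] at this
      -- the conjugate subgroup commutation is preserved by s₁
      have hsinv : ∀ w ∈ N₁, y * w = w * y → y * (s₁ * w * s₁⁻¹) = s₁ * w * s₁⁻¹ * y := by
        intro w hw h
        by_contra hc
        by_cases hs : y * s₁ = s₁ * y
        · exact hc (((Commute.mul_right hs h).mul_right (Commute.inv_right hs)))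
        · have h1 : y * (s₁⁻¹ : S) ≠ s₁⁻¹ * y := fun e => hs (Commute.inv_right_iff.mp e)
          have h2' : y * (w * s₁) ≠ w * s₁ * y := fun e => hs (by
            have := (Commute.inv_right h).mul_right e
            rwa [inv_mul_cancel_left] at this)
          have h3 := hprod _ (mul_mem hs₁ hw) _ (inv_mem hs₁) (fun e => hs (by
            have := (Commute.mul_right e (Commute.inv_right h))
            rwa [mul_inv_cancel_right] at this)) h1
          exact hc h3
      have hPQ : ∀ a ∈ P, a ∈ N₁ := fun a ha => hS0N (hPS ha)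
      have hQN : ∀ b ∈ P.map (cj s₁), b ∈ N₁ := fun b hb => hS0N (hconj0 s₁ hs₁ hb)
      have hPQall : (∀ a ∈ P, y * a = a * y) → ∀ b ∈ P.map (cj s₁), y * b = b * y := by
        rintro h _ ⟨a, ha, rfl⟩
        exact hsinv a (hPQ a ha) (h a ha)
      have hQPall : (∀ b ∈ P.map (cj s₁), y * b = b * y) → ∀ a ∈ P, y * a = a * y := by
        intro h a ha
        have hm : s₁ * (s₁⁻¹ * (s₁⁻¹ * a * s₁) * s₁) * s₁⁻¹ ∈ P.map (cj s₁) :=
          ⟨_, by simpa [mul_assoc] using hPn _ (inv_mem hs2) a ha, rfl⟩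
        have h1 := hsinv _ (hQN _ hm) (h _ hm)
        convert h1 using 2 <;> group
      have hya : ∀ a ∈ P, y * a = a * y := by
        intro a ha
        by_contra hc
        have hall : ∀ b ∈ P.map (cj s₁), y * (a * b) ≠ a * b * y := by
          intro b hb e
          refine hc ?_
          have h1 : y * a * y⁻¹ ∈ P := hPn y hyS a ha
          have h2' : y * b * y⁻¹ ∈ P.map (cj s₁) := hnormx s₁ hs₁ y hyS b hb
          have h3 : y * a * y⁻¹ * (y * b * y⁻¹) = a * b := by
            rw [show y * a * y⁻¹ * (y * b * y⁻¹) = y * (a * b) * y⁻¹ by group, e]; group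
          have := Subgroup.mul_injective_of_disjoint (disjoint_iff.mpr d1)
            (a₁ := ((⟨_, h1⟩ : ↥P), (⟨_, h2'⟩ : ↥(P.map (cj s₁)))))
            (a₂ := ((⟨a, ha⟩ : ↥P), (⟨b, hb⟩ : ↥(P.map (cj s₁))))) h3
          exact mul_inv_eq_iff_eq_mul.mp (congrArg Subtype.val (congrArg Prod.fst this))
        refine hc (hQPall (fun b hb => ?_) a ha)
        have := hprod _ (inv_mem (hPQ a ha)) _ (mul_mem (hPQ a ha) (hQN b hb))
          (fun e => hc (Commute.inv_right_iff.mp e)) (hall b hb)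
        rwa [inv_mul_cancel_left] at this
      have hyW := e1 y hyS (fun a ha => (hya a ha).symm) (fun b hb => (hPQall hya b hb).symm)
      obtain ⟨a, ha, b, hb, hab⟩ : ∃ a ∈ P, ∃ b ∈ P.map (cj s₁), a * b = y := by
        have hnorm : P ≤ Subgroup.normalizer (P.map (cj s₁) : Set S) := fun u hu => by
          rw [Subgroup.mem_normalizer_iff]
          intro w
          refine ⟨fun hw => hnormx s₁ hs₁ u (hPS hu) w hw, fun hw => ?_⟩
          have := hnormx s₁ hs₁ u⁻¹ (inv_mem (hPS hu)) _ hw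
          simpa [mul_assoc] using this
        have : y ∈ ((P ⊔ P.map (cj s₁) : Subgroup S) : Set S) := hyW
        rw [Subgroup.coe_mul_of_left_le_normalizer_right _ _ hnorm] at this
        exact this
      have haz : a = 1 ∨ a = z := by
        refine hZcases a ((hmZ P a).mpr ⟨ha, fun w hw => ?_⟩)
        have h1 : Commute w (a * b) := by rw [hab]; exact (hya w hw).symm
        have h2' := h1.mul_right (Commute.inv_right (c1 w hw b hb))
        rwa [mul_inv_cancel_right] at h2'
      obtain ⟨a', ha', rfl⟩ := hb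
      have haz' : a' = 1 ∨ a' = z := by
        refine hZcases a' ((hmZ P a').mpr ⟨ha', fun w hw => (MulAut.conj s₁).injective ?_⟩)
        rw [map_mul, map_mul]
        have h1 : Commute (cj s₁ w) (a * cj s₁ a') := by rw [hab]; exact (hPQall hya _ ⟨w, hw, rfl⟩).symm
        have h2' := (Commute.inv_right (c1 a ha _ ⟨w, hw, rfl⟩).symm).mul_right h1
        rwa [inv_mul_cancel_left] at h2'
      have hs0 : ∀ w ∈ S₀, z * w = w * z := fun w hw => (hmem0 w).mp hw
      have hs0' : ∀ w ∈ S₀, cj s₁ z * w = w * cj s₁ z := fun w hw => by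
        have h1 := congrArg (cj s₁) (hs0 _ ((Subgroup.mem_normalizer_iff.mp (inv_mem hs₁) w).mp hw))
        rw [map_mul, map_mul] at h1
        simpa [cj, mul_assoc] using h1
      rcases haz with rfl | rfl <;> rcases haz' with rfl | rfl
      · exact hy1 (by rw [← hab]; simp)
      · exact hfinal fun w hw => by rw [← hab, one_mul]; exact hs0' w hw
      · exact hfinal fun w hw => by rw [← hab, map_one, mul_one]; exact hs0 w hw
      · -- y is centralised by S₀ and s₁
        exact hfinal fun w hw => by rw [← hab]; exact (Commute.mul_left (hs0 w hw) (hs0' w hw))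
    · obtain ⟨c1, d1, -⟩ := pair y hyN hyS
      let φ : ↥P × ↥P → S := fun w => (w.1 : S) * cj y w.2
      have hφ : Function.Injective φ := by
        intro u v e
        have := Subgroup.mul_injective_of_disjoint (disjoint_iff.mpr d1)
          (a₁ := (u.1, (⟨_, ⟨u.2, u.2.2, rfl⟩⟩ : ↥(P.map (cj y)))))
          (a₂ := (v.1, (⟨_, ⟨v.2, v.2.2, rfl⟩⟩ : ↥(P.map (cj y))))) e
        simp only [Prod.mk.injEq] at this
        exact Prod.ext this.1
          (Subtype.ext ((MulAut.conj y).injective (congrArg Subtype.val this.2)))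
      haveI : Fintype ↥P := Fintype.ofFinite _
      let F := (Finset.univ : Finset (↥P × ↥P)).filter fun w => y * φ w = φ w * y
      have hF : F.card ≤ Nat.card ↥P := by
        rw [Nat.card_eq_fintype_card, ← Finset.card_univ]
        refine Finset.card_le_card_of_injOn Prod.fst (fun _ _ => Finset.mem_univ _) fun u hu v hv e => ?_
        have key : ∀ w ∈ F, w.2 = w.1 := by
          intro w hw
          have h := (Finset.mem_filter.mp hw).2
          have hswap : φ (w.2, w.1) = φ w := by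
            calc φ (w.2, w.1) = (w.2 : S) * cj y w.1 := rfl
              _ = cj y w.1 * w.2 := c1 _ w.2.2 _ ⟨w.1, w.1.2, rfl⟩
              _ = y * φ w * y⁻¹ := by
                have hyi : y⁻¹ = y := inv_eq_of_mul_eq_one_right hy2
                show y * (w.1 : S) * y⁻¹ * w.2 = y * ((w.1 : S) * (y * w.2 * y⁻¹)) * y⁻¹
                rw [hyi]
                calc y * (w.1 : S) * y * w.2 = y * w.1 * y * w.2 * (y * y) := by rw [hy2, mul_one]
                  _ = _ := by simp only [mul_assoc]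
              _ = φ w := by rw [h]; group
          exact congrArg Prod.fst (hφ hswap)
        exact Prod.ext e (by rw [key u hu, key v hv, e])
      have hG : ((Finset.univ : Finset (↥P × ↥P)).filter fun w => ¬ y * φ w = φ w * y).card ≤ F.card := by
        rcases ((Finset.univ : Finset (↥P × ↥P)).filter fun w => ¬ y * φ w = φ w * y).eq_empty_or_nonempty with he | ⟨w₀, hw₀⟩
        · rw [he]; simp
        refine Finset.card_le_card_of_injOn (fun w => w₀ * w) (fun w hw => ?_) fun u _ v _ e => mul_left_cancel e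
        rw [Finset.mem_coe, Finset.mem_filter]
        refine ⟨Finset.mem_univ _, ?_⟩
        have hm : ∀ w : ↥P × ↥P, φ w ∈ N₁ := fun w =>
          mul_mem (hS0N (hPS w.1.2)) (hS0N (hconj0 y hyN ⟨w.2, w.2.2, rfl⟩))
        have hmul : φ (w₀ * w) = φ w₀ * φ w := by
          show ((w₀.1 : S) * w.1) * cj y ((w₀.2 : S) * w.2) = (w₀.1 : S) * cj y w₀.2 * ((w.1 : S) * cj y w.2)
          rw [map_mul]
          calc (w₀.1 : S) * w.1 * (cj y w₀.2 * cj y w.2) = (w₀.1 : S) * ((w.1 : S) * cj y w₀.2) * cj y w.2 := by group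
            _ = (w₀.1 : S) * (cj y w₀.2 * w.1) * cj y w.2 := by rw [c1 _ w.1.2 _ ⟨w₀.2, w₀.2.2, rfl⟩]
            _ = _ := by group
        rw [hmul]
        exact hprod _ (hm w₀) _ (hm w) (Finset.mem_filter.mp hw₀).2 (Finset.mem_filter.mp (Finset.mem_coe.mp hw)).2
      have htot := Finset.card_filter_add_card_filter_not (s := (Finset.univ : Finset (↥P × ↥P))) (fun w => y * φ w = φ w * y)
      rw [Finset.card_univ, Fintype.card_prod, ← Nat.card_eq_fintype_card] at htot
      have hle2 : Nat.card ↥P ≤ 2 := by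
        refine Nat.le_of_mul_le_mul_left (a := Nat.card ↥P) ?_ (Nat.card_pos (α := ↥P))
        change F.card + _ = _ at htot
        omega
      refine hP ?_
      haveI : IsCyclic ↥P := by
        rcases Nat.lt_or_ge (Nat.card ↥P) 2 with h | h
        · haveI : Subsingleton ↥P := (Nat.card_eq_one_iff_unique.mp (by have := Nat.card_pos (α := ↥P); omega)).1
          infer_instance
        · exact isCyclic_of_prime_card (p := 2) (by omega)
      exact ⟨⟨fun a b => by letI := IsCyclic.commGroup (α := ↥P); exact mul_comm a b⟩⟩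
  rw [Subgroup.index_eq_two_iff]
  refine ⟨s₁, fun b => ?_⟩
  by_cases hb : b ∈ S₀
  · exact Or.inr ⟨hb, fun h => hs₁S (by simpa using mul_mem (inv_mem hb) h)⟩
  · refine Or.inl ⟨?_, hb⟩
    have := two _ (hN ▸ Subgroup.mem_top b⁻¹) _ hs₁ (fun h => hb (inv_mem_iff.mp h)) hs₁S
    rwa [inv_inv] at this

end Cfsg.Agent.S4401
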