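import Cfsg.Statements.S4403
import Cfsg.Agent.Lib.Solv.CyclicSylowLocal
import Cfsg.Agent.Lib.Local.FStar
import Cfsg.Agent.Lib.Local.Basic
import Cfsg.Agent.Lib.Solv.Subnormal
import Cfsg.Agent.S4145
import Cfsg.Agent.Lib.Char.CyclicTI

set_option autoImplicit false
set_option maxHeartbeats 600000
open scoped Pointwise
open Cfsg

namespace Cfsg.Agent.S4403

/-- Let K be a finite group, p a prime dividing its order with O_{p'}(K) = 1 (no nontrivial normal subgroup of order prime to p), and P a cyclic Sylow p-subgroup of K. Then either P is normal and self-centralizing in K with K/P cyclic of order dividing p − 1 (so K is the semidirect product of P by a group of automorphisms of P of order dividing p − 1), or the generalized Fitting subgroup F*(K) is a non-abelian simple group and p does not divide the index of F*(K) in K. -/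
theorem result {K : Type*} [Group K] [Finite K] (p : ℕ) [Fact p.Prime] (hp : p ∣ Nat.card K) (hO : Cfsg.pPrimeCore p K = ⊥)
    (P : Sylow p K) (hP : IsCyclic ↥(P : Subgroup K)) :
    ((P : Subgroup K).Normal ∧ Subgroup.centralizer ((P : Subgroup K) : Set K) = (P : Subgroup K) ∧
      (∀ (_ : (P : Subgroup K).Normal), IsCyclic (K ⧸ (P : Subgroup K))) ∧ (P : Subgroup K).index ∣ p - 1) ∨
    (IsSimpleGroup ↥(Cfsg.generalizedFittingSubgroup K) ∧ ¬ IsMulCommutative ↥(Cfsg.generalizedFittingSubgroup K) ∧
      ¬ p ∣ (Cfsg.generalizedFittingSubgroup K).index) := by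
  open Subgroup Cfsg.Agent in
  have hpp := (Fact.out : p.Prime)
  haveI := hP
  obtain ⟨g, hg⟩ := (Subgroup.isCyclic_iff_exists_zpowers_eq_top (P : Subgroup K)).1 hP
  have hgP : g ∈ (P : Subgroup K) := hg ▸ mem_zpowers g
  by_cases hO' : Cfsg.pCore p K = ⊥
  · right
    have hF : Cfsg.fittingSubgroup K = ⊥ := by
      rw [Solv.fittingSubgroup_eq_iSup_pCore, eq_bot_iff]
      refine iSup_le fun q' => ?_
      obtain ⟨q, hq⟩ := q'
      haveI : Fact q.Prime := ⟨hq⟩
      rcases eq_or_ne q p with rfl | hqp
      · exact hO'.le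
      · refine (Solv.le_pPrimeCore ?_).trans hO.le
        obtain ⟨k, hk⟩ := IsPGroup.iff_card.1 (Solv.isPGroup_pCore q K)
        rw [hk]
        exact ((Nat.coprime_primes (Fact.out : q.Prime) hpp).2 hqp).pow_left k
    have hFS : Cfsg.generalizedFittingSubgroup K = Cfsg.layer K := by
      rw [Cfsg.generalizedFittingSubgroup, hF, sup_bot_eq]
    have hdvd : ∀ L : Subgroup K, Cfsg.IsComponent L → ∃ x ∈ L, orderOf x = p := by
      intro L hL
      by_cases hd : p ∣ Nat.card L
      · obtain ⟨x, hx⟩ := exists_prime_orderOf_dvd_card' (G := L) p hd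
        exact ⟨x, x.2, by rw [Subgroup.orderOf_coe]; exact hx⟩
      · exfalso
        refine Local.component_ne_bot hL (le_bot_iff.1 (le_trans ?_ hO.le))
        exact Local.le_pPrimeCore_of_isSubnormal hL.1 (hpp.coprime_iff_not_dvd.2 hd).symm
    have hcen : ∀ L : Subgroup K, Cfsg.IsComponent L → ∀ z ∈ L, (∀ l ∈ L, z * l = l * z) → z = 1 := by
      intro L hL z hz hzc
      haveI : IsMulCommutative ↥((center L).map L.subtype) := by infer_instance
      haveI : Group.IsNilpotent ↥((center L).map L.subtype) := by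
        letI : CommGroup ↥((center L).map L.subtype) := { (inferInstance : Group _) with mul_comm := fun a b => mul_comm' a b }
        exact CommGroup.isNilpotent
      have hsn : ((center L).map L.subtype).IsSubnormal := (inferInstance : (center L).Normal).isSubnormal.trans' hL.1
      have h1 : (center L).map L.subtype ≤ Cfsg.fittingSubgroup K := Solv.le_fittingSubgroup_of_isSubnormal hsn inferInstance
      rw [hF] at h1
      exact mem_bot.1 (h1 ⟨⟨z, hz⟩, mem_center_iff.2 fun l => Subtype.ext (hzc l l.2).symm, rfl⟩)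
    have huniq : ∀ L L' : Subgroup K, Cfsg.IsComponent L → Cfsg.IsComponent L' → L = L' := by
      intro L L' hL hL'
      by_contra hne
      obtain ⟨x, hx, hxo⟩ := hdvd L hL
      obtain ⟨x', hx', hxo'⟩ := hdvd L' hL'
      have hcm := commutator_eq_bot_iff_le_centralizer.1 (Local.components_commute hL hL' hne)
      have hxx : Commute x x' := (mem_centralizer_iff.1 (hcm hx) x' hx').symm
      have hint : ∀ z, z ∈ L → z ∈ L' → z = 1 := fun z hz hz' =>
        hcen L hL z hz fun l hl => mem_centralizer_iff.1 (hcm hl) z hz'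
      set A := zpowers x ⊔ zpowers x'
      have hA : IsPGroup p A := (IsPGroup.of_card (n := 1) (p := p) (by rw [Nat.card_zpowers, hxo, pow_one])).to_sup_of_normal_left'
        (IsPGroup.of_card (n := 1) (p := p) (by rw [Nat.card_zpowers, hxo', pow_one]))
        (zpowers_le.2 (centralizer_le_normalizer _ (mem_centralizer_iff.2 fun t ht => by
          obtain ⟨i, rfl⟩ := mem_zpowers_iff.1 ht
          exact (hxx.zpow_left i).eq)))
      obtain ⟨R, hR⟩ := hA.exists_le_sylow
      haveI : IsCyclic (R : Subgroup K) := by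
        obtain ⟨t, ht⟩ := MulAction.exists_smul_eq K P R
        rw [← ht, Sylow.coe_subgroup_smul]
        exact isCyclic_of_surjective _ ((Subgroup.equivSMul (MulAut.conj t) (P : Subgroup K)).surjective)
      have h2 : zpowers x = zpowers x' := by
        have hc : ∀ y ∈ (R : Subgroup K), ∀ y' ∈ (R : Subgroup K), orderOf y = p → orderOf y' = p → zpowers y = zpowers y' := by
          intro y hy y' hy' ho ho'
          have e : zpowers (⟨y, hy⟩ : (R : Subgroup K)) = zpowers ⟨y', hy'⟩ :=
            Char.eq_of_card_eq_of_cyclic (by rw [Nat.card_zpowers, Nat.card_zpowers, Subgroup.orderOf_mk, Subgroup.orderOf_mk, ho, ho'])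
          have := congrArg (Subgroup.map (R : Subgroup K).subtype) e
          rwa [MonoidHom.map_zpowers, MonoidHom.map_zpowers] at this
        exact hc x (hR (mem_sup_left (mem_zpowers x))) x' (hR (mem_sup_right (mem_zpowers x'))) hxo hxo'
      have := hint x hx (zpowers_le.2 hx' (h2.le (mem_zpowers x)))
      rw [this, orderOf_one] at hxo
      exact hpp.ne_one hxo.symm
    obtain ⟨L, hL⟩ : ∃ L : Subgroup K, Cfsg.IsComponent L := by
      by_contra hne
      push Not at hne
      have hl : Cfsg.layer K = ⊥ := eq_bot_iff.2 (sSup_le fun L hL => absurd hL (hne L))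
      have h1 := Local.centralizer_generalizedFitting_le (G := K)
      rw [hFS, hl] at h1
      have h2 : g = 1 := mem_bot.1 (h1 (mem_centralizer_iff.2 fun z hz => by
        rw [mem_bot.1 hz, one_mul, mul_one]))
      refine P.ne_bot_of_dvd_card hp ?_
      rw [← hg, h2, zpowers_one_eq_bot]
    have hlayer : Cfsg.layer K = L := le_antisymm (sSup_le fun L' hL' => (huniq L' L hL' hL).le) (le_sSup hL)
    rw [hFS, hlayer]
    have hcL : center L = ⊥ := by
      rw [eq_bot_iff]
      intro z hz
      exact mem_bot.2 (Subtype.ext (hcen L hL z z.2 fun l hl => (congrArg Subtype.val (mem_center_iff.1 hz ⟨l, hl⟩)).symm))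
    have hsim : IsSimpleGroup L := by
      haveI := hL.2.2
      haveI := Local.qs_nontrivial hL.2
      refine IsSimpleGroup.isSimpleGroup_of_surjective (QuotientGroup.quotientMulEquivOfEq hcL |>.trans QuotientGroup.quotientBot).toMonoidHom (MulEquiv.surjective _)
    have hna : ¬ IsMulCommutative L := Local.qs_not_isMulCommutative hL.2
    refine ⟨hsim, hna, fun hd => ?_⟩
    haveI : L.Normal := hlayer ▸ Local.layer_normal
    obtain ⟨x, hx, hxo⟩ := hdvd L hL
    have hpL : p ∣ Nat.card L := hxo ▸ Subgroup.orderOf_dvd_natCard _ hx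
    obtain ⟨k, hk⟩ := Solv.hasNormalPComplement_iff_index.1 (Cfsg.Agent.S4145.result p P hP L hpL hd).1
    haveI := hsim
    rcases (inferInstance : (Cfsg.pPrimeCore p L).Normal).eq_bot_or_eq_top with h1 | h1
    · rw [h1, index_bot] at hk
      haveI := (IsPGroup.of_card hk).isNilpotent
      exact Local.qs_not_isSolvable hL.2 inferInstance
    · have h2 := Solv.card_pPrimeCore_coprime p L
      rw [h1, card_top] at h2
      exact hpp.coprime_iff_not_dvd.1 h2.symm hpL
  left
  have hP₀le : Cfsg.pCore p K ≤ (P : Subgroup K) := Solv.pCore_le_sylow P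
  set C := centralizer (Cfsg.pCore p K : Set K) with hC
  haveI hCn : C.Normal := normal_centralizer
  have hPC : (P : Subgroup K) ≤ C := fun x hx => mem_centralizer_iff.2 fun z hz =>
    congrArg Subtype.val (mul_comm' (⟨z, hP₀le hz⟩ : (P : Subgroup K)) ⟨x, hx⟩)
  have hCP : C = (P : Subgroup K) := by
    obtain ⟨k, hk⟩ := Solv.hasNormalPComplement_iff_index.1 (Solv.CycSyl.npc_centralizer P hP _ hP₀le hO')
    have hb : Cfsg.pPrimeCore p C = ⊥ := by
      have := Solv.pPrimeCore_map_subtype p C
      rw [hO, bot_inf_eq, map_eq_bot_iff_of_injective _ (subtype_injective _)] at this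
      exact this
    rw [hb, index_bot] at hk
    exact (P.3 (IsPGroup.of_card hk) hPC)
  have hPn : (P : Subgroup K).Normal := hCP ▸ hCn
  have hcP : centralizer ((P : Subgroup K) : Set K) = (P : Subgroup K) := by
    refine le_antisymm ((centralizer_le hP₀le).trans hCP.le) fun x hx => mem_centralizer_iff.2 fun z hz => ?_
    exact congrArg Subtype.val (mul_comm' (⟨z, hz⟩ : (P : Subgroup K)) ⟨x, hx⟩)
  haveI := hPn
  obtain ⟨n, hn⟩ := IsPGroup.iff_orderOf.1 P.isPGroup' ⟨g, hgP⟩
  rw [Subgroup.orderOf_mk] at hn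
  have hex : ∀ y : K, ∃ r : ℤ, y * g * y⁻¹ = g ^ r := fun y => by
    obtain ⟨r, hr⟩ := mem_zpowers_iff.1 (hg.symm ▸ hPn.conj_mem g hgP y : y * g * y⁻¹ ∈ zpowers g)
    exact ⟨r, hr.symm⟩
  choose r hr using hex
  have hn0 : n ≠ 0 := by
    rintro rfl
    refine P.ne_bot_of_dvd_card hp ?_
    rw [← hg, show g = 1 from orderOf_eq_one_iff.1 (by rw [hn, pow_zero]), zpowers_one_eq_bot]
  have hmod : ∀ i j : ℤ, g ^ i = g ^ j → (i : ZMod p) = (j : ZMod p) := by
    intro i j h
    rw [← mul_inv_eq_one, ← zpow_sub, ← orderOf_dvd_iff_zpow_eq_one, hn] at h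
    rw [ZMod.intCast_eq_intCast_iff_dvd_sub]
    exact dvd_sub_comm.1 ((Int.natCast_dvd_natCast.2 (dvd_pow_self p hn0)).trans h)
  let f₀ : K →* ZMod p :=
    { toFun := fun y => (r y : ZMod p)
      map_one' := by
        rw [← Int.cast_one]; exact hmod _ _ (by rw [← hr 1]; simp)
      map_mul' := fun x y => by
        rw [← Int.cast_mul]; refine hmod _ _ ?_
        rw [zpow_mul, ← hr x, conj_zpow, ← hr y, ← hr (x * y)]; group }
  have hker : f₀.toHomUnits.ker = (P : Subgroup K) := by
    ext y
    constructor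
    · intro hy
      obtain ⟨u, w, huw, -, ⟨i, hu⟩, hw, huy, hwy⟩ := Block.exists_isPPart hpp y
      have hwk : w ∈ f₀.toHomUnits.ker := zpowers_le.2 hy hwy
      have h1 : (r w : ZMod p) = ((1 : ℤ) : ZMod p) := by
        rw [Int.cast_one]; exact congrArg Units.val hwk
      have hcw := Solv.CycSyl.commute_of_pow_conj hn (hr w) ((hpp.coprime_iff_not_dvd.2 hw).symm)
        (dvd_sub_comm.1 ((ZMod.intCast_eq_intCast_iff_dvd_sub _ _ _).1 h1))
      have hwP : w ∈ (P : Subgroup K) := hcP.le (mem_centralizer_iff.2 fun z hz => by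
        obtain ⟨j, rfl⟩ := mem_zpowers_iff.1 (hg.symm ▸ hz : z ∈ zpowers g)
        exact (hcw.symm.zpow_left j).eq)
      rw [← huw]
      refine mul_mem ?_ hwP
      have h2 := (IsPGroup.of_card (n := i) ((Nat.card_zpowers u).trans hu)).inf_normalizer_sylow P
      exact (h2.le ⟨mem_zpowers u, (normalizer_eq_top (P : Subgroup K)).symm ▸ mem_top u⟩).2
    · intro hy
      rw [MonoidHom.mem_ker]
      ext
      show (r y : ZMod p) = 1
      rw [← Int.cast_one]
      refine hmod _ _ ?_
      rw [← hr y, zpow_one, mul_inv_eq_iff_eq_mul]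
      exact congrArg Subtype.val (mul_comm' (⟨y, hy⟩ : (P : Subgroup K)) ⟨g, hgP⟩)
  refine ⟨hPn, hcP, fun _ => ?_, ?_⟩
  · exact isCyclic_of_surjective _ (((QuotientGroup.quotientKerEquivRange f₀.toHomUnits).symm.trans
      (QuotientGroup.quotientMulEquivOfEq hker)).surjective)
  · rw [← hker, Subgroup.index_ker, ← Nat.totient_prime hpp, ← ZMod.card_units_eq_totient, ← Nat.card_eq_fintype_card]
    exact card_subgroup_dvd_card _

end Cfsg.Agent.S4403
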