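import Cfsg.Statements.S4405
import Cfsg.Agent.Lib.Solv.Basic
import Cfsg.Agent.Lib.Solv.Thompson
import Cfsg.Agent.Lib.Struct.CoprimeMinimal

set_option autoImplicit false
open scoped Pointwise
open scoped commutatorElement
open Cfsg

namespace Cfsg.Agent.S4405

set_option maxHeartbeats 1000000 in
/-- Let G be a finite group of order 320 = 64·5 whose largest normal 2-subgroup H = O₂(G) equals the Fitting subgroup F(G) and is extraspecial of order 32 containing no elementary abelian subgroup of order 8 (so H is the central product of a quaternion group and a dihedral group of order 8). If T is an involution of G outside H whose centralizer in H contains an elementary abelian subgroup of order 4, then C_H(T) itself is elementary abelian of order 4. -/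
theorem result {G : Type*} [Group G] [Finite G]
    (hG : Nat.card G = 320) (hHF : Cfsg.pCore 2 G = Cfsg.fittingSubgroup G)
    (hex : Cfsg.IsExtraspecial 2 ↥(Cfsg.pCore 2 G)) (h32 : Nat.card ↥(Cfsg.pCore 2 G) = 32)
    (hminus : ∀ A : Subgroup G, A ≤ Cfsg.pCore 2 G → Cfsg.IsElementaryAbelian 2 A → Nat.card ↥A ≤ 4)
    (T : G) (hT : orderOf T = 2) (hTH : T ∉ Cfsg.pCore 2 G)
    (V : Subgroup G) (hV : V ≤ Cfsg.pCore 2 G ⊓ Subgroup.centralizer ({T} : Set G)) (hV4 : Nat.card ↥V = 4) (hVe : Cfsg.IsElementaryAbelian 2 V) :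
    Nat.card ↥(Cfsg.pCore 2 G ⊓ Subgroup.centralizer ({T} : Set G)) = 4 ∧
      Cfsg.IsElementaryAbelian 2 (Cfsg.pCore 2 G ⊓ Subgroup.centralizer ({T} : Set G)) := by
  open Subgroup in
  haveI : Fact (Nat.Prime 2) := ⟨Nat.prime_two⟩
  haveI : Fact (Nat.Prime 5) := ⟨by norm_num⟩
  set H := Cfsg.pCore 2 G with hH
  haveI hHn : H.Normal := inferInstance
  set Z : Subgroup G := (center H).map H.subtype with hZdef
  have hZ2 : Nat.card Z = 2 := by
    rw [hZdef, card_map_of_injective H.subtype_injective]; exact hex.2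
  have hZH : Z ≤ H := map_subtype_le _
  have hZH' : ∀ z ∈ Z, ∀ h ∈ H, Commute z h := by
    rintro _ ⟨z, hz, rfl⟩ h hh
    exact congrArg Subtype.val (mem_center_iff.1 hz ⟨h, hh⟩).symm
  haveI hZn : Z.Normal := by rw [hZdef]; infer_instance
  have hz1 : ∀ z ∈ Z, z * z = 1 := by
    intro z hz
    have : z ^ Nat.card Z = 1 := orderOf_dvd_iff_pow_eq_one.1 (Z.orderOf_dvd_natCard hz)
    rwa [hZ2, sq] at this
  have hZc : ∀ z ∈ Z, ∀ g : G, g * z * g⁻¹ = z := by
    intro z hz g
    by_cases h : z = 1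
    · subst h; simp
    · by_contra hne
      have h1 : g * z * g⁻¹ ∈ Z := hZn.conj_mem z hz g
      haveI := Fintype.ofFinite Z
      have hinj : Function.Injective (![⟨1, one_mem Z⟩, ⟨z, hz⟩, ⟨_, h1⟩] : Fin 3 → Z) := by
        intro i j hij
        fin_cases i <;> fin_cases j <;> simp at hij ⊢ <;> first | exact h hij | exact h hij.symm | exact hne hij | exact hne hij.symm | exact h (conj_eq_one_iff.1 hij) | exact h (conj_eq_one_iff.1 hij.symm)
      have := Nat.card_le_card_of_injective _ hinj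
      rw [Nat.card_fin, hZ2] at this
      omega
  have hcommZ : ∀ a ∈ H, ∀ b ∈ H, a * b * a⁻¹ * b⁻¹ ∈ Z := by
    intro a ha b hb
    refine ⟨⁅(⟨a, ha⟩ : H), ⟨b, hb⟩⁆, ?_, by rw [coe_subtype, commutatorElement_def]; rfl⟩
    rw [← hex.1.2.2]
    exact commutator_mem_commutator (mem_top _) (mem_top _)
  have hsqZ : ∀ a ∈ H, a * a ∈ Z := by
    intro a ha
    refine ⟨(⟨a, ha⟩ : H) ^ 2, ?_, by rw [sq]; rfl⟩
    rw [← hex.1.2.1]
    exact Cfsg.Agent.Struct.CoprimeMinimal.pow_mem_frattini hex.1.1 _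
  have hind : H.index = 10 := by
    have := H.card_mul_index
    rw [h32, hG] at this
    omega
  -- the element of order five
  obtain ⟨g, hg⟩ := exists_prime_orderOf_dvd_card' (G := G) 5 (by rw [hG]; norm_num)
  have hgH : g ∉ H := fun h => by
    have := H.orderOf_dvd_natCard h
    rw [hg, h32] at this
    omega
  set N : Subgroup G := H ⊔ zpowers g with hN
  have hNdvd : 160 ∣ Nat.card N := by
    have h1 : 32 ∣ Nat.card N := h32 ▸ card_dvd_of_le le_sup_left
    have h2 : 5 ∣ Nat.card N := by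
      rw [← hg, ← Nat.card_zpowers]; exact card_dvd_of_le le_sup_right
    exact Nat.Coprime.mul_dvd_of_dvd_of_dvd (by norm_num) h1 h2
  have hNmem : ∀ x ∈ N, ∃ h ∈ H, ∃ i : ℤ, x = h * g ^ i := by
    intro x hx
    rw [hN] at hx
    obtain ⟨h, hh, y, hy, rfl⟩ := mem_sup_of_normal_left.1 hx
    obtain ⟨i, rfl⟩ := mem_zpowers_iff.1 hy
    exact ⟨h, hh, i, rfl⟩
  have hNcard : Nat.card N = 160 := by
    refine le_antisymm ?_ (Nat.le_of_dvd Nat.card_pos hNdvd)
    have hsurj : Function.Surjective (fun x : H × zpowers g => (⟨(x.1 : G) * x.2, mul_mem (mem_sup_left x.1.2) (mem_sup_right x.2.2)⟩ : N)) := by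
      rintro ⟨x, hx⟩
      obtain ⟨h, hh, i, rfl⟩ := hNmem x hx
      exact ⟨(⟨h, hh⟩, ⟨_, zpow_mem (mem_zpowers g) i⟩), rfl⟩
    refine (Nat.card_le_card_of_surjective _ hsurj).trans ?_
    rw [Nat.card_prod, h32, Nat.card_zpowers, hg]
  haveI hNn : N.Normal := normal_of_index_eq_two (by
    have := N.card_mul_index
    rw [hNcard, hG] at this
    omega)
  have hTT : T * T = 1 := by rw [← sq, ← hT, pow_orderOf_eq_one]
  have hTinv : T⁻¹ = T := inv_eq_of_mul_eq_one_right hTT
  have hg5 : g ^ (5 : ℤ) = 1 := by rw [show (5 : ℤ) = ((5 : ℕ) : ℤ) from rfl, zpow_natCast, ← hg, pow_orderOf_eq_one]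
  have hgpow : ∀ i : ℤ, g ^ i ∈ H → (5 : ℤ) ∣ i := by
    intro i hi
    by_contra h5
    obtain ⟨c, e, hce⟩ := (Int.prime_iff_natAbs_prime.2 (by norm_num : Nat.Prime (5 : ℤ).natAbs)).coprime_iff_not_dvd.2 h5
    apply hgH
    rw [show g = g ^ (c * 5 + e * i) by rw [hce, zpow_one], zpow_add, mul_comm c, zpow_mul, hg5, one_zpow, one_mul, mul_comm e, zpow_mul]
    exact zpow_mem hi e
  -- `T` inverts `g` modulo `H`
  obtain ⟨h0, hh0, hh0e⟩ : ∃ h0 ∈ H, T * g * T = h0 * g⁻¹ := by
    obtain ⟨h, hh, i, hi⟩ := hNmem (T * g * T⁻¹) (hNn.conj_mem g (mem_sup_right (mem_zpowers g)) T)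
    rw [hTinv] at hi
    have hTN : ∀ m : ℤ, ∃ h' ∈ H, T * g ^ m * T = h' * g ^ (i * m) := by
      intro m
      have e : T * g ^ m * T = (T * g * T) ^ m := by
        conv_lhs => rw [← hTinv, hTinv]
        rw [show T * g * T = T * g * T⁻¹ by rw [hTinv], conj_zpow, hTinv]
      refine ⟨(T * g * T) ^ m * (g ^ (i * m))⁻¹, ?_, by rw [e, inv_mul_cancel_right]⟩
      rw [← QuotientGroup.eq_one_iff, QuotientGroup.mk_mul, QuotientGroup.mk_inv, QuotientGroup.mk_zpow, hi,
        QuotientGroup.mk_mul, (QuotientGroup.eq_one_iff h).2 hh, one_mul, QuotientGroup.mk_zpow, QuotientGroup.mk_zpow,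
        ← zpow_mul, mul_inv_cancel]
    have h5 : (5 : ℤ) ∣ i * i - 1 := by
      obtain ⟨h', hh', he'⟩ := hTN i
      apply hgpow
      have e1 : g = T * (T * g * T) * T := by simp only [← mul_assoc, hTT, one_mul]; rw [mul_assoc, hTT, mul_one]
      have e2 : T * (T * g * T) * T = (T * h * T) * (h' * g ^ (i * i)) := by
        rw [hi, ← he']
        calc T * (h * g ^ i) * T = T * h * (T * T) * g ^ i * T := by rw [hTT, mul_one, mul_assoc T h]
          _ = T * h * T * (T * g ^ i * T) := by group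
      rw [e2] at e1
      have hTh : T * h * T ∈ H := by
        have := hHn.conj_mem h hh T
        rwa [hTinv] at this
      have h3 : g ^ (i * i - 1) = h'⁻¹ * (T * h * T)⁻¹ := by
        calc g ^ (i * i - 1) = g ^ (i * i) * g⁻¹ := zpow_sub_one g _
          _ = g ^ (i * i) * ((T * h * T) * (h' * g ^ (i * i)))⁻¹ := by rw [← e1]
          _ = h'⁻¹ * (T * h * T)⁻¹ := by group
      rw [h3]
      exact mul_mem (inv_mem hh') (inv_mem hTh)
    have hcase : (5 : ℤ) ∣ i - 1 ∨ (5 : ℤ) ∣ i + 1 := by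
      have : (5 : ℤ) ∣ (i - 1) * (i + 1) := by rwa [show (i - 1) * (i + 1) = i * i - 1 by ring]
      exact (Int.prime_iff_natAbs_prime.2 (by norm_num : Nat.Prime (5 : ℤ).natAbs)).dvd_mul.1 this
    rcases hcase with ⟨k, hk⟩ | ⟨k, hk⟩
    swap
    · exact ⟨h, hh, by rw [hi, show i = 5 * k + (-1) by omega, zpow_add, zpow_mul, hg5, one_zpow, one_mul, zpow_neg_one]⟩
    exfalso
    have hgi : g ^ i = g := by rw [show i = 5 * k + 1 by omega, zpow_add, zpow_mul, hg5, one_zpow, one_mul, zpow_one]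
    rw [hgi] at hi
    set U : Subgroup G := H ⊔ zpowers T with hU
    have hgU : g * T * g⁻¹ ∈ U := by
      have e : g * T * g⁻¹ = h⁻¹ * T := by
        calc g * T * g⁻¹ = h⁻¹ * (h * g) * T * g⁻¹ := by group
          _ = h⁻¹ * (T * g * T) * T * g⁻¹ := by rw [hi]
          _ = h⁻¹ * T * g * (T * T) * g⁻¹ := by group
          _ = h⁻¹ * T := by rw [hTT]; group
      rw [e]
      exact mul_mem (mem_sup_left (inv_mem hh)) (mem_sup_right (mem_zpowers T))
    have hUn : U.Normal := by
      rw [← normalizer_eq_top_iff, eq_top_iff]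
      have hle : ∀ x, x * T * x⁻¹ ∈ U → x ∈ normalizer (U : Set G) := by
        intro x hx
        rw [mem_normalizer_iff_map_conj_eq]
        refine eq_of_le_of_card_ge (map_le_iff_le_comap.2 (sup_le (fun y hy => mem_sup_left (hHn.conj_mem y hy x)) ?_)) (card_map_of_injective (MulAut.conj x).injective).ge
        rw [zpowers_le]
        exact hx
      have hTU : T ∈ normalizer (U : Set G) := hle T (by simpa using mem_sup_right (mem_zpowers T))
      have hgN : g ∈ normalizer (U : Set G) := hle g hgU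
      have hHN : H ≤ normalizer (U : Set G) := le_sup_left.trans le_normalizer
      have hTN' : T ∉ N := by
        intro hTN2
        obtain ⟨a, ha, j, hj⟩ := hNmem T hTN2
        apply hTH
        have hj2 : (QuotientGroup.mk T : G ⧸ H) = (QuotientGroup.mk g : G ⧸ H) ^ j := by
          rw [hj, QuotientGroup.mk_mul, (QuotientGroup.eq_one_iff a).2 ha, one_mul, QuotientGroup.mk_zpow]
        rw [← QuotientGroup.eq_one_iff, ← orderOf_eq_one_iff]
        refine Nat.eq_one_of_dvd_coprimes (show Nat.Coprime 2 5 by norm_num) ?_ ?_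
        · rw [← hT]; exact orderOf_map_dvd (QuotientGroup.mk' H) T
        · refine orderOf_dvd_of_pow_eq_one ?_
          rw [hj2, ← zpow_natCast, ← zpow_mul, mul_comm, zpow_mul, zpow_natCast, ← QuotientGroup.mk_pow, ← hg, pow_orderOf_eq_one, QuotientGroup.mk_one, one_zpow]
      have htop : (⊤ : Subgroup G) ≤ N ⊔ zpowers T := by
        have hlt : N < N ⊔ zpowers T := lt_of_le_of_ne le_sup_left fun e => hTN' (e ▸ mem_sup_right (mem_zpowers T))
        have h1 := card_dvd_of_le (le_sup_left : N ≤ N ⊔ zpowers T)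
        have h2 := card_subgroup_dvd_card (N ⊔ zpowers T)
        have h3 : 160 < Nat.card (N ⊔ zpowers T : Subgroup G) := by
          rw [← hNcard]
          refine lt_of_le_of_ne (Nat.le_of_dvd Nat.card_pos h1) fun e => hlt.ne (eq_of_le_of_card_ge le_sup_left e.ge)
        rw [hG] at h2
        obtain ⟨c, hc⟩ := h2
        have : c = 1 := by
          rcases Nat.lt_or_ge c 2 with h | h
          · rcases Nat.eq_zero_or_pos c with rfl | h'
            · omega
            · omega
          · nlinarith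
        exact (eq_top_of_card_eq _ (by rw [hG, hc, this, mul_one])).ge
      exact htop.trans (sup_le (sup_le hHN (zpowers_le.2 hgN)) (zpowers_le.2 hTU))
    have hUp : IsPGroup 2 U := by
      refine IsPGroup.to_sup_of_normal_left ?_ ?_
      · exact Cfsg.Agent.Solv.isPGroup_pCore 2 G
      · exact IsPGroup.of_card (n := 1) (by rw [Nat.card_zpowers, hT, pow_one])
    exact hTH ((Cfsg.Agent.Solv.le_pCore hUp) (mem_sup_right (mem_zpowers T)))
  -- the centralizer of `g` in `H` is `Z`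
  have hgfix : ∀ a ∈ H, g * a * g⁻¹ * a⁻¹ ∈ Z → g * a * g⁻¹ = a := by
    intro a _ hz
    obtain ⟨c, hc⟩ : ∃ c, c = g * a * g⁻¹ * a⁻¹ := ⟨_, rfl⟩
    rw [← hc] at hz
    have hca : g * a * g⁻¹ = c * a := by rw [hc, inv_mul_cancel_right]
    have hn : ∀ n : ℕ, g ^ n * a * (g ^ n)⁻¹ = c ^ n * a := by
      intro n
      induction n with
      | zero => simp
      | succ n ih =>
        calc g ^ (n + 1) * a * (g ^ (n + 1))⁻¹ = g * (g ^ n * a * (g ^ n)⁻¹) * g⁻¹ := by rw [pow_succ']; group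
          _ = g * c ^ n * g⁻¹ * (g * a * g⁻¹) := by rw [ih]; group
          _ = c ^ (n + 1) * a := by rw [hZc _ (pow_mem hz n), hca, pow_succ, mul_assoc (c ^ n)]
    have h5 := hn 5
    rw [← hg, pow_orderOf_eq_one, inv_one, mul_one, one_mul, hg] at h5
    have hc5 : c ^ 5 = 1 := by
      have := h5.symm
      rwa [mul_eq_right] at this
    have hc2 : c * c = 1 := hz1 c hz
    have hc1 : c = 1 := by
      rw [← hc5, show c ^ 5 = (c * c) * (c * c) * c by simp only [pow_succ, pow_zero, one_mul, mul_assoc], hc2, one_mul, one_mul]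
    rw [hca, hc1, one_mul]
  have hCg : ∀ a ∈ H, g * a * g⁻¹ = a → a ∈ Z := by
    let φ : H ≃* H := MulAut.conjNormal g
    let F : Subgroup H := MonoidHom.eqLocus (φ : H →* H) (MonoidHom.id H)
    have hFne : F ≠ ⊤ := by
      intro htop
      have hcg : ∀ a ∈ H, Commute g a := fun a ha => by
        have h : φ ⟨a, ha⟩ = ⟨a, ha⟩ := htop.ge (mem_top _)
        exact mul_inv_eq_iff_eq_mul.1 (congrArg Subtype.val h)
      have hzn : (zpowers g).Normal := by
        have h5mem : ∀ x ∈ N, x ^ 5 = 1 → x ∈ zpowers g := by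
          intro x hx hx5
          obtain ⟨a, ha, j, rfl⟩ := hNmem x hx
          rw [((hcg a ha).symm.zpow_right j).mul_pow, ← zpow_natCast (g ^ j), ← zpow_mul, mul_comm j, zpow_mul, Nat.cast_ofNat, hg5, one_zpow, mul_one] at hx5
          have : a = 1 := by
            rw [← orderOf_eq_one_iff]
            exact Nat.eq_one_of_dvd_coprimes (show Nat.Coprime 5 32 by norm_num) (orderOf_dvd_of_pow_eq_one hx5) (h32 ▸ H.orderOf_dvd_natCard ha)
          rw [this, one_mul]
          exact zpow_mem (mem_zpowers g) j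
        refine ⟨fun n hn x => h5mem _ (hNn.conj_mem n ((le_sup_right : zpowers g ≤ N) hn) x) ?_⟩
        rw [conj_pow, show n ^ 5 = 1 by
          obtain ⟨j, rfl⟩ := mem_zpowers_iff.1 hn
          rw [← zpow_natCast, ← zpow_mul, mul_comm, zpow_mul, Nat.cast_ofNat, hg5, one_zpow], mul_one, mul_inv_cancel]
      haveI := hzn
      have hle : zpowers g ≤ H := hHF.symm ▸ Cfsg.Agent.Solv.le_fittingSubgroup (by
        letI := IsCyclic.commGroup (α := zpowers g)
        infer_instance)
      exact hgH (hle (mem_zpowers g))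
    obtain ⟨k, hk⟩ := IsPGroup.iff_card.1 (hex.1.1.to_subgroup F)
    have hk5 : k < 5 := by
      have h1 : Nat.card F < 2 ^ 5 := lt_of_le_of_ne (by norm_num; exact (Nat.le_of_dvd Nat.card_pos (card_subgroup_dvd_card F)).trans h32.le) fun e => hFne (eq_top_of_card_eq _ (e.trans (by rw [h32]; norm_num)))
      rw [hk] at h1
      exact (pow_lt_pow_iff_right₀ (by norm_num)).1 h1
    have hmod := (IsPGroup.of_card (p := 5) (n := 1) (by rw [Nat.card_zpowers]; exact (orderOf_eq_prime (p := 5) (by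
        ext a
        have hp : ∀ n : ℕ, ((φ ^ n) a : G) = g ^ n * a * (g ^ n)⁻¹ := by
          intro n
          induction n with
          | zero => simp
          | succ n ih =>
            rw [pow_succ', MulAut.mul_apply]
            show g * ((φ ^ n) a : G) * g⁻¹ = _
            rw [ih, pow_succ']; group
        rw [hp 5, ← hg, pow_orderOf_eq_one]; simp) fun e => hFne (by
          rw [eq_top_iff']; intro a; show φ a = a; rw [e]; rfl)).trans (pow_one 5).symm) : IsPGroup 5 (zpowers φ)).card_modEq_card_fixedPoints H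
    have hfix : MulAction.fixedPoints (zpowers φ) H = (F : Set H) := by
      ext a
      constructor
      · intro h; exact h ⟨φ, mem_zpowers _⟩
      · rintro h ⟨_, n, rfl⟩
        show (φ ^ n) a = a
        have : φ ∈ MulAction.stabilizer (MulAut H) a := h
        exact zpow_mem this n
    rw [hfix, show Nat.card (F : Set H) = Nat.card F from rfl, hk, h32] at hmod
    have hk1 : k = 1 := by
      unfold Nat.ModEq at hmod
      interval_cases k <;> simp_all
    have hZF : center H ≤ F := fun z hz => Subtype.ext (hZc _ (mem_map_of_mem H.subtype hz) g)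
    have hFZ : F = center H := (eq_of_le_of_card_ge hZF (by rw [hk, hk1, hex.2]; norm_num)).symm
    intro a ha h
    exact ⟨⟨a, ha⟩, hFZ.le (Subtype.ext h : (⟨a, ha⟩ : H) ∈ F), rfl⟩
  -- the subgroup `W`
  let W : Subgroup G :=
    { carrier := {a | a ∈ H ∧ T * a * T * a⁻¹ ∈ Z}
      one_mem' := ⟨one_mem H, by simp [hTT]⟩
      mul_mem' := fun {a b} ha hb => ⟨mul_mem ha.1 hb.1, by
        have e : T * (a * b) * T * (a * b)⁻¹ = (T * a * T) * (T * b * T * b⁻¹) * (T * a * T)⁻¹ * (T * a * T * a⁻¹) := by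
          calc T * (a * b) * T * (a * b)⁻¹ = T * a * (T * T) * b * T * b⁻¹ * a⁻¹ := by rw [hTT]; group
            _ = _ := by group
        rw [e]
        exact mul_mem (hZn.conj_mem _ hb.2 _) ha.2⟩
      inv_mem' := fun {a} ha => ⟨inv_mem ha.1, by
        have h1 : (T * a * T * a⁻¹)⁻¹ = a * T * a⁻¹ * T := by
          simp only [mul_inv_rev, inv_inv, hTinv, ← mul_assoc]
        have h2 := hZn.conj_mem _ (inv_mem ha.2) a⁻¹
        rw [h1, inv_inv] at h2
        convert h2 using 1
        group⟩ }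
  have hZW : Z ≤ W := fun z hz => ⟨hZH hz, by
    have := hZc z hz T
    rw [hTinv] at this
    rw [this, mul_inv_cancel]; exact one_mem Z⟩
  have hSS : (g * T * g⁻¹)⁻¹ = g * T * g⁻¹ := by simp only [mul_inv_rev, inv_inv, hTinv, ← mul_assoc]
  have hu : ∃ h1 ∈ H, g * T * g⁻¹ * T = h1 * (g * g) := by
    refine ⟨g * g * h0⁻¹ * (g * g)⁻¹, hHn.conj_mem _ (inv_mem hh0) _, ?_⟩
    have h1 : T * g⁻¹ * T = g * h0⁻¹ := by
      have := congrArg (·⁻¹) hh0e
      simp only [mul_inv_rev, inv_inv, hTinv, ← mul_assoc] at this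
      exact this
    rw [show g * T * g⁻¹ * T = g * (T * g⁻¹ * T) by group, h1]
    group
  -- `W` and its conjugate meet in `Z`
  have hWW : ∀ a, a ∈ W → g⁻¹ * a * g ∈ W → a ∈ Z := by
    intro a ha hb
    have hS : (g * T * g⁻¹) * a * (g * T * g⁻¹) * a⁻¹ ∈ Z := by
      have := hZn.conj_mem _ hb.2 g
      convert this using 1
      group
    obtain ⟨h1, hh1, hh1e⟩ := hu
    have hua : (g * T * g⁻¹ * T) * a * (g * T * g⁻¹ * T)⁻¹ * a⁻¹ ∈ Z := by
      have e : (g * T * g⁻¹ * T) * a * (g * T * g⁻¹ * T)⁻¹ * a⁻¹ =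
          (g * T * g⁻¹) * (T * a * T * a⁻¹) * (g * T * g⁻¹)⁻¹ * ((g * T * g⁻¹) * a * (g * T * g⁻¹)⁻¹ * a⁻¹) := by
        rw [mul_inv_rev (g * T * g⁻¹) T, hTinv]
        group
      rw [e]
      exact mul_mem (hZn.conj_mem _ ha.2 _) (by rw [hSS]; exact hS)
    rw [hh1e] at hua
    obtain ⟨b, hb'⟩ : ∃ b, b = g * g * a * (g * g)⁻¹ := ⟨_, rfl⟩
    have hbH : b ∈ H := hb' ▸ hHn.conj_mem _ ha.1 _
    have hc : b * a⁻¹ ∈ Z := by
      have h3 := mul_mem (inv_mem (hcommZ h1 hh1 b hbH)) hua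
      convert h3 using 1
      generalize g * g = w at hb' ⊢
      rw [hb']
      group
    obtain ⟨c, hc'⟩ : ∃ c, c = b * a⁻¹ := ⟨_, rfl⟩
    rw [← hc'] at hc
    have hba : g * g * a * (g * g)⁻¹ = c * a := by rw [← hb', hc', inv_mul_cancel_right]
    have hga : g * a * g⁻¹ * a⁻¹ ∈ Z := by
      have h6 : g ^ 6 = g := by rw [pow_succ, ← hg, pow_orderOf_eq_one, one_mul]
      have hk : ∀ u : G, u * a * u⁻¹ = c * a → ∀ k : ℕ, u ^ k * a * (u ^ k)⁻¹ = c ^ k * a := by
        intro u hu k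
        induction k with
        | zero => simp
        | succ k ih =>
          calc u ^ (k + 1) * a * (u ^ (k + 1))⁻¹ = u * (u ^ k * a * (u ^ k)⁻¹) * u⁻¹ := by rw [pow_succ']; group
            _ = u * c ^ k * u⁻¹ * (u * a * u⁻¹) := by rw [ih]; group
            _ = c ^ (k + 1) * a := by rw [hZc _ (pow_mem hc k), hu, pow_succ, mul_assoc (c ^ k)]
      have h3 := hk _ hba 3
      rw [← sq g, ← pow_mul, h6] at h3
      rw [h3, mul_inv_cancel_right]
      exact pow_mem hc 3
    exact hCg a ha.1 (hgfix a ha.1 hga)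
  have hWH : W ≤ H := fun a ha => ha.1
  have hWcard : Nat.card W ≤ 8 := by
    set W' : Subgroup G := W.map (MulAut.conj g).toMonoidHom with hW'
    have hW'H : W' ≤ H := by rintro _ ⟨a, ha, rfl⟩; exact hHn.conj_mem _ (hWH ha) g
    have h1 := index_inf_le (H := W.subgroupOf H) (K := W'.subgroupOf H)
    have hI : Nat.card (W.subgroupOf H ⊓ W'.subgroupOf H : Subgroup H) ≤ 2 := by
      refine le_trans (Nat.card_le_card_of_injective (fun x => (⟨((x.1 : H) : G), ?_⟩ : Z)) fun x y h => Subtype.ext (Subtype.ext (congrArg Subtype.val h :))) hZ2.le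
      obtain ⟨hx1, b, hb, hbe⟩ := x.2
      refine hWW _ hx1 ?_
      rw [show g⁻¹ * ((x.1 : H) : G) * g = b by
        rw [show ((x.1 : H) : G) = g * b * g⁻¹ from hbe.symm]; group]
      exact hb
    have e1 := (W.subgroupOf H).card_mul_index
    have e2 := (W'.subgroupOf H).card_mul_index
    have e3 := (W.subgroupOf H ⊓ W'.subgroupOf H).card_mul_index
    rw [Nat.card_congr (subgroupOfEquivOfLe hWH).toEquiv, h32] at e1
    rw [Nat.card_congr (subgroupOfEquivOfLe hW'H).toEquiv, hW', card_map_of_injective (MulAut.conj g).injective, h32] at e2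
    rw [h32] at e3
    nlinarith
  set C := H ⊓ centralizer ({T} : Set G) with hC
  have hCT : ∀ a ∈ C, T * a * T = a := fun a ha => by
    rw [show T * a = a * T from (mem_centralizer_singleton_iff.1 ha.2).symm, mul_assoc, hTT, mul_one]
  have hCW : C ≤ W := fun a ha => ⟨ha.1, by rw [hCT a ha, mul_inv_cancel]; exact one_mem Z⟩
  have hV2 : ∀ v ∈ V, v * v = 1 := fun v hv => by rw [← sq]; exact hVe.2 v hv
  have hZV : Z ≤ V := by
    have hA : Cfsg.IsElementaryAbelian 2 (V ⊔ Z) := by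
      have hmem : ∀ a ∈ V ⊔ Z, ∃ v ∈ V, ∃ z ∈ Z, a = v * z := fun a ha => by
        obtain ⟨v, hv, z, hz, e⟩ := mem_sup_of_normal_right.1 ha
        exact ⟨v, hv, z, hz, e.symm⟩
      refine ⟨⟨⟨fun a b => Subtype.ext ?_⟩⟩, fun a ha => ?_⟩
      · show (a : G) * b = b * a
        obtain ⟨v, hv, z, hz, e⟩ := hmem a a.2
        obtain ⟨v', hv', z', hz', e'⟩ := hmem b b.2
        rw [e, e']
        have hvv : Commute v v' := haveI := hVe.1; congrArg Subtype.val (mul_comm' (⟨v, hv⟩ : V) ⟨v', hv'⟩)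
        exact ((hvv.mul_left (hZH' z hz v' (hV hv').1)).mul_right
          ((hZH' z' hz' v (hV hv).1).symm.mul_left (hZH' z' hz' z (hZH hz)).symm)).eq
      · obtain ⟨v, hv, z, hz, rfl⟩ := hmem a ha
        rw [(hZH' z hz v (hV hv).1).symm.mul_pow, sq, sq, hV2 v hv, hz1 z hz, one_mul]
    have := eq_of_le_of_card_ge (le_sup_left : V ≤ V ⊔ Z) ((hminus _ (sup_le (hV.trans inf_le_left) hZH) hA).trans hV4.ge)
    exact le_sup_right.trans this.ge
  have hge : 4 ≤ Nat.card C := hV4 ▸ Nat.le_of_dvd Nat.card_pos (card_dvd_of_le hV)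
  have hle8 : Nat.card C ≤ 8 := (Nat.le_of_dvd Nat.card_pos (card_dvd_of_le hCW)).trans hWcard
  obtain ⟨k, hk⟩ := IsPGroup.iff_card.1 (hex.1.1.of_equiv (MulEquiv.refl _) |>.to_le (inf_le_left : C ≤ H))
  have hk3 : k = 2 ∨ k = 3 := by
    rw [hk] at hge hle8
    rcases Nat.lt_or_ge k 2 with h | h
    · exfalso
      have := Nat.pow_le_pow_right (by norm_num : 1 ≤ 2) (show k ≤ 1 by omega)
      omega
    rcases Nat.lt_or_ge k 4 with h' | h'
    · omega
    · exfalso
      have := Nat.pow_le_pow_right (by norm_num : 1 ≤ 2) h'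
      omega
  rcases hk3 with rfl | rfl
  · have hCV : C = V := (eq_of_le_of_card_ge hV (by rw [hk, hV4]; norm_num)).symm
    rw [hCV]
    exact ⟨hV4, hVe⟩
  exfalso
  have hCWe : C = W := eq_of_le_of_card_ge hCW (by rw [hk]; exact hWcard)
  have hC8 : Nat.card C = 8 := by rw [hk]; norm_num
  have hd : ∀ a ∈ H, T * a * T * a⁻¹ ∈ C := by
    intro a ha
    have hdH : T * a * T * a⁻¹ ∈ H := mul_mem (by have := hHn.conj_mem a ha T; rwa [hTinv] at this) (inv_mem ha)
    rw [hCWe]
    refine ⟨hdH, ?_⟩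
    have e : T * (T * a * T * a⁻¹) * T = (T * a * T * a⁻¹)⁻¹ := by
      simp only [mul_inv_rev, inv_inv, hTinv, ← mul_assoc, hTT, one_mul]
    rw [e]
    exact hsqZ _ (inv_mem hdH)
  have hd2 : ∀ a ∈ H, (T * a * T * a⁻¹) * (T * a * T * a⁻¹) = 1 := by
    intro a ha
    have h1 := hCT _ (hd a ha)
    have e : T * (T * a * T * a⁻¹) * T = (T * a * T * a⁻¹)⁻¹ := by
      simp only [mul_inv_rev, inv_inv, hTinv, ← mul_assoc, hTT, one_mul]
    rw [h1] at e
    exact mul_eq_one_iff_eq_inv.2 e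
  let Q := H ⧸ C.subgroupOf H
  let F : Q × Z → C := fun x => ⟨T * (x.1.out : G) * T * (x.1.out : G)⁻¹ * x.2,
    mul_mem (hd _ x.1.out.2) (hCWe ▸ hZW x.2.2)⟩
  have hF : Function.Injective F := by
    rintro ⟨q, z⟩ ⟨q', z'⟩ h
    have h' : T * (q.out : G) * T * (q.out : G)⁻¹ * z = T * (q'.out : G) * T * (q'.out : G)⁻¹ * z' := congrArg Subtype.val h
    set a : G := (q.out : G) with ha
    set a' : G := (q'.out : G) with ha'
    set m : G := a⁻¹ * a' with hm
    have hmH : m ∈ H := mul_mem (inv_mem q.out.2) q'.out.2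
    have e : T * a' * T * a'⁻¹ = T * a * T * a⁻¹ * (a * (T * m * T * m⁻¹) * a⁻¹) := by
      have : a' = a * m := by rw [hm, mul_inv_cancel_left]
      rw [this]
      calc T * (a * m) * T * (a * m)⁻¹ = T * a * (T * T) * m * T * m⁻¹ * a⁻¹ := by rw [hTT]; group
        _ = _ := by group
    have hmW : m ∈ W := by
      refine ⟨hmH, ?_⟩
      rw [e, mul_assoc (T * a * T * a⁻¹) (a * (T * m * T * m⁻¹) * a⁻¹), mul_left_cancel_iff] at h'
      have h2 : a * (T * m * T * m⁻¹) * a⁻¹ ∈ Z := by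
        rw [← mul_inv_eq_iff_eq_mul.2 h']
        exact mul_mem z.2 (inv_mem z'.2)
      have := hZn.conj_mem _ h2 a⁻¹
      convert this using 1
      group
    rw [← hCWe] at hmW
    have hq : q = q' := by
      rw [← q.out_eq', ← q'.out_eq', QuotientGroup.eq, mem_subgroupOf]
      exact hmW
    subst hq
    exact Prod.ext rfl (Subtype.ext (mul_left_cancel h'))
  have hQ : Nat.card Q = 4 := by
    have := (C.subgroupOf H).card_mul_index
    rw [Nat.card_congr (subgroupOfEquivOfLe (inf_le_left : C ≤ H)).toEquiv, hC8, h32] at this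
    show Nat.card (H ⧸ C.subgroupOf H) = 4
    rw [← index_eq_card]
    omega
  have hsurj : Function.Surjective F := (hF.bijective_of_nat_card_le (by rw [Nat.card_prod, hQ, hZ2, hC8])).2
  have hC2 : ∀ w ∈ C, w * w = 1 := by
    intro w hw
    obtain ⟨⟨q, z⟩, hx⟩ := hsurj ⟨w, hw⟩
    have hx' : T * (q.out : G) * T * (q.out : G)⁻¹ * z = w := congrArg Subtype.val hx
    have hcm : Commute (T * (q.out : G) * T * (q.out : G)⁻¹) (z : G) := (hZH' z z.2 _ (hd _ q.out.2).1).symm
    rw [← hx', ← sq, hcm.mul_pow, sq, sq, hd2 _ q.out.2, hz1 z z.2, one_mul]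
  have h8 := hminus C inf_le_left ⟨⟨⟨fun a b => Subtype.ext (by
    show (a : G) * b = b * a
    have hi : ∀ w ∈ C, w⁻¹ = w := fun w hw => inv_eq_of_mul_eq_one_right (hC2 w hw)
    calc (a : G) * b = ((a : G) * b)⁻¹ := (hi _ (mul_mem a.2 b.2)).symm
      _ = b * a := by rw [mul_inv_rev, hi _ a.2, hi _ b.2])⟩⟩, fun a ha => by rw [sq]; exact hC2 a ha⟩
  omega

end Cfsg.Agent.S4405
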