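import Cfsg.Statements.S4406

set_option autoImplicit false
open Cfsg

namespace Cfsg.Agent.S4406

---pre
set_option synthInstance.maxSize 4000 in
theorem a4_inv : ∀ q w x : alternatingGroup (Fin 4), q * q * q = 1 → q ≠ 1 → w * w = 1 → w ≠ 1 → x * x = 1 → x ≠ 1 →
    (x = w ∨ x = q * w * q⁻¹ ∨ x = q⁻¹ * w * q) ∧ q * (q * w * q⁻¹) * q⁻¹ = w * (q * w * q⁻¹) ∧
      q * w * q⁻¹ ≠ w := by
  decide +kernel

theorem a4_exp : ∀ x : alternatingGroup (Fin 4), x * x * (x * x) = 1 → x * x = 1 := by decide +kernel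

theorem a4_card : (Finset.univ.filter fun x : alternatingGroup (Fin 4) => x * x = 1).card = 4 := by
  decide +kernel

/-- In the direct product P = A₄ × A₄, let X be the Sylow 2-subgroup, X₁ and X₂ its intersections with the two direct factors, Q a Sylow 3-subgroup and Q₁, Q₂ its intersections with the two factors. Then every subgroup B of X of order 4 either meets X₁ or X₂ nontrivially, or is normalized by one of the two subgroups of Q of order 3 other than Q₁ and Q₂. -/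
theorem result
    (X : Sylow 2 (↥(alternatingGroup (Fin 4)) × ↥(alternatingGroup (Fin 4))))
    (Q : Sylow 3 (↥(alternatingGroup (Fin 4)) × ↥(alternatingGroup (Fin 4))))
    (B : Subgroup (↥(alternatingGroup (Fin 4)) × ↥(alternatingGroup (Fin 4)))) (hBX : B ≤ (X : Subgroup _)) (hB4 : Nat.card ↥B = 4) :
    B ⊓ ((X : Subgroup _) ⊓ Subgroup.prod ⊤ ⊥) ≠ ⊥ ∨ B ⊓ ((X : Subgroup _) ⊓ Subgroup.prod ⊥ ⊤) ≠ ⊥ ∨
      ∃ R : Subgroup (↥(alternatingGroup (Fin 4)) × ↥(alternatingGroup (Fin 4))), R ≤ (Q : Subgroup _) ∧ Nat.card ↥R = 3 ∧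
        R ≠ (Q : Subgroup _) ⊓ Subgroup.prod ⊤ ⊥ ∧ R ≠ (Q : Subgroup _) ⊓ Subgroup.prod ⊥ ⊤ ∧ R ≤ Subgroup.normalizer (B : Set _) := by
  classical
  by_cases h1 : B ⊓ ((X : Subgroup (↥(alternatingGroup (Fin 4)) × ↥(alternatingGroup (Fin 4)))) ⊓ Subgroup.prod ⊤ ⊥) ≠ ⊥
  · exact Or.inl h1
  by_cases h2 : B ⊓ ((X : Subgroup (↥(alternatingGroup (Fin 4)) × ↥(alternatingGroup (Fin 4)))) ⊓ Subgroup.prod ⊥ ⊤) ≠ ⊥
  · exact Or.inr (Or.inl h2)
  rw [not_not] at h1 h2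
  refine Or.inr (Or.inr ?_)
  have hsnd : ∀ b ∈ B, b.2 = 1 → b = 1 := fun b hb hb2 => by
    have : b ∈ B ⊓ ((X : Subgroup (↥(alternatingGroup (Fin 4)) × ↥(alternatingGroup (Fin 4)))) ⊓ Subgroup.prod ⊤ ⊥) :=
      Subgroup.mem_inf.2 ⟨hb, Subgroup.mem_inf.2 ⟨hBX hb,
        Subgroup.mem_prod.2 ⟨Subgroup.mem_top _, Subgroup.mem_bot.2 hb2⟩⟩⟩
    rwa [h1, Subgroup.mem_bot] at this
  have hfst : ∀ b ∈ B, b.1 = 1 → b = 1 := fun b hb hb1 => by
    have : b ∈ B ⊓ ((X : Subgroup (↥(alternatingGroup (Fin 4)) × ↥(alternatingGroup (Fin 4)))) ⊓ Subgroup.prod ⊥ ⊤) :=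
      Subgroup.mem_inf.2 ⟨hb, Subgroup.mem_inf.2 ⟨hBX hb,
        Subgroup.mem_prod.2 ⟨Subgroup.mem_bot.2 hb1, Subgroup.mem_top _⟩⟩⟩
    rwa [h2, Subgroup.mem_bot] at this
  have hsq : ∀ b ∈ B, b.1 * b.1 = 1 ∧ b.2 * b.2 = 1 := fun b hb => by
    have h4 : (⟨b, hb⟩ : B) ^ Nat.card B = 1 := pow_card_eq_one'
    rw [hB4] at h4
    have h5 : b ^ (2 + 2) = 1 := congrArg Subtype.val h4
    rw [pow_add, pow_two, Prod.ext_iff] at h5
    exact ⟨a4_exp _ h5.1, a4_exp _ h5.2⟩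
  let f : B → {x : ↥(alternatingGroup (Fin 4)) // x * x = 1} := fun b => ⟨(b : ↥(alternatingGroup (Fin 4)) × ↥(alternatingGroup (Fin 4))).1, (hsq _ b.2).1⟩
  have hfi : Function.Injective f := fun a b hab => by
    have h3 : (a : ↥(alternatingGroup (Fin 4)) × ↥(alternatingGroup (Fin 4))).1 = (b : ↥(alternatingGroup (Fin 4)) × ↥(alternatingGroup (Fin 4))).1 := congrArg Subtype.val hab
    have h4 := hfst _ (mul_mem (inv_mem a.2) b.2) (by simp [h3])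
    exact Subtype.ext (inv_mul_eq_one.1 h4)
  have hfb : Function.Bijective f := (Nat.bijective_iff_injective_and_card f).2 ⟨hfi, by
    rw [hB4, Nat.card_eq_fintype_card, Fintype.card_subtype, a4_card]⟩
  have hsurj : ∀ x : ↥(alternatingGroup (Fin 4)), x * x = 1 → ∃ b ∈ B, b.1 = x := fun x hx => by
    obtain ⟨b, hb⟩ := hfb.2 ⟨x, hx⟩
    exact ⟨b, b.2, congrArg Subtype.val hb⟩
  have huniq : ∀ a ∈ B, ∀ b ∈ B, a.1 = b.1 → a = b := fun a ha b hb h =>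
    congrArg Subtype.val (hfi (a₁ := ⟨a, ha⟩) (a₂ := ⟨b, hb⟩) (Subtype.ext h))
  -- elements of order three in both factors of `Q`
  haveI : Fact (Nat.Prime 3) := ⟨Nat.prime_three⟩
  have hA : Nat.card ↥(alternatingGroup (Fin 4)) = 12 := by
    rw [nat_card_alternatingGroup, Nat.card_eq_fintype_card, Fintype.card_fin]; rfl
  have hQc : Nat.card (Q : Subgroup (↥(alternatingGroup (Fin 4)) × ↥(alternatingGroup (Fin 4)))) = 9 := by
    rw [Q.card_eq_multiplicity, Nat.card_prod, hA]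
    have : (12 * 12).factorization 3 = 2 := by
      rw [show 12 * 12 = 2 ^ 4 * 3 ^ 2 by norm_num, Nat.factorization_mul (by norm_num) (by norm_num),
        Nat.prime_two.factorization_pow, (Fact.out : Nat.Prime 3).factorization_pow]
      simp
    rw [this]; norm_num
  have hproj : ∀ φ : ↥(alternatingGroup (Fin 4)) × ↥(alternatingGroup (Fin 4)) →* ↥(alternatingGroup (Fin 4)), Nat.card ((Q : Subgroup (↥(alternatingGroup (Fin 4)) × ↥(alternatingGroup (Fin 4)))).map φ) ≤ 3 := by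
    intro φ
    obtain ⟨k, hk⟩ := IsPGroup.iff_card.1 (Q.isPGroup'.map φ)
    have hd : Nat.card ((Q : Subgroup (↥(alternatingGroup (Fin 4)) × ↥(alternatingGroup (Fin 4)))).map φ) ∣ 12 := hA ▸ Subgroup.card_subgroup_dvd_card _
    rw [hk] at hd ⊢
    rcases Nat.lt_or_ge k 2 with hk2 | hk2
    · interval_cases k <;> norm_num
    · exact absurd ((pow_dvd_pow 3 hk2).trans hd) (by norm_num)
  set Q1 := (Q : Subgroup (↥(alternatingGroup (Fin 4)) × ↥(alternatingGroup (Fin 4)))).map (MonoidHom.fst ↥(alternatingGroup (Fin 4)) ↥(alternatingGroup (Fin 4))) with hQ1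
  set Q2 := (Q : Subgroup (↥(alternatingGroup (Fin 4)) × ↥(alternatingGroup (Fin 4)))).map (MonoidHom.snd ↥(alternatingGroup (Fin 4)) ↥(alternatingGroup (Fin 4))) with hQ2
  have hle : (Q : Subgroup (↥(alternatingGroup (Fin 4)) × ↥(alternatingGroup (Fin 4)))) ≤ Q1.prod Q2 := fun x hx =>
    Subgroup.mem_prod.2 ⟨⟨x, hx, rfl⟩, ⟨x, hx, rfl⟩⟩
  have hcp : Nat.card (Q1.prod Q2) = Nat.card Q1 * Nat.card Q2 := by
    rw [Nat.card_congr (Subgroup.prodEquiv Q1 Q2).toEquiv, Nat.card_prod]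
  have hc1 : Nat.card Q1 = 3 ∧ Nat.card Q2 = 3 ∧ (Q : Subgroup (↥(alternatingGroup (Fin 4)) × ↥(alternatingGroup (Fin 4)))) = Q1.prod Q2 := by
    have h9 := Subgroup.card_le_of_le hle
    rw [hcp, hQc] at h9
    have a1 : Nat.card Q1 ≤ 3 := hproj _
    have a2 : Nat.card Q2 ≤ 3 := hproj _
    have b1 : Nat.card Q1 = 3 := by nlinarith
    have b2 : Nat.card Q2 = 3 := by nlinarith
    exact ⟨b1, b2, Subgroup.eq_of_le_of_card_ge hle (by rw [hcp, hQc, b1, b2])⟩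
  obtain ⟨hc1, hc2, hQeq⟩ := hc1
  obtain ⟨q1, hq1⟩ := exists_prime_orderOf_dvd_card' (G := Q1) 3 (by rw [hc1])
  obtain ⟨q2, hq2⟩ := exists_prime_orderOf_dvd_card' (G := Q2) 3 (by rw [hc2])
  rw [← Subgroup.orderOf_coe] at hq1 hq2
  have cube : ∀ q : ↥(alternatingGroup (Fin 4)), orderOf q = 3 → q * q * q = 1 ∧ q ≠ 1 := fun q h =>
    ⟨by rw [← pow_two, ← pow_succ]; exact orderOf_dvd_iff_pow_eq_one.1 (dvd_of_eq h), fun e => by rw [e, orderOf_one] at h; omega⟩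
  obtain ⟨u, huB, hu1⟩ : ∃ b ∈ B, b ≠ 1 := by
    obtain ⟨b, hb, hb1⟩ := (Subgroup.bot_or_exists_ne_one B).resolve_left
      (fun e => by rw [e, Subgroup.card_bot] at hB4; omega)
    exact ⟨b, hb, hb1⟩
  have hw : u.1 ≠ 1 := fun e => hu1 (hfst u huB e)
  have hz : u.2 ≠ 1 := fun e => hu1 (hsnd u huB e)
  obtain ⟨hq1c, hq1n⟩ := cube _ hq1
  have L := a4_inv q1 u.1 u.1 hq1c hq1n (hsq u huB).1 hw (hsq u huB).1 hw
  obtain ⟨v, hvB, hv1⟩ := hsurj ((q1 : ↥(alternatingGroup (Fin 4))) * u.1 * (q1 : ↥(alternatingGroup (Fin 4)))⁻¹)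
    (by rw [show (q1 : ↥(alternatingGroup (Fin 4))) * u.1 * (q1 : ↥(alternatingGroup (Fin 4)))⁻¹ * ((q1 : ↥(alternatingGroup (Fin 4))) * u.1 * (q1 : ↥(alternatingGroup (Fin 4)))⁻¹) =
      (q1 : ↥(alternatingGroup (Fin 4))) * (u.1 * u.1) * (q1 : ↥(alternatingGroup (Fin 4)))⁻¹ by group, (hsq u huB).1, mul_one, mul_inv_cancel])
  have hvu : v ≠ u := fun e => L.2.2 (by rw [← hv1, e])
  have hv2 : v.2 ≠ 1 := fun e => by
    have := hsnd v hvB e
    rw [this, Prod.fst_one] at hv1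
    exact hw (conj_eq_one_iff.1 hv1.symm)
  obtain ⟨c, hcQ, hc, hc'⟩ : ∃ c ∈ Q2, orderOf c = 3 ∧ v.2 = c * u.2 * c⁻¹ := by
    obtain ⟨hq2c, hq2n⟩ := cube _ hq2
    rcases (a4_inv q2 u.2 v.2 hq2c hq2n (hsq u huB).2 hz (hsq v hvB).2 hv2).1 with h | h | h
    · exfalso
      have h5 := hsnd _ (mul_mem (inv_mem huB) hvB) (by simp [h])
      exact hvu (inv_mul_eq_one.1 h5).symm
    · exact ⟨q2, q2.2, hq2, h⟩
    · exact ⟨(q2 : ↥(alternatingGroup (Fin 4)))⁻¹, inv_mem q2.2, by rw [orderOf_inv, hq2], by rw [inv_inv]; exact h⟩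
  obtain ⟨hcc, hcn⟩ := cube _ hc
  have L2 := a4_inv c u.2 u.2 hcc hcn (hsq u huB).2 hz (hsq u huB).2 hz
  set r : ↥(alternatingGroup (Fin 4)) × ↥(alternatingGroup (Fin 4)) := ((q1 : ↥(alternatingGroup (Fin 4))), c) with hr
  have hrQ : r ∈ (Q : Subgroup (↥(alternatingGroup (Fin 4)) × ↥(alternatingGroup (Fin 4)))) := by
    rw [hQeq]; exact Subgroup.mem_prod.2 ⟨q1.2, hcQ⟩
  have hrord : orderOf r = 3 := orderOf_eq_prime (by
    rw [hr, pow_succ, pow_two]; exact Prod.ext hq1c hcc) (fun e => hcn (congrArg Prod.snd e))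
  have e1 : r * u * r⁻¹ = v := Prod.ext hv1.symm hc'.symm
  have e2 : r * v * r⁻¹ = u * v := Prod.ext
    (by show (q1 : ↥(alternatingGroup (Fin 4))) * v.1 * (q1 : ↥(alternatingGroup (Fin 4)))⁻¹ = u.1 * v.1; rw [hv1]; exact L.2.1)
    (by show c * v.2 * c⁻¹ = u.2 * v.2; rw [hc']; exact L2.2.1)
  have hall : ∀ b ∈ B, b = 1 ∨ b = u ∨ b = v ∨ b = u * v := by
    intro b hb
    by_cases hb1 : b.1 = 1
    · exact Or.inl (hfst b hb hb1)
    rcases (a4_inv q1 u.1 b.1 hq1c hq1n (hsq u huB).1 hw (hsq b hb).1 hb1).1 with h | h | h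
    · exact Or.inr (Or.inl (huniq b hb u huB h))
    · exact Or.inr (Or.inr (Or.inl (huniq b hb v hvB (h.trans hv1.symm))))
    · refine Or.inr (Or.inr (Or.inr (huniq b hb _ (mul_mem huB hvB) ?_)))
      rw [Prod.fst_mul, hv1, ← L.2.1, h]
      calc (q1 : ↥(alternatingGroup (Fin 4)))⁻¹ * u.1 * (q1 : ↥(alternatingGroup (Fin 4)))
          = (q1 : ↥(alternatingGroup (Fin 4)))⁻¹ * ((q1 : ↥(alternatingGroup (Fin 4))) * (q1 : ↥(alternatingGroup (Fin 4))) * (q1 : ↥(alternatingGroup (Fin 4)))) * u.1 * ((q1 : ↥(alternatingGroup (Fin 4))) * (q1 : ↥(alternatingGroup (Fin 4))) * (q1 : ↥(alternatingGroup (Fin 4))))⁻¹ * (q1 : ↥(alternatingGroup (Fin 4))) := by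
            rw [hq1c]; simp
        _ = _ := by group
  refine ⟨Subgroup.zpowers r, Subgroup.zpowers_le.2 hrQ, by rw [Nat.card_zpowers, hrord],
    fun e => hcn ?_, fun e => hq1n ?_, Subgroup.zpowers_le.2 (Subgroup.mem_normalizer_fintype fun b hb => ?_)⟩
  · have := Subgroup.mem_zpowers r
    rw [e] at this
    exact Subgroup.mem_bot.1 (Subgroup.mem_prod.1 (Subgroup.mem_inf.1 this).2).2
  · have := Subgroup.mem_zpowers r
    rw [e] at this
    exact Subgroup.mem_bot.1 (Subgroup.mem_prod.1 (Subgroup.mem_inf.1 this).2).1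
  · rcases hall b hb with rfl | rfl | rfl | rfl
    · rw [mul_one, mul_inv_cancel]; exact one_mem B
    · rw [e1]; exact hvB
    · rw [e2]; exact mul_mem huB hvB
    · have : r * (u * v) * r⁻¹ = (r * u * r⁻¹) * (r * v * r⁻¹) := by group
      rw [this, e1, e2]
      exact mul_mem hvB (mul_mem huB hvB)

end Cfsg.Agent.S4406
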