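import Cfsg.Statements.S4408
import Cfsg.Agent.Lib.Solv.Coprime
import Cfsg.Agent.Lib.Solv.Basic
import Cfsg.Agent.Lib.Solv.Thompson
import Cfsg.Agent.Lib.Solv.Subnormal

set_option autoImplicit false
open scoped Pointwise
open Cfsg

namespace Cfsg.Agent.S4408

section Helpers

open Subgroup Cfsg.Agent

variable {S : Type*} [Group S] [Finite S]

theorem eq_of_sq_eq {a b : S} (ha : Odd (orderOf a)) (hb : Odd (orderOf b)) (h : a ^ 2 = b ^ 2) : a = b := by
  obtain ⟨m, hm⟩ := ha
  obtain ⟨n, hn⟩ := hb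
  have e : ∀ (c : S) (k l : ℕ), orderOf c = 2 * k + 1 → (c ^ 2) ^ ((l + 1) * (2 * k + 1) - k) = c := by
    intro c k l hc
    rw [← pow_mul, show 2 * ((l + 1) * (2 * k + 1) - k) = (2 * k + 1) * (2 * l + 1) + 1 by
      have : k ≤ (l + 1) * (2 * k + 1) := le_trans (by omega : k ≤ 1 * (2 * k + 1)) (Nat.mul_le_mul_right _ (by omega))
      zify [this] ; ring, pow_succ, pow_mul, ← hc, pow_orderOf_eq_one, one_pow, one_mul]
  have h1 := e a m n hm
  have h2 := e b n m hn
  have : (n + 1) * (2 * m + 1) - m = (m + 1) * (2 * n + 1) - n := by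
    have : (n + 1) * (2 * m + 1) + n = (m + 1) * (2 * n + 1) + m := by ring
    omega
  rw [h, this, h2] at h1
  exact h1.symm

/-- An element inverted by `j` may be replaced by one fixed or inverted by a commuting involution `i`. -/
theorem exists_eigen (W : Subgroup S) (hW : Odd (Nat.card W)) {i j x : S} (hi : i * i = 1) (hij : i * j = j * i)
    (hjW : ∀ w ∈ W, j * w * j⁻¹ ∈ W) (hiW : ∀ w ∈ W, i * w * i⁻¹ ∈ W) (hx : x ∈ W) (hxj : j * x * j⁻¹ = x⁻¹) (hx1 : x ≠ 1) :
    ∃ c, (c = i ∨ c = i * j) ∧ ∃ y ∈ W, y ≠ 1 ∧ j * y * j⁻¹ = y⁻¹ ∧ c * y = y * c := by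
  have hodd : ∀ w ∈ W, Odd (orderOf w) := fun w hw => hW.of_dvd_nat (Subgroup.orderOf_dvd_natCard _ hw)
  obtain ⟨m, hm⟩ := hW
  have hroot : ∀ w ∈ W, w ^ (m + 1) ∈ W ∧ (w ^ (m + 1)) ^ 2 = w := fun w hw => by
    refine ⟨pow_mem hw _, ?_⟩
    have h1 : w ^ Nat.card W = 1 := orderOf_dvd_iff_pow_eq_one.1 (Subgroup.orderOf_dvd_natCard _ hw)
    rw [← pow_mul, show (m + 1) * 2 = Nat.card W + 1 by omega, pow_succ, h1, one_mul]
  set y := i * x * i⁻¹ with hy
  set u := x ^ (m + 1) with hu
  obtain ⟨huW, hu2⟩ := hroot x hx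
  set d := u⁻¹ * y * u⁻¹ with hd
  have hdW : d ∈ W := mul_mem (mul_mem (inv_mem huW) (hiW x hx)) (inv_mem huW)
  set r := d ^ (m + 1) with hr
  obtain ⟨hrW, hr2⟩ := hroot d hdW
  set z := u * r * u with hz
  have hzW : z ∈ W := mul_mem (mul_mem huW hrW) huW
  have hjy : j * y * j⁻¹ = y⁻¹ := by
    calc j * y * j⁻¹ = (j * i) * x * (j * i)⁻¹ := by rw [hy]; group
      _ = i * (j * x * j⁻¹) * i⁻¹ := by rw [← hij]; group
      _ = y⁻¹ := by rw [hxj, hy]; group
  -- `z` is the unique solution of `z x⁻¹ z = y`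
  have hzeq : z * x⁻¹ * z = y := by
    rw [hz, ← hu2]
    calc u * r * u * (u ^ 2)⁻¹ * (u * r * u) = u * r ^ 2 * u := by rw [pow_two, pow_two]; group
      _ = y := by rw [hr2, hd]; group
  have huniq : ∀ w ∈ W, w * x⁻¹ * w = y → w = z := by
    intro w hw h
    have h1 : (u⁻¹ * w * u⁻¹) ^ 2 = r ^ 2 := by
      have hxu : x⁻¹ = (u ^ 2)⁻¹ := by rw [hu2]
      rw [hr2, hd, ← h, hxu, pow_two, pow_two]; group
    have h2 := eq_of_sq_eq (hodd _ (mul_mem (mul_mem (inv_mem huW) hw) (inv_mem huW))) (hodd _ hrW) h1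
    calc w = u * (u⁻¹ * w * u⁻¹) * u := by group
      _ = z := by rw [h2]
  have hiz : i * z * i⁻¹ = z := by
    refine huniq _ (hiW z hzW) ?_
    have hix : i * y * i⁻¹ = x := by
      rw [hy]
      calc i * (i * x * i⁻¹) * i⁻¹ = (i * i) * x * (i * i)⁻¹ := by group
        _ = x := by rw [hi]; group
    -- `z` also solves the symmetric equation
    have hsym : z * y⁻¹ * z = x := by rw [← hzeq]; group
    have h3 := congrArg (fun t => i * t * i⁻¹) hsym
    rw [← hy] at h3
    rw [← h3]
    conv_lhs => rw [show x⁻¹ = i * y⁻¹ * i⁻¹ by rw [← hix]; group]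
    group
  have hjz : j * z * j⁻¹ = z⁻¹ := by
    have h1 : (j * z * j⁻¹)⁻¹ = z := by
      refine huniq _ (inv_mem (hjW z hzW)) ?_
      have h4 := congrArg (fun t => (j * t * j⁻¹)⁻¹) hzeq
      rw [hjy, inv_inv] at h4
      rw [← h4]
      calc (j * z * j⁻¹)⁻¹ * x⁻¹ * (j * z * j⁻¹)⁻¹ = (j * z * j⁻¹)⁻¹ * (j * x * j⁻¹) * (j * z * j⁻¹)⁻¹ := by rw [hxj]
        _ = _ := by group
    conv_rhs => rw [← h1]
    rw [inv_inv]
  by_cases hz1 : z = 1
  · refine ⟨i * j, Or.inr rfl, x, hx, hx1, hxj, ?_⟩
    rw [hz1, one_mul, mul_one] at hzeq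
    calc i * j * x = i * (j * x * j⁻¹) * j := by group
      _ = (i * x * i⁻¹)⁻¹ * (i * j) := by rw [hxj]; group
      _ = x * (i * j) := by rw [← hy, ← hzeq, inv_inv]
  · exact ⟨i, Or.inl rfl, z, hzW, hz1, hjz, mul_inv_eq_iff_eq_mul.1 hiz⟩

end Helpers

/-- Let S be a finite solvable group whose Fitting subgroup F(S) has odd order, and let I be an elementary abelian 2-subgroup of S of order 2ⁿ with n ≥ 1. Then F(S) contains subgroups A₁, …, Aₙ of prime order, each normalized by I, pairwise commuting and generating a subgroup A of order |A₁|⋯|Aₙ| (their internal direct product), such that no non-identity element of I centralizes A. -/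
theorem result {S : Type*} [Group S] [Finite S]
    [Group.IsSolvable S] (hF : Odd (Nat.card ↥(Cfsg.fittingSubgroup S)))
    (I : Subgroup S) (hI : Cfsg.IsElementaryAbelian 2 I) (n : ℕ) (hn : 1 ≤ n) (hIn : Nat.card ↥I = 2 ^ n) :
    ∃ f : Fin n → Subgroup S, (∀ i, (Nat.card ↥(f i)).Prime) ∧ (∀ i, f i ≤ Cfsg.fittingSubgroup S) ∧
      (∀ i, I ≤ Subgroup.normalizer ((f i) : Set S)) ∧ (∀ i j, i ≠ j → ∀ a ∈ f i, ∀ b ∈ f j, a * b = b * a) ∧
      Nat.card ↥(⨆ i, f i) = ∏ i, Nat.card ↥(f i) ∧ I ⊓ Subgroup.centralizer ((⨆ i, f i : Subgroup S) : Set S) = ⊥ := by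
  open Subgroup Cfsg.Agent in
  classical
  haveI : Fintype S := Fintype.ofFinite S
  set F := Cfsg.fittingSubgroup S with hFdef
  haveI hFn : F.Normal := Solv.fittingSubgroup_normal S
  have hcomm : ∀ a ∈ I, ∀ b ∈ I, a * b = b * a := fun a ha b hb =>
    haveI := hI.1; congrArg Subtype.val (mul_comm' (⟨a, ha⟩ : I) ⟨b, hb⟩)
  have hsq : ∀ a ∈ I, a * a = 1 := fun a ha => by rw [← pow_two]; exact hI.2 a ha
  have key : ∀ k : ℕ, k ≤ n → ∃ f : Fin k → Subgroup S, (∀ i, (Nat.card ↥(f i)).Prime) ∧ (∀ i, f i ≤ F) ∧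
      (∀ i, I ≤ normalizer ((f i) : Set S)) ∧ (∀ i j, i ≠ j → ∀ a ∈ f i, ∀ b ∈ f j, a * b = b * a) ∧
      Nat.card ↥(⨆ i, f i) = ∏ i, Nat.card ↥(f i) ∧
      2 ^ k * Nat.card ↥(I ⊓ centralizer ((⨆ i, f i : Subgroup S) : Set S)) = 2 ^ n := by
    intro k
    induction k with
    | zero =>
      intro _
      have e : ∀ f : Fin 0 → Subgroup S, (⨆ i, f i) = ⊥ := fun f => iSup_of_empty f
      refine ⟨fun i => i.elim0, fun i => i.elim0, fun i => i.elim0, fun i => i.elim0, fun i => i.elim0,
        by rw [e, card_bot, Fin.prod_univ_zero], ?_⟩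
      rw [pow_zero, one_mul, ← hIn, e]
      congr 2
      refine inf_eq_left.2 fun a _ => mem_centralizer_iff.2 fun b hb => ?_
      rw [show b = 1 from mem_bot.1 hb, one_mul, mul_one]
    | succ k ih =>
      intro hk
      obtain ⟨f, hfp, hfF, hfI, hfc, hfcard, hJ⟩ := ih (by omega)
      set B := ⨆ i, f i with hB
      set J := I ⊓ centralizer (B : Set S)
      have hJne : J ≠ ⊥ := by
        intro e
        rw [e, card_bot, mul_one] at hJ
        have := Nat.pow_right_injective le_rfl hJ
        omega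
      -- some `J`-nontrivial part of the centraliser of `B`
      obtain ⟨p, hpf, hW⟩ : ∃ p : ℕ, p.Prime ∧ ¬ (Cfsg.pCore p S ⊓ centralizer (B : Set S)) ≤ centralizer (J : Set S) := by
        by_contra hno
        push Not at hno
        refine hJne (eq_bot_iff.2 fun t ht => ?_)
        have ht2 : t * t = 1 := hsq t ht.1
        have hJF : J ≤ centralizer (F : Set S) := by
          rw [le_centralizer_iff, hFdef, Solv.fittingSubgroup_eq_iSup_pCore]
          refine iSup_le fun q => ?_
          haveI : Fact (q : ℕ).Prime := ⟨q.2⟩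
          rw [le_centralizer_iff]
          by_cases hq2 : Nat.card (Cfsg.pCore (q : ℕ) S) = 1
          · rw [(card_eq_one (H := Cfsg.pCore (q : ℕ) S)).1 hq2]
            exact fun x _ => mem_centralizer_iff.2 fun y hy => by rw [mem_bot.1 hy, one_mul, mul_one]
          have hqodd : (q : ℕ) ≠ 2 := by
            intro e
            obtain ⟨a, ha⟩ := IsPGroup.iff_card.1 (Solv.isPGroup_pCore (q : ℕ) S)
            have h2 := hF.of_dvd_nat (card_dvd_of_le (Solv.pCore_le_fittingSubgroup (G := S) (q : ℕ)))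
            rw [ha, e] at h2
            rcases Nat.eq_zero_or_pos a with rfl | ha0
            · exact hq2 (by rw [ha, pow_zero])
            · exact absurd h2 (Nat.not_odd_iff_even.2 (Nat.even_pow.2 ⟨even_two, by omega⟩))
          set P := Cfsg.pCore (q : ℕ) S ⊓ B
          have hJco : (Nat.card J).Coprime (q : ℕ) := by
            obtain ⟨a, -, ha⟩ := (Nat.dvd_prime_pow Nat.prime_two).1 (hIn ▸ card_dvd_of_le (inf_le_left : J ≤ I) : Nat.card J ∣ 2 ^ n)
            rw [ha]
            exact ((Nat.coprime_primes Nat.prime_two q.2).2 (Ne.symm hqodd)).pow_left a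
          refine Solv.thompson_pq (q : ℕ) P J (Cfsg.pCore (q : ℕ) S) ((Solv.isPGroup_pCore (q : ℕ) S).to_le inf_le_left) hJco
            (Solv.isPGroup_pCore (q : ℕ) S) ?_ ((normalizer_eq_top (Cfsg.pCore (q : ℕ) S)).symm ▸ le_top)
            ((normalizer_eq_top (Cfsg.pCore (q : ℕ) S)).symm ▸ le_top) ?_
          · rw [le_centralizer_iff]
            exact inf_le_right.trans (centralizer_le inf_le_right)
          · refine le_trans (le_inf inf_le_left ?_) (hno _ q.2)
            rw [hB, le_centralizer_iff]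
            refine iSup_le fun i => ?_
            rw [le_centralizer_iff]
            haveI : Fact (Nat.card ↥(f i)).Prime := ⟨hfp i⟩
            have hfi : f i ≤ Cfsg.pCore (Nat.card ↥(f i)) S := by
              have h1 : IsPGroup (Nat.card ↥(f i)) (f i) := IsPGroup.of_card (n := 1) (pow_one _).symm
              haveI := Solv.fittingSubgroup_isNilpotent S
              refine Solv.le_pCore_of_isSubnormal ?_ h1
              exact IsSubnormal.trans (hfF i) (Solv.isSubnormal_of_isNilpotent ((f i).subgroupOf F)) hFn.isSubnormal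
            by_cases hqi : (q : ℕ) = Nat.card ↥(f i)
            · exact inf_le_right.trans (centralizer_le fun x hx => (⟨hqi ▸ hfi hx, hB ▸ mem_iSup_of_mem i hx⟩ : x ∈ P))
            · intro x hx
              rw [mem_centralizer_iff]
              intro y hy
              obtain ⟨a, ha⟩ := IsPGroup.iff_card.1 (Solv.isPGroup_pCore (q : ℕ) S)
              obtain ⟨b, hb⟩ := IsPGroup.iff_card.1 (Solv.isPGroup_pCore (Nat.card ↥(f i)) S)
              exact (Subgroup.commute_of_normal_of_disjoint _ _ inferInstance inferInstance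
                (Subgroup.disjoint_of_coprime_natCard (by rw [ha, hb]; exact ((Nat.coprime_primes (hfp i) q.2).2 (Ne.symm hqi)).pow _ _))
                y x (hfi hy) hx.1).eq
        have htF : t ∈ F := Solv.centralizer_fittingSubgroup_le (hJF ht)
        have : orderOf t = 1 := by
          have h1 : orderOf t ∣ 2 := orderOf_dvd_of_pow_eq_one (by rw [pow_two, ht2])
          exact Nat.eq_one_of_dvd_coprimes (Nat.coprime_two_left.2 hF) h1 (Subgroup.orderOf_dvd_natCard _ htF)
        rw [mem_bot]; exact orderOf_eq_one_iff.1 this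
      haveI : Fact p.Prime := ⟨hpf⟩
      set W := Cfsg.pCore p S ⊓ centralizer (B : Set S) with hWdef
      have hWodd : Odd (Nat.card W) :=
        hF.of_dvd_nat (card_dvd_of_le (inf_le_left.trans (Solv.pCore_le_fittingSubgroup p)))
      have hIB : I ≤ normalizer (B : Set S) := by
        intro t ht
        have h1 : ∀ t ∈ I, ∀ x ∈ B, t * x * t⁻¹ ∈ B := by
          intro t ht x hx
          have : B ≤ B.comap (MulAut.conj t).toMonoidHom := by
            rw [hB]
            exact iSup_le fun i z hz => mem_iSup_of_mem i ((mem_normalizer_iff.1 (hfI i ht) z).1 hz)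
          exact this hx
        rw [mem_normalizer_iff]
        refine fun x => ⟨h1 t ht x, fun hx => ?_⟩
        simpa [mul_assoc] using h1 t⁻¹ (inv_mem ht) _ hx
      have hWI : ∀ t ∈ I, ∀ w ∈ W, t * w * t⁻¹ ∈ W := by
        intro t ht w hw
        refine ⟨Normal.conj_mem inferInstance w hw.1 t, mem_centralizer_iff.2 fun b hb => ?_⟩
        have hb' : t⁻¹ * b * t ∈ B := by simpa using (mem_normalizer_iff.1 (inv_mem (hIB ht)) b).1 hb
        have h2 := mem_centralizer_iff.1 hw.2 _ hb'
        calc b * (t * w * t⁻¹) = t * ((t⁻¹ * b * t) * w) * t⁻¹ := by group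
          _ = t * w * t⁻¹ * b := by rw [h2]; group
      obtain ⟨v, hv, hvJ⟩ := SetLike.not_le_iff_exists.1 hW
      obtain ⟨j, hjJ, hjv⟩ : ∃ j ∈ J, j * v ≠ v * j := by
        by_contra hno
        push Not at hno
        exact hvJ (mem_centralizer_iff.2 hno)
      have hjI : j ∈ I := hjJ.1
      have hjinv : j⁻¹ = j := inv_eq_of_mul_eq_one_right (hsq j hjI)
      -- an element inverted by `j` on which all of `I` acts as `±1`
      obtain ⟨x, hxW, hx1, hxj, hxI⟩ : ∃ x ∈ W, x ≠ 1 ∧ j * x * j⁻¹ = x⁻¹ ∧ ∀ i ∈ I, i * x = x * i ∨ (i * j) * x = x * (i * j) := by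
        suffices h : ∀ s : Finset S, (∀ i ∈ s, i ∈ I) → ∃ W' : Subgroup S, W' ≤ W ∧ (∀ t ∈ I, ∀ w ∈ W', t * w * t⁻¹ ∈ W') ∧
            (∃ x ∈ W', x ≠ 1 ∧ j * x * j⁻¹ = x⁻¹) ∧ ∀ i ∈ s, (∀ w ∈ W', i * w = w * i) ∨ ∀ w ∈ W', (i * j) * w = w * (i * j) by
          obtain ⟨W', hW', -, ⟨x, hx, hx1, hxj⟩, hs⟩ := h (Finset.univ.filter fun i => i ∈ I) (fun i hi => (Finset.mem_filter.1 hi).2)
          refine ⟨x, hW' hx, hx1, hxj, fun i hi => ?_⟩
          exact (hs i (Finset.mem_filter.2 ⟨Finset.mem_univ i, hi⟩)).imp (fun h => h x hx) (fun h => h x hx)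
        intro s
        induction s using Finset.induction_on with
        | empty =>
          intro _
          refine ⟨W, le_rfl, hWI, ⟨v⁻¹ * (j * v * j⁻¹), mul_mem (inv_mem hv) (hWI j hjI v hv), ?_, ?_⟩, fun i hi => absurd hi (Finset.notMem_empty i)⟩
          · intro e
            exact hjv (mul_inv_eq_iff_eq_mul.1 (inv_mul_eq_one.1 e).symm)
          · calc j * (v⁻¹ * (j * v * j⁻¹)) * j⁻¹ = j * v⁻¹ * j * v * (j * j)⁻¹ := by group
              _ = j * v⁻¹ * j⁻¹ * v := by rw [hsq j hjI, inv_one, mul_one, hjinv]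
              _ = _ := by group
        | insert i s his ih =>
          intro hs
          obtain ⟨W', hW', hW'I, ⟨x, hx, hx1, hxj⟩, hold⟩ := ih fun t ht => hs t (Finset.mem_insert_of_mem ht)
          have hiI := hs i (Finset.mem_insert_self i s)
          obtain ⟨c, hc, y, hy, hy1, hyj, hcy⟩ := exists_eigen W' (hWodd.of_dvd_nat (card_dvd_of_le hW')) (hsq i hiI)
            (hcomm i hiI j hjI) (hW'I j hjI) (hW'I i hiI) hx hxj hx1
          have hcI : c ∈ I := by
            rcases hc with rfl | rfl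
            · exact hiI
            · exact mul_mem hiI hjI
          refine ⟨W' ⊓ centralizer ({c} : Set S), inf_le_left.trans hW', fun t ht w hw => ⟨hW'I t ht w hw.1, ?_⟩,
            ⟨y, ⟨hy, mem_centralizer_singleton_iff.2 hcy.symm⟩, hy1, hyj⟩, ?_⟩
          · refine mem_centralizer_singleton_iff.2 ?_
            have h1 : Commute w c := mem_centralizer_singleton_iff.1 hw.2
            have h2 : Commute t c := hcomm t ht c hcI
            exact ((h2.mul_left h1).mul_left h2.inv_left).eq
          · intro t ht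
            rcases Finset.mem_insert.1 ht with rfl | ht
            · rcases hc with rfl | rfl
              · exact Or.inl fun w hw => (mem_centralizer_singleton_iff.1 hw.2).symm
              · exact Or.inr fun w hw => (mem_centralizer_singleton_iff.1 hw.2).symm
            · exact (hold t ht).imp (fun h w hw => h w hw.1) (fun h w hw => h w hw.1)
      -- a subgroup of prime order
      obtain ⟨r, hr, hrd⟩ := Nat.exists_prime_and_dvd (show orderOf x ≠ 1 from fun e => hx1 (orderOf_eq_one_iff.1 e))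
      set y := x ^ (orderOf x / r) with hy
      have hyo : orderOf y = r := orderOf_pow_orderOf_div (orderOf_pos x).ne' hrd
      have hyW : y ∈ W := pow_mem hxW _
      have hy1 : y ≠ 1 := fun e => hr.ne_one (by rw [← hyo, e, orderOf_one])
      have hyj : j * y * j⁻¹ = y⁻¹ := by rw [hy, ← conj_pow, hxj, inv_pow]
      have hrodd : r ≠ 2 := by
        intro e
        have h2 := hWodd.of_dvd_nat (Subgroup.orderOf_dvd_natCard _ hyW)
        rw [hyo, e] at h2
        exact absurd h2 (by decide)
      have hyI : ∀ i ∈ I, i * y * i⁻¹ = y ∨ i * y * i⁻¹ = y⁻¹ := by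
        intro i hi
        rcases hxI i hi with h | h
        · left
          rw [hy, ← conj_pow, h, mul_inv_cancel_right]
        · right
          rw [← hyj, hy, ← conj_pow, ← conj_pow]
          congr 1
          calc i * x * i⁻¹ = i * (x * (i * j)) * (i * j)⁻¹ * i⁻¹ := by group
            _ = (i * i) * (j * x * j⁻¹) * (i * i)⁻¹ := by rw [← h]; group
            _ = j * x * j⁻¹ := by rw [hsq i hi]; group
      set A := zpowers y with hA
      have hAB : A ⊓ B = ⊥ := by
        rw [eq_bot_iff]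
        rintro z ⟨hz1, hz2⟩
        obtain ⟨a, rfl⟩ := mem_zpowers_iff.1 hz1
        have h1 : j * y ^ a * j⁻¹ = (y ^ a)⁻¹ := by rw [← conj_zpow, hyj, inv_zpow]
        rw [← mem_centralizer_iff.1 hjJ.2 (y ^ a) hz2, mul_inv_cancel_right] at h1
        have h2 : orderOf (y ^ a) ∣ 2 := orderOf_dvd_of_pow_eq_one (by
          rw [pow_two]
          nth_rewrite 1 [h1]
          exact inv_mul_cancel _)
        have h3 : orderOf (y ^ a) ∣ r := hyo ▸ orderOf_dvd_of_mem_zpowers (zpow_mem (mem_zpowers y) a)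
        rw [mem_bot, ← orderOf_eq_one_iff]
        exact Nat.eq_one_of_dvd_coprimes ((Nat.coprime_primes Nat.prime_two hr).2 (Ne.symm hrodd)) h2 h3
      have hAB' : ∀ b ∈ B, y * b = b * y := fun b hb => (mem_centralizer_iff.1 hyW.2 b hb).symm
      refine ⟨Fin.snoc f A, ?_, ?_, ?_, ?_, ?_, ?_⟩
      · intro i
        refine Fin.lastCases ?_ (fun i => ?_) i
        · rw [Fin.snoc_last, Nat.card_zpowers, hyo]; exact hr
        · rw [Fin.snoc_castSucc]; exact hfp i
      · intro i
        refine Fin.lastCases ?_ (fun i => ?_) i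
        · rw [Fin.snoc_last]
          exact zpowers_le.2 (Solv.pCore_le_fittingSubgroup p hyW.1)
        · rw [Fin.snoc_castSucc]; exact hfF i
      · intro i
        refine Fin.lastCases ?_ (fun i => ?_) i
        · rw [Fin.snoc_last]
          intro t ht
          rw [mem_normalizer_iff_map_conj_eq]
          refine eq_of_le_of_card_ge ?_ (card_map_of_injective (MulAut.conj t).injective).ge
          rw [hA, MonoidHom.map_zpowers, zpowers_le]
          show t * y * t⁻¹ ∈ zpowers y
          rcases hyI t ht with h | h <;> rw [h]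
          · exact mem_zpowers y
          · exact inv_mem (mem_zpowers y)
        · rw [Fin.snoc_castSucc]; exact hfI i
      · have hlast : ∀ i : Fin k, ∀ a ∈ A, ∀ b ∈ f i, a * b = b * a := by
          intro i a ha b hb
          obtain ⟨e, rfl⟩ := mem_zpowers_iff.1 ha
          exact ((show Commute y b from hAB' b (hB ▸ mem_iSup_of_mem i hb)).zpow_left e).eq
        intro i l hil
        refine Fin.lastCases ?_ (fun i => ?_) i hil <;> intro hil <;> revert hil <;> refine Fin.lastCases ?_ (fun l => ?_) l <;> intro hil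
        · exact absurd rfl hil
        · rw [Fin.snoc_last, Fin.snoc_castSucc]; exact hlast l
        · rw [Fin.snoc_last, Fin.snoc_castSucc]; exact fun a ha b hb => (hlast i b hb a ha).symm
        · rw [Fin.snoc_castSucc, Fin.snoc_castSucc]; exact hfc i l fun e => hil (by rw [e])
      all_goals
        have hsup : (⨆ i, (Fin.snoc f A : Fin (k + 1) → Subgroup S) i) = B ⊔ A := by
          refine le_antisymm (iSup_le fun i => ?_) (sup_le (iSup_le fun i => ?_) ?_)
          · refine Fin.lastCases ?_ (fun i => ?_) i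
            · rw [Fin.snoc_last]; exact le_sup_right
            · rw [Fin.snoc_castSucc]; exact le_sup_of_le_left (le_iSup f i)
          · exact le_trans (by rw [Fin.snoc_castSucc]) (le_iSup _ i.castSucc)
          · exact le_trans (by rw [Fin.snoc_last]) (le_iSup _ (Fin.last k))
      · have hn : A ≤ normalizer (B : Set S) := by
          rw [hA, zpowers_le]
          exact centralizer_le_normalizer _ hyW.2
        have h1 := Solv.card_sup_mul_card_inf B A hn
        rw [inf_comm, hAB, card_bot, mul_one, hfcard] at h1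
        rw [hsup, h1, Fin.prod_univ_castSucc, Fin.snoc_last]
        simp only [Fin.snoc_castSucc]
      · set J' := I ⊓ centralizer ((⨆ i, (Fin.snoc f A : Fin (k + 1) → Subgroup S) i : Subgroup S) : Set S) with hJ'
        have hJ'eq : ∀ t, t ∈ J' ↔ t ∈ J ∧ t * y = y * t := by
          intro t
          rw [hJ', hsup]
          constructor
          · rintro ⟨h1, h2⟩
            exact ⟨⟨h1, centralizer_le (SetLike.coe_subset_coe.2 (le_sup_left : B ≤ B ⊔ A)) h2⟩, (mem_centralizer_iff.1 h2 y (mem_sup_right (mem_zpowers y))).symm⟩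
          · rintro ⟨⟨h1, h2⟩, h3⟩
            refine ⟨h1, (le_centralizer_iff.1 (sup_le (le_centralizer_iff.1 (zpowers_le.2 h2)) ?_)) (mem_zpowers t)⟩
            rw [hA, le_centralizer_iff, zpowers_le]
            refine mem_centralizer_iff.2 fun z hz => ?_
            obtain ⟨e, rfl⟩ := mem_zpowers_iff.1 hz
            exact ((show Commute y t from h3.symm).zpow_left e).eq
        have hjn : j ∉ J' := by
          intro h
          have h1 := ((hJ'eq j).1 h).2
          rw [h1, mul_inv_cancel_right] at hyj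
          have : orderOf y ∣ 2 := orderOf_dvd_of_pow_eq_one (by rw [pow_two]; nth_rewrite 1 [hyj]; exact inv_mul_cancel _)
          rw [hyo, Nat.prime_dvd_prime_iff_eq hr Nat.prime_two] at this
          exact hrodd this
        have hle : J' ≤ J := fun t ht => ((hJ'eq t).1 ht).1
        have hzn : zpowers j ≤ normalizer (J' : Set S) := by
          rw [zpowers_le]
          exact centralizer_le_normalizer _ (mem_centralizer_iff.2 fun z hz => hcomm z hz.1 j hjI)
        have hJeq : J ≤ J' ⊔ zpowers j := by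
          intro t ht
          rcases hyI t ht.1 with h | h
          · exact mem_sup_left ((hJ'eq t).2 ⟨ht, mul_inv_eq_iff_eq_mul.1 h⟩)
          · have h5 : j * t ∈ J' := by
              refine (hJ'eq _).2 ⟨mul_mem hjJ ht, mul_inv_eq_iff_eq_mul.1 ?_⟩
              calc j * t * y * (j * t)⁻¹ = j * (t * y * t⁻¹) * j⁻¹ := by group
                _ = (j * y * j⁻¹)⁻¹ := by rw [h]; group
                _ = y := by rw [hyj, inv_inv]
            rw [show t = j⁻¹ * (j * t) by group]
            exact mul_mem (mem_sup_right (inv_mem (mem_zpowers j))) (mem_sup_left h5)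
        have hjo : orderOf j = 2 := orderOf_eq_prime (hI.2 j hjI) fun e => hjn (by rw [e]; exact one_mem _)
        have h6 : Nat.card J ≤ Nat.card J' * 2 := by
          refine (card_le_of_le hJeq).trans (Nat.le_of_dvd (Nat.mul_pos Nat.card_pos two_pos) ?_)
          have := Solv.card_sup_dvd J' (zpowers j) hzn
          rwa [Nat.card_zpowers, hjo] at this
        have h7 : Nat.card J' * 2 ∣ Nat.card J := by
          obtain ⟨a, -, ha⟩ := (Nat.dvd_prime_pow Nat.prime_two).1 (hIn ▸ card_dvd_of_le (inf_le_left : J ≤ I) : Nat.card J ∣ 2 ^ n)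
          obtain ⟨b, -, hb⟩ := (Nat.dvd_prime_pow Nat.prime_two).1 (hIn ▸ card_dvd_of_le (inf_le_left : J' ≤ I) : Nat.card J' ∣ 2 ^ n)
          have h8 : Nat.card J' < Nat.card J := lt_of_le_of_ne (card_le_of_le hle) fun e => hjn ((eq_of_le_of_card_ge hle e.ge).ge hjJ)
          rw [ha, hb] at h8
          rw [ha, hb, ← pow_succ]
          exact pow_dvd_pow 2 ((Nat.pow_lt_pow_iff_right one_lt_two).1 h8)
        have h9 := Nat.le_antisymm h6 (Nat.le_of_dvd Nat.card_pos h7)
        rw [h9] at hJ
        rw [← hJ]; ring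
  obtain ⟨f, h1, h2, h3, h4, h5, h6⟩ := key n le_rfl
  refine ⟨f, h1, h2, h3, h4, h5, ?_⟩
  exact card_eq_one.1 (Nat.eq_of_mul_eq_mul_left (pow_pos two_pos n) (h6.trans (mul_one _).symm))

end Cfsg.Agent.S4408
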