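import Cfsg.Statements.S4419
import Cfsg.Agent.Lib.Solv.NormalPComplement
import Cfsg.Agent.Lib.Solv.Coprime
import Cfsg.Agent.Lib.Struct.CoprimeMinimal

set_option autoImplicit false
open scoped Pointwise
open Cfsg

namespace Cfsg.Agent.S4419

/-- Let p be a prime and G a finite group whose Sylow p-subgroups are metacyclic (a cyclic normal subgroup with cyclic quotient). Then G has a normal p-complement if and only if the order of G/O_{p′,p}(G) is coprime to p² − 1. -/
theorem result {G : Type*} [Group G] [Finite G] (p : ℕ) [Fact p.Prime] (S : Sylow p G) (hS : Cfsg.IsMetacyclic ↥(S : Subgroup G)) : Cfsg.HasNormalPComplement p G ↔ Nat.Coprime (Nat.card (G ⧸ Cfsg.pPrimePCore p G)) (p ^ 2 - 1) := by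
  open Subgroup in
  have hp := (Fact.out : p.Prime)
  set N := Cfsg.pPrimeCore p G with hN
  constructor
  · intro h
    obtain ⟨k, hk⟩ := Cfsg.Agent.Solv.hasNormalPComplement_iff_index.1 h
    have hq : IsPGroup p (G ⧸ N) := IsPGroup.of_card (n := k) (by rw [← index_eq_card]; exact hk)
    have htop : Cfsg.pPrimePCore p G = ⊤ := by
      have h1 : Cfsg.pCore p (G ⧸ N) = ⊤ := top_le_iff.1 (Cfsg.Agent.Solv.le_pCore (hq.of_equiv Subgroup.topEquiv.symm))
      show (Cfsg.pCore p (G ⧸ N)).comap (QuotientGroup.mk' N) = ⊤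
      rw [h1, comap_top]
    rw [← index_eq_card, htop, index_top]
    exact Nat.coprime_one_left _
  intro hcop
  haveI hKn : (Cfsg.pPrimePCore p G).Normal := by
    haveI : (Cfsg.pCore p (G ⧸ N)).Normal := inferInstance
    exact Normal.comap inferInstance _
  refine Cfsg.Agent.Solv.FrobeniusCond.hasNormalPComplement fun Q hQ g hg hgc => ?_
  set d := (Cfsg.pPrimePCore p G).index
  rw [← index_eq_card] at hcop
  have hgdN : g ^ d ∈ N := by
    have h1 : (QuotientGroup.mk' N) (g ^ d) ∈ Cfsg.pCore p (G ⧸ N) :=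
      mem_comap.1 (pow_index_mem (Cfsg.pPrimePCore p G) g)
    obtain ⟨k, hk⟩ := IsPGroup.iff_orderOf.1 (Cfsg.Agent.Solv.isPGroup_pCore p (G ⧸ N)) ⟨_, h1⟩
    rw [orderOf_mk] at hk
    have h2 : (orderOf ((QuotientGroup.mk' N) (g ^ d))).Coprime (p ^ k) :=
      ((hgc.coprime_dvd_left (orderOf_pow_dvd d)).coprime_dvd_left (orderOf_map_dvd _ _)).pow_right k
    rw [hk, Nat.coprime_self] at h2
    have h3 : (QuotientGroup.mk' N) (g ^ d) = 1 := by rw [← orderOf_eq_one_iff, hk, h2]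
    exact (QuotientGroup.eq_one_iff _).1 h3
  have hfix : ∀ q ∈ Q, g ^ d * q * (g ^ d)⁻¹ = q := by
    intro q hq
    have h1 : q * g ^ d * q⁻¹ * (g ^ d)⁻¹ ∈ Q ⊓ N := by
      refine ⟨?_, N.mul_mem (Normal.conj_mem inferInstance _ hgdN q) (N.inv_mem hgdN)⟩
      have := Q.mul_mem hq ((mem_normalizer_iff.mp (pow_mem hg d) q⁻¹).mp (Q.inv_mem hq))
      simpa [mul_assoc] using this
    rw [Cfsg.Agent.Solv.inf_eq_bot_of_isPGroup hQ (Cfsg.Agent.Solv.card_pPrimeCore_coprime p G), mem_bot, mul_inv_eq_one,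
      mul_inv_eq_iff_eq_mul] at h1
    rw [← h1, mul_inv_cancel_right]
  obtain ⟨S', hQS⟩ := hQ.exists_le_sylow
  obtain ⟨C, hCn, hCc, hCq⟩ := hS
  let i : Q →* (S : Subgroup G) := ((S'.equiv S : (S' : Subgroup G) ≃* (S : Subgroup G)) : (S' : Subgroup G) →* (S : Subgroup G)).comp (inclusion hQS)
  have hi : Function.Injective i := (MulEquiv.injective _).comp (inclusion_injective hQS)
  haveI := hCn
  let f : Q →* (S : Subgroup G) ⧸ C := (QuotientGroup.mk' C).comp i
  haveI := hCc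
  haveI := hCq
  haveI : IsCyclic f.ker := by
    refine isCyclic_of_injective ((i.comp f.ker.subtype).codRestrict C fun x => (QuotientGroup.eq_one_iff _).1 (MonoidHom.mem_ker.1 x.2)) ?_
    intro a b h
    exact Subtype.ext (hi (congrArg Subtype.val h))
  obtain ⟨u, hu⟩ := IsCyclic.exists_generator (α := f.ker)
  obtain ⟨v', hv⟩ := IsCyclic.exists_generator (α := f.range)
  obtain ⟨v, hvv⟩ := v'.2
  set Φ := frattini ↥Q with hΦ
  haveI := hQ.isNilpotent
  have hxp : ∀ x : ↥Q ⧸ Φ, x ^ p = 1 := by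
    intro x
    induction x using QuotientGroup.induction_on
    rename_i x
    rw [← QuotientGroup.mk_pow, QuotientGroup.eq_one_iff]
    exact Cfsg.Agent.Struct.CoprimeMinimal.pow_mem_frattini hQ x
  have hcard : Nat.card (↥Q ⧸ Φ) ≤ p ^ 2 := by
    have hsurj : Function.Surjective (fun ab : Fin p × Fin p => ((u : Q) : ↥Q ⧸ Φ) ^ (ab.1 : ℕ) * (v : ↥Q ⧸ Φ) ^ (ab.2 : ℕ)) := by
      intro x
      induction x using QuotientGroup.induction_on
      rename_i x
      obtain ⟨j, hj⟩ := mem_zpowers_iff.1 (hv ⟨f x, x, rfl⟩)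
      have hj' : f v ^ j = f x := by rw [hvv]; exact congrArg Subtype.val hj
      obtain ⟨l, hl⟩ := mem_zpowers_iff.1 (hu ⟨x * (v ^ j)⁻¹, by rw [MonoidHom.mem_ker, map_mul, map_inv, map_zpow, hj', mul_inv_cancel]⟩)
      have hx : x = (u : Q) ^ l * v ^ j := by
        have := congrArg Subtype.val hl
        simp only [coe_zpow] at this
        rw [this, inv_mul_cancel_right]
      have hred : ∀ (y : ↥Q ⧸ Φ) (m : ℤ), ∃ a : Fin p, y ^ (a : ℕ) = y ^ m := fun y m =>
        ⟨⟨(m % p).toNat, by have := Int.emod_lt_of_pos m (by exact_mod_cast hp.pos : (0 : ℤ) < p); have := Int.emod_nonneg m (by exact_mod_cast hp.ne_zero : (p : ℤ) ≠ 0); omega⟩, by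
          show y ^ (m % p).toNat = y ^ m
          rw [← zpow_natCast, Int.toNat_of_nonneg (Int.emod_nonneg m (by exact_mod_cast hp.ne_zero : (p : ℤ) ≠ 0))]
          conv_rhs => rw [← Int.emod_add_mul_ediv m (p : ℤ)]
          rw [zpow_add, zpow_mul, zpow_natCast, hxp, one_zpow, mul_one]⟩
      obtain ⟨a, ha⟩ := hred ((u : Q) : ↥Q ⧸ Φ) l
      obtain ⟨b, hb⟩ := hred (v : ↥Q ⧸ Φ) j
      exact ⟨(a, b), by simp only [ha, hb, hx, QuotientGroup.mk_mul, QuotientGroup.mk_zpow]⟩
    refine (Nat.card_le_card_of_surjective _ hsurj).trans (le_of_eq ?_)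
    rw [Nat.card_prod, Nat.card_fin, sq]
  let c : MulAut ↥Q :=
    { toFun := fun q => ⟨g * q * g⁻¹, (mem_normalizer_iff.1 hg q).1 q.2⟩
      invFun := fun q => ⟨g⁻¹ * q * g, (mem_normalizer_iff''.1 hg q).1 q.2⟩
      left_inv := fun q => Subtype.ext (by simp [mul_assoc])
      right_inv := fun q => Subtype.ext (by simp [mul_assoc])
      map_mul' := fun a b => Subtype.ext (by simp [mul_assoc]) }
  let e : MulAut (↥Q ⧸ Φ) := QuotientGroup.congr Φ Φ c (by
    have hle : Φ ≤ Φ.comap (c : ↥Q →* ↥Q) := frattini_le_comap_frattini_of_surjective c.surjective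
    exact eq_of_le_of_card_ge (map_le_iff_le_comap.2 hle) (card_map_of_injective c.injective).ge)
  have hen : ∀ (m : ℕ) (q : ↥Q) (hm : g ^ m * q * (g ^ m)⁻¹ ∈ Q), (e ^ m) (q : ↥Q ⧸ Φ) = ((⟨g ^ m * q * (g ^ m)⁻¹, hm⟩ : ↥Q) : ↥Q ⧸ Φ) := by
    intro m
    induction m with
    | zero => intro q hm; simp
    | succ m ih =>
      intro q hm
      rw [pow_succ', MulAut.mul_apply, ih q ((mem_normalizer_iff.1 (pow_mem hg m) q).1 q.2)]
      show ((c _ : ↥Q) : ↥Q ⧸ Φ) = _
      congr 1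
      exact Subtype.ext (by show g * (g ^ m * q * (g ^ m)⁻¹) * g⁻¹ = g ^ (m + 1) * q * (g ^ (m + 1))⁻¹; rw [pow_succ']; group)
  have hed : e ^ d = 1 := by
    ext x
    induction x using QuotientGroup.induction_on
    rename_i q
    rw [hen d q (by rw [hfix q q.2]; exact q.2), MulAut.one_apply]
    congr 1
    exact Subtype.ext (hfix q q.2)
  have he1 : e = 1 := by
    by_contra hne
    obtain ⟨r, hr, hrd⟩ := Nat.exists_prime_and_dvd (mt orderOf_eq_one_iff.1 hne)
    haveI := Fact.mk hr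
    have hrcop : Nat.Coprime r (p * (p ^ 2 - 1)) := by
      have h1 : r ∣ d := hrd.trans (orderOf_dvd_of_pow_eq_one hed)
      have h2 : r ∣ orderOf g := by
        refine hrd.trans (orderOf_dvd_of_pow_eq_one ?_)
        ext x
        induction x using QuotientGroup.induction_on
        rename_i q
        rw [hen (orderOf g) q (by simp [pow_orderOf_eq_one]), MulAut.one_apply]
        congr 1
        exact Subtype.ext (by simp [pow_orderOf_eq_one])
      exact Nat.Coprime.mul_right (hgc.coprime_dvd_left h2) (hcop.coprime_dvd_left h1)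
    set e' := e ^ (orderOf e / r)
    have he' : orderOf e' = r := orderOf_pow_orderOf_div (orderOf_pos e).ne' hrd
    let F : Subgroup (↥Q ⧸ Φ) := MonoidHom.eqLocus (e' : ↥Q ⧸ Φ →* ↥Q ⧸ Φ) (MonoidHom.id _)
    have hmod := (IsPGroup.of_card (p := r) (n := 1) (by rw [Nat.card_zpowers, he', pow_one]) : IsPGroup r (zpowers e')).card_modEq_card_fixedPoints (↥Q ⧸ Φ)
    have hF : MulAction.fixedPoints (zpowers e') (↥Q ⧸ Φ) = (F : Set (↥Q ⧸ Φ)) := by
      ext x
      constructor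
      · intro h; exact h ⟨e', mem_zpowers _⟩
      · rintro h ⟨_, n, rfl⟩
        show (e' ^ n) x = x
        have : e' ∈ MulAction.stabilizer (MulAut (↥Q ⧸ Φ)) x := h
        exact zpow_mem this n
    rw [hF] at hmod
    have hFne : F ≠ ⊤ := by
      intro h
      have : e' = 1 := MulEquiv.ext fun x => (h.ge (mem_top x) :)
      rw [this, orderOf_one] at he'
      exact hr.ne_one he'.symm
    obtain ⟨k, hk⟩ := IsPGroup.iff_card.1 (hQ.to_quotient Φ)
    obtain ⟨j, hj⟩ := IsPGroup.iff_card.1 ((hQ.to_quotient Φ).to_subgroup F)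
    have hjk : j < k := by
      have hlt : Nat.card F < Nat.card (↥Q ⧸ Φ) :=
        lt_of_le_of_ne (Nat.le_of_dvd Nat.card_pos (card_subgroup_dvd_card F)) fun h => hFne (eq_top_of_card_eq _ h)
      rw [hj, hk] at hlt
      exact (pow_lt_pow_iff_right₀ hp.one_lt).1 hlt
    have hk2 : k ≤ 2 := by
      rw [hk] at hcard
      exact (pow_le_pow_iff_right₀ hp.one_lt).1 hcard
    rw [hk, show Nat.card ((F : Set (↥Q ⧸ Φ))) = Nat.card F from rfl, hj] at hmod
    have hd : r ∣ p ^ k - p ^ j := (Nat.modEq_iff_dvd' (Nat.pow_le_pow_right hp.pos hjk.le)).1 hmod.symm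
    have hdiv : p ^ k - p ^ j ∣ p * (p ^ 2 - 1) := by
      have h1 : p - 1 ∣ p ^ 2 - 1 := by simpa using Nat.sub_dvd_pow_sub_pow p 1 2
      interval_cases k <;> interval_cases j
      · rw [pow_one, pow_zero]; exact h1.mul_left p
      · rw [pow_zero]; exact dvd_mul_left _ _
      · rw [show p ^ 2 - p ^ 1 = p * (p - 1) by rw [Nat.mul_sub, mul_one, sq, pow_one]]
        exact mul_dvd_mul_left _ h1
    exact hr.ne_one (Nat.dvd_one.1 (hrcop ▸ Nat.dvd_gcd dvd_rfl (hd.trans hdiv)))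
  have hmain : zpowers g ≤ centralizer (Q : Set G) := by
    refine Cfsg.Agent.Solv.centralizes_of_trivial_on_frattini_quotient (zpowers g) Q (zpowers_le.2 hg) ?_ ?_
    · obtain ⟨n, hn⟩ := IsPGroup.iff_card.1 (hQ.to_subgroup Φ)
      rw [Nat.card_zpowers, hn]
      exact hgc.pow_right n
    · intro a ha k hk
      obtain ⟨m, hm⟩ := (mem_powers_iff_mem_zpowers (x := g)).2 ha
      subst hm
      have hmem := (mem_normalizer_iff.1 (pow_mem hg m) k).1 hk
      have h2 := hen m ⟨k, hk⟩ hmem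
      rw [he1, one_pow, MulAut.one_apply, QuotientGroup.eq] at h2
      refine ⟨((⟨k, hk⟩ : ↥Q) * ((⟨k, hk⟩ : ↥Q)⁻¹ * ⟨g ^ m * k * (g ^ m)⁻¹, hmem⟩) * (⟨k, hk⟩ : ↥Q)⁻¹), ?_, ?_⟩
      · exact (inferInstance : Φ.Normal).conj_mem _ h2 _
      · show k * (k⁻¹ * (g ^ m * k * (g ^ m)⁻¹)) * k⁻¹ = _
        group
  exact hmain (mem_zpowers g)

end Cfsg.Agent.S4419
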