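import Cfsg.Statements.S4420

set_option autoImplicit false
open Cfsg

namespace Cfsg.Agent.S4420

/-- Structure of groups in which every element outside some proper subgroup has square 1. Let H be a finite group with a proper subgroup A such that every element outside A has square 1. Then H has an abelian normal subgroup B of index 2 such that every element outside B is an involution inverting every element of B; and if H is not an elementary abelian 2-group, B is the only abelian normal subgroup of index 2 with this property. -/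
theorem result {H : Type*} [Group H] [Finite H] (A : Subgroup H) (hA : A ≠ ⊤) (hD : ∀ x : H, x ∉ A → x ^ 2 = 1) :
    ∃ B : Subgroup H, B.Normal ∧ IsMulCommutative ↥B ∧ B.index = 2 ∧
      (∀ x : H, x ∉ B → x ^ 2 = 1 ∧ ∀ b ∈ B, x * b * x⁻¹ = b⁻¹) ∧
      (¬ (IsMulCommutative H ∧ ∀ x : H, x ^ 2 = 1) →
        ∀ B' : Subgroup H, B'.Normal → IsMulCommutative ↥B' → B'.index = 2 →
          (∀ x : H, x ∉ B' → x ^ 2 = 1 ∧ ∀ b ∈ B', x * b * x⁻¹ = b⁻¹) → B' = B) := by
  classical
  obtain ⟨t, ht⟩ : ∃ t, t ∉ A := by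
    by_contra h
    exact hA (top_le_iff.1 fun x _ => by
      by_contra hx; exact h ⟨x, hx⟩)
  have hinv : ∀ s, s ∉ A → ∀ a ∈ A, s * a * s⁻¹ = a⁻¹ := by
    intro s hs a ha
    have h1 := hD (s * a) (fun h => hs (by simpa using mul_mem h (inv_mem ha)))
    have h2 := hD s hs
    rw [pow_two] at h1 h2
    rw [inv_eq_of_mul_eq_one_right h2]
    exact eq_inv_of_mul_eq_one_left (by rw [mul_assoc (s * a) s a]; exact h1)
  have hAc : ∀ a ∈ A, ∀ b ∈ A, a * b = b * a := by
    intro a ha b hb
    have h1 := hinv t ht (a * b) (mul_mem ha hb)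
    have h2 : t * (a * b) * t⁻¹ = t * a * t⁻¹ * (t * b * t⁻¹) := by group
    rw [h2, hinv t ht a ha, hinv t ht b hb, mul_inv_rev] at h1
    have h3 := congrArg (fun z => z⁻¹) h1
    simpa using h3.symm
  by_cases hE : ∀ x : H, x ^ 2 = 1
  · have hcomm : IsMulCommutative H := ⟨⟨fun a b => by
      have ea : a⁻¹ = a := inv_eq_of_mul_eq_one_right (by rw [← pow_two]; exact hE a)
      have eb : b⁻¹ = b := inv_eq_of_mul_eq_one_right (by rw [← pow_two]; exact hE b)
      have eab : (a * b)⁻¹ = a * b := inv_eq_of_mul_eq_one_right (by rw [← pow_two]; exact hE _)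
      rw [← eab, mul_inv_rev, ea, eb]⟩⟩
    haveI := Fact.mk Nat.prime_two
    have hP : IsPGroup 2 H := fun x => ⟨1, by simpa using hE x⟩
    haveI : Nontrivial H := ⟨t, 1, fun e => ht (e ▸ one_mem A)⟩
    obtain ⟨n, hn0, hn⟩ := hP.nontrivial_iff_card.1 inferInstance
    obtain ⟨B, hB⟩ := Sylow.exists_subgroup_card_pow_prime 2 (G := H) (n := n - 1)
      (hn ▸ pow_dvd_pow 2 (by omega))
    refine ⟨B, ⟨fun b hb g => ?_⟩, inferInstance, ?_, fun x _ => ⟨hE x, fun b _ => ?_⟩,
      fun h => absurd ⟨hcomm, hE⟩ h⟩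
    · rwa [hcomm.is_comm.comm g b, mul_inv_cancel_right]
    · have := B.index_mul_card
      rw [hB, hn, show 2 ^ n = 2 * 2 ^ (n - 1) by rw [← pow_succ', Nat.sub_add_cancel hn0]] at this
      exact Nat.eq_of_mul_eq_mul_right (by positivity) this
    · rw [hcomm.is_comm.comm x b, mul_inv_cancel_right]
      exact (inv_eq_of_mul_eq_one_right (by rw [← pow_two]; exact hE b)).symm
  · have hAE : ¬ ∀ a ∈ A, a ^ 2 = 1 := fun h => hE fun x => by
      by_cases hx : x ∈ A
      · exact h x hx
      · exact hD x hx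
    have hidx : A.index = 2 := by
      rw [Subgroup.index_eq_two_iff]
      refine ⟨t, fun b => ?_⟩
      by_cases hb : b ∈ A
      · exact Or.inr ⟨hb, fun h => ht (by simpa using mul_mem (inv_mem hb) h)⟩
      · refine Or.inl ⟨?_, hb⟩
        by_contra hbt
        refine hAE fun a ha => ?_
        have h1 := hinv _ hbt a ha
        have h2 : b * t * a * (b * t)⁻¹ = b * (t * a * t⁻¹) * b⁻¹ := by group
        rw [h2, hinv t ht a ha, hinv b hb _ (inv_mem ha), inv_inv] at h1
        rw [pow_two]
        exact mul_eq_one_iff_eq_inv.2 h1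
    haveI hAn : A.Normal := Subgroup.normal_of_index_eq_two hidx
    refine ⟨A, hAn, ⟨⟨fun a b => Subtype.ext (hAc a a.2 b b.2)⟩⟩, hidx,
      fun x hx => ⟨hD x hx, hinv x hx⟩, fun _ B' _ hB'c hB'i hB' => ?_⟩
    by_contra hne
    obtain ⟨x, hxA, hxB⟩ : ∃ x ∈ A, x ∉ B' := by
      by_contra h
      simp only [not_exists, not_and, not_not] at h
      refine hne (Subgroup.eq_of_le_of_card_ge h ?_).symm
      have e1 := A.index_mul_card
      have e2 := B'.index_mul_card
      rw [hidx] at e1; rw [hB'i] at e2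
      omega
    refine hAE fun a ha => ?_
    by_cases haB : a ∈ B'
    · have h1 := (hB' x hxB).2 a haB
      rw [hAc x hxA a ha, mul_inv_cancel_right] at h1
      rw [pow_two]; exact mul_eq_one_iff_eq_inv.2 h1
    · exact (hB' a haB).1

end Cfsg.Agent.S4420
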