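import Cfsg.Statements.S4421
import Mathlib

set_option autoImplicit false
open Cfsg

namespace Cfsg.Agent.S4421

---pre
open Subgroup

/-- A factorization of a normalizer from two-step control of fusion. Let `G` be a finite group and `A ≤ S ≤ H` subgroups of `G` such that: (i) `S` controls the `G`-fusion of `A` in the sense that every `G`-conjugate of `A` lying in `S` is an `S`-conjugate of `A`; (ii) `H` controls the `G`-fusion of `S` in the same sense; (iii) every conjugate of `S` by an element of the normalizer of `A` lies in `H`. Then `N_G(A) = N_H(A) · (N_G(S) ∩ N_G(A))`: every element of the normalizer of `A` is a product of an element of `H` normalizing `A` and an element normalizing both `S` and `A`. -/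
theorem result {G : Type*} [Group G] [Finite G] (A S H : Subgroup G)
    (hAS : A ≤ S) (hSH : S ≤ H)
    (h1 : ∀ g : G, A.map (MulAut.conj g).toMonoidHom ≤ S → ∃ s ∈ S, A.map (MulAut.conj g).toMonoidHom = A.map (MulAut.conj s).toMonoidHom)
    (h2 : ∀ g : G, S.map (MulAut.conj g).toMonoidHom ≤ H → ∃ y ∈ H, S.map (MulAut.conj g).toMonoidHom = S.map (MulAut.conj y).toMonoidHom)
    (h3 : ∀ x ∈ Subgroup.normalizer (A : Set G), S.map (MulAut.conj x).toMonoidHom ≤ H) :
    ∀ x ∈ Subgroup.normalizer (A : Set G), ∃ y ∈ H ⊓ Subgroup.normalizer (A : Set G),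
      ∃ z ∈ Subgroup.normalizer (S : Set G) ⊓ Subgroup.normalizer (A : Set G), x = y * z := by
  intro x hx
  have hconj : ∀ (a b : G) (K : Subgroup G),
      (K.map (MulAut.conj b).toMonoidHom).map (MulAut.conj a).toMonoidHom = K.map (MulAut.conj (a * b)).toMonoidHom := by
    intro a b K
    rw [Subgroup.map_map]; congr 1; ext; simp [mul_assoc]
  have hone : ∀ K : Subgroup G, K.map (MulAut.conj (1 : G)).toMonoidHom = K := by
    intro K; ext z; simp
  have hnorm : ∀ (z : G) (K : Subgroup G),
      z ∈ Subgroup.normalizer (K : Set G) ↔ K.map (MulAut.conj z).toMonoidHom = K :=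
    fun z K => mem_normalizer_iff_map_conj_eq
  obtain ⟨y, hy, hyS⟩ := h2 x (h3 x hx)
  set z0 := y⁻¹ * x with hz0
  have hz0S : z0 ∈ Subgroup.normalizer (S : Set G) := by
    rw [hnorm, hz0, ← hconj, hyS, hconj, inv_mul_cancel, hone]
  have hAz : A.map (MulAut.conj z0).toMonoidHom ≤ S :=
    ((hnorm z0 S).1 hz0S) ▸ Subgroup.map_mono hAS
  obtain ⟨s, hs, hsA⟩ := h1 z0 hAz
  have hsS : s ∈ Subgroup.normalizer (S : Set G) := Subgroup.le_normalizer hs
  have hzA : s⁻¹ * z0 ∈ Subgroup.normalizer (A : Set G) := by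
    rw [hnorm, ← hconj, hsA, hconj, inv_mul_cancel, hone]
  refine ⟨y * s, Subgroup.mem_inf.2 ⟨mul_mem hy (hSH hs), ?_⟩, s⁻¹ * z0, Subgroup.mem_inf.2 ⟨mul_mem (inv_mem hsS) hz0S, hzA⟩, ?_⟩
  · have : y * s = x * (s⁻¹ * z0)⁻¹ := by rw [hz0]; group
    rw [this]
    exact mul_mem hx (inv_mem hzA)
  · rw [hz0]; group

end Cfsg.Agent.S4421
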