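import Cfsg.Statements.S4422

set_option autoImplicit false
open Cfsg

namespace Cfsg.Agent.S4422

/-- Primitive divisors of `q^e - 1` are congruent to 1 modulo `e`. Let `q ≥ 2` and `e ≥ 1` be natural numbers and let `m` be a divisor of `q^e - 1` that is coprime to `q^i - 1` for every `1 ≤ i < e` (so `m` divides the primitive part of `q^e - 1`, the largest such divisor). Then `m ≡ 1 (mod e)`. -/
theorem result (q e m : ℕ) (hq : 2 ≤ q) (he : 1 ≤ e)
    (hm : m ∣ q ^ e - 1) (hcop : ∀ i : ℕ, 1 ≤ i → i < e → Nat.Coprime m (q ^ i - 1)) :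
    m % e = 1 % e := by
  rcases eq_or_ne e 1 with rfl | he1
  · simp [Nat.mod_one]
  have he2 : 2 ≤ e := by omega
  rw [Nat.one_mod_eq_one.2 he1]
  have hm0 : m ≠ 0 := by
    intro h; subst h
    have h0 := Nat.eq_zero_of_zero_dvd hm
    have : 1 < q ^ e := Nat.one_lt_pow (by omega) (by omega)
    omega
  have hp : ∀ p : ℕ, p.Prime → p ∣ m → p % e = 1 := by
    intro p hp hpm
    have := Fact.mk hp
    have hz : ∀ i : ℕ, (q : ZMod p) ^ i = 1 ↔ p ∣ q ^ i - 1 := by
      intro i
      rw [← CharP.cast_eq_zero_iff (ZMod p) p, Nat.cast_sub (Nat.one_le_pow _ _ (by omega)),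
        sub_eq_zero, Nat.cast_pow, Nat.cast_one]
    have hqe : (q : ZMod p) ^ e = 1 := (hz e).2 (hpm.trans hm)
    have hord : orderOf (q : ZMod p) = e := by
      rw [orderOf_eq_iff (by omega)]
      refine ⟨hqe, fun i hi hi0 h => ?_⟩
      exact hp.not_dvd_one (Nat.eq_one_of_dvd_coprimes ((hcop i hi0 hi).coprime_dvd_left hpm) dvd_rfl ((hz i).1 h) ▸ dvd_rfl)
    have hq0 : (q : ZMod p) ≠ 0 := by
      intro h; rw [h, zero_pow (by omega)] at hqe; exact zero_ne_one hqe
    have h := ZMod.orderOf_dvd_card_sub_one hq0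
    rw [hord] at h
    obtain ⟨c, hc⟩ := h
    have hp1 : p = e * c + 1 := by have := hp.one_lt; omega
    rw [hp1, Nat.mul_add_mod, Nat.one_mod_eq_one.2 he1]
  clear hm hcop
  induction m using Nat.recOnMul with
  | zero => exact absurd rfl hm0
  | one => exact Nat.one_mod_eq_one.2 he1
  | prime p hpp => exact hp p hpp dvd_rfl
  | mul a b iha ihb =>
    have ha := iha (left_ne_zero_of_mul hm0) (fun p h1 h2 => hp p h1 (dvd_mul_of_dvd_left h2 b))
    have hb := ihb (right_ne_zero_of_mul hm0) (fun p h1 h2 => hp p h1 (dvd_mul_of_dvd_right h2 a))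
    rw [Nat.mul_mod, ha, hb, Nat.one_mul, Nat.one_mod_eq_one.2 he1]

end Cfsg.Agent.S4422
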