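import Cfsg.Statements.S4423
import Cfsg.Agent.S3430
import Cfsg.Agent.S2904
import Mathlib

set_option autoImplicit false
open Cfsg

namespace Cfsg.Agent.S4423

open Polynomial
open Cfsg.Agent.S2904 (Φv)
open Cfsg.Agent.S3430 (le_mul_totient Φv_le)

/-- The failure of the conclusion. -/
def Small (q e : ℕ) : Prop :=
  ∀ m : ℕ, m ∣ q ^ e - 1 → (∀ i : ℕ, 1 ≤ i → i < e → Nat.Coprime m (q ^ i - 1)) → m ≤ 3 * e

theorem witness {q e : ℕ} (m : ℕ) (h1 : m ∣ q ^ e - 1)
    (h2 : ∀ i < e, 1 ≤ i → Nat.Coprime m (q ^ i - 1)) (h3 : 3 * e < m) (hs : Small q e) : False := by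
  have := hs m h1 fun i hi1 hi2 => h2 i hi2 hi1
  omega

theorem exception {q e : ℕ} (B : ℕ) (l : List ℕ) (hl : ∀ i ∈ l, 1 ≤ i ∧ i < e)
    (hd : q ^ e - 1 ∣ B * (l.map fun i => q ^ i - 1).prod) (hB0 : 0 < B) (hB : B ≤ 2 * e + 1)
    (m : ℕ) (h1 : m ∣ q ^ e - 1) (h2 : ∀ i : ℕ, 1 ≤ i → i < e → Nat.Coprime m (q ^ i - 1)) :
    m ≤ 2 * e + 1 := by
  have hc : Nat.Coprime m (l.map fun i => q ^ i - 1).prod :=
    Nat.coprime_list_prod_right_iff.2 fun x hx => by
      obtain ⟨i, hi, rfl⟩ := List.mem_map.1 hx
      exact h2 i (hl i hi).1 (hl i hi).2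
  exact (Nat.le_of_dvd hB0 (hc.dvd_of_dvd_mul_right (h1.trans hd))).trans hB

theorem primitive_mod {q n p : ℕ} (hq : 1 < q) (hn : 1 < n) (hp : p.Prime) (hdvd : p ∣ q ^ n - 1)
    (hprim : ∀ i : ℕ, 1 ≤ i → i < n → ¬ p ∣ q ^ i - 1) : n ∣ p - 1 := by
  haveI := Fact.mk hp
  have key : ∀ i : ℕ, (q : ZMod p) ^ i = 1 ↔ p ∣ q ^ i - 1 := fun i => by
    rw [← ZMod.natCast_eq_zero_iff, Nat.cast_sub (Nat.one_le_pow _ _ (by omega)), Nat.cast_pow,
      Nat.cast_one, sub_eq_zero]
  have h1 : (q : ZMod p) ^ n = 1 := (key n).2 hdvd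
  have h0 : (q : ZMod p) ≠ 0 := fun h => by
    rw [h, zero_pow (by omega)] at h1; exact zero_ne_one h1
  have hord : orderOf (q : ZMod p) = n := by
    rw [orderOf_eq_iff (by omega)]
    exact ⟨h1, fun i hi hi0 h => hprim i hi0 hi ((key i).1 h)⟩
  exact hord ▸ orderOf_dvd_of_pow_eq_one (ZMod.pow_card_sub_one_eq_one h0)

/-- The key inequality. -/
theorem bound (q e : ℕ) (hq : 1 < q) (he : 2 < e) (hs : Small q e) :
    ∃ P m : ℕ, P.Prime ∧ e = P * m ∧ (∀ x, x.Prime → x ∣ e → x ≤ P) ∧
      Φv e (q : ℤ) ≤ (2 * e + 1) * P ∧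
      (1 < m → (q ^ P - 1) ^ m.totient < (2 * e + 1) * P * (q + 1) ^ m.totient) := by
  classical
  obtain ⟨P, hPmem, hPmax⟩ := e.primeFactors.exists_max_image id (Nat.nonempty_primeFactors.2 (by omega))
  have hP := Nat.prime_of_mem_primeFactors hPmem
  obtain ⟨m, hm⟩ := Nat.dvd_of_mem_primeFactors hPmem
  have hmax : ∀ x, x.Prime → x ∣ e → x ≤ P := fun x hx hxn =>
    hPmax x (Nat.mem_primeFactors.2 ⟨hx, hxn, by omega⟩)
  set N := Φv e (q : ℤ) with hN
  have hdvdN : N ∣ q ^ e - 1 := by
    have h1 := eval_dvd (x := (q : ℤ)) (cyclotomic.dvd_X_pow_sub_one e ℤ)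
    simp only [eval_sub, eval_pow, eval_X, eval_one] at h1
    have h3 : ((q ^ e - 1 : ℕ) : ℤ) = (q : ℤ) ^ e - 1 := by
      rw [Nat.cast_sub (Nat.one_le_pow _ _ (by omega)), Nat.cast_pow, Nat.cast_one]
    rw [← h3] at h1
    exact Int.natAbs_dvd_natAbs.2 h1
  have hcop : ∀ x, x.Prime → (∀ i : ℕ, 1 ≤ i → i < e → ¬ x ∣ q ^ i - 1) →
      ∀ i : ℕ, 1 ≤ i → i < e → Nat.Coprime x (q ^ i - 1) := fun x hx h i h1 h2 =>
    hx.coprime_iff_not_dvd.2 (h i h1 h2)
  have hprime : ∀ x, x.Prime → x ∣ q ^ e - 1 → (∀ i : ℕ, 1 ≤ i → i < e → ¬ x ∣ q ^ i - 1) →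
      x ≤ 2 * e + 1 ∧ e + 1 ≤ x ∧ ¬ x ^ 2 ∣ q ^ e - 1 := by
    intro x hx hxd hprim
    obtain ⟨k, hk⟩ := primitive_mod hq (by omega) hx hxd hprim
    have hx2 := hx.two_le
    have hx3 := hs x hxd (hcop x hx hprim)
    have hge : e + 1 ≤ x := by
      have := Nat.le_of_dvd (by omega) (⟨k, hk⟩ : e ∣ x - 1)
      omega
    refine ⟨?_, hge, fun h => ?_⟩
    · rcases Nat.lt_or_ge k 3 with hk3 | hk3
      · interval_cases k <;> omega
      · have := Nat.mul_le_mul_left e hk3
        omega
    · have := hs (x ^ 2) h fun i h1 h2 => (hcop x hx hprim i h1 h2).pow_left 2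
      nlinarith
  have hfac : ∀ x, x.Prime → x ∣ N → (x = P ∨ ∀ i : ℕ, 1 ≤ i → i < e → ¬ x ∣ q ^ i - 1) ∧ ¬ x ^ 2 ∣ N := by
    intro x hx hxN
    by_cases hprim : ∀ i : ℕ, 1 ≤ i → i < e → ¬ x ∣ q ^ i - 1
    · exact ⟨Or.inr hprim, fun h => (hprime x hx (hxN.trans hdvdN) hprim).2.2 (h.trans hdvdN)⟩
    · push Not at hprim
      obtain ⟨i, hi1, hi2, hi3⟩ := hprim
      obtain ⟨hxn, hxmax, hsq, -⟩ := Cfsg.Agent.S2904.nonprimitive q e x hq he hx hxN ⟨i, hi1, hi2, hi3⟩
      exact ⟨Or.inl (le_antisymm (hmax x hx hxn) (hxmax P hP ⟨m, hm⟩)), hsq⟩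
  have hN0 : N ≠ 0 := by
    intro h0
    rw [h0] at hdvdN
    have h1 := Nat.eq_zero_of_zero_dvd hdvdN
    have h2 : q ≤ q ^ e := Nat.le_self_pow (by omega) q
    omega
  have hsqf : Squarefree N := Nat.squarefree_iff_prime_squarefree.2 fun x hx hd =>
    (hfac x hx ((dvd_mul_right x x).trans hd)).2 (by rw [pow_two]; exact hd)
  have hle : N ≤ (2 * e + 1) * P := by
    rw [← Nat.prod_primeFactors_of_squarefree hsqf]
    set S := N.primeFactors.filter (· ≠ P) with hS
    have hS' : ∀ x ∈ S, x.Prime ∧ x ∣ q ^ e - 1 ∧ ∀ i : ℕ, 1 ≤ i → i < e → ¬ x ∣ q ^ i - 1 := by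
      intro x hx
      rw [hS, Finset.mem_filter] at hx
      have h1 := Nat.prime_of_mem_primeFactors hx.1
      have h2 := Nat.dvd_of_mem_primeFactors hx.1
      exact ⟨h1, h2.trans hdvdN, (hfac x h1 h2).1.resolve_left hx.2⟩
    have hcard : S.card ≤ 1 := Finset.card_le_one.2 fun a ha b hb => by
      by_contra hab
      obtain ⟨ha1, ha2, ha3⟩ := hS' a ha
      obtain ⟨hb1, hb2, hb3⟩ := hS' b hb
      have := hs (a * b) (Nat.Coprime.mul_dvd_of_dvd_of_dvd ((Nat.coprime_primes ha1 hb1).2 hab) ha2 hb2)
        fun i h1 h2 => Nat.Coprime.mul_left (hcop a ha1 ha3 i h1 h2) (hcop b hb1 hb3 i h1 h2)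
      have h4 := Nat.mul_le_mul (hprime a ha1 ha2 ha3).2.1 (hprime b hb1 hb2 hb3).2.1
      nlinarith
    have hprodS : ∏ x ∈ S, x ≤ 2 * e + 1 := by
      rcases S.eq_empty_or_nonempty with h | ⟨r, hr⟩
      · rw [h, Finset.prod_empty]; omega
      · rw [(Finset.eq_singleton_iff_unique_mem.2 ⟨hr, fun x hx => Finset.card_le_one.1 hcard x hx r hr⟩ : S = {r}),
          Finset.prod_singleton]
        obtain ⟨h1, h2, h3⟩ := hS' r hr
        exact (hprime r h1 h2 h3).1
    have hPS : P ∉ S := by simp [hS]
    calc ∏ x ∈ N.primeFactors, x ≤ ∏ x ∈ insert P S, x := by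
          refine Finset.prod_le_prod_of_subset_of_one_le' (fun x hx => ?_) fun x hx _ => ?_
          · by_cases h : x = P
            · exact h ▸ Finset.mem_insert_self P S
            · exact Finset.mem_insert_of_mem (Finset.mem_filter.2 ⟨hx, h⟩)
          · rcases Finset.mem_insert.1 hx with rfl | h
            · exact hP.one_le
            · exact (hS' x h).1.one_le
      _ = P * ∏ x ∈ S, x := Finset.prod_insert hPS
      _ ≤ P * (2 * e + 1) := Nat.mul_le_mul_left P hprodS
      _ = (2 * e + 1) * P := mul_comm _ _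
  refine ⟨P, m, hP, hm, hmax, hle, fun hm1 => ?_⟩
  have hxc : (((q ^ P : ℕ)) : ℤ) = (q : ℤ) ^ P := by push_cast; rfl
  have h1 := Cfsg.Agent.S2904.lower m (q ^ P) hm1 (Nat.one_lt_pow hP.ne_zero hq)
  rw [hxc] at h1
  refine lt_of_lt_of_le h1 ?_
  by_cases hPm : P ∣ m
  · have h := congrArg (Polynomial.eval (q : ℤ)) (cyclotomic_expand_eq_cyclotomic hP hPm ℤ)
    rw [expand_eval, mul_comm, ← hm] at h
    have hN' : Φv m ((q : ℤ) ^ P) = N := congrArg Int.natAbs h
    rw [hN']
    exact hle.trans (Nat.le_mul_of_pos_right _ (pow_pos (by omega) _))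
  · have h := congrArg (Polynomial.eval (q : ℤ)) (cyclotomic_expand_eq_cyclotomic_mul hP hPm ℤ)
    rw [expand_eval, eval_mul, mul_comm m P, ← hm] at h
    have hN' : Φv m ((q : ℤ) ^ P) = N * Φv m (q : ℤ) := (congrArg Int.natAbs h).trans (Int.natAbs_mul _ _)
    rw [hN']
    exact Nat.mul_le_mul hle (Φv_le m q hq)

theorem num_three : ∀ φ, 8 ≤ φ → 3 * (18 * φ + 1) * 3 ^ φ ≤ 7 ^ φ := by
  intro φ hφ
  induction φ, hφ using Nat.le_induction with
  | base => norm_num
  | succ k hk ih =>
    rw [pow_succ, pow_succ]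
    calc 3 * (18 * (k + 1) + 1) * (3 ^ k * 3) ≤ 3 * (18 * k + 1) * 3 ^ k * 7 := by nlinarith [pow_pos (show 0 < 3 by omega) k]
      _ ≤ 7 ^ k * 7 := Nat.mul_le_mul_right _ ih

theorem num_big : ∀ P, 5 ≤ P → 8 * P ^ 3 + P ≤ (2 ^ (P - 2)) ^ 4 := by
  intro P hP
  induction P, hP using Nat.le_induction with
  | base => norm_num
  | succ k hk ih =>
    rw [show k + 1 - 2 = (k - 2) + 1 by omega, pow_succ 2 (k - 2), mul_pow]
    have h1 : 8 * (k + 1) ^ 3 + (k + 1) ≤ (8 * k ^ 3 + k) * 16 := by
      nlinarith [Nat.mul_le_mul hk hk, sq_nonneg (k : ℤ)]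
    exact h1.trans (Nat.mul_le_mul_right _ ih)

theorem num_big' (P : ℕ) (hP : 5 ≤ P) : ∀ φ, 4 ≤ φ → P * (2 * P ^ 2 * φ + 1) ≤ (2 ^ (P - 2)) ^ φ := by
  intro φ hφ
  induction φ, hφ using Nat.le_induction with
  | base => exact le_trans (le_of_eq (by ring)) (num_big P hP)
  | succ k hk ih =>
    rw [pow_succ]
    have h2 : 2 ≤ 2 ^ (P - 2) := Nat.le_self_pow (by omega) 2
    calc P * (2 * P ^ 2 * (k + 1) + 1) ≤ P * (2 * P ^ 2 * k + 1) * 2 := by nlinarith [Nat.mul_le_mul_left (P ^ 3) hk]
      _ ≤ _ := Nat.mul_le_mul ih h2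

theorem num_two : ∀ P, 7 ≤ P → P * (12 * P + 1) ≤ (2 ^ (P - 2)) ^ 2 := by
  intro P hP
  induction P, hP using Nat.le_induction with
  | base => norm_num
  | succ k hk ih =>
    rw [show k + 1 - 2 = (k - 2) + 1 by omega, pow_succ 2 (k - 2), mul_pow]
    have h1 : (k + 1) * (12 * (k + 1) + 1) ≤ k * (12 * k + 1) * 4 := by
      nlinarith [Nat.mul_le_mul hk hk]
    exact h1.trans (Nat.mul_le_mul_right _ ih)

theorem num_m : ∀ P, 11 ≤ P → 4 * (4 * P + 1) * P + 2 ≤ 2 ^ P := by
  intro P hP
  induction P, hP using Nat.le_induction with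
  | base => norm_num
  | succ k hk ih =>
    rw [pow_succ]
    refine le_trans ?_ (Nat.mul_le_mul_right 2 ih)
    nlinarith [Nat.mul_le_mul hk hk]

theorem num_a : ∀ j, 8 ≤ j → 2 * (4 * j + 1) < 2 ^ j + 1 := by
  intro j hj
  induction j, hj using Nat.le_induction with
  | base => norm_num
  | succ k hk ih => rw [pow_succ]; omega

theorem no_small (q e : ℕ) (hq : 2 ≤ q) (he : 3 ≤ e)
    (hnot : (q, e) ∉ [(2, 6), (2, 4), (2, 10), (2, 12), (2, 18), (3, 4), (3, 6), (5, 6), (2, 3), (2, 8), (2, 20), (4, 3), (4, 6)])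
    (hs : Small q e) : False := by
  obtain ⟨P, m, hP, hm, hmax, hN, hkey⟩ := bound q e (by omega) (by omega) hs
  rcases hP.eq_two_or_odd with rfl | hPodd
  · obtain ⟨a, rfl⟩ : ∃ a, e = 2 ^ a := ⟨_, Nat.eq_prime_pow_of_unique_prime_dvd (p := 2) (by omega)
      fun {d} hd hdn => le_antisymm (hmax d hd hdn) hd.two_le⟩
    obtain ⟨b, rfl⟩ : ∃ b, a = b + 1 := ⟨a - 1, by rcases a with _ | a <;> simp at he ⊢⟩
    have h : Φv (2 ^ (b + 1)) (q : ℤ) = q ^ (2 ^ b) + 1 := by
      rw [Cfsg.Agent.S2904.Φv, cyclotomic_prime_pow_eq_geom_sum Nat.prime_two]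
      simp [Finset.sum_range_succ, eval_add, eval_pow, eval_X, add_comm]
      rfl
    rw [h] at hN
    rcases (show b = 0 ∨ b = 1 ∨ b = 2 ∨ 3 ≤ b by omega) with rfl | rfl | rfl | hb
    · omega
    · norm_num at hN
      have hq4 : q ≤ 4 := by nlinarith
      interval_cases q <;> first
        | exact hnot (by decide)
        | exact witness 17 (by norm_num) (by decide) (by norm_num) hs
    · norm_num at hN
      have hq2 : q = 2 := by
        by_contra hne
        have := Nat.pow_le_pow_left (show 3 ≤ q by omega) 4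
        omega
      subst hq2
      exact hnot (by decide)
    · have h8 : 8 ≤ 2 ^ b := by
        calc 8 = 2 ^ 3 := by norm_num
          _ ≤ 2 ^ b := Nat.pow_le_pow_right two_pos hb
      have h9 := num_a _ h8
      have h10 : 2 ^ (2 ^ b) ≤ q ^ (2 ^ b) := Nat.pow_le_pow_left hq _
      rw [pow_succ] at hN
      omega
  · have hP3 : 3 ≤ P := by have := hP.two_le; omega
    have hm0 : 0 < m := by
      rcases Nat.eq_zero_or_pos m with h | h
      · rw [h, mul_zero] at hm; omega
      · exact h
    rcases (show m = 1 ∨ m = 2 ∨ 3 ≤ m by omega) with rfl | rfl | hm3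
    · -- `e` prime
      rw [mul_one] at hm
      subst hm
      have h : q ^ (e - 1) + (if e = 3 then q + 1 else 0) ≤ Φv e (q : ℤ) := by
        haveI := Fact.mk hP
        have h1 : (cyclotomic e ℤ).eval (q : ℤ) = ((∑ i ∈ Finset.range e, q ^ i : ℕ) : ℤ) := by
          simp [cyclotomic_prime, eval_finsetSum]
        rw [Cfsg.Agent.S2904.Φv, h1, Int.natAbs_natCast]
        split_ifs with h3
        · subst h3; simp [Finset.sum_range_succ]; omega
        · rw [add_zero]
          exact Finset.single_le_sum (f := fun i => q ^ i) (fun i _ => Nat.zero_le _) (Finset.mem_range.2 (by omega))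
      rcases (show e = 3 ∨ e = 5 ∨ e = 7 ∨ e = 9 ∨ 11 ≤ e by omega) with rfl | rfl | rfl | rfl | hP11
      · norm_num at h
        have hq4 : q ≤ 4 := by nlinarith
        interval_cases q <;> first
          | exact hnot (by decide)
          | exact witness 13 (by norm_num) (by decide) (by norm_num) hs
      · norm_num at h
        have hq2 : q = 2 := by
          by_contra hne
          have := Nat.pow_le_pow_left (show 3 ≤ q by omega) 4
          omega
        subst hq2
        exact witness 31 (by norm_num) (by decide) (by norm_num) hs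
      · norm_num at h
        have hq2 : q = 2 := by
          by_contra hne
          have := Nat.pow_le_pow_left (show 3 ≤ q by omega) 6
          omega
        subst hq2
        exact witness 127 (by norm_num) (by decide) (by norm_num) hs
      · norm_num at hP
      · have h1' := num_m e hP11
        have h2' : 2 ^ (e - 1) ≤ q ^ (e - 1) := Nat.pow_le_pow_left hq _
        have h3' : 2 ^ e = 2 ^ (e - 1) * 2 := by rw [← pow_succ, Nat.sub_add_cancel (by omega)]
        rw [if_neg (by omega : ¬ e = 3)] at h
        nlinarith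
    · -- `e = 2P`
      have hkey' := hkey (by omega)
      rw [Nat.totient_two, pow_one, pow_one] at hkey'
      rcases (show P = 3 ∨ P = 5 ∨ P = 7 ∨ P = 9 ∨ 11 ≤ P by omega) with rfl | rfl | rfl | rfl | hP11
      · norm_num at hm; subst hm
        have hq6 : q ≤ 6 := by
          by_contra hgt
          have h6' : q ^ 3 = q * q * q := by ring
          have h49 := Nat.mul_le_mul (show 7 ≤ q by omega) (show 7 ≤ q by omega)
          have h216 := Nat.mul_le_mul_right q h49
          omega
        interval_cases q <;> first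
          | exact hnot (by decide)
          | exact witness 31 (by norm_num) (by decide) (by norm_num) hs
      · norm_num at hm; subst hm
        rcases (show q = 2 ∨ q = 3 ∨ 4 ≤ q by omega) with rfl | rfl | hq4
        · exact hnot (by decide)
        · exact witness 61 (by norm_num) (by decide) (by norm_num) hs
        · have := Nat.pow_le_pow_left hq4 4
          have h5' : q ^ 5 = q ^ 4 * q := by ring
          have := Nat.mul_le_mul_right q this
          omega
      · norm_num at hm; subst hm
        rcases (show q = 2 ∨ 3 ≤ q by omega) with rfl | hq3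
        · exact witness 43 (by norm_num) (by decide) (by norm_num) hs
        · have := Nat.pow_le_pow_left hq3 6
          have h5' : q ^ 7 = q ^ 6 * q := by ring
          have := Nat.mul_le_mul_right q this
          omega
      · norm_num at hP
      · have h1' := num_m P hP11
        have h2' : 2 ^ (P - 1) * q ≤ q ^ P := by
          calc 2 ^ (P - 1) * q ≤ q ^ (P - 1) * q := Nat.mul_le_mul_right q (Nat.pow_le_pow_left hq _)
            _ = q ^ P := by rw [← pow_succ, Nat.sub_add_cancel (by omega)]
        have h3' : 2 ^ P = 2 ^ (P - 1) * 2 := by rw [← pow_succ, Nat.sub_add_cancel (by omega)]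
        rw [hm] at hkey'
        have h5' : 2 * ((2 * (P * 2) + 1) * P) + 1 ≤ 2 ^ (P - 1) := by
          have h : 2 * ((2 * (P * 2) + 1) * P) * 2 = 4 * (4 * P + 1) * P := by ring
          omega
        have h6' := Nat.mul_le_mul_right q h5'
        have h4' : (2 * (P * 2) + 1) * P * (q + 1) + 1 ≤ 2 ^ (P - 1) * q := by nlinarith
        omega
    · -- `φ(m) ≥ 2`
      have hkey' := hkey (by omega)
      have hmP : m ≤ P * m.totient := le_mul_totient (by omega) fun x hx hxm =>
        hmax x hx (hm ▸ hxm.mul_left P)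
      set φ := m.totient with hφ
      have hφeven : 2 ≤ φ ∧ 2 ∣ φ := by
        obtain ⟨k, hk⟩ := Nat.totient_even (show 2 < m by omega)
        have := Nat.totient_pos.2 hm0
        exact ⟨by omega, ⟨k, by omega⟩⟩
      rcases eq_or_ne P 3 with rfl | hP3'
      · have h7 : 7 * (q + 1) ≤ 3 * (q ^ 3 - 1) := by
          have h6' : q ^ 3 = q * q * q := by ring
          have := Nat.mul_le_mul_right q (Nat.mul_le_mul hq hq)
          omega
        rcases Nat.lt_or_ge φ 8 with hlt | hge
        · have hm21 : m ≤ 21 := by omega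
          have hbig : ∀ x, x.Prime → 3 < x → ¬ x ∣ m := fun x hx h3 h => by
            have := hmax x hx (hm ▸ h.mul_left 3); omega
          have hp5 := hbig 5 (by norm_num) (by norm_num)
          have hp7 := hbig 7 (by norm_num) (by norm_num)
          have hp11 := hbig 11 (by norm_num) (by norm_num)
          have hp13 := hbig 13 (by norm_num) (by norm_num)
          have hp17 := hbig 17 (by norm_num) (by norm_num)
          have hp19 := hbig 19 (by norm_num) (by norm_num)
          interval_cases m <;> (try omega)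
          all_goals norm_num at hm
          all_goals subst hm
          all_goals rw [hφ] at hkey' hlt
          · -- 9
            rw [show Nat.totient 3 = 2 by decide] at hkey'
            rcases (show q = 2 ∨ q = 3 ∨ 4 ≤ q by omega) with rfl | rfl | hq4
            · exact witness 73 (by norm_num) (by decide) (by norm_num) hs
            · exact witness 757 (by norm_num) (by decide) (by norm_num) hs
            · have h6' : q ^ 3 = q * q * q := by ring
              have h16 := Nat.mul_le_mul_right q (Nat.mul_le_mul hq4 hq4)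
              have h8 : 12 * (q + 1) ≤ q ^ 3 - 1 := by omega
              have h64 := Nat.pow_le_pow_left h8 2
              rw [mul_pow] at h64
              norm_num at hkey'
              omega
          · -- 12
            rw [show Nat.totient 4 = 2 by decide] at hkey'
            rcases (show q = 2 ∨ q = 3 ∨ 4 ≤ q by omega) with rfl | rfl | hq4
            · exact hnot (by decide)
            · exact witness 73 (by norm_num) (by decide) (by norm_num) hs
            · have h6' : q ^ 3 = q * q * q := by ring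
              have h16 := Nat.mul_le_mul_right q (Nat.mul_le_mul hq4 hq4)
              have h8 : 12 * (q + 1) ≤ q ^ 3 - 1 := by omega
              have h64 := Nat.pow_le_pow_left h8 2
              rw [mul_pow] at h64
              norm_num at hkey'
              omega
          · -- 18
            rw [show Nat.totient 6 = 2 by decide] at hkey'
            rcases (show q = 2 ∨ q = 3 ∨ 4 ≤ q by omega) with rfl | rfl | hq4
            · exact hnot (by decide)
            · exact witness 703 (by norm_num) (by decide) (by norm_num) hs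
            · have h6' : q ^ 3 = q * q * q := by ring
              have h16 := Nat.mul_le_mul_right q (Nat.mul_le_mul hq4 hq4)
              have h8 : 12 * (q + 1) ≤ q ^ 3 - 1 := by omega
              have h64 := Nat.pow_le_pow_left h8 2
              rw [mul_pow] at h64
              norm_num at hkey'
              omega
          · -- 24
            rw [show Nat.totient 8 = 4 by decide] at hkey'
            rcases (show q = 2 ∨ 3 ≤ q by omega) with rfl | hq3
            · exact witness 241 (by norm_num) (by decide) (by norm_num) hs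
            · have h6' : q ^ 3 = q * q * q := by ring
              have h16 := Nat.mul_le_mul_right q (Nat.mul_le_mul hq3 hq3)
              have h8 : 4 * (q + 1) ≤ q ^ 3 - 1 := by omega
              have h64 := Nat.pow_le_pow_left h8 4
              rw [mul_pow] at h64
              norm_num at hkey'
              omega
          · -- 27
            rw [show Nat.totient 9 = 6 by decide] at hkey'
            rcases (show q = 2 ∨ 3 ≤ q by omega) with rfl | hq3
            · exact witness 262657 (by norm_num) (by decide) (by norm_num) hs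
            · have h6' : q ^ 3 = q * q * q := by ring
              have h16 := Nat.mul_le_mul_right q (Nat.mul_le_mul hq3 hq3)
              have h8 : 4 * (q + 1) ≤ q ^ 3 - 1 := by omega
              have h64 := Nat.pow_le_pow_left h8 6
              rw [mul_pow] at h64
              norm_num at hkey'
              omega
          · -- 36
            rw [show Nat.totient 12 = 4 by decide] at hkey'
            rcases (show q = 2 ∨ 3 ≤ q by omega) with rfl | hq3
            · exact witness 109 (by norm_num) (by decide) (by norm_num) hs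
            · have h6' : q ^ 3 = q * q * q := by ring
              have h16 := Nat.mul_le_mul_right q (Nat.mul_le_mul hq3 hq3)
              have h8 : 4 * (q + 1) ≤ q ^ 3 - 1 := by omega
              have h64 := Nat.pow_le_pow_left h8 4
              rw [mul_pow] at h64
              norm_num at hkey'
              omega
          · -- 48
            rw [show Nat.totient 16 = 8 by decide] at hlt
            omega
          · -- 54
            rw [show Nat.totient 18 = 6 by decide] at hkey'
            rcases (show q = 2 ∨ 3 ≤ q by omega) with rfl | hq3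
            · exact witness 87211 (by norm_num) (by decide) (by norm_num) hs
            · have h6' : q ^ 3 = q * q * q := by ring
              have h16 := Nat.mul_le_mul_right q (Nat.mul_le_mul hq3 hq3)
              have h8 : 4 * (q + 1) ≤ q ^ 3 - 1 := by omega
              have h64 := Nat.pow_le_pow_left h8 6
              rw [mul_pow] at h64
              norm_num at hkey'
              omega
        · have hb := num_three φ hge
          have hc := Nat.pow_le_pow_left h7 φ
          rw [mul_pow, mul_pow] at hc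
          have hn1 : (2 * e + 1) * 3 ≤ 3 * (18 * φ + 1) := by omega
          have := calc (2 * e + 1) * 3 * (q + 1) ^ φ * 3 ^ φ
                ≤ 3 * (18 * φ + 1) * (q + 1) ^ φ * 3 ^ φ :=
                  Nat.mul_le_mul_right _ (Nat.mul_le_mul_right _ hn1)
              _ = 3 * (18 * φ + 1) * 3 ^ φ * (q + 1) ^ φ := by ring
              _ ≤ 7 ^ φ * (q + 1) ^ φ := Nat.mul_le_mul_right _ hb
              _ ≤ 3 ^ φ * (q ^ 3 - 1) ^ φ := hc
              _ = (q ^ 3 - 1) ^ φ * 3 ^ φ := by ring
          exact absurd hkey' (not_lt.2 (Nat.le_of_mul_le_mul_right this (pow_pos (by omega) φ)))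
      · have hP5 : 5 ≤ P := by omega
        have hB : 2 ^ (P - 2) * (q + 1) ≤ q ^ P - 1 := by
          have h2' : 2 ^ (P - 1) * q ≤ q ^ P := by
            calc 2 ^ (P - 1) * q ≤ q ^ (P - 1) * q := Nat.mul_le_mul_right q (Nat.pow_le_pow_left hq _)
              _ = q ^ P := by rw [← pow_succ, Nat.sub_add_cancel (by omega)]
          have h3' : 2 ^ (P - 1) = 2 ^ (P - 2) * 2 := by
            rw [← pow_succ]; congr 1; omega
          have h4' : 8 ≤ 2 ^ (P - 2) := by
            calc 8 = 2 ^ 3 := by norm_num
              _ ≤ 2 ^ (P - 2) := Nat.pow_le_pow_right two_pos (by omega)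
          rw [h3'] at h2'
          have h5' : 2 ^ (P - 2) * (q + 1) + 1 ≤ 2 ^ (P - 2) * 2 * q := by nlinarith
          omega
        have hC := Nat.pow_le_pow_left hB φ
        rw [mul_pow] at hC
        have fin : (2 * e + 1) * P ≤ (2 ^ (P - 2)) ^ φ → False := fun h =>
          absurd hkey' (not_lt.2 ((Nat.mul_le_mul_right ((q + 1) ^ φ) h).trans hC))
        rcases Nat.lt_or_ge φ 4 with hlt | hge
        · have hφ2 : φ = 2 := by obtain ⟨h2φ, k, hk⟩ := hφeven; omega
          have hm6 : m ≤ 6 := by
            have h := le_mul_totient (m := m) (P := 3) (by norm_num) fun x hx hxm => by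
              have h1 : x - 1 ∣ φ := by
                rw [← Nat.totient_prime hx, hφ]; exact Nat.totient_dvd_of_dvd hxm
              have := Nat.le_of_dvd (by omega) h1
              omega
            rw [← hφ, hφ2] at h
            exact h
          rcases (show P = 5 ∨ P = 6 ∨ 7 ≤ P by omega) with rfl | rfl | hP7
          · rw [hφ2] at hkey'
            rcases (show q = 2 ∨ 3 ≤ q by omega) with rfl | hq3
            · interval_cases m
              all_goals norm_num at hm
              all_goals subst hm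
              · exact witness 151 (by norm_num) (by decide) (by norm_num) hs
              · exact hnot (by decide)
              · exact absurd (hφ ▸ hφ2 : Nat.totient 5 = 2) (by decide)
              · exact witness 331 (by norm_num) (by decide) (by norm_num) hs
            · have h81 : 81 ≤ q ^ 4 := by
                calc 81 = 3 ^ 4 := by norm_num
                  _ ≤ q ^ 4 := Nat.pow_le_pow_left (by omega) _
              have h5' : q ^ 5 = q ^ 4 * q := by ring
              have := Nat.mul_le_mul_right q h81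
              have h8 : 50 * (q + 1) ≤ q ^ 5 - 1 := by omega
              have h64 := Nat.pow_le_pow_left h8 2
              rw [mul_pow] at h64
              norm_num at h64
              have h9 : (2 * e + 1) * 5 ≤ 2500 := by omega
              have := Nat.mul_le_mul_right ((q + 1) ^ 2) h9
              omega
          · norm_num at hP
          · refine fin ?_
            rw [hφ2]
            have h1 := Nat.mul_le_mul_left P hm6
            calc (2 * e + 1) * P ≤ (12 * P + 1) * P := Nat.mul_le_mul_right _ (by omega)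
              _ = P * (12 * P + 1) := by ring
              _ ≤ _ := num_two P hP7
        · refine fin ?_
          have h1 := Nat.mul_le_mul_left P hmP
          rw [← hm, show P * (P * φ) = P ^ 2 * φ by ring] at h1
          calc (2 * e + 1) * P ≤ (2 * P ^ 2 * φ + 1) * P := Nat.mul_le_mul_right _ (by nlinarith)
            _ = P * (2 * P ^ 2 * φ + 1) := by ring
            _ ≤ _ := num_big' P hP5 φ hge

/-- Size of the primitive part of `q^e - 1`. For a prime power `q` and `e ≥ 3`, call a divisor of `q^e - 1` primitive when it is coprime to `q^i - 1` for every `1 ≤ i < e`; the primitive part is the largest primitive divisor. Apart from thirteen exceptional pairs, the primitive part is at least `3e + 1`: there is a primitive divisor `m ≥ 3e + 1` unless `(q, e)` is `(2, 6)` (where every primitive divisor is 1), one of `(2,4), (2,10), (2,12), (2,18), (3,4), (3,6), (5,6)` (where the primitive part is exactly `e + 1`), or one of `(2,3), (2,8), (2,20), (4,3), (4,6)` (where it is exactly `2e + 1`). The statement asserts the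 existence of a primitive divisor `m ≥ 3e + 1` outside the thirteen pairs, and that every primitive divisor is at most `2e + 1` for the thirteen pairs. -/
theorem result (q e : ℕ) (hq : IsPrimePow q) (he : 3 ≤ e) :
    ((q, e) ∉ [(2, 6), (2, 4), (2, 10), (2, 12), (2, 18), (3, 4), (3, 6), (5, 6), (2, 3), (2, 8), (2, 20), (4, 3), (4, 6)] →
      ∃ m : ℕ, m ∣ q ^ e - 1 ∧ (∀ i : ℕ, 1 ≤ i → i < e → Nat.Coprime m (q ^ i - 1)) ∧ 3 * e + 1 ≤ m) ∧
    ((q, e) ∈ [(2, 6), (2, 4), (2, 10), (2, 12), (2, 18), (3, 4), (3, 6), (5, 6), (2, 3), (2, 8), (2, 20), (4, 3), (4, 6)] →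
      ∀ m : ℕ, m ∣ q ^ e - 1 → (∀ i : ℕ, 1 ≤ i → i < e → Nat.Coprime m (q ^ i - 1)) → m ≤ 2 * e + 1) := by
  refine ⟨fun hnot => ?_, fun hmem m h1 h2 => ?_⟩
  · by_contra hno
    exact no_small q e hq.two_le he hnot fun m hm hcop => by
      by_contra h
      exact hno ⟨m, hm, hcop, by omega⟩
  · simp only [List.mem_cons, List.not_mem_nil, or_false, Prod.mk.injEq] at hmem
    rcases hmem with ⟨rfl, rfl⟩ | ⟨rfl, rfl⟩ | ⟨rfl, rfl⟩ | ⟨rfl, rfl⟩ | ⟨rfl, rfl⟩ | ⟨rfl, rfl⟩ | ⟨rfl, rfl⟩ |
      ⟨rfl, rfl⟩ | ⟨rfl, rfl⟩ | ⟨rfl, rfl⟩ | ⟨rfl, rfl⟩ | ⟨rfl, rfl⟩ | ⟨rfl, rfl⟩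
    · exact exception 1 [2, 2, 3] (by decide) (by norm_num) (by norm_num) (by norm_num) m h1 h2
    · exact exception 5 [2] (by decide) (by norm_num) (by norm_num) (by norm_num) m h1 h2
    · exact exception 11 [2, 5] (by decide) (by norm_num) (by norm_num) (by norm_num) m h1 h2
    · exact exception 13 [6, 4] (by decide) (by norm_num) (by norm_num) (by norm_num) m h1 h2
    · exact exception 19 [6, 9, 2] (by decide) (by norm_num) (by norm_num) (by norm_num) m h1 h2
    · exact exception 5 [1, 1, 1, 1] (by decide) (by norm_num) (by norm_num) (by norm_num) m h1 h2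
    · exact exception 7 [3, 2] (by decide) (by norm_num) (by norm_num) (by norm_num) m h1 h2
    · exact exception 7 [3, 2, 2] (by decide) (by norm_num) (by norm_num) (by norm_num) m h1 h2
    · exact exception 7 [] (by decide) (by norm_num) (by norm_num) (by norm_num) m h1 h2
    · exact exception 17 [4] (by decide) (by norm_num) (by norm_num) (by norm_num) m h1 h2
    · exact exception 41 [10, 4, 4] (by decide) (by norm_num) (by norm_num) (by norm_num) m h1 h2
    · exact exception 7 [1, 1] (by decide) (by norm_num) (by norm_num) (by norm_num) m h1 h2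
    · exact exception 13 [3, 2] (by decide) (by norm_num) (by norm_num) (by norm_num) m h1 h2

end Cfsg.Agent.S4423
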