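import Cfsg.Statements.S4426
import Cfsg.Agent.Lib.Block.Induced

set_option autoImplicit false
open Cfsg

namespace Cfsg.Agent.S4426

open Cfsg.Agent.Block Cfsg.Agent.Char

/-- Let χ be an irreducible character in the p-block B of the finite group G (relative to a maximal ideal M of the algebraic integers containing p), let p^a be the p-part of the order of G, and let χ̃ be the class function equal to p^a · χ on p-regular elements and zero elsewhere. For ξ ∈ B the inner product [χ̃, ξ] is an integer. The following are equivalent: (a) χ has height zero in B; (b) for some ξ ∈ B the integer [χ̃, ξ] is nonzero and the exact power of p dividing it equals the exact power of p dividing ξ(1); (c) the same holds for every ξ ∈ B. -/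
theorem result {G : Type*} [Group G] [Fintype G] (p : ℕ) [Fact p.Prime] (M : Ideal Cfsg.AlgInt) (hM : Cfsg.IsPModular p M) (B : Set (Cfsg.IrrCharacter G)) (hB : Cfsg.IsPBlock M B) (χ : Cfsg.IrrCharacter G) (hχ : χ ∈ B) : (Cfsg.blockHeight p B (χ : G → ℂ) = 0 ↔ ∃ ξ ∈ B, ∃ n : ℤ, Cfsg.classInner (fun x : G => if p ∣ orderOf x then (0 : ℂ) else ((p ^ (Nat.card G).factorization p : ℕ) : ℂ) * (χ : G → ℂ) x) (ξ : G → ℂ) = (n : ℂ) ∧ n ≠ 0 ∧ padicValInt p n = (Cfsg.charDegree (ξ : G → ℂ)).factorization p) ∧ (Cfsg.blockHeight p B (χ : G → ℂ) = 0 ↔ ∀ ξ ∈ B, ∃ n : ℤ, Cfsg.classInner (fun x : G => if p ∣ orderOf x then (0 : ℂ) else ((p ^ (Nat.card G).factorization p : ℕ) : ℂ) * (χ : G → ℂ) x) (ξ : G → ℂ) = (n : ℂ) ∧ n ≠ 0 ∧ padicValInt p n = (Cfsg.charDegree (ξ : G → ℂ)).factorization p) := by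
  haveI := prime_of_isPModular hM
  have key : ∀ ξ ∈ B, ((∃ n : ℤ, classInner (fun x : G => if p ∣ orderOf x then (0 : ℂ) else ((p ^ (Nat.card G).factorization p : ℕ) : ℂ) * (χ : G → ℂ) x) (ξ : G → ℂ) = (n : ℂ) ∧ n ≠ 0 ∧ padicValInt p n = (charDegree (ξ : G → ℂ)).factorization p) ↔ blockHeight p B (χ : G → ℂ) = 0) := by
    intro ξ hξ
    obtain ⟨n, hn⟩ := classInner_int_of_isGeneralized (isGeneralizedCharacter_regRestrict hM.1 χ (Nat.sub_le _ _)) (IsIrrCharacter.isGeneralized ξ.2)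
    have hl : (n : ℂ) / (charDegree (ξ : G → ℂ) : ℂ) ∈ locRing M := by
      rw [← hn, charDegree_cast (IsIrrCharacter.isCharacter ξ.2), classInner_regRestrict_div hM.1]
      exact mul_mem (inv_natCast_mem_locRing hM.1 hM.2.2 (Nat.not_dvd_ordCompl hM.1 Nat.card_pos.ne')) (isIntegral_mem_locRing (isIntegral_regInner_div p (IsIrrCharacter.isCharacter χ.2) ξ))
    have h1 : MemLocalIdeal M ((n : ℂ) / (charDegree (ξ : G → ℂ) : ℂ)) ↔ ¬ (χ ∈ B ∧ blockHeight p B (χ : G → ℂ) = 0) := by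
      rw [← hn, charDegree_cast (IsIrrCharacter.isCharacter ξ.2)]
      exact (classInner_regRestrict_memLocalIdeal_iff hM _ _).trans (regInner_div_memLocalIdeal_iff hM hB hξ)
    have h2 := intCast_div_unit_iff hM (charDegree_pos ξ.2).ne' hl
    constructor
    · rintro ⟨m, hm, hm0, hmv⟩
      rw [hn, Int.cast_inj] at hm
      subst hm
      exact (not_not.1 fun h => (h2.2 ⟨hm0, hmv⟩) (h1.2 h)).2
    · intro h0
      exact ⟨n, hn, h2.1 fun h => h1.1 h ⟨hχ, h0⟩⟩
  refine ⟨⟨fun h0 => ⟨χ, hχ, (key χ hχ).2 h0⟩, fun ⟨ξ, hξ, h⟩ => (key ξ hξ).1 h⟩, ⟨fun h0 ξ hξ => (key ξ hξ).2 h0, fun h => (key χ hχ).1 (h χ hχ)⟩⟩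

end Cfsg.Agent.S4426
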