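import Cfsg.Statements.S4428
import Cfsg.Agent.Lib.Block.Congr
import Cfsg.Agent.Lib.Block.Induced
import Cfsg.Agent.Lib.Block.SecondMain

set_option autoImplicit false
open Cfsg

namespace Cfsg.Agent.S4428

open Cfsg.Agent.Block Cfsg.Agent.Char

/-- Let χ be an irreducible character of height zero in the p-block B of the finite group G (relative to a maximal ideal M of the algebraic integers containing p). Let x be a p-element of G with centralizer C, and let b be a block of C that induces B. Form the class function ϑ(c) = χ(x c) on C and its b-part (the sum over ψ ∈ b of the inner product of ϑ with ψ, times ψ). Then the b-part of ϑ does not vanish identically on the p-regular elements of C. (Compare the second main Theorem, which gives vanishing when b does not induce B.) -/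
theorem result {G : Type*} [Group G] [Finite G] (p : ℕ) [Fact p.Prime] (M : Ideal Cfsg.AlgInt) (hM : Cfsg.IsPModular p M) (B : Set (Cfsg.IrrCharacter G)) (hB : Cfsg.IsPBlock M B) (χ : Cfsg.IrrCharacter G) (hχ : χ ∈ B) (h0 : Cfsg.blockHeight p B (χ : G → ℂ) = 0) (x : G) (hx : ∃ k : ℕ, orderOf x = p ^ k) (b : Set (Cfsg.IrrCharacter (Subgroup.centralizer ({x} : Set G)))) (hb : Cfsg.IsInducedBlock M (Subgroup.centralizer ({x} : Set G)) b B) : ∃ y : Subgroup.centralizer ({x} : Set G), ¬ p ∣ orderOf y ∧ Cfsg.blockPart b (fun c : Subgroup.centralizer ({x} : Set G) => (χ : G → ℂ) (x * (c : G))) y ≠ 0 := by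
    classical
    haveI := prime_of_isPModular hM
    haveI := Fintype.ofFinite G
    haveI := Fintype.ofFinite (Subgroup.centralizer ({x} : Set G))
    haveI := Fintype.ofFinite (IrrCharacter (Subgroup.centralizer ({x} : Set G)))
    by_contra hn
    push Not at hn
    obtain ⟨ξ, hξ⟩ := isPBlock_nonempty hb.1
    refine (regInner_restrict_memLocalIdeal_iff hM hb χ hξ).1 ?_ ⟨hχ, h0⟩
    set f : (Subgroup.centralizer ({x} : Set G)) → ℂ := fun c => (χ : G → ℂ) c
    set θ : (Subgroup.centralizer ({x} : Set G)) → ℂ := fun c => (χ : G → ℂ) (x * (c : G))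
    have hf : IsCharacter (Subgroup.centralizer ({x} : Set G)) f := IsCharacter.restrict (IsIrrCharacter.isCharacter χ.2) (Subgroup.centralizer ({x} : Set G))
    have hxC : x ∈ (Subgroup.centralizer ({x} : Set G)) := mem_centralizer_singleton.2 (Commute.refl x)
    have hcen : ∀ z : (Subgroup.centralizer ({x} : Set G)), (⟨x, hxC⟩ : (Subgroup.centralizer ({x} : Set G))) * z = z * ⟨x, hxC⟩ := fun z => Subtype.ext
      (mem_centralizer_singleton.1 z.2).eq
    have hscal : ∀ ψ : IrrCharacter (Subgroup.centralizer ({x} : Set G)), ∃ s : ℂ, MemLocalIdeal M (s - 1) ∧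
        ∀ z, (ψ : (Subgroup.centralizer ({x} : Set G)) → ℂ) (⟨x, hxC⟩ * z) = s * (ψ : (Subgroup.centralizer ({x} : Set G)) → ℂ) z := fun ψ => by
      obtain ⟨n, ρ, hρ, hρψ⟩ := ψ.2
      obtain ⟨s, hs1, hs⟩ := exists_scalar_of_central ρ hρ hcen
      obtain ⟨k, hk⟩ := hx
      rw [hρψ] at hs
      refine ⟨s, sub_one_memLocalIdeal_of_pow hM (k := k) ?_, hs⟩
      rwa [Subgroup.orderOf_mk, hk] at hs1
    choose s hs1 hs using hscal
    have hfsum : f = ∑ ψ : IrrCharacter (Subgroup.centralizer ({x} : Set G)), classInner f (ψ : (Subgroup.centralizer ({x} : Set G)) → ℂ) • (ψ : (Subgroup.centralizer ({x} : Set G)) → ℂ) :=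
      IsClassFunction.eq_sum (IsCharacter.isClassFunction hf)
    have hθsum : θ = ∑ ψ : IrrCharacter (Subgroup.centralizer ({x} : Set G)), (classInner f (ψ : (Subgroup.centralizer ({x} : Set G)) → ℂ) * s ψ) • (ψ : (Subgroup.centralizer ({x} : Set G)) → ℂ) := by
      funext c
      have := congrFun hfsum (⟨x, hxC⟩ * c)
      simp only [Finset.sum_apply, Pi.smul_apply, smul_eq_mul, hs] at this
      simp only [θ, Finset.sum_apply, Pi.smul_apply, smul_eq_mul]
      refine Eq.trans this (Finset.sum_congr rfl fun ψ _ => ?_)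
      ring
    have hθc : IsClassFunction (Subgroup.centralizer ({x} : Set G)) θ := fun a c => by
      have : x * ((c * a * c⁻¹ : (Subgroup.centralizer ({x} : Set G))) : G) = (c : G) * (x * (a : G)) * (c : G)⁻¹ := by
        simp only [Subgroup.coe_mul, Subgroup.coe_inv, ← mul_assoc]
        rw [(mem_centralizer_singleton.1 c.2).eq]
      simp only [θ, this]
      exact IsCharacter.isClassFunction (IsIrrCharacter.isCharacter χ.2) _ _
    -- the regular inner product of θ with ξ vanishes
    have hzero : regInner p θ (ξ : (Subgroup.centralizer ({x} : Set G)) → ℂ) = 0 := by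
      have h1 : regInner p (blockPart b θ) (ξ : (Subgroup.centralizer ({x} : Set G)) → ℂ) = regInner p θ (ξ : (Subgroup.centralizer ({x} : Set G)) → ℂ) := by
        simp only [regInner]
        have h2 : ∀ c : (Subgroup.centralizer ({x} : Set G)), blockPart b θ c = ∑ ψ ∈ b.toFinite.toFinset,
            classInner θ (ψ : (Subgroup.centralizer ({x} : Set G)) → ℂ) * (ψ : (Subgroup.centralizer ({x} : Set G)) → ℂ) c := fun c => by
          rw [blockPart, finsum_mem_eq_finite_toFinset_sum _ b.toFinite]
          refine Finset.sum_congr rfl fun ψ _ => ?_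
          congr 2
          exact Subsingleton.elim _ _
        conv_rhs => rw [IsClassFunction.eq_sum hθc]
        simp only [h2, Finset.sum_apply, Pi.smul_apply, smul_eq_mul, Finset.sum_mul]
        have hite : ∀ (t : Finset (IrrCharacter (Subgroup.centralizer ({x} : Set G)))) (c : (Subgroup.centralizer ({x} : Set G))) (F : IrrCharacter (Subgroup.centralizer ({x} : Set G)) → ℂ),
            (if p ∣ orderOf c then (0 : ℂ) else ∑ ψ ∈ t, F ψ) =
              ∑ ψ ∈ t, if p ∣ orderOf c then 0 else F ψ := fun t c F => by split <;> simp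
        simp only [hite]
        conv_lhs => rw [Finset.sum_comm]
        conv_rhs => rw [Finset.sum_comm]
        refine Finset.sum_subset (Finset.subset_univ _) fun ψ _ hψ => ?_
        have h3 := sum_regular_eq_zero hM (χ := ψ) (ψ := ξ) fun hsb => hψ (b.toFinite.mem_toFinset.2
          ((isPBlock_mem_iff hb.1 hξ).2 (sameBlock_symm hsb)))
        have : ∀ c : (Subgroup.centralizer ({x} : Set G)), (if p ∣ orderOf c then (0 : ℂ) else
            classInner θ (ψ : (Subgroup.centralizer ({x} : Set G)) → ℂ) * (ψ : (Subgroup.centralizer ({x} : Set G)) → ℂ) c * (starRingEnd ℂ) ((ξ : (Subgroup.centralizer ({x} : Set G)) → ℂ) c)) =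
            classInner θ (ψ : (Subgroup.centralizer ({x} : Set G)) → ℂ) *
              (if p ∣ orderOf c then (0 : ℂ) else (ψ : (Subgroup.centralizer ({x} : Set G)) → ℂ) c * (starRingEnd ℂ) ((ξ : (Subgroup.centralizer ({x} : Set G)) → ℂ) c)) :=
          fun c => by split <;> ring
        simp only [this, ← Finset.mul_sum, h3, mul_zero]
      rw [← h1, regInner]
      refine Finset.sum_eq_zero fun c _ => ?_
      split
      · rfl
      next hc => rw [hn c hc, zero_mul]
    have hlin : ∀ a : IrrCharacter (Subgroup.centralizer ({x} : Set G)) → ℂ,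
        regInner p (∑ ψ, a ψ • (ψ : (Subgroup.centralizer ({x} : Set G)) → ℂ)) (ξ : (Subgroup.centralizer ({x} : Set G)) → ℂ) = ∑ ψ, a ψ * regInner p (ψ : (Subgroup.centralizer ({x} : Set G)) → ℂ) (ξ : (Subgroup.centralizer ({x} : Set G)) → ℂ) := by
      intro a
      simp only [regInner, Finset.sum_apply, Pi.smul_apply, smul_eq_mul, Finset.mul_sum]
      rw [Finset.sum_comm]
      refine Finset.sum_congr rfl fun c _ => ?_
      split
      · simp
      · rw [Finset.sum_mul]; exact Finset.sum_congr rfl fun ψ _ => by ring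
    have h4 : regInner p f (ξ : (Subgroup.centralizer ({x} : Set G)) → ℂ) / (ξ : (Subgroup.centralizer ({x} : Set G)) → ℂ) 1 = ∑ ψ : IrrCharacter (Subgroup.centralizer ({x} : Set G)),
        classInner f (ψ : (Subgroup.centralizer ({x} : Set G)) → ℂ) * (1 - s ψ) * (regInner p (ψ : (Subgroup.centralizer ({x} : Set G)) → ℂ) (ξ : (Subgroup.centralizer ({x} : Set G)) → ℂ) / (ξ : (Subgroup.centralizer ({x} : Set G)) → ℂ) 1) := by
      have e1 : regInner p f (ξ : (Subgroup.centralizer ({x} : Set G)) → ℂ) = regInner p f (ξ : (Subgroup.centralizer ({x} : Set G)) → ℂ) - regInner p θ (ξ : (Subgroup.centralizer ({x} : Set G)) → ℂ) := by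
        rw [hzero, sub_zero]
      rw [e1]
      conv_lhs => rw [hfsum, hθsum]
      rw [hlin, hlin, ← Finset.sum_sub_distrib, Finset.sum_div]
      exact Finset.sum_congr rfl fun ψ _ => by ring
    show MemLocalIdeal M (regInner p f (ξ : (Subgroup.centralizer ({x} : Set G)) → ℂ) / (ξ : (Subgroup.centralizer ({x} : Set G)) → ℂ) 1)
    rw [h4]
    refine memLocalIdeal_sum _ _ fun ψ _ => ?_
    obtain ⟨m, hm⟩ := classInner_natCast_of_isCharacter hf (IsIrrCharacter.isCharacter ψ.2)
    refine memLocalIdeal_mul_right (isIntegral_mem_locRing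
      (isIntegral_regInner_div p (IsIrrCharacter.isCharacter ψ.2) ξ)) ?_
    rw [hm, ← neg_sub]
    exact memLocalIdeal_mul_left (natCast_mem _ _) (memLocalIdeal_neg (hs1 ψ))

end Cfsg.Agent.S4428
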