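import Cfsg.Statements.S4435
import Cfsg.Agent.Lib.Block.FongReynolds2

set_option autoImplicit false
open Cfsg

namespace Cfsg.Agent.S4435

open Cfsg.Agent.Block Cfsg.Agent.Char

/-- Let N be a normal subgroup of the finite group G, b a block of N (relative to a maximal ideal M of the algebraic integers containing p), and T the stabilizer of b in G (the elements g such that conjugating any member of b by g gives a member of b); N ≤ T. Say that a block of T (or of G) covers b when some member has a constituent in b on restriction to N. Then: (i) every block B′ of T covering b induces a block B of G, B covers b, every ψ ∈ B′ induces to an irreducible character of G, and B consists exactly of the characters induced from members of B′; (ii) distinct blocks of T covering b induce distinct blocks of G; (iii) every block of G covering b is induced by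 some block of T covering b. -/
theorem result {G : Type*} [Group G] [Fintype G] (p : ℕ) [Fact p.Prime] (M : Ideal Cfsg.AlgInt) (hM : Cfsg.IsPModular p M) (N : Subgroup G) [hN : N.Normal] [Fintype N] (b : Set (Cfsg.IrrCharacter N)) (hb : Cfsg.IsPBlock M b) (T : Subgroup G) [Fintype T] (hT : ∀ g : G, g ∈ T ↔ ∀ θ ∈ b, ∀ θ' : Cfsg.IrrCharacter N, (∀ n : N, (θ' : N → ℂ) n = (θ : N → ℂ) ⟨g * n * g⁻¹, hN.conj_mem n n.2 g⟩) → θ' ∈ b) (hNT : N ≤ T) : (∀ B' : Set (Cfsg.IrrCharacter T), Cfsg.IsPBlock M B' → (∃ ψ ∈ B', ∃ θ ∈ b, Cfsg.classInner (fun n : N => (ψ : T → ℂ) ⟨(n : G), hNT n.2⟩) (θ : N → ℂ) ≠ 0) → ∃ B : Set (Cfsg.IrrCharacter G), Cfsg.IsInducedBlock M T B' B ∧ (∃ χ ∈ B, ∃ θ ∈ b, Cfsg.classInner (fun n : N => (χ : G → ℂ) n) (θ : N → ℂ) ≠ 0) ∧ (∀ ψ ∈ B', Cfsg.IsIrrCharacter G (Cfsg.indFun T (ψ : T → ℂ))) ∧ ∀ χ : Cfsg.IrrCharacter G, χ ∈ B ↔ ∃ ψ ∈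 B', (χ : G → ℂ) = Cfsg.indFun T (ψ : T → ℂ)) ∧ (∀ B'₁ B'₂ : Set (Cfsg.IrrCharacter T), Cfsg.IsPBlock M B'₁ → Cfsg.IsPBlock M B'₂ → (∃ ψ ∈ B'₁, ∃ θ ∈ b, Cfsg.classInner (fun n : N => (ψ : T → ℂ) ⟨(n : G), hNT n.2⟩) (θ : N → ℂ) ≠ 0) → (∃ ψ ∈ B'₂, ∃ θ ∈ b, Cfsg.classInner (fun n : N => (ψ : T → ℂ) ⟨(n : G), hNT n.2⟩) (θ : N → ℂ) ≠ 0) → ∀ B : Set (Cfsg.IrrCharacter G), Cfsg.IsInducedBlock M T B'₁ B → Cfsg.IsInducedBlock M T B'₂ B → B'₁ = B'₂) ∧ (∀ B : Set (Cfsg.IrrCharacter G), Cfsg.IsPBlock M B → (∃ χ ∈ B, ∃ θ ∈ b, Cfsg.classInner (fun n : N => (χ : G → ℂ) n) (θ : N → ℂ) ≠ 0) → ∃ B' : Set (Cfsg.IrrCharacter T), Cfsg.IsPBlock M B' ∧ (∃ ψ ∈ B', ∃ θ ∈ b, Cfsg.classInner (fun n : N => (ψ : T → ℂ) ⟨(n : G), hNT n.2⟩) (θ : N → ℂ) ≠ 0) ∧ Cfsg.IsInducedBlock M T B' B) := by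
    classical
    haveI := prime_of_isPModular hM
    have hs := isBlockStab_of_forall hb hT
    refine ⟨fun B' hB' hcov => ?_, fun B₁ B₂ hB₁ hB₂ hc₁ hc₂ B hi₁ hi₂ => ?_, fun B hB hcov => ?_⟩
    · obtain ⟨B, h1, h2, h3, h4, -⟩ := fongReynolds_block hNT hb hs hB' hcov
      exact ⟨B, h1, h2, h3, h4⟩
    · obtain ⟨C₁, -, -, -, hm₁, hu₁⟩ := fongReynolds_block hNT hb hs hB₁ hc₁
      obtain ⟨C₂, -, -, -, hm₂, hu₂⟩ := fongReynolds_block hNT hb hs hB₂ hc₂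
      obtain ⟨ψ₁, hψ₁, h₁⟩ := hc₁
      obtain ⟨χ₁, hχ₁⟩ : ∃ χ : IrrCharacter G, (χ : G → ℂ) = indFun T (ψ₁ : T → ℂ) :=
        ⟨⟨_, (isIrr_indFun hNT hb hs h₁).1⟩, rfl⟩
      have hB1 : χ₁ ∈ B := by rw [hu₁ B hi₁]; exact (hm₁ χ₁).2 ⟨ψ₁, hψ₁, hχ₁⟩
      rw [hu₂ B hi₂] at hB1
      obtain ⟨ψ₂, hψ₂, e⟩ := (hm₂ χ₁).1 hB1
      obtain ⟨ψ₀, hψ₀, h₀⟩ := hc₂
      have h₂ := over_of_mem_block hNT hb (fun t ht => (hs t).1 ht) hB₂ hψ₀ h₀ hψ₂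
      have := over_indFun_injective hNT hb hs h₁ h₂ (hχ₁.symm.trans e)
      exact isPBlock_eq_of_mem hB₁ hB₂ hψ₁ (this ▸ hψ₂)
    · obtain ⟨χ, hχ, h⟩ := hcov
      obtain ⟨ψ, hψ, e⟩ := exists_over_indFun hNT hb hs h
      have hc : ∃ φ ∈ blockOf M (ψ : T → ℂ), Over hNT b φ := ⟨ψ, self_mem_blockOf ψ, hψ⟩
      obtain ⟨C, h1, -, -, hm, -⟩ := fongReynolds_block hNT hb hs (isPBlock_blockOf ψ) hc
      refine ⟨_, isPBlock_blockOf ψ, hc, ?_⟩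
      rwa [isPBlock_eq_of_mem hB h1.2.1 hχ ((hm χ).2 ⟨ψ, self_mem_blockOf ψ, e⟩)]

end Cfsg.Agent.S4435
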