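import Cfsg.Statements.S4436
import Cfsg.Agent.Lib.Block.FongReynolds2

set_option autoImplicit false
open Cfsg

namespace Cfsg.Agent.S4436

open Cfsg.Agent.Block Cfsg.Agent.Char

/-- Let N be a normal subgroup of the finite group G, b a block of N (relative to a maximal ideal M of the algebraic integers containing p), T the stabilizer of b in G, N ≤ T, and B′ a block of T covering b (some member of B′ has a constituent in b on restriction to N) that induces the block B of G. Then every defect group of B′ is a defect group of B, and for every ψ ∈ B′ the induced character ψ^G is an irreducible character of G lying in B with the same height as ψ. -/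
theorem result {G : Type*} [Group G] [Fintype G] (p : ℕ) [Fact p.Prime] (M : Ideal Cfsg.AlgInt) (hM : Cfsg.IsPModular p M) (N : Subgroup G) [hN : N.Normal] [Fintype N] (b : Set (Cfsg.IrrCharacter N)) (hb : Cfsg.IsPBlock M b) (T : Subgroup G) [Fintype T] (hT : ∀ g : G, g ∈ T ↔ ∀ θ ∈ b, ∀ θ' : Cfsg.IrrCharacter N, (∀ n : N, (θ' : N → ℂ) n = (θ : N → ℂ) ⟨g * n * g⁻¹, hN.conj_mem n n.2 g⟩) → θ' ∈ b) (hNT : N ≤ T) (B' : Set (Cfsg.IrrCharacter T)) (hB' : Cfsg.IsPBlock M B') (hcov : (∃ ψ ∈ B', ∃ θ ∈ b, Cfsg.classInner (fun n : N => (ψ : T → ℂ) ⟨(n : G), hNT n.2⟩) (θ : N → ℂ) ≠ 0)) (B : Set (Cfsg.IrrCharacter G)) (hind : Cfsg.IsInducedBlock M T B' B) : (∀ D : Subgroup T, Cfsg.IsDefectGroup p M B' D → Cfsg.IsDefectGroup p M B (D.map T.subtype)) ∧ ∀ ψ ∈ B', ∃ χ ∈ B, (χ : G → ℂ) = Cfsg.indFun T (ψ : T → ℂ) ∧ Cfsg.blockHeight p B (χ : G → ℂ) = Cfsg.blockHeight p B' (ψ : T → ℂ) := by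
    classical
    haveI := prime_of_isPModular hM
    have hs := isBlockStab_of_forall hb hT
    obtain ⟨C, -, -, hirr, hm, hu⟩ := fongReynolds_block hNT hb hs hB' hcov
    obtain rfl := hu B hind
    have hidx : T.index ≠ 0 := Subgroup.index_ne_zero_of_finite
    have hdeg : ∀ (ψ : IrrCharacter T) (χ : IrrCharacter G), (χ : G → ℂ) = indFun T (ψ : T → ℂ) →
        (charDegree (χ : G → ℂ)).factorization p = T.index.factorization p + (charDegree (ψ : T → ℂ)).factorization p := by
      intro ψ χ e
      rw [e, charDegree_indFun, Nat.factorization_mul hidx (charDegree_pos ψ.2).ne']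
      rfl
    have hmin : minVal p B = T.index.factorization p + minVal p B' := by
      refine le_antisymm ?_ ?_
      · obtain ⟨ψ, hψ, e⟩ := exists_minVal p (isPBlock_nonempty hB')
        have := minVal_le (p := p) ((hm ⟨_, hirr ψ hψ⟩).2 ⟨ψ, hψ, rfl⟩)
        rw [hdeg ψ _ rfl, e] at this
        exact this
      · obtain ⟨χ, hχ, e⟩ := exists_minVal p (isPBlock_nonempty hind.2.1)
        obtain ⟨ψ, hψ, e'⟩ := (hm χ).1 hχ
        have := minVal_le (p := p) hψ
        rw [hdeg ψ χ e'] at e
        omega
    refine ⟨fun D hD => ?_, fun ψ hψ => ⟨⟨_, hirr ψ hψ⟩, (hm _).2 ⟨ψ, hψ, rfl⟩, rfl, ?_⟩⟩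
    · obtain ⟨E, hE⟩ := exists_isDefectGroup (p := p) hind.2.1
      obtain ⟨x, hx⟩ := defectGroup_le_of_induced hM hind hD hE
      have hcard : Nat.card ((D.map T.subtype).map (MulAut.conj x).toMonoidHom) = Nat.card E := by
        rw [card_map_conj, Nat.card_congr (D.equivMapOfInjective _ T.subtype_injective).toEquiv.symm,
          card_defectGroup hM hB' hD, card_defectGroup hM hind.2.1 hE, blockDefect_eq, blockDefect_eq, hmin]
        congr 1
        have := congrArg (fun n => n.factorization p) T.index_mul_card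
        simp only [Nat.factorization_mul hidx Nat.card_pos.ne', Finsupp.add_apply] at this
        omega
      have he := Subgroup.eq_of_le_of_card_ge hx hcard.ge
      have := isDefectGroup_map_conj hE x⁻¹
      rwa [← he, map_conj_inv_map] at this
    · change (charDegree (indFun T (ψ : T → ℂ))).factorization p - minVal p B = _
      rw [show (charDegree (indFun T (ψ : T → ℂ))).factorization p = _ from hdeg ψ ⟨_, hirr ψ hψ⟩ rfl, hmin,
        Nat.add_sub_add_left]
      exact (blockHeight_eq p B' ψ).symm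

end Cfsg.Agent.S4436
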