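import Cfsg.Statements.S4437
import Cfsg.Agent.Lib.Block.DefectAbove

set_option autoImplicit false
open Cfsg

namespace Cfsg.Agent.S4437

open Cfsg.Agent.Block Cfsg.Agent.Char

/-- Let P be a p-subgroup of the finite group G, H = P·C_G(P), and b a block of H (relative to a maximal ideal M of the algebraic integers containing p) having P as a defect group; let B be the block of G induced by b. Let T be the stabilizer of b in N_G(P): the elements g of N_G(P) such that the g-conjugate of every member of b is again a member of b. Then B has defect group P if and only if p does not divide the index of H in T. -/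
theorem result {G : Type*} [Group G] [Fintype G] (p : ℕ) [Fact p.Prime] (M : Ideal Cfsg.AlgInt) (hM : Cfsg.IsPModular p M) (P : Subgroup G) (hP : IsPGroup p P) (H : Subgroup G) [Fintype H] (hH : H = P ⊔ Subgroup.centralizer (P : Set G)) (b : Set (Cfsg.IrrCharacter H)) (hb : Cfsg.IsPBlock M b) (hbP : Cfsg.IsDefectGroup p M b (P.subgroupOf H)) (B : Set (Cfsg.IrrCharacter G)) (hind : Cfsg.IsInducedBlock M H b B) (T : Subgroup G) (hT : ∀ g : G, g ∈ T ↔ (g ∈ Subgroup.normalizer (P : Set G) ∧ ∀ θ ∈ b, ∀ θ' : Cfsg.IrrCharacter H, (∀ h h' : H, (h' : G) = g * h * g⁻¹ → (θ' : H → ℂ) h' = (θ : H → ℂ) h) → θ' ∈ b)) : Cfsg.IsDefectGroup p M B P ↔ ¬ p ∣ H.relIndex T := by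
  haveI := prime_of_isPModular hM
  subst hH
  have hPH : P ≤ P ⊔ Subgroup.centralizer (P : Set G) := le_sup_left
  have hCH : Subgroup.centralizer (P : Set G) ≤ P ⊔ Subgroup.centralizer (P : Set G) := le_sup_right
  have hHN := sup_centralizer_le_normalizer P
  have hN := normalizer_le_normalizer_sup P
  obtain ⟨ξ, hξ⟩ := isPBlock_nonempty hb
  obtain ⟨c, hc⟩ := exists_above (N := Subgroup.normalizer (P : Set G)) hM hP hPH hCH hHN
    (Factors.of_normal hM hP hPH hHN ξ)
  obtain ⟨η, hη⟩ := isPBlock_nonempty hc.isBlock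
  have hPN : P ≤ Subgroup.normalizer (P : Set G) := Subgroup.le_normalizer
  have hCN := centralizer_le_normalizer' P
  have hfη := Factors.of_normal hM hP hPN le_rfl η
  have hl := lam_blockIdem_of_isInducedBlock hind hξ
  rw [hc.lam_eq hHN hη ((CL.blockIdem hind.2.1).ps _)] at hl
  -- the defect group of `B` is decided in the normaliser
  have h1 : Cfsg.IsDefectGroup p M B P ↔
      Cfsg.IsDefectGroup p M c (P.subgroupOf (Subgroup.normalizer (P : Set G))) := by
    constructor
    · intro hD
      exact isDefectGroup_of_lam hM hPN hCN hind.2.1 hD hc.isBlock hη hfη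
        (by rw [hl]; exact one_ne_zero)
    · intro hD
      obtain ⟨B', hB', hB'D, hind'⟩ := exists_induced_of_defectGroup hM hP le_rfl hc.isBlock hD
      have hl' := lam_blockIdem_of_isInducedBlock hind' hη
      rwa [(isResHom_lam hM hP hCN (Or.inl hPN) hfη).eq_of_ne_zero hind.2.1 hB'
        (by rw [hl]; exact one_ne_zero) (by rw [hl']; exact one_ne_zero)]
  rw [h1]
  have hmem : ∀ g : G, g ∈ T ↔ ∃ hg : g ∈ Subgroup.normalizer (P : Set G),
      conjBlk (hN hg) b = b := by
    intro g
    rw [hT g]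
    constructor
    · rintro ⟨hg, h⟩
      exact ⟨hg, isPBlock_eq_of_mem (isPBlock_conjBlk _ hb) hb ((mem_conjBlk_iff _ b ξ).2 hξ)
        (h ξ hξ _ ((isConjCharOf_iff_conjIrr (hN hg) ξ _).2 rfl))⟩
    · rintro ⟨hg, h⟩
      refine ⟨hg, fun θ hθ θ' hθ' => ?_⟩
      rw [(isConjCharOf_iff_conjIrr (hN hg) θ θ').1 hθ', ← h]
      exact (mem_conjBlk_iff _ b θ).2 hθ
  have hTN : T ≤ Subgroup.normalizer (P : Set G) := fun g hg => ((hmem g).1 hg).1
  have hLT : P ⊔ Subgroup.centralizer (P : Set G) ≤ T := by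
    intro l hl
    refine (hmem l).2 ⟨hHN hl, ?_⟩
    have hfix : ∀ θ : Cfsg.IrrCharacter (P ⊔ Subgroup.centralizer (P : Set G) : Subgroup G),
        conjIrr (hN (hHN hl)) θ = θ := fun θ => Subtype.ext (funext fun k => by
      rw [conjIrr_apply]
      exact (IsIrrCharacter.apply_isConj θ.2
        (isConj_iff.2 ⟨(⟨l, hl⟩ : (P ⊔ Subgroup.centralizer (P : Set G) : Subgroup G))⁻¹,
          Subtype.ext (by simp)⟩ : IsConj k (normConj (hN (hHN hl)) k))).symm)
    rw [conjBlk, Set.image_congr fun θ _ => hfix θ, Set.image_id']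
  constructor
  · exact fun hcP => not_dvd_of_isDefectGroup_above hM hP hPH hHN hHN hN hb hξ hc hTN hLT
      (fun t ht => ((hmem t).1 ht).2) hcP
  · exact fun hd => isDefectGroup_above_of_not_dvd hM hP hPH hCH hHN le_rfl hN hb hbP hξ hc hTN hLT
      (fun q hq he => (hmem q).2 ⟨hq, he⟩) hd

end Cfsg.Agent.S4437
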