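import Cfsg.Statements.S4444
import Cfsg.Agent.Lib.Block.Glauberman

set_option autoImplicit false
open Cfsg

namespace Cfsg.Agent.S4444

open Cfsg.Agent.Block Cfsg.Agent.Char

/-- The Glauberman correspondence for a p-group of operators. Inside a finite group Γ let S normalise G with the orders of G and S coprime, S a p-group, and let C = G ⊓ C(S) be the fixed points. Call an irreducible character χ of G S-invariant when χ(s g s⁻¹) = χ(g) for s ∈ S, g ∈ G. Then: (i) for every S-invariant χ there is exactly one irreducible character β of C whose multiplicity [χ_C, β] in the restriction of χ is not divisible by p; (ii) that multiplicity is ≡ 1 or ≡ −1 (mod p); (iii) distinct S-invariant χ give distinct β; (iv) every irreducible character of C arises in this way. So χ ↦ β is a bijection from the S-invariant irreducible characters of G onto the irreducible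 characters of C. -/
theorem result {Γ : Type*} [Group Γ] [Fintype Γ] (G S : Subgroup Γ) [Fintype G] (hnorm : ∀ s ∈ S, ∀ g ∈ G, s * g * s⁻¹ ∈ G) (hcop : (Nat.card G).Coprime (Nat.card S)) (p : ℕ) (hp : p.Prime) (hS : IsPGroup p S) (C : Subgroup Γ) [Fintype C] (hC : C = G ⊓ Subgroup.centralizer (S : Set Γ)) (hCG : C ≤ G) : (∀ χ : Cfsg.IrrCharacter G, (∀ s ∈ S, ∀ g g' : G, (g' : Γ) = s * g * s⁻¹ → (χ : G → ℂ) g' = (χ : G → ℂ) g) → ∃! β : Cfsg.IrrCharacter C, ∃ m : ℕ, Cfsg.classInner (fun c : C => (χ : G → ℂ) ⟨c, hCG c.2⟩) (β : C → ℂ) = (m : ℂ) ∧ ¬ p ∣ m) ∧ (∀ χ : Cfsg.IrrCharacter G, (∀ s ∈ S, ∀ g g' : G, (g' : Γ) = s * g * s⁻¹ → (χ : G → ℂ) g' = (χ : G → ℂ) g) → ∀ β : Cfsg.IrrCharacter C, ∀ m : ℕ, Cfsg.classInner (fun c : C => (χ : G → ℂ) ⟨c, hCG c.2⟩) (β : C → ℂ) = (m : ℂ) → ¬ p ∣ m → ((m : ℤ) ≡ 1 [ZMOD p] ∨ (m : ℤ) ≡ -1 [ZMOD p])) ∧ (∀ χ χ' : Cfsg.IrrCharacter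 G, (∀ s ∈ S, ∀ g g' : G, (g' : Γ) = s * g * s⁻¹ → (χ : G → ℂ) g' = (χ : G → ℂ) g) → (∀ s ∈ S, ∀ g g' : G, (g' : Γ) = s * g * s⁻¹ → (χ' : G → ℂ) g' = (χ' : G → ℂ) g) → ∀ β : Cfsg.IrrCharacter C, ∀ m m' : ℕ, Cfsg.classInner (fun c : C => (χ : G → ℂ) ⟨c, hCG c.2⟩) (β : C → ℂ) = (m : ℂ) → ¬ p ∣ m → Cfsg.classInner (fun c : C => (χ' : G → ℂ) ⟨c, hCG c.2⟩) (β : C → ℂ) = (m' : ℂ) → ¬ p ∣ m' → χ = χ') ∧ (∀ β : Cfsg.IrrCharacter C, ∃ χ : Cfsg.IrrCharacter G, (∀ s ∈ S, ∀ g g' : G, (g' : Γ) = s * g * s⁻¹ → (χ : G → ℂ) g' = (χ : G → ℂ) g) ∧ ∃ m : ℕ, Cfsg.classInner (fun c : C => (χ : G → ℂ) ⟨c, hCG c.2⟩) (β : C → ℂ) = (m : ℂ) ∧ ¬ p ∣ m) := by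
  classical
  letI : MulDistribMulAction S G :=
    { smul := fun s g => ⟨(s : Γ) * (g : Γ) * (s : Γ)⁻¹, hnorm s s.2 g g.2⟩
      one_smul := fun g => Subtype.ext (show ((1 : S) : Γ) * (g : Γ) * ((1 : S) : Γ)⁻¹ = g by simp)
      mul_smul := fun s t g => Subtype.ext (show ((s * t : S) : Γ) * (g : Γ) * ((s * t : S) : Γ)⁻¹ =
        (s : Γ) * ((t : Γ) * (g : Γ) * (t : Γ)⁻¹) * (s : Γ)⁻¹ by simp [mul_assoc])
      smul_mul := fun s g h => Subtype.ext (show (s : Γ) * ((g * h : G) : Γ) * (s : Γ)⁻¹ =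
        (s : Γ) * (g : Γ) * (s : Γ)⁻¹ * ((s : Γ) * (h : Γ) * (s : Γ)⁻¹) by simp [mul_assoc])
      smul_one := fun s => Subtype.ext (show (s : Γ) * ((1 : G) : Γ) * (s : Γ)⁻¹ = 1 by simp) }
  let ι : C →* G := Subgroup.inclusion hCG
  have hι : FixedHom S ι := by
    refine ⟨Subgroup.inclusion_injective hCG, fun g => ⟨?_, fun h => ?_⟩⟩
    · rintro ⟨c, rfl⟩ s
      refine Subtype.ext ?_
      have hc : (c : Γ) ∈ G ⊓ Subgroup.centralizer (S : Set Γ) := hC ▸ c.2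
      show (s : Γ) * (c : Γ) * (s : Γ)⁻¹ = (c : Γ)
      rw [Subgroup.mem_centralizer_iff.1 hc.2 s s.2, mul_inv_cancel_right]
    · refine ⟨⟨(g : Γ), hC.ge ⟨g.2, Subgroup.mem_centralizer_iff.2 fun s hs => ?_⟩⟩, rfl⟩
      exact mul_inv_eq_iff_eq_mul.1 (congrArg Subtype.val (h ⟨s, hs⟩) :)
  have hinv : ∀ χ : Cfsg.IrrCharacter G, (∀ s ∈ S, ∀ g g' : G, (g' : Γ) = s * g * s⁻¹ → (χ : G → ℂ) g' = (χ : G → ℂ) g) ↔
      OpInv S (χ : G → ℂ) := fun χ => ⟨fun h s g => h s s.2 g _ rfl, fun h s hs g g' e => by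
    have := h ⟨s, hs⟩ g
    rwa [show g' = (⟨s, hs⟩ : S) • g from Subtype.ext e]⟩
  obtain ⟨hfwd, hbwd⟩ := glauberman_pgroup hp hS hcop hι
  refine ⟨fun χ hχ => ?_, fun χ hχ β m hm hmd => ?_, fun χ χ' hχ hχ' β m m' hm hmd hm' hmd' => ?_, fun β => ?_⟩
  · obtain ⟨β, m, hm, hmd, -, -, hoth⟩ := hfwd χ ((hinv χ).1 hχ)
    refine ⟨β, ⟨m, hm, hmd⟩, fun β' ⟨m', hm', hmd'⟩ => ?_⟩
    by_contra hne
    exact hmd' (hoth β' hne m' hm')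
  · obtain ⟨β₀, m₀, hm₀, -, hmod, -, hoth⟩ := hfwd χ ((hinv χ).1 hχ)
    have hβ : β = β₀ := by
      by_contra hne
      exact hmd (hoth β hne m hm)
    subst hβ
    rwa [show m = m₀ from Nat.cast_injective (R := ℂ) (hm.symm.trans hm₀)]
  · exact (hbwd β).unique ⟨(hinv χ).1 hχ, m, hm, hmd⟩ ⟨(hinv χ').1 hχ', m', hm', hmd'⟩
  · obtain ⟨χ, ⟨hχ, h⟩, -⟩ := hbwd β
    exact ⟨χ, (hinv χ).2 hχ, h⟩

end Cfsg.Agent.S4444
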