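import Cfsg.Statements.S4445
import Cfsg.Agent.Lib.Block.GlaubermanSolvable

set_option autoImplicit false
open Cfsg

namespace Cfsg.Agent.S4445

open Cfsg.Agent.Block Cfsg.Agent.Char

/-- Inside a finite group Γ let the solvable subgroup S normalise G with the orders of G and S coprime. Then the number of S-invariant irreducible characters of G (χ(s g s⁻¹) = χ(g) for all s ∈ S, g ∈ G) equals the number of conjugacy classes of G mapped to themselves by conjugation by every element of S. -/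
theorem result {Γ : Type*} [Group Γ] [Fintype Γ] (G S : Subgroup Γ) [Fintype G] (hnorm : ∀ s ∈ S, ∀ g ∈ G, s * g * s⁻¹ ∈ G) (hcop : (Nat.card G).Coprime (Nat.card S)) (hsolv : Group.IsSolvable S) : Nat.card {χ : Cfsg.IrrCharacter G // (∀ s ∈ S, ∀ g g' : G, (g' : Γ) = s * g * s⁻¹ → (χ : G → ℂ) g' = (χ : G → ℂ) g)} = Nat.card {K : ConjClasses G // ∀ s ∈ S, ∀ g g' : G, (g' : Γ) = s * g * s⁻¹ → ConjClasses.mk g = K → ConjClasses.mk g' = K} := by
  classical
  letI : MulDistribMulAction S G :=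
    { smul := fun s g => ⟨(s : Γ) * (g : Γ) * (s : Γ)⁻¹, hnorm s s.2 g g.2⟩
      one_smul := fun g => Subtype.ext (show ((1 : S) : Γ) * (g : Γ) * ((1 : S) : Γ)⁻¹ = g by simp)
      mul_smul := fun s t g => Subtype.ext (show ((s * t : S) : Γ) * (g : Γ) * ((s * t : S) : Γ)⁻¹ =
        (s : Γ) * ((t : Γ) * (g : Γ) * (t : Γ)⁻¹) * (s : Γ)⁻¹ by simp [mul_assoc])
      smul_mul := fun s g h => Subtype.ext (show (s : Γ) * ((g * h : G) : Γ) * (s : Γ)⁻¹ =
        (s : Γ) * (g : Γ) * (s : Γ)⁻¹ * ((s : Γ) * (h : Γ) * (s : Γ)⁻¹) by simp [mul_assoc])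
      smul_one := fun s => Subtype.ext (show (s : Γ) * ((1 : G) : Γ) * (s : Γ)⁻¹ = 1 by simp) }
  have hinv : ∀ χ : Cfsg.IrrCharacter G, (∀ s ∈ S, ∀ g g' : G, (g' : Γ) = s * g * s⁻¹ → (χ : G → ℂ) g' = (χ : G → ℂ) g) ↔
      OpInv S (χ : G → ℂ) := fun χ => ⟨fun h s g => h s s.2 g _ rfl, fun h s hs g g' e => by
    have := h ⟨s, hs⟩ g
    rwa [show g' = (⟨s, hs⟩ : S) • g from Subtype.ext e]⟩
  have h := count_aux (Nat.card S) S G rfl hsolv hcop
  refine (Nat.card_congr (Equiv.subtypeEquivRight hinv)).trans (h.trans (Nat.card_congr (Equiv.subtypeEquivRight fun K => ?_)))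
  exact ⟨fun hK s hs g g' e hg => by rw [show g' = (⟨s, hs⟩ : S) • g from Subtype.ext e]; exact hK _ g hg,
    fun hK s g hg => hK s s.2 g _ rfl hg⟩

end Cfsg.Agent.S4445
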