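import Cfsg.Statements.S4446
import Cfsg.Agent.Lib.Char.GlaubermanCyclic

set_option autoImplicit false
set_option linter.style.haveILetI false
open Cfsg

namespace Cfsg.Agent.S4446

open Cfsg.Agent.Char

/-- Let the finite group Γ be generated by a normal subgroup G and a cyclic subgroup S of coprime orders, C = G ⊓ C(S), and let χ be an S-invariant irreducible character of G with canonical extension χ̂ to Γ (the extension whose determinantal order is coprime to the order of S). Then there are exactly one irreducible character β of C and one sign ε such that χ̂(c s) = ε β(c) for every c ∈ C and every generator s of S; this β is a constituent of the restriction of χ to C; distinct S-invariant χ give distinct β; and every irreducible character of C arises in this way. -/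
theorem result {Γ : Type*} [Group Γ] [Fintype Γ] (G S : Subgroup Γ) [Fintype G] (hnorm : ∀ s ∈ S, ∀ g ∈ G, s * g * s⁻¹ ∈ G) (hcop : (Nat.card G).Coprime (Nat.card S)) (htop : G ⊔ S = ⊤) (hcyc : IsCyclic S) (C : Subgroup Γ) [Fintype C] (hC : C = G ⊓ Subgroup.centralizer (S : Set Γ)) (hCG : C ≤ G) : (∀ (χ : Cfsg.IrrCharacter G) (χh : Cfsg.IrrCharacter Γ), (∀ s ∈ S, ∀ g g' : G, (g' : Γ) = s * g * s⁻¹ → (χ : G → ℂ) g' = (χ : G → ℂ) g) → (∀ g : G, (χh : Γ → ℂ) g = (χ : G → ℂ) g) → (Cfsg.detOrder (χh : Γ → ℂ)).Coprime (Nat.card S) → (∃! βε : Cfsg.IrrCharacter C × ℤ, (βε.2 = 1 ∨ βε.2 = -1) ∧ ∀ c : C, ∀ s : Γ, Subgroup.zpowers s = S → (χh : Γ → ℂ) ((c : Γ) * s) = (βε.2 : ℂ) * (βε.1 : C → ℂ) c) ∧ ∀ β : Cfsg.IrrCharacter C, ∀ ε : ℤ, (ε = 1 ∨ ε = -1) → (∀ c : C, ∀ s : Γ, Subgroup.zpowers s = S → (χh : Γ → ℂ) ((c : Γ) * s) = (ε : ℂ) * (β : C → ℂ) c) → Cfsg.classInner (fun c : C => (χ : G → ℂ) ⟨c, hCG c.2⟩) (β : C → ℂ) ≠ 0) ∧ (∀ (χ χ' :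 Cfsg.IrrCharacter G) (χh χh' : Cfsg.IrrCharacter Γ), (∀ s ∈ S, ∀ g g' : G, (g' : Γ) = s * g * s⁻¹ → (χ : G → ℂ) g' = (χ : G → ℂ) g) → (∀ s ∈ S, ∀ g g' : G, (g' : Γ) = s * g * s⁻¹ → (χ' : G → ℂ) g' = (χ' : G → ℂ) g) → (∀ g : G, (χh : Γ → ℂ) g = (χ : G → ℂ) g) → (∀ g : G, (χh' : Γ → ℂ) g = (χ' : G → ℂ) g) → (Cfsg.detOrder (χh : Γ → ℂ)).Coprime (Nat.card S) → (Cfsg.detOrder (χh' : Γ → ℂ)).Coprime (Nat.card S) → ∀ β : Cfsg.IrrCharacter C, ∀ ε ε' : ℤ, (ε = 1 ∨ ε = -1) → (ε' = 1 ∨ ε' = -1) → (∀ c : C, ∀ s : Γ, Subgroup.zpowers s = S → (χh : Γ → ℂ) ((c : Γ) * s) = (ε : ℂ) * (β : C → ℂ) c) → (∀ c : C, ∀ s : Γ, Subgroup.zpowers s = S → (χh' : Γ → ℂ) ((c : Γ) * s) = (ε' : ℂ) * (β : C → ℂ) c) → χ = χ') ∧ (∀ β : Cfsg.IrrCharacter C, ∃ (χ : Cfsg.IrrCharacter G) (χh : Cfsg.IrrCharacter Γ) (ε : ℤ), (∀ s ∈ S, ∀ g g' : G, (g' : Γ) = s * g * s⁻¹ → (χ : G → ℂ) g' = (χ : G → ℂ) g) ∧ (∀ g : G, (χh : Γ → ℂ) g = (χ : G → ℂ) g) ∧ (Cfsg.detOrder (χh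 : Γ → ℂ)).Coprime (Nat.card S) ∧ (ε = 1 ∨ ε = -1) ∧ ∀ c : C, ∀ s : Γ, Subgroup.zpowers s = S → (χh : Γ → ℂ) ((c : Γ) * s) = (ε : ℂ) * (β : C → ℂ) c) := by
  classical
  obtain ⟨⟨s₀, hs₀S⟩, hgen⟩ := hcyc.exists_generator
  have hS : Subgroup.zpowers s₀ = S := by
    refine le_antisymm (Subgroup.zpowers_le.mpr hs₀S) fun x hx => ?_
    obtain ⟨i, hi⟩ := hgen ⟨x, hx⟩
    exact ⟨i, congrArg Subtype.val hi⟩
  subst hS
  have hGn : G.Normal := by
    have hN : Subgroup.normalizer (G : Set Γ) = ⊤ := by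
      refine top_le_iff.mp (htop ▸ sup_le Subgroup.le_normalizer ?_)
      intro s hs
      refine Subgroup.mem_normalizer_iff.mpr fun g => ⟨hnorm s hs g, fun h => ?_⟩
      have := hnorm s⁻¹ ((Subgroup.zpowers s₀).inv_mem hs) _ h
      simpa [mul_assoc] using this
    exact Subgroup.normalizer_eq_top_iff.mp hN
  have hcs : Subgroup.centralizer ((Subgroup.zpowers s₀ : Subgroup Γ) : Set Γ) =
      Subgroup.centralizer ({s₀} : Set Γ) := by
    ext x
    simp only [Subgroup.mem_centralizer_iff, Set.mem_singleton_iff, forall_eq]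
    refine ⟨fun h => h s₀ (Subgroup.mem_zpowers s₀), fun h y hy => ?_⟩
    obtain ⟨i, rfl⟩ := hy
    exact ((show Commute s₀ x from h).zpow_left i).eq
  let D : GlaubCyclic.Data Γ :=
    { G := G, normal := hGn, C := C, s := s₀
      hC := by rw [hC, hcs]
      top := htop
      cop := by rwa [Nat.card_zpowers] at hcop }
  letI iG : Fintype ↥D.G := (inferInstance : Fintype ↥G)
  letI iC : Fintype ↥D.C := (inferInstance : Fintype ↥C)
  have hgenj : ∀ s : Γ, Subgroup.zpowers s = Subgroup.zpowers s₀ →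
      ∃ j : ℕ, j.Coprime (orderOf s₀) ∧ s = s₀ ^ j := by
    intro s hs
    obtain ⟨j, hj⟩ : ∃ j : ℕ, s₀ ^ j = s :=
      Submonoid.mem_powers_iff _ _ |>.mp
        ((isOfFinOrder_of_finite s₀).mem_powers_iff_mem_zpowers.mpr (hs ▸ Subgroup.mem_zpowers s))
    refine ⟨j, ?_, hj.symm⟩
    have h1 : Nat.card (Subgroup.zpowers s) = Nat.card (Subgroup.zpowers s₀) :=
      congrArg (fun H : Subgroup Γ => Nat.card H) hs
    rw [Nat.card_zpowers, Nat.card_zpowers, ← hj, orderOf_pow] at h1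
    have hpos : 0 < orderOf s₀ := orderOf_pos s₀
    have hg : Nat.gcd (orderOf s₀) j = 1 := by
      rcases Nat.eq_zero_or_pos (Nat.gcd (orderOf s₀) j) with e | e
      · exact absurd (Nat.gcd_eq_zero_iff.mp e).1 hpos.ne'
      · rcases (Nat.div_eq_self.mp h1) with e' | e'
        · omega
        · exact e'
    exact Nat.Coprime.symm hg
  have hcan : ∀ (χ : IrrCharacter G) (χh : IrrCharacter Γ),
      (∀ g : G, (χh : Γ → ℂ) g = (χ : G → ℂ) g) →
      (detOrder (χh : Γ → ℂ)).Coprime (Nat.card (Subgroup.zpowers s₀)) →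
      D.Canon (χ : G → ℂ) (χh : Γ → ℂ) := fun χ χh he hd =>
    ⟨χ.2, χh.2, he, by rwa [Nat.card_zpowers] at hd⟩
  have hval : ∀ {θ : G → ℂ} {X : Γ → ℂ}, D.Canon θ X → ∀ (c : C) (s : Γ),
      Subgroup.zpowers s = Subgroup.zpowers s₀ → X ((c : Γ) * s) = D.res X c := by
    intro θ X h c s hs
    obtain ⟨j, hj, rfl⟩ := hgenj s hs
    exact D.apply_pow h hj c
  have hres : ∀ (X : Γ → ℂ) (β : IrrCharacter C) (ε : ℤ),
      (∀ c : C, ∀ s : Γ, Subgroup.zpowers s = Subgroup.zpowers s₀ →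
        X ((c : Γ) * s) = (ε : ℂ) * (β : C → ℂ) c) → D.res X = (ε : ℂ) • (β : C → ℂ) :=
    fun X β ε h => funext fun c => h c s₀ rfl
  refine ⟨fun χ χh hinv he hd => ?_, ?_, fun β => ?_⟩
  · have hc := hcan χ χh he hd
    obtain ⟨β, ε, hε, hre⟩ := D.exists_signed hc
    refine ⟨⟨(β, ε), ⟨hε, fun c s hs => (hval hc c s hs).trans (congrFun hre c)⟩, ?_⟩, ?_⟩
    · rintro ⟨β', ε'⟩ ⟨hε', h'⟩
      have e := hre.symm.trans (hres _ β' ε' h')
      obtain ⟨m, hm0, hm⟩ := IsIrrCharacter.degree_pos β.2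
      obtain ⟨m', hm0', hm'⟩ := IsIrrCharacter.degree_pos β'.2
      have e1 : ε * (m : ℤ) = ε' * (m' : ℤ) := by
        have := congrFun e (1 : C)
        simp only [Pi.smul_apply, smul_eq_mul] at this
        rw [hm, hm'] at this
        exact_mod_cast this
      have hee : ε' = ε := by
        have h0 : (0 : ℤ) < m := by exact_mod_cast hm0
        have h0' : (0 : ℤ) < m' := by exact_mod_cast hm0'
        rcases hε with h | h <;> rcases hε' with h' | h' <;> simp only at h h' <;> subst h h' <;>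
          first
            | rfl
            | (exfalso; linarith)
      subst hee
      refine Prod.ext (Subtype.ext ?_) rfl
      have hne : (ε' : ℂ) ≠ 0 := by rcases hε' with h | h <;> simp only at h <;> subst h <;> norm_num
      exact (smul_right_injective (C → ℂ) hne e).symm
    · intro β' ε' hε' h'
      have hne : classInner (D.res (χh : Γ → ℂ)) (β' : C → ℂ) ≠ 0 := by
        rw [hres _ β' ε' h', classInner_smul_left, IsIrrCharacter.classInner_self β'.2, mul_one]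
        rcases hε' with h | h <;> subst h <;> norm_num
      have h2 := D.constituent (IsIrrCharacter.isCharacter χh.2) β'.2 hne
      have efun : (fun c : C => (χh : Γ → ℂ) (c : Γ)) = fun c : C => (χ : G → ℂ) ⟨c, hCG c.2⟩ :=
        funext fun c => he ⟨c, hCG c.2⟩
      exact efun ▸ h2
  · intro χ χ' χh χh' _ _ he he' hd hd' β ε ε' hε hε' h h'
    have hi := D.classInner_res (hcan χ χh he hd) (hcan χ' χh' he' hd')
    rw [hres _ β ε h, hres _ β ε' h', classInner_smul_left, classInner_smul_right,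
      IsIrrCharacter.classInner_self β.2] at hi
    by_contra hne
    rw [if_neg (fun e => hne (Subtype.ext e))] at hi
    rcases hε with e | e <;> rcases hε' with e' | e' <;> subst e e' <;> norm_num at hi
  · obtain ⟨θ, X, hX, hne⟩ := D.exists_preimage β
    obtain ⟨β', ε, hε, hre⟩ := D.exists_signed hX
    have hb : β' = β := by
      by_contra hb
      refine hne ?_
      rw [hre, classInner_smul_left,
        IsIrrCharacter.classInner_eq_zero β'.2 β.2 (fun e => hb (Subtype.ext e)), mul_zero]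
    subst hb
    refine ⟨⟨θ, hX.irrG⟩, ⟨X, hX.irr⟩, ε, fun s _ g g' hg => ?_, hX.ext, ?_, hε,
      fun c s hs => (hval hX c s hs).trans (congrFun hre c)⟩
    · show θ g' = θ g
      rw [← hX.ext, ← hX.ext, hg]
      exact IsCharacter.isClassFunction (IsIrrCharacter.isCharacter hX.irr) _ _
    · rw [Nat.card_zpowers]; exact hX.det

end Cfsg.Agent.S4446
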