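import Cfsg.Statements.S4447
import Cfsg.Agent.Lib.Block.NormalizerPerm
import Cfsg.Agent.Lib.Solv.Coprime

set_option autoImplicit false
open Cfsg

namespace Cfsg.Agent.S4447

open Cfsg.Agent.Block Cfsg.Agent.Char

/-- Inside a finite group Γ let S normalise G and also normalise a normal subgroup N of G, with the order of S coprime to the index of N in G and S or G/N solvable. Then for every S-invariant irreducible character χ of G, the restriction of χ to N has an S-invariant irreducible constituent. -/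
theorem result {Γ : Type*} [Group Γ] [Fintype Γ] (G S N : Subgroup Γ) [Fintype G] [Fintype N] (hnorm : ∀ s ∈ S, ∀ g ∈ G, s * g * s⁻¹ ∈ G) (hNG : N ≤ G) [hNn : (N.subgroupOf G).Normal] (hNS : ∀ s ∈ S, ∀ n ∈ N, s * n * s⁻¹ ∈ N) (hcop : (N.relIndex G).Coprime (Nat.card S)) (hsolv : Group.IsSolvable S ∨ Group.IsSolvable (G ⧸ N.subgroupOf G)) (χ : Cfsg.IrrCharacter G) (hinv : (∀ s ∈ S, ∀ g g' : G, (g' : Γ) = s * g * s⁻¹ → (χ : G → ℂ) g' = (χ : G → ℂ) g)) : ∃ θ : Cfsg.IrrCharacter N, Cfsg.classInner (fun n : N => (χ : G → ℂ) ⟨n, hNG n.2⟩) (θ : N → ℂ) ≠ 0 ∧ (∀ s ∈ S, ∀ g g' : N, (g' : Γ) = s * g * s⁻¹ → (θ : N → ℂ) g' = (θ : N → ℂ) g) := by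
  classical
  set L : Subgroup Γ := Subgroup.normalizer (N : Set Γ) with hL
  have hGL : G ≤ L := fun g hg => by
    rw [hL, Subgroup.mem_normalizer_iff]
    intro n
    constructor
    · exact fun hn => hNn.conj_mem ⟨n, hNG hn⟩ hn ⟨g, hg⟩
    · intro hn
      have h := hNn.conj_mem ⟨g * n * g⁻¹, hNG hn⟩ hn ⟨g⁻¹, G.inv_mem hg⟩
      simpa [Subgroup.mem_subgroupOf, mul_assoc] using h
  have hSL : S ≤ L := fun s hs => by
    rw [hL, Subgroup.mem_normalizer_iff]
    intro n
    refine ⟨fun hn => hNS s hs n hn, fun hn => ?_⟩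
    have h := hNS s⁻¹ (S.inv_mem hs) _ hn
    simpa [mul_assoc] using h
  haveI : (N.subgroupOf L).Normal := Subgroup.normal_in_normalizer
  let act : L →* Equiv.Perm (IrrCharacter N) := permOfNormalizer N
  have hactN : N.subgroupOf L ≤ act.ker := fun x hx => permOfNormalizer_of_mem N x hx
  let ρ : L ⧸ N.subgroupOf L →* Equiv.Perm (IrrCharacter N) := QuotientGroup.lift (N.subgroupOf L) act hactN
  letI : MulAction (L ⧸ N.subgroupOf L) (IrrCharacter N) := MulAction.compHom _ ρ
  have hsmul : ∀ (x : L) (φ : IrrCharacter N), (x : L ⧸ N.subgroupOf L) • φ = act x φ := fun x φ => rfl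
  set A : Subgroup (L ⧸ N.subgroupOf L) := (S.subgroupOf L).map (QuotientGroup.mk' _)
  set K : Subgroup (L ⧸ N.subgroupOf L) := (G.subgroupOf L).map (QuotientGroup.mk' _)
  have hKcard : Nat.card K = N.relIndex G := by
    have h := Subgroup.relIndex_ker (f := QuotientGroup.mk' (N.subgroupOf L)) (G.subgroupOf L)
    rw [QuotientGroup.ker_mk', Subgroup.relIndex_subgroupOf hGL] at h
    exact h.symm
  have hAcard : Nat.card A ∣ Nat.card S :=
    (Subgroup.card_map_dvd (S.subgroupOf L) (QuotientGroup.mk' (N.subgroupOf L))).trans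
      (Nat.card_congr (Subgroup.subgroupOfEquivOfLe hSL).toEquiv).dvd
  have hAK : A ≤ Subgroup.normalizer (K : Set _) := by
    have h : S.subgroupOf L ≤ Subgroup.normalizer ((G.subgroupOf L : Subgroup L) : Set L) := fun s hs => by
      rw [Subgroup.mem_normalizer_iff]
      intro g
      refine ⟨fun hg => hnorm s hs g hg, fun hg => ?_⟩
      have h2 := hnorm (s : Γ)⁻¹ (S.inv_mem hs) _ hg
      simpa [Subgroup.mem_subgroupOf, mul_assoc] using h2
    exact (Subgroup.map_mono h).trans (Subgroup.le_normalizer_map _)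
  have hcop' : (Nat.card A).Coprime (Nat.card K) := by
    rw [hKcard]; exact (hcop.coprime_dvd_right hAcard).symm
  have hsolv' : Group.IsSolvable A ∨ Group.IsSolvable K := by
    rcases hsolv with h | h
    · haveI := h
      haveI : Group.IsSolvable (S.subgroupOf L) := Group.isSolvable_of_isSolvable_injective (f := (Subgroup.subgroupOfEquivOfLe hSL).toMonoidHom) (MulEquiv.injective _)
      exact Or.inl (Group.isSolvable_of_surjective (f := (QuotientGroup.mk' (N.subgroupOf L)).subgroupMap (S.subgroupOf L)) (MonoidHom.subgroupMap_surjective _ _))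
    · haveI := h
      refine Or.inr (Group.isSolvable_of_surjective (f := QuotientGroup.lift (N.subgroupOf G)
        (((QuotientGroup.mk' (N.subgroupOf L)).subgroupMap (G.subgroupOf L)).comp (Subgroup.subgroupOfEquivOfLe hGL).symm.toMonoidHom)
        fun x hx => MonoidHom.mem_ker.2 (Subtype.ext ((QuotientGroup.eq_one_iff _).2 hx))) ?_)
      exact QuotientGroup.lift_surjective_of_surjective _ _ (by rw [MonoidHom.coe_comp]; exact (MonoidHom.subgroupMap_surjective _ _).comp (Subgroup.subgroupOfEquivOfLe hGL).symm.surjective) _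
  set res : N → ℂ := fun n => (χ : G → ℂ) ⟨n, hNG n.2⟩ with hres
  have hresc : IsCharacter N res := isCharacter_comp (IsIrrCharacter.isCharacter χ.2) (Subgroup.inclusion hNG)
  set s : Set (IrrCharacter N) := {φ | classInner res (φ : N → ℂ) ≠ 0}
  have hinvres : ∀ x : L, ((x : Γ) ∈ G ∨ (x : Γ) ∈ S) → ∀ φ : IrrCharacter N, φ ∈ s → act x φ ∈ s := by
    intro x hx φ hφ
    show classInner res _ ≠ 0
    rw [show classInner res ((act x φ : IrrCharacter N) : N → ℂ) = classInner res (φ : N → ℂ) from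
      classInner_permOfNormalizer N x φ fun n n' hn => ?_]
    · exact hφ
    · rcases hx with hx | hx
      · have h := IsCharacter.isClassFunction (IsIrrCharacter.isCharacter χ.2) ⟨(n : Γ), hNG n.2⟩ ⟨x, hx⟩
        simp only [hres]
        exact (congrArg (χ : G → ℂ) (Subtype.ext (by simpa using hn))).trans h
      · exact hinv x hx _ _ hn
  have hres1 : res ≠ 0 := fun h => IsIrrCharacter.apply_one_ne_zero χ.2 (congrFun h 1)
  obtain ⟨φ₀, hφ₀i, hφ₀⟩ := IsCharacter.exists_irr_constituent hresc hres1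
  obtain ⟨θ, hθs, hθ⟩ := Solv.exists_fixedPoint A K hAK hcop' hsolv' s
    (fun a ha φ hφ => by
      obtain ⟨x, hx, rfl⟩ := ha
      exact hinvres x (Or.inr hx) φ hφ)
    (fun a ha φ hφ => by
      obtain ⟨x, hx, rfl⟩ := ha
      exact hinvres x (Or.inl hx) φ hφ)
    (fun φ hφ ψ hψ => by
      haveI := Fintype.ofFinite (N.subgroupOf G)
      let e := Subgroup.subgroupOfEquivOfLe hNG
      have hci : ∀ f : IrrCharacter N, classInner (fun n : N.subgroupOf G => (χ : G → ℂ) n) (fun n => (f : N → ℂ) (e n)) = classInner res (f : N → ℂ) := fun f => by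
        rw [classInner, classInner, Nat.card_congr e.toEquiv]
        congr 1
        exact Fintype.sum_equiv e.toEquiv _ _ fun n => rfl
      obtain ⟨g, hg⟩ := (mem_conjOrbit _).1 (mem_conjOrbit_of_constituent (N.subgroupOf G) χ.2
        (isIrrCharacter_comp_mulEquiv e φ.2) (isIrrCharacter_comp_mulEquiv e ψ.2)
        (by rw [hci]; exact hφ) (by rw [hci]; exact hψ))
      refine ⟨QuotientGroup.mk' _ (⟨g, hGL g.2⟩ : L)⁻¹, ⟨_, G.inv_mem g.2, rfl⟩, Subtype.ext (funext fun n => ?_)⟩
      have h := congrFun hg (e.symm n)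
      rw [Cfsg.Agent.Char.conjChar_apply] at h
      simp only [MulEquiv.apply_symm_apply] at h
      show (φ : N → ℂ) _ = _
      rw [← h]
      refine congrArg (φ : N → ℂ) (Subtype.ext ?_)
      simp [e, normalizerConj])
    ⟨φ₀, hφ₀i⟩ hφ₀
  refine ⟨θ, hθs, fun x hx g g' hg => ?_⟩
  have h := congrFun (congrArg Subtype.val (hθ (QuotientGroup.mk' _ (⟨x, hSL hx⟩ : L)⁻¹) ⟨_, S.inv_mem hx, rfl⟩)) g
  refine Eq.trans ?_ h
  show (θ : N → ℂ) g' = (θ : N → ℂ) _
  exact congrArg (θ : N → ℂ) (Subtype.ext (by simp [hg, normalizerConj]))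

end Cfsg.Agent.S4447
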