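import Cfsg.Statements.S4449
import Cfsg.Agent.Lib.Block.GlaubermanSolvable

set_option autoImplicit false
open Cfsg

namespace Cfsg.Agent.S4449

open Cfsg.Agent.Block Cfsg.Agent.Char

/-- Inside a finite group Γ let the solvable subgroup S normalise G with the orders of G and S coprime, and let N be a normal subgroup of G normalised by S. Then for every S-invariant irreducible character ϑ of N, the induced character ϑ^G has an S-invariant irreducible constituent. -/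
theorem result {Γ : Type*} [Group Γ] [Fintype Γ] (G S N : Subgroup Γ) [Fintype G] [Fintype N] (hnorm : ∀ s ∈ S, ∀ g ∈ G, s * g * s⁻¹ ∈ G) (hNG : N ≤ G) (hNnormal : ∀ g ∈ G, ∀ n ∈ N, g * n * g⁻¹ ∈ N) (hNS : ∀ s ∈ S, ∀ n ∈ N, s * n * s⁻¹ ∈ N) (hcop : (Nat.card G).Coprime (Nat.card S)) (hsolv : Group.IsSolvable S) (θ : Cfsg.IrrCharacter N) (hinv : (∀ s ∈ S, ∀ g g' : N, (g' : Γ) = s * g * s⁻¹ → (θ : N → ℂ) g' = (θ : N → ℂ) g)) : ∃ χ : Cfsg.IrrCharacter G, Cfsg.classInner (fun n : N => (χ : G → ℂ) ⟨n, hNG n.2⟩) (θ : N → ℂ) ≠ 0 ∧ (∀ s ∈ S, ∀ g g' : G, (g' : Γ) = s * g * s⁻¹ → (χ : G → ℂ) g' = (χ : G → ℂ) g) := by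
  classical
  letI : MulDistribMulAction S G :=
    { smul := fun s g => ⟨(s : Γ) * (g : Γ) * (s : Γ)⁻¹, hnorm s s.2 g g.2⟩
      one_smul := fun g => Subtype.ext (show ((1 : S) : Γ) * (g : Γ) * ((1 : S) : Γ)⁻¹ = g by simp)
      mul_smul := fun s t g => Subtype.ext (show ((s * t : S) : Γ) * (g : Γ) * ((s * t : S) : Γ)⁻¹ =
        (s : Γ) * ((t : Γ) * (g : Γ) * (t : Γ)⁻¹) * (s : Γ)⁻¹ by simp [mul_assoc])
      smul_mul := fun s g h => Subtype.ext (show (s : Γ) * ((g * h : G) : Γ) * (s : Γ)⁻¹ =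
        (s : Γ) * (g : Γ) * (s : Γ)⁻¹ * ((s : Γ) * (h : Γ) * (s : Γ)⁻¹) by simp [mul_assoc])
      smul_one := fun s => Subtype.ext (show (s : Γ) * ((1 : G) : Γ) * (s : Γ)⁻¹ = 1 by simp) }
  haveI : (N.subgroupOf G).Normal := ⟨fun n hn g => hNnormal g g.2 n hn⟩
  haveI := Fintype.ofFinite (N.subgroupOf G)
  let e := Subgroup.subgroupOfEquivOfLe hNG
  let θ' : Cfsg.IrrCharacter (N.subgroupOf G) := ⟨fun n => (θ : N → ℂ) (e n), isIrrCharacter_comp_mulEquiv e θ.2⟩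
  obtain ⟨χ, hne, hχ⟩ := constituent_aux (Nat.card S) S G rfl hsolv hcop (N.subgroupOf G)
    (fun s n => hNS s s.2 _ n.2) θ' (fun s n n' h => hinv s s.2 (e n) (e n') (congrArg Subtype.val h))
  refine ⟨χ, fun h0 => hne ?_, fun s hs g g' e' => ?_⟩
  · rw [← h0, Cfsg.classInner, Cfsg.classInner, Nat.card_congr e.toEquiv]
    congr 1
    exact Fintype.sum_equiv e.toEquiv _ _ fun n => rfl
  · have := hχ ⟨s, hs⟩ g
    rwa [show g' = (⟨s, hs⟩ : S) • g from Subtype.ext e']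

end Cfsg.Agent.S4449
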