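import Cfsg.Statements.S4451
import Cfsg.Agent.Lib.Char.GlaubermanCyclic
import Cfsg.Agent.Lib.Char.Generalized
import Cfsg.Agent.Lib.Char.SmallDegree
import Cfsg.Agent.Lib.Block.Regular

set_option autoImplicit false
open Cfsg

namespace Cfsg.Agent.S4451

open Cfsg.Agent.Char Cfsg.Agent.Block
open scoped ComplexConjugate

universe v

theorem int_spread {ι : Type*} [Fintype ι] [DecidableEq ι] (m : ι → ℤ) (hne : ∃ i j, m i ≠ m j) :
    (Fintype.card ι : ℤ) - 1 ≤ (Fintype.card ι : ℤ) * ∑ i, m i ^ 2 - (∑ i, m i) ^ 2 ∧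
    ((Fintype.card ι : ℤ) * ∑ i, m i ^ 2 - (∑ i, m i) ^ 2 = (Fintype.card ι : ℤ) - 1 →
      ∃ (k : ι) (c e : ℤ), (e = 1 ∨ e = -1) ∧ m k = c + e ∧ ∀ l, l ≠ k → m l = c) := by
  obtain ⟨i, j, hij⟩ := hne
  have hij' : i ≠ j := fun e => hij (congrArg m e)
  have hT : ∑ a, ∑ b, (m a - m b) ^ 2 = 2 * ((Fintype.card ι : ℤ) * ∑ a, m a ^ 2 - (∑ a, m a) ^ 2) := by
    have e : ∀ a, ∑ b, (m a - m b) ^ 2 = (Fintype.card ι : ℤ) * m a ^ 2 - 2 * m a * ∑ b, m b + ∑ b, m b ^ 2 := fun a => by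
      simp only [sub_sq, Finset.sum_add_distrib, Finset.sum_sub_distrib, ← Finset.mul_sum, Finset.sum_const,
        Finset.card_univ, nsmul_eq_mul]
    simp only [e, Finset.sum_add_distrib, Finset.sum_sub_distrib, ← Finset.mul_sum, ← Finset.sum_mul, Finset.sum_const,
      Finset.card_univ, nsmul_eq_mul]
    ring
  let R := (Finset.univ.erase i).erase j
  have hsum : ∀ f : ι → ℤ, ∑ a, f a = f i + f j + ∑ l ∈ R, f l := fun f => by
    rw [← Finset.add_sum_erase _ _ (Finset.mem_univ i),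
      ← Finset.add_sum_erase _ _ (Finset.mem_erase.2 ⟨hij'.symm, Finset.mem_univ j⟩), add_assoc]
  have hR : (R.card : ℤ) = (Fintype.card ι : ℤ) - 2 := by
    have h := hsum fun _ => 1
    simp only [Finset.sum_const, Finset.card_univ, nsmul_eq_mul, mul_one] at h
    linarith
  have hd : 1 ≤ (m i - m j) ^ 2 := Int.add_one_le_iff.2 (pow_two_pos_of_ne_zero (sub_ne_zero.2 hij))
  have hpair : ∀ l, 1 ≤ (m i - m l) ^ 2 + (m j - m l) ^ 2 := fun l => by
    rcases ne_or_eq (m i) (m l) with h | h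
    · nlinarith [pow_two_pos_of_ne_zero (sub_ne_zero.2 h), sq_nonneg (m j - m l)]
    · have h' : m j ≠ m l := fun e => hij (h.trans e.symm)
      nlinarith [pow_two_pos_of_ne_zero (sub_ne_zero.2 h'), sq_nonneg (m i - m l)]
  have hrow : ∀ l, ∑ b, (m l - m b) ^ 2 = ((m i - m l) ^ 2 + (m j - m l) ^ 2) + ∑ b ∈ R, (m l - m b) ^ 2 := fun l => by
    rw [hsum]; ring
  have hRR : 0 ≤ ∑ l ∈ R, ∑ b ∈ R, (m l - m b) ^ 2 := Finset.sum_nonneg fun l _ => Finset.sum_nonneg fun b _ => sq_nonneg _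
  have hP : (R.card : ℤ) ≤ ∑ l ∈ R, ((m i - m l) ^ 2 + (m j - m l) ^ 2) := by
    calc (R.card : ℤ) = ∑ l ∈ R, (1 : ℤ) := by simp
      _ ≤ _ := Finset.sum_le_sum fun l _ => hpair l
  have hTd : ∑ a, ∑ b, (m a - m b) ^ 2 = 2 * (m i - m j) ^ 2 + 2 * (∑ l ∈ R, ((m i - m l) ^ 2 + (m j - m l) ^ 2))
      + ∑ l ∈ R, ∑ b ∈ R, (m l - m b) ^ 2 := by
    rw [hsum fun a => ∑ b, (m a - m b) ^ 2, hsum fun b => (m i - m b) ^ 2, hsum fun b => (m j - m b) ^ 2,
      Finset.sum_congr rfl fun l _ => hrow l]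
    simp only [Finset.sum_add_distrib]
    ring
  refine ⟨by nlinarith, fun heq => ?_⟩
  have h1 : (m i - m j) ^ 2 = 1 := by nlinarith
  have h2 : ∑ l ∈ R, ((m i - m l) ^ 2 + (m j - m l) ^ 2) = R.card := by nlinarith
  have h3 : ∑ l ∈ R, ∑ b ∈ R, (m l - m b) ^ 2 = 0 := by nlinarith
  have hee : m i - m j = 1 ∨ m i - m j = -1 := sq_eq_one_iff.1 h1
  by_cases hRe : ∀ l ∈ R, m l = m j
  · refine ⟨i, m j, m i - m j, hee, by ring, fun l hl => ?_⟩
    by_cases hlj : l = j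
    · rw [hlj]
    · exact hRe l (Finset.mem_erase.2 ⟨hlj, Finset.mem_erase.2 ⟨hl, Finset.mem_univ l⟩⟩)
  · push Not at hRe
    obtain ⟨l₀, hl₀, hne₀⟩ := hRe
    have heach : ∀ l ∈ R, (m i - m l) ^ 2 + (m j - m l) ^ 2 = 1 := by
      have h4 : ∀ l ∈ R, (1 : ℤ) ≤ (m i - m l) ^ 2 + (m j - m l) ^ 2 := fun l _ => hpair l
      have h5 := (Finset.sum_eq_sum_iff_of_le h4).1 (by rw [h2]; simp)
      exact fun l hl => (h5 l hl).symm
    have h0 : m i - m l₀ = 0 := by
      have h := heach l₀ hl₀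
      have hj : 1 ≤ (m j - m l₀) ^ 2 := Int.add_one_le_iff.2 (pow_two_pos_of_ne_zero (sub_ne_zero.2 (Ne.symm hne₀)))
      exact pow_eq_zero_iff two_ne_zero |>.1 (by nlinarith)
    have hconst : ∀ l ∈ R, m l = m i := fun l hl => by
      have := (Finset.sum_eq_zero_iff_of_nonneg fun a _ => Finset.sum_nonneg fun b _ => sq_nonneg _).1 h3 l hl
      have := (Finset.sum_eq_zero_iff_of_nonneg fun b _ => sq_nonneg (m l - m b)).1 this l₀ hl₀
      have := pow_eq_zero_iff two_ne_zero |>.1 this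
      linarith
    refine ⟨j, m i, m j - m i, ?_, by ring, fun l hl => ?_⟩
    · rcases hee with h | h
      · right; linarith
      · left; linarith
    by_cases hli : l = i
    · rw [hli]
    · exact hconst l (Finset.mem_erase.2 ⟨hl, Finset.mem_erase.2 ⟨hli, Finset.mem_univ l⟩⟩)

variable {Γ : Type v} [Group Γ] [Fintype Γ]

/-- The norm of a coset restriction. -/
theorem norm_coset (G : Subgroup Γ) [Fintype G] (C : Subgroup Γ) [Fintype C] (hCG : C ≤ G) (x : Γ)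
    (hC : C = G ⊓ Subgroup.centralizer ({x} : Set Γ)) (hx : x ∈ Subgroup.normalizer (G : Set Γ))
    (hcop : (Nat.card G).Coprime (orderOf x)) {X : Γ → ℂ} (hX : IsCharacter Γ X)
    {θ : G → ℂ} (hθ : IsIrrCharacter G θ) (hext : ∀ g : G, X g = θ g) :
    ∑ c : C, X ((c : Γ) * x) * conj (X ((c : Γ) * x)) = (Nat.card C : ℂ) := by
  classical
  let H := G ⊔ Subgroup.zpowers x
  have hGH : G ≤ H := le_sup_left
  have hxH : x ∈ H := Subgroup.mem_sup_right (Subgroup.mem_zpowers x)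
  have hn : (G.subgroupOf H).Normal := by
    rw [Subgroup.normal_subgroupOf_iff_le_normalizer hGH]
    exact sup_le Subgroup.le_normalizer (Subgroup.zpowers_le.2 hx)
  let D : GlaubCyclic.Data H :=
    { G := G.subgroupOf H
      normal := hn
      C := C.subgroupOf H
      s := ⟨x, hxH⟩
      hC := by
        rw [hC]
        ext y
        simp [Subgroup.mem_subgroupOf, Subgroup.mem_centralizer_singleton_iff, Subtype.ext_iff]
      top := by
        refine eq_top_iff.2 fun y _ => ?_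
        have hy : (y : Γ) ∈ ((Subgroup.zpowers x ⊔ G : Subgroup Γ) : Set Γ) := by rw [sup_comm]; exact y.2
        rw [Subgroup.coe_mul_of_left_le_normalizer_right _ _ (Subgroup.zpowers_le.2 hx)] at hy
        obtain ⟨w, ⟨i, hi⟩, g, hg, he⟩ := hy
        have : y = (⟨x, hxH⟩ : H) ^ i * ⟨g, hGH hg⟩ := Subtype.ext (by
          rw [Subgroup.coe_mul, SubgroupClass.coe_zpow, ← he, ← hi])
        rw [this]
        exact Subgroup.mul_mem _ (Subgroup.mem_sup_right ⟨i, rfl⟩) (Subgroup.mem_sup_left hg)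
      cop := by
        rw [Nat.card_congr (Subgroup.subgroupOfEquivOfLe hGH).toEquiv, ← Subgroup.orderOf_coe]
        exact hcop }
  haveI : Fintype H := Fintype.ofFinite H
  haveI : Fintype D.G := Fintype.ofFinite D.G
  haveI : Fintype D.C := Fintype.ofFinite D.C
  have hXH := IsCharacter.restrict hX H
  let e := Subgroup.subgroupOfEquivOfLe hGH
  have hθ' : IsIrrCharacter D.G (fun n : D.G => X ((n : H) : Γ)) := by
    have : (fun n : D.G => X ((n : H) : Γ)) = fun n => θ (e n) := funext fun n => hext (e n)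
    rw [this]
    exact isIrrCharacter_comp_mulEquiv e hθ
  obtain ⟨m, ρ, hρ⟩ := hXH
  have hirr : IsIrrCharacter H (fun y : H => X y) :=
    SmallDegree.irr_of_restrict (H := G.subgroupOf H) ⟨m, ρ, hρ⟩ hθ'
  haveI := D.normal
  have hav := (cosetAverage_spec D.G hirr hθ' hirr).2.2 rfl
  have h1 := congrFun hav D.s
  simp only [cosetAverage] at h1
  have hsum := D.sum_coset (f := fun y : H => X y * conj (X y)) (fun a b => by
    have := IsCharacter.isClassFunction hX (a : Γ) (b : Γ)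
    show X ((b : Γ) * a * (b : Γ)⁻¹) * conj (X ((b : Γ) * a * (b : Γ)⁻¹)) = _
    rw [this])
  rw [inv_mul_eq_one₀ (Nat.cast_ne_zero.2 Nat.card_pos.ne')] at h1
  rw [← h1, mul_comm] at hsum
  have h2 := mul_left_cancel₀ (Nat.cast_ne_zero.2 Nat.card_pos.ne') hsum
  let eC := Subgroup.subgroupOfEquivOfLe (hCG.trans hGH)
  rw [show Nat.card C = Nat.card D.C from (Nat.card_congr eC.toEquiv).symm, h2]
  exact (Fintype.sum_equiv eC.toEquiv (fun c : D.C => X ((c : H) * D.s : H) * conj (X ((c : H) * D.s : H))) _ fun c => rfl).symm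

/-- Let the finite group Γ be generated by a normal subgroup G and a cyclic subgroup S of coprime orders such that every non-identity element of S has the same centraliser C = G ⊓ C(S) in G. Let χ be an S-invariant irreducible character of G, χ̂ its canonical extension to Γ (determinantal order coprime to the order of S), and β the irreducible character of C with χ̂(c s) = ε₀ β(c) for c ∈ C and generators s of S (ε₀ = ±1). Then there are a sign ε = ±1, which may differ from ε₀, and a linear character μ of S with μ² = 1, such that: (a) χ̂(c x) = ε β(c) μ(x) for all c ∈ C and all x ∈ S other than 1; (b) the restriction of χ to C equals |S|·ϑ + ε β for some character ϑ of C or ϑ = 0; (c) |S| divides χ(1) − ε β(1). -/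
theorem result {Γ : Type*} [Group Γ] [Fintype Γ] (G S : Subgroup Γ) [Fintype G] (hnorm : ∀ s ∈ S, ∀ g ∈ G, s * g * s⁻¹ ∈ G) (hcop : (Nat.card G).Coprime (Nat.card S)) (htop : G ⊔ S = ⊤) (hcyc : IsCyclic S) (C : Subgroup Γ) [Fintype C] (hC : C = G ⊓ Subgroup.centralizer (S : Set Γ)) (hCG : C ≤ G) (hfpf : ∀ x ∈ S, x ≠ 1 → G ⊓ Subgroup.centralizer ({x} : Set Γ) = C) (χ : Cfsg.IrrCharacter G) (hinv : (∀ s ∈ S, ∀ g g' : G, (g' : Γ) = s * g * s⁻¹ → (χ : G → ℂ) g' = (χ : G → ℂ) g)) (χh : Cfsg.IrrCharacter Γ) (hext : (∀ g : G, (χh : Γ → ℂ) g = (χ : G → ℂ) g)) (hdet : (Cfsg.detOrder (χh : Γ → ℂ)).Coprime (Nat.card S)) (β : Cfsg.IrrCharacter C) (ε₀ : ℤ) (hε₀ : ε₀ = 1 ∨ ε₀ = -1) (hβ : ∀ c : C, ∀ s : Γ, Subgroup.zpowers s = S → (χh : Γ → ℂ) ((c : Γ) * s) = (ε₀ : ℂ) * (β : C → ℂ) c) : ∃ ε : ℤ, (ε = 1 ∨ ε = -1) ∧ (∃ μ : S → ℂ, Cfsg.IsCharacter S μ ∧ μ 1 = 1 ∧ (∀ x : S, μ x * μ x = 1) ∧ ∀ c : C, ∀ x : S, x ≠ 1 → (χh : Γ → ℂ) ((c :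 Γ) * x) = (ε : ℂ) * (β : C → ℂ) c * μ x) ∧ (∃ ϑ : C → ℂ, Cfsg.IsCharacter C ϑ ∧ (fun c : C => (χ : G → ℂ) ⟨c, hCG c.2⟩) = fun c => (Nat.card S : ℂ) * ϑ c + (ε : ℂ) * (β : C → ℂ) c) ∧ (Nat.card S : ℤ) ∣ (Cfsg.charDegree (χ : G → ℂ) : ℤ) - ε * (Cfsg.charDegree (β : C → ℂ) : ℤ) := by
  classical
  obtain ⟨s₀, hgenS⟩ := hcyc.exists_generator
  have hs₀ : Subgroup.zpowers s₀ = (⊤ : Subgroup S) := eq_top_iff.2 fun x _ => hgenS x
  haveI := Fintype.ofFinite S
  haveI := Fintype.ofFinite (IrrCharacter S)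
  haveI := Fintype.ofFinite (IrrCharacter C)
  have hSab : ∀ a b : S, a * b = b * a := fun a b => hcyc.commutative.is_comm.comm a b
  have hCS : ∀ (c : C) (x : S), (x : Γ) * c = (c : Γ) * x := fun c x => by
    have h : (c : Γ) ∈ G ⊓ Subgroup.centralizer (S : Set Γ) := hC ▸ c.2
    exact Subgroup.mem_centralizer_iff.1 h.2 x x.2
  have hX := IsIrrCharacter.isCharacter χh.2
  by_cases hS1 : Nat.card S = 1
  · have hχ0 : ∀ c : C, (χ : G → ℂ) ⟨c, hCG c.2⟩ = (ε₀ : ℂ) * (β : C → ℂ) c := fun c => by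
      rw [← hβ c 1 (by rw [Subgroup.zpowers_one_eq_bot, Subgroup.card_eq_one.1 hS1]), mul_one, ← hext]
    refine ⟨ε₀, hε₀, ⟨fun _ => 1, IsIrrCharacter.isCharacter isIrrCharacter_one, rfl, fun _ => mul_one 1, fun c x hx => ?_⟩,
      ⟨0, isCharacter_zero, funext fun c => by rw [hχ0 c, Pi.zero_apply, mul_zero, zero_add]⟩, ?_⟩
    · haveI := (Nat.card_eq_one_iff_unique.1 hS1).1
      exact absurd (Subsingleton.elim x 1) hx
    · rw [hS1]; exact one_dvd _
  have hs₀1 : s₀ ≠ 1 := by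
    rintro rfl
    rw [Subgroup.zpowers_one_eq_bot] at hs₀
    exact hS1 (by rw [← Subgroup.card_top, ← hs₀, Subgroup.card_bot])
  -- multiplicities
  let π : C × S →* Γ :=
    { toFun := fun q => (q.1 : Γ) * q.2
      map_one' := by simp
      map_mul' := fun a b => by
        show ((a.1 * b.1 : C) : Γ) * ((a.2 * b.2 : S) : Γ) = _
        rw [Subgroup.coe_mul, Subgroup.coe_mul, mul_assoc (a.1 : Γ) (b.1 : Γ), ← mul_assoc (b.1 : Γ), ← hCS b.1 a.2]
        group }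
  let φ : IrrCharacter C → S → ℂ := fun γ x => classInner (fun c : C => (χh : Γ → ℂ) ((c : Γ) * x)) (γ : C → ℂ)
  have hm : ∀ (γ : IrrCharacter C) (ψ : IrrCharacter S), ∃ k : ℕ, classInner (φ γ) (ψ : S → ℂ) = k := by
    intro γ ψ
    obtain ⟨k, hk⟩ := classInner_natCast_of_isCharacter (isCharacter_comp hX π)
      (isCharacter_mul (isCharacter_comp (IsIrrCharacter.isCharacter γ.2) (MonoidHom.fst C S))
        (isCharacter_comp (IsIrrCharacter.isCharacter ψ.2) (MonoidHom.snd C S)))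
    refine ⟨k, ?_⟩
    rw [← hk]
    simp only [φ, classInner, Function.comp_apply, Pi.mul_apply, MonoidHom.coe_fst, MonoidHom.coe_snd, π,
      MonoidHom.coe_mk, OneHom.coe_mk, Fintype.sum_prod_type, Finset.mul_sum, Finset.sum_mul, map_mul, Nat.card_prod,
      Nat.cast_mul, mul_inv]
    rw [Finset.sum_comm]
    exact Finset.sum_congr rfl fun c _ => Finset.sum_congr rfl fun x _ => by ring
  choose m hm using hm
  have hψ1 : ∀ ψ : IrrCharacter S, (ψ : S → ℂ) 1 = 1 := fun ψ => IsIrrCharacter.degree_one_of_comm ψ.2 hSab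
  have hcard : Fintype.card (IrrCharacter S) = Nat.card S := by
    rw [← Nat.card_eq_fintype_card, card_irrCharacter]
    refine (Nat.card_congr (Equiv.ofBijective ConjClasses.mk ⟨fun a b h => ?_, ConjClasses.mk_surjective⟩)).symm
    obtain ⟨c, hc⟩ := isConj_iff.1 (ConjClasses.mk_eq_mk_iff_isConj.1 h)
    rwa [hSab c a, mul_inv_cancel_right] at hc
  have hφ : ∀ γ x, φ γ x = ∑ ψ : IrrCharacter S, (m γ ψ : ℂ) * (ψ : S → ℂ) x := by
    intro γ x
    have h := IsClassFunction.eq_sum (f := φ γ) (fun a b => by rw [hSab b a, mul_inv_cancel_right])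
    conv_lhs => rw [h]
    simp [hm]
  have hreg : ∀ x : S, x ≠ 1 → ∑ ψ : IrrCharacter S, (ψ : S → ℂ) x = 0 := by
    intro x hx
    have h := congrFun (IsClassFunction.eq_sum (f := fun y : S => if y = 1 then (1 : ℂ) else 0)
      (fun a b => by rw [hSab b a, mul_inv_cancel_right])) x
    simp [classInner, hx, hψ1, ← Finset.mul_sum] at h
    exact h
  have hgen : ∀ x : S, ∀ c : C, (χh : Γ → ℂ) ((c : Γ) * x) = ∑ γ : IrrCharacter C, φ γ x * (γ : C → ℂ) c := by
    intro x c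
    have h := congrFun (IsClassFunction.eq_sum (f := fun c : C => (χh : Γ → ℂ) ((c : Γ) * x)) (fun a b => by
      show (χh : Γ → ℂ) (((b * a * b⁻¹ : C) : Γ) * x) = _
      show _ = (χh : Γ → ℂ) ((a : Γ) * x)
      rw [← IsCharacter.isClassFunction hX ((a : Γ) * x) (b : Γ)]
      refine congrArg (χh : Γ → ℂ) ?_
      rw [Subgroup.coe_mul, Subgroup.coe_mul, Subgroup.coe_inv]
      calc (b : Γ) * a * (b : Γ)⁻¹ * x = (b : Γ) * a * ((b : Γ)⁻¹ * x) := by group
        _ = (b : Γ) * a * (x * (b : Γ)⁻¹) := by rw [← Subgroup.coe_inv, hCS b⁻¹ x]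
        _ = _ := by group)) c
    rw [h]
    simp [φ]
  have hnorm1 : ∀ x : S, x ≠ 1 → ∑ γ : IrrCharacter C, φ γ x * conj (φ γ x) = 1 := by
    intro x hx
    have hx1 : (x : Γ) ≠ 1 := fun e => hx (Subtype.ext e)
    have h := norm_coset G C hCG x (hfpf x x.2 hx1).symm (Subgroup.mem_normalizer_iff.2 fun g =>
      ⟨fun hg => hnorm x x.2 g hg, fun hg => by
        have := hnorm _ (S.inv_mem x.2) _ hg
        simpa [mul_assoc] using this⟩)
      (hcop.coprime_dvd_right (S.orderOf_dvd_natCard x.2)) hX χ.2 hext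
    rw [← classInner_sum_sum]
    have e : (∑ γ : IrrCharacter C, φ γ x • (γ : C → ℂ)) = fun c : C => (χh : Γ → ℂ) ((c : Γ) * x) :=
      funext fun c => by rw [hgen x c]; simp
    rw [e, classInner, h, inv_mul_cancel₀ (Nat.cast_ne_zero.2 Nat.card_pos.ne')]
  -- the counting
  let A : IrrCharacter C → ℤ := fun γ => (Fintype.card (IrrCharacter S) : ℤ) * ∑ ψ, (m γ ψ : ℤ) ^ 2 - (∑ ψ, (m γ ψ : ℤ)) ^ 2
  have hA : ∀ γ, (A γ : ℂ) = ∑ x ∈ Finset.univ.erase (1 : S), φ γ x * conj (φ γ x) := by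
    intro γ
    have h1 : classInner (φ γ) (φ γ) = ∑ ψ : IrrCharacter S, (m γ ψ : ℂ) * conj (m γ ψ : ℂ) := by
      rw [← classInner_sum_sum]
      congr 1 <;> exact funext fun x => by rw [hφ]; simp
    have h2 : φ γ 1 = ∑ ψ : IrrCharacter S, (m γ ψ : ℂ) := by simp [hφ, hψ1]
    rw [classInner, inv_mul_eq_iff_eq_mul₀ (Nat.cast_ne_zero.2 Nat.card_pos.ne')] at h1
    rw [← Finset.add_sum_erase _ _ (Finset.mem_univ (1 : S)), h2, ← hcard] at h1
    simp only [A, Complex.conj_natCast, map_sum] at h1 ⊢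
    push_cast
    simp only [sq]
    linear_combination -h1
  have hAsum : ∑ γ, A γ = (Nat.card S : ℤ) - 1 := by
    have h : ((∑ γ, A γ : ℤ) : ℂ) = ((Nat.card S : ℤ) - 1 : ℤ) := by
      push_cast
      simp only [hA]
      rw [Finset.sum_comm, Finset.sum_congr rfl fun x hx => hnorm1 x (Finset.ne_of_mem_erase hx), Finset.sum_const,
        Finset.card_erase_of_mem (Finset.mem_univ _), Finset.card_univ, nsmul_eq_mul, mul_one,
        Nat.card_eq_fintype_card, Nat.cast_sub Fintype.card_pos, Nat.cast_one]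
    exact_mod_cast h
  have hA0 : ∀ γ, 0 ≤ A γ ∧ ((∀ i j, m γ i = m γ j) ∨ (Nat.card S : ℤ) - 1 ≤ A γ) := fun γ => by
    refine ⟨sub_nonneg.2 (by simpa using sq_sum_le_card_mul_sum_sq (s := Finset.univ) (f := fun ψ => (m γ ψ : ℤ))), ?_⟩
    by_cases h : ∀ i j, m γ i = m γ j
    · exact Or.inl h
    push Not at h
    obtain ⟨i, j, hij⟩ := h
    right
    rw [← hcard]
    exact (int_spread (fun ψ => (m γ ψ : ℤ)) ⟨i, j, by exact_mod_cast hij⟩).1
  have hconst : ∀ γ, (∀ i j, m γ i = m γ j) → ∀ x : S, x ≠ 1 → φ γ x = 0 := fun γ h x hx => by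
    obtain ⟨ψ₀⟩ : Nonempty (IrrCharacter S) := ⟨⟨_, isIrrCharacter_one⟩⟩
    rw [hφ, Finset.sum_congr rfl fun ψ _ => by rw [h ψ ψ₀], ← Finset.mul_sum, hreg x hx, mul_zero]
  have hβs : φ β s₀ = ε₀ := by
    have hs : Subgroup.zpowers (s₀ : Γ) = S := by
      rw [← S.coe_subtype, ← MonoidHom.map_zpowers, hs₀, ← MonoidHom.range_eq_map, Subgroup.range_subtype]
    show classInner _ _ = _
    rw [show (fun c : C => (χh : Γ → ℂ) ((c : Γ) * s₀)) = (ε₀ : ℂ) • (β : C → ℂ) from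
      funext fun c => hβ c s₀ hs, classInner_smul_left, IsIrrCharacter.classInner_self β.2, mul_one]
  have hε0 : (ε₀ : ℂ) ≠ 0 := by rcases hε₀ with rfl | rfl <;> simp
  have hβne : ¬ ∀ i j, m β i = m β j := fun h => hε0 (by rw [← hβs, hconst β h s₀ hs₀1])
  have hn2 : (2 : ℤ) ≤ Nat.card S := by
    have := Nat.card_pos (α := S); omega
  have hother : ∀ γ, γ ≠ β → ∀ i j, m γ i = m γ j := fun γ hγ => by
    rcases (hA0 γ).2 with h | h
    · exact h
    · exfalso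
      have h2 := (hA0 β).2.resolve_left hβne
      have : A γ + A β ≤ ∑ δ, A δ := by
        rw [← Finset.sum_pair hγ]
        exact Finset.sum_le_sum_of_subset_of_nonneg (Finset.subset_univ _) fun δ _ _ => (hA0 δ).1
      linarith
  have hAβ : A β = (Nat.card S : ℤ) - 1 := le_antisymm
    (hAsum ▸ Finset.single_le_sum (fun δ _ => (hA0 δ).1) (Finset.mem_univ β)) ((hA0 β).2.resolve_left hβne)
  push Not at hβne
  obtain ⟨i, j, hij⟩ := hβne
  obtain ⟨ψ₀, b, e, he, hk, hl⟩ := (int_spread (fun ψ => (m β ψ : ℤ)) ⟨i, j, by exact_mod_cast hij⟩).2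
    (hAβ.trans (by rw [hcard]))
  have hk' : (m β ψ₀ : ℂ) = (b : ℂ) + e := by exact_mod_cast hk
  have hl' : ∀ ψ, ψ ≠ ψ₀ → (m β ψ : ℂ) = b := fun ψ h => by exact_mod_cast hl ψ h
  have hsplit : ∀ x : S, φ β x = (b : ℂ) * (∑ ψ : IrrCharacter S, (ψ : S → ℂ) x) + (e : ℂ) * (ψ₀ : S → ℂ) x := by
    intro x
    rw [hφ, ← Finset.add_sum_erase _ _ (Finset.mem_univ ψ₀), hk',
      Finset.sum_congr rfl fun ψ hψ => by rw [hl' ψ (Finset.ne_of_mem_erase hψ)],
      ← Finset.add_sum_erase Finset.univ (fun ψ : IrrCharacter S => (ψ : S → ℂ) x) (Finset.mem_univ ψ₀), ← Finset.mul_sum]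
    ring
  have hee : (e : ℂ) * e = 1 := by rcases he with rfl | rfl <;> simp
  have hμ : ∀ x : S, (ψ₀ : S → ℂ) x * (ψ₀ : S → ℂ) x = 1 := by
    have hs : (ψ₀ : S → ℂ) s₀ * (ψ₀ : S → ℂ) s₀ = 1 := by
      have h := hsplit s₀
      rw [hreg s₀ hs₀1, mul_zero, zero_add, hβs] at h
      have h0 : (ε₀ : ℂ) * ε₀ = 1 := by rcases hε₀ with rfl | rfl <;> simp
      rw [h] at h0
      linear_combination h0 - ((ψ₀ : S → ℂ) s₀ * (ψ₀ : S → ℂ) s₀) * hee
    obtain ⟨l, hl⟩ := IsCharacter.exists_monoidHom (IsIrrCharacter.isCharacter ψ₀.2) (hψ1 ψ₀)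
    simp only [hl] at hs ⊢
    intro x
    obtain ⟨k, rfl⟩ : x ∈ Subgroup.zpowers s₀ := hs₀ ▸ Subgroup.mem_top x
    have h2 : l s₀ * l s₀ = 1 := Units.ext (by simpa using hs)
    show ((l (s₀ ^ k) : ℂˣ) : ℂ) * ((l (s₀ ^ k) : ℂˣ) : ℂ) = 1
    rw [← Units.val_mul, map_zpow, ← mul_zpow, h2, one_zpow, Units.val_one]
  have hb : 0 ≤ b := by
    haveI : Nontrivial (IrrCharacter S) := by
      rw [← Fintype.one_lt_card_iff_nontrivial, hcard]; omega
    obtain ⟨ψ, hψ⟩ := exists_ne ψ₀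
    rw [← hl ψ hψ]; exact Int.natCast_nonneg _
  let k : IrrCharacter C → ℕ := fun γ => if γ = β then b.toNat else m γ ψ₀
  have hrestrict : (fun c : C => (χ : G → ℂ) ⟨c, hCG c.2⟩) = fun c => (Nat.card S : ℂ) *
      (∑ γ : IrrCharacter C, k γ • (γ : C → ℂ)) c + (e : ℂ) * (β : C → ℂ) c := by
    funext c
    have h1 : ∀ γ, φ γ 1 = (Nat.card S : ℂ) * k γ + if γ = β then (e : ℂ) else 0 := by
      intro γ
      by_cases h : γ = β
      · subst h
        have hb' : ((b.toNat : ℕ) : ℂ) = (b : ℂ) := by exact_mod_cast congrArg (Int.cast : ℤ → ℂ) (Int.toNat_of_nonneg hb)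
        rw [hsplit 1, if_pos rfl, show k γ = b.toNat from if_pos rfl, hb']
        simp [hψ1, hcard, mul_comm]
      · rw [if_neg h, add_zero, hφ, show k γ = m γ ψ₀ from if_neg h, Finset.sum_congr rfl fun ψ _ => by rw [hother γ h ψ ψ₀, hψ1, mul_one],
          Finset.sum_const, Finset.card_univ, hcard, nsmul_eq_mul]
    have h2 := hgen 1 c
    rw [OneMemClass.coe_one, mul_one] at h2
    rw [← hext, show ((⟨c, hCG c.2⟩ : G) : Γ) = (c : Γ) from rfl, h2]
    simp only [h1, add_mul, Finset.sum_add_distrib, ite_mul, zero_mul, Finset.sum_ite_eq', Finset.mem_univ, if_true,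
      Finset.sum_apply, Pi.smul_apply, nsmul_eq_mul, Pi.mul_apply, Pi.natCast_apply, Finset.mul_sum, mul_assoc]
  have hϑ : IsCharacter C (∑ γ : IrrCharacter C, k γ • (γ : C → ℂ)) :=
    isCharacter_sum _ _ fun γ _ => isCharacter_nsmul (IsIrrCharacter.isCharacter γ.2) _
  refine ⟨e, he, ⟨ψ₀, IsIrrCharacter.isCharacter ψ₀.2, hψ1 ψ₀, hμ, fun c x hx => ?_⟩, ⟨_, hϑ, hrestrict⟩, ?_⟩
  · rw [hgen x c, Finset.sum_eq_single β (fun γ _ hγ => by rw [hconst γ (hother γ hγ) x hx, zero_mul])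
      (fun h => absurd (Finset.mem_univ β) h), hsplit x, hreg x hx]
    ring
  · obtain ⟨d, hd⟩ := IsCharacter.exists_degree hϑ
    refine ⟨d, ?_⟩
    have h := congrFun hrestrict 1
    rw [show (⟨((1 : C) : Γ), hCG (1 : C).2⟩ : G) = 1 from rfl, hd, ← charDegree_cast (IsIrrCharacter.isCharacter χ.2),
      ← charDegree_cast (IsIrrCharacter.isCharacter β.2)] at h
    have h' : (charDegree (χ : G → ℂ) : ℤ) = (Nat.card S : ℤ) * d + e * charDegree (β : C → ℂ) := by exact_mod_cast h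
    linarith

end Cfsg.Agent.S4451
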