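import Cfsg.Statements.S4452
import Cfsg.Agent.Lib.Block.GlaubermanSolvable
import Cfsg.Agent.Lib.Block.Regular
import Cfsg.Agent.Lib.Solv.Coprime
import Cfsg.Agent.Lib.Char.Extension2
import Cfsg.Agent.Lib.Char.Gallagher
import Cfsg.Agent.Lib.Char.DegreeIndex
import Cfsg.Agent.Lib.Char.Linear

set_option autoImplicit false
set_option linter.style.haveILetI false
set_option linter.unusedSectionVars false
open Cfsg

namespace Cfsg.Agent.S4452

open Cfsg.Agent Cfsg.Agent.Char
open scoped Pointwise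

universe w

variable {G : Type w} [Group G] [Finite G]

/-- The points of `G` under conjugation. -/
structure Pt (G : Type w) where
  /-- The underlying element. -/
  val : G

instance : MulAction G (Pt G) where
  smul g x := ⟨g * x.val * g⁻¹⟩
  one_smul x := by show (⟨_⟩ : Pt G) = _; simp
  mul_smul g h x := by
    show (⟨_⟩ : Pt G) = ⟨_⟩
    congr 1
    show g * h * x.val * (g * h)⁻¹ = g * (h * x.val * h⁻¹) * g⁻¹
    group

/-- Characters of degree prime to a coprime supplement are twists of invariant characters. -/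
theorem count (K H : Subgroup G) [K.Normal] (hmul : ∀ g : G, ∃ k ∈ K, ∃ h ∈ H, g = k * h)
    (hcop : (Nat.card K).Coprime (Nat.card H)) :
    Nat.card {χ : IrrCharacter G // (charDegree (χ : G → ℂ)).Coprime (Nat.card H)} =
      Nat.card {θ : IrrCharacter K // ∀ h ∈ H, conjChar K h (θ : K → ℂ) = θ} *
        Nat.card (H →* ℂˣ) := by
  classical
  haveI := Fintype.ofFinite G
  haveI := Fintype.ofFinite K
  have hbij : Function.Bijective fun h : H => (QuotientGroup.mk (h : G) : G ⧸ K) := by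
    refine ⟨fun a b e => ?_, fun q => ?_⟩
    · have h1 : (a : G)⁻¹ * b ∈ K ⊓ H := ⟨QuotientGroup.eq.mp e, H.mul_mem (H.inv_mem a.2) b.2⟩
      rw [Subgroup.inf_eq_bot_of_coprime hcop, Subgroup.mem_bot] at h1
      exact Subtype.ext (inv_mul_eq_one.mp h1)
    · obtain ⟨g, rfl⟩ := QuotientGroup.mk_surjective q
      obtain ⟨k, hk, h, hh, rfl⟩ := hmul g
      exact ⟨⟨h, hh⟩, by
        simp only [QuotientGroup.mk_mul, (QuotientGroup.eq_one_iff k).mpr hk, one_mul]⟩
  let e : H ≃* G ⧸ K := MulEquiv.ofBijective ((QuotientGroup.mk' K).comp H.subtype) hbij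
  let π : G →* H := e.symm.toMonoidHom.comp (QuotientGroup.mk' K)
  have hπK : ∀ k ∈ K, π k = 1 := fun k hk => by
    simp [π, (QuotientGroup.eq_one_iff k).mpr hk]
  have hπH : ∀ h : H, π h = h := fun h => e.symm_apply_apply h
  have hidx : K.index = Nat.card H := by
    rw [Subgroup.index_eq_card]; exact (Nat.card_congr e.toEquiv).symm
  have hdegK : ∀ θ : IrrCharacter K, (charDegree (θ : K → ℂ)).Coprime (Nat.card H) := fun θ =>
    hcop.coprime_dvd_left (Block.charDegree_dvd_card θ.2)
  -- the canonical extension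
  have hext : ∀ θ : {θ : IrrCharacter K // ∀ h ∈ H, conjChar K h (θ : K → ℂ) = θ},
      ∃ X : G → ℂ, IsIrrCharacter G X ∧ ∀ n : K, X n = (θ.1 : K → ℂ) n := by
    rintro ⟨θ, hθ⟩
    have hinv : ∀ g : G, conjChar K g (θ : K → ℂ) = θ := by
      intro g
      obtain ⟨k, hk, h, hh, rfl⟩ := hmul g
      rw [← conjChar_mul, conjChar_of_mem K (IsCharacter.isClassFunction
        (IsIrrCharacter.isCharacter θ.2)) hk, hθ h hh]
    obtain ⟨l, hl⟩ := exists_detHom θ.2
    have hdet : detOrder (θ : K → ℂ) ∣ Nat.card K := by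
      rw [detOrder, hl, orderOf_linearChar]
      exact orderOf_dvd_of_pow_eq_one (MonoidHom.ext fun n => by
        rw [MonoidHom.pow_apply, ← map_pow, pow_card_eq_one', map_one, MonoidHom.one_apply])
    obtain ⟨X, ⟨hX, hXe, -⟩, -⟩ := exists_unique_extension_coprime θ.2 hinv
      (d := charDegree (θ : K → ℂ))
      (Block.charDegree_cast (IsIrrCharacter.isCharacter θ.2)).symm
      (by
        rw [hidx]
        exact Nat.Coprime.mul_right (Nat.Coprime.coprime_dvd_right hdet hcop.symm) (hdegK θ).symm)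
    exact ⟨X, hX, hXe⟩
  choose X hX hXe using hext
  have hval : ∀ θ n, (X θ) ((n : K) : G) = (θ.1 : K → ℂ) n := hXe
  have htw : ∀ θ (l : H →* ℂˣ), IsIrrCharacter G fun g => ((l.comp π) g : ℂ) * X θ g := fun θ l => by
    obtain ⟨d, -, hd⟩ := IsIrrCharacter.degree_pos (hX θ)
    exact (exists_twist_character (l.comp π) (hX θ) hd).1
  let Φ : {θ : IrrCharacter K // ∀ h ∈ H, conjChar K h (θ : K → ℂ) = θ} × (H →* ℂˣ) →
      {χ : IrrCharacter G // (charDegree (χ : G → ℂ)).Coprime (Nat.card H)} := fun q =>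
    ⟨⟨_, htw q.1 q.2⟩, by
      have : charDegree (fun g => ((q.2.comp π) g : ℂ) * X q.1 g) =
          charDegree (q.1.1 : K → ℂ) := by
        have h1 := hval q.1 1
        rw [OneMemClass.coe_one] at h1
        simp [charDegree, h1]
      show (charDegree (fun g => ((q.2.comp π) g : ℂ) * X q.1 g)).Coprime (Nat.card H)
      rw [this]; exact hdegK _⟩
  rw [← Nat.card_prod]
  refine (Nat.card_eq_of_bijective Φ ⟨fun q q' e => ?_, fun χ => ?_⟩).symm
  · have e' : ∀ g, ((q.2.comp π) g : ℂ) * X q.1 g = ((q'.2.comp π) g : ℂ) * X q'.1 g := fun g =>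
      congrFun (congrArg (fun z => (z.1 : G → ℂ)) e) g
    have h1 : q.1 = q'.1 := Subtype.ext (Subtype.ext (funext fun n => by
      have := e' n
      simp only [MonoidHom.comp_apply, hπK _ n.2, map_one, Units.val_one, one_mul] at this
      rwa [hval, hval] at this))
    refine Prod.ext h1 (MonoidHom.ext fun h => Units.ext ?_)
    rw [← h1] at e'
    obtain ⟨n, hn⟩ : ∃ n : K, X q.1 ((n : G) * h) ≠ 0 := by
      by_contra hh
      push Not at hh
      have hirr : IsIrrCharacter K (fun n : K => X q.1 n) := by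
        rw [show (fun n : K => X q.1 n) = (q.1.1 : K → ℂ) from funext (hval q.1)]; exact q.1.1.2
      have := congrFun ((cosetAverage_spec K (hX q.1) hirr (hX q.1)).2.2 rfl) h
      simp [cosetAverage, hh] at this
    have := e' ((n : G) * h)
    simp only [MonoidHom.comp_apply, map_mul, hπK _ n.2, hπH, map_one, one_mul] at this
    exact mul_right_cancel₀ hn this
  · obtain ⟨χ, hχ⟩ := χ
    have hc := IsIrrCharacter.isCharacter χ.2
    have hres : (fun n : K => (χ : G → ℂ) n) ≠ 0 := fun e0 => by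
      have := congrFun e0 1
      simp [IsIrrCharacter.apply_one_ne_zero χ.2] at this
    obtain ⟨θ, hθ, hne⟩ := IsCharacter.exists_irr_constituent (IsCharacter.restrict hc K) hres
    obtain ⟨m, hm⟩ := exists_classInner_nat (IsCharacter.restrict hc K) hθ
    have hdeg := restrict_degree_eq K χ.2 hθ hne
    rw [hm, ← Block.charDegree_cast hc, ← Block.charDegree_cast (IsIrrCharacter.isCharacter hθ),
      ← Nat.cast_mul, ← Nat.cast_mul, Nat.cast_inj] at hdeg
    have hdiv : (inertia K θ).index ∣ Nat.card H := hidx ▸ Subgroup.index_dvd_of_le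
      (le_inertia K (IsCharacter.isClassFunction (IsIrrCharacter.isCharacter hθ)))
    have hi : (inertia K θ).index = 1 := Nat.eq_one_of_dvd_coprimes hχ
      (hdeg ▸ Dvd.dvd.mul_left (dvd_mul_right _ _) _) hdiv
    rw [hi, one_mul] at hdeg
    have hinv : ∀ g, conjChar K g θ = θ := fun g => by
      have : g ∈ inertia K θ := by rw [Subgroup.index_eq_one.mp hi]; trivial
      exact (mem_inertia K).mp this
    have hrs := restrict_eq_smul_of_inertia_top K χ.2 hθ hne hinv
    have hm1 : m = 1 := by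
      refine Nat.eq_one_of_dvd_coprimes hχ (hdeg ▸ dvd_mul_right _ _) ?_
      rw [← hidx]
      exact multiplicity_dvd_index hθ hinv χ.2 hm fun h0 => hne (by rw [hm, h0, Nat.cast_zero])
    rw [hm, hm1, Nat.cast_one, one_smul] at hrs
    let q : {θ : IrrCharacter K // ∀ h ∈ H, conjChar K h (θ : K → ℂ) = θ} :=
      ⟨⟨θ, hθ⟩, fun h _ => hinv h⟩
    obtain ⟨μ, hμ, hμe⟩ := extension_eq_twist hθ (hX q) χ.2 (hval q) (congrFun hrs)
    refine ⟨(q, μ.comp H.subtype), Subtype.ext (Subtype.ext ?_)⟩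
    show (fun g => (((μ.comp H.subtype).comp π) g : ℂ) * X q g) = (χ : G → ℂ)
    rw [hμe]
    funext g
    obtain ⟨k, hk, h, hh, rfl⟩ := hmul g
    simp [map_mul, hπK k hk, hπH ⟨h, hh⟩, hμ ⟨k, hk⟩]

/-- Invariant characters are counted by the classes of the fixed points. -/
theorem card_invariant (K H : Subgroup G) [K.Normal] (hcop : (Nat.card K).Coprime (Nat.card H))
    (hsolv : Group.IsSolvable H) :
    Nat.card {θ : IrrCharacter K // ∀ h ∈ H, conjChar K h (θ : K → ℂ) = θ} =
      Nat.card (ConjClasses (K ⊓ Subgroup.centralizer (H : Set G) : Subgroup G)) := by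
  classical
  letI : MulDistribMulAction H K :=
    MulDistribMulAction.compHom K ((MulAut.conjNormal (H := K)).comp H.subtype)
  have hs : ∀ (h : H) (n : K), ((h • n : K) : G) = (h : G) * n * (h : G)⁻¹ :=
    fun h n => MulAut.conjNormal_apply (h : G) n
  have hinv : ∀ θ : IrrCharacter K, (∀ h ∈ H, conjChar K h (θ : K → ℂ) = θ) ↔
      Block.OpInv H (θ : K → ℂ) := fun θ => by
    constructor
    · intro h y n
      exact (conjChar_apply K (y : G) (θ : K → ℂ) n).symm.trans (congrFun (h y y.2) n)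
    · intro h y hy
      funext n
      exact (conjChar_apply K y (θ : K → ℂ) n).trans (h ⟨y, hy⟩ n)
  rw [Nat.card_congr (Equiv.subtypeEquivRight hinv),
    Block.count_aux (Nat.card H) H K rfl hsolv hcop]
  set C : Subgroup G := K ⊓ Subgroup.centralizer (H : Set G) with hC
  let f : C →* K := Subgroup.inclusion inf_le_left
  have hAK : H ≤ Subgroup.normalizer (K : Set G) := by
    rw [Subgroup.normalizer_eq_top]; exact le_top
  have hsm : ∀ (g : G) (x : Pt G), g • x = ⟨g * x.val * g⁻¹⟩ := fun _ _ => rfl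
  let Ψ : ConjClasses C → {L : ConjClasses K // ∀ (s : H) (g : K),
      ConjClasses.mk g = L → ConjClasses.mk (s • g) = L} := fun c =>
    ⟨ConjClasses.map f c, fun s g hg => by
      obtain ⟨c, rfl⟩ := ConjClasses.mk_surjective c
      have hfix : s • f c = f c := Subtype.ext (by
        rw [hs]
        exact mul_inv_eq_iff_eq_mul.mpr (Subgroup.mem_centralizer_iff.mp c.2.2 s s.2))
      refine ConjClasses.mk_eq_mk_iff_isConj.mpr ?_
      have := (MulDistribMulAction.toMonoidHom K s).map_isConj (ConjClasses.mk_eq_mk_iff_isConj.mp hg)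
      rw [show (MulDistribMulAction.toMonoidHom K s) (f c) = f c from hfix] at this
      exact this⟩
  refine (Nat.card_eq_of_bijective Ψ ⟨fun a b e => ?_, fun L => ?_⟩).symm
  · obtain ⟨a, rfl⟩ := ConjClasses.mk_surjective a
    obtain ⟨b, rfl⟩ := ConjClasses.mk_surjective b
    obtain ⟨k, hk⟩ := isConj_iff.mp (ConjClasses.mk_eq_mk_iff_isConj.mp (congrArg Subtype.val e))
    have hk' : (k : G) * (a : G) * (k : G)⁻¹ = (b : G) := congrArg Subtype.val hk
    obtain ⟨c, hc, hcab⟩ := Solv.exists_centralizer_smul_eq H K hAK hcop.symm (Or.inl hsolv)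
      (⟨a⟩ : Pt G) ⟨b⟩
      (fun h hh => congrArg Pt.mk
        (mul_inv_eq_iff_eq_mul.mpr (Subgroup.mem_centralizer_iff.mp a.2.2 h hh)))
      (fun h hh => congrArg Pt.mk
        (mul_inv_eq_iff_eq_mul.mpr (Subgroup.mem_centralizer_iff.mp b.2.2 h hh)))
      ⟨k, k.2, congrArg Pt.mk hk'⟩
    exact ConjClasses.mk_eq_mk_iff_isConj.mpr
      (isConj_iff.mpr ⟨⟨c, hc⟩, Subtype.ext (congrArg Pt.val hcab)⟩)
  · obtain ⟨L, hL⟩ := L
    obtain ⟨g, rfl⟩ := ConjClasses.mk_surjective L
    obtain ⟨⟨x⟩, ⟨k, hk, hxk⟩, hxfix⟩ := Solv.exists_fixedPoint H K hAK hcop.symm (Or.inl hsolv)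
      {x : Pt G | ∃ k ∈ K, k * (g : G) * k⁻¹ = x.val}
      (by
        rintro h hh ⟨_⟩ ⟨k, hk, rfl⟩
        have hgc : IsConj g ((⟨h, hh⟩ : H) • g) :=
          (ConjClasses.mk_eq_mk_iff_isConj.mp (hL ⟨h, hh⟩ g rfl)).symm
        obtain ⟨t, ht⟩ := isConj_iff.mp hgc
        have ht' : (t : G) * g * (t : G)⁻¹ = h * g * h⁻¹ := (congrArg Subtype.val ht).trans (hs ⟨h, hh⟩ g)
        refine ⟨h * k * h⁻¹ * t, K.mul_mem (Subgroup.Normal.conj_mem ‹K.Normal› k hk h) t.2, ?_⟩
        show _ = h * (k * g * k⁻¹) * h⁻¹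
        calc h * k * h⁻¹ * (t : G) * g * (h * k * h⁻¹ * (t : G))⁻¹
            = h * k * h⁻¹ * ((t : G) * g * (t : G)⁻¹) * h * k⁻¹ * h⁻¹ := by group
          _ = h * (k * g * k⁻¹) * h⁻¹ := by rw [ht']; group)
      (by
        rintro a ha ⟨_⟩ ⟨k, hk, rfl⟩
        exact ⟨a * k, K.mul_mem ha hk, by show _ = a * (k * g * k⁻¹) * a⁻¹; group⟩)
      (by
        rintro ⟨_⟩ ⟨k, hk, rfl⟩ ⟨_⟩ ⟨k', hk', rfl⟩
        exact ⟨k' * k⁻¹, K.mul_mem hk' (K.inv_mem hk), by rw [hsm]; congr 1; group⟩)
      ⟨g⟩ ⟨1, K.one_mem, by group⟩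
    have hxC : x ∈ C := by
      refine ⟨(show k * (g : G) * k⁻¹ = x from hxk) ▸ Subgroup.Normal.conj_mem ‹K.Normal› _ g.2 k, Subgroup.mem_centralizer_iff.mpr fun h hh => ?_⟩
      exact mul_inv_eq_iff_eq_mul.mp (congrArg Pt.val (hxfix h hh))
    refine ⟨ConjClasses.mk ⟨x, hxC⟩, Subtype.ext (ConjClasses.mk_eq_mk_iff_isConj.mpr ?_)⟩
    exact (isConj_iff.mpr ⟨⟨k, hk⟩, Subtype.ext hxk⟩).symm

/-- Let the finite group G be the product of a normal subgroup K and a solvable subgroup H of coprime orders, and let N = N_G(H). Then the number of irreducible characters of G of degree coprime to the order of H equals the number of irreducible characters of N of degree coprime to the order of H. (The two sets are in fact in a canonical bijection; only the equality of their sizes is stated here.) -/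
theorem result {G : Type*} [Group G] [Finite G] (K H : Subgroup G) [K.Normal] (hKH : K ⊔ H = ⊤) (hcop : (Nat.card K).Coprime (Nat.card H)) (hsolv : Group.IsSolvable H) : Nat.card {χ : Cfsg.IrrCharacter G // (Cfsg.charDegree (χ : G → ℂ)).Coprime (Nat.card H)} = Nat.card {η : Cfsg.IrrCharacter (Subgroup.normalizer (H : Set G)) // (Cfsg.charDegree (η : Subgroup.normalizer (H : Set G) → ℂ)).Coprime (Nat.card H)} := by
  classical
  have hHK : H ≤ Subgroup.normalizer (K : Set G) := by
    rw [Subgroup.normalizer_eq_top]; exact le_top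
  have hinf : H ⊓ K = ⊥ := Subgroup.inf_eq_bot_of_coprime hcop.symm
  set C : Subgroup G := K ⊓ Subgroup.centralizer (H : Set G) with hC
  set N := Subgroup.normalizer (H : Set G) with hN
  have hCN : C ≤ N := inf_le_right.trans (Subgroup.centralizer_le_normalizer _)
  have hHN : H ≤ N := Subgroup.le_normalizer
  have hmul : ∀ g : G, ∃ k ∈ K, ∃ h ∈ H, g = k * h := by
    intro g
    have hg : g ∈ ((K : Set G) * (H : Set G)) := by
      rw [← Subgroup.normal_mul, hKH]; trivial
    obtain ⟨k, hk, h, hh, rfl⟩ := hg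
    exact ⟨k, hk, h, hh, rfl⟩
  haveI hCn : (C.subgroupOf N).Normal := by
    refine ⟨fun a ha g => ?_⟩
    rw [Subgroup.mem_subgroupOf] at ha ⊢
    push_cast
    refine ⟨Subgroup.Normal.conj_mem ‹K.Normal› _ ha.1 _, Subgroup.mem_centralizer_iff.mpr fun h hh => ?_⟩
    have hg : (g : G) ∈ Subgroup.normalizer (H : Set G) := g.2
    have h' : (g : G)⁻¹ * h * (g : G) ∈ H := by
      have := (Subgroup.mem_normalizer_iff.mp (inv_mem hg) h).mp hh
      simpa using this
    have e := Subgroup.mem_centralizer_iff.mp ha.2 _ h'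
    calc h * ((g : G) * (a : G) * (g : G)⁻¹)
        = (g : G) * ((g : G)⁻¹ * h * (g : G) * (a : G)) * (g : G)⁻¹ := by group
      _ = (g : G) * ((a : G) * ((g : G)⁻¹ * h * (g : G))) * (g : G)⁻¹ := by rw [e]
      _ = (g : G) * (a : G) * (g : G)⁻¹ * h := by group
  have hmulN : ∀ g : N, ∃ k ∈ C.subgroupOf N, ∃ h ∈ H.subgroupOf N, g = k * h := by
    intro g
    obtain ⟨k, hk, h, hh, e⟩ := hmul g
    have hkN : k ∈ N := by
      have : k = (g : G) * h⁻¹ := by rw [e, mul_inv_cancel_right]
      rw [this]; exact N.mul_mem g.2 (hHN (H.inv_mem hh))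
    have hkC : k ∈ C := ⟨hk, Solv.mem_centralizer_of_mem_normalizer hHK hk hkN hinf⟩
    exact ⟨⟨k, hkN⟩, hkC, ⟨h, hHN hh⟩, hh, Subtype.ext e⟩
  have hCc : Nat.card (C.subgroupOf N) = Nat.card C :=
    Nat.card_congr (Subgroup.subgroupOfEquivOfLe hCN).toEquiv
  have hHc : Nat.card (H.subgroupOf N) = Nat.card H :=
    Nat.card_congr (Subgroup.subgroupOfEquivOfLe hHN).toEquiv
  have hcopN : (Nat.card (C.subgroupOf N)).Coprime (Nat.card (H.subgroupOf N)) := by
    rw [hCc, hHc]
    exact hcop.coprime_dvd_left (Subgroup.card_dvd_of_le inf_le_left)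
  have hhom : Nat.card (H.subgroupOf N →* ℂˣ) = Nat.card (H →* ℂˣ) :=
    Nat.card_congr
      { toFun := fun l => l.comp (Subgroup.subgroupOfEquivOfLe hHN).symm.toMonoidHom
        invFun := fun l => l.comp (Subgroup.subgroupOfEquivOfLe hHN).toMonoidHom
        left_inv := fun l => MonoidHom.ext fun x => by simp
        right_inv := fun l => MonoidHom.ext fun x => by simp }
  rw [count K H hmul hcop]
  have h2 := count (C.subgroupOf N) (H.subgroupOf N) hmulN hcopN
  rw [hHc] at h2
  rw [h2, hhom]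
  congr 1
  have hall : ∀ (θ : IrrCharacter (C.subgroupOf N)) (h : N), h ∈ H.subgroupOf N →
      conjChar (C.subgroupOf N) h (θ : C.subgroupOf N → ℂ) = θ := by
    intro θ h hh
    funext n
    show (θ : C.subgroupOf N → ℂ) ⟨_, _⟩ = _
    refine congrArg _ (Subtype.ext (Subtype.ext ?_))
    show (h : G) * ((n : N) : G) * (h : G)⁻¹ = ((n : N) : G)
    exact mul_inv_eq_iff_eq_mul.mpr (Subgroup.mem_centralizer_iff.mp n.2.2 (h : G) hh)
  have hallC : Nat.card {θ : IrrCharacter (C.subgroupOf N) // ∀ h ∈ H.subgroupOf N,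
      conjChar (C.subgroupOf N) h (θ : C.subgroupOf N → ℂ) = θ} = Nat.card (ConjClasses C) := by
    rw [Nat.card_congr (Equiv.subtypeUnivEquiv hall), card_irrCharacter]
    exact Nat.card_congr
      { toFun := ConjClasses.map (Subgroup.subgroupOfEquivOfLe hCN).toMonoidHom
        invFun := ConjClasses.map (Subgroup.subgroupOfEquivOfLe hCN).symm.toMonoidHom
        left_inv := fun c => by
          obtain ⟨a, rfl⟩ := ConjClasses.mk_surjective c
          exact congrArg ConjClasses.mk ((Subgroup.subgroupOfEquivOfLe hCN).symm_apply_apply a)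
        right_inv := fun c => by
          obtain ⟨a, rfl⟩ := ConjClasses.mk_surjective c
          exact congrArg ConjClasses.mk ((Subgroup.subgroupOfEquivOfLe hCN).apply_symm_apply a) }
  rw [hallC]
  exact card_invariant K H hcop hsolv

end Cfsg.Agent.S4452
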