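import Cfsg.Statements.S4454
import Cfsg.Agent.S4451
import Cfsg.Agent.Lib.Char.Gallagher
import Cfsg.Agent.Lib.Char.Extension2

set_option autoImplicit false
open Cfsg

namespace Cfsg.Agent.S4454

open Cfsg.Agent.Char
open scoped ComplexConjugate

/-- Let N ≤ G be normal subgroups of the finite group Γ with Γ/G cyclic and Γ/N a Frobenius group with kernel G/N: G ≠ Γ, N ≠ G, and no element of Γ outside G fixes a non-identity coset of N in G under conjugation. Let ϑ be an irreducible character of N invariant under conjugation by Γ and suppose ϑ is fully ramified in G: the character of G induced from ϑ equals e·χ for an irreducible character χ of G and a natural number e. Then the index of G in Γ divides e − 1 or e + 1. -/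
theorem result {Γ : Type*} [Group Γ] [Fintype Γ] (G N : Subgroup Γ) [hG : G.Normal] [hN : N.Normal] [Fintype G] [Fintype N] (hNG : N ≤ G) (hGlt : G ≠ ⊤) (hNlt : N ≠ G) (hcyc : IsCyclic (Γ ⧸ G)) (hfrob : ∀ x : Γ, x ∉ G → ∀ g : Γ, g ∈ G → x * g * x⁻¹ * g⁻¹ ∈ N → g ∈ N) (θ : Cfsg.IrrCharacter N) (hinv : ∀ (x : Γ) (n : N), (θ : N → ℂ) ⟨x * n * x⁻¹, hN.conj_mem n n.2 x⟩ = (θ : N → ℂ) n) (χ : Cfsg.IrrCharacter G) (e : ℕ) (hram : Cfsg.indFun (N.subgroupOf G) (fun n : N.subgroupOf G => (θ : N → ℂ) ⟨(n : G), n.2⟩) = fun g => (e : ℂ) * (χ : G → ℂ) g) : (G.index : ℤ) ∣ (e : ℤ) - 1 ∨ (G.index : ℤ) ∣ (e : ℤ) + 1 := by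
  classical
  -- data inside `G`
  let N₁ := N.subgroupOf G
  haveI : N₁.Normal := hN.subgroupOf G
  haveI := Fintype.ofFinite N₁
  set θ₁ : N₁ → ℂ := fun n => (θ : N → ℂ) ⟨(n : G), n.2⟩ with hθ₁def
  have hθ₁ : IsIrrCharacter N₁ θ₁ := isIrrCharacter_comp_mulEquiv (Subgroup.subgroupOfEquivOfLe hNG) θ.2
  have hχc := IsIrrCharacter.isCharacter χ.2
  have he0 : (e : ℂ) ≠ 0 := by
    intro h0
    have h1 := congrFun hram 1
    rw [indFun_one_apply] at h1
    simp only [h0, zero_mul] at h1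
    exact mul_ne_zero (Nat.cast_ne_zero.2 Subgroup.index_ne_zero_of_finite) (IsIrrCharacter.apply_one_ne_zero hθ₁) h1
  have hinner : classInner (fun n : N₁ => (χ : G → ℂ) n) θ₁ = e := by
    have h := classInner_indFun N₁ θ₁ (IsCharacter.isClassFunction hχc)
    rw [hram, show (fun g : G => (e : ℂ) * (χ : G → ℂ) g) = (e : ℂ) • (χ : G → ℂ) from rfl, classInner_smul_left,
      IsIrrCharacter.classInner_self χ.2, mul_one] at h
    rw [← classInner_conj_symm, ← h, Complex.conj_natCast]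
  have hresN : ∀ (n : N), (χ : G → ℂ) ⟨n, hNG n.2⟩ = (e : ℂ) * (θ : N → ℂ) n := by
    intro n
    have h := congrFun (restrict_eq_smul_of_inertia_top N₁ χ.2 hθ₁ (hinner ▸ he0) fun g => funext fun m => by
      show θ₁ _ = θ₁ m
      exact hinv (g : Γ) ⟨(m : G), m.2⟩) ⟨⟨n, hNG n.2⟩, n.2⟩
    rw [hinner] at h
    exact h
  -- extension of `χ`
  have hinvχ : ∀ x, conjChar G x (χ : G → ℂ) = (χ : G → ℂ) := by
    intro x
    funext g
    have h : indFun N₁ θ₁ (MulAut.conjNormal x g) = indFun N₁ θ₁ g := by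
      simp only [indFun]
      congr 1
      refine (Fintype.sum_equiv (MulAut.conjNormal x : MulAut G).toEquiv _ _ fun w => ?_).symm
      show extendByZero N₁ θ₁ (w⁻¹ * g * w) = extendByZero N₁ θ₁ ((MulAut.conjNormal x w)⁻¹ * MulAut.conjNormal x g * MulAut.conjNormal x w)
      rw [← map_inv, ← map_mul, ← map_mul]
      generalize w⁻¹ * g * w = z
      have hiff : (MulAut.conjNormal x z : G) ∈ N₁ ↔ z ∈ N₁ := by
        show ((MulAut.conjNormal x z : G) : Γ) ∈ N ↔ (z : Γ) ∈ N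
        rw [MulAut.conjNormal_apply]
        exact ⟨fun h => by have := hN.conj_mem _ h x⁻¹; simpa [mul_assoc] using this, fun h => hN.conj_mem _ h x⟩
      by_cases hz : z ∈ N₁
      · rw [extendByZero_of_mem N₁ θ₁ hz, extendByZero_of_mem N₁ θ₁ (hiff.2 hz)]
        refine (Eq.trans ?_ (hinv x ⟨(z : Γ), hz⟩)).symm
        exact congrArg (θ : N → ℂ) (Subtype.ext (MulAut.conjNormal_apply x z))
      · simp [extendByZero, hz, mt hiff.1 hz]
    rw [hram] at h
    exact (conjChar_apply G x _ g).trans (mul_left_cancel₀ he0 h)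
  obtain ⟨ψ, hψ, hψG⟩ := exists_extension_of_cyclic hcyc χ.2 hinvχ
  have hψc := IsIrrCharacter.isCharacter hψ
  -- norms on cosets
  have hGnorm : ∀ y : Γ, ∑ g : G, ψ ((g : Γ) * y) * conj (ψ ((g : Γ) * y)) = (Nat.card G : ℂ) := by
    intro y
    have hres : IsIrrCharacter G (fun g : G => ψ g) := by rw [show (fun g : G => ψ g) = (χ : G → ℂ) from funext hψG]; exact χ.2
    have h := congrFun ((cosetAverage_spec G hψ hres hψ).2.2 rfl) y
    simp only [cosetAverage] at h
    exact ((inv_mul_eq_one₀ (Nat.cast_ne_zero.2 Nat.card_pos.ne')).1 h).symm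
  haveI := Fintype.ofFinite (G ⧸ N₁)
  have hNnorm : ∀ y : Γ, y ∉ G → ∑ n : N, ψ ((n : Γ) * y) * conj (ψ ((n : Γ) * y)) = (Nat.card N : ℂ) := by
    intro y hy
    have hmem : ∀ q : (G ⧸ N₁) × N, (q.1.out : Γ) * ((q.2 : Γ) * y) * (q.1.out : Γ)⁻¹ * y⁻¹ ∈ G := fun q => by
      rw [show (q.1.out : Γ) * ((q.2 : Γ) * y) * (q.1.out : Γ)⁻¹ * y⁻¹
        = (q.1.out : Γ) * (q.2 : Γ) * (y * (q.1.out : Γ)⁻¹ * y⁻¹) by group]
      exact G.mul_mem (G.mul_mem q.1.out.2 (hNG q.2.2)) (hG.conj_mem _ (G.inv_mem q.1.out.2) y)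
    let F : (G ⧸ N₁) × N → G := fun q => ⟨_, hmem q⟩
    have hinj : Function.Injective F := by
      rintro ⟨a, n⟩ ⟨b, m⟩ hab
      have h : (a.out : Γ) * ((n : Γ) * y) * (a.out : Γ)⁻¹ = (b.out : Γ) * ((m : Γ) * y) * (b.out : Γ)⁻¹ :=
        mul_right_cancel (congrArg Subtype.val hab)
      set d : Γ := (b.out : Γ)⁻¹ * (a.out : Γ) with hd
      have h1 : d * ((n : Γ) * y) * d⁻¹ = (m : Γ) * y := by
        calc d * ((n : Γ) * y) * d⁻¹ = (b.out : Γ)⁻¹ * ((a.out : Γ) * ((n : Γ) * y) * (a.out : Γ)⁻¹) * (b.out : Γ) := by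
              rw [hd]; group
          _ = _ := by rw [h]; group
      have hdG : d ∈ G := G.mul_mem (G.inv_mem b.out.2) a.out.2
      have hdN : d ∈ N := by
        refine hfrob y hy d hdG ?_
        rw [← QuotientGroup.eq_one_iff]
        have e1 := congrArg (fun z : Γ => (z : Γ ⧸ N)) h1
        simp only [QuotientGroup.mk_mul, QuotientGroup.mk_inv, (QuotientGroup.eq_one_iff (n : Γ)).2 n.2,
          (QuotientGroup.eq_one_iff (m : Γ)).2 m.2, one_mul] at e1
        rw [QuotientGroup.mk_mul, QuotientGroup.mk_mul, QuotientGroup.mk_mul, QuotientGroup.mk_inv, QuotientGroup.mk_inv]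
        rw [← mul_inv_eq_iff_eq_mul.1 e1]
        group
      have hab' : a = b := by
        rw [← QuotientGroup.out_eq' a, ← QuotientGroup.out_eq' b]
        exact (QuotientGroup.eq.2 (show b.out⁻¹ * a.out ∈ N₁ from hdN)).symm
      subst hab'
      exact Prod.ext rfl (Subtype.ext (mul_right_cancel (mul_left_cancel (mul_right_cancel h))))
    have hbij : Function.Bijective F := (Nat.bijective_iff_injective_and_card F).2 ⟨hinj, by
      rw [Nat.card_prod, ← N₁.index_mul_card, Subgroup.index_eq_card, Nat.card_congr (Subgroup.subgroupOfEquivOfLe hNG).toEquiv]⟩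
    have h := hGnorm y
    rw [← Fintype.sum_equiv (Equiv.ofBijective F hbij) (fun q : (G ⧸ N₁) × N => ψ ((q.2 : Γ) * y) * conj (ψ ((q.2 : Γ) * y)))
      (fun g : G => ψ ((g : Γ) * y) * conj (ψ ((g : Γ) * y))) (fun q => by
        show _ = ψ ((F q : Γ) * y) * conj (ψ ((F q : Γ) * y))
        rw [show (F q : Γ) * y = (q.1.out : Γ) * ((q.2 : Γ) * y) * (q.1.out : Γ)⁻¹ from inv_mul_cancel_right _ _,
          IsCharacter.isClassFunction hψc]),
      Fintype.sum_prod_type] at h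
    dsimp only at h
    rw [Finset.sum_const, Finset.card_univ, nsmul_eq_mul, ← N₁.index_mul_card,
      Nat.card_congr (Subgroup.subgroupOfEquivOfLe hNG).toEquiv, Subgroup.index_eq_card, Nat.card_eq_fintype_card,
      Nat.cast_mul] at h
    exact mul_left_cancel₀ (Nat.cast_ne_zero.2 Fintype.card_ne_zero) h
  -- the complement
  obtain ⟨q, hq⟩ := IsCyclic.exists_generator (α := Γ ⧸ G)
  obtain ⟨x, rfl⟩ := QuotientGroup.mk'_surjective G q
  have hxG : x ∉ G := by
    intro hx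
    refine hGlt (eq_top_iff.2 fun g _ => ?_)
    obtain ⟨i, hi⟩ := hq (g : Γ ⧸ G)
    simp only [QuotientGroup.mk'_apply, (QuotientGroup.eq_one_iff x).2 hx, one_zpow] at hi
    exact (QuotientGroup.eq_one_iff g).1 hi.symm
  have hxi : ∀ i : ℤ, x ^ i ∈ G → x ^ i ∈ N := fun i hi => hfrob x hxG _ hi (by
    rw [show x * x ^ i * x⁻¹ * (x ^ i)⁻¹ = 1 by group]; exact N.one_mem)
  let H : Subgroup Γ := N ⊔ Subgroup.zpowers x
  haveI := Fintype.ofFinite H
  have hNH : N ≤ H := le_sup_left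
  let N₂ : Subgroup H := N.subgroupOf H
  haveI : N₂.Normal := hN.subgroupOf H
  haveI := Fintype.ofFinite N₂
  let f : H →* Γ ⧸ G := (QuotientGroup.mk' G).comp H.subtype
  have hf : Function.Surjective f := fun z => by
    obtain ⟨i, hi⟩ := hq z
    exact ⟨⟨x ^ i, Subgroup.mem_sup_right ⟨i, rfl⟩⟩, hi⟩
  have hker : f.ker = N₂ := by
    ext ⟨z, hz⟩
    show (z : Γ ⧸ G) = 1 ↔ z ∈ N
    rw [QuotientGroup.eq_one_iff]
    refine ⟨fun hzG => ?_, fun h => hNG h⟩
    have hz' : z ∈ ((N ⊔ Subgroup.zpowers x : Subgroup Γ) : Set Γ) := hz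
    rw [Subgroup.normal_mul] at hz'
    obtain ⟨a, ha, w, ⟨i, rfl⟩, rfl⟩ := hz'
    refine N.mul_mem ha (hxi i ?_)
    have := G.mul_mem (G.inv_mem (hNG ha)) hzG
    simpa using this
  have hidx : N₂.index = G.index := by
    rw [← hker, Subgroup.index_ker, MonoidHom.range_eq_top.2 hf, Subgroup.card_top, Subgroup.index_eq_card]
  let θ₂ : N₂ → ℂ := fun n => (θ : N → ℂ) ⟨((n : H) : Γ), n.2⟩
  have hθ₂ : IsIrrCharacter N₂ θ₂ := isIrrCharacter_comp_mulEquiv (Subgroup.subgroupOfEquivOfLe hNH) θ.2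
  have hθ₂inv : ∀ g, conjChar N₂ g θ₂ = θ₂ := fun g => funext fun m => hinv (g : Γ) ⟨((m : H) : Γ), m.2⟩
  let φ : H ⧸ N₂ ≃* Γ ⧸ G := (QuotientGroup.quotientMulEquivOfEq hker.symm).trans (QuotientGroup.quotientKerEquivOfSurjective f hf)
  have hQcyc : IsCyclic (H ⧸ N₂) := isCyclic_of_surjective φ.symm.toMonoidHom φ.symm.surjective
  obtain ⟨E, hE, hEN⟩ := exists_extension_of_cyclic hQcyc hθ₂ hθ₂inv
  obtain ⟨d, hd⟩ := IsCharacter.exists_degree (IsIrrCharacter.isCharacter hE)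
  haveI := Fintype.ofFinite (IrrCharacter (H ⧸ N₂))
  haveI := Fintype.ofFinite (IrrCharacter H)
  haveI := Fintype.ofFinite (H ⧸ N₂)
  have hQab : ∀ a b : H ⧸ N₂, a * b = b * a := fun a b => hQcyc.commutative.is_comm.comm a b
  have hlin : ∀ lam : IrrCharacter (H ⧸ N₂), (lam : H ⧸ N₂ → ℂ) 1 = 1 := fun lam => IsIrrCharacter.degree_one_of_comm lam.2 hQab
  have htw : ∀ lam : IrrCharacter (H ⧸ N₂), IsIrrCharacter H (fun g : H => (lam : H ⧸ N₂ → ℂ) g * E g) := fun lam => by
    obtain ⟨l, hl⟩ := IsCharacter.exists_monoidHom (IsIrrCharacter.isCharacter lam.2) (hlin lam)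
    simp only [hl]
    exact (exists_twist_character (l.comp (QuotientGroup.mk' N₂)) hE hd).1
  let tw : IrrCharacter (H ⧸ N₂) → IrrCharacter H := fun lam => ⟨_, htw lam⟩
  have htwi : Function.Injective tw := by
    intro a b hab
    have hone : ((1 : N₂ → ℂ) * θ₂) = θ₂ := one_mul _
    have hbij := gallagher N₂ isIrrCharacter_one (fun g => rfl) hθ₂inv (hone.symm ▸ hθ₂) hE hEN
    have hmem : ∀ lam : IrrCharacter (H ⧸ N₂), (fun g : H => (lam : H ⧸ N₂ → ℂ) g) ∈
        {β : H → ℂ | IsIrrCharacter H β ∧ classInner (indFun N₂ (1 : N₂ → ℂ)) β ≠ 0} := fun lam => by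
      obtain ⟨l, hl⟩ := IsCharacter.exists_monoidHom (IsIrrCharacter.isCharacter lam.2) (hlin lam)
      have hi : IsIrrCharacter H (fun g : H => (lam : H ⧸ N₂ → ℂ) g) := by
        simp only [hl]; exact isIrrCharacter_monoidHom (l.comp (QuotientGroup.mk' N₂))
      exact ⟨hi, mem_over_one_of_trivial N₂ hi fun n => by
        rw [(QuotientGroup.eq_one_iff _).2 n.2, QuotientGroup.mk_one]⟩
    have hb := hbij.2.1 (hmem a) (hmem b) (congrArg Subtype.val hab)
    exact Subtype.ext (funext fun z => by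
      obtain ⟨g, rfl⟩ := QuotientGroup.mk_surjective z
      exact congrFun hb g)
  let ψH : H → ℂ := fun g => ψ g
  have hψH : IsCharacter H ψH := IsCharacter.restrict hψc H
  choose m hm using fun β : IrrCharacter H => classInner_natCast_of_isCharacter hψH (IsIrrCharacter.isCharacter β.2)
  have hψN : ∀ n : N, ψ n = (e : ℂ) * (θ : N → ℂ) n := fun n => by
    rw [show (n : Γ) = ((⟨n, hNG n.2⟩ : G) : Γ) from rfl, hψG, hresN]
  have hψN₂ : ∀ n : N₂, ψH n = (e : ℂ) * θ₂ n := fun n => hψN ⟨((n : H) : Γ), n.2⟩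
  have hcardQ : Fintype.card (IrrCharacter (H ⧸ N₂)) = G.index := by
    rw [← Nat.card_eq_fintype_card, card_irrCharacter, ← hidx, Subgroup.index_eq_card]
    refine (Nat.card_congr (Equiv.ofBijective ConjClasses.mk ⟨fun a b h => ?_, ConjClasses.mk_surjective⟩)).symm
    obtain ⟨c, hc⟩ := isConj_iff.1 (ConjClasses.mk_eq_mk_iff_isConj.1 h)
    rwa [hQab c a, mul_inv_cancel_right] at hc
  have hreg : ∀ z : H ⧸ N₂, ∑ lam : IrrCharacter (H ⧸ N₂), (lam : H ⧸ N₂ → ℂ) z = if z = 1 then (G.index : ℂ) else 0 := by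
    intro z
    split_ifs with hz
    · subst hz; simp [hlin, hcardQ]
    · have h := congrFun (IsClassFunction.eq_sum (f := fun y : H ⧸ N₂ => if y = 1 then (1 : ℂ) else 0)
        (fun a b => by rw [hQab b a, mul_inv_cancel_right])) z
      simp [classInner, hz, hlin, ← Finset.mul_sum] at h
      exact h
  have hHcard : (Nat.card H : ℂ) = (G.index : ℂ) * (Nat.card N₂ : ℂ) := by rw [← hidx, ← Nat.cast_mul, N₂.index_mul_card]
  have hn0 : (G.index : ℂ) ≠ 0 := Nat.cast_ne_zero.2 Subgroup.index_ne_zero_of_finite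
  have hsum : ∑ lam : IrrCharacter (H ⧸ N₂), (m (tw lam) : ℂ) = e := by
    simp only [← hm]
    show ∑ lam : IrrCharacter (H ⧸ N₂), classInner ψH (fun g : H => (lam : H ⧸ N₂ → ℂ) g * E g) = e
    simp only [classInner, ← Finset.mul_sum]
    rw [Finset.sum_comm]
    have h1 : ∀ g : H, ∑ lam : IrrCharacter (H ⧸ N₂), ψH g * conj ((lam : H ⧸ N₂ → ℂ) g * E g) =
        if g ∈ N₂ then (G.index : ℂ) * (ψH g * conj (E g)) else 0 := fun g => by
      simp only [map_mul, ← mul_assoc, ← Finset.sum_mul, ← Finset.mul_sum, ← map_sum, hreg, QuotientGroup.eq_one_iff]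
      split_ifs <;> simp [mul_comm, mul_assoc, mul_left_comm]
    rw [Finset.sum_congr rfl fun g _ => h1 g, ← Finset.sum_filter, ← Finset.mul_sum,
      Finset.sum_subtype _ (p := fun g => g ∈ N₂) (fun g => by simp) (fun g => ψH g * conj (E g))]
    have h2 : ∑ g : N₂, ψH g * conj (E g) = (e : ℂ) * Nat.card N₂ := by
      have h3 := IsIrrCharacter.classInner_self hθ₂
      rw [classInner, inv_mul_eq_one₀ (Nat.cast_ne_zero.2 Nat.card_pos.ne')] at h3
      rw [h3, Finset.mul_sum]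
      refine Finset.sum_congr rfl fun n _ => ?_
      rw [hEN, show ψH n = (e : ℂ) * θ₂ n from hψN ⟨((n : H) : Γ), n.2⟩, mul_assoc]
    rw [h2, hHcard]
    field_simp
  have hzero : ∀ β, (∀ lam, tw lam ≠ β) → m β = 0 := by
    intro β hβ
    have hdec := congrFun (IsClassFunction.eq_sum (IsCharacter.isClassFunction hψH)) 1
    simp only [hm, Finset.sum_apply, Pi.smul_apply, smul_eq_mul] at hdec
    rw [← Finset.sum_add_sum_compl (Finset.univ.image tw), Finset.sum_image (fun a _ b _ h => htwi h)] at hdec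
    have h1 : ∑ lam : IrrCharacter (H ⧸ N₂), (m (tw lam) : ℂ) * (tw lam : H → ℂ) 1 = ψH 1 := by
      have h2 : ∀ lam, (tw lam : H → ℂ) 1 = (θ : N → ℂ) 1 := fun lam => by
        show (lam : H ⧸ N₂ → ℂ) ((1 : H) : H ⧸ N₂) * E 1 = _
        rw [QuotientGroup.mk_one, hlin, one_mul]
        exact hEN 1
      simp only [h2, ← Finset.sum_mul, hsum]
      exact (hψN 1).symm
    rw [h1, left_eq_add] at hdec
    choose dg hdg using fun γ : IrrCharacter H => IsIrrCharacter.degree_pos γ.2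
    simp only [fun γ => (hdg γ).2] at hdec
    norm_cast at hdec
    have := Finset.sum_eq_zero_iff.1 hdec β (by simp [hβ])
    exact (Nat.mul_eq_zero.1 this).resolve_right (hdg β).1.ne'
  have hsq : ∑ lam : IrrCharacter (H ⧸ N₂), (m (tw lam) : ℂ) ^ 2 = classInner ψH ψH := by
    conv_rhs => rw [IsClassFunction.eq_sum (IsCharacter.isClassFunction hψH)]
    rw [classInner_sum_sum]
    simp only [hm, Complex.conj_natCast, ← sq]
    rw [← Finset.sum_image (f := fun β => (m β : ℂ) ^ 2) (fun a _ b _ h => htwi h)]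
    exact Finset.sum_subset (Finset.subset_univ _) fun β _ hβ => by
      rw [hzero β fun lam hl => hβ (Finset.mem_image.2 ⟨lam, Finset.mem_univ _, hl⟩)]; simp
  have hnorm : (G.index : ℂ) * classInner ψH ψH = (e : ℂ) ^ 2 + (G.index : ℂ) - 1 := by
    have hN2 : Nat.card N₂ = Nat.card N := Nat.card_congr (Subgroup.subgroupOfEquivOfLe hNH).toEquiv
    have hcos : ∀ z : H ⧸ N₂, ∑ n : N₂, ψH (z.out * (n : H)) * conj (ψH (z.out * (n : H))) =
        if z = 1 then (e : ℂ) ^ 2 * Nat.card N else (Nat.card N : ℂ) := by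
      intro z
      split_ifs with hz
      · subst hz
        have h1 : ((1 : H ⧸ N₂)).out ∈ N₂ := (QuotientGroup.eq_one_iff _).1 (QuotientGroup.out_eq' _)
        have h3 := IsIrrCharacter.classInner_self hθ₂
        rw [classInner, inv_mul_eq_one₀ (Nat.cast_ne_zero.2 Nat.card_pos.ne'), hN2] at h3
        rw [h3, Finset.mul_sum]
        refine Fintype.sum_equiv (Equiv.mulLeft (⟨_, h1⟩ : N₂)) _ _ fun n => ?_
        show ψH ((⟨_, h1⟩ * n : N₂) : H) * conj (ψH ((⟨_, h1⟩ * n : N₂) : H)) = _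
        rw [hψN₂ (⟨_, h1⟩ * n), map_mul,
          Complex.conj_natCast]
        show _ = (e : ℂ) ^ 2 * (θ₂ (⟨_, h1⟩ * n) * conj (θ₂ (⟨_, h1⟩ * n)))
        ring
      · have hy : ((z.out : H) : Γ) ∉ G := fun hG' => hz (by
          rw [← QuotientGroup.out_eq' z, QuotientGroup.eq_one_iff]
          exact hker.le ((QuotientGroup.eq_one_iff _).2 hG' : f z.out = 1))
        rw [← hNnorm _ hy]
        refine Fintype.sum_equiv ((Subgroup.subgroupOfEquivOfLe hNH).toEquiv.trans (MulAut.conjNormal ((z.out : H) : Γ) : MulAut N).toEquiv) _ _ fun n => ?_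
        have he : ((MulAut.conjNormal ((z.out : H) : Γ) (Subgroup.subgroupOfEquivOfLe hNH n) : N) : Γ) * ((z.out : H) : Γ) = ((z.out * (n : H) : H) : Γ) := by
          rw [MulAut.conjNormal_apply, inv_mul_cancel_right, Subgroup.coe_mul]
          rfl
        show ψ ((z.out * (n : H) : H) : Γ) * conj (ψ ((z.out * (n : H) : H) : Γ)) = _
        rw [← he]
        rfl
    have htot : ∑ g : H, ψH g * conj (ψH g) = ((e : ℂ) ^ 2 + (G.index : ℂ) - 1) * Nat.card N := by
      have hb : Function.Bijective fun q : (H ⧸ N₂) × N₂ => q.1.out * (q.2 : H) := by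
        refine (Nat.bijective_iff_injective_and_card _).2 ⟨?_, by rw [Nat.card_prod, ← Subgroup.index_eq_card, N₂.index_mul_card]⟩
        rintro ⟨a, n⟩ ⟨b, k⟩ hab
        have hab' : a.out * (n : H) = b.out * (k : H) := hab
        have h0 : a = b := by
          have := congrArg (fun z : H => (z : H ⧸ N₂)) hab'
          simpa [(QuotientGroup.eq_one_iff (n : H)).2 n.2, (QuotientGroup.eq_one_iff (k : H)).2 k.2] using this
        subst h0
        exact Prod.ext rfl (Subtype.ext (mul_left_cancel hab'))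
      rw [← Fintype.sum_equiv (Equiv.ofBijective _ hb)
        (fun q => ψH (q.1.out * (q.2 : H)) * conj (ψH (q.1.out * (q.2 : H)))) (fun g : H => ψH g * conj (ψH g)) (fun q => rfl),
        Fintype.sum_prod_type, Finset.sum_congr rfl fun z _ => hcos z, Finset.sum_ite, Finset.sum_const, Finset.sum_const,
        Finset.filter_eq', if_pos (Finset.mem_univ _), Finset.card_singleton, one_smul, Finset.filter_ne',
        Finset.card_erase_of_mem (Finset.mem_univ _), Finset.card_univ, nsmul_eq_mul, ← Nat.card_eq_fintype_card,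
        ← Subgroup.index_eq_card, hidx, Nat.cast_sub (Nat.one_le_iff_ne_zero.2 Subgroup.index_ne_zero_of_finite), Nat.cast_one]
      ring
    rw [classInner, htot, hHcard, hN2]
    have : (Nat.card N : ℂ) ≠ 0 := Nat.cast_ne_zero.2 Nat.card_pos.ne'
    field_simp
  rw [← hsq] at hnorm
  have hA : (Fintype.card (IrrCharacter (H ⧸ N₂)) : ℤ) * ∑ lam, (m (tw lam) : ℤ) ^ 2 - (∑ lam, (m (tw lam) : ℤ)) ^ 2 =
      (Fintype.card (IrrCharacter (H ⧸ N₂)) : ℤ) - 1 := by
    have h : (((Fintype.card (IrrCharacter (H ⧸ N₂)) : ℤ) * ∑ lam, (m (tw lam) : ℤ) ^ 2 - (∑ lam, (m (tw lam) : ℤ)) ^ 2 : ℤ) : ℂ) =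
        (((Fintype.card (IrrCharacter (H ⧸ N₂)) : ℤ) - 1 : ℤ) : ℂ) := by
      push_cast
      rw [hcardQ, hsum, hnorm]
      ring
    exact_mod_cast h
  have hn2 : 2 ≤ G.index := by
    have h1 := Subgroup.index_ne_zero_of_finite (H := G)
    have h2 : G.index ≠ 1 := fun h => hGlt (Subgroup.index_eq_one.1 h)
    omega
  have hne : ∃ i j, (m (tw i) : ℤ) ≠ m (tw j) := by
    by_contra hcon
    push Not at hcon
    obtain ⟨l₀⟩ : Nonempty (IrrCharacter (H ⧸ N₂)) := ⟨⟨_, isIrrCharacter_one⟩⟩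
    rw [Finset.sum_congr rfl fun l _ => by rw [hcon l l₀], Finset.sum_congr rfl fun l _ => hcon l l₀, Finset.sum_const,
      Finset.sum_const, Finset.card_univ, hcardQ, nsmul_eq_mul, nsmul_eq_mul] at hA
    have : (G.index : ℤ) = 1 := by linear_combination -hA
    omega
  obtain ⟨k, c, s, hs, hk, hl⟩ := (Cfsg.Agent.S4451.int_spread (fun lam => (m (tw lam) : ℤ)) hne).2 hA
  have he : (e : ℤ) = (G.index : ℤ) * c + s := by
    have h : (∑ lam, (m (tw lam) : ℤ)) = (e : ℤ) := by exact_mod_cast hsum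
    rw [← h, ← Finset.add_sum_erase _ _ (Finset.mem_univ k),
      Finset.sum_congr rfl fun l hl' => hl l (Finset.ne_of_mem_erase hl'), Finset.sum_const,
      Finset.card_erase_of_mem (Finset.mem_univ k), Finset.card_univ, hcardQ, hk, nsmul_eq_mul]
    have : 1 ≤ G.index := by omega
    push_cast [this]
    ring
  rcases hs with rfl | rfl
  · left; exact ⟨c, by rw [he]; ring⟩
  · right; exact ⟨c, by rw [he]; ring⟩

end Cfsg.Agent.S4454
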