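import Cfsg.Statements.S4455
import Cfsg.Agent.Lib.Block.Regular
import Cfsg.Agent.Lib.Char.Extension2
import Cfsg.Agent.Lib.Char.DegreeIndex
import Cfsg.Agent.Lib.Solv.NormalPComplement

set_option autoImplicit false
open Cfsg

namespace Cfsg.Agent.S4455

open Cfsg.Agent.Block Cfsg.Agent.Char

/-- Fix a prime p and a finite group G. Let s be the sum of χ(1)² over the irreducible characters χ of G whose degree is not divisible by p and whose determinantal order o(χ) is not divisible by p. Then the order of O^p(G), the subgroup generated by the elements of order prime to p, is congruent to s modulo p. -/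
theorem result {G : Type*} [Group G] [Finite G] (p : ℕ) (hp : p.Prime) : (Nat.card (Cfsg.pResidual p G) : ℤ) ≡ (∑ᶠ χ ∈ {χ : Cfsg.IrrCharacter G | ¬ p ∣ Cfsg.charDegree (χ : G → ℂ) ∧ ¬ p ∣ Cfsg.detOrder (χ : G → ℂ)}, (Cfsg.charDegree (χ : G → ℂ) : ℤ) ^ 2) [ZMOD p] := by
  classical
  haveI : Fact p.Prime := ⟨hp⟩
  haveI := Fintype.ofFinite G
  haveI := Solv.pResidual_characteristic p G
  set K := pResidual p G with hK
  haveI := Fintype.ofFinite K
  obtain ⟨k, hk⟩ := Solv.exists_pResidual_index (p := p) (G := G)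
  haveI := Fintype.ofFinite (IrrCharacter G)
  haveI := Fintype.ofFinite (IrrCharacter K)
  have hdc : ∀ χ : IrrCharacter G, (χ : G → ℂ) 1 = (charDegree (χ : G → ℂ) : ℂ) := fun χ => (charDegree_cast (IsIrrCharacter.isCharacter χ.2)).symm
  have hdk : ∀ θ : IrrCharacter K, (θ : K → ℂ) 1 = (charDegree (θ : K → ℂ) : ℂ) := fun θ => (charDegree_cast (IsIrrCharacter.isCharacter θ.2)).symm
  have hdet : ∀ θ : IrrCharacter K, ¬ p ∣ detOrder (θ : K → ℂ) := by
    intro θ hd
    obtain ⟨l, hl⟩ := exists_detHom θ.2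
    rw [detOrder, hl, orderOf_linearChar] at hd
    obtain ⟨n, hn⟩ := hd
    haveI : Finite (K →* ℂˣ) := Nat.finite_of_card_ne_zero (by rw [card_monoidHom_units]; exact Subgroup.index_ne_zero_of_finite)
    have hn0 : 0 < n := Nat.pos_of_ne_zero fun e => (orderOf_pos l).ne' (by rw [hn, e, Nat.mul_zero])
    have hm : (l ^ n) ^ p = 1 := by rw [hom_pow_pow, mul_comm, ← hn, pow_orderOf_eq_one]
    haveI : Finite ↥(l ^ n).range := Finite.of_surjective _ (l ^ n).rangeRestrict_surjective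
    have hP : IsPGroup p ↥(l ^ n).range := by
      rintro ⟨x, y, rfl⟩
      refine ⟨1, Subtype.ext ?_⟩
      rw [pow_one, SubmonoidClass.coe_pow, OneMemClass.coe_one, ← MonoidHom.pow_apply, hm, MonoidHom.one_apply]
    have h1 := Solv.pResidual_le_ker_of_isPGroup hP (l ^ n).rangeRestrict
    rw [Solv.pResidual_eq_top_of_map, top_le_iff] at h1
    have h2 : l ^ n = 1 := MonoidHom.ext fun x => congrArg Subtype.val (MonoidHom.mem_ker.1 (h1 ▸ Subgroup.mem_top x) : (l ^ n).rangeRestrict x = 1)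
    have h3 := Nat.le_of_dvd hn0 (orderOf_dvd_of_pow_eq_one (x := l) (n := n) h2)
    rw [hn] at h3
    exact absurd h3 (not_le.2 (lt_mul_of_one_lt_left hn0 hp.one_lt))
  have hcop : ∀ n : ℕ, ¬ p ∣ n → Nat.Coprime K.index n := fun n hn => by
    rw [hk]; exact (hp.coprime_iff_not_dvd.2 hn).pow_left k
  set A := Finset.univ.filter (fun χ : IrrCharacter G => ¬ p ∣ charDegree (χ : G → ℂ) ∧ ¬ p ∣ detOrder (χ : G → ℂ)) with hA
  set B := Finset.univ.filter (fun θ : IrrCharacter K => (¬ p ∣ charDegree (θ : K → ℂ)) ∧ ∀ g : G, conjChar K g (θ : K → ℂ) = θ) with hB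
  have hres : ∀ χ ∈ A, ∃ θ ∈ B, ∀ n : K, (χ : G → ℂ) n = (θ : K → ℂ) n := by
    intro χ hχ
    rw [hA, Finset.mem_filter] at hχ
    obtain ⟨θ, hθ, hcon⟩ := IsCharacter.exists_irr_constituent
      (IsCharacter.restrict (IsIrrCharacter.isCharacter χ.2) K) (fun e => IsIrrCharacter.apply_one_ne_zero χ.2 (congrFun e 1))
    obtain ⟨h1, h2⟩ := degree_ratio_dvd_index χ.2 hθ hcon (hdc χ) (hdk ⟨θ, hθ⟩)
    have h3 : charDegree (χ : G → ℂ) / charDegree θ = 1 :=
      Nat.eq_one_of_dvd_coprimes (hcop _ hχ.2.1) h2 (Nat.div_dvd_of_dvd h1)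
    have h4 : charDegree (χ : G → ℂ) = charDegree θ := by
      have := Nat.div_mul_cancel h1
      rw [h3, one_mul] at this
      exact this.symm
    have hdeg := restrict_degree_eq K χ.2 hθ hcon
    obtain ⟨e, he⟩ := classInner_natCast_of_isCharacter (IsCharacter.restrict (IsIrrCharacter.isCharacter χ.2) K) (IsIrrCharacter.isCharacter hθ)
    rw [he, hdc χ, show θ 1 = ((charDegree θ : ℕ) : ℂ) from hdk ⟨θ, hθ⟩] at hdeg
    have h5 : charDegree (χ : G → ℂ) = e * ((inertia K θ).index * charDegree θ) := by exact_mod_cast hdeg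
    have hpos : 0 < charDegree θ := by
      rw [← h4]
      exact Nat.pos_of_ne_zero fun h0 => IsIrrCharacter.apply_one_ne_zero χ.2 (by rw [hdc χ, h0, Nat.cast_zero])
    have h6 : e * (inertia K θ).index = 1 := by
      rw [h4, ← mul_assoc] at h5
      exact Nat.eq_one_of_mul_eq_one_left (Nat.eq_of_mul_eq_mul_right hpos (by rw [one_mul, one_mul]; exact h5.symm))
    have hi : (inertia K θ) = ⊤ := Subgroup.index_eq_one.1 (Nat.eq_one_of_mul_eq_one_left h6)
    have hinv : ∀ g : G, conjChar K g θ = θ := fun g => (mem_inertia K).1 (hi ▸ Subgroup.mem_top g)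
    refine ⟨⟨θ, hθ⟩, by rw [hB, Finset.mem_filter]; exact ⟨Finset.mem_univ _, by rw [← h4]; exact hχ.2.1, hinv⟩, fun n => ?_⟩
    have h7 := restrict_eq_smul_of_inertia_top K χ.2 hθ hcon hinv
    rw [he, Nat.eq_one_of_mul_eq_one_right h6, Nat.cast_one, one_smul] at h7
    exact congrFun h7 n
  choose r hrB hr using hres
  have hbij : ∑ χ ∈ A, (charDegree (χ : G → ℂ) : ℤ) ^ 2 = ∑ θ ∈ B, (charDegree (θ : K → ℂ) : ℤ) ^ 2 := by
    refine Finset.sum_bij r hrB (fun a ha b hb hab => ?_) (fun θ hθ => ?_) fun χ hχ => ?_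
    · rw [hA, Finset.mem_filter] at ha hb
      have hθ := hrB a (by rw [hA, Finset.mem_filter]; exact ha)
      rw [hB, Finset.mem_filter] at hθ
      obtain ⟨η, -, hu⟩ := exists_unique_extension_coprime (r a _).2 hθ.2.2 (hdk _) ((hcop _ (hdet _)).mul_right (hcop _ hθ.2.1))
      exact Subtype.ext ((hu _ a.2 (hr a _) (hcop _ ha.2.2)).trans (hu _ b.2 (fun n => by rw [hab]; exact hr b _ n) (hcop _ hb.2.2)).symm)
    · rw [hB, Finset.mem_filter] at hθ
      obtain ⟨η, ⟨hη, hηN, hηo⟩, -⟩ := exists_unique_extension_coprime θ.2 hθ.2.2 (hdk _) ((hcop _ (hdet _)).mul_right (hcop _ hθ.2.1))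
      have hmem : (⟨η, hη⟩ : IrrCharacter G) ∈ A := by
        rw [hA, Finset.mem_filter]
        refine ⟨Finset.mem_univ _, ?_, by rw [hηo]; exact hdet θ⟩
        have : charDegree η = charDegree (θ : K → ℂ) := by
          apply Nat.cast_injective (R := ℂ)
          rw [← hdc ⟨η, hη⟩, ← hdk θ, ← hηN 1]
          rfl
        rw [this]; exact hθ.2.1
      exact ⟨⟨η, hη⟩, hmem, Subtype.ext (funext fun n => ((hr _ hmem n).symm.trans (hηN n)))⟩
    · have : charDegree (χ : G → ℂ) = charDegree ((r χ hχ : IrrCharacter K) : K → ℂ) := by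
        apply Nat.cast_injective (R := ℂ)
        rw [← hdc χ, ← hdk, ← hr χ hχ 1]
        rfl
      rw [this]
  -- the orbits of a Sylow subgroup
  obtain ⟨P⟩ := Sylow.nonempty (p := p) (G := G)
  have hfix : ∀ d : ℕ, Nat.card {θ : IrrCharacter K // charDegree (θ : K → ℂ) = d} ≡ Nat.card {θ : IrrCharacter K // charDegree (θ : K → ℂ) = d ∧ ∀ g : G, conjChar K g (θ : K → ℂ) = θ} [MOD p] := by
    intro d
    have hdeg : ∀ (g : G) (θ : IrrCharacter K), charDegree (conjChar K g (θ : K → ℂ)) = charDegree (θ : K → ℂ) := by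
      intro g θ
      apply Nat.cast_injective (R := ℂ)
      rw [charDegree_cast (IsIrrCharacter.isCharacter (isIrrCharacter_conjChar K θ.2 g)), ← hdk]
      simp [conjChar]; rfl
    letI : MulAction ↥(P : Subgroup G) {θ : IrrCharacter K // charDegree (θ : K → ℂ) = d} :=
      { smul := fun x θ => ⟨⟨conjChar K ((x : G)⁻¹) (θ.1 : K → ℂ), isIrrCharacter_conjChar K θ.1.2 _⟩, by rw [hdeg]; exact θ.2⟩
        one_smul := fun θ => Subtype.ext (Subtype.ext (by show conjChar K ((1 : ↥(P : Subgroup G)) : G)⁻¹ _ = _; rw [OneMemClass.coe_one, inv_one, conjChar_one]))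
        mul_smul := fun x y θ => Subtype.ext (Subtype.ext (by show conjChar K ((x * y : ↥(P : Subgroup G)) : G)⁻¹ _ = conjChar K _ (conjChar K _ _); rw [conjChar_mul, Subgroup.coe_mul, mul_inv_rev])) }
    refine (P.isPGroup'.card_modEq_card_fixedPoints {θ : IrrCharacter K // charDegree (θ : K → ℂ) = d}).trans (Eq.subst (motive := fun n => _ ≡ n [MOD p]) ?_ (Nat.ModEq.refl _))
    refine Nat.card_congr ⟨fun θ => ⟨θ.1.1, θ.1.2, fun g => ?_⟩, fun θ => ⟨⟨θ.1, θ.2.1⟩, fun x => Subtype.ext (Subtype.ext (θ.2.2 _))⟩, fun θ => rfl, fun θ => rfl⟩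
    have hle : (P : Subgroup G) ⊔ K ≤ inertia K (θ.1.1 : K → ℂ) := by
      refine sup_le (fun x hx => ?_) (le_inertia K (IsCharacter.isClassFunction (IsIrrCharacter.isCharacter θ.1.1.2)))
      have := congrArg (fun z : {θ : IrrCharacter K // charDegree (θ : K → ℂ) = d} => (z.1 : K → ℂ)) (θ.2 ⟨x, hx⟩)
      exact inv_mem_iff.1 ((mem_inertia K).2 this)
    exact (mem_inertia K).1 (hle ((Solv.sup_pResidual_eq_top (p := p) P).symm ▸ Subgroup.mem_top g : g ∈ (P : Subgroup G) ⊔ pResidual p G))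
  have hBsum : (∑ θ : IrrCharacter K, (charDegree (θ : K → ℂ) : ℤ) ^ 2) ≡ ∑ θ ∈ B, (charDegree (θ : K → ℂ) : ℤ) ^ 2 [ZMOD p] := by
    have e : B = Finset.filter (α := IrrCharacter K) (fun θ => ¬ p ∣ charDegree (θ : K → ℂ)) (Finset.filter (α := IrrCharacter K) (fun θ => ∀ g : G, conjChar K g (θ : K → ℂ) = θ) Finset.univ) := by
      ext θ; simp [hB, and_comm]
    refine (Int.ModEq.trans (b := ∑ θ ∈ Finset.univ.filter (fun θ : IrrCharacter K => ∀ g : G, conjChar K g (θ : K → ℂ) = θ), (charDegree (θ : K → ℂ) : ℤ) ^ 2) ?_ ?_)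
    · rw [← ZMod.intCast_eq_intCast_iff]
      push_cast
      rw [← Finset.sum_fiberwise_of_maps_to (t := Finset.univ.image fun θ : IrrCharacter K => charDegree (θ : K → ℂ)) (fun θ _ => Finset.mem_image_of_mem _ (Finset.mem_univ θ)),
        ← Finset.sum_fiberwise_of_maps_to (s := Finset.univ.filter (fun θ : IrrCharacter K => ∀ g : G, conjChar K g (θ : K → ℂ) = θ)) (t := Finset.univ.image fun θ : IrrCharacter K => charDegree (θ : K → ℂ)) (fun θ _ => Finset.mem_image_of_mem _ (Finset.mem_univ θ))]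
      refine Finset.sum_congr rfl fun d _ => ?_
      rw [Finset.sum_eq_card_nsmul (b := (d : ZMod p) ^ 2) (fun θ hθ => by rw [(Finset.mem_filter.1 hθ).2]),
        Finset.sum_eq_card_nsmul (b := (d : ZMod p) ^ 2) (fun θ hθ => by rw [(Finset.mem_filter.1 hθ).2]),
        nsmul_eq_mul, nsmul_eq_mul]
      congr 1
      have h := (ZMod.natCast_eq_natCast_iff _ _ _).2 (hfix d)
      simp only [Nat.card_eq_fintype_card, Fintype.card_subtype] at h
      convert h using 3
      rw [Finset.filter_filter]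
      exact Finset.filter_congr fun θ _ => and_comm
    · rw [e, Int.modEq_iff_dvd, ← Finset.sum_filter_add_sum_filter_not (Finset.univ.filter (fun θ : IrrCharacter K => ∀ g : G, conjChar K g (θ : K → ℂ) = θ)) (fun θ : IrrCharacter K => ¬ p ∣ charDegree (θ : K → ℂ)) (fun θ : IrrCharacter K => (charDegree (θ : K → ℂ) : ℤ) ^ 2), sub_add_cancel_left, dvd_neg]
      refine Finset.dvd_sum fun θ hθ => dvd_pow ?_ two_ne_zero
      exact Int.natCast_dvd_natCast.2 (not_not.1 (Finset.mem_filter.1 hθ).2)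
  have hsq : (Nat.card K : ℤ) = ∑ θ : IrrCharacter K, (charDegree (θ : K → ℂ) : ℤ) ^ 2 := by
    have : Nat.card K = ∑ θ : IrrCharacter K, charDegree (θ : K → ℂ) ^ 2 := by
      apply Nat.cast_injective (R := ℂ)
      rw [Nat.cast_sum, ← sum_sq_degree]
      exact Finset.sum_congr rfl fun θ _ => by rw [hdk, Nat.cast_pow]
    rw [this]; push_cast; rfl
  rw [finsum_mem_eq_finite_toFinset_sum _ (Set.toFinite _)]
  rw [show (Set.toFinite {χ : IrrCharacter G | ¬ p ∣ charDegree (χ : G → ℂ) ∧ ¬ p ∣ detOrder (χ : G → ℂ)}).toFinset = A by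
    ext χ; simp [hA]]
  rw [hbij, hsq]
  exact hBsum

end Cfsg.Agent.S4455
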