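import Cfsg.Statements.S4456
import Cfsg.Agent.Lib.Block.LinearExtend

set_option autoImplicit false
open Cfsg

namespace Cfsg.Agent.S4456

open Cfsg.Agent.Block Cfsg.Agent.Char

/-- Let p be a prime and G a finite group such that p divides the degree of every irreducible character of G of degree greater than one. Then G has a normal p-complement: a normal subgroup of order prime to p whose index is a power of p. -/
theorem result {G : Type*} [Group G] [Finite G] (p : ℕ) (hp : p.Prime) (hdeg : ∀ χ : Cfsg.IrrCharacter G, Cfsg.charDegree (χ : G → ℂ) ≠ 1 → p ∣ Cfsg.charDegree (χ : G → ℂ)) : ∃ N : Subgroup G, N.Normal ∧ (Nat.card N).Coprime p ∧ ∃ k : ℕ, N.index = p ^ k := by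
  classical
  haveI : Fact p.Prime := ⟨hp⟩
  haveI := Fintype.ofFinite G
  obtain ⟨P⟩ := Sylow.nonempty (p := p) (G := G)
  haveI := Fintype.ofFinite (P : Subgroup G)
  haveI := Fintype.ofFinite (IrrCharacter G)
  have h : HasNormalPComplement p G := by
    refine hasNormalPComplement_of_linear_extend P fun l => ?_
    refine exists_extension_of_sum_eq (P : Subgroup G) Finset.univ ?_ P.not_dvd_index ?_ ?_ l
    · intro x _ hx1
      rw [regular_eq, if_neg hx1]
    · rw [Subgroup.card_mul_index]
      apply Nat.cast_injective (R := ℂ)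
      rw [Nat.cast_sum, ← sum_sq_degree (G := G)]
      refine Finset.sum_congr rfl fun χ _ => ?_
      rw [Nat.cast_pow, charDegree_cast (IsIrrCharacter.isCharacter χ.2)]
    · intro χ _ hχ
      exact not_not.1 fun h1 => hχ (hdeg χ h1)
  obtain ⟨Q, N, hN, hNQ⟩ := h
  haveI : N.Normal := hN
  obtain ⟨-, hc, hj⟩ := Solv.complement_eq_pPrimeCore (N := N) (P := Q) hNQ
  exact ⟨N, hN, hc, hj⟩

end Cfsg.Agent.S4456
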