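import Cfsg.Statements.S4461
import Cfsg.Agent.Lib.Char.Induction
import Cfsg.Agent.Lib.Char.Linear
import Cfsg.Agent.Lib.Solv.Basic

set_option autoImplicit false
open Cfsg

namespace Cfsg.Agent.S4461


open Cfsg.Agent.Char
open scoped ComplexConjugate Pointwise

universe u

variable {G : Type u} [Group G] [Finite G]

/-- A nonzero intertwining map out of an irreducible representation. -/
theorem exists_embedding {A : Type*} [Group A] [Finite A] [Fintype A] {n m : ℕ}
    (ρ : Representation ℂ A (Fin n → ℂ)) [ρ.IsIrreducible] (σ : Representation ℂ A (Fin m → ℂ))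
    (h : classInner ρ.character σ.character ≠ 0) :
    ∃ T : (Fin n → ℂ) →ₗ[ℂ] (Fin m → ℂ), Function.Injective T ∧ ∀ a v, T (ρ a v) = σ a (T v) := by
  have h' : classInner σ.character ρ.character ≠ 0 := by
    rw [← classInner_conj_symm]; exact (map_ne_zero _).mpr h
  rw [classInner_character_eq_finrank ρ σ] at h'
  obtain ⟨T, hT⟩ := (Module.finrank_pos_iff_exists_ne_zero (R := ℂ)).mp
    (Nat.pos_of_ne_zero fun e => h' (by rw [e, Nat.cast_zero]))
  refine ⟨T.toLinearMap, ?_, fun a v => LinearMap.congr_fun (T.isIntertwining' a) v⟩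
  rw [← LinearMap.ker_eq_bot]
  let W : Subrepresentation ρ := ⟨LinearMap.ker T.toLinearMap, fun a v hv => by
    rw [LinearMap.mem_ker] at hv ⊢
    have := LinearMap.congr_fun (T.isIntertwining' a) v
    rw [LinearMap.comp_apply, LinearMap.comp_apply, hv, map_zero] at this
    exact this⟩
  rcases (inferInstance : ρ.IsIrreducible).eq_bot_or_eq_top W with e | e
  · exact congrArg Subrepresentation.toSubmodule e
  · refine absurd ?_ hT
    refine DFunLike.ext _ _ fun v => ?_
    have : v ∈ LinearMap.ker T.toLinearMap := by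
      rw [show LinearMap.ker T.toLinearMap = ⊤ from congrArg Subrepresentation.toSubmodule e]
      trivial
    exact this

/-- The subspace fixed by a normal subgroup. -/
theorem fixed_eq_bot {n : ℕ} (ρ : Representation ℂ G (Fin n → ℂ)) [hρ : ρ.IsIrreducible]
    (M : Subgroup G) [M.Normal] (hM : ¬ M ≤ MonoidHom.ker ρ) (v : Fin n → ℂ)
    (hv : ∀ x ∈ M, ρ x v = v) : v = 0 := by
  let W : Subrepresentation ρ :=
    ⟨{ carrier := {v | ∀ x ∈ M, ρ x v = v}
       add_mem' := fun {a b} ha hb x hx => by rw [map_add, ha x hx, hb x hx]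
       zero_mem' := fun x _ => map_zero _
       smul_mem' := fun c a ha x hx => by rw [map_smul, ha x hx] }, fun g v hv x hx => by
      have h := hv (g⁻¹ * x * g) (by simpa using (inferInstance : M.Normal).conj_mem x hx g⁻¹)
      calc ρ x (ρ g v) = ρ (x * g) v := by rw [map_mul]; rfl
        _ = ρ (g * (g⁻¹ * x * g)) v := by rw [show g * (g⁻¹ * x * g) = x * g by group]
        _ = ρ g v := by rw [map_mul, Module.End.mul_apply, h]⟩
  rcases hρ.eq_bot_or_eq_top W with e | e
  · have : v ∈ W.toSubmodule := hv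
    rw [e] at this
    exact (Submodule.mem_bot ℂ).mp this
  · refine absurd (fun x hx => MonoidHom.mem_ker.mpr (LinearMap.ext fun w => ?_)) hM
    have : w ∈ W.toSubmodule := by rw [e]; trivial
    exact this x hx

theorem mem_ker_iff' {A : Type*} [Group A] [Finite A] {n : ℕ} (ρ : Representation ℂ A (Fin n → ℂ))
    (a : A) : a ∈ MonoidHom.ker ρ ↔ ρ.character a = ρ.character 1 := by
  rw [MonoidHom.mem_ker, ρ.char_one, character_eq_finrank_iff]; rfl

/-- The trace of the sum over a subgroup vanishes only if the sum does. -/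
theorem sum_eq_zero_iff {n : ℕ} (ρ : Representation ℂ G (Fin n → ℂ)) (Q : Subgroup G) [Fintype Q] :
    (∑ q : Q, ρ.character q) = 0 ↔ (∑ q : Q, ρ (q : G)) = 0 := by
  set E : (Fin n → ℂ) →ₗ[ℂ] (Fin n → ℂ) := ∑ q : Q, ρ (q : G) with hE
  have htr : LinearMap.trace ℂ _ E = ∑ q : Q, ρ.character q := by
    rw [hE, map_sum]; rfl
  rw [← htr]
  refine ⟨fun h => ?_, fun h => by rw [h, map_zero]⟩
  have hc : (Fintype.card Q : ℂ) ≠ 0 := Nat.cast_ne_zero.mpr Fintype.card_ne_zero
  have hEE : E * E = (Fintype.card Q : ℂ) • E := by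
    have hmul : ∀ a : Q, ρ (a : G) * E = E := fun a => by
      rw [hE, Finset.mul_sum]
      exact Fintype.sum_equiv (Equiv.mulLeft a) _ _ fun q => (map_mul ρ _ _).symm
    nth_rewrite 1 [hE]
    rw [Finset.sum_mul, Finset.sum_congr rfl fun a _ => hmul a, Finset.sum_const, Finset.card_univ,
      Nat.cast_smul_eq_nsmul]
  set P := (Fintype.card Q : ℂ)⁻¹ • E with hP
  have hid : IsIdempotentElem P := by
    show P * P = P
    rw [hP, smul_mul_smul_comm, hEE, smul_smul, mul_assoc, inv_mul_cancel₀ hc, mul_one]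
  have hproj : LinearMap.IsProj (LinearMap.range P) P := by
    refine ⟨fun v => LinearMap.mem_range_self P v, ?_⟩
    rintro _ ⟨v, rfl⟩
    exact LinearMap.congr_fun hid v
  have := hproj.trace
  rw [hP, map_smul, h, smul_zero] at this
  have h0 : Module.finrank ℂ (LinearMap.range P) = 0 := by exact_mod_cast this.symm
  rw [Submodule.finrank_eq_zero, LinearMap.range_eq_bot, hP] at h0
  exact (smul_eq_zero.mp h0).resolve_left (inv_ne_zero hc)

/-- Either a constituent of larger degree, or a rigid configuration. -/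
theorem dichotomy [Fintype G] (χ : IrrCharacter G) (K : Subgroup G) [K.Normal]
    (hK : ∀ g : G, g ∈ K ↔ (χ : G → ℂ) g = (χ : G → ℂ) 1) (H : Subgroup G) (hH : IsCoatom H)
    (hKH : ¬ K ≤ H) :
    (∃ ψ : IrrCharacter G, charDegree (χ : G → ℂ) < charDegree (ψ : G → ℂ) ∧
      ∃ L : Subgroup G, (∀ g : G, g ∈ L ↔ (ψ : G → ℂ) g = (ψ : G → ℂ) 1) ∧ L < K) ∨
    ((K ⊓ H).Normal ∧ ∀ ψ : IrrCharacter G,
      classInner (indFun H (fun h : H => (χ : G → ℂ) h)) (ψ : G → ℂ) ≠ 0 →
        ∀ h ∈ H, (ψ : G → ℂ) h = (χ : G → ℂ) h) := by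
  classical
  haveI := Fintype.ofFinite (IrrCharacter G)
  obtain ⟨n, ρ, hρ, hχ'⟩ := χ.2
  have hχ := hχ'.symm
  haveI := hρ
  let ρH : Representation ℂ H (Fin n → ℂ) := ρ.comp H.subtype
  have hKker : K ≤ MonoidHom.ker ρ := fun g hg => by
    rw [mem_ker_iff']; have := (hK g).mp hg; rw [hχ] at this; exact this
  have htop : ∀ g : G, ∃ h ∈ H, ∃ k ∈ K, h * k = g := by
    intro g
    have : g ∈ H ⊔ K := by rw [hH.2 _ (left_lt_sup.mpr hKH)]; trivial
    exact Subgroup.mem_sup_of_normal_right.mp this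
  haveI hirr : ρH.IsIrreducible := by
    have hne : (⊥ : Subrepresentation ρH) ≠ ⊤ := fun e => by
      haveI := nontrivial_of_irreducible ρ
      exact (bot_ne_top : (⊥ : Submodule ℂ (Fin n → ℂ)) ≠ ⊤) (congrArg Subrepresentation.toSubmodule e)
    haveI : Nontrivial (Subrepresentation ρH) := ⟨⟨⊥, ⊤, hne⟩⟩
    refine ⟨fun W => ?_⟩
    let W' : Subrepresentation ρ := ⟨W.toSubmodule, fun g v hv => by
      obtain ⟨h, hh, k, hk, rfl⟩ := htop g
      rw [map_mul, Module.End.mul_apply, MonoidHom.mem_ker.mp (hKker hk)]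
      exact W.apply_mem_toSubmodule ⟨h, hh⟩ hv⟩
    rcases hρ.eq_bot_or_eq_top W' with e | e
    · exact Or.inl (Subrepresentation.toSubmodule_injective (congrArg Subrepresentation.toSubmodule e :))
    · exact Or.inr (Subrepresentation.toSubmodule_injective (congrArg Subrepresentation.toSubmodule e :))
  set f := indFun H (fun h : H => (χ : G → ℂ) h) with hf
  have key : ∀ ψ : IrrCharacter G, classInner f (ψ : G → ℂ) ≠ 0 →
      (∀ h ∈ H, (ψ : G → ℂ) h = (χ : G → ℂ) h) ∨
      (charDegree (χ : G → ℂ) < charDegree (ψ : G → ℂ) ∧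
        ∃ L : Subgroup G, (∀ g : G, g ∈ L ↔ (ψ : G → ℂ) g = (ψ : G → ℂ) 1) ∧ L < K) := by
    intro ψ hψ
    obtain ⟨m, σ, hσ, hψe'⟩ := ψ.2
    have hψe := hψe'.symm
    rw [hf, classInner_indFun H _ (IsCharacter.isClassFunction (IsIrrCharacter.isCharacter ψ.2))] at hψ
    obtain ⟨T, hT, hcomm⟩ := exists_embedding ρH
      (σ.comp H.subtype : Representation ℂ H _) (by
        have e1 : (fun h : H => (χ : G → ℂ) h) = Representation.character ρH := by
          funext h; rw [hχ]; rfl
        have e2 : (fun h : H => (ψ : G → ℂ) h) = Representation.character (σ.comp H.subtype : Representation ℂ H _) := by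
          funext h; rw [hψe]; rfl
        rw [← e1, ← e2]; exact hψ)
    have hle : n ≤ m := by
      have := LinearMap.finrank_le_finrank_of_injective hT
      simpa using this
    rcases hle.lt_or_eq with hlt | heq
    · right
      have hdχ : charDegree (χ : G → ℂ) = n := by simp [charDegree, hχ]
      have hdψ : charDegree (ψ : G → ℂ) = m := by simp [charDegree, hψe]
      refine ⟨by omega, MonoidHom.ker σ, fun g => by rw [mem_ker_iff', hψe], ?_⟩
      have hLH : MonoidHom.ker σ ≤ H := by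
        by_contra hno
        haveI := hσ
        -- the restriction to `H` would be irreducible of too large a degree
        have hW : ∀ g : G, ∃ h ∈ H, σ g = σ h := fun g => by
          have : g ∈ H ⊔ MonoidHom.ker σ := by rw [hH.2 _ (left_lt_sup.mpr hno)]; trivial
          obtain ⟨h, hh, k, hk, rfl⟩ := Subgroup.mem_sup_of_normal_right.mp this
          exact ⟨h, hh, by rw [map_mul, MonoidHom.mem_ker.mp hk, mul_one]⟩
        let W : Subrepresentation σ := ⟨LinearMap.range T, fun g v hv => by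
          obtain ⟨h, hh, hgh⟩ := hW g
          obtain ⟨u, rfl⟩ := hv
          exact ⟨ρH ⟨h, hh⟩ u, by rw [hcomm, hgh]; rfl⟩⟩
        have hr := LinearMap.finrank_range_of_inj hT
        rcases hσ.eq_bot_or_eq_top W with e | e
        · have e' : LinearMap.range T = ⊥ := congrArg Subrepresentation.toSubmodule e
          rw [e', finrank_bot, Module.finrank_fin_fun] at hr
          haveI := nontrivial_of_irreducible ρ
          have := Module.finrank_pos (R := ℂ) (M := Fin n → ℂ)
          rw [Module.finrank_fin_fun] at this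
          omega
        · have e' : LinearMap.range T = ⊤ := congrArg Subrepresentation.toSubmodule e
          rw [e', finrank_top, Module.finrank_fin_fun, Module.finrank_fin_fun] at hr
          omega
      have hLK : MonoidHom.ker σ ≤ K := fun g hg => by
        have hgH := hLH hg
        rw [hK, hχ]
        refine (mem_ker_iff' ρ g).mp (MonoidHom.mem_ker.mpr (LinearMap.ext fun v => hT ?_))
        have h1 := hcomm ⟨g, hgH⟩ v
        change T (ρ g v) = σ g (T v) at h1
        rw [h1, MonoidHom.mem_ker.mp hg]; rfl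
      exact lt_of_le_of_ne hLK fun e => hKH (e ▸ hLH)
    · left
      subst heq
      intro h hh
      have hbij : Function.Bijective T := ⟨hT, LinearMap.injective_iff_surjective.mp hT⟩
      let e := LinearEquiv.ofBijective T hbij
      rw [hχ, hψe]
      show LinearMap.trace ℂ _ (σ h) = LinearMap.trace ℂ _ (ρ h)
      rw [← LinearMap.trace_conj' (ρ h) e]
      congr 1
      refine LinearMap.ext fun w => ?_
      obtain ⟨v, rfl⟩ := e.surjective w
      rw [LinearEquiv.conj_apply, LinearMap.comp_apply, LinearMap.comp_apply, LinearEquiv.coe_coe,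
        LinearEquiv.coe_coe, LinearEquiv.symm_apply_apply]
      exact (hcomm ⟨h, hh⟩ v).symm
  by_cases hall : ∀ ψ : IrrCharacter G, classInner f (ψ : G → ℂ) ≠ 0 → ∀ h ∈ H, (ψ : G → ℂ) h = (χ : G → ℂ) h
  swap
  · push Not at hall
    obtain ⟨ψ, hψ, h, hh, hne⟩ := hall
    exact Or.inl ⟨ψ, (key ψ hψ).resolve_left fun e => hne (e h hh)⟩
  refine Or.inr ⟨?_, hall⟩
  have hexp : f = ∑ ψ : IrrCharacter G, classInner f (ψ : G → ℂ) • (ψ : G → ℂ) :=
    IsClassFunction.eq_sum (isClassFunction_indFun H _)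
  have hf1 : f 1 = (H.index : ℂ) * (χ : G → ℂ) 1 := indFun_one_apply H _
  have hf0 : f 1 ≠ 0 := by
    rw [hf1]
    exact mul_ne_zero (Nat.cast_ne_zero.mpr Subgroup.index_ne_zero_of_finite)
      (IsIrrCharacter.apply_one_ne_zero χ.2)
  obtain ⟨ψ₀, hψ₀⟩ : ∃ ψ : IrrCharacter G, classInner f (ψ : G → ℂ) ≠ 0 := by
    by_contra h
    push Not at h
    apply hf0
    rw [hexp, Finset.sum_apply]
    exact Finset.sum_eq_zero fun ψ _ => by rw [h ψ]; simp
  let repK : IrrCharacter G → Subgroup G := fun ψ => MonoidHom.ker ψ.2.choose_spec.choose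
  have hrep : ∀ (ψ : IrrCharacter G) (g : G), g ∈ repK ψ ↔ (ψ : G → ℂ) g = (ψ : G → ℂ) 1 := by
    intro ψ g
    have h2 := ψ.2.choose_spec.choose_spec.2
    show g ∈ MonoidHom.ker _ ↔ _
    rw [mem_ker_iff', h2]
  set N := ⨅ ψ : {ψ : IrrCharacter G // classInner f (ψ : G → ℂ) ≠ 0}, repK ψ.1 with hN
  haveI hNn : N.Normal := Subgroup.normal_iInf_normal fun ψ => MonoidHom.normal_ker _
  have hDN : K ⊓ H ≤ N := fun x hx => Subgroup.mem_iInf.mpr fun ψ => by
    rw [hrep, hall ψ.1 ψ.2 x hx.2, hall ψ.1 ψ.2 1 H.one_mem]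
    exact (hK x).mp hx.1
  by_cases hNH : N ≤ H
  · have : N = K ⊓ H := le_antisymm (fun x hx => ⟨by
      have h := (hrep ψ₀ x).mp (Subgroup.mem_iInf.mp hx ⟨ψ₀, hψ₀⟩)
      rw [hall ψ₀ hψ₀ x (hNH hx), hall ψ₀ hψ₀ 1 H.one_mem] at h
      exact (hK x).mpr h, hNH hx⟩) hDN
    exact this ▸ hNn
  · exfalso
    have hone : ∀ ψ : IrrCharacter G, classInner f (ψ : G → ℂ) ≠ 0 → ψ = ψ₀ := by
      intro ψ hψ
      refine Subtype.ext (funext fun g => ?_)
      have : g ∈ H ⊔ N := by rw [hH.2 _ (left_lt_sup.mpr hNH)]; trivial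
      obtain ⟨h, hh, x, hx, rfl⟩ := Subgroup.mem_sup_of_normal_right.mp this
      have e : ∀ φ : IrrCharacter G, classInner f (φ : G → ℂ) ≠ 0 → (φ : G → ℂ) (h * x) = (χ : G → ℂ) h := by
        intro φ hφ
        rw [(IsCharacter.apply_mul_of_eq_one (IsIrrCharacter.isCharacter φ.2)
          ((hrep φ x).mp (Subgroup.mem_iInf.mp hx ⟨φ, hφ⟩)) h).2, hall φ hφ h hh]
      rw [e ψ hψ, e ψ₀ hψ₀]
    have hc : classInner f (ψ₀ : G → ℂ) = 1 := by
      rw [hf, classInner_indFun H _ (IsCharacter.isClassFunction (IsIrrCharacter.isCharacter ψ₀.2)),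
        show (fun h : H => (ψ₀ : G → ℂ) h) = fun h : H => (χ : G → ℂ) h from
          funext fun h => hall ψ₀ hψ₀ h h.2]
      exact IsIrrCharacter.classInner_self ⟨n, ρH, hirr, by
        funext h; rw [hχ]; rfl⟩
    have h1 := congrFun hexp 1
    rw [Finset.sum_apply, Finset.sum_eq_single ψ₀ (fun ψ _ hne => by
      rw [not_not.mp fun h => hne (hone ψ h)]; simp) (fun h => absurd (Finset.mem_univ _) h),
      Pi.smul_apply, smul_eq_mul, hc, one_mul, hall ψ₀ hψ₀ 1 H.one_mem, hf1,
      mul_eq_right₀ (IsIrrCharacter.apply_one_ne_zero χ.2), Nat.cast_eq_one] at h1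
    exact hH.1 (Subgroup.index_eq_one.mp h1)


/-- A chief factor above a normal subgroup with solvable quotient. -/
theorem exists_chief (K : Subgroup G) [K.Normal] [Group.IsSolvable (G ⧸ K)] (hK : K ≠ ⊤) :
    ∃ M : Subgroup G, M.Normal ∧ K < M ∧ (∀ L : Subgroup G, L.Normal → K ≤ L → L ≤ M → L = K ∨ L = M) ∧
      ∃ q : ℕ, Fact q.Prime ∧ (∀ x ∈ M, ∃ b : ℕ, x ^ q ^ b ∈ K) ∧ ∀ x ∈ M, ∀ y ∈ M, x⁻¹ * y⁻¹ * x * y ∈ K := by
  haveI : Nontrivial (G ⧸ K) := QuotientGroup.nontrivial_iff.mpr hK
  obtain ⟨Mb, hMn, -, hMne, hMmin⟩ := Cfsg.Agent.Solv.exists_minimal_normal_le (G := G ⧸ K) (N := ⊤) top_ne_bot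
  haveI := hMn
  have hcomm : ⁅Mb, Mb⁆ = ⊥ := by
    rcases hMmin ⁅Mb, Mb⁆ inferInstance (Subgroup.commutator_le_left Mb Mb) with h | h
    · exact h
    · exfalso
      have hlt : ∀ (n : ℕ), Mb ≤ derivedSeries (G ⧸ K) n := by
        intro n
        induction n with
        | zero => exact le_top
        | succ n ih => rw [derivedSeries_succ, ← h]; exact Subgroup.commutator_mono ih ih
      obtain ⟨n, hn⟩ := (inferInstance : Group.IsSolvable (G ⧸ K)).solvable
      exact hMne (le_bot_iff.mp (hn ▸ hlt n))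
  have hab : ∀ a ∈ Mb, ∀ b ∈ Mb, a * b = b * a := fun a ha b hb =>
    (Subgroup.mem_centralizer_iff.mp ((Subgroup.commutator_eq_bot_iff_le_centralizer.mp hcomm) hb) a ha)
  obtain ⟨q, hq, hqd⟩ := Nat.exists_prime_and_dvd (n := Nat.card Mb) (fun h => hMne (Subgroup.card_eq_one.mp h))
  haveI : Fact q.Prime := ⟨hq⟩
  let S : Subgroup (G ⧸ K) :=
    { carrier := {a | a ∈ Mb ∧ ∃ b : ℕ, a ^ q ^ b = 1}
      one_mem' := ⟨one_mem _, 0, one_pow _⟩
      mul_mem' := by
        rintro a a' ⟨ha, b, hb⟩ ⟨ha', b', hb'⟩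
        refine ⟨mul_mem ha ha', b + b', ?_⟩
        rw [(show Commute a a' from hab a ha a' ha').mul_pow, pow_add, pow_mul, hb, one_pow, one_mul,
          mul_comm (q ^ b), pow_mul, hb', one_pow]
      inv_mem' := by
        rintro a ⟨ha, b, hb⟩
        exact ⟨inv_mem ha, b, by rw [inv_pow, hb, _root_.inv_one]⟩ }
  have hS : S.Normal := ⟨fun a ha g => ⟨hMn.conj_mem a ha.1 g, by
    obtain ⟨b, hb⟩ := ha.2
    exact ⟨b, by rw [conj_pow, hb, mul_one, mul_inv_cancel]⟩⟩⟩
  have hSM : S = Mb := by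
    refine (hMmin S hS fun a ha => ha.1).resolve_left fun h => ?_
    obtain ⟨a, ha⟩ := exists_prime_orderOf_dvd_card' (G := Mb) q hqd
    have : (a : G ⧸ K) ∈ S := ⟨a.2, 1, by
      rw [pow_one, ← SubmonoidClass.coe_pow, ← ha, pow_orderOf_eq_one]; rfl⟩
    rw [h, Subgroup.mem_bot] at this
    rw [show a = 1 from Subtype.ext this, orderOf_one] at ha
    exact hq.one_lt.ne ha
  refine ⟨Mb.comap (QuotientGroup.mk' K), inferInstance, ?_, ?_, q, ⟨hq⟩, ?_, ?_⟩
  · refine lt_of_le_of_ne (QuotientGroup.le_comap_mk' K Mb) fun h => hMne ?_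
    rw [← Subgroup.map_comap_eq_self_of_surjective (QuotientGroup.mk'_surjective K) Mb, ← h,
      QuotientGroup.map_mk'_self]
  · intro L hL hKL hLM
    have e : (L.map (QuotientGroup.mk' K)).comap (QuotientGroup.mk' K) = L := by
      rw [QuotientGroup.comap_map_mk', sup_eq_right.mpr hKL]
    rcases hMmin (L.map (QuotientGroup.mk' K)) (hL.map _ (QuotientGroup.mk'_surjective K))
      (Subgroup.map_le_iff_le_comap.mpr hLM) with h | h
    · left; rw [← e, h, MonoidHom.comap_bot, QuotientGroup.ker_mk']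
    · right; rw [← e, h]
  · intro x hx
    have : QuotientGroup.mk' K x ∈ S := hSM ▸ hx
    obtain ⟨-, b, hb⟩ := this
    refine ⟨b, ?_⟩
    rw [← QuotientGroup.eq_one_iff]
    exact (QuotientGroup.mk_pow K x _).trans hb
  · intro x hx y hy
    rw [← QuotientGroup.eq_one_iff]
    show QuotientGroup.mk' K (x⁻¹ * y⁻¹ * x * y) = 1
    rw [map_mul, map_mul, map_mul, map_inv, map_inv, mul_assoc, hab _ hx _ hy]
    group



/-- Frattini argument inside a normal subgroup of a maximal subgroup. -/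
theorem frattini_le {M : Subgroup G} [M.Normal] {r : ℕ} [Fact r.Prime] (P : Sylow r M) {H : Subgroup G}
    (hH : IsCoatom H) (hNH : Subgroup.normalizer (((P : Subgroup M).map M.subtype : Subgroup G) : Set G) ≤ H)
    (W : Subgroup G) [W.Normal] (hPW : (P : Subgroup M).map M.subtype ≤ W) (hWM : W ≤ M) (hWH : W ≤ H) :
    False := by
  set Q := (P : Subgroup M).map M.subtype with hQ
  have hidx : ¬ r ∣ (Q.subgroupOf W).index := by
    intro hd
    have e := Subgroup.relIndex_mul_relIndex Q W M hPW hWM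
    have e2 : Q.relIndex M = (P : Subgroup M).index := by
      rw [Subgroup.relIndex, Subgroup.subgroupOf, hQ,
        Subgroup.comap_map_eq_self_of_injective M.subtype_injective]
    exact P.not_dvd_index (e2 ▸ e ▸ dvd_mul_of_dvd_left hd _)
  let PW : Sylow r W :=
    IsPGroup.toSylow ((P.isPGroup'.map M.subtype).comap_of_injective W.subtype (Subgroup.subtype_injective _)) hidx
  have htop := Sylow.normalizer_sup_eq_top PW
  rw [show ((PW : Subgroup W).map W.subtype) = Q from Subgroup.map_subgroupOf_eq_of_le hPW] at htop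
  exact hH.1 (top_le_iff.mp (htop ▸ sup_le hNH hWH))

/-- The action on linear functions. -/
def act (K : Subgroup G) [K.Normal] (a : G) (l : K →* ℂˣ) : K →* ℂˣ :=
  l.comp (MulAut.conjNormal a).toMonoidHom

theorem act_apply (K : Subgroup G) [K.Normal] (a : G) (l : K →* ℂˣ) (k : K) :
    act K a l k = l ⟨a * k * a⁻¹, (inferInstance : K.Normal).conj_mem _ k.2 a⟩ := rfl

theorem act_mul (K : Subgroup G) [K.Normal] (a b : G) (l : K →* ℂˣ) :
    act K (a * b) l = act K b (act K a l) := by
  refine MonoidHom.ext fun k => ?_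
  show l ((MulAut.conjNormal (a * b)) k) = l ((MulAut.conjNormal a) ((MulAut.conjNormal b) k))
  rw [map_mul]; rfl

theorem act_inner (K : Subgroup G) [K.Normal] {a : G} (ha : a ∈ K) (l : K →* ℂˣ) : act K a l = l := by
  refine MonoidHom.ext fun k => ?_
  rw [act_apply, show (⟨a * k * a⁻¹, (inferInstance : K.Normal).conj_mem _ k.2 a⟩ : K) =
    ⟨a, ha⟩ * k * ⟨a, ha⟩⁻¹ from rfl, map_mul, map_mul, map_inv, mul_right_comm, mul_inv_cancel, one_mul]

theorem act_hom (K : Subgroup G) [K.Normal] (a : G) (l l' : K →* ℂˣ) :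
    act K a (l * l') = act K a l * act K a l' := rfl

theorem act_inv (K : Subgroup G) [K.Normal] (a : G) (l : K →* ℂˣ) :
    act K a l⁻¹ = (act K a l)⁻¹ := rfl

theorem act_one (K : Subgroup G) [K.Normal] (l : K →* ℂˣ) : act K 1 l = l := act_inner K (one_mem _) l

/-- The rigid configuration is impossible over a chief factor with non-normal Sylow subgroup. -/
theorem rigid_false [Fintype G] (χ : IrrCharacter G) (K : Subgroup G) [K.Normal] [Group.IsNilpotent K]
    (hK : ∀ g : G, g ∈ K ↔ (χ : G → ℂ) g = (χ : G → ℂ) 1) (H : Subgroup G) (hH : IsCoatom H)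
    (hKH : ¬ K ≤ H) (hDn : (K ⊓ H).Normal) (M : Subgroup G) [M.Normal] (hKM : K < M)
    (hMmin : ∀ L : Subgroup G, L.Normal → K ≤ L → L ≤ M → L = K ∨ L = M)
    (hMab : ∀ x ∈ M, ∀ y ∈ M, x⁻¹ * y⁻¹ * x * y ∈ K) {q : ℕ} [Fact q.Prime] (P : Sylow q M)
    (hNH : Subgroup.normalizer (((P : Subgroup M).map M.subtype : Subgroup G) : Set G) ≤ H)
    (hMsup : ∀ x ∈ M, ∃ a ∈ (P : Subgroup M).map M.subtype, ∃ k ∈ K, a * k = x)
    (hall : ∀ ψ : IrrCharacter G, classInner (indFun H (fun h : H => (χ : G → ℂ) h)) (ψ : G → ℂ) ≠ 0 →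
        ∀ h ∈ H, (ψ : G → ℂ) h = (χ : G → ℂ) h) : False := by
  classical
  haveI := hDn
  haveI := Fintype.ofFinite (IrrCharacter G)
  set Q := (P : Subgroup M).map M.subtype with hQdef
  have hQH : Q ≤ H := Subgroup.le_normalizer.trans hNH
  have hQM : Q ≤ M := Subgroup.map_subtype_le _
  set D := K ⊓ H with hD
  set D' := D.subgroupOf K with hD'
  -- the factor is abelian
  have hab : ∀ x ∈ K, ∀ y ∈ K, x * y * x⁻¹ * y⁻¹ ∈ D := by
    have hcle : ⁅K, K⁆ ≤ H := by
      by_contra hno
      have hsup : ∀ x ∈ K, ∃ l ∈ ⁅K, K⁆, ∃ d ∈ D, l * d = x := fun x hx => by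
        have : x ∈ ⁅K, K⁆ ⊔ H := by rw [sup_comm, hH.2 _ (left_lt_sup.mpr hno)]; trivial
        obtain ⟨l, hl, h, hh, e⟩ := Subgroup.mem_sup_of_normal_left.mp this
        refine ⟨l, hl, h, ⟨?_, hh⟩, e⟩
        have hlK : l ∈ K := Subgroup.commutator_le_left K K hl
        rw [show h = l⁻¹ * x by rw [← e]; group]
        exact K.mul_mem (K.inv_mem hlK) hx
      have hne : D' ≠ ⊤ := fun e => hKH (fun x hx => by
        have : (⟨x, hx⟩ : K) ∈ D' := by rw [e]; trivial
        exact (Subgroup.mem_inf.mp this).2)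
      haveI : Nontrivial (K ⧸ D') := QuotientGroup.nontrivial_iff.mpr hne
      refine (Group.IsSolvable.commutator_lt_top_of_nontrivial (K ⧸ D')).ne (eq_top_iff.mpr fun z _ => ?_)
      obtain ⟨⟨x, hx⟩, rfl⟩ := QuotientGroup.mk'_surjective D' z
      obtain ⟨l, hl, d, hd, e⟩ := hsup x hx
      rw [← Subgroup.map_subtype_commutator] at hl
      obtain ⟨l', hl', rfl⟩ := hl
      have : QuotientGroup.mk' D' ⟨x, hx⟩ = QuotientGroup.mk' D' l' := by
        refine (QuotientGroup.eq.mpr ?_).symm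
        rw [hD', Subgroup.mem_subgroupOf]
        show (l' : G)⁻¹ * x ∈ D
        rw [← e, Subgroup.coe_subtype, inv_mul_cancel_left]
        exact hd
      rw [this]
      have h := Subgroup.mem_map_of_mem (QuotientGroup.mk' D') hl'
      rw [_root_.commutator_def, Subgroup.map_commutator] at h
      rw [_root_.commutator_def]
      exact Subgroup.commutator_mono le_top le_top h
    intro x hx y hy
    exact ⟨K.mul_mem (K.mul_mem (K.mul_mem hx hy) (K.inv_mem hx)) (K.inv_mem hy),
      hcle (Subgroup.commutator_mem_commutator hx hy)⟩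
  have hMH : ∀ x ∈ M, x ∈ H → ∃ a ∈ Q, ∃ d ∈ D, a * d = x := fun x hx hxH => by
    obtain ⟨a, ha, k, hk, e⟩ := hMsup x hx
    refine ⟨a, ha, k, ⟨hk, ?_⟩, e⟩
    rw [show k = a⁻¹ * x by rw [← e]; group]
    exact H.mul_mem (H.inv_mem (hQH ha)) hxH
  -- only the kernel acts trivially on the factor
  have hC : ∀ x ∈ M, (∀ k ∈ K, x * k * x⁻¹ * k⁻¹ ∈ D) → x ∈ K := by
    set C := M ⊓ (Subgroup.centralizer ((K.map (QuotientGroup.mk' D) : Subgroup (G ⧸ D)) : Set (G ⧸ D))).comap
      (QuotientGroup.mk' D) with hCdef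
    have hmem : ∀ x : G, x ∈ C ↔ x ∈ M ∧ ∀ k ∈ K, x * k * x⁻¹ * k⁻¹ ∈ D := by
      intro x
      rw [hCdef, Subgroup.mem_inf, Subgroup.mem_comap, Subgroup.mem_centralizer_iff]
      refine and_congr_right fun _ => ⟨fun h k hk => ?_, ?_⟩
      · have := h _ ⟨k, hk, rfl⟩
        rw [← QuotientGroup.eq_one_iff, ← QuotientGroup.mk'_apply, map_mul, map_mul, map_mul, map_inv,
          map_inv, ← this]
        group
      · rintro h _ ⟨k, hk, rfl⟩
        have := (QuotientGroup.eq_one_iff _).mpr (h k hk)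
        rw [← QuotientGroup.mk'_apply, map_mul, map_mul, map_mul, map_inv, map_inv, mul_inv_eq_one,
          mul_inv_eq_iff_eq_mul] at this
        exact this.symm
    haveI : (K.map (QuotientGroup.mk' D)).Normal :=
      (inferInstance : K.Normal).map _ (QuotientGroup.mk'_surjective D)
    have hKC : K ≤ C := fun x hx => (hmem x).mpr ⟨hKM.le hx, fun k hk => hab x hx k hk⟩
    rcases hMmin C inferInstance hKC inf_le_left with h | h
    · intro x hx hxk
      rw [← h]; exact (hmem x).mpr ⟨hx, hxk⟩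
    · exfalso
      haveI : (M ⊓ H).Normal := ⟨fun w hw g => by
        have : g ∈ H ⊔ K := by rw [hH.2 _ (left_lt_sup.mpr hKH)]; trivial
        obtain ⟨a, ha, k, hk, rfl⟩ := Subgroup.mem_sup_of_normal_right.mp this
        refine ⟨(inferInstance : M.Normal).conj_mem w hw.1 _, ?_⟩
        have hk' := ((hmem w).mp (h.symm ▸ hw.1)).2 k hk
        have hd : k * w * k⁻¹ * w⁻¹ ∈ D := by
          have := inv_mem hk'
          rwa [show (w * k * w⁻¹ * k⁻¹)⁻¹ = k * w * k⁻¹ * w⁻¹ by group] at this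
        rw [show a * k * w * (a * k)⁻¹ = a * ((k * w * k⁻¹ * w⁻¹) * w) * a⁻¹ by group]
        exact H.mul_mem (H.mul_mem ha (H.mul_mem hd.2 hw.2)) (H.inv_mem ha)⟩
      exact frattini_le P hH hNH (M ⊓ H) (le_inf hQM hQH) inf_le_left inf_le_right
  -- the factor has order prime to `q`
  have hq' : ∀ k ∈ K, k ^ q ∈ D → k ∈ D := by
    intro k hk hkq
    obtain ⟨e, u, hu, hou⟩ := Nat.exists_eq_pow_mul_and_not_dvd (orderOf_pos k).ne' q
      (Fact.out : q.Prime).ne_one
    have hku : k ^ u ∈ D := by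
      have hp : IsPGroup q (Subgroup.zpowers (⟨k ^ u, hKM.le (pow_mem hk u)⟩ : M)) := by
        intro z
        obtain ⟨i, hi⟩ := z.2
        refine ⟨e, Subtype.ext (Subtype.ext ?_)⟩
        rw [SubmonoidClass.coe_pow, ← hi]
        show (((k ^ u) ^ i : G)) ^ q ^ e = 1
        rw [← zpow_natCast, ← zpow_mul, mul_comm, zpow_mul, zpow_natCast, ← pow_mul, mul_comm u,
          ← hou, pow_orderOf_eq_one, one_zpow]
      obtain ⟨R, hR⟩ := hp.exists_le_sylow
      obtain ⟨m, hm⟩ := MulAction.exists_smul_eq M P R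
      have hmem := hR (Subgroup.mem_zpowers _)
      rw [← hm] at hmem
      change _ ∈ (MulAut.conj m • (P : Subgroup M)) at hmem
      obtain ⟨p0, hp0, hpe⟩ := hmem
      have hpe' : (m : G) * p0 * (m : G)⁻¹ = k ^ u := congrArg Subtype.val hpe
      have hpD : (p0 : G) ∈ D := ⟨by
        rw [show (p0 : G) = (m : G)⁻¹ * (k ^ u) * m by rw [← hpe']; group]
        simpa using (inferInstance : K.Normal).conj_mem _ (pow_mem hk u) (m : G)⁻¹,
        hQH ⟨p0, hp0, rfl⟩⟩
      rw [← hpe']
      exact hDn.conj_mem _ hpD _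
    have hco : Nat.Coprime q u := (Fact.out : q.Prime).coprime_iff_not_dvd.mpr hu
    have h1 : orderOf ((QuotientGroup.mk k : G ⧸ D)) = 1 :=
      Nat.eq_one_of_dvd_coprimes hco (orderOf_dvd_of_pow_eq_one ((QuotientGroup.eq_one_iff _).mpr hkq))
        (orderOf_dvd_of_pow_eq_one ((QuotientGroup.eq_one_iff _).mpr hku))
    exact (QuotientGroup.eq_one_iff k).mp (orderOf_eq_one_iff.mp h1)
  let V : Set (K →* ℂˣ) := {l | ∀ k : K, (k : G) ∈ D → l k = 1}
  have hVact : ∀ a : G, ∀ l ∈ V, act K a l ∈ V := fun a l hl k hk => hl _ (hDn.conj_mem _ hk a)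
  have hsep : ∀ k : K, (k : G) ∉ D → ∃ l ∈ V, l k ≠ 1 := by
    intro k hk
    letI : CommGroup (K ⧸ D') :=
      { (inferInstance : Group (K ⧸ D')) with
        mul_comm := fun a b => by
          obtain ⟨x, rfl⟩ := QuotientGroup.mk'_surjective D' a
          obtain ⟨y, rfl⟩ := QuotientGroup.mk'_surjective D' b
          rw [← map_mul, ← map_mul, ← mul_inv_eq_one, ← map_inv, ← map_mul, QuotientGroup.mk'_apply,
            QuotientGroup.eq_one_iff, hD', Subgroup.mem_subgroupOf]
          show (x : G) * y * ((y : G) * x)⁻¹ ∈ D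
          rw [show (x : G) * y * ((y : G) * x)⁻¹ = x * y * (x : G)⁻¹ * (y : G)⁻¹ by group]
          exact hab _ x.2 _ y.2 }
    haveI : NeZero (Monoid.exponent (K ⧸ D')) := ⟨Monoid.exponent_ne_zero_of_finite⟩
    obtain ⟨φ, hφ⟩ := CommGroup.exists_apply_ne_one_of_hasEnoughRootsOfUnity (K ⧸ D') ℂ
      (a := QuotientGroup.mk' D' k) (fun h => hk ((QuotientGroup.eq_one_iff k).mp h :))
    refine ⟨φ.comp (QuotientGroup.mk' D'), fun x hx => ?_, hφ⟩
    rw [MonoidHom.comp_apply, show QuotientGroup.mk' D' x = 1 from (QuotientGroup.eq_one_iff x).mpr hx,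
      map_one]
  have hcommM : ∀ a ∈ M, ∀ b ∈ M, ∀ l, act K a (act K b l) = act K b (act K a l) := by
    intro a ha b hb l
    have hk := hMab a ha b hb
    rw [← act_mul, ← act_mul, show a * b = b * a * (a⁻¹ * b⁻¹ * a * b) by group, act_mul K (b * a),
      act_inner K hk]
  -- a moved function cannot be fixed
  have hfix : ∀ x ∈ Q, ∀ c ∈ V, ∀ u : K →* ℂˣ, act K x c = c → act K x u = u * c → c = 1 := by
    intro x hx c hc u hfx hu
    have hj : ∀ j : ℕ, act K (x ^ j) u = u * c ^ j := by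
      intro j
      induction j with
      | zero => rw [pow_zero, act_one]; ext k; simp
      | succ j ih =>
        have e : act K x (c ^ j) = c ^ j := by
          rw [show act K x (c ^ j) = (act K x c) ^ j from MonoidHom.ext fun k => rfl, hfx]
        rw [pow_succ, act_mul, ih, act_hom, hu, e]
        ext k
        simp [pow_succ', mul_assoc]
    have hcn := hj (orderOf x)
    rw [pow_orderOf_eq_one, act_one] at hcn
    replace hcn : c ^ orderOf x = 1 := MonoidHom.ext fun k => by
      have := DFunLike.congr_fun hcn k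
      rw [MonoidHom.mul_apply] at this
      exact left_eq_mul.mp this
    obtain ⟨p0, hp0, rfl⟩ := hx
    obtain ⟨t, ht⟩ := IsPGroup.iff_orderOf.mp P.isPGroup' ⟨p0, hp0⟩
    rw [Subgroup.orderOf_mk] at ht
    rw [Subgroup.coe_subtype, Subgroup.orderOf_coe, ht] at hcn
    clear hj hu hfx ht
    induction t generalizing c with
    | zero => exact MonoidHom.ext fun k => by simpa using DFunLike.congr_fun hcn k
    | succ t ih =>
      exact ih _ hc (by
        refine MonoidHom.ext fun k => ?_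
        have h := DFunLike.congr_fun hcn k
        rw [MonoidHom.pow_apply, pow_succ, pow_mul] at h
        rw [MonoidHom.pow_apply, MonoidHom.one_apply]
        by_contra hne
        -- a value of order `q` on a quotient of order prime to `q`
        set z := (c k) ^ q ^ t with hz
        have hzq : orderOf z = q := orderOf_eq_prime h hne
        have hA : z ^ D'.index = 1 := by
          rw [hz, ← map_pow, ← map_pow]
          exact hc _ (Subgroup.mem_subgroupOf.mp (Subgroup.pow_index_mem _ _))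
        have hdvd : q ∣ Nat.card (K ⧸ D') := by
          rw [← Subgroup.index_eq_card, ← hzq]; exact orderOf_dvd_of_pow_eq_one hA
        obtain ⟨y, hy⟩ := exists_prime_orderOf_dvd_card' (G := K ⧸ D') q hdvd
        obtain ⟨y, rfl⟩ := QuotientGroup.mk_surjective y
        have hyD : (y : G) ∈ D := hq' y y.2 (by
          have : (QuotientGroup.mk (y ^ q) : K ⧸ D') = 1 := by
            rw [QuotientGroup.mk_pow, ← hy, pow_orderOf_eq_one]
          exact Subgroup.mem_subgroupOf.mp ((QuotientGroup.eq_one_iff (y ^ q)).mp this))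
        rw [show (QuotientGroup.mk y : K ⧸ D') = 1 from (QuotientGroup.eq_one_iff y).mpr hyD, orderOf_one] at hy
        exact (Fact.out : q.Prime).one_lt.ne hy)
  haveI : Finite (K →* ℂˣ) := Nat.finite_of_card_ne_zero (by
    rw [Cfsg.Agent.Char.card_monoidHom_units]; exact Subgroup.index_ne_zero_of_finite)
  let S : (K →* ℂˣ) → Set G := fun l => {x | x ∈ M ∧ act K x l = l}
  obtain ⟨l, hlV, hlmin⟩ := (Set.toFinite V).exists_minimalFor (fun l => (S l).ncard) V ⟨1, fun k _ => rfl⟩
  have hSl : ∀ x ∈ S l, x ∈ K := by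
    rintro x ⟨hxM, hxl⟩
    obtain ⟨a, ha, k, hk, rfl⟩ := hMsup x hxM
    refine mul_mem ?_ hk
    rw [act_mul, act_inner K hk] at hxl
    by_contra haK
    obtain ⟨b, hb, hbD⟩ : ∃ b ∈ K, a * b * a⁻¹ * b⁻¹ ∉ D := by
      by_contra h
      push Not at h
      exact haK (hC a (hQM ha) h)
    obtain ⟨w, hw, hw1⟩ := hsep ⟨a * b * a⁻¹ * b⁻¹,
      mul_mem ((inferInstance : K.Normal).conj_mem _ hb a) (inv_mem hb)⟩ hbD
    set w' := act K a w * w⁻¹ with hw'
    have hw'V : w' ∈ V := fun k hk => by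
      rw [hw', MonoidHom.mul_apply, MonoidHom.inv_apply, hVact a w hw k hk, hw k hk, _root_.inv_one, mul_one]
    have hw'1 : w' ≠ 1 := fun h => hw1 (by
      have := DFunLike.congr_fun h ⟨b, hb⟩
      rw [hw', MonoidHom.mul_apply, MonoidHom.inv_apply, MonoidHom.one_apply, act_apply, ← map_inv,
        ← map_mul] at this
      exact this)
    have hxw : act K a w' ≠ w' := fun h => hw'1 (hfix a ha w' hw'V w h (MonoidHom.ext fun k => by simp [hw', mul_comm]))
    have hll : l * w' ∈ V := fun k hk => by rw [MonoidHom.mul_apply, hlV k hk, hw'V k hk, one_mul]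
    have hsub : S (l * w') ⊆ S l := by
      rintro y ⟨hyM, hy⟩
      refine ⟨hyM, ?_⟩
      rw [act_hom] at hy
      set c := act K y l * l⁻¹ with hcdef
      have hcV : c ∈ V := fun k hk => by
        rw [hcdef, MonoidHom.mul_apply, MonoidHom.inv_apply, hVact y l hlV k hk, hlV k hk, _root_.inv_one, mul_one]
      have hc1 : c = 1 := by
        refine hfix a ha c hcV (w * (act K y w)⁻¹) ?_ ?_
        · rw [hcdef, act_hom, act_inv, hcommM a (hQM ha) y hyM, hxl]
        · refine MonoidHom.ext fun k => ?_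
          have h0 := DFunLike.congr_fun hy k
          have hcm := DFunLike.congr_fun (hcommM a (hQM ha) y hyM w) k
          rw [hw'] at h0
          simp only [act_hom, act_inv, MonoidHom.mul_apply, MonoidHom.inv_apply] at h0
          simp only [act_hom, act_inv, hcdef, MonoidHom.mul_apply, MonoidHom.inv_apply]
          rw [hcm]
          apply Units.ext
          have h1 := congrArg Units.val h0
          simp only [Units.val_mul, Units.val_inv_eq_inv_val] at h1 ⊢
          field_simp at h1 ⊢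
          linear_combination -h1
      exact mul_inv_eq_one.mp hc1
    have hlt : (S (l * w')).ncard < (S l).ncard := Set.ncard_lt_ncard ⟨hsub, fun h => by
      have h2 := (h (show a ∈ S l from ⟨hQM ha, hxl⟩)).2
      rw [act_hom, hxl] at h2
      exact hxw (mul_left_cancel h2)⟩ (Set.toFinite _)
    exact absurd (hlmin hll hlt.le) (not_le.mpr hlt)
  -- a constituent over `l`
  haveI := Fintype.ofFinite K
  haveI := Fintype.ofFinite Q
  set f := indFun H (fun h : H => (χ : G → ℂ) h) with hf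
  have hf1 : f 1 ≠ 0 := by
    rw [hf, indFun_one_apply]
    exact mul_ne_zero (Nat.cast_ne_zero.mpr Subgroup.index_ne_zero_of_finite)
      (IsIrrCharacter.apply_one_ne_zero χ.2)
  have hfK : ∀ k : K, f k * ((l k)⁻¹ : ℂˣ) = if (k : G) ∈ D then f 1 else 0 := by
    intro k
    split_ifs with hk
    · rw [hlV k hk, _root_.inv_one, Units.val_one, mul_one, hf, indFun_apply, indFun_apply]
      refine congrArg _ (Finset.sum_congr rfl fun x _ => ?_)
      have hc : x⁻¹ * k * x ∈ D := by simpa using hDn.conj_mem _ hk x⁻¹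
      rw [extendByZero_of_mem _ _ hc.2, extendByZero_of_mem _ _ (by rw [mul_one, inv_mul_cancel]; exact one_mem H)]
      show (χ : G → ℂ) _ = (χ : G → ℂ) _
      rw [(hK _).mp hc.1]
      simp
    · rw [hf, indFun_apply, Finset.sum_eq_zero fun x _ => ?_, mul_zero, zero_mul]
      refine extendByZero_of_notMem _ _ fun hm => hk ?_
      have hd : x⁻¹ * k * x ∈ D := ⟨by simpa using (inferInstance : K.Normal).conj_mem _ k.2 x⁻¹, hm⟩
      have := hDn.conj_mem _ hd x
      rwa [show x * (x⁻¹ * k * x) * x⁻¹ = k by group] at this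
  have hsum : (∑ k : K, f k * ((l k)⁻¹ : ℂˣ)) ≠ 0 := by
    rw [Finset.sum_congr rfl fun k _ => hfK k, Finset.sum_ite, Finset.sum_const_zero, add_zero,
      Finset.sum_const, nsmul_eq_mul]
    exact mul_ne_zero (Nat.cast_ne_zero.mpr (Finset.card_ne_zero.mpr ⟨1, by simp [D.one_mem]⟩)) hf1
  obtain ⟨ψ, hψc, hψsum⟩ : ∃ ψ : IrrCharacter G, classInner f (ψ : G → ℂ) ≠ 0 ∧
      (∑ k : K, (ψ : G → ℂ) k * ((l k)⁻¹ : ℂˣ)) ≠ 0 := by
    by_contra h
    push Not at h
    apply hsum
    have hexp : f = ∑ ψ : IrrCharacter G, classInner f (ψ : G → ℂ) • (ψ : G → ℂ) :=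
      IsClassFunction.eq_sum (isClassFunction_indFun H _)
    rw [hexp]
    simp only [Finset.sum_apply, Pi.smul_apply, smul_eq_mul, Finset.sum_mul, mul_assoc]
    rw [Finset.sum_comm]
    refine Finset.sum_eq_zero fun ψ _ => ?_
    rw [← Finset.mul_sum]
    by_cases hc : classInner f (ψ : G → ℂ) = 0
    · rw [hc, zero_mul]
    · rw [h ψ hc, mul_zero]
  obtain ⟨m, σ, hσ, hψe⟩ := ψ.2
  obtain ⟨n, ρ, hρ, hχe⟩ := χ.2
  haveI := hρ
  set Pl : (Fin m → ℂ) →ₗ[ℂ] (Fin m → ℂ) := ∑ k : K, (((l k)⁻¹ : ℂˣ) : ℂ) • σ (k : G) with hPl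
  have hPl0 : Pl ≠ 0 := by
    intro h
    apply hψsum
    have := congrArg (LinearMap.trace ℂ _) h
    rw [hPl, map_sum, map_zero] at this
    rw [← hψe]
    refine Eq.trans (Finset.sum_congr rfl fun k _ => ?_) this
    rw [map_smul, smul_eq_mul, mul_comm]
    rfl
  obtain ⟨u, hu⟩ : ∃ u, Pl u ≠ 0 := by
    by_contra h
    push Not at h
    exact hPl0 (LinearMap.ext h)
  set v := Pl u with hv
  have heig : ∀ k : K, σ (k : G) v = ((l k : ℂˣ) : ℂ) • v := by
    intro k
    simp only [hv, hPl, LinearMap.sum_apply, LinearMap.smul_apply, map_sum, map_smul, Finset.smul_sum, smul_smul]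
    refine Fintype.sum_equiv (Equiv.mulLeft k) _ _ fun j => ?_
    rw [Equiv.coe_mulLeft, Subgroup.coe_mul, map_mul σ, map_mul l, mul_inv_rev, Units.val_mul,
      mul_comm (((l j)⁻¹ : ℂˣ) : ℂ) (((l k)⁻¹ : ℂˣ) : ℂ), ← mul_assoc, ← Units.val_mul, mul_inv_cancel,
      Units.val_one, one_mul]
    rfl
  have hPa : ∀ a ∈ Q, Pl (σ a v) = if a ∈ K then (Fintype.card K : ℂ) • v else 0 := by
    intro a ha
    have hexpand : Pl (σ a v) = (∑ k : K, (((l k)⁻¹ * act K a⁻¹ l k : ℂˣ) : ℂ)) • σ a v := by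
      rw [hPl, LinearMap.sum_apply, Finset.sum_smul]
      refine Finset.sum_congr rfl fun k _ => ?_
      rw [LinearMap.smul_apply, Units.val_mul, mul_smul]
      congr 1
      have hk' := heig ⟨a⁻¹ * k * a⁻¹⁻¹, (inferInstance : K.Normal).conj_mem _ k.2 a⁻¹⟩
      rw [act_apply]
      calc σ (k : G) (σ a v) = σ a (σ (a⁻¹ * (k : G) * a⁻¹⁻¹) v) := by
            show (σ (k : G) * σ a) v = (σ a * σ (a⁻¹ * (k : G) * a⁻¹⁻¹)) v
            rw [← map_mul, ← map_mul]
            congr 2
            group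
        _ = _ := by rw [hk', map_smul]
    rw [hexpand]
    split_ifs with haK
    · rw [act_inner K (inv_mem haK)]
      simp only [inv_mul_cancel, Units.val_one, Finset.sum_const, Finset.card_univ, nsmul_eq_mul, mul_one]
      have haD : a ∈ D := ⟨haK, hQH ha⟩
      have := heig ⟨a, haK⟩
      rw [hlV ⟨a, haK⟩ haD, Units.val_one, one_smul] at this
      exact congrArg _ this
    · have hμ : (l⁻¹ * act K a⁻¹ l) ≠ 1 := fun h => haK (inv_mem_iff.mp (hSl a⁻¹
        ⟨inv_mem (hQM ha), (inv_mul_eq_one.mp h).symm⟩))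
      have := sum_hom_units_eq_zero ((Units.coeHom ℂ).comp (l⁻¹ * act K a⁻¹ l)) (fun h => hμ
        (MonoidHom.ext fun k => Units.ext (DFunLike.congr_fun h k)))
      rw [show (∑ k : K, (((l k)⁻¹ * act K a⁻¹ l k : ℂˣ) : ℂ)) = 0 from this, zero_smul]
  have hEσ : (∑ a : Q, σ (a : G)) ≠ 0 := by
    intro h
    have h2 := congrArg (fun T : (Fin m → ℂ) →ₗ[ℂ] (Fin m → ℂ) => Pl (T v)) h
    simp only [LinearMap.sum_apply, map_sum, LinearMap.zero_apply, map_zero] at h2
    rw [Finset.sum_congr rfl (fun (a : Q) _ => hPa (a : G) a.2), Finset.sum_ite, Finset.sum_const_zero, add_zero,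
      Finset.sum_const, ← Nat.cast_smul_eq_nsmul ℂ, smul_smul, smul_eq_zero] at h2
    rcases h2 with h2 | h2
    · exact mul_ne_zero (Nat.cast_ne_zero.mpr (Finset.card_ne_zero.mpr ⟨1, by simp [K.one_mem]⟩))
        (Nat.cast_ne_zero.mpr Fintype.card_ne_zero) h2
    · exact hu h2
  apply hEσ
  rw [← sum_eq_zero_iff σ Q]
  refine Eq.trans (Finset.sum_congr rfl fun a _ => ?_) ((sum_eq_zero_iff ρ Q).mpr ?_)
  · have := hall ψ hψc a (hQH a.2)
    rw [← hψe, ← hχe] at this
    exact this
  · refine LinearMap.ext fun w => fixed_eq_bot ρ M ?_ _ fun x hx => ?_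
    · intro hle
      refine hKM.not_ge fun x hx => (hK x).mpr ?_
      rw [← hχe]
      exact (mem_ker_iff' ρ x).mp (hle hx)
    · obtain ⟨a, ha, k, hk, rfl⟩ := hMsup x hx
      have hkρ : ρ k = 1 := MonoidHom.mem_ker.mp ((mem_ker_iff' ρ k).mpr (by
        have := (hK k).mp hk; rw [← hχe] at this; exact this))
      rw [map_mul, hkρ, mul_one, LinearMap.sum_apply, map_sum]
      refine Fintype.sum_equiv (Equiv.mulLeft (⟨a, ha⟩ : Q)) _ _ fun b => ?_
      rw [← Module.End.mul_apply, ← map_mul]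
      rfl

/-- A Sylow subgroup of a normal subgroup that is normal in it is normal. -/
theorem normal_map_sylow (M : Subgroup G) [M.Normal] {r : ℕ} [Fact r.Prime] (P : Sylow r M)
    (hP : (P : Subgroup M).Normal) : ((P : Subgroup M).map M.subtype).Normal := by
  haveI := Sylow.characteristic_of_normal P hP
  infer_instance

/-- Let χ be an irreducible character of the finite group G and K its kernel (the elements where χ takes the value χ(1)). Suppose either that K is not contained in the Fitting subgroup F(G), or that K = F(G) with G/K solvable and K ≠ G. Then there is an irreducible character ψ of G with ψ(1) > χ(1) whose kernel is properly contained in K. -/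
theorem result {G : Type*} [Group G] [Finite G] (χ : Cfsg.IrrCharacter G) (K : Subgroup G) [K.Normal] (hK : (∀ g : G, g ∈ K ↔ (χ : G → ℂ) g = (χ : G → ℂ) 1)) (h : ¬ K ≤ Cfsg.fittingSubgroup G ∨ (K = Cfsg.fittingSubgroup G ∧ Group.IsSolvable (G ⧸ K) ∧ K ≠ ⊤)) : ∃ ψ : Cfsg.IrrCharacter G, Cfsg.charDegree (χ : G → ℂ) < Cfsg.charDegree (ψ : G → ℂ) ∧ ∃ L : Subgroup G, (∀ g : G, g ∈ L ↔ (ψ : G → ℂ) g = (ψ : G → ℂ) 1) ∧ L < K := by
  classical
  letI := Fintype.ofFinite G
  -- a maximal subgroup containing the normaliser of a non-normal subgroup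
  have getH : ∀ X : Subgroup G, ¬ X.Normal → ∃ H : Subgroup G, IsCoatom H ∧ Subgroup.normalizer (X : Set G) ≤ H := by
    intro X hX
    exact (eq_top_or_exists_le_coatom _).resolve_left fun e => hX (Subgroup.normalizer_eq_top_iff.mp e)
  rcases h with hnF | ⟨hKF, hsolv, hKtop⟩
  · have hnil : ¬ Group.IsNilpotent K := fun hn => hnF (Cfsg.Agent.Solv.le_fittingSubgroup hn)
    obtain ⟨r, hr, P, hP⟩ : ∃ (r : ℕ) (_ : Fact r.Prime) (P : Sylow r K), ¬ (P : Subgroup K).Normal := by
      by_contra h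
      push Not at h
      exact hnil ((Group.isNilpotent_of_finite_tfae (G := K)).out 0 3 |>.mpr h)
    have hP' : ¬ ((P : Subgroup K).map K.subtype).Normal := fun hn => hP (by
      have := hn.comap K.subtype
      rwa [Subgroup.comap_map_eq_self_of_injective K.subtype_injective] at this)
    obtain ⟨H, hH, hNH⟩ := getH _ hP'
    have hKH : ¬ K ≤ H := fun hle => hH.1 (top_le_iff.mp (by
      rw [← Sylow.normalizer_sup_eq_top P]
      exact sup_le hNH hle))
    rcases dichotomy χ K hK H hH hKH with h | ⟨hD, -⟩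
    · exact h
    exfalso
    haveI := hD
    have hPD : (P : Subgroup K).map K.subtype ≤ K ⊓ H :=
      le_inf (Subgroup.map_subtype_le _) (Subgroup.le_normalizer.trans hNH)
    set Q := (P : Subgroup K).map K.subtype with hQ
    have hidx : ¬ r ∣ (Q.subgroupOf (K ⊓ H)).index := by
      intro hd
      have e := Subgroup.relIndex_mul_relIndex Q (K ⊓ H) K hPD inf_le_left
      have e2 : Q.relIndex K = (P : Subgroup K).index := by
        rw [Subgroup.relIndex, Subgroup.subgroupOf, hQ,
          Subgroup.comap_map_eq_self_of_injective K.subtype_injective]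
      exact P.not_dvd_index (e2 ▸ e ▸ dvd_mul_of_dvd_left hd _)
    let PD : Sylow r ↥(K ⊓ H) :=
      IsPGroup.toSylow ((P.isPGroup'.map K.subtype).comap_of_injective (K ⊓ H).subtype (Subgroup.subtype_injective _)) hidx
    have htop := Sylow.normalizer_sup_eq_top PD
    rw [show ((PD : Subgroup ↥(K ⊓ H)).map (K ⊓ H).subtype) = Q from
      Subgroup.map_subgroupOf_eq_of_le hPD] at htop
    exact hH.1 (top_le_iff.mp (htop ▸ sup_le hNH inf_le_right))
  · -- the kernel is the Fitting subgroup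
    haveI := hsolv
    haveI hKnil : Group.IsNilpotent K := by rw [hKF]; exact Cfsg.Agent.Solv.fittingSubgroup_isNilpotent G
    haveI : Nontrivial (G ⧸ K) := QuotientGroup.nontrivial_iff.mpr hKtop
    obtain ⟨M, hMn, hKM, hMmin, q, hq, hMq, hMab⟩ := exists_chief K hKtop
    haveI := hMn
    haveI := hq
    have hMnil : ¬ Group.IsNilpotent M := fun hn => by
      have := Cfsg.Agent.Solv.le_fittingSubgroup (N := M) hn
      rw [← hKF] at this
      exact hKM.not_ge this
    obtain ⟨r, hr, P, hP⟩ : ∃ (r : ℕ) (_ : Fact r.Prime) (P : Sylow r M), ¬ (P : Subgroup M).Normal := by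
      by_contra h
      push Not at h
      exact hMnil ((Group.isNilpotent_of_finite_tfae (G := M)).out 0 3 |>.mpr h)
    set Q := (P : Subgroup M).map M.subtype with hQdef
    have hrq : r = q := by
      by_contra hne
      apply hP
      have hPK : (P : Subgroup M) ≤ K.subgroupOf M := fun x hx => by
        obtain ⟨a, ha⟩ := IsPGroup.iff_orderOf.mp P.isPGroup' ⟨x, hx⟩
        obtain ⟨b, hb⟩ := hMq (x : G) x.2
        rw [Subgroup.orderOf_mk] at ha
        have hdvd : orderOf ((QuotientGroup.mk (x : G)) : G ⧸ K) = 1 := by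
          refine Nat.eq_one_of_dvd_coprimes (((Nat.coprime_primes hr.out hq.out).mpr hne).pow a b) ?_ ?_
          · rw [← ha, ← Subgroup.orderOf_coe]
            exact orderOf_map_dvd (QuotientGroup.mk' K) (x : G)
          · exact orderOf_dvd_of_pow_eq_one (by rw [← QuotientGroup.mk_pow, QuotientGroup.eq_one_iff]; exact hb)
        rw [Subgroup.mem_subgroupOf, ← QuotientGroup.eq_one_iff]
        exact orderOf_eq_one_iff.mp hdvd
      let P' : Sylow r (K.subgroupOf M) := P.subtype hPK
      haveI : Group.IsNilpotent (K.subgroupOf M) :=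
        Group.nilpotent_of_mulEquiv (Subgroup.subgroupOfEquivOfLe hKM.le).symm
      have hnorm : ∀ (p : ℕ) (_hp : Fact p.Prime) (R : Sylow p (K.subgroupOf M)), (R : Subgroup (K.subgroupOf M)).Normal :=
        ((Group.isNilpotent_of_finite_tfae (G := K.subgroupOf M)).out 0 3 rfl rfl).mp inferInstance
      have hP'n : (P' : Subgroup (K.subgroupOf M)).Normal := hnorm r hr P'
      haveI := normal_map_sylow (K.subgroupOf M) P' hP'n
      have e : ((P' : Subgroup (K.subgroupOf M)).map (K.subgroupOf M).subtype) = (P : Subgroup M) := by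
        rw [Sylow.coe_subtype, Subgroup.map_subgroupOf_eq_of_le hPK]
      rw [← e]; infer_instance
    subst hrq
    have hQn : ¬ Q.Normal := fun hn => hP (by
      have := hn.comap M.subtype
      rwa [Subgroup.comap_map_eq_self_of_injective M.subtype_injective] at this)
    obtain ⟨H, hH, hNH⟩ := getH _ hQn
    have hQH : Q ≤ H := Subgroup.le_normalizer.trans hNH
    have hQM : Q ≤ M := Subgroup.map_subtype_le _
    have hMsup : ∀ x ∈ M, ∃ a ∈ Q, ∃ k ∈ K, a * k = x := by
      intro x hx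
      have hidx : ((P : Subgroup M) ⊔ K.subgroupOf M) = ⊤ := by
        rw [← Subgroup.index_eq_one]
        have h1 : ((P : Subgroup M) ⊔ K.subgroupOf M).index ∣ (P : Subgroup M).index :=
          Subgroup.index_dvd_of_le le_sup_left
        have h2 : ((P : Subgroup M) ⊔ K.subgroupOf M).index ∣ (K.subgroupOf M).index :=
          Subgroup.index_dvd_of_le le_sup_right
        have hpg : IsPGroup r (M ⧸ K.subgroupOf M) := by
          intro z
          obtain ⟨w, rfl⟩ := QuotientGroup.mk_surjective z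
          obtain ⟨b, hb⟩ := hMq (w : G) w.2
          refine ⟨b, ?_⟩
          rw [← QuotientGroup.mk_pow, QuotientGroup.eq_one_iff]
          exact hb
        obtain ⟨b, hb⟩ := hpg.exists_card_eq
        rw [Subgroup.index_eq_card (K.subgroupOf M), hb] at h2
        exact Nat.eq_one_of_dvd_coprimes
          (((hr.out.coprime_iff_not_dvd.mpr P.not_dvd_index).symm).pow_right b) h1 h2
      have : (⟨x, hx⟩ : M) ∈ (P : Subgroup M) ⊔ K.subgroupOf M := by rw [hidx]; trivial
      obtain ⟨a, ha, k, hk, e⟩ := Subgroup.mem_sup_of_normal_right.mp this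
      exact ⟨(a : G), ⟨a, ha, rfl⟩, (k : G), hk, congrArg Subtype.val e⟩
    have hKH : ¬ K ≤ H := fun hle => hH.1 (top_le_iff.mp (by
      have hMH : M ≤ H := fun x hx => by
        obtain ⟨a, ha, k, hk, rfl⟩ := hMsup x hx
        exact mul_mem (hQH ha) (hle hk)
      rw [← Sylow.normalizer_sup_eq_top P]
      exact sup_le hNH hMH))
    rcases dichotomy χ K hK H hH hKH with h | ⟨hD, hall⟩
    · exact h
    exact (rigid_false χ K hK H hH hKH hD M hKM hMmin hMab P hNH hMsup hall).elim

end Cfsg.Agent.S4461
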