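import Cfsg.Statements.S4462
import Cfsg.Agent.S4461
import Cfsg.Agent.Lib.Block.CentralQuotientBlock
import Cfsg.Agent.Lib.Solv.Basic

set_option autoImplicit false
open Cfsg

namespace Cfsg.Agent.S4462


open Cfsg.Agent.Char

universe u

variable {G : Type u} [Group G] [Finite G]

/-- The characters trivial on a subgroup give these degrees. -/
def degsOver (N : Subgroup G) : Set ℕ :=
  {d | ∃ χ : IrrCharacter G, (∀ x ∈ N, (χ : G → ℂ) x = (χ : G → ℂ) 1) ∧ charDegree (χ : G → ℂ) = d}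

theorem degsOver_step [Group.IsSolvable G] (N : Subgroup G) [N.Normal]
    (hne : Cfsg.fittingSubgroup (G ⧸ N) ≠ ⊤) :
    degsOver ((Cfsg.fittingSubgroup (G ⧸ N)).comap (QuotientGroup.mk' N)) ⊆ degsOver N ∧
      ∀ d ∈ degsOver ((Cfsg.fittingSubgroup (G ⧸ N)).comap (QuotientGroup.mk' N)),
        ∃ e ∈ degsOver N, d < e := by
  set F := Cfsg.fittingSubgroup (G ⧸ N) with hF
  refine ⟨?_, ?_⟩
  · rintro d ⟨χ, hχ, rfl⟩
    exact ⟨χ, fun x hx => hχ x (QuotientGroup.le_comap_mk' N F hx), rfl⟩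
  rintro d ⟨χ, hχ, rfl⟩
  obtain ⟨φ, hφ⟩ := Cfsg.Agent.Block.exists_factor_quotient N χ fun g hg y =>
    (IsCharacter.apply_mul_of_eq_one (IsIrrCharacter.isCharacter χ.2)
      (hχ g (QuotientGroup.le_comap_mk' N F hg)) y).1
  obtain ⟨m, σ, hσ, hφe⟩ := φ.2
  set K := MonoidHom.ker σ with hKdef
  have hK : ∀ g : G ⧸ N, g ∈ K ↔ (φ : G ⧸ N → ℂ) g = (φ : G ⧸ N → ℂ) 1 := fun g => by
    rw [← hφe]; exact Cfsg.Agent.S4461.mem_ker_iff' σ g
  have hFK : F ≤ K := fun g hg => by
    obtain ⟨g, rfl⟩ := QuotientGroup.mk_surjective g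
    rw [hK, hφ, ← QuotientGroup.mk_one (N := N), hφ]
    exact hχ g hg
  haveI : Group.IsSolvable (G ⧸ N) := solvable_of_surjective (QuotientGroup.mk'_surjective N)
  have hh : ¬ K ≤ F ∨ (K = F ∧ Group.IsSolvable ((G ⧸ N) ⧸ K) ∧ K ≠ ⊤) := by
    by_cases hle : K ≤ F
    · have he : K = F := le_antisymm hle hFK
      exact Or.inr ⟨he, solvable_of_surjective (QuotientGroup.mk'_surjective K), he ▸ hne⟩
    · exact Or.inl hle
  obtain ⟨ψ, hlt, -⟩ := Cfsg.Agent.S4461.result φ K hK hh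
  let ψ' : IrrCharacter G := ⟨_, Cfsg.Agent.Block.isIrrCharacter_comp_surjective (QuotientGroup.mk' N)
    (QuotientGroup.mk'_surjective N) ψ.2⟩
  refine ⟨_, ⟨ψ', fun x hx => ?_, rfl⟩, ?_⟩
  · show (ψ : G ⧸ N → ℂ) (QuotientGroup.mk' N x) = (ψ : G ⧸ N → ℂ) (QuotientGroup.mk' N 1)
    rw [show QuotientGroup.mk' N x = 1 from (QuotientGroup.eq_one_iff x).mpr hx, map_one]
  · have e1 : charDegree (φ : G ⧸ N → ℂ) = charDegree (χ : G → ℂ) := by
      simp only [charDegree]
      rw [← QuotientGroup.mk_one (N := N), hφ]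
    have e2 : charDegree (ψ' : G → ℂ) = charDegree (ψ : G ⧸ N → ℂ) := by
      simp [charDegree, ψ']
    omega

/-- Let G be a finite solvable group with exactly n distinct irreducible character degrees. Then G has normal subgroups 1 = N₀ ≤ N₁ ≤ ⋯ ≤ Nₙ = G with every quotient N_{i+1}/N_i nilpotent (the nilpotent length of G is at most n). -/
theorem result {G : Type*} [Group G] [Finite G] (hsolv : Group.IsSolvable G) (n : ℕ) (hcd : Nat.card {d : ℕ // ∃ χ : Cfsg.IrrCharacter G, Cfsg.charDegree (χ : G → ℂ) = d} = n) : ∃ N : Fin (n + 1) → Subgroup G, N 0 = ⊥ ∧ N (Fin.last n) = ⊤ ∧ Monotone N ∧ (∀ i, (N i).Normal) ∧ ∀ i : Fin n, ∀ h : (N i.castSucc).subgroupOf (N i.succ) |>.Normal, Group.IsNilpotent (↥(N i.succ) ⧸ (N i.castSucc).subgroupOf (N i.succ)) := by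
  classical
  haveI := hsolv
  let step : {N : Subgroup G // N.Normal} → {N : Subgroup G // N.Normal} := fun N =>
    haveI := N.2
    ⟨(Cfsg.fittingSubgroup (G ⧸ N.1)).comap (QuotientGroup.mk' N.1), inferInstance⟩
  let S : ℕ → {N : Subgroup G // N.Normal} := fun j => step^[j] ⟨⊥, inferInstance⟩
  have hS : ∀ j, S (j + 1) = step (S j) := fun j => Function.iterate_succ_apply' step j _
  have hle : ∀ j, (S j).1 ≤ (S (j + 1)).1 := fun j => by
    rw [hS]
    haveI := (S j).2
    exact QuotientGroup.le_comap_mk' _ _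
  have hfin : ∀ N : Subgroup G, (degsOver N).Finite := fun N => by
    haveI : Finite (IrrCharacter G) := by
      refine Nat.finite_of_card_ne_zero ?_
      rw [Cfsg.Agent.Char.card_irrCharacter]
      exact Nat.card_pos.ne'
    refine (Set.finite_range fun χ : IrrCharacter G => charDegree (χ : G → ℂ)).subset ?_
    rintro d ⟨χ, -, rfl⟩
    exact ⟨χ, rfl⟩
  have hone : ∀ N : Subgroup G, (degsOver N).Nonempty := fun N =>
    ⟨_, ⟨⟨1, isIrrCharacter_one⟩, fun _ _ => rfl, rfl⟩⟩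
  have h0 : degsOver (S 0).1 = {d | ∃ χ : Cfsg.IrrCharacter G, Cfsg.charDegree (χ : G → ℂ) = d} := by
    ext d
    constructor
    · rintro ⟨χ, -, h⟩; exact ⟨χ, h⟩
    · rintro ⟨χ, h⟩
      exact ⟨χ, fun x hx => by rw [Subgroup.mem_bot.mp hx], h⟩
  have hdec : ∀ j, (S j).1 = ⊤ ∨ (degsOver (S j).1).ncard + j ≤ n := by
    intro j
    induction j with
    | zero =>
      right
      rw [h0, add_zero, ← hcd]
      exact le_of_eq (Nat.card_coe_set_eq _).symm
    | succ j ih =>
      rcases ih with h | h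
      · exact Or.inl (top_le_iff.mp (h ▸ hle j))
      haveI := (S j).2
      by_cases hF : Cfsg.fittingSubgroup (G ⧸ (S j).1) = ⊤
      · left
        rw [hS]
        show Subgroup.comap _ _ = ⊤
        rw [hF, Subgroup.comap_top]
      · right
        obtain ⟨hsub, hbig⟩ := degsOver_step (S j).1 hF
        rw [hS]
        have hlt : (degsOver (step (S j)).1).ncard < (degsOver (S j).1).ncard := by
          refine Set.ncard_lt_ncard ⟨hsub, fun hsup => ?_⟩ (hfin _)
          obtain ⟨m, hm, hmax⟩ := Set.exists_max_image _ id (hfin (S j).1) (hone _)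
          obtain ⟨e, he, hlt⟩ := hbig m (hsup hm)
          exact absurd (hmax e he) (not_le.mpr hlt)
        omega
  have htop : (S n).1 = ⊤ := by
    rcases hdec n with h | h
    · exact h
    · exfalso
      have := (hone (S n).1).ncard_pos (hfin _)
      omega
  refine ⟨fun i => (S i).1, rfl, by simpa using htop, ?_, fun i => (S i).2, ?_⟩
  · exact fun a b hab => monotone_nat_of_le_succ (f := fun j => (S j).1) hle hab
  · intro i h
    haveI := (S (i : ℕ)).2
    simp only [Fin.val_castSucc, Fin.val_succ] at h ⊢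
    let f : ↥(S ((i : ℕ) + 1)).1 →* ↥(Cfsg.fittingSubgroup (G ⧸ (S (i : ℕ)).1)) :=
      ((QuotientGroup.mk' (S (i : ℕ)).1).comp (S ((i : ℕ) + 1)).1.subtype).codRestrict _ fun x => by
        exact (show (x : G) ∈ (step (S (i : ℕ))).1 from (hS (i : ℕ)) ▸ x.2)
    have hker : f.ker = ((S (i : ℕ)).1).subgroupOf (S ((i : ℕ) + 1)).1 := by
      ext x
      rw [MonoidHom.mem_ker, Subgroup.mem_subgroupOf]
      exact Subtype.ext_iff.trans (QuotientGroup.eq_one_iff (x : G))
    haveI := Cfsg.Agent.Solv.fittingSubgroup_isNilpotent (G ⧸ (S (i : ℕ)).1)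
    exact Group.nilpotent_of_mulEquiv
      ((QuotientGroup.quotientMulEquivOfEq hker.symm).trans (QuotientGroup.quotientKerEquivRange f)).symm

end Cfsg.Agent.S4462
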