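import Cfsg.Statements.S4473
import Cfsg.Agent.Lib.Char.Clifford
import Cfsg.Agent.Lib.Char.Induction
import Cfsg.Agent.Lib.Char.Extension
import Cfsg.Agent.Lib.Char.Linear
import Mathlib.GroupTheory.IndexNormal

set_option autoImplicit false
open Cfsg

namespace Cfsg.Agent.S4473

open Cfsg.Agent.Char

theorem arith_sorted {N a b c : ℕ} (ha : 2 * a ≤ N) (hda : a ∣ N) (hdb : b ∣ N) (hdc : c ∣ N)
    (h3 : 3 ≤ c) (hab : b ≤ a) (hbc : c ≤ b) (hsum : a + b + c = N + 2) :
    N = 12 ∨ N = 24 ∨ N = 60 := by
  obtain ⟨i, hi⟩ := hda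
  obtain ⟨j, hj⟩ := hdb
  obtain ⟨k, hk⟩ := hdc
  have hi2 : 2 ≤ i := by
    by_contra h; interval_cases i <;> omega
  have hi3 : i = 2 := by
    by_contra h
    have : 3 * a ≤ N := by rw [hi, mul_comm a i]; exact Nat.mul_le_mul_right a (by omega)
    omega
  subst hi3
  have hj2 : 2 ≤ j := by
    by_contra h; interval_cases j <;> omega
  have hj4 : j < 4 := by
    by_contra h
    have : 4 * b ≤ N := by rw [hj, mul_comm b j]; exact Nat.mul_le_mul_right b (by omega)
    omega
  have hk2 : k < 6 := by
    by_contra h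
    have : 6 * c ≤ N := by rw [hk, mul_comm c k]; exact Nat.mul_le_mul_right c (by omega)
    interval_cases j <;> omega
  interval_cases j <;> interval_cases k <;> omega

theorem arith {N a b c : ℕ} (ha : 2 * a ≤ N) (hb : 2 * b ≤ N) (hc : 2 * c ≤ N) (hda : a ∣ N)
    (hdb : b ∣ N) (hdc : c ∣ N) (ha3 : 3 ≤ a) (hb3 : 3 ≤ b) (hc3 : 3 ≤ c)
    (hsum : a + b + c = N + 2) : N = 12 ∨ N = 24 ∨ N = 60 := by
  rcases le_total b a with h1 | h1 <;> rcases le_total c b with h2 | h2 <;>
    rcases le_total c a with h3 | h3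
  all_goals first
    | exact arith_sorted ha hda hdb hdc hc3 (by omega) (by omega) hsum
    | exact arith_sorted ha hda hdc hdb hb3 (by omega) (by omega) (by omega)
    | exact arith_sorted hb hdb hda hdc hc3 (by omega) (by omega) (by omega)
    | exact arith_sorted hb hdb hdc hda ha3 (by omega) (by omega) (by omega)
    | exact arith_sorted hc hdc hda hdb hb3 (by omega) (by omega) (by omega)
    | exact arith_sorted hc hdc hdb hda ha3 (by omega) (by omega) (by omega)

variable {G : Type*} [Group G] [Fintype G] (ρ : Representation ℂ G (Fin 2 → ℂ))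

theorem injective_apply (g : G) : Function.Injective (ρ g) := fun x y h => by
  have := congrArg (ρ g⁻¹) h
  simpa [← Module.End.mul_apply, ← map_mul] using this

theorem map_one_eq (L : Submodule ℂ (Fin 2 → ℂ)) : L.map (ρ 1) = L := by
  rw [map_one, Module.End.one_eq_id, Submodule.map_id]

theorem map_mul_eq (a b : G) (L : Submodule ℂ (Fin 2 → ℂ)) :
    L.map (ρ (a * b)) = (L.map (ρ b)).map (ρ a) := by
  rw [map_mul, Module.End.mul_eq_comp, Submodule.map_comp]

theorem finrank_map_eq (g : G) (L : Submodule ℂ (Fin 2 → ℂ)) :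
    Module.finrank ℂ (L.map (ρ g)) = Module.finrank ℂ L :=
  (Submodule.equivMapOfInjective _ (injective_apply ρ g) L).finrank_eq.symm

/-- A noncentral element fixes exactly two lines. -/
theorem ncard_lines (g : G) (hg : ∀ c : ℂ, ρ g ≠ c • LinearMap.id) :
    {L : Submodule ℂ (Fin 2 → ℂ) | Module.finrank ℂ L = 1 ∧ L.map (ρ g) = L}.ncard = 2 := by
  classical
  have hcard := card_eigenvalues ρ g
  rw [Module.finrank_fin_fun] at hcard
  obtain ⟨α, β, hab⟩ := Multiset.card_eq_two.mp hcard
  have hne : α ≠ β := fun e => hg α (exists_smul_id_of_eigenvalues_eq ρ g α fun r hr => by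
    rw [hab, e] at hr
    simp at hr
    rw [e, hr])
  have hev : ∀ r ∈ eigenvalues ρ g, Module.End.eigenspace (ρ g) r ≠ ⊥ := fun r hr =>
    (Module.End.hasEigenvalue_iff_isRoot_charpoly _ _).mpr (Polynomial.mem_roots'.mp hr).2
  have hdis : Module.End.eigenspace (ρ g) α ⊓ Module.End.eigenspace (ρ g) β = ⊥ := by
    rw [Submodule.eq_bot_iff]
    intro v hv
    have h1 := Module.End.mem_eigenspace_iff.mp hv.1
    have h2 := Module.End.mem_eigenspace_iff.mp hv.2
    have h3 : (α - β) • v = 0 := by rw [sub_smul, ← h1, ← h2, sub_self]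
    exact (smul_eq_zero.mp h3).resolve_left (sub_ne_zero.mpr hne)
  have hsum := Submodule.finrank_sup_add_finrank_inf_eq (Module.End.eigenspace (ρ g) α)
    (Module.End.eigenspace (ρ g) β)
  rw [hdis, finrank_bot, add_zero] at hsum
  have hle := Submodule.finrank_le (Module.End.eigenspace (ρ g) α ⊔ Module.End.eigenspace (ρ g) β)
  rw [Module.finrank_fin_fun] at hle
  have pa := Submodule.one_le_finrank_iff.mpr (hev α (by rw [hab]; simp))
  have pb := Submodule.one_le_finrank_iff.mpr (hev β (by rw [hab]; simp))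
  have hfa : Module.finrank ℂ (Module.End.eigenspace (ρ g) α) = 1 := by omega
  have hfb : Module.finrank ℂ (Module.End.eigenspace (ρ g) β) = 1 := by omega
  have htop : Module.End.eigenspace (ρ g) α ⊔ Module.End.eigenspace (ρ g) β = ⊤ :=
    Submodule.eq_top_of_finrank_eq (by rw [Module.finrank_fin_fun]; omega)
  have hfix : ∀ r ∈ eigenvalues ρ g, (Module.End.eigenspace (ρ g) r).map (ρ g) = Module.End.eigenspace (ρ g) r := by
    intro r hr
    refine Submodule.eq_of_le_of_finrank_eq ?_ (finrank_map_eq ρ g _)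
    rintro _ ⟨v, hv, rfl⟩
    rw [Module.End.mem_eigenspace_iff.mp hv]
    exact Submodule.smul_mem _ _ hv
  have hset : {L : Submodule ℂ (Fin 2 → ℂ) | Module.finrank ℂ L = 1 ∧ L.map (ρ g) = L} =
      {Module.End.eigenspace (ρ g) α, Module.End.eigenspace (ρ g) β} := by
    ext L
    constructor
    · rintro ⟨h1, h2⟩
      obtain ⟨v, hv, hspan⟩ := finrank_eq_one_iff'.mp h1
      have hmem : ρ g (v : Fin 2 → ℂ) ∈ L := h2.le ⟨v, v.2, rfl⟩
      obtain ⟨c, hc⟩ := hspan ⟨_, hmem⟩
      have hc' : ρ g (v : Fin 2 → ℂ) = c • (v : Fin 2 → ℂ) := (congrArg Subtype.val hc).symm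
      have hv0 : (v : Fin 2 → ℂ) ≠ 0 := fun e => hv (Subtype.ext e)
      have hLle : L ≤ Module.End.eigenspace (ρ g) c := by
        intro y hy
        obtain ⟨d, hd⟩ := hspan ⟨y, hy⟩
        have hy' : y = d • (v : Fin 2 → ℂ) := (congrArg Subtype.val hd).symm
        rw [Module.End.mem_eigenspace_iff, hy', map_smul, hc', smul_comm]
      by_cases hca : c = α
      · exact Or.inl (Submodule.eq_of_le_of_finrank_eq (hca ▸ hLle) (by rw [h1, hfa]))
      by_cases hcb : c = β
      · exact Or.inr (Submodule.eq_of_le_of_finrank_eq (hcb ▸ hLle) (by rw [h1, hfb]))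
      obtain ⟨y, hy, z, hz, hyz⟩ := Submodule.mem_sup.mp (htop ▸ Submodule.mem_top : (v : Fin 2 → ℂ) ∈ _)
      have hy1 := Module.End.mem_eigenspace_iff.mp hy
      have hz1 := Module.End.mem_eigenspace_iff.mp hz
      have hkey : (α - c) • y = (c - β) • z := by
        have h := hc'
        rw [← hyz, map_add, hy1, hz1, smul_add] at h
        rw [sub_smul, sub_smul, sub_eq_sub_iff_add_eq_add, h]
        abel
      have hy0 : y = 0 := by
        have : (α - c) • y ∈ Module.End.eigenspace (ρ g) α ⊓ Module.End.eigenspace (ρ g) β :=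
          ⟨Submodule.smul_mem _ _ hy, hkey ▸ Submodule.smul_mem _ _ hz⟩
        rw [hdis, Submodule.mem_bot] at this
        exact (smul_eq_zero.mp this).resolve_left (sub_ne_zero.mpr (Ne.symm hca))
      rw [hy0, smul_zero] at hkey
      have hz0 : z = 0 := (smul_eq_zero.mp hkey.symm).resolve_left (sub_ne_zero.mpr hcb)
      exact absurd (by rw [← hyz, hy0, hz0, add_zero]) hv0
    · rintro (rfl | rfl)
      · exact ⟨hfa, hfix α (by rw [hab]; simp)⟩
      · exact ⟨hfb, hfix β (by rw [hab]; simp)⟩
  rw [hset, Set.ncard_pair]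
  intro e
  exact hev α (by rw [hab]; simp) (by rw [← hdis, ← e, inf_idem])

/-- Let the finite group G have a faithful irreducible character χ of degree 2 that is primitive: χ is not induced from a character of any proper subgroup. Then the centre of G has index 12, 24 or 60. -/
theorem result {G : Type*} [Group G] [Fintype G] (χ : Cfsg.IrrCharacter G) (hfaith : ∀ g : G, (χ : G → ℂ) g = (χ : G → ℂ) 1 → g = 1) (h2 : Cfsg.charDegree (χ : G → ℂ) = 2) (hprim : ∀ H : Subgroup G, H ≠ ⊤ → ∀ θ : H → ℂ, Cfsg.IsCharacter H θ → (χ : G → ℂ) ≠ Cfsg.indFun H θ) : (Subgroup.center G).index = 12 ∨ (Subgroup.center G).index = 24 ∨ (Subgroup.center G).index = 60 := by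
  classical
  obtain ⟨n, ρ, hρirr, hρ⟩ := χ.2
  haveI := hρirr
  obtain rfl : n = 2 := by
    have h : ((χ : G → ℂ) 1).re = n := by rw [show (χ : G → ℂ) = ρ.character by simp [hρ], ρ.char_one]; simp
    rw [Cfsg.charDegree, h, Nat.floor_natCast] at h2
    exact h2
  have hχρ : (χ : G → ℂ) = ρ.character := by simp [hρ]
  have hinj : Function.Injective ρ := by
    intro a b hab
    refine (inv_mul_eq_one.mp (hfaith (a⁻¹ * b) ?_))
    rw [hχρ, ρ.char_one]
    have : ρ (a⁻¹ * b) = 1 := by rw [map_mul, ← hab, ← map_mul, inv_mul_cancel, map_one]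
    simp [Representation.character, this]
  -- no invariant line
  have hnoline : ∀ L : Submodule ℂ (Fin 2 → ℂ), Module.finrank ℂ L = 1 → ¬ ∀ g, L.map (ρ g) = L := by
    intro L hL hall
    let W : Subrepresentation ρ := ⟨L, fun g v hv => (hall g).le ⟨v, hv, rfl⟩⟩
    rcases hρirr.eq_bot_or_eq_top W with e | e
    · have e' : L = ⊥ := congrArg Subrepresentation.toSubmodule e
      rw [e', finrank_bot] at hL
      omega
    · have e' : L = ⊤ := congrArg Subrepresentation.toSubmodule e
      rw [e', finrank_top, Module.finrank_fin_fun] at hL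
      omega
  have hcs : ∀ g : G, g ∈ Subgroup.center G ↔ ∃ c : ℂ, ρ g = c • LinearMap.id := by
    refine fun g => ⟨fun hg => ?_, fun ⟨c, hc⟩ => ?_⟩
    · exact isScalar_of_commute ρ (ρ g) fun x => by
        rw [← map_mul, ← map_mul, Subgroup.mem_center_iff.mp hg x]
    · exact Subgroup.mem_center_iff.mpr fun x => (comm_of_rep_eq_smul ρ hc hinj x).symm
  have hlines : ∀ g : G, g ∉ Subgroup.center G →
      {L : Submodule ℂ (Fin 2 → ℂ) | Module.finrank ℂ L = 1 ∧ L.map (ρ g) = L}.ncard = 2 := fun g hg =>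
    ncard_lines ρ g fun c hc => hg ((hcs g).mpr ⟨c, hc⟩)
  let X := {L : Submodule ℂ (Fin 2 → ℂ) // Module.finrank ℂ L = 1 ∧ ∃ g, g ∉ Subgroup.center G ∧ L.map (ρ g) = L}
  haveI : Finite X := by
    refine Set.finite_coe_iff.mpr (Set.Finite.subset (Set.finite_iUnion fun g : {g : G // g ∉ Subgroup.center G} =>
      Set.finite_of_ncard_ne_zero (s := {L : Submodule ℂ (Fin 2 → ℂ) | Module.finrank ℂ L = 1 ∧ L.map (ρ g) = L})
        (by rw [hlines g g.2]; norm_num)) ?_)
    rintro L ⟨h1, g, hg, h2⟩
    exact Set.mem_iUnion.mpr ⟨⟨g, hg⟩, h1, h2⟩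
  haveI := Fintype.ofFinite X
  letI act : MulAction G X :=
    { smul := fun g L => ⟨(L.1).map (ρ g), by
        obtain ⟨h1, w, hw, hwL⟩ := L.2
        refine ⟨(finrank_map_eq ρ g _).trans h1, g * w * g⁻¹, fun h => hw ?_, ?_⟩
        · have h' := Subgroup.Normal.conj_mem (H := Subgroup.center G) inferInstance _ h g⁻¹
          simpa [mul_assoc] using h'
        · rw [map_mul_eq, map_mul_eq, ← map_mul_eq ρ g⁻¹ g, inv_mul_cancel, map_one_eq, hwL]⟩
      one_smul := fun L => Subtype.ext (map_one_eq ρ _)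
      mul_smul := fun a b L => Subtype.ext (map_mul_eq ρ a b _) }
  have hsmul : ∀ (g : G) (L : X), ((g • L : X) : Submodule ℂ (Fin 2 → ℂ)) = L.1.map (ρ g) := fun g L => rfl
  obtain ⟨g₀, hg₀⟩ : ∃ g : G, g ∉ Subgroup.center G := by
    by_contra hcon
    push Not at hcon
    refine hnoline (Submodule.span ℂ {Pi.single 0 1}) ?_ fun g => ?_
    · exact finrank_span_singleton (by intro e; simpa using congrFun e 0)
    · obtain ⟨c, hc⟩ := (hcs g).mp (hcon g)
      refine Submodule.eq_of_le_of_finrank_eq ?_ (finrank_map_eq ρ g _)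
      rintro _ ⟨v, hv, rfl⟩
      rw [hc]
      exact Submodule.smul_mem _ _ hv
  have hXne : Nonempty X := by
    obtain ⟨L, hL1, hL2⟩ := Set.nonempty_of_ncard_ne_zero (by rw [hlines g₀ hg₀]; norm_num :
      {L : Submodule ℂ (Fin 2 → ℂ) | Module.finrank ℂ L = 1 ∧ L.map (ρ g₀) = L}.ncard ≠ 0)
    exact ⟨⟨L, hL1, g₀, hg₀, hL2⟩⟩
  have hfix : ∀ g : G, Fintype.card (MulAction.fixedBy X g) =
      if g ∈ Subgroup.center G then Fintype.card X else 2 := by
    intro g
    split_ifs with hg
    · refine Fintype.card_congr (Equiv.subtypeUnivEquiv fun L => ?_)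
      show g • L = L
      obtain ⟨c, hc⟩ := (hcs g).mp hg
      refine Subtype.ext ?_
      rw [hsmul]
      refine Submodule.eq_of_le_of_finrank_eq ?_ (finrank_map_eq ρ g _)
      rintro _ ⟨v, hv, rfl⟩
      rw [hc]
      exact Submodule.smul_mem _ _ hv
    · refine Eq.trans ?_ (hlines g hg)
      rw [← Nat.card_coe_set_eq, ← Nat.card_eq_fintype_card]
      exact Nat.card_congr
        { toFun := fun L => ⟨L.1.1, L.1.2.1, congrArg Subtype.val L.2⟩
          invFun := fun L => ⟨⟨L.1, L.2.1, g, hg, L.2.2⟩, Subtype.ext L.2.2⟩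
          left_inv := fun L => rfl
          right_inv := fun L => rfl }
  let O := Quotient (MulAction.orbitRel G X)
  haveI : Fintype O := Fintype.ofFinite O
  have hburn := MulAction.sum_card_fixedBy_eq_card_orbits_mul_card_group G X
  rw [Finset.sum_congr rfl fun g _ => hfix g, Finset.sum_ite, Finset.sum_const, Finset.sum_const,
    smul_eq_mul, smul_eq_mul] at hburn
  have hzc : (Finset.univ.filter fun g : G => g ∈ Subgroup.center G).card = Nat.card (Subgroup.center G) := by
    rw [Nat.card_eq_fintype_card, Fintype.card_subtype]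
  have hnc : (Finset.univ.filter fun g : G => ¬ g ∈ Subgroup.center G).card + Nat.card (Subgroup.center G) = Nat.card G := by
    rw [← hzc, add_comm, Finset.card_filter_add_card_filter_not, Finset.card_univ, Nat.card_eq_fintype_card]
  rw [hzc] at hburn
  obtain ⟨N, hN⟩ : ∃ N : ℕ, N = (Subgroup.center G).index := ⟨_, rfl⟩
  rw [← Subgroup.index_mul_card (Subgroup.center G), ← hN] at hnc
  rw [← Nat.card_eq_fintype_card (α := G), ← Subgroup.index_mul_card (Subgroup.center G), ← hN] at hburn
  have heq : Fintype.card X + 2 * N = Fintype.card O * N + 2 := by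
    refine Nat.eq_of_mul_eq_mul_right (Nat.card_pos (α := Subgroup.center G)) ?_
    rw [add_mul, add_mul]
    nlinarith [hburn, hnc]
  have hsum : Fintype.card X = ∑ ω : O, (MulAction.stabilizer G ω.out).index := by
    rw [Fintype.card_congr (MulAction.selfEquivSigmaOrbitsQuotientStabilizer G X), Fintype.card_sigma]
    exact Finset.sum_congr rfl fun ω _ => by rw [Subgroup.index_eq_card, Nat.card_eq_fintype_card]
  have horb : ∀ x : X, 3 ≤ (MulAction.stabilizer G x).index ∧
      (MulAction.stabilizer G x).index ∣ N ∧ 2 * (MulAction.stabilizer G x).index ≤ N := by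
    intro x
    obtain ⟨hx1, g, hg, hgx⟩ := x.2
    have hgS : g ∈ MulAction.stabilizer G x := Subtype.ext hgx
    have hZS : Subgroup.center G ≤ MulAction.stabilizer G x := by
      intro z hz
      obtain ⟨c, hc⟩ := (hcs z).mp hz
      refine Subtype.ext (Submodule.eq_of_le_of_finrank_eq ?_ (finrank_map_eq ρ z _))
      rintro _ ⟨v, hv, rfl⟩
      rw [hc]
      exact Submodule.smul_mem _ _ hv
    have hrel := Subgroup.relIndex_mul_index hZS
    rw [← hN] at hrel
    have hrel1 : 2 ≤ (Subgroup.center G).relIndex (MulAction.stabilizer G x) := by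
      have h0 : (Subgroup.center G).relIndex (MulAction.stabilizer G x) ≠ 0 := Subgroup.index_ne_zero_of_finite
      have h1 : (Subgroup.center G).relIndex (MulAction.stabilizer G x) ≠ 1 := fun e =>
        hg (Subgroup.relIndex_eq_one.mp e hgS)
      omega
    refine ⟨?_, ⟨_, by rw [← hrel, mul_comm]⟩, by rw [← hrel]; exact Nat.mul_le_mul_right _ hrel1⟩
    by_contra hlt
    have h0 : (MulAction.stabilizer G x).index ≠ 0 := Subgroup.index_ne_zero_of_finite
    rcases (show (MulAction.stabilizer G x).index = 1 ∨ (MulAction.stabilizer G x).index = 2 by omega) with h | h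
    · refine hnoline x.1 hx1 fun g => ?_
      exact congrArg Subtype.val (show g ∈ MulAction.stabilizer G x by rw [Subgroup.index_eq_one.mp h]; exact Subgroup.mem_top g)
    -- a pair of lines gives an inducing subgroup
    obtain ⟨S, hSdef⟩ : ∃ S : Subgroup G, S = MulAction.stabilizer G x := ⟨_, rfl⟩
    rw [← hSdef] at h
    haveI hSn : S.Normal := Subgroup.normal_of_index_eq_two h
    haveI := Fintype.ofFinite S
    have hSx : ∀ s ∈ S, s • x = x := fun s hs => by rw [hSdef] at hs; exact hs
    obtain ⟨t, ht⟩ : ∃ t, t ∉ S := by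
      by_contra hcon
      push Not at hcon
      rw [(Subgroup.eq_top_iff' S).mpr hcon, Subgroup.index_top] at h
      omega
    let y : X := t • x
    have hyx : y ≠ x := fun e => ht (by rw [hSdef]; exact e)
    have hSy : ∀ s ∈ S, s • y = y := fun s hs => by
      show s • t • x = t • x
      rw [← mul_smul, show s * t = t * (t⁻¹ * s * t) by group, mul_smul, hSx _ (by
        have := hSn.conj_mem s hs t⁻¹; simpa using this)]
    have hc : IsCompl x.1 y.1 := by
      have hne : x.1 ≠ y.1 := fun e => hyx (Subtype.ext e.symm)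
      have hinf : x.1 ⊓ y.1 = ⊥ := by
        by_contra hb
        have h1 := Submodule.one_le_finrank_iff.mpr hb
        have h2 : Module.finrank ℂ ↥(x.1 ⊓ y.1) ≤ 1 := (Submodule.finrank_mono inf_le_left).trans hx1.le
        have e1 := Submodule.eq_of_le_of_finrank_eq (inf_le_left : x.1 ⊓ y.1 ≤ x.1) (by omega)
        have e2 := Submodule.eq_of_le_of_finrank_eq (inf_le_right : x.1 ⊓ y.1 ≤ y.1) (by rw [y.2.1]; omega)
        exact hne (e1.symm.trans e2)
      refine ⟨disjoint_iff.mpr hinf, codisjoint_iff.mpr (Submodule.eq_top_of_finrank_eq ?_)⟩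
      have := Submodule.finrank_sup_add_finrank_inf_eq x.1 y.1
      rw [hinf, finrank_bot, hx1, y.2.1, add_zero] at this
      rw [this, Module.finrank_fin_fun]
    let σ : Representation ℂ S (Fin 2 → ℂ) := ρ.comp S.subtype
    let W : Subrepresentation σ := ⟨x.1, fun s v hv => (congrArg Subtype.val (hSx s s.2)).le ⟨v, hv, rfl⟩⟩
    let W' : Subrepresentation σ := ⟨y.1, fun s v hv => (congrArg Subtype.val (hSy s s.2)).le ⟨v, hv, rfl⟩⟩
    have hdec := character_add_of_isCompl σ W W' hc
    let θ : S → ℂ := W.toRepresentation.character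
    have hθ : Cfsg.IsCharacter S θ := isCharacter_character _
    have hθ1 : θ 1 = 1 := by
      show W.toRepresentation.character 1 = 1
      rw [W.toRepresentation.char_one]
      exact_mod_cast hx1
    have hθirr : Cfsg.IsIrrCharacter S θ := by
      obtain ⟨l, hl⟩ := IsCharacter.exists_monoidHom hθ hθ1
      rw [hl]
      exact isIrrCharacter_monoidHom l
    refine hprim S (fun e => by rw [e, Subgroup.index_top] at h; omega) θ hθ ?_
    have hI : Cfsg.IsCharacter G (Cfsg.indFun S θ) := isCharacter_indFun S hθ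
    have hrec : Cfsg.classInner (Cfsg.indFun S θ) (χ : G → ℂ) ≠ 0 := by
      rw [classInner_indFun S θ (IsCharacter.isClassFunction (IsIrrCharacter.isCharacter χ.2))]
      have e : (fun s : S => (χ : G → ℂ) s) = θ + W'.toRepresentation.character := by
        rw [← hdec, hχρ]
        rfl
      rw [e, classInner_add_right, IsIrrCharacter.classInner_self hθirr]
      obtain ⟨k, hk⟩ := classInner_natCast_of_isCharacter hθ (isCharacter_character W'.toRepresentation)
      rw [hk]
      norm_cast
      omega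
    obtain ⟨r, hr, hsum'⟩ := exists_add_of_classInner_ne_zero hI χ.2 hrec
    have hr1 : r 1 = 0 := by
      have h' := congrFun hsum' 1
      rw [indFun_one_apply, h, hθ1, Pi.add_apply, hχρ, ρ.char_one, Module.finrank_fin_fun, mul_one] at h'
      exact left_eq_add.mp h'
    obtain ⟨k, π, rfl⟩ := hr
    rw [π.char_one, Module.finrank_fin_fun, Nat.cast_eq_zero] at hr1
    subst hr1
    have h0 : π.character = 0 := funext fun g => by
      show LinearMap.trace ℂ _ (π g) = 0
      rw [Subsingleton.elim (π g) 0, map_zero]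
    rw [hsum', h0, add_zero]
  have hX3 : 3 * Fintype.card O ≤ Fintype.card X := by
    rw [hsum, mul_comm]
    calc Fintype.card O * 3 = ∑ _ω : O, 3 := by simp
      _ ≤ _ := Finset.sum_le_sum fun ω _ => (horb ω.out).1
  have hXle : 2 * Fintype.card X ≤ Fintype.card O * N := by
    rw [hsum, Finset.mul_sum]
    calc ∑ ω : O, 2 * (MulAction.stabilizer G ω.out).index ≤ ∑ _ω : O, N :=
          Finset.sum_le_sum fun ω _ => (horb ω.out).2.2
      _ = _ := by simp
  have hOpos : 0 < Fintype.card O := Fintype.card_pos_iff.mpr ⟨Quotient.mk _ hXne.some⟩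
  have hNpos : 0 < N := hN ▸ Nat.pos_of_ne_zero Subgroup.index_ne_zero_of_finite
  have hO3 : Fintype.card O = 3 := by
    have hle : Fintype.card O ≤ 3 := by
      by_contra h
      have : 4 * N ≤ Fintype.card O * N := Nat.mul_le_mul_right N (by omega)
      omega
    interval_cases hO : Fintype.card O <;> omega
  rw [← hN]
  let eO := (Fintype.equivFinOfCardEq hO3).symm
  rw [← eO.sum_comp, Fin.sum_univ_three] at hsum
  rw [hO3] at heq
  exact arith (horb _).2.2 (horb _).2.2 (horb _).2.2 (horb _).2.1 (horb _).2.1 (horb _).2.1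
    (horb _).1 (horb _).1 (horb _).1 (by omega : (MulAction.stabilizer G (eO 0).out).index +
      (MulAction.stabilizer G (eO 1).out).index + (MulAction.stabilizer G (eO 2).out).index = N + 2)

end Cfsg.Agent.S4473
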