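import Cfsg.Statements.S4474
import Cfsg.Agent.Lib.Block.FSForm

set_option autoImplicit false
open Cfsg

namespace Cfsg.Agent.S4474

open Cfsg.Agent.Block Cfsg.Agent.Char
open scoped Matrix

/-- Let χ be an irreducible character of the finite group G. Then the Frobenius–Schur indicator of χ (the average over s ∈ G of χ(s²)) equals 1 if and only if χ is afforded by a real representation: there is a representation of G on a real coordinate space whose trace function, viewed in ℂ, is χ. -/
theorem result {G : Type*} [Group G] [Fintype G] (χ : Cfsg.IrrCharacter G) : ((Nat.card G : ℂ)⁻¹ * ∑ s : G, (χ : G → ℂ) (s * s)) = 1 ↔ ∃ (n : ℕ) (ρ : Representation ℝ G (Fin n → ℝ)), ∀ g : G, ((LinearMap.trace ℝ (Fin n → ℝ) (ρ g) : ℝ) : ℂ) = (χ : G → ℂ) g := by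
  classical
  show indicatorFS (χ : G → ℂ) = 1 ↔ _
  constructor
  swap
  · rintro ⟨n, ρR, hR⟩
    let A : G → Matrix (Fin n) (Fin n) ℝ := fun g => LinearMap.toMatrix' (ρR g)
    let ρC : Representation ℂ G (Fin n → ℂ) :=
      { toFun := fun g => Matrix.toLin' ((A g).map Complex.ofRealHom)
        map_one' := by
          simp only [A, map_one, Module.End.one_eq_id, LinearMap.toMatrix'_id]
          rw [Matrix.map_one _ (map_zero _) (map_one _), Matrix.toLin'_one]
        map_mul' := fun a b => by
          simp only [A, map_mul, Module.End.mul_eq_comp, LinearMap.toMatrix'_comp]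
          rw [Matrix.map_mul, Matrix.toLin'_mul] }
    have hM : ∀ g, repMatrix ρC g = (A g).map Complex.ofRealHom := fun g => LinearMap.toMatrix'_toLin' _
    have hch : ρC.character = (χ : G → ℂ) := funext fun g => by
      rw [← trace_repMatrix, hM, ← hR, LinearMap.trace_eq_matrix_trace ℝ (Pi.basisFun ℝ (Fin n))]
      rw [LinearMap.toMatrix_eq_toMatrix']
      simp [Matrix.trace, A]
    have hreal : ∀ s, (ρC.character s).im = 0 := fun s => by rw [hch, ← hR]; exact Complex.ofReal_im _
    obtain ⟨-, hsym⟩ := invariant_forms ρC (by rw [hch]; exact χ.2) hreal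
    let B : Matrix (Fin n) (Fin n) ℝ := ∑ g : G, (A g)ᵀ * A g
    have hinv : ∀ h, (A h)ᵀ * B * A h = B := fun h => by
      simp only [B, Finset.mul_sum, Finset.sum_mul]
      refine Fintype.sum_equiv (Equiv.mulRight h) _ _ fun g => ?_
      simp only [Equiv.coe_mulRight, A, map_mul, Module.End.mul_eq_comp, LinearMap.toMatrix'_comp, Matrix.transpose_mul, Matrix.mul_assoc]
    have h2 := hsym (B.map Complex.ofRealHom) fun g => by
      rw [hM, ← Matrix.transpose_map, ← Matrix.map_mul, ← Matrix.map_mul, hinv]
    have hn : 0 < n := Nat.pos_of_ne_zero fun h0 => IsIrrCharacter.apply_one_ne_zero χ.2 (by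
      subst h0
      rw [← hR, show ρR 1 = 0 from Subsingleton.elim _ _, map_zero, Complex.ofReal_zero])
    let i : Fin n := ⟨0, hn⟩
    have hpos : 0 < B i i := by
      simp only [B, Matrix.sum_apply]
      refine Finset.sum_pos' (fun g _ => ?_) ⟨1, Finset.mem_univ _, ?_⟩
      · simp only [Matrix.mul_apply, Matrix.transpose_apply]
        exact Finset.sum_nonneg fun k _ => mul_self_nonneg _
      · simp [A, Module.End.one_eq_id]
    have h3 := congrFun (congrFun h2 i) i
    rw [hch, Matrix.transpose_apply, Matrix.smul_apply, Matrix.map_apply, smul_eq_mul] at h3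
    exact mul_right_cancel₀ (b := Complex.ofRealHom (B i i)) (by simpa using hpos.ne') (by rw [one_mul]; exact h3.symm)
  intro hν
  obtain ⟨n, ρ, hirr, hρ⟩ := χ.2
  haveI := hirr
  have hreal : ∀ s, (ρ.character s).im = 0 := by
    rcases indicatorFS_trichotomy (isIrrCharacter_character ρ) with h | h
    · exact h.1
    · rw [hρ, hν] at h
      exact absurd h.2 one_ne_zero
  obtain ⟨⟨X, hX0, hX⟩, hsym⟩ := invariant_forms ρ (isIrrCharacter_character ρ) hreal
  have hXT : Xᵀ = X := by rw [hsym X hX, hρ, hν, one_smul]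
  exact exists_real_rep ρ hρ.symm hX0 hX hXT

end Cfsg.Agent.S4474
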