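import Cfsg.Statements.S4476
import Cfsg.Agent.Lib.Solv.InvolutionCount
import Mathlib.GroupTheory.ClassEquation
import Mathlib.Algebra.Order.Chebyshev
import Mathlib.Tactic.Linarith

set_option autoImplicit false
open scoped Pointwise
open Cfsg

namespace Cfsg.Agent.S4476

/-- Let G be a finite group of even order g with exactly t involutions, and put α = (g − 1)/t (a rational number). Then (a) some non-identity element x of G has at most α² conjugates; and (b) some non-principal real-valued irreducible character of G has degree at most α. -/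
theorem result {G : Type*} [Group G] [Fintype G] (heven : Even (Nat.card G)) (t : ℕ) (ht : Nat.card {x : G // orderOf x = 2} = t) : (∃ x : G, x ≠ 1 ∧ ((Subgroup.centralizer ({x} : Set G)).index : ℚ) ≤ (((Nat.card G : ℚ) - 1) / t) ^ 2) ∧ ∃ χ : Cfsg.IrrCharacter G, (χ : G → ℂ) ≠ (fun _ => 1) ∧ (∀ g : G, ((χ : G → ℂ) g).im = 0) ∧ (Cfsg.charDegree (χ : G → ℂ) : ℚ) ≤ ((Nat.card G : ℚ) - 1) / t := by
  classical
  haveI := Fintype.ofFinite (Cfsg.IrrCharacter G)
  haveI := Fintype.ofFinite (ConjClasses G)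
  have hd : ∀ χ : Cfsg.IrrCharacter G, ∃ n : ℕ, 0 < n ∧ (χ : G → ℂ) 1 = n := fun χ => Cfsg.Agent.Char.IsIrrCharacter.degree_pos χ.2
  choose d hd0 hd using hd
  have hdeg : ∀ χ : Cfsg.IrrCharacter G, Cfsg.charDegree (χ : G → ℂ) = d χ := fun χ => by
    rw [Cfsg.charDegree, hd χ, Complex.natCast_re, Nat.floor_natCast]
  let one : Cfsg.IrrCharacter G := ⟨1, Cfsg.Agent.Char.isIrrCharacter_one⟩
  set R := (Finset.univ.filter (fun χ : Cfsg.IrrCharacter G => ∀ g, ((χ : G → ℂ) g).im = 0)).erase one with hR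
  have hd1 : d one = 1 := by
    have := hd one
    simp only [one, Pi.one_apply] at this
    exact_mod_cast this.symm
  have hmem1 : one ∈ Finset.univ.filter (fun χ : Cfsg.IrrCharacter G => ∀ g, ((χ : G → ℂ) g).im = 0) := by simp [one]
  have ht1 : 1 ≤ t := by
    haveI : Fact (Nat.Prime 2) := ⟨Nat.prime_two⟩
    obtain ⟨x, hx⟩ := exists_prime_orderOf_dvd_card' (G := G) 2 (even_iff_two_dvd.1 heven)
    rw [← ht]
    haveI : Nonempty {x : G // orderOf x = 2} := ⟨⟨x, hx⟩⟩
    exact Nat.card_pos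
  have hsq : Nat.card {x : G // x ^ 2 = 1} = t + 1 := by
    rw [← ht, Nat.card_eq_fintype_card, Nat.card_eq_fintype_card, Fintype.card_subtype, Fintype.card_subtype,
      ← Finset.card_insert_of_notMem (a := (1 : G)) (by simp)]
    congr 1
    ext x
    simp only [Finset.mem_filter, Finset.mem_univ, true_and, Finset.mem_insert]
    constructor
    · intro h
      by_cases h1 : x = 1
      · exact Or.inl h1
      · exact Or.inr (orderOf_eq_prime h h1)
    · rintro (rfl | h)
      · simp
      · rw [← h, pow_orderOf_eq_one]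
  have hcount : t ≤ ∑ χ ∈ R, d χ := by
    have h := Cfsg.Agent.Solv.FS.sqCount_le (G := G)
    rw [hsq, ← Finset.add_sum_erase _ _ hmem1, ← hR] at h
    simp only [hd, Complex.natCast_re, hd1] at h
    have h' : t + 1 ≤ 1 + ∑ χ ∈ R, d χ := by exact_mod_cast h
    omega
  have hsum : ∑ χ ∈ R, d χ ^ 2 + 1 ≤ Nat.card G := by
    have h := Cfsg.Agent.Char.sum_sq_degree (G := G)
    simp only [hd] at h
    have h' : ∑ χ : Cfsg.IrrCharacter G, d χ ^ 2 = Nat.card G := by exact_mod_cast h
    rw [← h', ← Finset.add_sum_erase _ _ (Finset.mem_univ one), hd1, one_pow, add_comm]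
    exact Nat.add_le_add_left (Finset.sum_le_sum_of_subset (Finset.erase_subset_erase _ (Finset.subset_univ _))) 1
  have hG : (1 : ℚ) ≤ (Nat.card G : ℚ) := by exact_mod_cast Nat.card_pos
  have htq : (0 : ℚ) < (t : ℚ) := by exact_mod_cast ht1
  have hRne : R.Nonempty := Finset.nonempty_iff_ne_empty.2 fun h => by rw [h, Finset.sum_empty] at hcount; omega
  constructor
  · by_contra hall
    push_neg at hall
    have hk : R.card + 1 ≤ Fintype.card (ConjClasses G) := by
      rw [← Nat.card_eq_fintype_card, ← Cfsg.Agent.Char.card_irrCharacter, Nat.card_eq_fintype_card, hR, Finset.card_erase_add_one hmem1]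
      exact Finset.card_le_univ _
    have hcls : ∀ c ∈ (Finset.univ.erase (ConjClasses.mk (1 : G))), (((Nat.card G : ℚ) - 1) / t) ^ 2 < (c.carrier.toFinset.card : ℚ) := by
      intro c hc
      obtain ⟨x, rfl⟩ := ConjClasses.exists_rep c
      have hx : x ≠ 1 := fun h => (Finset.mem_erase.1 hc).1 (by rw [h])
      refine (hall x hx).trans_le (le_of_eq ?_)
      rw [← Cfsg.Agent.Char.card_isConj_eq_index x, Nat.card_eq_fintype_card, Fintype.card_subtype]
      norm_cast
      congr 1
      ext y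
      simp only [Set.mem_toFinset, ConjClasses.mem_carrier_iff_mk_eq, ConjClasses.mk_eq_mk_iff_isConj, Finset.mem_filter, Finset.mem_univ, true_and]
      exact ⟨fun h => h.symm, fun h => h.symm⟩
    have htot := sum_conjClasses_card_eq_card G
    rw [show Fintype.card G = Nat.card G from Nat.card_eq_fintype_card.symm] at htot
    rw [← Finset.add_sum_erase _ _ (Finset.mem_univ (ConjClasses.mk (1 : G)))] at htot
    have hne : (Finset.univ.erase (ConjClasses.mk (1 : G))).Nonempty := by
      rw [← Finset.card_pos, Finset.card_erase_of_mem (Finset.mem_univ _), Finset.card_univ]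
      have := hRne.card_pos
      omega
    have h1 : (1 : ℕ) ≤ (ConjClasses.mk (1 : G)).carrier.toFinset.card := Finset.card_pos.2 ⟨1, by simp [ConjClasses.mem_carrier_iff_mk_eq]⟩
    have h2 := Finset.sum_lt_sum_of_nonempty hne hcls
    rw [Finset.sum_const, nsmul_eq_mul, Finset.card_erase_of_mem (Finset.mem_univ _), Finset.card_univ, ← Nat.cast_sum] at h2
    have h3 : ((∑ c ∈ Finset.univ.erase (ConjClasses.mk (1 : G)), c.carrier.toFinset.card : ℕ) : ℚ) + 1 ≤ (Nat.card G : ℚ) := by
      exact_mod_cast (show (∑ c ∈ Finset.univ.erase (ConjClasses.mk (1 : G)), c.carrier.toFinset.card) + 1 ≤ Nat.card G by rw [← htot]; omega)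
    have hcs : t ^ 2 ≤ R.card * ∑ χ ∈ R, d χ ^ 2 := le_trans (Nat.pow_le_pow_left hcount 2) (sq_sum_le_card_mul_sum_sq)
    have hcs' : ((t : ℚ)) ^ 2 ≤ ((Fintype.card (ConjClasses G) - 1 : ℕ) : ℚ) * ((Nat.card G : ℚ) - 1) := by
      have hnat : t ^ 2 ≤ (Fintype.card (ConjClasses G) - 1) * (Nat.card G - 1) :=
        hcs.trans (Nat.mul_le_mul (by omega) (by omega))
      have : ((Nat.card G - 1 : ℕ) : ℚ) = (Nat.card G : ℚ) - 1 := by rw [Nat.cast_sub Nat.card_pos]; norm_num
      rw [← this]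
      exact_mod_cast hnat
    rw [div_pow, mul_div_assoc'] at h2
    rw [div_lt_iff₀ (by positivity)] at h2
    nlinarith [mul_le_mul_of_nonneg_left hcs' (sub_nonneg.2 hG)]
  · obtain ⟨χ, hχ, hmin⟩ := R.exists_min_image d hRne
    rw [hR, Finset.mem_erase, Finset.mem_filter] at hχ
    refine ⟨χ, fun h => hχ.1 (Subtype.ext h), hχ.2.2, ?_⟩
    rw [hdeg, le_div_iff₀ htq]
    have h1 : d χ * ∑ ψ ∈ R, d ψ ≤ ∑ ψ ∈ R, d ψ ^ 2 := by
      rw [Finset.mul_sum]
      exact Finset.sum_le_sum fun ψ hψ => by rw [sq]; exact Nat.mul_le_mul_right _ (hmin ψ hψ)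
    have h2 : d χ * t + 1 ≤ Nat.card G := le_trans (Nat.add_le_add_right ((Nat.mul_le_mul_left _ hcount).trans h1) 1) hsum
    have : ((d χ * t + 1 : ℕ) : ℚ) ≤ (Nat.card G : ℚ) := by exact_mod_cast h2
    push_cast at this
    linarith

end Cfsg.Agent.S4476
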