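import Cfsg.Statements.S4477
import Cfsg.Agent.Lib.Solv.InvolutionCount
import Cfsg.Agent.Lib.Solv.CyclicIndexP
import Cfsg.Agent.Lib.Char.Linear
import Cfsg.Agent.Lib.Char.Integral

set_option autoImplicit false
set_option linter.style.haveILetI false
open Cfsg

namespace Cfsg.Agent.S4477

open Cfsg.Agent.Char Cfsg.Agent.Solv
open scoped ComplexConjugate

universe u

variable {G : Type u} [Group G] [Finite G]

theorem norm_units (l : G →* ℂˣ) (c : G) : (l c : ℂ) * conj (l c : ℂ) = 1 := by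
  rw [← IsCharacter.map_inv (IsIrrCharacter.isCharacter (isIrrCharacter_monoidHom l)) c,
    ← Units.val_mul, ← map_mul, mul_inv_cancel, map_one, Units.val_one]

theorem conj_units (l : G →* ℂˣ) (c : G) : conj (l c : ℂ) = ((l⁻¹) c : ℂ) := by
  rw [MonoidHom.inv_apply, Units.val_inv_eq_inv_val]
  exact eq_inv_of_mul_eq_one_right (norm_units l c)

theorem isIrr_mul (l : G →* ℂˣ) {z : G → ℂ} (hz : IsIrrCharacter G z) :
    IsIrrCharacter G (fun c => (l c : ℂ) * z c) := by
  haveI := Fintype.ofFinite G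
  rw [isIrrCharacter_iff] at hz ⊢
  refine ⟨isCharacter_mul (IsIrrCharacter.isCharacter (isIrrCharacter_monoidHom l)) hz.1, ?_⟩
  rw [← hz.2]
  simp only [classInner]
  congr 1
  refine Finset.sum_congr rfl fun c _ => ?_
  rw [map_mul, show (l c : ℂ) * z c * (conj (l c : ℂ) * conj (z c)) =
    (l c : ℂ) * conj (l c : ℂ) * (z c * conj (z c)) by ring, norm_units, one_mul]

/-- Twist by a linear character. -/
noncomputable def tw (l : G →* ℂˣ) (χ : IrrCharacter G) : IrrCharacter G :=
  ⟨_, isIrr_mul l χ.2⟩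

@[simp] theorem tw_apply (l : G →* ℂˣ) (χ : IrrCharacter G) (g : G) :
    (tw l χ : G → ℂ) g = (l g : ℂ) * (χ : G → ℂ) g := rfl

theorem tw_mul (l m : G →* ℂˣ) (χ : IrrCharacter G) : tw (l * m) χ = tw l (tw m χ) :=
  Subtype.ext (funext fun g => by simp [mul_assoc])

theorem tw_one (χ : IrrCharacter G) : tw (1 : G →* ℂˣ) χ = χ :=
  Subtype.ext (funext fun g => by simp)

theorem pgroup_dual (hG : IsPGroup 2 G) : IsPGroup 2 (G →* ℂˣ) := by
  obtain ⟨m, hm⟩ := IsPGroup.iff_card.mp hG
  have h : Nat.card (G →* ℂˣ) ∣ 2 ^ m := by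
    rw [card_monoidHom_units, ← hm]
    exact Subgroup.index_dvd_card _
  obtain ⟨k, -, hk⟩ := (Nat.dvd_prime_pow Nat.prime_two).mp h
  exact IsPGroup.of_card hk

/-- An odd stable family has an odd number of fixed members. -/
theorem odd_fixed (hG : IsPGroup 2 G) (S : Subgroup (G →* ℂˣ)) (P : IrrCharacter G → Prop)
    (hP : ∀ l ∈ S, ∀ χ, P χ → P (tw l χ)) (hodd : Odd (Nat.card {χ // P χ})) :
    Odd (Nat.card {χ // P χ ∧ ∀ l ∈ S, tw l χ = χ}) := by
  haveI := Fact.mk Nat.prime_two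
  letI : MulAction S {χ // P χ} :=
    { smul := fun l x => ⟨tw l.1 x.1, hP l.1 l.2 x.1 x.2⟩
      one_smul := fun x => Subtype.ext (tw_one x.1)
      mul_smul := fun l m x => Subtype.ext (tw_mul l.1 m.1 x.1) }
  have h := ((pgroup_dual hG).to_subgroup S).card_modEq_card_fixedPoints {χ // P χ}
  have e : Nat.card (MulAction.fixedPoints S {χ // P χ}) =
      Nat.card {χ // P χ ∧ ∀ l ∈ S, tw l χ = χ} :=
    Nat.card_congr
      { toFun := fun x => ⟨x.1.1, x.1.2, fun l hl => congrArg Subtype.val (x.2 ⟨l, hl⟩)⟩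
        invFun := fun x => ⟨⟨x.1, x.2.1⟩, fun l => Subtype.ext (x.2.2 l.1 l.2)⟩
        left_inv := fun _ => rfl
        right_inv := fun _ => rfl }
  rw [e] at h
  rw [Nat.odd_iff] at hodd ⊢
  unfold Nat.ModEq at h
  omega

/-- A stabilizer of a character has order at most the square of the degree. -/
theorem card_stab_le (S : Subgroup (G →* ℂˣ)) (χ : IrrCharacter G) (d : ℕ)
    (hd : (χ : G → ℂ) 1 = d) (h : ∀ l ∈ S, tw l χ = χ) : Nat.card S ≤ d * d := by
  classical
  haveI := Fintype.ofFinite G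
  haveI := Fintype.ofFinite (IrrCharacter G)
  haveI := Fintype.ofFinite S
  let f : G → ℂ := fun g => (χ : G → ℂ) g * conj ((χ : G → ℂ) g)
  have hf : IsCharacter G f := isCharacter_mul (IsIrrCharacter.isCharacter χ.2)
    (IsIrrCharacter.isCharacter (IsIrrCharacter.conj χ.2))
  have hc : ∀ μ : IrrCharacter G, ∃ c e : ℕ, classInner f (μ : G → ℂ) = c ∧ (μ : G → ℂ) 1 = e := by
    intro μ
    obtain ⟨c, hc⟩ := classInner_natCast_of_isCharacter hf (IsIrrCharacter.isCharacter μ.2)
    obtain ⟨e, he⟩ := IsCharacter.exists_degree (IsIrrCharacter.isCharacter μ.2)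
    exact ⟨c, e, hc, he⟩
  choose c e hc he using hc
  have hexp := congrFun (IsClassFunction.eq_sum (IsCharacter.isClassFunction hf)) 1
  have hsum : d * d = ∑ μ, c μ * e μ := by
    have : ((d * d : ℕ) : ℂ) = ((∑ μ, c μ * e μ : ℕ) : ℂ) := by
      push_cast
      rw [show f 1 = (d : ℂ) * d by simp [f, hd]] at hexp
      simp only [Finset.sum_apply, Pi.smul_apply, smul_eq_mul, hc, he] at hexp
      exact hexp
    exact_mod_cast this
  let j : S → IrrCharacter G := fun l => ⟨_, isIrrCharacter_monoidHom l.1⟩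
  have hj : Function.Injective j := fun a b hab =>
    Subtype.ext (monoidHom_coe_injective (congrArg Subtype.val hab))
  have h1 : ∀ l : S, c (j l) * e (j l) = 1 := fun l => by
    have e1 : classInner f (j l : G → ℂ) = 1 := by
      rw [← IsIrrCharacter.classInner_self χ.2]
      nth_rw 2 [← h l.1 l.2]
      unfold classInner
      congr 1
      refine Finset.sum_congr rfl fun g _ => ?_
      simp only [f, j, tw_apply, map_mul]
      ring
    have e2 : (j l : G → ℂ) 1 = 1 := by simp [j]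
    rw [hc] at e1
    rw [he] at e2
    rw [show c (j l) = 1 by exact_mod_cast e1, show e (j l) = 1 by exact_mod_cast e2]
  calc Nat.card S = ∑ _l : S, 1 := by rw [Finset.sum_const, smul_eq_mul, mul_one, Finset.card_univ,
        Nat.card_eq_fintype_card]
    _ = ∑ μ ∈ Finset.univ.image j, c μ * e μ := by
        rw [Finset.sum_image hj.injOn]
        exact (Finset.sum_congr rfl fun l _ => h1 l).symm
    _ ≤ ∑ μ, c μ * e μ := Finset.sum_le_univ_sum_of_nonneg fun _ => Nat.zero_le _
    _ = d * d := hsum.symm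

/-- Real linear characters. -/
def sq2 (G : Type u) [Group G] : Subgroup (G →* ℂˣ) := (powMonoidHom 2).ker

theorem mem_sq2 {l : G →* ℂˣ} : l ∈ sq2 G ↔ l ^ 2 = 1 := Iff.rfl

theorem sq_eq_one_iff_real (l : G →* ℂˣ) : l ^ 2 = 1 ↔ ∀ g, (l g : ℂ).im = 0 := by
  have key : l ^ 2 = 1 ↔ l⁻¹ = l := by
    rw [pow_two, mul_eq_one_iff_eq_inv, eq_comm]
  rw [key]
  constructor
  · intro h g
    rw [← Complex.conj_eq_iff_im, conj_units, h]
  · intro h
    refine MonoidHom.ext fun g => Units.ext ?_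
    rw [← conj_units, Complex.conj_eq_iff_im.mpr (h g)]

open Classical in
theorem count_mod_four (hG : IsPGroup 2 G) :
    (Nat.card {x : G // x ^ 2 = 1} : ZMod 4) = (Nat.card (sq2 G) : ZMod 4) +
      2 * (Nat.card {χ : IrrCharacter G //
        (∀ g, ((χ : G → ℂ) g).im = 0) ∧ (χ : G → ℂ) 1 = 2} : ZMod 4) := by
  haveI := Fintype.ofFinite G
  haveI := Fintype.ofFinite (IrrCharacter G)
  choose z hz hz0 hz1 using FS.indicator_int (G := G)
  have hd : ∀ χ : IrrCharacter G, ∃ n : ℕ, (χ : G → ℂ) 1 = n := fun χ =>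
    IsCharacter.exists_degree (IsIrrCharacter.isCharacter χ.2)
  choose d hd using hd
  have key : ((Nat.card {x : G // x ^ 2 = 1} : ℤ)) = ∑ χ : IrrCharacter G, z χ * (d χ : ℤ) := by
    have := FS.sqCount_eq (G := G)
    simp only [hz, hd] at this
    exact_mod_cast this
  obtain ⟨m, hm⟩ := IsPGroup.iff_card.mp hG
  have hterm : ∀ χ : IrrCharacter G, ((z χ * (d χ : ℤ) : ℤ) : ZMod 4) =
      (if (∀ g, ((χ : G → ℂ) g).im = 0) ∧ (χ : G → ℂ) 1 = 1 then 1 else 0) +
      2 * (if (∀ g, ((χ : G → ℂ) g).im = 0) ∧ (χ : G → ℂ) 1 = 2 then 1 else 0) := by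
    intro χ
    by_cases hr : ∀ g, ((χ : G → ℂ) g).im = 0
    · obtain ⟨k, -, hk⟩ := (Nat.dvd_prime_pow Nat.prime_two).mp
        (hm ▸ degree_dvd_card χ.2 (d χ) (hd χ))
      rw [hd χ, hk]
      simp only [hr, true_and]
      match k, hk with
      | 0, hk =>
        have hz' : z χ = 1 := by
          obtain ⟨l, hl⟩ := IsCharacter.exists_monoidHom (IsIrrCharacter.isCharacter χ.2)
            (by rw [hd, hk]; simp)
          have hl2 := (sq_eq_one_iff_real l).mpr fun g => by
            have := hr g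
            rwa [hl] at this
          have := hz χ
          simp only [hl, map_pow, ← Units.val_pow_eq_pow_val] at this
          simp only [← MonoidHom.pow_apply, hl2, MonoidHom.one_apply, Units.val_one,
            Finset.sum_const, Finset.card_univ, ← Nat.card_eq_fintype_card, nsmul_eq_mul, mul_one,
            inv_mul_cancel₀ (show (Nat.card G : ℂ) ≠ 0 from Nat.cast_ne_zero.mpr Nat.card_pos.ne')]
            at this
          exact_mod_cast this.symm
        simp [hz']
      | 1, hk =>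
        rcases hz1 χ hr with h | h <;> simp [h] <;> decide
      | k + 2, hk =>
        have h4 : ((2 ^ (k + 2) : ℕ) : ZMod 4) = 0 := by
          rw [ZMod.natCast_eq_zero_iff]  
          exact Dvd.intro_left (2 ^ k) (by rw [pow_add]; rfl)
        have hne : ∀ n : ℕ, n < 4 → ((2 ^ (k + 2) : ℕ) : ℂ) ≠ n := fun n hn e => by
          have : 2 ^ (k + 2) = n := by exact_mod_cast e
          have : 4 ≤ 2 ^ (k + 2) := by
            calc 4 = 2 ^ 2 := rfl
              _ ≤ _ := Nat.pow_le_pow_right (by norm_num) (by omega)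
          omega
        rw [Int.cast_mul, Int.cast_natCast, h4, mul_zero, if_neg (fun h => hne 1 (by norm_num) (by exact_mod_cast h.2)),
          if_neg (fun h => hne 2 (by norm_num) (by exact_mod_cast h.2))]
        simp
    · simp [hr, hz0 χ (by push Not at hr; exact hr)]
  have h4 := congrArg (fun x : ℤ => (x : ZMod 4)) key
  simp only [Int.cast_natCast, Int.cast_sum, hterm] at h4
  rw [h4, Finset.sum_add_distrib, ← Finset.mul_sum, Finset.sum_boole, Finset.sum_boole,
    ← Fintype.card_subtype, ← Fintype.card_subtype, ← Nat.card_eq_fintype_card,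
    ← Nat.card_eq_fintype_card]
  congr 2
  refine (Nat.card_congr (Equiv.ofBijective
    (fun l : sq2 G => (⟨⟨_, isIrrCharacter_monoidHom l.1⟩,
      (sq_eq_one_iff_real l.1).mp (mem_sq2.mp l.2), by simp⟩ :
      {χ : IrrCharacter G // (∀ g, ((χ : G → ℂ) g).im = 0) ∧ (χ : G → ℂ) 1 = 1}))
    ⟨fun a b h => Subtype.ext (monoidHom_coe_injective
      (congrArg (fun x : {χ : IrrCharacter G // _} => (x.1 : G → ℂ)) h)), fun χ => ?_⟩)).symm
  obtain ⟨l, hl⟩ := IsCharacter.exists_monoidHom (IsIrrCharacter.isCharacter χ.1.2) χ.2.2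
  exact ⟨⟨l, mem_sq2.mpr ((sq_eq_one_iff_real l).mpr fun g => by
    have := χ.2.1 g
    rwa [hl] at this)⟩, Subtype.ext (Subtype.ext hl.symm)⟩

open Classical in
theorem isCyclic_of_sq2 (hG : IsPGroup 2 G) (h : Nat.card (sq2 G) ≤ 2) : IsCyclic G := by
  haveI := Fact.mk Nat.prime_two
  let hom : (M : Subgroup G) → M.index = 2 → (G →* ℂˣ) := fun M hM =>
    MonoidHom.mk' (fun g => if g ∈ M then 1 else -1) fun a b => by
      have := Subgroup.mul_mem_iff_of_index_two hM (a := a) (b := b)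
      by_cases ha : a ∈ M <;> by_cases hb : b ∈ M <;> simp [ha, hb, this]
  have hker : ∀ M hM g, g ∈ M ↔ hom M hM g = 1 := fun M hM g => by
    show _ ↔ (if g ∈ M then (1 : ℂˣ) else -1) = 1
    by_cases hg : g ∈ M <;> simp [hg, Units.ext_iff]; norm_num
  have hsq : ∀ M hM, hom M hM ∈ sq2 G ∧ hom M hM ≠ 1 := fun M hM => by
    refine ⟨mem_sq2.mpr (MonoidHom.ext fun g => ?_), fun e => ?_⟩
    · show (if g ∈ M then (1 : ℂˣ) else -1) ^ 2 = 1
      split <;> simp
    · have : M = ⊤ := eq_top_iff.mpr fun g _ => (hker M hM g).mpr (by rw [e]; rfl)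
      rw [this, Subgroup.index_top] at hM
      omega
  by_cases htop : ∃ M : Subgroup G, IsCoatom M
  · obtain ⟨M, hM⟩ := htop
    have hMi := CycP.index_eq_of_coatom hG M hM
    obtain ⟨g, hg⟩ : ∃ g, g ∉ M := by
      by_contra! hh
      exact hM.1 (eq_top_iff.mpr fun x _ => hh x)
    refine ⟨⟨g, fun x => ?_⟩⟩
    suffices Subgroup.zpowers g = ⊤ from show x ∈ Subgroup.zpowers g by rw [this]; trivial
    by_contra hne
    obtain ⟨N, hN, hgN⟩ := exists_coatom_ge hne
    have hNi := CycP.index_eq_of_coatom hG N hN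
    have heq : hom M hMi = hom N hNi := by
      by_contra hd
      haveI := Fintype.ofFinite (sq2 G)
      have hsub : ({⟨1, (sq2 G).one_mem⟩, ⟨_, (hsq M hMi).1⟩, ⟨_, (hsq N hNi).1⟩} : Finset (sq2 G)).card = 3 :=
        Finset.card_eq_three.mpr ⟨_, _, _, by simp [Subtype.ext_iff, Ne.symm (hsq M hMi).2],
          by simp [Subtype.ext_iff, Ne.symm (hsq N hNi).2], by simp [Subtype.ext_iff, hd], rfl⟩
      have := Finset.card_le_univ ({⟨1, (sq2 G).one_mem⟩, ⟨_, (hsq M hMi).1⟩, ⟨_, (hsq N hNi).1⟩} : Finset (sq2 G))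
      rw [hsub, ← Nat.card_eq_fintype_card] at this
      omega
    exact hg ((hker M hMi g).mpr (by rw [heq]; exact (hker N hNi g).mp (hgN (Subgroup.mem_zpowers g))))
  · push Not at htop
    refine ⟨⟨1, fun x => ?_⟩⟩
    suffices Subgroup.zpowers (1 : G) = ⊤ from show x ∈ Subgroup.zpowers (1 : G) by rw [this]; trivial
    by_contra hne
    obtain ⟨N, hN, -⟩ := exists_coatom_ge hne
    exact htop N hN

omit [Finite G] in
theorem card_sq_eq [Finite G] :
    Nat.card {x : G // x ^ 2 = 1} = Nat.card {x : G // orderOf x = 2} + 1 := by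
  classical
  rw [← Finite.card_option]
  refine Nat.card_congr
    { toFun := fun x => if h : x.1 = 1 then none else
        some ⟨x.1, orderOf_eq_prime x.2 h⟩
      invFun := fun o => o.elim ⟨1, one_pow 2⟩ fun x => ⟨x.1, by have := pow_orderOf_eq_one x.1; rwa [x.2] at this⟩
      left_inv := fun x => ?_
      right_inv := fun o => ?_ }
  · by_cases h : x.1 = 1
    · simp only [dif_pos h, Option.elim]; exact Subtype.ext h.symm
    · simp [dif_neg h]
  · match o with
    | none => simp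
    | some x =>
      have : (x.1 : G) ≠ 1 := fun e => by have := x.2; rw [e, orderOf_one] at this; omega
      simp [this]

theorem main (hG : IsPGroup 2 G) (ht : Nat.card {x : G // orderOf x = 2} % 4 = 1) :
    IsCyclic G ∨ (commutator G).index = 4 := by
  haveI := Fact.mk Nat.prime_two
  by_cases hL : Nat.card (sq2 G) ≤ 2
  · exact Or.inl (isCyclic_of_sq2 hG hL)
  right
  obtain ⟨k, hk⟩ := IsPGroup.iff_card.mp ((pgroup_dual hG).to_subgroup (sq2 G))
  have hk2 : 2 ≤ k := by
    by_contra hlt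
    have : 2 ^ k ≤ 2 ^ 1 := Nat.pow_le_pow_right (by norm_num) (by omega)
    omega
  have h4L : 4 ∣ Nat.card (sq2 G) := by rw [hk]; exact pow_dvd_pow 2 hk2
  let P : IrrCharacter G → Prop := fun χ => (∀ g, ((χ : G → ℂ) g).im = 0) ∧ (χ : G → ℂ) 1 = 2
  have hodd : Odd (Nat.card {χ // P χ}) := by
    have h := count_mod_four hG
    rw [card_sq_eq, show (Nat.card (sq2 G) : ZMod 4) = 0 from (ZMod.natCast_eq_zero_iff _ 4).mpr h4L,
      zero_add, ← Nat.cast_ofNat (R := ZMod 4), ← Nat.cast_mul, ZMod.natCast_eq_natCast_iff'] at h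
    rw [Nat.odd_iff]
    show Nat.card {χ : IrrCharacter G // (∀ g, ((χ : G → ℂ) g).im = 0) ∧ (χ : G → ℂ) 1 = 2} % 2 = 1
    omega
  have hP1 : ∀ l ∈ sq2 G, ∀ χ, P χ → P (tw l χ) := by
    intro l hl χ hχ
    refine ⟨fun g => ?_, by simp [hχ.2]⟩
    rw [tw_apply, Complex.mul_im, hχ.1 g, (sq_eq_one_iff_real l).mp (mem_sq2.mp hl) g]
    ring
  have hodd2 := odd_fixed hG _ P hP1 hodd
  let A4 : Subgroup (G →* ℂˣ) := (powMonoidHom 4).ker
  let Q : IrrCharacter G → Prop := fun χ => P χ ∧ ∀ l ∈ sq2 G, tw l χ = χ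
  have hQ : ∀ l ∈ A4, ∀ χ, Q χ → Q (tw l χ) := by
    intro l hl χ hχ
    have hl2 : l ^ 2 ∈ sq2 G := mem_sq2.mpr (by rw [← pow_mul]; exact hl)
    have hinv : tw l⁻¹ χ = tw l χ := by
      nth_rw 2 [show l = l⁻¹ * l ^ 2 from MonoidHom.ext fun g => by simp [pow_two]]
      rw [tw_mul, hχ.2 _ hl2]
    refine ⟨⟨fun g => ?_, by simp [hχ.1.2]⟩, fun s hs => ?_⟩
    · rw [← Complex.conj_eq_iff_im, tw_apply, map_mul, conj_units,
        Complex.conj_eq_iff_im.mpr (hχ.1.1 g), ← tw_apply, hinv, tw_apply]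
    · rw [← tw_mul, mul_comm s l, tw_mul, hχ.2 s hs]
  have hodd3 := odd_fixed hG A4 Q hQ hodd2
  obtain ⟨⟨χ, hχ, hfix⟩⟩ := (Nat.card_pos_iff.mp hodd3.pos).1
  have hle := card_stab_le A4 χ 2 (by rw [hχ.1.2]; norm_num) hfix
  have hsub : sq2 G ≤ A4 := fun l hl => by
    show l ^ 4 = 1
    rw [show 4 = 2 * 2 from rfl, pow_mul, mem_sq2.mp hl]; exact MonoidHom.ext fun g => by simp
  have heq : sq2 G = A4 := Subgroup.eq_of_le_of_card_ge hsub (by
    have := Nat.le_of_dvd Nat.card_pos h4L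
    omega)
  have hall : ∀ (n : ℕ) (l : G →* ℂˣ), l ^ 2 ^ n = 1 → l ^ 2 = 1 := by
    intro n
    induction n with
    | zero => intro l h; rw [pow_zero, pow_one] at h; rw [h]; exact MonoidHom.ext fun g => by simp
    | succ n ih =>
      intro l h
      rcases n with _ | n
      · simpa using h
      · refine ih l ?_
        have : l ^ 2 ^ n ∈ A4 := by
          show (l ^ 2 ^ n) ^ 4 = 1
          rw [← pow_mul, show 2 ^ n * 4 = 2 ^ (n + 1 + 1) by ring, h]
        rw [← heq] at this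
        rw [pow_succ, pow_mul]
        exact mem_sq2.mp this
  have htop : sq2 G = ⊤ := eq_top_iff.mpr fun l _ => by
    obtain ⟨n, hn⟩ := pgroup_dual hG l
    exact mem_sq2.mpr (hall n l hn)
  rw [← card_monoidHom_units, ← Subgroup.card_top, ← htop]
  have h1 : Nat.card (sq2 G) ≤ 4 := by rw [heq]; simpa using hle
  have := Nat.le_of_dvd Nat.card_pos h4L
  omega

/-- Let G be a finite 2-group whose number of involutions is congruent to 1 modulo 4. Then G is cyclic or its commutator subgroup has index 4. -/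
theorem result {G : Type*} [Group G] [Finite G] (hG : IsPGroup 2 G) (ht : Nat.card {x : G // orderOf x = 2} % 4 = 1) : IsCyclic G ∨ (commutator G).index = 4 :=
  main hG ht

end Cfsg.Agent.S4477
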