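import Cfsg.Statements.S4478
import Cfsg.Agent.Lib.Block.Regular
import Cfsg.Agent.Lib.Block.RegInner
import Cfsg.Agent.Lib.Char.Schur

set_option autoImplicit false
set_option linter.style.haveILetI false
open Cfsg

namespace Cfsg.Agent.S4478

open Cfsg.Agent Cfsg.Agent.Char

universe w

theorem vanish {G : Type w} [Group G] [Finite G] (χ : IrrCharacter G) (p : ℕ) (hp : p.Prime)
    (h : p ^ (Nat.card G).factorization p ∣ charDegree (χ : G → ℂ)) (g : G) (hg : p ∣ orderOf g) :
    (χ : G → ℂ) g = 0 := by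
  obtain ⟨M, hM⟩ := Block.exists_isPModular hp
  refine Block.apply_eq_zero_of_singleton hM (Block.blockOf_eq_singleton hM χ fun hdvd => ?_) hg
  obtain ⟨k, hk⟩ := Block.charDegree_dvd_card χ.2
  rw [hk, Nat.mul_div_cancel_left _ (Block.charDegree_pos χ.2)] at hdvd
  have h1 := Nat.mul_dvd_mul h hdvd
  rw [← hk, ← pow_succ] at h1
  exact Nat.pow_succ_factorization_not_dvd Nat.card_pos.ne' hp h1

/-- Let G be a finite group of even order and χ an irreducible character of G whose degree x is divisible by the full power of 2 dividing the order of G and, for every odd prime p such that G has an element of order 2p, by the full power of p dividing the order of G. Then all involutions of G are conjugate, the centralizer of every involution has order exactly x with x coprime to its index, and the Frobenius–Schur indicator of χ equals 1. -/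
theorem result {G : Type*} [Group G] [Fintype G] (heven : Even (Nat.card G)) (χ : Cfsg.IrrCharacter G) (h2 : 2 ^ (Nat.card G).factorization 2 ∣ Cfsg.charDegree (χ : G → ℂ)) (hp : ∀ p : ℕ, p.Prime → p ≠ 2 → (∃ g : G, orderOf g = 2 * p) → p ^ (Nat.card G).factorization p ∣ Cfsg.charDegree (χ : G → ℂ)) : (∀ s t : G, orderOf s = 2 → orderOf t = 2 → IsConj s t) ∧ (∀ s : G, orderOf s = 2 → Nat.card (Subgroup.centralizer ({s} : Set G)) = Cfsg.charDegree (χ : G → ℂ) ∧ (Nat.card (Subgroup.centralizer ({s} : Set G))).Coprime (Subgroup.centralizer ({s} : Set G)).index) ∧ (Nat.card G : ℂ)⁻¹ * ∑ g : G, (χ : G → ℂ) (g * g) = 1 := by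
  classical
  have hG0 : Nat.card G ≠ 0 := Nat.card_pos.ne'
  set d := charDegree (χ : G → ℂ) with hd
  have hd1 : (χ : G → ℂ) 1 = (d : ℂ) := (Block.charDegree_cast (IsIrrCharacter.isCharacter χ.2)).symm
  have hddvd : d ∣ Nat.card G := Block.charDegree_dvd_card χ.2
  have hd0 : d ≠ 0 := (Block.charDegree_pos χ.2).ne'
  have hfull : ∀ p : ℕ, p.Prime → (p = 2 ∨ ∃ g : G, orderOf g = 2 * p) →
      p ^ (Nat.card G).factorization p ∣ d := by
    intro p hp' h
    by_cases h2' : p = 2
    · rw [h2']; exact h2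
    · exact hp p hp' h2' (h.resolve_left h2')
  have hvan : ∀ p : ℕ, p.Prime → (p = 2 ∨ ∃ g : G, orderOf g = 2 * p) → ∀ g : G, p ∣ orderOf g →
      (χ : G → ℂ) g = 0 := fun p hp' h g hg => vanish χ p hp' (hfull p hp' h) g hg
  have hne : (χ : G → ℂ) ≠ 1 := fun e => by
    have h1 : d = 1 := by
      have := congrFun e 1
      rw [hd1, Pi.one_apply] at this
      exact_mod_cast this
    have hpos : 1 ≤ (Nat.card G).factorization 2 :=
      Nat.Prime.factorization_pos_of_dvd Nat.prime_two hG0 heven.two_dvd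
    rw [h1, Nat.dvd_one, Nat.pow_eq_one] at h2
    omega
  -- values at squares
  have hsq : ∀ g : G, (χ : G → ℂ) (g * g) =
      (if orderOf g = 2 then (d : ℂ) else 0) +
        (if Odd (orderOf g) then (χ : G → ℂ) (g * g) else 0) := by
    intro g
    by_cases h : Odd (orderOf g)
    · have : orderOf g ≠ 2 := fun e => by rw [e] at h; exact absurd h (by decide)
      simp [h, this]
    rw [if_neg h, add_zero]
    split_ifs with e
    · rw [← pow_two, ← e, pow_orderOf_eq_one, hd1]
    · obtain ⟨m, hm⟩ := (Nat.not_odd_iff_even.mp h).two_dvd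
      have hm1 : m ≠ 1 := fun e1 => e (by rw [hm, e1, mul_one])
      obtain ⟨q, hq, hqm⟩ := Nat.exists_prime_and_dvd hm1
      refine hvan q hq (Or.inr ⟨g ^ (m / q), ?_⟩) _ ?_
      · obtain ⟨r, rfl⟩ := hqm
        have hr : r ≠ 0 := fun e => (orderOf_pos g).ne' (by rw [hm, e]; simp)
        rw [Nat.mul_div_cancel_left _ hq.pos, orderOf_pow, hm,
          Nat.gcd_eq_right ⟨2 * q, by ring⟩, ← mul_assoc, Nat.mul_div_cancel _ (Nat.pos_of_ne_zero hr)]
      · rw [← pow_two, orderOf_pow, hm, Nat.gcd_eq_right (dvd_mul_right 2 m),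
          Nat.mul_div_cancel_left _ (by norm_num : 0 < 2)]
        exact hqm
  have hodd : ∑ g : G, (if Odd (orderOf g) then (χ : G → ℂ) (g * g) else 0) = 0 := by
    have hz : ∑ g : G, (χ : G → ℂ) g = 0 := by
      have h := IsIrrCharacter.classInner_eq_zero χ.2 isIrrCharacter_one hne
      simp only [classInner, Pi.one_apply, map_one, mul_one] at h
      rcases mul_eq_zero.mp h with e | e
      · simp at e
      · exact e
    rw [← Finset.sum_filter]
    refine Eq.trans ?_ hz
    rw [← Finset.sum_filter_of_ne (s := Finset.univ) (p := fun g : G => Odd (orderOf g))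
      (f := fun g => (χ : G → ℂ) g) fun g _ hg => by
        by_contra h
        exact hg (hvan 2 Nat.prime_two (Or.inl rfl) g (Nat.not_odd_iff_even.mp h).two_dvd)]
    refine Finset.sum_bij (fun g _ => g * g) (fun g hg => ?_) (fun g hg g' hg' e => ?_)
      (fun g hg => ?_) (fun g _ => rfl)
    · simp only [Finset.mem_filter, Finset.mem_univ, true_and] at hg ⊢
      rw [← pow_two]
      exact hg.of_dvd_nat (orderOf_pow_dvd 2)
    · simp only [Finset.mem_filter, Finset.mem_univ, true_and] at hg hg'
      have key : ∀ y : G, Odd (orderOf y) → y = (y * y) ^ ((Nat.card G / 2 ^ (Nat.card G).factorization 2 + 1) / 2) := by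
        intro y hy
        set n' := Nat.card G / 2 ^ (Nat.card G).factorization 2 with hn'
        have hno : Odd n' := by
          rw [← Nat.not_even_iff_odd, even_iff_two_dvd]
          exact Nat.not_dvd_ordCompl Nat.prime_two hG0
        have hyn : orderOf y ∣ n' :=
          (Nat.Coprime.dvd_of_dvd_mul_left ((Nat.Coprime.pow_right _ hy.coprime_two_right))
            (by rw [Nat.ordProj_mul_ordCompl_eq_self]; exact orderOf_dvd_natCard y))
        rw [← pow_two, ← pow_mul, Nat.mul_div_cancel' (Nat.even_add_one.mpr (Nat.not_even_iff_odd.mpr hno)).two_dvd,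
          pow_succ, orderOf_dvd_iff_pow_eq_one.mp hyn, one_mul]
      calc g = _ := key g hg
        _ = _ := by rw [e]
        _ = g' := (key g' hg').symm
    · simp only [Finset.mem_filter, Finset.mem_univ, true_and] at hg
      refine ⟨g ^ ((orderOf g + 1) / 2), ?_, ?_⟩
      · simp only [Finset.mem_filter, Finset.mem_univ, true_and]
        exact hg.of_dvd_nat (orderOf_pow_dvd _)
      · rw [← pow_add, ← two_mul, Nat.mul_div_cancel' (Nat.even_add_one.mpr (Nat.not_even_iff_odd.mpr hg)).two_dvd,
          pow_succ, pow_orderOf_eq_one, one_mul]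
  set I := Nat.card {g : G // orderOf g = 2} with hI
  have hν : ∑ g : G, (χ : G → ℂ) (g * g) = ((I * d : ℕ) : ℂ) := by
    rw [Finset.sum_congr rfl fun g _ => hsq g, Finset.sum_add_distrib, hodd, add_zero,
      ← Finset.sum_filter, Finset.sum_const, nsmul_eq_mul, hI, Nat.card_eq_fintype_card,
      Fintype.card_subtype, Nat.cast_mul]
  haveI : Fact (Nat.Prime 2) := ⟨Nat.prime_two⟩
  obtain ⟨s₀, hs₀⟩ := exists_prime_orderOf_dvd_card' 2 heven.two_dvd
  have hIpos : 0 < I := by
    haveI : Nonempty {g : G // orderOf g = 2} := ⟨⟨s₀, hs₀⟩⟩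
    exact Nat.card_pos
  have hν1 : (Nat.card G : ℂ)⁻¹ * ∑ g : G, (χ : G → ℂ) (g * g) = 1 := by
    have hc : (Nat.card G : ℂ) ≠ 0 := Nat.cast_ne_zero.mpr hG0
    have hdef : indicatorFS (χ : G → ℂ) = (Nat.card G : ℂ)⁻¹ * ∑ g : G, (χ : G → ℂ) (g * g) := rfl
    rcases indicatorFS_trichotomy χ.2 with ⟨-, h | ⟨h, -⟩⟩ | ⟨-, h⟩ <;> rw [hdef] at h
    · exact h
    · exfalso
      rw [hν, inv_mul_eq_iff_eq_mul₀ hc, mul_neg_one] at h
      have : ((I * d + Nat.card G : ℕ) : ℂ) = 0 := by push_cast at h ⊢; linear_combination h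
      exact hG0 (by have := Nat.cast_eq_zero.mp this; omega)
    · exfalso
      rw [hν, mul_eq_zero] at h
      rcases h with h | h
      · exact inv_ne_zero hc h
      · rw [Nat.cast_eq_zero, mul_eq_zero] at h
        omega
  have hId : I * d = Nat.card G := by
    rw [hν, inv_mul_eq_iff_eq_mul₀ (Nat.cast_ne_zero.mpr hG0), mul_one] at hν1
    exact_mod_cast hν1
  -- centralizers of involutions
  have hcent : ∀ s : G, orderOf s = 2 → Nat.card (Subgroup.centralizer ({s} : Set G)) ∣ d ∧
      (Nat.card (Subgroup.centralizer ({s} : Set G))).Coprime (d.gcd (Nat.card G / d)) := by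
    intro s hs
    set C := Subgroup.centralizer ({s} : Set G) with hC
    have hpi : ∀ q : ℕ, q.Prime → q ∣ Nat.card C → q ^ (Nat.card G).factorization q ∣ d := by
      intro q hq hqC
      haveI : Fact q.Prime := ⟨hq⟩
      by_cases hq2 : q = 2
      · exact hfull q hq (Or.inl hq2)
      obtain ⟨⟨u, hu⟩, hord⟩ := exists_prime_orderOf_dvd_card' q hqC
      have hcom : Commute s u := by
        have := Subgroup.mem_centralizer_singleton_iff.mp hu
        first | exact this | exact this.symm
      have hord' : orderOf u = q := by rw [← hord]; exact (Subgroup.orderOf_coe (⟨u, hu⟩ : C))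
      refine hfull q hq (Or.inr ⟨s * u, ?_⟩)
      rw [hcom.orderOf_mul_eq_mul_orderOf_of_coprime, hs, hord']
      rw [hs, hord']
      exact (Nat.coprime_primes Nat.prime_two hq).mpr (Ne.symm hq2)
    have hdvd : Nat.card C ∣ d := by
      refine (Nat.factorization_le_iff_dvd Nat.card_pos.ne' hd0).mp fun q => ?_
      by_cases hq : q.Prime ∧ q ∣ Nat.card C
      · refine le_trans ((Nat.factorization_le_iff_dvd Nat.card_pos.ne' hG0).mpr
          (Subgroup.card_subgroup_dvd_card C) q) ?_
        exact (hq.1.pow_dvd_iff_le_factorization hd0).mp (hpi q hq.1 hq.2)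
      · rcases not_and_or.mp hq with h | h
        · rw [Nat.factorization_eq_zero_of_not_prime _ h]; exact Nat.zero_le _
        · rw [Nat.factorization_eq_zero_of_not_dvd h]; exact Nat.zero_le _
    refine ⟨hdvd, Nat.coprime_of_dvd fun q hq hqC hqg => ?_⟩
    obtain ⟨t, ht⟩ := hddvd
    rw [ht, Nat.mul_div_cancel_left _ (Nat.pos_of_ne_zero hd0)] at hqg
    have h1 := hpi q hq hqC
    have h2' := (hq.pow_dvd_iff_le_factorization hd0).mp h1
    have ht0 : t ≠ 0 := fun e => hG0 (by rw [ht, e, mul_zero])
    rw [ht, Nat.factorization_mul hd0 ht0, Finsupp.add_apply] at h2'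
    have := hq.factorization_pos_of_dvd ht0 (hqg.trans (Nat.gcd_dvd_right _ _))
    omega
  have hclass : ∀ s : G, orderOf s = 2 → (∀ t : G, orderOf t = 2 → IsConj s t) ∧
      Nat.card (Subgroup.centralizer ({s} : Set G)) = d := by
    intro s hs
    set C := Subgroup.centralizer ({s} : Set G) with hC
    have hle : Nat.card C ≤ d := Nat.le_of_dvd (Nat.pos_of_ne_zero hd0) (hcent s hs).1
    have hsub : ∀ x : G, IsConj s x → orderOf x = 2 := fun x hx => by
      obtain ⟨c, rfl⟩ := isConj_iff.mp hx
      rw [← MulAut.conj_apply, MulEquiv.orderOf_eq, hs]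
    let f : {x : G // IsConj s x} → {g : G // orderOf g = 2} := fun x => ⟨x.1, hsub x.1 x.2⟩
    have hf : Function.Injective f := fun a b e => Subtype.ext (congrArg Subtype.val e :)
    have hIC : I ≤ Nat.card {x : G // IsConj s x} := by
      refine Nat.le_of_mul_le_mul_right ?_ (Nat.card_pos (α := C))
      rw [card_isConj_mul_card_centralizer, ← hId]
      exact Nat.mul_le_mul_left I hle
    have heqI : Nat.card {x : G // IsConj s x} = I :=
      le_antisymm (Nat.card_le_card_of_injective f hf) hIC
    refine ⟨fun t ht => ?_, ?_⟩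
    · obtain ⟨x, hx⟩ := ((Nat.bijective_iff_injective_and_card f).mpr ⟨hf, heqI⟩).2 ⟨t, ht⟩
      have : x.1 = t := congrArg Subtype.val hx
      exact this ▸ x.2
    · have h := card_isConj_mul_card_centralizer s
      rw [heqI, ← hId] at h
      exact Nat.eq_of_mul_eq_mul_left hIpos h
  refine ⟨fun s t hs ht => (hclass s hs).1 t ht, fun s hs => ⟨(hclass s hs).2, ?_⟩, hν1⟩
  have hcs := (hcent s hs).2
  have hidx : (Subgroup.centralizer ({s} : Set G)).index = Nat.card G / d := by
    rw [← (Subgroup.centralizer ({s} : Set G)).card_mul_index, (hclass s hs).2,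
      Nat.mul_div_cancel_left _ (Nat.pos_of_ne_zero hd0)]
  rw [(hclass s hs).2] at hcs ⊢
  rw [hidx]
  exact Nat.coprime_iff_gcd_eq_one.mpr (Nat.eq_one_of_dvd_coprimes hcs (Nat.gcd_dvd_left _ _) dvd_rfl)

end Cfsg.Agent.S4478
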