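import Cfsg.Statements.S4479
import Cfsg.Agent.Lib.Block.KleinBlock
import Cfsg.Agent.Lib.Block.PrincipalKernel
import Cfsg.Agent.Lib.Block.PPart
import Cfsg.Agent.Lib.Block.Columns
import Cfsg.Agent.Lib.Char.Central

set_option autoImplicit false
set_option linter.style.haveILetI false
set_option linter.unusedSectionVars false
open Cfsg

namespace Cfsg.Agent.S4479

open Cfsg.Agent Cfsg.Agent.Char Cfsg.Agent.Block
open scoped ComplexConjugate

universe w

variable {G : Type w} [Group G] [Finite G]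

theorem sq_eq_one_of_not_npc (g₀ : ℕ) (hg₀ : Odd g₀) (hG : Nat.card G = 4 * g₀)
    (hnc : ¬ ∃ N : Subgroup G, N.Normal ∧ Nat.card N = g₀) (P : Sylow 2 G) :
    Nat.card P = 4 ∧ (∀ x : P, x * x = 1) ∧
      ∀ s t : G, orderOf s = 2 → orderOf t = 2 → IsConj s t := by
  classical
  haveI : Fact (Nat.Prime 2) := ⟨Nat.prime_two⟩
  have hg0 : g₀ ≠ 0 := fun h => by simp [h] at hg₀
  have hP4 : Nat.card P = 4 := by
    rw [P.card_eq_multiplicity, hG, Nat.factorization_mul (by norm_num) hg0, Finsupp.add_apply,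
      Nat.factorization_eq_zero_of_not_dvd hg₀.not_two_dvd_nat, add_zero,
      show (4 : ℕ) = 2 ^ 2 from rfl, Nat.factorization_pow_self Nat.prime_two]
  have hkey : ¬ (Subgroup.normalizer ((P : Subgroup G) : Set G) ≤
      Subgroup.centralizer ((P : Subgroup G) : Set G)) := fun hle => by
    refine hnc ⟨(MonoidHom.transferSylow P hle).ker, inferInstance, ?_⟩
    have h := (MonoidHom.ker_transferSylow_isComplement' P hle).card_mul
    rw [hP4, hG] at h
    omega
  have hexp : ∀ x : P, x * x = 1 := by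
    by_contra hne
    obtain ⟨x, hx⟩ := not_forall.mp hne
    refine hkey (IsCyclic.normalizer_le_centralizer (p := 2) ?_ ?_)
    · rw [hG]
      exact (Nat.minFac_eq_two_iff _).mpr (dvd_mul_of_dvd_left (by norm_num) _)
    · refine isCyclic_of_orderOf_eq_card x ?_
      have hd : orderOf x ∣ 2 ^ 2 := (orderOf_dvd_natCard x).trans (dvd_of_eq (hP4.trans (by norm_num)))
      obtain ⟨i, hi, he⟩ := (Nat.dvd_prime_pow Nat.prime_two).mp hd
      rw [hP4, he]
      rcases i with _ | _ | _ | i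
      · exact absurd (by rw [orderOf_eq_one_iff.mp (he.trans (pow_zero 2)), one_mul]) hx
      · exact absurd (by rw [← pow_two]; exact orderOf_dvd_iff_pow_eq_one.mp (dvd_of_eq (he.trans (pow_one 2)))) hx
      · rfl
      · omega
  refine ⟨hP4, hexp, ?_⟩
  obtain ⟨g, hgN, hgC⟩ := SetLike.not_le_iff_exists.mp hkey
  obtain ⟨a, ha, hga⟩ : ∃ a ∈ (P : Subgroup G), g * a * g⁻¹ ≠ a := by
    by_contra h
    push Not at h
    exact hgC (Subgroup.mem_centralizer_iff.mpr fun a ha => (mul_inv_eq_iff_eq_mul.mp (h a ha)).symm)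
  obtain ⟨x, y, hxy, -, hx, hy, hxg, hyg⟩ := exists_isPPart Nat.prime_two g
  have hNz : Subgroup.zpowers g ≤ Subgroup.normalizer ((P : Subgroup G) : Set G) :=
    Subgroup.zpowers_le.mpr hgN
  have hxP : x ∈ (P : Subgroup G) := by
    obtain ⟨k, hk⟩ := hx
    have hxp : IsPGroup 2 (Subgroup.zpowers x) := IsPGroup.of_card (n := k) (by rw [Nat.card_zpowers, hk])
    have hle : Subgroup.zpowers x ≤ Subgroup.normalizer ((P : Subgroup G) : Set G) :=
      Subgroup.zpowers_le.mpr (hNz hxg)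
    rw [← P.is_maximal' (hxp.to_sup_of_normal_right' P.isPGroup' hle) le_sup_right]
    exact Subgroup.mem_sup_left (Subgroup.mem_zpowers _)
  have hcomm : ∀ u ∈ (P : Subgroup G), ∀ v ∈ (P : Subgroup G), Commute u v :=
    (klein_sylow hP4 hexp P).2.2
  have hyN : ∀ u ∈ (P : Subgroup G), y * u * y⁻¹ ∈ (P : Subgroup G) := fun u hu =>
    (Subgroup.mem_normalizer_iff.mp (hNz hyg) u).mp hu
  set b := y * a * y⁻¹ with hb
  set c := y * b * y⁻¹ with hc
  have hab : b ≠ a := fun e => hga (by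
    rw [← hxy, show x * y * a * (x * y)⁻¹ = x * (y * a * y⁻¹) * x⁻¹ by group, ← hb, e,
      (hcomm x hxP a ha).eq, mul_inv_cancel_right])
  have hca : c ≠ a := fun e => hab (by
    obtain ⟨k, hk⟩ : Odd (orderOf y) := Nat.not_even_iff_odd.mp fun h => hy h.two_dvd
    have hc2 : Commute (y ^ 2) a := by
      show y ^ 2 * a = a * y ^ 2
      refine mul_inv_eq_iff_eq_mul.mp (Eq.trans ?_ e)
      rw [hc, hb]; simp [pow_two, mul_assoc]
    have hc1 : Commute y a := by
      have := hc2.pow_left (k + 1)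
      rwa [← pow_mul, show 2 * (k + 1) = orderOf y + 1 by omega, pow_add, pow_orderOf_eq_one,
        one_mul, pow_one] at this
    rw [hb, hc1.eq, mul_inv_cancel_right])
  have hcb : c ≠ b := fun e => hab (by
    have : y * b * y⁻¹ = y * a * y⁻¹ := e
    exact mul_left_cancel (mul_right_cancel this))
  have ha1 : a ≠ 1 := fun e => hga (by rw [e, mul_one, mul_inv_cancel])
  have hb1 : b ≠ 1 := fun e => ha1 (conj_eq_one_iff.mp e)
  have hc1' : c ≠ 1 := fun e => hb1 (conj_eq_one_iff.mp e)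
  have hbP : b ∈ (P : Subgroup G) := hyN a ha
  have hcP : c ∈ (P : Subgroup G) := hyN b hbP
  have hall : ∀ r ∈ (P : Subgroup G), r ≠ 1 → IsConj a r := by
    intro r hr hr1
    by_contra hn
    have e1 : r ≠ a := fun e => hn (e ▸ IsConj.refl a)
    have e2 : r ≠ b := fun e => hn (e ▸ isConj_iff.mpr ⟨y, rfl⟩)
    have e3 : r ≠ c := fun e => hn (e ▸ (isConj_iff.mpr ⟨y, rfl⟩ : IsConj a b).trans (isConj_iff.mpr ⟨y, rfl⟩))
    have hsub : ({1, a, b, c, r} : Finset G) ⊆ (Set.toFinite ((P : Subgroup G) : Set G)).toFinset := by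
      intro t ht
      simp only [Finset.mem_insert, Finset.mem_singleton] at ht
      rw [Set.Finite.mem_toFinset, SetLike.mem_coe]
      rcases ht with rfl | rfl | rfl | rfl | rfl
      exacts [one_mem _, ha, hbP, hcP, hr]
    have hcard := Finset.card_le_card hsub
    rw [← Set.ncard_eq_toFinset_card, ← Nat.card_coe_set_eq,
      show Nat.card ((P : Subgroup G) : Set G) = 4 from hP4,
      Finset.card_insert_of_notMem (by simp [Ne.symm ha1, Ne.symm hb1, Ne.symm hc1', Ne.symm hr1]),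
      Finset.card_insert_of_notMem (by simp [Ne.symm hab, Ne.symm hca, Ne.symm e1]),
      Finset.card_insert_of_notMem (by simp [Ne.symm hcb, Ne.symm e2]),
      Finset.card_insert_of_notMem (by simp [Ne.symm e3]), Finset.card_singleton] at hcard
    omega
  suffices h : ∀ s : G, orderOf s = 2 → IsConj a s from fun s t hs ht => (h s hs).symm.trans (h t ht)
  intro s hs
  obtain ⟨Q, hQ⟩ := (IsPGroup.of_card (n := 1) (by rw [Nat.card_zpowers, hs, pow_one]) :
    IsPGroup 2 (Subgroup.zpowers s)).exists_le_sylow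
  obtain ⟨d, rfl⟩ := MulAction.exists_smul_eq G P Q
  obtain ⟨r, hr, hrs⟩ := hQ (Subgroup.mem_zpowers s)
  have hrs' : d * r * d⁻¹ = s := hrs
  have hr1 : r ≠ 1 := fun e => by
    rw [e, mul_one, mul_inv_cancel] at hrs'
    rw [← hrs', orderOf_one] at hs
    omega
  exact (hall r hr hr1).trans (isConj_iff.mpr ⟨d, hrs'⟩)

/-- The conjugates of `a` under the centralizer of `J`. -/
def cls (J a : G) : Set G := {u | ∃ c ∈ Subgroup.centralizer ({J} : Set G), c * a * c⁻¹ = u}

theorem card_cls (J a : G) (haJ : Commute J a) :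
    Nat.card (cls J a) * Nat.card (Subgroup.centralizer ({J, a} : Set G)) =
      Nat.card (Subgroup.centralizer ({J} : Set G)) := by
  classical
  set C := Subgroup.centralizer ({J} : Set G) with hC
  let a' : C := ⟨a, mem_centralizer_singleton.mpr haJ⟩
  have h1 : Nat.card (cls J a) = (Subgroup.centralizer ({a'} : Set C)).index := by
    rw [← card_isConj_eq_index]
    refine Nat.card_congr
      { toFun := fun u => ⟨⟨u, ?_⟩, ?_⟩
        invFun := fun x => ⟨x.1, ?_⟩
        left_inv := fun u => rfl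
        right_inv := fun x => rfl }
    · obtain ⟨c, hc, e⟩ := u.2
      rw [← e]; exact C.mul_mem (C.mul_mem hc a'.2) (C.inv_mem hc)
    · obtain ⟨c, hc, e⟩ := u.2
      exact isConj_iff.mpr ⟨⟨c, hc⟩, Subtype.ext e⟩
    · obtain ⟨c, e⟩ := isConj_iff.mp x.2
      exact ⟨c, c.2, congrArg Subtype.val e⟩
  have h2 : Nat.card (Subgroup.centralizer ({a'} : Set C)) =
      Nat.card (Subgroup.centralizer ({J, a} : Set G)) := by
    refine Nat.card_congr
      { toFun := fun x => ⟨((x : C) : G), Subgroup.mem_centralizer_iff.mpr ?_⟩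
        invFun := fun x => ⟨⟨x, Subgroup.mem_centralizer_iff.mpr ?_⟩, Subgroup.mem_centralizer_iff.mpr ?_⟩
        left_inv := fun x => rfl
        right_inv := fun x => rfl }
    · rintro t (rfl | rfl)
      · exact Subgroup.mem_centralizer_iff.mp (x : C).2 _ rfl
      · exact congrArg Subtype.val (Subgroup.mem_centralizer_iff.mp x.2 a' rfl)
    · rintro t rfl
      exact Subgroup.mem_centralizer_iff.mp x.2 _ (Or.inl rfl)
    · rintro t rfl
      exact Subtype.ext (Subgroup.mem_centralizer_iff.mp x.2 _ (Or.inr rfl))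
  rw [h1, ← h2, Subgroup.index_mul_card]

theorem count_pairs {P : Sylow 2 G} (hP4 : Nat.card P = 4) (hexp : ∀ x : P, x * x = 1)
    {J : G} (hJ : J ∈ (P : Subgroup G)) (hJ2 : orderOf J = 2) :
    Nat.card {q : G × G // orderOf q.1 = 2 ∧ orderOf q.2 = 2 ∧ IsPPart 2 (q.1 * q.2) J} *
        Nat.card (Subgroup.centralizer ((P : Subgroup G) : Set G)) ^ 2 =
      2 * Nat.card (Subgroup.centralizer ({J} : Set G)) ^ 2 := by
  classical
  haveI : Fact (Nat.Prime 2) := ⟨Nat.prime_two⟩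
  set C := Subgroup.centralizer ({J} : Set G) with hC
  have hcomm := (klein_sylow hP4 hexp P).2.2
  have hJ1 : J ≠ 1 := fun e => by rw [e, orderOf_one] at hJ2; omega
  have hJJ : J * J = 1 := congrArg Subtype.val (hexp ⟨J, hJ⟩)
  have hPC : (P : Subgroup G) ≤ C := fun x hx => mem_centralizer_singleton.mpr (hcomm J hJ x hx)
  obtain ⟨a, haP, ha1, haJ⟩ : ∃ a ∈ (P : Subgroup G), a ≠ 1 ∧ a ≠ J := by
    by_contra h
    push Not at h
    have hsub : (Set.toFinite ((P : Subgroup G) : Set G)).toFinset ⊆ ({1, J} : Finset G) := by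
      intro t ht
      rw [Set.Finite.mem_toFinset, SetLike.mem_coe] at ht
      simp only [Finset.mem_insert, Finset.mem_singleton]
      by_cases t1 : t = 1
      · exact Or.inl t1
      · exact Or.inr (h t ht t1)
    have hcard := Finset.card_le_card hsub
    rw [← Set.ncard_eq_toFinset_card, ← Nat.card_coe_set_eq,
      show Nat.card ((P : Subgroup G) : Set G) = 4 from hP4, Finset.card_pair (Ne.symm hJ1)] at hcard
    omega
  have haa : a * a = 1 := congrArg Subtype.val (hexp ⟨a, haP⟩)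
  have haC : a ∈ C := hPC haP
  have haJP : a * J ∈ (P : Subgroup G) := (P : Subgroup G).mul_mem haP hJ
  have haJ1 : a * J ≠ 1 := fun e => haJ ((eq_inv_of_mul_eq_one_left e).trans (inv_eq_of_mul_eq_one_right hJJ))
  have haJJ : a * J ≠ J := fun e => ha1 (by simpa using e)
  have hlist : ∀ x ∈ (P : Subgroup G), x = 1 ∨ x = J ∨ x = a ∨ x = a * J := by
    intro r hr
    by_contra hn
    push Not at hn
    obtain ⟨e1, e2, e3, e4⟩ := hn
    have hsub : ({1, J, a, a * J, r} : Finset G) ⊆ (Set.toFinite ((P : Subgroup G) : Set G)).toFinset := by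
      intro t ht
      simp only [Finset.mem_insert, Finset.mem_singleton] at ht
      rw [Set.Finite.mem_toFinset, SetLike.mem_coe]
      rcases ht with rfl | rfl | rfl | rfl | rfl
      exacts [one_mem _, hJ, haP, haJP, hr]
    have hcard := Finset.card_le_card hsub
    rw [← Set.ncard_eq_toFinset_card, ← Nat.card_coe_set_eq,
      show Nat.card ((P : Subgroup G) : Set G) = 4 from hP4,
      Finset.card_insert_of_notMem (by simp [Ne.symm hJ1, Ne.symm ha1, Ne.symm haJ1, Ne.symm e1]),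
      Finset.card_insert_of_notMem (by simp [Ne.symm haJ, Ne.symm haJJ, Ne.symm e2]),
      Finset.card_insert_of_notMem (by simp [Ne.symm e3, hJ1]),
      Finset.card_insert_of_notMem (by simp [Ne.symm e4]), Finset.card_singleton] at hcard
    omega
  have hcentP : ∀ b, b ∈ (P : Subgroup G) → (b = a ∨ b = a * J) →
      Subgroup.centralizer ({J, b} : Set G) = Subgroup.centralizer ((P : Subgroup G) : Set G) := by
    intro b hb hb'
    ext g
    simp only [Subgroup.mem_centralizer_iff]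
    constructor
    · intro h x hx
      have gJ : Commute J g := h J (Or.inl rfl)
      have gb : Commute b g := h b (Or.inr rfl)
      have ga : Commute a g := by
        rcases hb' with rfl | rfl
        · exact gb
        · have := gb.mul_left gJ
          rwa [mul_assoc, hJJ, mul_one] at this
      rcases hlist x hx with rfl | rfl | rfl | rfl
      exacts [(Commute.one_left g).eq, gJ.eq, ga.eq, (ga.mul_left gJ).eq]
    · rintro h x (rfl | rfl)
      exacts [h _ hJ, h _ hb]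
  have hcl : ∀ b, b ∈ (P : Subgroup G) → (b = a ∨ b = a * J) →
      Nat.card (cls J b) * Nat.card (Subgroup.centralizer ((P : Subgroup G) : Set G)) = Nat.card C := by
    intro b hb hb'
    rw [← hcentP b hb hb']
    exact card_cls J b (hcomm J hJ b hb)
  have hidx := index_core_centralizer_involution hP4 hexp hJ2
  set O := pPrimeCore 2 C with hO
  have hreg := regular_subgroup_centralizer_involution hP4 hexp hJ2
  have hi4 : Nat.card (C ⧸ O) = 2 ^ 2 := by
    rw [← Subgroup.index_eq_card, hO, index_eq_ordProj_of_regular hidx,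
      ← (P.subtype hPC).card_eq_multiplicity,
      show Nat.card (P.subtype hPC) = 4 from
        (Nat.card_congr (Subgroup.subgroupOfEquivOfLe hPC).toEquiv).trans hP4]
    norm_num
  have hab : ∀ u v : C ⧸ O, u * v = v * u := fun u v => IsPGroup.commutative_of_card_eq_prime_sq hi4 u v
  let π := QuotientGroup.mk' O
  let a' : C := ⟨a, haC⟩
  let J' : C := ⟨J, hPC hJ⟩
  have hJ'O : J' ∉ O := fun h => (hreg J').mp h (by
    rw [← Subgroup.orderOf_coe, show ((J' : C) : G) = J from rfl, hJ2])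
  have hJ'π : π J' ≠ 1 := fun h => hJ'O ((QuotientGroup.eq_one_iff J').mp h)
  have hclsC : ∀ b ∈ C, ∀ u ∈ cls J b, u ∈ C := by
    rintro b hb u ⟨c, hc, rfl⟩
    exact C.mul_mem (C.mul_mem hc hb) (C.inv_mem hc)
  have hπcls : ∀ (b : C) (u : C), (u : G) ∈ cls J (b : G) → π u = π b := by
    rintro b u ⟨c, hc, e⟩
    have : u = ⟨c, hc⟩ * b * ⟨c, hc⟩⁻¹ := Subtype.ext e.symm
    rw [this, map_mul, map_mul, hab (π ⟨c, hc⟩) (π b), mul_assoc, ← map_mul, mul_inv_cancel,
      map_one, mul_one]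
  have haa' : a' * a' = 1 := Subtype.ext haa
  have hJJ' : J' * J' = 1 := Subtype.ext hJJ
  have haJC : a * J ∈ C := hPC haJP
  have horder : ∀ b, b ∈ (P : Subgroup G) → b ≠ 1 → ∀ u ∈ cls J b, orderOf u = 2 := by
    rintro b hb hb1 u ⟨c, -, rfl⟩
    rw [show c * b * c⁻¹ = MulAut.conj c b from rfl, MulEquiv.orderOf_eq]
    exact orderOf_eq_prime (by rw [pow_two]; exact congrArg Subtype.val (hexp ⟨b, hb⟩)) hb1
  -- involutions of the centralizer other than `J`
  have hinv : ∀ u ∈ C, orderOf u = 2 → u ≠ J → u ∈ cls J a ∨ u ∈ cls J (a * J) := by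
    intro u hu hu2 huJ
    let u' : C := ⟨u, hu⟩
    obtain ⟨Q, hQ⟩ := (IsPGroup.of_card (n := 1) (by
      rw [Nat.card_zpowers, ← Subgroup.orderOf_coe, show ((u' : C) : G) = u from rfl, hu2, pow_one]) :
        IsPGroup 2 (Subgroup.zpowers u')).exists_le_sylow
    obtain ⟨d, rfl⟩ := MulAction.exists_smul_eq C (P.subtype hPC) Q
    obtain ⟨r, hr, hrs⟩ := hQ (Subgroup.mem_zpowers u')
    have hrs' : (d : G) * (r : G) * (d : G)⁻¹ = u := congrArg Subtype.val hrs
    rcases hlist r hr with h | h | h | h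
    · rw [h, mul_one, mul_inv_cancel] at hrs'
      rw [← hrs', orderOf_one] at hu2
      omega
    · rw [h, ← (mem_centralizer_singleton.mp d.2).eq, mul_inv_cancel_right] at hrs'
      exact absurd hrs'.symm huJ
    · exact Or.inl ⟨d, d.2, h ▸ hrs'⟩
    · exact Or.inr ⟨d, d.2, h ▸ hrs'⟩
  have hset : {q : G × G | orderOf q.1 = 2 ∧ orderOf q.2 = 2 ∧ IsPPart 2 (q.1 * q.2) J} =
      (cls J a ×ˢ cls J (a * J)) ∪ (cls J (a * J) ×ˢ cls J a) := by
    ext ⟨u, v⟩
    simp only [Set.mem_setOf_eq, Set.mem_union, Set.mem_prod]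
    constructor
    · rintro ⟨hu, hv, hpp⟩
      have hu1 : u * u = 1 := by rw [← pow_two, ← hu]; exact pow_orderOf_eq_one u
      have hv1 : v * v = 1 := by rw [← pow_two, ← hv]; exact pow_orderOf_eq_one v
      have hui : u⁻¹ = u := inv_eq_of_mul_eq_one_right hu1
      have hinvuv : (u * v)⁻¹ = u * (u * v) * u⁻¹ := by
        rw [mul_inv_rev, inv_eq_of_mul_eq_one_right hv1, hui, ← mul_assoc u u v, hu1, one_mul]
      obtain ⟨X, Y, hXY, hXYc, hX, hY, hXg, -⟩ := exists_isPPart Nat.prime_two (u * v)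
      have hXJ : X = J := isPPart_unique Nat.prime_two ⟨Y, hXY, hXYc, hX, hY⟩ hpp
      rw [hXJ] at hXg
      obtain ⟨n, hn⟩ := Subgroup.mem_zpowers_iff.mp hXg
      have huC : u ∈ C := by
        refine mem_centralizer_singleton.mpr ?_
        have e : u * J * u⁻¹ = J := by
          rw [← hn, ← conj_zpow, ← hinvuv, inv_zpow, hn]
          exact inv_eq_of_mul_eq_one_right hJJ
        exact (mul_inv_eq_iff_eq_mul.mp e).symm
      obtain ⟨y, hy, hyc, -, hyo⟩ := hpp
      have hyC : y ∈ C := mem_centralizer_singleton.mpr hyc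
      have hvC : v ∈ C := by
        have : v = u⁻¹ * (J * y) := by rw [hy]; group
        rw [this]; exact C.mul_mem (C.inv_mem huC) (C.mul_mem (hPC hJ) hyC)
      let y' : C := ⟨y, hyC⟩
      have hy'O : y' ∈ O := (hreg y').mpr (by rwa [← Subgroup.orderOf_coe])
      have huJ : u ≠ J := fun e => hyo (by
        rw [e] at hy; rw [mul_left_cancel hy, hv])
      have hvJ : v ≠ J := fun e => hyo (by
        rw [e] at hy
        have : J * y = J * u := hy.trans (mem_centralizer_singleton.mp huC).eq.symm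
        rw [mul_left_cancel this, hu])
      have hπ : π ⟨u, huC⟩ * π ⟨v, hvC⟩ = π J' := by
        rw [← map_mul, show (⟨u, huC⟩ : C) * ⟨v, hvC⟩ = J' * y' from Subtype.ext hy.symm, map_mul,
          show π y' = 1 from (QuotientGroup.eq_one_iff y').mpr hy'O, mul_one]
      rcases hinv u huC hu huJ with h | h <;> rcases hinv v hvC hv hvJ with h' | h'
      · exfalso
        rw [hπcls a' ⟨u, huC⟩ h, hπcls a' ⟨v, hvC⟩ h', ← map_mul, haa', map_one] at hπ
        exact hJ'π hπ.symm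
      · exact Or.inl ⟨h, h'⟩
      · exact Or.inr ⟨h, h'⟩
      · exfalso
        rw [hπcls ⟨a * J, haJC⟩ ⟨u, huC⟩ h, hπcls ⟨a * J, haJC⟩ ⟨v, hvC⟩ h', ← map_mul,
          show (⟨a * J, haJC⟩ : C) * ⟨a * J, haJC⟩ = 1 from
            Subtype.ext (show a * J * (a * J) = 1 from congrArg Subtype.val (hexp ⟨a * J, haJP⟩)), map_one] at hπ
        exact hJ'π hπ.symm
    · intro h
      obtain ⟨huC, hvC, hu, hv, hπ⟩ : ∃ (huC : u ∈ C) (hvC : v ∈ C),
          orderOf u = 2 ∧ orderOf v = 2 ∧ π ⟨u, huC⟩ * π ⟨v, hvC⟩ = π J' := by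
        rcases h with ⟨h, h'⟩ | ⟨h, h'⟩
        · refine ⟨hclsC a haC u h, hclsC _ haJC v h', horder a haP ha1 u h, horder _ haJP haJ1 v h', ?_⟩
          rw [hπcls a' ⟨u, hclsC a haC u h⟩ h, hπcls ⟨a * J, haJC⟩ ⟨v, hclsC _ haJC v h'⟩ h', ← map_mul]
          exact congrArg π (Subtype.ext (show a * (a * J) = J by rw [← mul_assoc, haa, one_mul]))
        · refine ⟨hclsC _ haJC u h, hclsC a haC v h', horder _ haJP haJ1 u h, horder a haP ha1 v h', ?_⟩
          rw [hπcls ⟨a * J, haJC⟩ ⟨u, hclsC _ haJC u h⟩ h, hπcls a' ⟨v, hclsC a haC v h'⟩ h', hab, ← map_mul]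
          exact congrArg π (Subtype.ext (show a * (a * J) = J by rw [← mul_assoc, haa, one_mul]))
      refine ⟨hu, hv, J⁻¹ * (u * v), by group, ?_, ⟨1, by rw [hJ2, pow_one]⟩, ?_⟩
      · exact ((Commute.refl J).inv_right).mul_right
          ((mem_centralizer_singleton.mp huC).mul_right (mem_centralizer_singleton.mp hvC))
      · have : J'⁻¹ * (⟨u, huC⟩ * ⟨v, hvC⟩) ∈ O := by
          refine (QuotientGroup.eq_one_iff (N := O) (J'⁻¹ * (⟨u, huC⟩ * ⟨v, hvC⟩))).mp ?_
          show π (J'⁻¹ * (⟨u, huC⟩ * ⟨v, hvC⟩)) = 1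
          rw [map_mul, map_mul, map_inv, hπ, inv_mul_cancel]
        have := (hreg _).mp this
        rwa [← Subgroup.orderOf_coe] at this
  have hdisj : Disjoint (cls J a ×ˢ cls J (a * J)) (cls J (a * J) ×ˢ cls J a) := by
    rw [Set.disjoint_left]
    rintro ⟨u, v⟩ ⟨h, -⟩ ⟨h', -⟩
    have huC := hclsC a haC u h
    have e := (hπcls a' ⟨u, huC⟩ h).symm.trans (hπcls ⟨a * J, haJC⟩ ⟨u, huC⟩ h')
    rw [show (⟨a * J, haJC⟩ : C) = a' * J' from rfl, map_mul, left_eq_mul] at e
    exact hJ'π e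
  have hcount : Nat.card {q : G × G // orderOf q.1 = 2 ∧ orderOf q.2 = 2 ∧ IsPPart 2 (q.1 * q.2) J} =
      2 * (Nat.card (cls J a) * Nat.card (cls J (a * J))) := by
    show Nat.card ↥{q : G × G | orderOf q.1 = 2 ∧ orderOf q.2 = 2 ∧ IsPPart 2 (q.1 * q.2) J} = _
    rw [hset, Nat.card_coe_set_eq, Set.ncard_union_eq hdisj, Set.ncard_prod, Set.ncard_prod,
      ← Nat.card_coe_set_eq, ← Nat.card_coe_set_eq]
    ring
  rw [hcount, sq, sq]
  conv_rhs => rw [← hcl a haP (Or.inl rfl)]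
  rw [mul_assoc 2 (Nat.card (cls J a) * _)]
  congr 1
  have h2 := hcl (a * J) haJP (Or.inr rfl)
  calc Nat.card (cls J a) * Nat.card (cls J (a * J)) *
        (Nat.card (Subgroup.centralizer ((P : Subgroup G) : Set G)) * Nat.card (Subgroup.centralizer ((P : Subgroup G) : Set G)))
      = (Nat.card (cls J a) * Nat.card (Subgroup.centralizer ((P : Subgroup G) : Set G))) *
        (Nat.card (cls J (a * J)) * Nat.card (Subgroup.centralizer ((P : Subgroup G) : Set G))) := by ring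
    _ = _ := by rw [h2, hcl a haP (Or.inl rfl)]

theorem section_value [Fintype G] {M : Ideal AlgInt} (hM : IsPModular 2 M) {P : Sylow 2 G}
    (hP4 : Nat.card P = 4) (hexp : ∀ x : P, x * x = 1) {J : G} (hJ2 : orderOf J = 2)
    (y : Subgroup.centralizer ({J} : Set G)) (hy : ¬ 2 ∣ orderOf y) :
    blockKernel (principalBlock M G) J (J * (y : G)) = 4 := by
  classical
  haveI : Fact (Nat.Prime 2) := ⟨Nat.prime_two⟩
  have hzk : ∃ k : ℕ, orderOf J = 2 ^ k := ⟨1, by rw [hJ2, pow_one]⟩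
  have hB : IsPBlock M (principalBlock M G) := ⟨⟨fun _ => 1, isIrrCharacter_one⟩, rfl⟩
  have hyO : y ∈ pPrimeCore 2 (Subgroup.centralizer ({J} : Set G)) := (regular_subgroup_centralizer_involution hP4 hexp hJ2 y).mpr hy
  have hcore : ¬ 2 ∣ Nat.card (pPrimeCore 2 (Subgroup.centralizer ({J} : Set G))) := by
    intro h
    obtain ⟨x, hx⟩ := exists_prime_orderOf_dvd_card' 2 h
    exact (regular_subgroup_centralizer_involution hP4 hexp hJ2 (x : Subgroup.centralizer ({J} : Set G))).mp x.2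
      (by rw [Subgroup.orderOf_coe, hx])
  have h1 := blockKernel_section (c := 1) (c' := y) hM hzk hB (by simp) hy
  have h2 := blockKernel_section (c := 1) (c' := 1) hM hzk hB (by simp) (by simp)
  simp only [Subgroup.coe_one, mul_one] at h1 h2
  rw [h1, ← blockKernel_principal_klein hM hP4 hexp hJ2, h2, localBlocks_principal hM hzk,
    Finset.sum_singleton, Finset.sum_singleton, blockKernel, blockKernel]
  exact finsum_mem_congr rfl fun χ hχ => by
    rw [apply_eq_one_of_mem_principal hM (pPrimeCore 2 (Subgroup.centralizer ({J} : Set G))) hcore hχ hyO]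

theorem order_formula {M : Ideal AlgInt} (hM : IsPModular 2 M) {P : Sylow 2 G} (hP4 : Nat.card P = 4)
    (hexp : ∀ x : P, x * x = 1) (hone : ∀ s t : G, orderOf s = 2 → orderOf t = 2 → IsConj s t)
    {J : G} (hJ : J ∈ (P : Subgroup G)) (hJ2 : orderOf J = 2) :
    8 * (Nat.card (Subgroup.centralizer ({J} : Set G)) : ℂ) ^ 3 =
      (Nat.card G : ℂ) * (Nat.card (Subgroup.centralizer ((P : Subgroup G) : Set G)) : ℂ) ^ 2 *
        ∑ᶠ χ ∈ principalBlock M G, (χ : G → ℂ) J * conj ((χ : G → ℂ) J) ^ 2 / (χ : G → ℂ) 1 := by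
  classical
  haveI : Fact (Nat.Prime 2) := ⟨Nat.prime_two⟩
  haveI := Fintype.ofFinite G
  haveI := prime_of_isPModular hM
  set B := principalBlock M G with hBdef
  have hB : IsPBlock M B := ⟨⟨fun _ => 1, isIrrCharacter_one⟩, rfl⟩
  have hzk : ∃ k : ℕ, orderOf J = 2 ^ k := ⟨1, by rw [hJ2, pow_one]⟩
  set S := Finset.univ.filter (IsConj J) with hS
  have hmemS : ∀ u, u ∈ S ↔ orderOf u = 2 := fun u => by
    simp only [hS, Finset.mem_filter, Finset.mem_univ, true_and]
    refine ⟨fun h => ?_, fun h => hone J u hJ2 h⟩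
    obtain ⟨c, rfl⟩ := isConj_iff.mp h
    rw [show c * J * c⁻¹ = MulAut.conj c J from rfl, MulEquiv.orderOf_eq, hJ2]
  set T := fun t : G => (S ×ˢ S).filter fun q : G × G => IsPPart 2 (q.1 * q.2) t with hT
  have hpconj : ∀ (c g x : G), IsPPart 2 g x → IsPPart 2 (c * g * c⁻¹) (c * x * c⁻¹) := by
    rintro c g x ⟨y, rfl, hcm, ⟨k, hk⟩, hy⟩
    refine ⟨c * y * c⁻¹, by group, (Commute.conj_iff c).mpr hcm, ⟨k, ?_⟩, ?_⟩
    · rw [show c * x * c⁻¹ = MulAut.conj c x from rfl, MulEquiv.orderOf_eq, hk]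
    · rwa [show c * y * c⁻¹ = MulAut.conj c y from rfl, MulEquiv.orderOf_eq]
  have hconjS : ∀ c u, u ∈ S → c * u * c⁻¹ ∈ S := fun c u hu => by
    rw [hmemS] at hu ⊢
    rw [show c * u * c⁻¹ = MulAut.conj c u from rfl, MulEquiv.orderOf_eq, hu]
  have hTJ : ∀ t ∈ S, (T t).card = (T J).card := by
    intro t ht
    obtain ⟨c, rfl⟩ := isConj_iff.mp (hone J t hJ2 ((hmemS t).mp ht))
    refine Finset.card_bij' (fun q _ => (c⁻¹ * q.1 * c⁻¹⁻¹, c⁻¹ * q.2 * c⁻¹⁻¹))
      (fun q _ => (c * q.1 * c⁻¹, c * q.2 * c⁻¹)) ?_ ?_ ?_ ?_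
    · intro q hq
      simp only [hT, Finset.mem_filter, Finset.mem_product] at hq ⊢
      refine ⟨⟨hconjS _ _ hq.1.1, hconjS _ _ hq.1.2⟩, ?_⟩
      have := hpconj c⁻¹ _ _ hq.2
      convert this using 1 <;> group
    · intro q hq
      simp only [hT, Finset.mem_filter, Finset.mem_product] at hq ⊢
      refine ⟨⟨hconjS _ _ hq.1.1, hconjS _ _ hq.1.2⟩, ?_⟩
      have := hpconj c _ _ hq.2
      convert this using 1; group
    · intro q _; ext <;> group
    · intro q _; ext <;> group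
  have hTcount : (T J).card * Nat.card (Subgroup.centralizer ((P : Subgroup G) : Set G)) ^ 2 =
      2 * Nat.card (Subgroup.centralizer ({J} : Set G)) ^ 2 := by
    rw [← count_pairs hP4 hexp hJ hJ2, Nat.card_eq_fintype_card (α := {q : G × G // _}),
      Fintype.card_subtype]
    congr 2
    ext q
    simp only [hT, Finset.mem_filter, Finset.mem_product, hmemS, Finset.mem_univ, true_and, and_assoc]
  -- the function supported on the sections of involutions
  have hval : ∀ g : G, blockKernel B J g = if 2 ∣ orderOf g then 4 else 0 := by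
    intro g
    by_cases h2 : 2 ∣ orderOf g
    · rw [if_pos h2]
      obtain ⟨x, y, rfl, hxy, ⟨k, hk⟩, hy, -⟩ := exists_isPPart Nat.prime_two g
      have hx2 : orderOf x = 2 := by
        rcases k with _ | k
        · exfalso; rw [pow_zero, orderOf_eq_one_iff] at hk; rw [hk, one_mul] at h2; exact hy h2
        · obtain ⟨Q, hQ⟩ := (IsPGroup.of_card (n := k + 1) (by rw [Nat.card_zpowers, hk]) :
            IsPGroup 2 (Subgroup.zpowers x)).exists_le_sylow
          refine orderOf_eq_prime (by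
            rw [pow_two]; exact (klein_sylow hP4 hexp Q).2.1 x (hQ (Subgroup.mem_zpowers x))) fun e => ?_
          rw [e, orderOf_one] at hk
          have := Nat.one_lt_two_pow (k.succ_ne_zero)
          omega
      obtain ⟨c, rfl⟩ := isConj_iff.mp (hone J x hJ2 hx2)
      have hyC : c⁻¹ * y * c ∈ Subgroup.centralizer ({J} : Set G) := by
        refine mem_centralizer_singleton.mpr ((Commute.conj_iff c).mp ?_)
        convert hxy using 1
        group
      rw [← section_value hM hP4 hexp hJ2 ⟨c⁻¹ * y * c, hyC⟩ (by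
        rw [← Subgroup.orderOf_coe, show ((⟨c⁻¹ * y * c, hyC⟩ : Subgroup.centralizer ({J} : Set G)) : G) =
          MulAut.conj c⁻¹ y by simp, MulEquiv.orderOf_eq]
        exact hy)]
      exact finsum_mem_congr rfl fun χ _ => by
        rw [IsIrrCharacter.apply_isConj χ.2
          (show IsConj (J * (c⁻¹ * y * c)) (c * J * c⁻¹ * y) from isConj_iff.mpr ⟨c, by group⟩)]
    · rw [if_neg h2, ← blockKernel_conj]
      rw [show blockKernel B g J = 0 from
        weak_orthogonality hM hB h2 (by rw [hJ2]), map_zero]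
  have hL : ∑ q ∈ S ×ˢ S, blockKernel B J (q.1 * q.2) = 4 * ((S.card * (T J).card : ℕ) : ℂ) := by
    rw [Finset.sum_congr rfl fun q _ => hval (q.1 * q.2), ← Finset.sum_filter, Finset.sum_const,
      nsmul_eq_mul, mul_comm]
    congr 2
    rw [show (S ×ˢ S).filter (fun q : G × G => 2 ∣ orderOf (q.1 * q.2)) = S.biUnion T by
      ext q
      simp only [hT, Finset.mem_filter, Finset.mem_biUnion]
      constructor
      · rintro ⟨hq, h2⟩
        obtain ⟨x, y, hxy, hc, ⟨k, hk⟩, hy, -⟩ := exists_isPPart Nat.prime_two (q.1 * q.2)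
        refine ⟨x, (hmemS x).mpr ?_, hq, y, hxy, hc, ⟨k, hk⟩, hy⟩
        rcases k with _ | k
        · exfalso; rw [pow_zero, orderOf_eq_one_iff] at hk; rw [← hxy, hk, one_mul] at h2; exact hy h2
        · obtain ⟨Q, hQ⟩ := (IsPGroup.of_card (n := k + 1) (by rw [Nat.card_zpowers, hk]) :
            IsPGroup 2 (Subgroup.zpowers x)).exists_le_sylow
          refine orderOf_eq_prime (by
            rw [pow_two]; exact (klein_sylow hP4 hexp Q).2.1 x (hQ (Subgroup.mem_zpowers x))) fun e => ?_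
          rw [e, orderOf_one] at hk
          have := Nat.one_lt_two_pow (k.succ_ne_zero)
          omega
      · rintro ⟨t, ht, hq, y, hty, hc, -, hy⟩
        refine ⟨hq, ?_⟩
        rw [← hty, hc.orderOf_mul_eq_mul_orderOf_of_coprime (by
          rw [(hmemS t).mp ht]; exact (Nat.prime_two.coprime_iff_not_dvd.mpr hy)), (hmemS t).mp ht]
        exact dvd_mul_right _ _]
    rw [Finset.card_biUnion, Finset.sum_congr rfl hTJ, Finset.sum_const, smul_eq_mul]
    intro t _ t' _ hne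
    rw [Function.onFun, Finset.disjoint_left]
    intro q h h'
    simp only [hT, Finset.mem_filter] at h h'
    exact hne (isPPart_unique Nat.prime_two h.2 h'.2)
  have hR : ∀ χ : IrrCharacter G, ∑ q ∈ S ×ˢ S, (χ : G → ℂ) J * conj ((χ : G → ℂ) (q.1 * q.2)) =
      (S.card : ℂ) ^ 2 * ((χ : G → ℂ) J * conj ((χ : G → ℂ) J) ^ 2 / (χ : G → ℂ) 1) := by
    intro χ
    have h1 := IsIrrCharacter.apply_one_ne_zero χ.2
    have h := centralChar_mul χ.2 J J
    have hc : ((Subgroup.centralizer ({J} : Set G)).index : ℂ) = S.card := by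
      rw [← card_isConj_eq_index, Nat.card_eq_fintype_card, Fintype.card_subtype]
    simp only [centralChar, hc] at h
    rw [← Finset.mul_sum, ← map_sum, Finset.sum_product]
    have hs : ∑ x ∈ S, ∑ y ∈ S, (χ : G → ℂ) (x * y) =
        (S.card : ℂ) ^ 2 * ((χ : G → ℂ) J) ^ 2 / (χ : G → ℂ) 1 := by
      rw [eq_div_iff h1]
      field_simp at h
      linear_combination -h
    have hd : conj ((χ : G → ℂ) 1) = (χ : G → ℂ) 1 := by
      rw [← charDegree_cast (IsIrrCharacter.isCharacter χ.2), Complex.conj_natCast]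
    rw [hs, map_div₀, map_mul, map_pow, map_pow, hd, Complex.conj_natCast]
    ring
  have hR' : ∑ q ∈ S ×ˢ S, blockKernel B J (q.1 * q.2) = (S.card : ℂ) ^ 2 *
      ∑ᶠ χ ∈ B, (χ : G → ℂ) J * conj ((χ : G → ℂ) J) ^ 2 / (χ : G → ℂ) 1 := by
    simp only [blockKernel, finsum_mem_eq_finite_toFinset_sum _ B.toFinite, Finset.mul_sum]
    rw [Finset.sum_comm]
    exact Finset.sum_congr rfl fun χ _ => hR χ
  rw [hL] at hR'
  have hn : S.card * Nat.card (Subgroup.centralizer ({J} : Set G)) = Nat.card G := by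
    rw [hS, ← Fintype.card_subtype, ← Nat.card_eq_fintype_card, card_isConj_eq_index,
      Subgroup.index_mul_card]
  have hS0 : (S.card : ℂ) ≠ 0 := Nat.cast_ne_zero.mpr
    (Finset.card_ne_zero.mpr ⟨J, (hmemS J).mpr hJ2⟩)
  rw [Nat.cast_mul, ← mul_assoc, mul_comm (4 : ℂ), mul_assoc, sq, mul_assoc] at hR'
  have hR'' := mul_left_cancel₀ hS0 hR'
  rw [← hn, Nat.cast_mul]
  have hTc : ((T J).card : ℂ) * (Nat.card (Subgroup.centralizer ((P : Subgroup G) : Set G)) : ℂ) ^ 2 =
      2 * (Nat.card (Subgroup.centralizer ({J} : Set G)) : ℂ) ^ 2 := by exact_mod_cast hTcount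
  linear_combination (Nat.card (Subgroup.centralizer ((P : Subgroup G) : Set G)) : ℂ) ^ 2 *
    (Nat.card (Subgroup.centralizer ({J} : Set G)) : ℂ) * hR'' -
    4 * (Nat.card (Subgroup.centralizer ({J} : Set G)) : ℂ) * hTc

/-- An order formula from the principal 2-block. Let G be a finite group of order 4·g₀ with g₀ odd having no normal 2-complement (no normal subgroup of order g₀); let P be a Sylow 2-subgroup, J an involution of P, and fix a maximal ideal M of the algebraic integers containing 2. Suppose the principal 2-block consists of the principal character and three further distinct characters χ₁, χ₂, χ₃ of degrees x₁, x₂, x₃, with χ_i(J) = ε_i = ±1. Then, writing c(J) and c(P) for the orders of the centralizers of J and of P, the order of G equals 8·α·c(J)³/c(P)² with α = x₁x₂x₃ / ((x₁ + ε₁)(x₂ + ε₂)(x₃ + ε₃)). -/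
theorem result {G : Type*} [Group G] [Finite G] (M : Ideal Cfsg.AlgInt) (hM : Cfsg.IsPModular 2 M) (g₀ : ℕ) (hg₀ : Odd g₀) (hG : Nat.card G = 4 * g₀) (hnc : ¬ ∃ N : Subgroup G, N.Normal ∧ Nat.card N = g₀) (P : Sylow 2 G) (J : G) (hJ : J ∈ (P : Subgroup G)) (hJ2 : orderOf J = 2) (χ₁ χ₂ χ₃ : Cfsg.IrrCharacter G) (ε₁ ε₂ ε₃ : ℤ) (hB : Cfsg.principalBlock M G = {χ : Cfsg.IrrCharacter G | (χ : G → ℂ) = (fun _ => 1) ∨ χ = χ₁ ∨ χ = χ₂ ∨ χ = χ₃}) (hdist : (χ₁ : G → ℂ) ≠ (fun _ => 1) ∧ (χ₂ : G → ℂ) ≠ (fun _ => 1) ∧ (χ₃ : G → ℂ) ≠ (fun _ => 1) ∧ χ₁ ≠ χ₂ ∧ χ₁ ≠ χ₃ ∧ χ₂ ≠ χ₃) (hε : (ε₁ = 1 ∨ ε₁ = -1) ∧ (ε₂ = 1 ∨ ε₂ = -1) ∧ (ε₃ = 1 ∨ ε₃ = -1)) (hval : (χ₁ : G → ℂ) J = ε₁ ∧ (χ₂ : G → ℂ) J = ε₂ ∧ (χ₃ : G → ℂ) J = ε₃) : (Nat.card G : ℚ) = 8 * (((Cfsg.charDegree (χ₁ : G → ℂ) : ℚ) * Cfsg.charDegree (χ₂ : G → ℂ) * Cfsg.charDegree (χ₃ : G → ℂ)) / ((Cfsg.charDegree (χ₁ : G → ℂ) + ε₁) * (Cfsg.charDegree (χ₂ : G → ℂ) + ε₂) * (Cfsg.charDegree (χ₃ : G → ℂ) + ε₃))) * (Nat.card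 (Subgroup.centralizer ({J} : Set G)) : ℚ) ^ 3 / (Nat.card (Subgroup.centralizer ((P : Subgroup G) : Set G)) : ℚ) ^ 2 := by
  classical
  haveI : Fact (Nat.Prime 2) := ⟨Nat.prime_two⟩
  haveI := Fintype.ofFinite G
  haveI := prime_of_isPModular hM
  obtain ⟨hP4, hexp, hone⟩ := sq_eq_one_of_not_npc g₀ hg₀ hG hnc P
  have hBl : IsPBlock M (principalBlock M G) := ⟨⟨fun _ => 1, isIrrCharacter_one⟩, rfl⟩
  have hO := order_formula hM hP4 hexp hone hJ hJ2
  have hW := weak_orthogonality hM hBl (x := (1 : G)) (y := J) (by simp) (by rw [hJ2])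
  obtain ⟨d1, d2, d3, d12, d13, d23⟩ := hdist
  let one : IrrCharacter G := ⟨fun _ => 1, isIrrCharacter_one⟩
  have hset : principalBlock M G = (({one, χ₁, χ₂, χ₃} : Finset (IrrCharacter G)) : Set (IrrCharacter G)) := by
    rw [hB]
    ext χ
    simp only [Set.mem_setOf_eq, Finset.coe_insert, Finset.coe_singleton, Set.mem_insert_iff,
      Set.mem_singleton_iff]
    exact or_congr_left ⟨fun h => Subtype.ext h, fun h => congrArg Subtype.val h⟩
  have n1 : one ≠ χ₁ := fun h => d1 (congrArg Subtype.val h).symm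
  have n2 : one ≠ χ₂ := fun h => d2 (congrArg Subtype.val h).symm
  have n3 : one ≠ χ₃ := fun h => d3 (congrArg Subtype.val h).symm
  rw [hset, finsum_mem_coe_finset, Finset.sum_insert (by simp [n1, n2, n3]),
    Finset.sum_insert (by simp [d12, d13]), Finset.sum_insert (by simp [d23]),
    Finset.sum_singleton] at hO hW
  simp only [one, hval.1, hval.2.1, hval.2.2, map_intCast, map_one, one_mul, div_one, one_pow,
    ← charDegree_cast (IsIrrCharacter.isCharacter χ₁.2),
    ← charDegree_cast (IsIrrCharacter.isCharacter χ₂.2),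
    ← charDegree_cast (IsIrrCharacter.isCharacter χ₃.2)] at hO hW
  set x₁ := charDegree (χ₁ : G → ℂ) with hx₁
  set x₂ := charDegree (χ₂ : G → ℂ) with hx₂
  set x₃ := charDegree (χ₃ : G → ℂ) with hx₃
  set n := Nat.card G
  set c := Nat.card (Subgroup.centralizer ({J} : Set G)) with hc
  set r := Nat.card (Subgroup.centralizer ((P : Subgroup G) : Set G)) with hr
  have p1 : (x₁ : ℚ) ≠ 0 := Nat.cast_ne_zero.mpr (charDegree_pos χ₁.2).ne'
  have p2 : (x₂ : ℚ) ≠ 0 := Nat.cast_ne_zero.mpr (charDegree_pos χ₂.2).ne'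
  have p3 : (x₃ : ℚ) ≠ 0 := Nat.cast_ne_zero.mpr (charDegree_pos χ₃.2).ne'
  have hOQ : 8 * (c : ℚ) ^ 3 = (n : ℚ) * (r : ℚ) ^ 2 * (1 + ((ε₁ : ℚ) * (ε₁ : ℚ) ^ 2 / x₁ +
      ((ε₂ : ℚ) * (ε₂ : ℚ) ^ 2 / x₂ + (ε₃ : ℚ) * (ε₃ : ℚ) ^ 2 / x₃))) := by
    refine Rat.cast_injective (α := ℂ) ?_
    push_cast
    linear_combination hO
  have hWQ : 1 + (x₁ : ℚ) * ε₁ + ((x₂ : ℚ) * ε₂ + (x₃ : ℚ) * ε₃) = 0 := by
    refine Rat.cast_injective (α := ℂ) ?_
    push_cast
    linear_combination hW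
  obtain ⟨s1, s2, s3⟩ := hε
  have q1 : (ε₁ : ℚ) * ε₁ = 1 := by rcases s1 with rfl | rfl <;> norm_num
  have q2 : (ε₂ : ℚ) * ε₂ = 1 := by rcases s2 with rfl | rfl <;> norm_num
  have q3 : (ε₃ : ℚ) * ε₃ = 1 := by rcases s3 with rfl | rfl <;> norm_num
  set e₁ := (ε₁ : ℚ)
  set e₂ := (ε₂ : ℚ)
  set e₃ := (ε₃ : ℚ)
  have hprod : (x₁ + e₁) * (x₂ + e₂) * (x₃ + e₃) =
      (x₁ : ℚ) * x₂ * x₃ * (1 + (e₁ * e₁ ^ 2 / x₁ + (e₂ * e₂ ^ 2 / x₂ + e₃ * e₃ ^ 2 / x₃))) := by
    field_simp
    linear_combination e₁ * e₂ * e₃ * hWQ -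
      (x₂ * x₃ * e₁ + e₂ * e₃ * x₁) * q1 - (x₁ * x₃ * e₂ + e₁ * e₃ * x₂) * q2 -
      (x₁ * x₂ * e₃ + e₁ * e₂ * x₃) * q3
  have hc0 : (c : ℚ) ≠ 0 := Nat.cast_ne_zero.mpr Nat.card_pos.ne'
  have hr0 : (r : ℚ) ≠ 0 := Nat.cast_ne_zero.mpr Nat.card_pos.ne'
  have hS0 : 1 + (e₁ * e₁ ^ 2 / x₁ + (e₂ * e₂ ^ 2 / x₂ + e₃ * e₃ ^ 2 / x₃)) ≠ 0 := fun h => by
    rw [h, mul_zero] at hOQ
    exact hc0 (by simpa using hOQ)
  rw [hprod, div_mul_cancel_left₀ (mul_ne_zero (mul_ne_zero p1 p2) p3), eq_div_iff (pow_ne_zero 2 hr0)]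
  rw [mul_right_comm (8 : ℚ), hOQ, mul_assoc (_ * _), mul_inv_cancel₀ hS0, mul_one]

end Cfsg.Agent.S4479
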