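import Cfsg.Statements.S4481
import Cfsg.Agent.Lib.Block.DihedralPrincipal

set_option autoImplicit false
open Cfsg

namespace Cfsg.Agent.S4481

open Cfsg.Agent Cfsg.Agent.Block

universe w

theorem dih_of_equiv {G : Type w} [Group G] [Finite G] {P : Sylow 2 G} {n : ℕ} (hn : 3 ≤ n)
    (e : (P : Subgroup G) ≃* DihedralGroup (2 ^ (n - 1))) {σ : G} (hσ : σ ∈ (P : Subgroup G))
    (hσo : orderOf σ = 2 ^ (n - 1)) : ∃ τ : G, DihPrincipal.Dih P n σ τ := by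
  haveI : NeZero (2 ^ (n - 1)) := ⟨by positivity⟩
  have h4 : 2 < 2 ^ (n - 1) := by
    calc 2 < 2 ^ 2 := by norm_num
      _ ≤ 2 ^ (n - 1) := Nat.pow_le_pow_right (by norm_num) (by omega)
  have ho : orderOf (e ⟨σ, hσ⟩) = 2 ^ (n - 1) := by rw [MulEquiv.orderOf_eq, Subgroup.orderOf_mk, hσo]
  obtain ⟨i, hi⟩ : ∃ i, e ⟨σ, hσ⟩ = DihedralGroup.r i := by
    rcases he : e ⟨σ, hσ⟩ with i | i
    · exact ⟨i, rfl⟩
    · rw [he, DihedralGroup.orderOf_sr] at ho; omega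
  have hgen : ∀ k, ∃ a : ℕ, DihedralGroup.r k = (e ⟨σ, hσ⟩) ^ a := by
    intro k
    have hle : Subgroup.zpowers (e ⟨σ, hσ⟩) ≤ Subgroup.zpowers (DihedralGroup.r 1) := by
      rw [Subgroup.zpowers_le, hi, ← ZMod.natCast_zmod_val i, ← DihedralGroup.r_one_pow]
      exact Subgroup.pow_mem _ (Subgroup.mem_zpowers _) _
    have heq := Subgroup.eq_of_le_of_card_ge hle (by
      rw [Nat.card_zpowers, Nat.card_zpowers, ho, DihedralGroup.orderOf_r_one])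
    have hk : DihedralGroup.r k ∈ Subgroup.zpowers (e ⟨σ, hσ⟩) := by
      rw [heq, ← ZMod.natCast_zmod_val k, ← DihedralGroup.r_one_pow]
      exact Subgroup.pow_mem _ (Subgroup.mem_zpowers _) _
    obtain ⟨a, -, ha⟩ := (IsOfFinOrder.mem_zpowers_iff_mem_range_orderOf (isOfFinOrder_of_finite _)).1 hk
      |> Finset.mem_image.1
    exact ⟨a, ha.symm⟩
  set t : (P : Subgroup G) := e.symm (DihedralGroup.sr 0) with ht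
  refine ⟨t, hn, hσ, t.2, hσo, ?_, ?_, fun x hx => ?_⟩
  · have : t * t = 1 := by rw [ht, ← map_mul, DihedralGroup.sr_mul_self, map_one]
    exact congrArg Subtype.val this
  · have : t * ⟨σ, hσ⟩ * t⁻¹ = ⟨σ, hσ⟩⁻¹ := e.injective (by
      rw [map_mul, map_mul, map_inv, map_inv, ht, e.apply_symm_apply, hi, DihedralGroup.inv_r,
        DihedralGroup.inv_sr, DihedralGroup.sr_mul_r, DihedralGroup.sr_mul_sr]
      simp)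
    exact congrArg Subtype.val this
  · rcases hex : e ⟨x, hx⟩ with k | k
    · obtain ⟨a, ha⟩ := hgen k
      rw [ha, ← map_pow] at hex
      exact ⟨a, Or.inl (congrArg Subtype.val (e.injective hex))⟩
    · obtain ⟨a, ha⟩ := hgen (-k)
      have h2 : (⟨x, hx⟩ : (P : Subgroup G)) = ⟨σ, hσ⟩ ^ a * t := e.injective (by
        rw [hex, map_mul, map_pow, ← ha, ht, e.apply_symm_apply, DihedralGroup.r_mul_sr]
        simp)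
      exact ⟨a, Or.inr (congrArg Subtype.val h2)⟩

/-- The principal 2-block of a group with dihedral Sylow 2-subgroups. Let G be a finite group whose Sylow 2-subgroup P is dihedral of order 2^n ≥ 8, let σ be an element of P of order 2^(n−1), ζ a primitive 2^(n−1)-th root of unity, and M a maximal ideal of the algebraic integers containing 2. Then the principal 2-block consists of exactly 3 + 2^(n−2) irreducible characters, which can be labelled 1, χ₁, χ₂, χ₃ and χ^(j) for 1 ≤ j ≤ 2^(n−2) − 1 (all distinct), with signs δ₁, δ₂, δ₃ such that for 0 < λ < 2^(n−1): χ₁(σ^λ) = δ₁, χ₂(σ^λ) = δ₂(−1)^(λ+1), χ₃(σ^λ) = δ₃(−1)^(λ+1) and χ^(j)(σ^λ) = δ₁(ζ^(jλ) + ζ^(−jλ)); and for every element ρ of odd order and every j: 1 + δ₁χ₁(ρ) = −δ₂χ₂(ρ) − δ₃χ₃(ρ) = δ₁χ^(j)(ρ). -/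
theorem result {G : Type*} [Group G] [Finite G] (M : Ideal Cfsg.AlgInt) (hM : Cfsg.IsPModular 2 M) (n : ℕ) (hn : 3 ≤ n) (P : Sylow 2 G) (hP : Nonempty ((P : Subgroup G) ≃* DihedralGroup (2 ^ (n - 1)))) (σ : G) (hσ : σ ∈ (P : Subgroup G)) (hσo : orderOf σ = 2 ^ (n - 1)) (ζ : ℂ) (hζ : IsPrimitiveRoot ζ (2 ^ (n - 1))) : Nat.card (Cfsg.principalBlock M G) = 3 + 2 ^ (n - 2) ∧ ∃ (χ₁ χ₂ χ₃ : Cfsg.IrrCharacter G) (χ' : Fin (2 ^ (n - 2) - 1) → Cfsg.IrrCharacter G) (δ₁ δ₂ δ₃ : ℤ), (δ₁ = 1 ∨ δ₁ = -1) ∧ (δ₂ = 1 ∨ δ₂ = -1) ∧ (δ₃ = 1 ∨ δ₃ = -1) ∧ Function.Injective χ' ∧ (χ₁ : G → ℂ) ≠ (fun _ => 1) ∧ (χ₂ : G → ℂ) ≠ (fun _ => 1) ∧ (χ₃ : G → ℂ) ≠ (fun _ => 1) ∧ χ₁ ≠ χ₂ ∧ χ₁ ≠ χ₃ ∧ χ₂ ≠ χ₃ ∧ (∀ j, χ' j ≠ χ₁ ∧ χ' j ≠ χ₂ ∧ χ' j ≠ χ₃ ∧ (χ' j : G → ℂ) ≠ (fun _ => 1)) ∧ Cfsg.principalBlock M G = {χ : Cfsg.IrrCharacter G | (χ : G → ℂ) = (fun _ =>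 1) ∨ χ = χ₁ ∨ χ = χ₂ ∨ χ = χ₃ ∨ ∃ j, χ = χ' j} ∧ (∀ l : ℕ, 0 < l → l < 2 ^ (n - 1) → (χ₁ : G → ℂ) (σ ^ l) = δ₁ ∧ (χ₂ : G → ℂ) (σ ^ l) = δ₂ * (-1) ^ (l + 1) ∧ (χ₃ : G → ℂ) (σ ^ l) = δ₃ * (-1) ^ (l + 1) ∧ ∀ j : Fin (2 ^ (n - 2) - 1), (χ' j : G → ℂ) (σ ^ l) = δ₁ * (ζ ^ (((j : ℕ) + 1) * l) + (ζ ^ (((j : ℕ) + 1) * l))⁻¹)) ∧ ∀ ρ : G, Odd (orderOf ρ) → ∀ j : Fin (2 ^ (n - 2) - 1), 1 + δ₁ * (χ₁ : G → ℂ) ρ = -δ₂ * (χ₂ : G → ℂ) ρ - δ₃ * (χ₃ : G → ℂ) ρ ∧ 1 + δ₁ * (χ₁ : G → ℂ) ρ = δ₁ * (χ' j : G → ℂ) ρ := by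
  obtain ⟨e⟩ := hP
  obtain ⟨τ, h⟩ := dih_of_equiv hn e hσ hσo
  obtain ⟨one, x₁, x₂, x₃, η, δ₁, δ₂, δ₃, D⟩ := h.exists_data hM hζ
  obtain ⟨hq, hm⟩ := h.half
  classical
  have heq : ∀ χ : IrrCharacter G, (χ : G → ℂ) = (fun _ => 1) ↔ χ = one := fun χ =>
    ⟨fun hχ => Subtype.ext (hχ.trans D.hone.symm), fun hχ => hχ ▸ D.hone⟩
  have hset : Cfsg.principalBlock M G = ↑({one, x₁, x₂, x₃} ∪ Finset.univ.image η : Finset (IrrCharacter G)) := by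
    classical
    ext χ
    rw [D.mem_iff]
    simp [or_assoc, eq_comm]
  refine ⟨?_, x₁, x₂, x₃, η, δ₁, δ₂, δ₃, D.sign₁, D.sign₂, D.sign₃, D.inj, fun e => D.ne₁ ((heq _).1 e),
    fun e => D.ne₂ ((heq _).1 e), fun e => D.ne₃ ((heq _).1 e), D.ne₁₂, D.ne₁₃, D.ne₂₃, ?_, ?_, ?_, ?_⟩
  · classical
    rw [hset, Nat.card_coe_set_eq, Set.ncard_coe_finset, Finset.card_union_of_disjoint,
      Finset.card_image_of_injective _ D.inj, Finset.card_fin,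
      Finset.card_insert_of_notMem (by simp [D.ne₁.symm, D.ne₂.symm, D.ne₃.symm]),
      Finset.card_insert_of_notMem (by simp [D.ne₁₂, D.ne₁₃]),
      Finset.card_insert_of_notMem (by simp [D.ne₂₃]), Finset.card_singleton]
    · omega
    · rw [Finset.disjoint_right]
      intro χ hχ
      obtain ⟨i, -, rfl⟩ := Finset.mem_image.1 hχ
      simp [(D.ne_η i).1, (D.ne_η i).2.1, (D.ne_η i).2.2.1, (D.ne_η i).2.2.2]
  · exact fun j => ⟨(D.ne_η j).2.1, (D.ne_η j).2.2.1, (D.ne_η j).2.2.2, fun e => (D.ne_η j).1 ((heq _).1 e)⟩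
  · ext χ
    rw [D.mem_iff, Set.mem_setOf_eq, heq]
  · exact fun l h0 hl => ⟨D.val₁ l h0 hl, D.val₂ l h0 hl, D.val₃ l h0 hl, D.valη l h0 hl⟩
  · intro ρ hρ j
    have hρ' : ¬ 2 ∣ orderOf ρ := hρ.not_two_dvd_nat
    exact ⟨by linear_combination D.rel₂ ρ hρ', D.relη ρ hρ' j⟩

end Cfsg.Agent.S4481
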