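import Cfsg.Statements.S4482
import Cfsg.Agent.Lib.Block.DihedralPrincipal
import Cfsg.Agent.Lib.Char.Central
import Cfsg.Agent.S4479

set_option autoImplicit false
open Cfsg

namespace Cfsg.Agent.S4482

open Cfsg.Agent Cfsg.Agent.Char Cfsg.Agent.Block Cfsg.Agent.Block.DihPrincipal
open scoped ComplexConjugate Classical

universe w

set_option linter.unusedSectionVars false
set_option linter.style.haveILetI false

variable {G : Type w} [Group G] [Finite G] {M : Ideal AlgInt} {P : Sylow 2 G} {n : ℕ} {σ τ : G}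

theorem dih_of_closure (hn : 3 ≤ n) (hσ : σ ∈ (P : Subgroup G)) (hτ : τ ∈ (P : Subgroup G))
    (hσo : orderOf σ = 2 ^ (n - 1)) (hτo : orderOf τ = 2) (hrel : τ * σ * τ⁻¹ = σ⁻¹)
    (hgen : Subgroup.closure ({σ, τ} : Set G) = (P : Subgroup G)) : Dih P n σ τ := by
  have hττ : τ * τ = 1 := by
    have := pow_orderOf_eq_one τ
    rwa [hτo, pow_two] at this
  refine ⟨hn, hσ, hτ, hσo, hττ, hrel, fun x hx => ?_⟩
  have hinv : ∀ i : ℕ, (σ ^ i)⁻¹ = σ ^ ((2 ^ (n - 1) - 1) * i) := fun i => by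
    refine inv_eq_of_mul_eq_one_left ?_
    rw [← pow_add, ← Nat.succ_mul, Nat.succ_eq_add_one, Nat.sub_add_cancel (Nat.one_le_two_pow), pow_mul,
      ← hσo, pow_orderOf_eq_one, one_pow]
  have hτσ : ∀ i : ℕ, τ * σ ^ i = σ ^ ((2 ^ (n - 1) - 1) * i) * τ := fun i => by
    rw [← hinv, ← mul_inv_eq_iff_eq_mul, ← conj_pow, hrel, inv_pow]
  rw [← hgen] at hx
  induction hx using Subgroup.closure_induction with
  | mem y hy =>
    rcases hy with rfl | rfl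
    · exact ⟨1, Or.inl (pow_one _).symm⟩
    · exact ⟨0, Or.inr (by rw [pow_zero, one_mul])⟩
  | one => exact ⟨0, Or.inl (pow_zero _).symm⟩
  | mul y z _ _ ihy ihz =>
    obtain ⟨i, rfl | rfl⟩ := ihy <;> obtain ⟨k, rfl | rfl⟩ := ihz
    · exact ⟨i + k, Or.inl (pow_add σ i k).symm⟩
    · exact ⟨i + k, Or.inr (by rw [pow_add, mul_assoc])⟩
    · exact ⟨i + (2 ^ (n - 1) - 1) * k, Or.inr (by rw [pow_add, mul_assoc, hτσ, mul_assoc])⟩
    · refine ⟨i + (2 ^ (n - 1) - 1) * k, Or.inl ?_⟩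
      rw [pow_add, mul_assoc, ← mul_assoc τ, hτσ, mul_assoc _ τ τ, hττ, mul_one]
  | inv y _ ihy =>
    obtain ⟨i, rfl | rfl⟩ := ihy
    · exact ⟨_, Or.inl (hinv i)⟩
    · refine ⟨i, Or.inr (inv_eq_of_mul_eq_one_right ?_)⟩
      rw [mul_assoc, ← mul_assoc τ, hτσ, mul_assoc _ τ τ, hττ, mul_one, ← hinv, mul_inv_cancel]

/-- Conjugation of a reflection by a rotation. -/
theorem refl_conj (h : Dih P n σ τ) (i j : ℕ) :
    σ ^ j * (σ ^ i * τ) * (σ ^ j)⁻¹ = σ ^ (i + 2 * j) * τ := by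
  rw [← h.refl_inv j, show σ ^ j * (σ ^ i * τ) * (τ * σ ^ j * τ⁻¹) = σ ^ j * σ ^ i * (τ * τ) * σ ^ j * τ⁻¹ by group,
    h.sqτ, mul_one, inv_eq_of_mul_eq_one_right h.sqτ, ← pow_add, ← pow_add]
  congr 2
  omega

theorem refl_parity (h : Dih P n σ τ) (i : ℕ) :
    (∃ j, σ ^ i * τ = σ ^ j * τ * (σ ^ j)⁻¹) ∨ (∃ j, σ ^ i * τ = σ ^ j * (σ * τ) * (σ ^ j)⁻¹) := by
  rcases Nat.even_or_odd i with ⟨j, rfl⟩ | ⟨j, rfl⟩
  · exact Or.inl ⟨j, by rw [← two_mul, ← zero_add (2 * j), ← refl_conj h 0 j, pow_zero, one_mul]⟩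
  · exact Or.inr ⟨j, by rw [add_comm, ← refl_conj h 1 j, pow_one]⟩

theorem refl_ne_pow (h : Dih P n σ τ) (i k : ℕ) : σ ^ i * τ ≠ σ ^ k := fun e => by
  refine h.τ_notMem (k + (2 ^ (n - 1) - 1) * i) ?_
  have hinv : σ ^ ((2 ^ (n - 1) - 1) * i) * σ ^ i = 1 := by
    rw [← pow_add, ← Nat.succ_mul, Nat.succ_eq_add_one, Nat.sub_add_cancel (Nat.one_le_two_pow), pow_mul,
      ← h.orderσ, pow_orderOf_eq_one, one_pow]
  rw [pow_add, ← (Commute.pow_pow_self σ _ _).eq, ← e, ← mul_assoc, hinv, one_mul]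

theorem sq_eq_one_of_orderOf {u : G} (hu : orderOf u = 2) : u * u = 1 := by
  have := pow_orderOf_eq_one u
  rwa [hu, pow_two] at this

theorem exists_conj_mem (C : Subgroup G) (hPC : (P : Subgroup G) ≤ C) {u : G} (huC : u ∈ C) {k : ℕ}
    (hu : orderOf u = 2 ^ k) : ∃ d ∈ C, ∃ r ∈ (P : Subgroup G), d * r * d⁻¹ = u := by
  haveI : Fact (Nat.Prime 2) := ⟨Nat.prime_two⟩
  let u' : C := ⟨u, huC⟩
  obtain ⟨Q, hQ⟩ := (IsPGroup.of_card (n := k) (by
    rw [Nat.card_zpowers, ← Subgroup.orderOf_coe, show ((u' : C) : G) = u from rfl, hu]) :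
      IsPGroup 2 (Subgroup.zpowers u')).exists_le_sylow
  obtain ⟨d, rfl⟩ := MulAction.exists_smul_eq C (P.subtype hPC) Q
  obtain ⟨r, hr, hrs⟩ := hQ (Subgroup.mem_zpowers u')
  exact ⟨d, d.2, r, hr, congrArg Subtype.val hrs⟩

theorem isConj_of_involution (h : Dih P n σ τ)
    (hconj : IsConj (σ ^ (2 ^ (n - 2))) τ ∧ IsConj (σ ^ (2 ^ (n - 2))) (σ * τ)) {u : G} (hu : orderOf u = 2) :
    IsConj (σ ^ (2 ^ (n - 2))) u := by
  obtain ⟨d, -, r, hr, hd⟩ := exists_conj_mem (P := P) ⊤ le_top (Subgroup.mem_top u) (k := 1) (by rw [hu, pow_one])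
  refine IsConj.trans ?_ (isConj_iff.2 ⟨d, hd⟩)
  obtain ⟨i, rfl | rfl⟩ := h.cover r hr
  · have ho : orderOf (σ ^ i) = 2 := by
      rw [← hu, ← hd, show d * σ ^ i * d⁻¹ = MulAut.conj d (σ ^ i) from rfl, MulEquiv.orderOf_eq]
    rw [h.eq_J_of_sq (sq_eq_one_of_orderOf ho) fun e => by rw [e, orderOf_one] at ho; omega]
  · rcases refl_parity h i with ⟨j, hj⟩ | ⟨j, hj⟩
    · rw [hj]; exact hconj.1.trans (isConj_iff.2 ⟨σ ^ j, rfl⟩)
    · rw [hj]; exact hconj.2.trans (isConj_iff.2 ⟨σ ^ j, rfl⟩)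

theorem eq_half_pow {g a : G} (ha : a ∈ Subgroup.zpowers g) (ha2 : orderOf a = 2) :
    2 ∣ orderOf g ∧ a = g ^ (orderOf g / 2) := by
  obtain ⟨s, -, rfl⟩ := (IsOfFinOrder.mem_zpowers_iff_mem_range_orderOf (isOfFinOrder_of_finite g)).1 ha
    |> Finset.mem_image.1
  have hd : 2 ∣ orderOf g := ha2 ▸ orderOf_pow_dvd s
  refine ⟨hd, ?_⟩
  obtain ⟨e, he⟩ := hd
  have h1 : orderOf g ∣ s * 2 := orderOf_dvd_of_pow_eq_one (by rw [pow_mul, ← ha2, pow_orderOf_eq_one])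
  rw [he, mul_comm s, Nat.mul_dvd_mul_iff_left two_pos] at h1
  obtain ⟨t, rfl⟩ := h1
  rw [he, Nat.mul_div_cancel_left _ two_pos]
  have h2 : (g ^ e) ^ 2 = 1 := by rw [← pow_mul, mul_comm, ← he, pow_orderOf_eq_one]
  rcases Nat.even_or_odd t with ⟨t', rfl⟩ | ⟨t', rfl⟩
  · rw [pow_mul, ← two_mul, pow_mul, h2, one_pow, orderOf_one] at ha2; omega
  · rw [pow_mul, pow_succ (g ^ e), pow_mul, h2, one_pow, one_mul]

/-- The sum of a character over the non-identity rotations and the central involution. -/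
noncomputable def wt (n : ℕ) (σ : G) (χ : IrrCharacter G) : ℂ :=
  (∑ l ∈ Finset.Ico 1 (2 ^ (n - 1)), (χ : G → ℂ) (σ ^ l)) + (χ : G → ℂ) (σ ^ (2 ^ (n - 2)))

/-- The test function. -/
noncomputable def tf (M : Ideal AlgInt) (n : ℕ) (σ : G) (g : G) : ℂ :=
  ∑ χ ∈ (principalBlock M G).toFinite.toFinset, wt n σ χ * (χ : G → ℂ) g

theorem tf_eq_kernel (h : Dih P n σ τ) (g : G) :
    tf M n σ g = (∑ l ∈ Finset.Ico 1 (2 ^ (n - 1)), blockKernel (principalBlock M G) g (σ ^ l)) +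
      blockKernel (principalBlock M G) g (σ ^ (2 ^ (n - 2))) := by
  simp only [tf, wt, blockKernel, finsum_mem_eq_finite_toFinset_sum _ (principalBlock M G).toFinite,
    add_mul, Finset.sum_mul, Finset.sum_add_distrib, h.conj_apply]
  rw [Finset.sum_comm]
  congr 1
  · exact Finset.sum_congr rfl fun l _ => Finset.sum_congr rfl fun χ _ => mul_comm _ _
  · exact Finset.sum_congr rfl fun χ _ => mul_comm _ _

theorem tf_regular (h : Dih P n σ τ) (hM : IsPModular 2 M) {g : G} (hg : ¬ 2 ∣ orderOf g) :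
    tf M n σ g = 0 := by
  haveI : Fact (Nat.Prime 2) := ⟨Nat.prime_two⟩
  obtain ⟨hq, hm⟩ := h.half
  have hB : IsPBlock M (principalBlock M G) := ⟨⟨fun _ => 1, isIrrCharacter_one⟩, rfl⟩
  have hz : ∀ l, 0 < l → l < 2 ^ (n - 1) → blockKernel (principalBlock M G) g (σ ^ l) = 0 := fun l h0 hl =>
    blockKernel_eq_zero hM hB fun hiff => hg (hiff.2
      (AbTI.dvd_orderOf_of_mem ((P : Subgroup G).pow_mem h.memσ l) (h.pow_ne_one h0 hl)))
  rw [tf_eq_kernel h, hz _ (by omega) (by omega), add_zero]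
  exact Finset.sum_eq_zero fun l hl => hz l (Finset.mem_Ico.1 hl).1 (Finset.mem_Ico.1 hl).2

theorem tf_pow (h : Dih P n σ τ) (hM : IsPModular 2 M) {a : ℕ} (ha : σ ^ a ≠ 1) :
    tf M n σ (σ ^ a) = 2 * (2 ^ (n - 1) : ℂ) * (1 + if σ ^ a = σ ^ (2 ^ (n - 2)) then 1 else 0) := by
  obtain ⟨hq, hm⟩ := h.half
  have ha' : σ ^ a = σ ^ (a % 2 ^ (n - 1)) := h.pow_eq_pow.2 (Nat.mod_mod _ _).symm
  set b := a % 2 ^ (n - 1) with hb
  have hb0 : 0 < b := Nat.pos_of_ne_zero fun e => ha (by rw [ha', e, pow_zero])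
  have hbq : b < 2 ^ (n - 1) := Nat.mod_lt _ (by omega)
  have hsingle : ∀ c, 0 < c → c < 2 ^ (n - 1) →
      ∑ l ∈ Finset.Ico 1 (2 ^ (n - 1)), (if σ ^ l = σ ^ c then (1 : ℂ) else 0) = 1 := by
    intro c hc0 hc
    rw [Finset.sum_eq_single c (fun l hl hne => if_neg ?_) (fun e => absurd (Finset.mem_Ico.2 ⟨hc0, hc⟩) e),
      if_pos rfl]
    rw [h.pow_eq_pow, Nat.mod_eq_of_lt (Finset.mem_Ico.1 hl).2, Nat.mod_eq_of_lt hc]
    exact hne
  rw [tf_eq_kernel h, Finset.sum_congr rfl fun l _ => h.kernel hM ha, h.kernel hM ha, ← Finset.mul_sum,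
    Finset.sum_add_distrib, ha', ← h.pow_inv hbq.le, hsingle b hb0 hbq, hsingle _ (by omega) (by omega)]
  have e : σ ^ (2 ^ (n - 2)) = σ ^ (2 ^ (n - 1) - b) ↔ σ ^ b = σ ^ (2 ^ (n - 2)) := by
    rw [h.pow_eq_pow, h.pow_eq_pow, Nat.mod_eq_of_lt hbq, Nat.mod_eq_of_lt (by omega),
      Nat.mod_eq_of_lt (by omega)]
    omega
  have e' : σ ^ (2 ^ (n - 2)) = σ ^ b ↔ σ ^ b = σ ^ (2 ^ (n - 2)) := eq_comm
  simp only [e, e']
  split_ifs <;> ring

/-- The involutions of the centraliser of `J` other than `J`. -/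
noncomputable def U [Fintype G] (J : G) : Finset G :=
  Finset.univ.filter fun u => orderOf u = 2 ∧ Commute J u ∧ u ≠ J

variable [Fintype G]

theorem mem_U {J u : G} : u ∈ U J ↔ orderOf u = 2 ∧ Commute J u ∧ u ≠ J := by simp [U]

theorem U_refl (h : Dih P n σ τ) {u : G} (hu : u ∈ U (σ ^ (2 ^ (n - 2)))) :
    ∃ d ∈ Subgroup.centralizer ({σ ^ (2 ^ (n - 2))} : Set G), ∃ i : ℕ, d * (σ ^ i * τ) * d⁻¹ = u := by
  set J := σ ^ (2 ^ (n - 2)) with hJ
  obtain ⟨ho, hc, hne⟩ := mem_U.1 hu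
  obtain ⟨d, hdC, r, hr, hd⟩ := exists_conj_mem (P := P) (Subgroup.centralizer ({J} : Set G))
    (fun x hx => mem_centralizer_singleton.2 (h.J_comm hx)) (mem_centralizer_singleton.2 hc) (k := 1)
    (by rw [ho, pow_one])
  obtain ⟨i, rfl | rfl⟩ := h.cover r hr
  · exfalso
    have ho' : orderOf (σ ^ i) = 2 := by
      rw [← ho, ← hd, show d * σ ^ i * d⁻¹ = MulAut.conj d (σ ^ i) from rfl, MulEquiv.orderOf_eq]
    rw [h.eq_J_of_sq (sq_eq_one_of_orderOf ho') fun e => by rw [e, orderOf_one] at ho'; omega, ← hJ,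
      ← (mem_centralizer_singleton.1 hdC).eq, mul_inv_cancel_right] at hd
    exact hne hd.symm
  · exact ⟨d, hdC, i, hd⟩

theorem conj_mem_U {J s v : G} (hs : Commute J s) (hv : v ∈ U J) : s * v * s⁻¹ ∈ U J := by
  obtain ⟨ho, hc, hne⟩ := mem_U.1 hv
  refine mem_U.2 ⟨by rw [show s * v * s⁻¹ = MulAut.conj s v from rfl, MulEquiv.orderOf_eq, ho],
    (hs.mul_right hc).mul_right hs.inv_right, fun e => hne ?_⟩
  rw [mul_inv_eq_iff_eq_mul, hs.eq] at e
  exact mul_left_cancel e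

theorem mul_mem_centralizer {J u v : G} (hu : u ∈ U J) (hv : v ∈ U J) :
    u * v ∈ Subgroup.centralizer ({J} : Set G) :=
  mem_centralizer_singleton.2 ((mem_U.1 hu).2.1.mul_right (mem_U.1 hv).2.1)

section Quotient

variable (h : Dih P n σ τ)

/-- The quotient map of the centraliser of `J` by its odd core. -/
noncomputable def pr (J : G) :
    Subgroup.centralizer ({J} : Set G) →*
      Subgroup.centralizer ({J} : Set G) ⧸ pPrimeCore 2 (Subgroup.centralizer ({J} : Set G)) :=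
  QuotientGroup.mk' _

include h

/-- The element of the centraliser of `J` given by an element of `P`. -/
def emb (x : G) (hx : x ∈ (P : Subgroup G)) : Subgroup.centralizer ({σ ^ (2 ^ (n - 2))} : Set G) :=
  ⟨x, mem_centralizer_singleton.2 (h.J_comm hx)⟩

theorem pr_eq_one_iff (x : Subgroup.centralizer ({σ ^ (2 ^ (n - 2))} : Set G)) :
    pr (σ ^ (2 ^ (n - 2))) x = 1 ↔ ¬ 2 ∣ orderOf (x : G) := by
  haveI : Fact (Nat.Prime 2) := ⟨Nat.prime_two⟩
  rw [Subgroup.orderOf_coe, ← regular_iff_mem_pPrimeCore h.npc_J.1]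
  exact QuotientGroup.eq_one_iff x

theorem pr_inj {x y : G} (hx : x ∈ (P : Subgroup G)) (hy : y ∈ (P : Subgroup G))
    (e : pr (σ ^ (2 ^ (n - 2))) (emb h x hx) = pr (σ ^ (2 ^ (n - 2))) (emb h y hy)) : x = y := by
  haveI : Fact (Nat.Prime 2) := ⟨Nat.prime_two⟩
  have h1 : pr (σ ^ (2 ^ (n - 2))) ((emb h x hx)⁻¹ * emb h y hy) = 1 := by
    rw [map_mul, map_inv, e, inv_mul_cancel]
  rw [pr_eq_one_iff h] at h1
  by_contra hne
  exact h1 (AbTI.dvd_orderOf_of_mem (P := P) ((P : Subgroup G).mul_mem ((P : Subgroup G).inv_mem hx) hy)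
    fun e' => hne (inv_mul_eq_one.1 e'))

theorem pr_surj (c : Subgroup.centralizer ({σ ^ (2 ^ (n - 2))} : Set G)) :
    ∃ p, ∃ hp : p ∈ (P : Subgroup G), pr (σ ^ (2 ^ (n - 2))) (emb h p hp) = pr (σ ^ (2 ^ (n - 2))) c := by
  haveI : Fact (Nat.Prime 2) := ⟨Nat.prime_two⟩
  let φ : ↥(P : Subgroup G) → Subgroup.centralizer ({σ ^ (2 ^ (n - 2))} : Set G) ⧸
      pPrimeCore 2 (Subgroup.centralizer ({σ ^ (2 ^ (n - 2))} : Set G)) :=
    fun x => pr (σ ^ (2 ^ (n - 2))) (emb h x x.2)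
  have hb : Function.Bijective φ :=
    (Nat.bijective_iff_injective_and_card φ).2 ⟨fun x y e => Subtype.ext (pr_inj h x.2 y.2 e), by
      rw [← Subgroup.index_eq_card, index_eq_ordProj_of_regular h.npc_J.1, h.npc_J.2]
      exact h.card⟩
  obtain ⟨p, hp⟩ := hb.2 (pr (σ ^ (2 ^ (n - 2))) c)
  exact ⟨p, p.2, hp⟩

theorem pr_conj_mem {d : G} (hd : d ∈ Subgroup.centralizer ({σ ^ (2 ^ (n - 2))} : Set G)) {r : G}
    (hr : r ∈ (P : Subgroup G)) {x : Subgroup.centralizer ({σ ^ (2 ^ (n - 2))} : Set G)}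
    (hx : d * r * d⁻¹ = x) : ∃ p, ∃ hp : p ∈ (P : Subgroup G), pr (σ ^ (2 ^ (n - 2))) x =
      pr (σ ^ (2 ^ (n - 2))) (emb h (p * r * p⁻¹)
        ((P : Subgroup G).mul_mem ((P : Subgroup G).mul_mem hp hr) ((P : Subgroup G).inv_mem hp))) := by
  obtain ⟨p, hp, he⟩ := pr_surj h ⟨d, hd⟩
  refine ⟨p, hp, ?_⟩
  have e1 : x = ⟨d, hd⟩ * emb h r hr * (⟨d, hd⟩ : Subgroup.centralizer ({σ ^ (2 ^ (n - 2))} : Set G))⁻¹ :=
    Subtype.ext hx.symm
  rw [e1, map_mul, map_mul, map_inv, ← he, ← map_inv, ← map_mul, ← map_mul]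
  rfl

theorem pr_refl {u : G} (hu : u ∈ U (σ ^ (2 ^ (n - 2))))
    (huC : u ∈ Subgroup.centralizer ({σ ^ (2 ^ (n - 2))} : Set G)) :
    ∃ i : ℕ, pr (σ ^ (2 ^ (n - 2))) ⟨u, huC⟩ = pr (σ ^ (2 ^ (n - 2))) (emb h (σ ^ i * τ)
      ((P : Subgroup G).mul_mem ((P : Subgroup G).pow_mem h.memσ i) h.memτ)) := by
  obtain ⟨d, hd, i, hi⟩ := U_refl h hu
  obtain ⟨p, hp, he⟩ := pr_conj_mem h hd ((P : Subgroup G).mul_mem ((P : Subgroup G).pow_mem h.memσ i) h.memτ)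
    (x := ⟨u, huC⟩) hi
  obtain ⟨k, hk | hk⟩ := h.cover _ ((P : Subgroup G).mul_mem ((P : Subgroup G).mul_mem hp
    ((P : Subgroup G).mul_mem ((P : Subgroup G).pow_mem h.memσ i) h.memτ)) ((P : Subgroup G).inv_mem hp))
  · exfalso
    obtain ⟨j, rfl | rfl⟩ := h.cover p hp
    · rw [refl_conj h i j] at hk; exact refl_ne_pow h _ _ hk
    · have h1 : σ ^ j * τ * (σ ^ i * τ) * (σ ^ j * τ)⁻¹ =
          σ ^ j * (τ * σ ^ i * τ⁻¹) * τ * (σ ^ j)⁻¹ := by group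
      rw [h1, h.refl_inv, (Commute.pow_pow_self σ j i).inv_right.eq, mul_assoc, mul_assoc, ← mul_assoc (σ ^ j),
        show σ ^ j * τ * (σ ^ j)⁻¹ = σ ^ j * (σ ^ 0 * τ) * (σ ^ j)⁻¹ by rw [pow_zero, one_mul],
        refl_conj h, inv_mul_eq_iff_eq_mul, ← pow_add] at hk
      exact refl_ne_pow h _ _ hk
  · exact ⟨k, by rw [he]; simp only [hk]⟩

theorem tf_of_pr (hM : IsPModular 2 M) {x : Subgroup.centralizer ({σ ^ (2 ^ (n - 2))} : Set G)} {a : ℕ}
    (ha : σ ^ a ≠ 1)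
    (e : pr (σ ^ (2 ^ (n - 2))) x = pr (σ ^ (2 ^ (n - 2))) (emb h (σ ^ a) ((P : Subgroup G).pow_mem h.memσ a))) :
    tf M n σ (x : G) = tf M n σ (σ ^ a) := by
  haveI : Fact (Nat.Prime 2) := ⟨Nat.prime_two⟩
  obtain ⟨X, Y, hXY, hXYc, ⟨k, hk⟩, hY, hXg, hYg⟩ := exists_isPPart Nat.prime_two (x : G)
  have hzle : Subgroup.zpowers (x : G) ≤ Subgroup.centralizer ({σ ^ (2 ^ (n - 2))} : Set G) :=
    Subgroup.zpowers_le.2 x.2
  obtain ⟨d, hd, r, hr, hdr⟩ := exists_conj_mem (P := P) (Subgroup.centralizer ({σ ^ (2 ^ (n - 2))} : Set G))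
    (fun z hz => mem_centralizer_singleton.2 (h.J_comm hz)) (hzle hXg) hk
  obtain ⟨p, hp, he⟩ := pr_conj_mem h hd hr (x := ⟨X, hzle hXg⟩) hdr
  have hXx : pr (σ ^ (2 ^ (n - 2))) ⟨X, hzle hXg⟩ = pr (σ ^ (2 ^ (n - 2))) x := by
    conv_rhs => rw [show x = ⟨X, hzle hXg⟩ * ⟨Y, hzle hYg⟩ from Subtype.ext hXY.symm, map_mul,
      (pr_eq_one_iff h ⟨Y, hzle hYg⟩).2 hY, mul_one]
  have hpa : p * r * p⁻¹ = σ ^ a := pr_inj h _ _ (he.symm.trans (hXx.trans e))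
  unfold tf
  refine Finset.sum_congr rfl fun χ hχ => ?_
  congr 1
  have hXa : (p * d⁻¹) * X * (p * d⁻¹)⁻¹ = σ ^ a := by rw [← hpa, ← hdr]; group
  have hx : (p * d⁻¹) * (x : G) * (p * d⁻¹)⁻¹ = σ ^ a * ((p * d⁻¹) * Y * (p * d⁻¹)⁻¹) := by
    rw [← hXa, ← hXY]; group
  rw [IsIrrCharacter.apply_isConj χ.2 (isConj_iff.2 ⟨p * d⁻¹, hx⟩ :
    IsConj (x : G) (σ ^ a * ((p * d⁻¹) * Y * (p * d⁻¹)⁻¹)))]
  refine h.section_value hM ((principalBlock M G).toFinite.mem_toFinset.1 hχ) ha ?_ ?_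
  · rw [← hXa]; exact (Commute.conj_iff _).2 hXYc
  · rwa [show (p * d⁻¹) * Y * (p * d⁻¹)⁻¹ = MulAut.conj (p * d⁻¹) Y from rfl, MulEquiv.orderOf_eq]

theorem U_pair (hM : IsPModular 2 M) {u v : G} (hu : u ∈ U (σ ^ (2 ^ (n - 2))))
    (hv : v ∈ U (σ ^ (2 ^ (n - 2)))) (hw : u * v ∈ Subgroup.centralizer ({σ ^ (2 ^ (n - 2))} : Set G)) :
    tf M n σ (u * v) = 2 * (2 ^ (n - 1) : ℂ) * (1 -
        (if pr (σ ^ (2 ^ (n - 2))) ⟨u * v, hw⟩ = 1 then 1 else 0) +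
        (if pr (σ ^ (2 ^ (n - 2))) ⟨u * v, hw⟩ =
          pr (σ ^ (2 ^ (n - 2))) (emb h _ ((P : Subgroup G).pow_mem h.memσ (2 ^ (n - 2)))) then 1 else 0)) ∧
      (pr (σ ^ (2 ^ (n - 2))) ⟨u * v, hw⟩ ≠ 1 → σ ^ (2 ^ (n - 2)) ∈ Subgroup.zpowers (u * v)) := by
  haveI : Fact (Nat.Prime 2) := ⟨Nat.prime_two⟩
  set J := σ ^ (2 ^ (n - 2)) with hJ
  have huC := mem_centralizer_singleton.2 (mem_U.1 hu).2.1
  have hvC := mem_centralizer_singleton.2 (mem_U.1 hv).2.1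
  obtain ⟨i, hi⟩ := pr_refl h hu huC
  obtain ⟨k, hk⟩ := pr_refl h hv hvC
  have hmem := fun a : ℕ => (P : Subgroup G).pow_mem h.memσ a
  obtain ⟨a, ha⟩ : ∃ a : ℕ, σ ^ i * τ * (σ ^ k * τ) = σ ^ a := ⟨i + (2 ^ (n - 1) - 1) * k, by
    rw [pow_add, mul_assoc, ← mul_assoc τ, h.τ_conj, mul_assoc _ τ τ, h.sqτ, mul_one]
    congr 1
    refine inv_eq_of_mul_eq_one_left ?_
    rw [← pow_add, ← Nat.succ_mul, Nat.succ_eq_add_one, Nat.sub_add_cancel (Nat.one_le_two_pow), pow_mul,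
      ← h.orderσ, pow_orderOf_eq_one, one_pow]⟩
  have hpr : pr J ⟨u * v, hw⟩ = pr J (emb h (σ ^ a) (hmem a)) := by
    rw [show (⟨u * v, hw⟩ : Subgroup.centralizer ({J} : Set G)) = ⟨u, huC⟩ * ⟨v, hvC⟩ from rfl, map_mul,
      hi, hk, ← map_mul]
    exact congrArg (pr J) (Subtype.ext ha)
  have hone : pr J (emb h (σ ^ a) (hmem a)) = 1 ↔ σ ^ a = 1 := by
    rw [pr_eq_one_iff h]
    exact ⟨fun h1 => by_contra fun h2 => h1 (AbTI.dvd_orderOf_of_mem (P := P) (hmem a) h2), fun h1 => by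
      show ¬ 2 ∣ orderOf (σ ^ a)
      rw [h1, orderOf_one]; omega⟩
  have hJe : pr J (emb h (σ ^ a) (hmem a)) = pr J (emb h J (hmem _)) ↔ σ ^ a = J :=
    ⟨fun e => pr_inj h _ _ e, fun e => congrArg (pr J) (Subtype.ext e)⟩
  have hJ1 : J ≠ 1 := fun e => by
    have := h.orderJ
    rw [← hJ, e, orderOf_one] at this; omega
  refine ⟨?_, fun hne => ?_⟩
  · rw [hpr]
    simp only [hone, hJe]
    by_cases h1 : σ ^ a = 1
    · rw [tf_regular h hM ((pr_eq_one_iff h ⟨u * v, hw⟩).1 (by rw [hpr, hone]; exact h1)), if_pos h1,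
        if_neg fun e => hJ1 ((hJe.1 e).symm.trans h1)]
      ring
    · rw [tf_of_pr h hM (x := ⟨u * v, hw⟩) h1 hpr, tf_pow h hM h1, if_neg h1, sub_zero]
      congr 2
      exact (if_congr hJe rfl rfl).symm
  · rw [hpr] at hne
    have h1 : σ ^ a ≠ 1 := fun e => hne (hone.2 e)
    have hcyc : J ∈ Subgroup.zpowers (σ ^ a) := by
      obtain ⟨j, hj⟩ := pow_orderOf_of_mem (P := P) (hmem a)
      rcases j with _ | j
      · exact absurd (orderOf_eq_one_iff.1 (hj.trans (pow_zero 2))) h1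
      have ho : orderOf ((σ ^ a) ^ (2 ^ j)) = 2 := by
        rw [orderOf_pow, hj, Nat.gcd_eq_right ⟨2, (pow_succ 2 j)⟩, pow_succ,
          Nat.mul_div_cancel_left _ (by positivity)]
      have e := sq_eq_one_of_orderOf ho
      rw [← pow_mul] at e ho
      have h2 := h.eq_J_of_sq e fun e' => by rw [e', orderOf_one] at ho; omega
      rw [hJ, ← h2, pow_mul]
      exact Subgroup.pow_mem _ (Subgroup.mem_zpowers _) _
    obtain ⟨s, -, hs⟩ := (IsOfFinOrder.mem_zpowers_iff_mem_range_orderOf (isOfFinOrder_of_finite _)).1 hcyc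
      |> Finset.mem_image.1
    have hs' : (σ ^ a) ^ s = J := hs
    set z : Subgroup.centralizer ({J} : Set G) := ⟨u * v, hw⟩ ^ s with hz
    let J' := emb h J (hmem _)
    have hy : ¬ 2 ∣ orderOf ((J'⁻¹ * z : Subgroup.centralizer ({J} : Set G)) : G) := by
      rw [← pr_eq_one_iff h, map_mul, map_inv, hz, map_pow, hpr, ← map_pow,
        show (emb h (σ ^ a) (hmem a)) ^ s = J' from Subtype.ext hs', inv_mul_cancel]
    set o := orderOf ((J'⁻¹ * z : Subgroup.centralizer ({J} : Set G)) : G) with ho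
    have hodd : Odd o := Nat.not_even_iff_odd.1 fun he => hy he.two_dvd
    have hc : Commute J ((J'⁻¹ * z : Subgroup.centralizer ({J} : Set G)) : G) :=
      mem_centralizer_singleton.1 (J'⁻¹ * z).2
    have hzo : (z : G) ^ o = J := by
      have : (z : G) = J * ((J'⁻¹ * z : Subgroup.centralizer ({J} : Set G)) : G) := by
        show (z : G) = J * (J⁻¹ * (z : G)); rw [mul_inv_cancel_left]
      rw [this, hc.mul_pow, ho, pow_orderOf_eq_one, mul_one, ← ho]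
      obtain ⟨t, ht⟩ := hodd
      rw [ht, pow_succ, pow_mul, pow_two, sq_eq_one_of_orderOf h.orderJ, one_pow, one_mul]
    have hfin : (z : G) ^ o ∈ Subgroup.zpowers (u * v) := by
      rw [hz]
      exact Subgroup.pow_mem _ (Subgroup.pow_mem _ (Subgroup.mem_zpowers _) s) o
    rw [hzo] at hfin
    exact hfin

theorem sum_U_pairs (hM : IsPModular 2 M) :
    ∑ u ∈ U (σ ^ (2 ^ (n - 2))), ∑ v ∈ U (σ ^ (2 ^ (n - 2))), tf M n σ (u * v) =
      2 * (2 ^ (n - 1) : ℂ) * ((U (σ ^ (2 ^ (n - 2)))).card : ℂ) ^ 2 := by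
  obtain ⟨hq, hm⟩ := h.half
  set J := σ ^ (2 ^ (n - 2)) with hJ
  have hJJ : J * J = 1 := sq_eq_one_of_orderOf h.orderJ
  set s := σ ^ (2 ^ (n - 3)) with hs
  have hs2 : σ ^ (2 * 2 ^ (n - 3)) = J := by
    rw [hJ, ← pow_succ']; congr 2; have := h.hn; omega
  have hsJ : Commute J s := Commute.pow_pow_self σ _ _
  let J' := emb h J ((P : Subgroup G).pow_mem h.memσ _)
  let s' := emb h s ((P : Subgroup G).pow_mem h.memσ _)
  have hshift : ∀ v (hv : v ∈ Subgroup.centralizer ({J} : Set G)), v ∈ U J →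
      pr J (s' * ⟨v, hv⟩ * s'⁻¹) = pr J ⟨v, hv⟩ * pr J J' := by
    intro v hv hvU
    obtain ⟨k, hk⟩ := pr_refl h hvU hv
    rw [map_mul, map_mul, map_inv, hk, ← map_inv, ← map_mul, ← map_mul, ← map_mul]
    refine congrArg (pr J) (Subtype.ext ?_)
    show s * (σ ^ k * τ) * s⁻¹ = σ ^ k * τ * J
    rw [hs, refl_conj h, pow_add, hs2, mul_assoc, (h.J_comm h.memτ).eq, mul_assoc]
  have key : ∀ u ∈ U J, ∑ v ∈ U J, tf M n σ (u * v) = 2 * (2 ^ (n - 1) : ℂ) * ((U J).card : ℂ) := by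
    intro u hu
    have hsum : ∀ v ∈ U J, tf M n σ (u * v) = 2 * (2 ^ (n - 1) : ℂ) * (1 -
        (if hv : v ∈ U J then (if pr J ⟨u * v, mul_mem_centralizer hu hv⟩ = 1 then 1 else 0) else 0) +
        (if hv : v ∈ U J then (if pr J ⟨u * v, mul_mem_centralizer hu hv⟩ = pr J J' then 1 else 0) else 0)) :=
      fun v hv => by
        rw [dif_pos hv, dif_pos hv]
        exact (U_pair h hM hu hv _).1
    rw [Finset.sum_congr rfl hsum, ← Finset.mul_sum, Finset.sum_add_distrib, Finset.sum_sub_distrib,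
      Finset.sum_const, nsmul_eq_mul, mul_one]
    have huC := mem_centralizer_singleton.2 (mem_U.1 hu).2.1
    have hcancel :
        ∑ v ∈ U J, (if hv : v ∈ U J then (if pr J ⟨u * v, mul_mem_centralizer hu hv⟩ = 1 then (1 : ℂ) else 0) else 0) =
        ∑ v ∈ U J, (if hv : v ∈ U J then (if pr J ⟨u * v, mul_mem_centralizer hu hv⟩ = pr J J' then (1 : ℂ) else 0) else 0) := by
      refine Finset.sum_nbij' (fun v => s * v * s⁻¹) (fun v => s⁻¹ * v * s⁻¹⁻¹)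
        (fun v hv => conj_mem_U hsJ hv) (fun v hv => conj_mem_U hsJ.inv_right hv)
        (fun v _ => by group) (fun v _ => by group) fun v hv => ?_
      have hvC := mem_centralizer_singleton.2 (mem_U.1 hv).2.1
      rw [dif_pos hv, dif_pos (conj_mem_U hsJ hv)]
      refine if_congr ?_ rfl rfl
      have e : pr J ⟨u * (s * v * s⁻¹), mul_mem_centralizer hu (conj_mem_U hsJ hv)⟩ =
          pr J ⟨u * v, mul_mem_centralizer hu hv⟩ * pr J J' := by
        rw [show (⟨u * (s * v * s⁻¹), mul_mem_centralizer hu (conj_mem_U hsJ hv)⟩ :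
            Subgroup.centralizer ({J} : Set G)) = ⟨u, huC⟩ * (s' * ⟨v, hvC⟩ * s'⁻¹) from rfl,
          map_mul, hshift v hvC hv, ← mul_assoc, ← map_mul]
        rfl
      rw [e, mul_eq_right]
    rw [hcancel, sub_add_cancel]
  rw [Finset.sum_congr rfl key, Finset.sum_const, nsmul_eq_mul]
  ring

end Quotient

theorem total_sum (h : Dih P n σ τ) (hM : IsPModular 2 M)
    (hconj : IsConj (σ ^ (2 ^ (n - 2))) τ ∧ IsConj (σ ^ (2 ^ (n - 2))) (σ * τ)) :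
    ∑ u ∈ Finset.univ.filter (IsConj (σ ^ (2 ^ (n - 2)))), ∑ v ∈ Finset.univ.filter (IsConj (σ ^ (2 ^ (n - 2)))),
        tf M n σ (u * v) =
      ((Subgroup.centralizer ({σ ^ (2 ^ (n - 2))} : Set G)).index : ℂ) *
        (2 * (2 ^ (n - 1) : ℂ) * ((U (σ ^ (2 ^ (n - 2)))).card : ℂ) ^ 2) := by
  haveI : Fact (Nat.Prime 2) := ⟨Nat.prime_two⟩
  set J := σ ^ (2 ^ (n - 2)) with hJ
  set K := Finset.univ.filter (IsConj J) with hK
  have hKord : ∀ x ∈ K, orderOf x = 2 := fun x hx => by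
    obtain ⟨t, rfl⟩ := isConj_iff.1 (Finset.mem_filter.1 hx).2
    rw [show t * J * t⁻¹ = MulAut.conj t J from rfl, MulEquiv.orderOf_eq, hJ, h.orderJ]
  have hmemK : ∀ x, orderOf x = 2 → x ∈ K := fun x hx =>
    Finset.mem_filter.2 ⟨Finset.mem_univ _, isConj_of_involution h hconj hx⟩
  -- split the pairs along the involution of the cyclic group they generate
  have hsplit : ∀ u v : G, tf M n σ (u * v) =
      ∑ J' ∈ K, if J' ∈ Subgroup.zpowers (u * v) then tf M n σ (u * v) else 0 := by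
    intro u v
    by_cases hd : 2 ∣ orderOf (u * v)
    · obtain ⟨e, he⟩ := hd
      have he0 : 0 < e := by have := orderOf_pos (u * v); omega
      have ho : orderOf ((u * v) ^ e) = 2 := by
        rw [orderOf_pow, he, Nat.gcd_eq_right (dvd_mul_left e 2), Nat.mul_div_cancel _ he0]
      rw [Finset.sum_eq_single_of_mem _ (hmemK _ ho)
        fun b hb hne => if_neg fun hm => hne (by
          rw [(eq_half_pow hm (hKord b hb)).2, he, Nat.mul_div_cancel_left _ two_pos]),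
        if_pos (Subgroup.pow_mem _ (Subgroup.mem_zpowers _) e)]
    · rw [tf_regular h hM hd]; simp
  rw [Finset.sum_congr rfl fun u _ => (Finset.sum_congr rfl fun v _ => hsplit u v).trans Finset.sum_comm,
    Finset.sum_comm]
  have hcls : ∀ t g : G, tf M n σ (t * g * t⁻¹) = tf M n σ g := fun t g => by
    unfold tf
    refine Finset.sum_congr rfl fun χ _ => ?_
    rw [← IsIrrCharacter.apply_isConj χ.2 (isConj_iff.2 ⟨t, rfl⟩ : IsConj g (t * g * t⁻¹))]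
  have hJK : ∀ J' ∈ K, ∑ u ∈ K, ∑ v ∈ K, (if J' ∈ Subgroup.zpowers (u * v) then tf M n σ (u * v) else 0) =
      ∑ u ∈ K, ∑ v ∈ K, (if J ∈ Subgroup.zpowers (u * v) then tf M n σ (u * v) else 0) := by
    intro J' hJ'
    obtain ⟨t, rfl⟩ := isConj_iff.1 (Finset.mem_filter.1 hJ').2
    have hmap : ∀ (r x : G), x ∈ K → r * x * r⁻¹ ∈ K := fun r x hx =>
      Finset.mem_filter.2 ⟨Finset.mem_univ _, (Finset.mem_filter.1 hx).2.trans (isConj_iff.2 ⟨r, rfl⟩)⟩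
    refine (Finset.sum_nbij' (fun u => t * u * t⁻¹) (fun u => t⁻¹ * u * t⁻¹⁻¹) (fun u hu => hmap t u hu)
      (fun u hu => hmap _ u hu) (fun u _ => by group) (fun u _ => by group) fun u _ => ?_).symm
    refine Finset.sum_nbij' (fun u => t * u * t⁻¹) (fun u => t⁻¹ * u * t⁻¹⁻¹) (fun v hv => hmap t v hv)
      (fun v hv => hmap _ v hv) (fun v _ => by group) (fun v _ => by group) fun v _ => ?_
    rw [show t * u * t⁻¹ * (t * v * t⁻¹) = t * (u * v) * t⁻¹ by group, hcls]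
    refine if_congr ⟨fun hz => ?_, fun hz => ?_⟩ rfl rfl
    · obtain ⟨r, hr⟩ := Subgroup.mem_zpowers_iff.1 hz
      exact Subgroup.mem_zpowers_iff.2 ⟨r, by rw [conj_zpow, hr]⟩
    · obtain ⟨r, hr⟩ := Subgroup.mem_zpowers_iff.1 hz
      rw [conj_zpow] at hr
      exact Subgroup.mem_zpowers_iff.2 ⟨r, mul_left_cancel (mul_right_cancel hr)⟩
  rw [Finset.sum_congr rfl hJK, Finset.sum_const, nsmul_eq_mul, hK, card_filter_isConj, ← hK,
    ← sum_U_pairs h hM]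
  congr 1
  -- only the involutions of the centraliser contribute
  have hUK : ∀ u ∈ U J, u ∈ K := fun u hu => hmemK u (mem_U.1 hu).1
  have hin : ∀ u ∈ K, ∀ v ∈ K, J ∈ Subgroup.zpowers (u * v) → u ∈ U J ∧ v ∈ U J := by
    intro u hu v hv hz
    have huu := sq_eq_one_of_orderOf (hKord u hu)
    have hvv := sq_eq_one_of_orderOf (hKord v hv)
    obtain ⟨r, hr⟩ := Subgroup.mem_zpowers_iff.1 hz
    have hcu : Commute J u := by
      have e : u * J * u⁻¹ = J := by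
        rw [← hr, ← conj_zpow, show u * (u * v) * u⁻¹ = (u * u) * v * u⁻¹ by group, huu, one_mul,
          show v * u⁻¹ = (u * v⁻¹)⁻¹ by group, inv_eq_of_mul_eq_one_right hvv, inv_zpow, hr, h.J_inv]
      exact (mul_inv_eq_iff_eq_mul.1 e).symm
    have hcuv : Commute J (u * v) := hr ▸ (Commute.refl (u * v)).zpow_left r
    have hcv : Commute J v := by
      have := hcu.inv_right.mul_right hcuv
      rwa [inv_mul_cancel_left] at this
    have hne : ∀ w, Commute J w → w * w = 1 → orderOf w = 2 → J ∈ Subgroup.zpowers (J * w) → w = J → False := by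
      intro w _ _ _ hm e
      rw [e, sq_eq_one_of_orderOf h.orderJ, Subgroup.zpowers_one_eq_bot, Subgroup.mem_bot] at hm
      have := h.orderJ
      rw [← hJ, hm, orderOf_one] at this; omega
    have hprod : ∀ w, Commute J w → orderOf w = 2 → J ∈ Subgroup.zpowers (J * w) → False := by
      intro w hc ho hm
      by_cases e : w = J
      · exact hne w hc (sq_eq_one_of_orderOf ho) ho hm e
      have h2 : (J * w) * (J * w) = 1 := by
        rw [mul_assoc, ← mul_assoc w, ← hc.eq, mul_assoc, sq_eq_one_of_orderOf ho, mul_one,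
          sq_eq_one_of_orderOf h.orderJ]
      have ho2 : orderOf (J * w) = 2 := orderOf_eq_prime (by rw [pow_two, h2]) fun e' =>
        e ((eq_inv_of_mul_eq_one_right e').trans h.J_inv)
      have := (eq_half_pow hm h.orderJ).2
      rw [ho2, pow_one, left_eq_mul] at this
      rw [this, orderOf_one] at ho; omega
    refine ⟨mem_U.2 ⟨hKord u hu, hcu, fun e => hprod v hcv (hKord v hv) (e ▸ hz)⟩,
      mem_U.2 ⟨hKord v hv, hcv, fun e => hprod u hcu (hKord u hu) ?_⟩⟩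
    rw [hcu.eq, ← e]
    rwa [e] at hz ⊢
  rw [← Finset.sum_subset (fun u hu => hUK u hu) fun u hu hu' => Finset.sum_eq_zero fun v hv =>
    if_neg fun hz => hu' (hin u hu v hv hz).1]
  refine Finset.sum_congr rfl fun u hu => ?_
  rw [← Finset.sum_subset (fun v hv => hUK v hv) fun v hv hv' =>
    if_neg fun hz => hv' (hin u (hUK u hu) v hv hz).2]
  refine Finset.sum_congr rfl fun v hv => ?_
  split_ifs with hz
  · rfl
  · have hw := mul_mem_centralizer hu hv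
    have h1 : pr J ⟨u * v, hw⟩ = 1 := by_contra fun hne => hz ((U_pair h hM hu hv hw).2 hne)
    rw [tf_regular h hM ((pr_eq_one_iff h ⟨u * v, hw⟩).1 h1)]

theorem card_U (h : Dih P n σ τ) :
    (U (σ ^ (2 ^ (n - 2)))).card = Nat.card (S4479.cls (σ ^ (2 ^ (n - 2))) τ) +
      Nat.card (S4479.cls (σ ^ (2 ^ (n - 2))) (σ * τ)) := by
  haveI : Fact (Nat.Prime 2) := ⟨Nat.prime_two⟩
  set J := σ ^ (2 ^ (n - 2)) with hJ
  have hset : (↑(U J) : Set G) = S4479.cls J τ ∪ S4479.cls J (σ * τ) := by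
    ext u
    constructor
    · intro hu
      obtain ⟨d, hd, i, hi⟩ := U_refl h hu
      have hmem : ∀ j, σ ^ j ∈ Subgroup.centralizer ({J} : Set G) := fun j =>
        mem_centralizer_singleton.2 (Commute.pow_pow_self σ _ _)
      rcases refl_parity h i with ⟨j, hj⟩ | ⟨j, hj⟩
      · exact Or.inl ⟨d * σ ^ j, Subgroup.mul_mem _ hd (hmem j), by rw [← hi, hj]; group⟩
      · exact Or.inr ⟨d * σ ^ j, Subgroup.mul_mem _ hd (hmem j), by rw [← hi, hj]; group⟩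
    · have key : ∀ i : ℕ, ∀ x ∈ S4479.cls J (σ ^ i * τ), x ∈ U J := by
        rintro i x ⟨c, hc, rfl⟩
        refine conj_mem_U (mem_centralizer_singleton.1 hc) (mem_U.2 ⟨?_, ?_, refl_ne_pow h i _⟩)
        · exact orderOf_eq_prime (by rw [pow_two, h.refl_sq]) fun e => refl_ne_pow h i 0 (e.trans (pow_zero σ).symm)
        · exact h.J_comm ((P : Subgroup G).mul_mem ((P : Subgroup G).pow_mem h.memσ i) h.memτ)
      rintro (hu | hu)
      · exact key 0 u (by rwa [pow_zero, one_mul])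
      · exact key 1 u (by rwa [pow_one])
  have hdisj : Disjoint (S4479.cls J τ) (S4479.cls J (σ * τ)) := by
    rw [Set.disjoint_left]
    rintro u ⟨c, hc, hcu⟩ ⟨c', hc', hcu'⟩
    have hd : c'⁻¹ * c ∈ Subgroup.centralizer ({J} : Set G) := Subgroup.mul_mem _ (Subgroup.inv_mem _ hc') hc
    have e : c'⁻¹ * c * τ * (c'⁻¹ * c)⁻¹ = σ * τ := by
      rw [show c'⁻¹ * c * τ * (c'⁻¹ * c)⁻¹ = c'⁻¹ * (c * τ * c⁻¹) * c' by group, hcu, ← hcu']; group
    obtain ⟨p, hp, he⟩ := pr_conj_mem h hd h.memτ (x := emb h (σ * τ) ((P : Subgroup G).mul_mem h.memσ h.memτ)) e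
    have e1 := pr_inj h _ _ he
    obtain ⟨j, rfl | rfl⟩ := h.cover p hp
    all_goals
      have e2 : σ * τ = σ ^ (0 + 2 * j) * τ := by
        rw [← refl_conj h 0 j, pow_zero, one_mul, e1]
        try group
      have e3 := mul_right_cancel e2
      conv_lhs at e3 => rw [← pow_one σ]
      rw [h.pow_eq_pow] at e3
      have h2 : 2 ∣ 2 ^ (n - 1) := dvd_pow_self 2 (by have := h.hn; omega)
      have e4 := congrArg (· % 2) e3
      simp only [Nat.mod_mod_of_dvd _ h2] at e4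
      omega
  rw [← Set.ncard_coe_finset, hset, Set.ncard_union_eq hdisj, Nat.card_coe_set_eq, Nat.card_coe_set_eq]

/-- The theorem, for given data. -/
theorem order_formula (h : Dih P n σ τ) (hM : IsPModular 2 M)
    (hconj : IsConj (σ ^ (2 ^ (n - 2))) τ ∧ IsConj (σ ^ (2 ^ (n - 2))) (σ * τ))
    {ζ : ℂ} (hζ : IsPrimitiveRoot ζ (2 ^ (n - 1))) (χ₁ : IrrCharacter G)
    (hχ₁ : χ₁ ∈ principalBlock M G) (h1 : (χ₁ : G → ℂ) ≠ fun _ => 1) (δ₁ : ℤ)
    (hval : ∀ l : ℕ, 0 < l → l < 2 ^ (n - 1) → (χ₁ : G → ℂ) (σ ^ l) = δ₁) :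
    (charDegree (χ₁ : G → ℂ) : ℤ) ≠ δ₁ ∧
      (Nat.card G : ℚ) * ((charDegree (χ₁ : G → ℂ) : ℚ) - δ₁) ^ 2 =
        2 * (charDegree (χ₁ : G → ℂ) : ℚ) * ((charDegree (χ₁ : G → ℂ) : ℚ) + δ₁) *
          (Nat.card (Subgroup.centralizer ({σ ^ (2 ^ (n - 2))} : Set G)) : ℚ) ^ 3 *
          (1 / (Nat.card (Subgroup.centralizer ({σ ^ (2 ^ (n - 2)), τ} : Set G)) : ℚ) +
            1 / (Nat.card (Subgroup.centralizer ({σ ^ (2 ^ (n - 2)), σ * τ} : Set G)) : ℚ)) ^ 2 := by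
  obtain ⟨one, x₁, x₂, x₃, η, e₁, e₂, e₃, D⟩ := h.exists_data hM hζ
  obtain ⟨hq, hm⟩ := h.half
  obtain ⟨k, hk⟩ : ∃ k, 2 ^ (n - 2) = 2 * k := ⟨2 ^ (n - 3), by
    rw [← pow_succ']; congr 1; have := h.hn; omega⟩
  set J := σ ^ (2 ^ (n - 2)) with hJ
  -- identify `χ₁`
  have hgeo : ∀ j, 0 < j → j < (2 ^ (n - 1)) → ∑ l ∈ Finset.Ico 1 (2 ^ (n - 1)), ζ ^ (j * l) = -1 := by
    intro j hj0 hj
    have := sum_root hζ j
    rw [if_neg fun hd => hj.not_ge (Nat.le_of_dvd hj0 hd), Finset.range_eq_Ico,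
      Finset.sum_eq_sum_Ico_succ_bot (by omega : 0 < (2 ^ (n - 1))), mul_zero, pow_zero, zero_add] at this
    linear_combination this
  have hgeoinv : ∀ j, 0 < j → j < (2 ^ (n - 1)) → ∑ l ∈ Finset.Ico 1 (2 ^ (n - 1)), (ζ ^ (j * l))⁻¹ = -1 := by
    intro j hj0 hj
    rw [← hgeo ((2 ^ (n - 1)) - j) (by omega) (by omega)]
    exact Finset.sum_congr rfl fun l _ => (pow_sub_mul hζ hj.le l).symm
  obtain ⟨rfl, rfl⟩ : x₁ = χ₁ ∧ e₁ = δ₁ := by
    rcases (D.mem_iff χ₁).1 hχ₁ with rfl | rfl | rfl | rfl | ⟨i, rfl⟩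
    · exact absurd D.hone h1
    · refine ⟨rfl, Int.cast_injective (α := ℂ) ?_⟩
      rw [← hval 1 one_pos (by omega), D.val₁ 1 one_pos (by omega)]
    · have a := (D.val₂ 1 one_pos (by omega)).symm.trans (hval 1 one_pos (by omega))
      have b := (D.val₂ 2 two_pos (by omega)).symm.trans (hval 2 two_pos (by omega))
      rcases D.sign₂ with rfl | rfl <;> norm_num at a b <;>
        (rw [← a] at b; norm_num at b)
    · have a := (D.val₃ 1 one_pos (by omega)).symm.trans (hval 1 one_pos (by omega))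
      have b := (D.val₃ 2 two_pos (by omega)).symm.trans (hval 2 two_pos (by omega))
      rcases D.sign₃ with rfl | rfl <;> norm_num at a b <;>
        (rw [← a] at b; norm_num at b)
    · exfalso
      have a : ∑ l ∈ Finset.Ico 1 (2 ^ (n - 1)), (η i : G → ℂ) (σ ^ l) = (((2 ^ (n - 1)) - 1 : ℕ) : ℂ) * δ₁ := by
        rw [Finset.sum_congr rfl fun l hl => hval l (Finset.mem_Ico.1 hl).1 (Finset.mem_Ico.1 hl).2,
          Finset.sum_const, Nat.card_Ico, nsmul_eq_mul]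
      rw [Finset.sum_congr rfl fun l hl => D.valη l (Finset.mem_Ico.1 hl).1 (Finset.mem_Ico.1 hl).2 i,
        ← Finset.mul_sum, Finset.sum_add_distrib, hgeo _ (by omega) (by omega), hgeoinv _ (by omega) (by omega)] at a
      have a' : e₁ * (-2) = (((2 ^ (n - 1)) - 1 : ℕ) : ℤ) * δ₁ := by
        apply Int.cast_injective (α := ℂ)
        push_cast
        linear_combination a
      have := congrArg Int.natAbs a'
      rw [Int.natAbs_mul, Int.natAbs_mul, Int.natAbs_natCast] at this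
      rcases D.sign₁ with rfl | rfl <;> norm_num at this <;>
        · have h' : δ₁.natAbs ∣ 2 := ⟨_, by rw [this, mul_comm]⟩
          have h'' := Nat.le_of_dvd two_pos h'
          interval_cases δ₁.natAbs <;> omega
  -- the degrees
  set X := charDegree (x₁ : G → ℂ) with hX
  have hXc : (x₁ : G → ℂ) 1 = (X : ℂ) := (charDegree_cast (IsIrrCharacter.isCharacter x₁.2)).symm
  have hXpos : 0 < X := charDegree_pos x₁.2
  have hXne : (X : ℂ) ≠ 0 := Nat.cast_ne_zero.2 hXpos.ne'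
  have hsq : (e₁ : ℂ) * e₁ = 1 := by rcases D.sign₁ with rfl | rfl <;> norm_num
  have hz : ∀ i, (η i : G → ℂ) 1 = (X : ℂ) + e₁ := fun i => by
    have := D.relη 1 (by simp) i
    rw [hXc] at this
    linear_combination -(e₁ : ℂ) * this + ((X : ℂ) - (η i : G → ℂ) 1) * hsq
  have hzne : (X : ℂ) + e₁ ≠ 0 := by
    rw [← hz ⟨0, by omega⟩]; exact IsIrrCharacter.apply_one_ne_zero (η ⟨0, by omega⟩).2
  -- the weighted sum of squares at `J`
  have hm0 : 0 < (2 ^ (n - 2)) ∧ (2 ^ (n - 2)) < (2 ^ (n - 1)) := ⟨by omega, by omega⟩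
  have hζm : ∀ j : ℕ, ζ ^ (j * (2 ^ (n - 2))) = (-1) ^ j := fun j => by
    rw [mul_comm, pow_mul, h.root_half hζ]
  have hneg : ∀ j : ℕ, ((-1 : ℂ) ^ j)⁻¹ = (-1) ^ j := fun j => by rw [← inv_pow, inv_neg, inv_one]
  have hwη : ∀ i : Fin ((2 ^ (n - 2)) - 1), wt n σ (η i) * ((η i : G → ℂ) J * (η i : G → ℂ) J / (η i : G → ℂ) 1) =
      8 * (e₁ : ℂ) * ((-1) ^ ((i : ℕ) + 1) - 1) / ((X : ℂ) + e₁) := by
    intro i
    rw [hz, wt, Finset.sum_congr rfl fun l hl =>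
      D.valη l (Finset.mem_Ico.1 hl).1 (Finset.mem_Ico.1 hl).2 i, ← Finset.mul_sum, Finset.sum_add_distrib,
      hgeo _ (by omega) (by omega), hgeoinv _ (by omega) (by omega), hJ, D.valη (2 ^ (n - 2)) hm0.1 hm0.2 i, hζm, hneg]
    have hp : ((-1 : ℂ) ^ ((i : ℕ) + 1)) * (-1) ^ ((i : ℕ) + 1) = 1 := by
      rw [← mul_pow]; norm_num
    field_simp
    linear_combination (8 * (e₁ : ℂ) * ((-1 : ℂ) ^ ((i : ℕ) + 1) - 1) * hsq +
      8 * (e₁ : ℂ) ^ 3 * ((-1 : ℂ) ^ ((i : ℕ) + 1) - 1) * hp)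
  have hsumη : ∑ i : Fin ((2 ^ (n - 2)) - 1), ((-1 : ℂ) ^ ((i : ℕ) + 1) - 1) = -((2 ^ (n - 2) : ℕ) : ℂ) := by
    rw [Finset.sum_sub_distrib, Finset.sum_const, Finset.card_fin, nsmul_eq_mul, mul_one,
      Fin.sum_univ_eq_sum_range fun i => (-1 : ℂ) ^ (i + 1), Nat.cast_sub (by omega)]
    simp only [pow_succ, ← Finset.sum_mul, neg_one_geom_sum]
    rw [if_neg (by rw [Nat.even_iff]; omega)]
    push_cast
    ring
  have hw0 : ∀ (x : IrrCharacter G) (e : ℤ), (∀ l, 0 < l → l < (2 ^ (n - 1)) → (x : G → ℂ) (σ ^ l) = e * (-1) ^ (l + 1)) →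
      wt n σ x = 0 := by
    intro x e hx
    have hg : ∑ l ∈ Finset.range (2 ^ (n - 1)), (-1 : ℂ) ^ l = 0 := by
      rw [neg_one_geom_sum, if_pos (by rw [Nat.even_iff]; omega)]
    rw [Finset.range_eq_Ico, Finset.sum_eq_sum_Ico_succ_bot (by omega : 0 < (2 ^ (n - 1))), pow_zero, zero_add] at hg
    rw [wt, Finset.sum_congr rfl fun l hl => hx l (Finset.mem_Ico.1 hl).1 (Finset.mem_Ico.1 hl).2,
      hx (2 ^ (n - 2)) hm0.1 hm0.2, ← Finset.mul_sum, pow_succ,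
      (Even.neg_one_pow ⟨k, by omega⟩ : ((-1 : ℂ) ^ (2 ^ (n - 2))) = 1)]
    simp only [pow_succ, ← Finset.sum_mul]
    linear_combination -(e : ℂ) * hg
  let S := (principalBlock M G).toFinite.toFinset
  have hS : S = ({one, x₁, x₂, x₃} ∪ Finset.univ.image η : Finset (IrrCharacter G)) := by
    ext χ
    rw [Set.Finite.mem_toFinset, D.mem_iff]
    simp [eq_comm]
  have hQ : ∑ χ ∈ S, wt n σ χ * ((χ : G → ℂ) J * (χ : G → ℂ) J / (χ : G → ℂ) 1) =
      ((2 ^ (n - 1) : ℕ) : ℂ) + ((2 ^ (n - 1) : ℕ) : ℂ) * e₁ / X - 8 * (e₁ : ℂ) * ((2 ^ (n - 2) : ℕ) : ℂ) / ((X : ℂ) + e₁) := by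
    rw [hS, Finset.sum_union (by
        rw [Finset.disjoint_right]
        intro χ hχ
        obtain ⟨i, -, rfl⟩ := Finset.mem_image.1 hχ
        simp [(D.ne_η i).1, (D.ne_η i).2.1, (D.ne_η i).2.2.1, (D.ne_η i).2.2.2]),
      Finset.sum_image fun a _ b _ e => D.inj e, Finset.sum_congr rfl fun i _ => hwη i,
      ← Finset.sum_div, ← Finset.mul_sum, hsumη,
      Finset.sum_insert (by simp [D.ne₁.symm, D.ne₂.symm, D.ne₃.symm]),
      Finset.sum_insert (by simp [D.ne₁₂, D.ne₁₃]),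
      Finset.sum_insert (by simp [D.ne₂₃]), Finset.sum_singleton, hw0 x₂ e₂ D.val₂, hw0 x₃ e₃ D.val₃]
    have w1 : wt n σ one = ((2 ^ (n - 1) : ℕ) : ℂ) := by
      simp only [wt, D.hone, Finset.sum_const, Nat.card_Ico, nsmul_eq_mul, mul_one]
      rw [Nat.cast_sub (by omega)]
      push_cast; ring
    have w2 : wt n σ x₁ = ((2 ^ (n - 1) : ℕ) : ℂ) * e₁ := by
      rw [wt, Finset.sum_congr rfl fun l hl =>
        D.val₁ l (Finset.mem_Ico.1 hl).1 (Finset.mem_Ico.1 hl).2, D.val₁ (2 ^ (n - 2)) hm0.1 hm0.2,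
        Finset.sum_const, Nat.card_Ico, nsmul_eq_mul, Nat.cast_sub (by omega)]
      push_cast; ring
    rw [w1, w2, D.hone, hJ, D.val₁ (2 ^ (n - 2)) hm0.1 hm0.2, hXc, hsq]
    ring
  -- the class algebra
  set c := Nat.card (Subgroup.centralizer ({J} : Set G)) with hc
  set N := (Subgroup.centralizer ({J} : Set G)).index with hN
  have hT : ∑ u ∈ Finset.univ.filter (IsConj J), ∑ v ∈ Finset.univ.filter (IsConj J), tf M n σ (u * v) =
      (N : ℂ) ^ 2 * ∑ χ ∈ S, wt n σ χ * ((χ : G → ℂ) J * (χ : G → ℂ) J / (χ : G → ℂ) 1) := by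
    simp only [tf]
    rw [Finset.sum_congr rfl fun u _ => Finset.sum_comm, Finset.sum_comm, Finset.mul_sum]
    refine Finset.sum_congr rfl fun χ _ => ?_
    simp only [← Finset.mul_sum]
    have := centralChar_mul χ.2 J J
    rw [eq_div_iff (IsIrrCharacter.apply_one_ne_zero χ.2)] at this
    rw [← this]
    simp only [centralChar, ← hN]
    field_simp [IsIrrCharacter.apply_one_ne_zero χ.2]
  rw [hJ, total_sum h hM hconj, ← hJ, hQ] at hT
  have hN0 : (N : ℂ) ≠ 0 := Nat.cast_ne_zero.2 Subgroup.index_ne_zero_of_finite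
  have hqC : (2 ^ (n - 1) : ℂ) = ((2 ^ (n - 1) : ℕ) : ℂ) := by push_cast; rfl
  have hmC : ((2 ^ (n - 1) : ℕ) : ℂ) = 2 * ((2 ^ (n - 2) : ℕ) : ℂ) := by rw [hq]; push_cast; rfl
  rw [hqC, ← hN] at hT
  have hq0 : ((2 ^ (n - 1) : ℕ) : ℂ) ≠ 0 := Nat.cast_ne_zero.2 (by omega)
  have key : 2 * ((U J).card : ℂ) ^ 2 * (X : ℂ) * ((X : ℂ) + e₁) = (N : ℂ) * ((X : ℂ) - e₁) ^ 2 := by
    have h2 : ((2 ^ (n - 1) : ℕ) : ℂ) * (2 * ((U J).card : ℂ) ^ 2) =
        (N : ℂ) * (((2 ^ (n - 1) : ℕ) : ℂ) + ((2 ^ (n - 1) : ℕ) : ℂ) * e₁ / X - 8 * (e₁ : ℂ) * ((2 ^ (n - 2) : ℕ) : ℂ) / ((X : ℂ) + e₁)) := by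
      refine mul_left_cancel₀ hN0 ?_
      linear_combination hT
    field_simp at h2
    refine mul_left_cancel₀ hq0 ?_
    linear_combination h2 + 4 * (N : ℂ) * (e₁ : ℂ) * (X : ℂ) * hmC
  have hU : 0 < (U J).card := Finset.card_pos.2 ⟨τ, mem_U.2
    ⟨orderOf_eq_prime (by rw [pow_two, h.sqτ]) fun e => h.τ_notMem 0 (e.trans (pow_zero σ).symm),
      h.J_comm h.memτ, h.τ_notMem _⟩⟩
  refine ⟨fun e => ?_, ?_⟩
  · have e' : (e₁ : ℂ) = (X : ℂ) := by exact_mod_cast e.symm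
    rw [e', sub_self] at key
    have : ((U J).card : ℂ) ≠ 0 := Nat.cast_ne_zero.2 hU.ne'
    simp [hXne, this, ← two_mul] at key
  · have keyQ : 2 * ((U J).card : ℚ) ^ 2 * (X : ℚ) * ((X : ℚ) + e₁) = (N : ℚ) * ((X : ℚ) - e₁) ^ 2 := by
      apply Rat.cast_injective (α := ℂ)
      push_cast
      exact key
    have hcard : Nat.card G = N * c := (Subgroup.index_mul_card _).symm
    have hA := S4479.card_cls J τ (h.J_comm h.memτ)
    have hB := S4479.card_cls J (σ * τ) (h.J_comm ((P : Subgroup G).mul_mem h.memσ h.memτ))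
    have hcU : ((U J).card : ℚ) = (c : ℚ) * (1 / (Nat.card (Subgroup.centralizer ({J, τ} : Set G)) : ℚ) +
        1 / (Nat.card (Subgroup.centralizer ({J, σ * τ} : Set G)) : ℚ)) := by
      rw [hJ, card_U h, ← hJ, mul_add]
      push_cast
      congr 1
      · rw [hc, ← hA]; push_cast; field_simp
      · rw [hc, ← hB]; push_cast; field_simp
    rw [hcard]
    push_cast
    rw [hcU] at keyQ
    linear_combination -(c : ℚ) * keyQ

/-- An order formula for groups with dihedral Sylow 2-subgroups and one class of involutions. Let G be a finite group whose Sylow 2-subgroup P = ⟨σ, τ⟩ is dihedral of order 2^n ≥ 8 (σ of order 2^(n−1), τ an involution inverting σ), let J be the central involution σ^(2^(n−2)), and suppose J, τ and στ are conjugate in G. Fix M over 2 and let χ₁ be an irreducible character in the principal 2-block taking one constant value δ₁ = ±1 at every non-identity power of σ, with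 χ₁ ≠ 1. Then, with x₁ = χ₁(1) and c(·) denoting orders of centralizers, x₁ ≠ δ₁ and #G · (x₁ − δ₁)² = 2·x₁(x₁ + δ₁)·c(J)³·(1/c(J, τ) + 1/c(J, στ))², where c(J, y) is the order of the joint centralizer of J and y. -/
theorem result {G : Type*} [Group G] [Finite G] (M : Ideal Cfsg.AlgInt) (hM : Cfsg.IsPModular 2 M) (n : ℕ) (hn : 3 ≤ n) (P : Sylow 2 G) (σ τ : G) (hσ : σ ∈ (P : Subgroup G)) (hτ : τ ∈ (P : Subgroup G)) (hσo : orderOf σ = 2 ^ (n - 1)) (hτo : orderOf τ = 2) (hrel : τ * σ * τ⁻¹ = σ⁻¹) (hgen : Subgroup.closure ({σ, τ} : Set G) = (P : Subgroup G)) (hconj : IsConj (σ ^ (2 ^ (n - 2))) τ ∧ IsConj (σ ^ (2 ^ (n - 2))) (σ * τ)) (χ₁ : Cfsg.IrrCharacter G) (hχ₁ : χ₁ ∈ Cfsg.principalBlock M G) (h1 : (χ₁ : G → ℂ) ≠ (fun _ => 1)) (δ₁ : ℤ) (hδ₁ : δ₁ = 1 ∨ δ₁ = -1) (hval : ∀ l : ℕ, 0 < l → l < 2 ^ (n - 1) → (χ₁ : G → ℂ) (σ ^ l) = δ₁) : (Cfsg.charDegree (χ₁ : G → ℂ) : ℤ) ≠ δ₁ ∧ (Nat.card G : ℚ) * ((Cfsg.charDegree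 (χ₁ : G → ℂ) : ℚ) - δ₁) ^ 2 = 2 * (Cfsg.charDegree (χ₁ : G → ℂ) : ℚ) * ((Cfsg.charDegree (χ₁ : G → ℂ) : ℚ) + δ₁) * (Nat.card (Subgroup.centralizer ({σ ^ (2 ^ (n - 2))} : Set G)) : ℚ) ^ 3 * (1 / (Nat.card (Subgroup.centralizer ({σ ^ (2 ^ (n - 2)), τ} : Set G)) : ℚ) + 1 / (Nat.card (Subgroup.centralizer ({σ ^ (2 ^ (n - 2)), σ * τ} : Set G)) : ℚ)) ^ 2 := by
  haveI := Fintype.ofFinite G
  exact order_formula (dih_of_closure hn hσ hτ hσo hτo hrel hgen) hM hconj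
    (Complex.isPrimitiveRoot_exp (2 ^ (n - 1)) (by positivity)) χ₁ hχ₁ h1 δ₁ hval

end Cfsg.Agent.S4482
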