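import Cfsg.Statements.S4483
import Cfsg.Agent.Lib.Block.RealTest
import Cfsg.Agent.Lib.Block.BrauerFeit

set_option autoImplicit false
open Cfsg

namespace Cfsg.Agent.S4483

open Cfsg.Agent.Block Cfsg.Agent.Char

/-- Let G be a finite group of order 2^n·g₀ with g₀ odd, and M a maximal ideal of the algebraic integers containing 2. Every real-valued irreducible character of G of odd degree lies in the principal 2-block; consequently G has at most 2^(2n) real-valued irreducible characters of odd degree. -/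
theorem result {G : Type*} [Group G] [Finite G] (M : Ideal Cfsg.AlgInt) (hM : Cfsg.IsPModular 2 M) : (∀ χ : Cfsg.IrrCharacter G, (∀ g : G, ((χ : G → ℂ) g).im = 0) → Odd (Cfsg.charDegree (χ : G → ℂ)) → χ ∈ Cfsg.principalBlock M G) ∧ Nat.card {χ : Cfsg.IrrCharacter G // (∀ g : G, ((χ : G → ℂ) g).im = 0) ∧ Odd (Cfsg.charDegree (χ : G → ℂ))} ≤ 2 ^ (2 * (Nat.card G).factorization 2) := by
    classical
    haveI := prime_of_isPModular hM
    have h1 : ∀ χ : IrrCharacter G, (∀ g : G, ((χ : G → ℂ) g).im = 0) →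
        Odd (charDegree (χ : G → ℂ)) → χ ∈ principalBlock M G := fun χ hr hodd =>
      mem_principal_of_symm hM χ (Nat.two_dvd_ne_zero.2 (Nat.odd_iff.1 hodd)) fun g _ => by
        rw [IsCharacter.map_inv (IsIrrCharacter.isCharacter χ.2)]
        exact Complex.conj_eq_iff_im.2 (hr g)
    refine ⟨h1, ?_⟩
    have hB : IsPBlock M (principalBlock M G) := ⟨⟨fun _ => 1, isIrrCharacter_one⟩, rfl⟩
    have hle : Nat.card {χ : IrrCharacter G // (∀ g : G, ((χ : G → ℂ) g).im = 0) ∧
        Odd (charDegree (χ : G → ℂ))} ≤ Nat.card (principalBlock M G) :=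
      Nat.card_le_card_of_injective (fun χ => ⟨χ.1, h1 χ.1 χ.2.1 χ.2.2⟩) fun a b h =>
        Subtype.ext (congrArg Subtype.val h :)
    have hbf := brauer_feit hM hB
    have hd : blockDefect 2 (principalBlock M G) ≤ (Nat.card G).factorization 2 := Nat.sub_le _ _
    have hpow : 2 ^ (2 * blockDefect 2 (principalBlock M G)) ≤ 2 ^ (2 * (Nat.card G).factorization 2) :=
      Nat.pow_le_pow_right (by omega) (by omega)
    have hpos : 1 ≤ 2 ^ (2 * (Nat.card G).factorization 2) := Nat.one_le_two_pow
    omega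

end Cfsg.Agent.S4483
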