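import Cfsg.Statements.S4485
import Cfsg.Agent.Lib.Char.SharedCentralizerMain

set_option autoImplicit false
open Cfsg

namespace Cfsg.Agent.S4485

universe u

open scoped commutatorElement in
open Cfsg Cfsg.Agent in
theorem aux (k : ℕ) : ∀ {G : Type u} [Group G] [Finite G], Nat.card G ≤ k →
    ∀ (p : ℕ) [Fact p.Prime] (P : Sylow p G),
    (∀ x ∈ (P : Subgroup G), x ≠ 1 →
      Subgroup.centralizer ({x} : Set G) = Subgroup.centralizer ((P : Subgroup G) : Set G)) →
    ∀ (χ : G → ℂ), IsCharacter G χ → (∀ g : G, χ g = χ 1 → g = 1) →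
    ∀ x : ℕ, χ 1 = (x : ℂ) → x ^ 2 + 1 < Nat.card P → (P : Subgroup G).Normal := by
  induction k with
  | zero => intro G _ _ hk; exact absurd hk (Nat.not_le.mpr Nat.card_pos)
  | succ k ih =>
    intro G _ _ hk p _ P hstar χ hχ hfaith x hx hdeg
    classical
    haveI := Fintype.ofFinite G
    haveI := Fintype.ofFinite (IrrCharacter G)
    have hdec : χ = ∑ ψ : IrrCharacter G, classInner χ (ψ : G → ℂ) • (ψ : G → ℂ) :=
      Char.IsClassFunction.eq_sum (Char.IsCharacter.isClassFunction hχ)
    choose n hn using fun ψ : IrrCharacter G => Char.exists_classInner_nat hχ ψ.2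
    have hdeg' : ∑ ψ : IrrCharacter G, n ψ * Char.SharedCent.Split.deg ψ = x := by
      have := congrFun hdec 1
      simp only [hn, Finset.sum_apply, Pi.smul_apply, smul_eq_mul, Char.SharedCent.Split.deg_spec,
        hx] at this
      exact_mod_cast this.symm
    have key : (∃ K : Subgroup G, K.Normal ∧ K ≠ ⊤ ∧ (P : Subgroup G) ≤ K) ∨
        (∀ ψ : IrrCharacter G, n ψ ≠ 0 → (ψ : G → ℂ) 1 = 1) := by
      by_cases hK : ∃ K : Subgroup G, K.Normal ∧ K ≠ ⊤ ∧ (P : Subgroup G) ≤ K
      · exact Or.inl hK
      refine Or.inr fun ψ hψ => ?_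
      by_cases h1 : (ψ : G → ℂ) = 1
      · rw [h1]; rfl
      have hle : Char.SharedCent.Split.deg ψ ≤ x := by
        rw [← hdeg']
        exact (Nat.le_mul_of_pos_left _ (Nat.pos_of_ne_zero hψ)).trans
          (Finset.single_le_sum (f := fun φ => n φ * Char.SharedCent.Split.deg φ)
            (fun φ _ => Nat.zero_le _) (Finset.mem_univ ψ))
      rcases Char.SharedCent.small_character p P hstar ψ h1 _ (Char.SharedCent.Split.deg_spec ψ)
        (by
          have := Nat.pow_le_pow_left hle 2
          omega) with h | ⟨-, h⟩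
      · exact absurd h hK
      · rw [Char.SharedCent.Split.deg_spec ψ, h, Nat.cast_one]
    rcases key with ⟨K, hKn, hKt, hPK⟩ | hlin
    · haveI := hKn
      have hcard : Nat.card K ≤ k := by
        have : Nat.card K < Nat.card G := by
          refine lt_of_le_of_ne (Subgroup.card_le_card_group K) fun e => hKt ?_
          exact (Subgroup.card_eq_iff_eq_top K).mp e
        omega
      let Q : Sylow p K := P.subtype hPK
      have hQc : Nat.card (Q : Subgroup K) = Nat.card (P : Subgroup G) :=
        Nat.card_congr (Subgroup.subgroupOfEquivOfLe hPK).toEquiv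
      have hstarK : ∀ y ∈ (Q : Subgroup K), y ≠ 1 → Subgroup.centralizer ({y} : Set K) =
          Subgroup.centralizer ((Q : Subgroup K) : Set K) := by
        intro y hy hy1
        have h := hstar y hy (fun e => hy1 (Subtype.ext e))
        ext c
        rw [Subgroup.mem_centralizer_singleton_iff]
        constructor
        · intro hc
          have hc' : (c : G) ∈ Subgroup.centralizer ({(y : G)} : Set G) :=
            Subgroup.mem_centralizer_singleton_iff.mpr (congrArg Subtype.val hc)
          rw [h] at hc'
          exact Subgroup.mem_centralizer_iff.mpr fun w hw =>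
            Subtype.ext (Subgroup.mem_centralizer_iff.mp hc' w hw)
        · intro hc
          exact (Subgroup.mem_centralizer_iff.mp hc y hy).symm
      have hQn : (Q : Subgroup K).Normal := ih hcard p Q hstarK (fun c : K => χ c)
        (Char.IsCharacter.restrict hχ K) (fun g hg => Subtype.ext (hfaith g hg)) x hx
        (by show x ^ 2 + 1 < Nat.card (Q : Subgroup K); rw [hQc]; exact hdeg)
      haveI := Sylow.unique_of_normal Q hQn
      refine ⟨fun w hw g => ?_⟩
      have hwK : g * w * g⁻¹ ∈ K := hKn.conj_mem w (hPK hw) g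
      have hgP : ((g • P : Sylow p G) : Subgroup G) ≤ K := by
        intro t ht
        rw [Sylow.coe_subgroup_smul, Subgroup.mem_pointwise_smul_iff_inv_smul_mem] at ht
        have h3 : g⁻¹ * t * g ∈ (P : Subgroup G) := by simpa using ht
        have := hKn.conj_mem _ (hPK h3) g
        simpa [mul_assoc] using this
      have hQ : (g • P).subtype hgP = Q := Subsingleton.elim _ _
      have hmem : g * w * g⁻¹ ∈ ((g • P : Sylow p G) : Subgroup G) := by
        rw [Sylow.coe_subgroup_smul, Subgroup.mem_pointwise_smul_iff_inv_smul_mem]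
        simpa [mul_assoc] using hw
      have h4 : (⟨g * w * g⁻¹, hwK⟩ : K) ∈ (((g • P).subtype hgP : Sylow p K) : Subgroup K) :=
        Subgroup.mem_subgroupOf.mpr hmem
      rw [hQ] at h4
      exact Subgroup.mem_subgroupOf.mp h4
    · have hmul : ∀ a b : G, a * b = b * a := by
        intro a b
        have h : ⁅a, b⁆ = 1 := hfaith _ (by
          rw [hdec]
          simp only [hn, Finset.sum_apply, Pi.smul_apply, smul_eq_mul]
          refine Finset.sum_congr rfl fun ψ _ => ?_
          by_cases h0 : n ψ = 0
          · simp [h0]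
          obtain ⟨l, hl⟩ := Char.IsCharacter.exists_monoidHom
            (Char.IsIrrCharacter.isCharacter ψ.2) (hlin ψ h0)
          rw [hl]
          simp [commutatorElement_def, mul_comm (l a) (l b)])
        exact commutatorElement_eq_one_iff_mul_comm.mp h
      exact ⟨fun w hw g => by rw [hmul g w, mul_inv_cancel_right]; exact hw⟩

/-- Let G be a finite group and p a prime dividing its order such that every non-identity element of a Sylow p-subgroup P has the same centralizer as P itself (so P is abelian); let p^n be the order of P. If G has a faithful character of degree x with x² < p^n − 1, then P is normal in G. -/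
theorem result {G : Type*} [Group G] [Finite G] (p : ℕ) (hp : p.Prime) (hpG : p ∣ Nat.card G) (P : Sylow p G) (hstar : ∀ x ∈ (P : Subgroup G), x ≠ 1 → Subgroup.centralizer ({x} : Set G) = Subgroup.centralizer ((P : Subgroup G) : Set G)) (n : ℕ) (hn : Nat.card P = p ^ n) (χ : G → ℂ) (hχ : Cfsg.IsCharacter G χ) (hfaith : ∀ g : G, χ g = χ 1 → g = 1) (hdeg : Cfsg.charDegree χ ^ 2 + 1 < p ^ n) : (P : Subgroup G).Normal := by
  classical
  haveI : Fact p.Prime := ⟨hp⟩
  obtain ⟨x, hx⟩ := Char.IsCharacter.exists_degree hχ
  have hd : Cfsg.charDegree χ = x := by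
    simp [Cfsg.charDegree, hx]
  rw [hd, ← hn] at hdeg
  exact aux (Nat.card G) le_rfl p P hstar χ hχ hfaith x hx hdeg

end Cfsg.Agent.S4485
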