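import Cfsg.Statements.S4487
import Cfsg.Agent.Lib.Block.DefectSupport
import Cfsg.Agent.Lib.Solv.PSolvable

set_option autoImplicit false
open Cfsg

namespace Cfsg.Agent.S4487

open Cfsg.Agent.Block Cfsg.Agent.Char

/-- Let G be a finite group and p a prime such that G has no non-trivial normal subgroup of order prime to p and C_G(O_p(G)) ≤ O_p(G). Then G has a single p-block: any two irreducible characters lie in the same block relative to every maximal ideal M of the algebraic integers containing p. -/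
theorem result {G : Type*} [Group G] [Finite G] (p : ℕ) [Fact p.Prime] (M : Ideal Cfsg.AlgInt) (hM : Cfsg.IsPModular p M) (hcore : Cfsg.pPrimeCore p G = ⊥) (hconstr : Subgroup.centralizer ((Cfsg.pCore p G) : Set G) ≤ Cfsg.pCore p G) (χ ψ : Cfsg.IrrCharacter G) : Cfsg.SameBlock M (χ : G → ℂ) (ψ : G → ℂ) := by
  classical
  haveI := Fintype.ofFinite G
  haveI := prime_of_isPModular hM
  haveI := Cfsg.Agent.Solv.pCore_characteristic p G
  have hQ : IsPGroup p (pCore p G) := Cfsg.Agent.Solv.isPGroup_pCore p G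
  have hcen := hconstr
  have hB : IsPBlock M (blockOf M (χ : G → ℂ)) := isPBlock_blockOf χ
  have hsupp : ∀ g : G, g ≠ 1 → blockCoeff (blockOf M (χ : G → ℂ)) g = 0 := by
    intro g hg
    by_cases hgC : g ∈ Subgroup.centralizer (pCore p G : Set G)
    · refine blockCoeff_eq_zero_of_dvd hM hB ?_
      obtain ⟨k, hk⟩ := IsPGroup.iff_orderOf.1 hQ ⟨g, hcen hgC⟩
      rw [Subgroup.orderOf_mk] at hk
      rw [hk]
      exact dvd_pow_self p fun h0 => hg (orderOf_eq_one_iff.1 (by rw [hk, h0, pow_zero]))
    · exact blockCoeff_eq_zero_of_notMem hM hB _ hQ hgC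
  have hω : ∀ φ : IrrCharacter G, omega (φ : G → ℂ) (blockIdem (blockOf M (χ : G → ℂ))) =
      blockCoeff (blockOf M (χ : G → ℂ)) 1 := by
    intro φ
    rw [omega_eq_sum, Finset.sum_eq_single (1 : G)]
    · rw [blockIdem, coeff_mkA, mul_div_assoc, div_self (IsIrrCharacter.apply_one_ne_zero φ.2), mul_one]
    · intro g _ hg; rw [blockIdem, coeff_mkA, hsupp g hg, zero_mul]
    · simp
  have h1 := hω χ
  have h2 := hω ψ
  rw [omega_blockIdem, if_pos (self_mem_blockOf χ)] at h1
  rw [omega_blockIdem, ← h1] at h2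
  by_contra hns
  rw [if_neg (show ψ ∉ blockOf M (χ : G → ℂ) from fun hm => hns hm)] at h2
  exact zero_ne_one h2


end Cfsg.Agent.S4487
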