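import Cfsg.Statements.S4490
import Cfsg.Agent.Lib.Block.RealTest
import Cfsg.Agent.Lib.Block.Height

set_option autoImplicit false
open Cfsg

namespace Cfsg.Agent.S4490

open Cfsg.Agent.Block Cfsg.Agent.Char

/-- Let G be a finite group and M a maximal ideal of the algebraic integers containing 2. Every 2-block B of G whose defect groups are the Sylow 2-subgroups of G (a block of full defect) and which is not the principal block is different from its complex-conjugate block, the block formed by the complex conjugates of the members of B. -/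
theorem result {G : Type*} [Group G] [Finite G] (M : Ideal Cfsg.AlgInt) (hM : Cfsg.IsPModular 2 M) (B : Set (Cfsg.IrrCharacter G)) (hB : Cfsg.IsPBlock M B) (P : Sylow 2 G) (hfull : Cfsg.IsDefectGroup 2 M B (P : Subgroup G)) (hnp : B ≠ Cfsg.principalBlock M G) : {ψ : Cfsg.IrrCharacter G | ∃ χ ∈ B, (ψ : G → ℂ) = fun g => (starRingEnd ℂ) ((χ : G → ℂ) g)} ≠ B := by
  haveI := prime_of_isPModular hM
  classical
  haveI := Fintype.ofFinite G
  haveI : Fact (Nat.Prime 2) := ⟨Nat.prime_two⟩
  intro heq
  have h1 := card_defectGroup hM hB hfull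
  rw [P.card_eq_multiplicity] at h1
  have h2 := Nat.pow_right_injective le_rfl h1
  obtain ⟨χ, hχ, hv⟩ := exists_minVal 2 (isPBlock_nonempty hB)
  have hodd : ¬ 2 ∣ charDegree (χ : G → ℂ) := fun hd => by
    have h3 := Nat.prime_two.factorization_pos_of_dvd (charDegree_pos χ.2).ne' hd
    have h4 := degree_factorization_le 2 χ
    rw [blockDefect_eq] at h2
    omega
  refine hnp (isPBlock_eq_of_mem hB ⟨⟨_, isIrrCharacter_one⟩, rfl⟩ hχ ?_)
  refine mem_principal_of_sum_odd_unit hM χ (sum_odd_congr_one hM χ hodd fun g _ => ?_)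
  set χb : IrrCharacter G := ⟨fun g => (starRingEnd ℂ) ((χ : G → ℂ) g), IsIrrCharacter.conj χ.2⟩ with hχb
  have hmem : χb ∈ B := heq ▸ ⟨χ, hχ, rfl⟩
  have h5 := isPBlock_sameBlock hB hmem hχ g
  have e : centralChar (χ : G → ℂ) g⁻¹ = centralChar (χb : G → ℂ) g := by
    rw [centralChar, centralChar, hχb, centralizer_singleton_inv]
    simp only [conj_irr_one, IsCharacter.map_inv (IsIrrCharacter.isCharacter χ.2)]
  rw [e]
  exact h5

end Cfsg.Agent.S4490
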