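import Cfsg.Statements.S4491
import Cfsg.Agent.Lib.Block.DegreeSquares

set_option autoImplicit false
open Cfsg

namespace Cfsg.Agent.S4491

open Cfsg.Agent.Block Cfsg.Agent.Char

/-- Let B be a p-block of defect d of the finite group G (relative to a maximal ideal M of the algebraic integers containing p), and let p^a be the p-part of the order of G. Then the exact power of p dividing the sum of the squares of the degrees of the irreducible characters in B is p^(2a − d). -/
theorem result {G : Type*} [Group G] [Finite G] (p : ℕ) [Fact p.Prime] (M : Ideal Cfsg.AlgInt) (hM : Cfsg.IsPModular p M) (B : Set (Cfsg.IrrCharacter G)) (hB : Cfsg.IsPBlock M B) : (∑ᶠ χ ∈ B, Cfsg.charDegree (χ : G → ℂ) ^ 2).factorization p = 2 * (Nat.card G).factorization p - Cfsg.blockDefect p B := by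
  haveI := prime_of_isPModular hM
  classical
  obtain ⟨u, hu, h⟩ := sum_sq_degree_eq hM hB
  have hp : p.Prime := Fact.out
  obtain ⟨χ, hχ⟩ := isPBlock_nonempty hB
  have h1 := (minVal_le (p := p) hχ).trans (degree_factorization_le p χ)
  rw [h, Nat.factorization_mul (pow_ne_zero _ hp.ne_zero) (fun e => hu (by rw [e]; exact dvd_zero p)), Finsupp.add_apply,
    hp.factorization_pow, Finsupp.single_eq_same, Nat.factorization_eq_zero_of_not_dvd hu, blockDefect_eq]
  omega

end Cfsg.Agent.S4491
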