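import Cfsg.Statements.S4492
import Cfsg.Agent.Lib.Block.CoreLocal

set_option autoImplicit false
open Cfsg

namespace Cfsg.Agent.S4492

open Cfsg.Agent.Block Cfsg.Agent.Char

/-- Let G be a finite p-solvable group, N = O_{p'}(G) its largest normal subgroup of order prime to p, and θ an irreducible character of N invariant under conjugation by G; fix a maximal ideal M of the algebraic integers containing p. Then the irreducible characters of G lying over θ (those whose restriction to N contains θ) form a single p-block of G, and the defect groups of that block are exactly the Sylow p-subgroups of G. -/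
theorem result {G : Type*} [Group G] [Fintype G] (p : ℕ) [Fact p.Prime] (M : Ideal Cfsg.AlgInt) (hM : Cfsg.IsPModular p M) (hsolv : Cfsg.IsPSolvable p G) (N : Subgroup G) [hN : N.Normal] [Fintype N] (hNdef : N = Cfsg.pPrimeCore p G) (θ : Cfsg.IrrCharacter N) (hinv : ∀ (g : G) (n : N), (θ : N → ℂ) ⟨g * n * g⁻¹, hN.conj_mem n n.2 g⟩ = (θ : N → ℂ) n) : ∃ B : Set (Cfsg.IrrCharacter G), Cfsg.IsPBlock M B ∧ (∀ χ : Cfsg.IrrCharacter G, χ ∈ B ↔ Cfsg.classInner (fun n : N => (χ : G → ℂ) n) (θ : N → ℂ) ≠ 0) ∧ (∀ P : Sylow p G, Cfsg.IsDefectGroup p M B (P : Subgroup G)) ∧ ∀ D : Subgroup G, Cfsg.IsDefectGroup p M B D → ∃ P : Sylow p G, D = (P : Subgroup G) := by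
  classical
  subst hNdef
  haveI := prime_of_isPModular hM
  have hK : ¬ p ∣ Nat.card (pPrimeCore p G) := Local.not_dvd_card_pPrimeCore hM.1
  haveI : (pPrimePCore p G).Normal := Subgroup.Normal.comap inferInstance _
  have hKL : pPrimeCore p G ≤ pPrimePCore p G := Solv.le_comap_mk' _ _
  obtain ⟨Q⟩ : Nonempty (Sylow p (pPrimePCore p G)) := inferInstance
  have hCQ := Solv.centralizer_sylow_pPrimePCore_le Q (Solv.isPSolvable_subgroup hsolv _)
  obtain ⟨B, hB, hmem, hsyl, hall, -⟩ := block_over_invariant hM hK hinv fun hB hB' h h' =>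
    eq_of_covers_singleton hM hK hinv hKL relIndex_pPrimePCore (Subgroup.map_subtype_le _)
      (Q.isPGroup'.map _) (by
        rw [Subgroup.relIndex, Subgroup.subgroupOf, Subgroup.comap_map_eq_self_of_injective (Subgroup.subtype_injective _)]
        exact Q.not_dvd_index)
      (fun g hg _ => hCQ hg) hB hB' h h'
  exact ⟨B, hB, hmem, hsyl, hall⟩

end Cfsg.Agent.S4492
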