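import Cfsg.Statements.S4493
import Cfsg.Agent.Lib.Block.PPrimeDegrees

set_option autoImplicit false
open Cfsg

namespace Cfsg.Agent.S4493

open Cfsg.Agent.Block Cfsg.Agent.Char

/-- Let G be a finite solvable group and p a prime. Then G has a normal abelian Sylow p-subgroup if and only if no irreducible character degree of G is divisible by p. -/
theorem result {G : Type*} [Group G] [Finite G] (hsolv : Group.IsSolvable G) (p : ℕ) (hp : p.Prime) : (∃ P : Subgroup G, P.Normal ∧ (∀ x ∈ P, ∀ y ∈ P, x * y = y * x) ∧ IsPGroup p P ∧ ¬ p ∣ P.index) ↔ ∀ χ : Cfsg.IrrCharacter G, ¬ p ∣ Cfsg.charDegree (χ : G → ℂ) := by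
  haveI : Fact p.Prime := ⟨hp⟩
  haveI := hsolv
  constructor
  · rintro ⟨P, hn, hc, hP, hi⟩
    haveI : (↑(hP.toSylow hi) : Subgroup G).Normal := by rw [IsPGroup.toSylow_coe]; exact hn
    exact pPrimeDegrees_of_normal_abelian_sylow (hP.toSylow hi) ⟨⟨fun a b => Subtype.ext (hc a a.2 b b.2)⟩⟩
  · intro h
    obtain ⟨Q, hQn, hQc⟩ := PPrimeDegrees.exists_normal_abelian_sylow h (Solv.isPSolvable_of_isSolvable (p := p))
    exact ⟨Q, hQn, fun x hx y hy => congrArg Subtype.val (hQc.is_comm.comm (⟨x, hx⟩ : (Q : Subgroup G)) ⟨y, hy⟩), Q.isPGroup', Q.not_dvd_index⟩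

end Cfsg.Agent.S4493
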