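import Cfsg.Statements.S4495
import Cfsg.Agent.Lib.Char.SelfCentPrime

set_option autoImplicit false
open Cfsg

namespace Cfsg.Agent.S4495

/-- Let the finite group G contain an element x of prime order p with C_G(x) = ⟨x⟩, and let t be the number of conjugacy classes of elements of order p. If t ≠ p − 1 then the commutator subgroup has index at most (p − 1)/t; if t = p − 1 it has index exactly p. -/
theorem result {G : Type*} [Group G] [Finite G] (p : ℕ) (hp : p.Prime) (x : G) (hx : orderOf x = p) (hC : Subgroup.centralizer ({x} : Set G) = Subgroup.zpowers x) (t : ℕ) (ht : Nat.card {C : ConjClasses G // ∃ g ∈ C.carrier, orderOf g = p} = t) : (t ≠ p - 1 → (commutator G).index * t ≤ p - 1) ∧ (t = p - 1 → (commutator G).index = p) := by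
  classical
  haveI : Fact p.Prime := ⟨hp⟩
  have hcount := Cfsg.Agent.Char.SelfCentPrime.count hx hC ht
  obtain ⟨e, he⟩ : ∃ e, e = (Subgroup.zpowers x).relIndex (Subgroup.normalizer (Subgroup.zpowers x : Set G)) := ⟨_, rfl⟩
  rw [← he] at hcount
  have hp2 := hp.two_le
  have hte : t = p - 1 ↔ e = 1 := by
    refine ⟨fun h => ?_, fun h => by rw [h, mul_one] at hcount; exact hcount⟩
    rw [h] at hcount
    exact Nat.eq_of_mul_eq_mul_left (by omega : 0 < p - 1) (by rw [hcount, mul_one])
  refine ⟨fun h => ?_, fun h => (Cfsg.Agent.Char.SelfCentPrime.complement hx hC (he ▸ hte.mp h)).1⟩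
  have h1 := Cfsg.Agent.Char.SelfCentPrime.index_commutator_dvd hx hC (fun e1 => h (hte.mpr (he.trans e1)))
  rw [← he] at h1
  rw [← hcount, mul_comm]
  refine Nat.mul_le_mul_left t (Nat.le_of_dvd (Nat.pos_of_ne_zero fun e0 => ?_) h1)
  rw [e0, mul_zero] at hcount
  omega

end Cfsg.Agent.S4495
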