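import Cfsg.Statements.S4496
import Mathlib.GroupTheory.Sylow
import Mathlib.Tactic.Group

set_option autoImplicit false
open Cfsg

namespace Cfsg.Agent.S4496


/-- Let the finite group G contain an element x of prime order p with C_G(x) = ⟨x⟩. Then: (a) every normal subgroup of order divisible by p contains the commutator subgroup; (b) every normal subgroup S of order prime to p has order dividing the number of subgroups of order p of G and congruent to 1 modulo p, and in G/S the image of x again has prime order p and commutes only with its own powers. -/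
theorem result {G : Type*} [Group G] [Finite G] (p : ℕ) (hp : p.Prime) (x : G) (hx : orderOf x = p) (hC : Subgroup.centralizer ({x} : Set G) = Subgroup.zpowers x) (S : Subgroup G) [S.Normal] : (p ∣ Nat.card S → commutator G ≤ S) ∧ (¬ p ∣ Nat.card S → Nat.card S ∣ Nat.card {H : Subgroup G // Nat.card H = p} ∧ Nat.card S % p = 1 ∧ orderOf (QuotientGroup.mk x : G ⧸ S) = p ∧ Subgroup.centralizer ({(QuotientGroup.mk x : G ⧸ S)} : Set (G ⧸ S)) = Subgroup.zpowers (QuotientGroup.mk x : G ⧸ S)) := by
  classical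
  haveI : Fact p.Prime := ⟨hp⟩
  set P0 := Subgroup.zpowers x with hP0
  have hP0c : Nat.card P0 = p := by rw [hP0, Nat.card_zpowers, hx]
  have hx1 : x ≠ 1 := fun h => hp.ne_one (by rw [← hx, h, orderOf_one])
  have hcomm : ∀ y, y * x = x * y → y ∈ P0 := fun y hy => by
    rw [← hC]
    exact Subgroup.mem_centralizer_singleton_iff.2 hy
  -- the subgroup generated by x is a Sylow subgroup
  have hP0g : IsPGroup p P0 := IsPGroup.of_card (n := 1) (by rw [pow_one, hP0c])
  obtain ⟨P, hPle⟩ := hP0g.exists_le_sylow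
  have hP : (P : Subgroup G) = P0 := by
    have hxP : x ∈ (P : Subgroup G) := hPle (Subgroup.mem_zpowers x)
    haveI : Nontrivial (P : Subgroup G) :=
      ⟨⟨x, hxP⟩, 1, fun h => hx1 (congrArg Subtype.val h)⟩
    haveI : Nontrivial (Subgroup.center (P : Subgroup G)) := P.isPGroup'.center_nontrivial
    obtain ⟨z, hz⟩ := exists_ne (1 : Subgroup.center (P : Subgroup G))
    have hz' : ((z : (P : Subgroup G)) : G) ∈ P0 := hcomm _
      (congrArg Subtype.val (Subgroup.mem_center_iff.1 z.2 ⟨x, hxP⟩)).symm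
    obtain ⟨i, hi⟩ := Subgroup.mem_zpowers_iff.1 (mem_zpowers_of_prime_card (p := p) hP0c (g := (⟨_, hz'⟩ : P0))
      (g' := ⟨x, Subgroup.mem_zpowers x⟩) (fun h => hz (by
        have h' : ((z : (P : Subgroup G)) : G) = 1 := congrArg Subtype.val h
        exact Subtype.ext (Subtype.ext h'))))
    refine le_antisymm (fun y hy => hcomm y ?_) hPle
    have hi' : ((z : (P : Subgroup G)) : G) ^ i = x := by simpa using congrArg Subtype.val hi
    rw [← hi']
    have hzy : Commute y ((z : (P : Subgroup G)) : G) :=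
      congrArg Subtype.val (Subgroup.mem_center_iff.1 z.2 ⟨y, hy⟩)
    exact (hzy.zpow_right i).eq
  have hnorm : ∀ n ∈ Subgroup.normalizer (P0 : Set G), n * x * n⁻¹ ∈ P0 := fun n hn =>
    (Subgroup.mem_normalizer_iff.1 hn x).1 (Subgroup.mem_zpowers x)
  constructor
  · intro hdvd
    obtain ⟨s, hs⟩ := exists_prime_orderOf_dvd_card' p hdvd
    have hsg : orderOf (s : G) = p := by rw [Subgroup.orderOf_coe, hs]
    obtain ⟨Q, hQ⟩ := (IsPGroup.of_card (n := 1) (by rw [pow_one, Nat.card_zpowers, hsg]) :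
      IsPGroup p (Subgroup.zpowers (s : G))).exists_le_sylow
    have hQS : (Q : Subgroup G) ≤ S := by
      have hQc : Nat.card (Q : Subgroup G) = p := by
        rw [Q.card_eq_multiplicity, ← P.card_eq_multiplicity, hP, hP0c]
      rw [← Subgroup.eq_of_le_of_card_ge hQ (by rw [hQc, Nat.card_zpowers, hsg])]
      exact Subgroup.zpowers_le.2 s.2
    obtain ⟨g, hg⟩ := MulAction.exists_smul_eq G Q P
    have hPS : P0 ≤ S := by
      intro y hy
      rw [← hP, ← hg] at hy
      obtain ⟨q, hq, rfl⟩ := (Subgroup.mem_map.1 hy)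
      exact (inferInstance : S.Normal).conj_mem q (hQS hq) g
    rw [commutator_eq_closure, Subgroup.closure_le]
    rintro _ ⟨a, b, rfl⟩
    -- Frattini argument
    have hfr : ∀ a : G, ∃ n ∈ Subgroup.normalizer (P0 : Set G), (a : G ⧸ S) = (n : G ⧸ S) := by
      intro a
      have hPS' : (P : Subgroup G) ≤ S := hP ▸ hPS
      have htop := Sylow.normalizer_sup_eq_top (P.subtype hPS')
      have ha : a ∈ Subgroup.normalizer ((((P.subtype hPS' : Sylow p S) : Subgroup S).map S.subtype : Subgroup G) : Set G) ⊔ S := by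
        rw [htop]; trivial
      obtain ⟨n, hn, s', hs', rfl⟩ := Subgroup.mem_sup_of_normal_right.1 ha
      refine ⟨n, ?_, ?_⟩
      · rw [Sylow.coe_subtype, Subgroup.map_subgroupOf_eq_of_le hPS', hP] at hn
        exact hn
      · rw [QuotientGroup.mk_mul, (QuotientGroup.eq_one_iff s').2 hs', mul_one]
    obtain ⟨n, hn, hna⟩ := hfr a
    obtain ⟨m, hm, hmb⟩ := hfr b
    rw [SetLike.mem_coe, ← QuotientGroup.eq_one_iff, ← QuotientGroup.mk'_apply, map_commutatorElement]
    simp only [QuotientGroup.mk'_apply]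
    rw [hna, hmb, ← QuotientGroup.mk'_apply, ← QuotientGroup.mk'_apply, ← map_commutatorElement,
      QuotientGroup.mk'_apply, QuotientGroup.eq_one_iff]
    refine hPS (hcomm _ ?_)
    obtain ⟨i, hi⟩ := Subgroup.mem_zpowers_iff.1 (hnorm n hn)
    obtain ⟨j, hj⟩ := Subgroup.mem_zpowers_iff.1 (hnorm m hm)
    have hni : ∀ k : ℤ, n * x ^ k * n⁻¹ = x ^ (i * k) := fun k => by rw [zpow_mul, hi, conj_zpow]
    have hmj : ∀ k : ℤ, m * x ^ k * m⁻¹ = x ^ (j * k) := fun k => by rw [zpow_mul, hj, conj_zpow]
    have h1 : n * (m * x * m⁻¹) * n⁻¹ = m * (n * x * n⁻¹) * m⁻¹ := by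
      rw [← hj, hni, ← hi, hmj, mul_comm]
    have h2 : n * m * x = m * n * x * ((m * n)⁻¹ * (n * m)) := by
      calc n * m * x = n * (m * x * m⁻¹) * n⁻¹ * (n * m) := by group
        _ = m * (n * x * n⁻¹) * m⁻¹ * (n * m) := by rw [h1]
        _ = _ := by group
    show _ = _
    calc _ = n * m * n⁻¹ * m⁻¹ * x := by rw [commutatorElement_def]
      _ = (n * m) * ((m * n)⁻¹ * x * (m * n)) * (m * n)⁻¹ := by group
      _ = _ := by
        have h3 : (m * n) * x * (m * n)⁻¹ = (n * m) * x * (n * m)⁻¹ := by rw [h2]; group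
        have hmem : (m * n)⁻¹ * x * (m * n) ∈ P0 := by
          have := Subgroup.mem_normalizer_iff''.1 (Subgroup.mul_mem _ hm hn) x
          exact this.1 (Subgroup.mem_zpowers x)
        obtain ⟨k, hk⟩ := Subgroup.mem_zpowers_iff.1 hmem
        have h4 : (n * m) * x ^ k * (n * m)⁻¹ = x := by
          rw [← conj_zpow, ← h3, conj_zpow, hk]; group
        rw [← hk, commutatorElement_def]
        calc n * m * x ^ k * (m * n)⁻¹ = (n * m * x ^ k * (n * m)⁻¹) * (n * m) * (m * n)⁻¹ := by group
          _ = x * (n * m * n⁻¹ * m⁻¹) := by rw [h4]; group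
  · intro hndvd
    have hdisj : ∀ y ∈ S, y ∈ P0 → y = 1 := by
      intro y hyS hyP
      have h1 : orderOf y ∣ Nat.card S := Subgroup.orderOf_dvd_natCard S hyS
      have h2 : orderOf y ∣ p := hP0c ▸ Subgroup.orderOf_dvd_natCard P0 hyP
      rcases (Nat.dvd_prime hp).1 h2 with e | e
      · exact orderOf_eq_one_iff.1 e
      · exact absurd (e ▸ h1) hndvd
    have hSn : S.Normal := inferInstance
    have hfix : ∀ s ∈ S, s * x = x * s → s = 1 := fun s hs h => hdisj s hs (hcomm s h)
    -- the commutator map with x is a bijection of S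
    let f : S → S := fun s => ⟨(s : G) * x * (s : G)⁻¹ * x⁻¹, by
      rw [show (s : G) * x * (s : G)⁻¹ * x⁻¹ = (s : G) * (x * (s : G)⁻¹ * x⁻¹) by group]
      exact mul_mem s.2 (hSn.conj_mem _ (inv_mem s.2) x)⟩
    have hinj : Function.Injective f := fun s t h => by
      have h' : (s : G) * x * (s : G)⁻¹ * x⁻¹ = (t : G) * x * (t : G)⁻¹ * x⁻¹ := congrArg Subtype.val h
      have := hfix ((t : G)⁻¹ * s) (mul_mem (inv_mem t.2) s.2) (by
        calc (t : G)⁻¹ * s * x = (t : G)⁻¹ * ((s : G) * x * (s : G)⁻¹ * x⁻¹) * x * s := by group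
          _ = _ := by rw [h']; group)
      exact Subtype.ext (inv_mul_eq_one.1 this).symm
    have hsurj : Function.Surjective f := Finite.surjective_of_injective hinj
    have hord : orderOf (QuotientGroup.mk x : G ⧸ S) = p := by
      refine orderOf_eq_prime ?_ fun h => hx1 (hdisj x ((QuotientGroup.eq_one_iff x).1 h) (Subgroup.mem_zpowers x))
      rw [← QuotientGroup.mk_pow, ← hx, pow_orderOf_eq_one, QuotientGroup.mk_one]
    refine ⟨?_, ?_, hord, ?_⟩
    · -- the number of subgroups of order p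
      have hN : Nat.card {H : Subgroup G // Nat.card H = p} = (Subgroup.normalizer (P0 : Set G)).index := by
        rw [← hP]
        refine Eq.trans ?_ (Sylow.card_eq_index_normalizer P)
        have hsyl : ∀ Q : Sylow p G, Nat.card (Q : Subgroup G) = p := fun Q => by
          rw [Q.card_eq_multiplicity, ← P.card_eq_multiplicity, hP, hP0c]
        refine (Nat.card_eq_of_bijective (fun Q : Sylow p G => (⟨Q.toSubgroup, hsyl Q⟩ : {H : Subgroup G // Nat.card H = p}))
          ⟨fun Q R h => Sylow.ext (congrArg Subtype.val h), fun H => ?_⟩).symm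
        obtain ⟨Q, hQ⟩ := (IsPGroup.of_card (n := 1) (by rw [pow_one, H.2]) : IsPGroup p H.1).exists_le_sylow
        exact ⟨Q, Subtype.ext (Subgroup.eq_of_le_of_card_ge hQ (by rw [hsyl Q, H.2])).symm⟩
      rw [hN]
      set N := Subgroup.normalizer (P0 : Set G) with hNd
      have hinf : S ⊓ N = ⊥ := (Subgroup.eq_bot_iff_forall _).2 (fun s hs => hfix s hs.1 (by
        have h1 : s * x * s⁻¹ * x⁻¹ = 1 := hdisj _ (f ⟨s, hs.1⟩).2
          (mul_mem (hnorm s hs.2) (inv_mem (Subgroup.mem_zpowers x)))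
        calc s * x = s * x * s⁻¹ * x⁻¹ * (x * s) := by group
          _ = x * s := by rw [h1, one_mul]))
      have h1 : S.relIndex (N ⊔ S) = Nat.card N := by
        rw [Subgroup.relIndex_sup_right, ← Subgroup.inf_relIndex_right, hinf, Subgroup.relIndex_bot_left]
      have h2 := Subgroup.relIndex_mul_index (show S ≤ N ⊔ S from le_sup_right)
      rw [h1] at h2
      refine ⟨(N ⊔ S).index, Nat.eq_of_mul_eq_mul_right (Nat.card_pos (α := N)) ?_⟩
      rw [N.index_mul_card, ← S.index_mul_card, ← h2]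
      ring
    · -- congruence
      let φ : P0 →* MulAut S := (MulAut.conjNormal : G →* MulAut S).comp P0.subtype
      letI : MulAction P0 S := MulAction.compHom S φ
      have hsm : ∀ (q : P0) (s : S), ((q • s : S) : G) = (q : G) * s * (q : G)⁻¹ := fun q s => MulAut.conjNormal_apply _ _
      have hmod := hP0g.card_modEq_card_fixedPoints S
      have hone : Nat.card (MulAction.fixedPoints P0 S) = 1 := by
        rw [Nat.card_eq_one_iff_unique]
        refine ⟨⟨fun a b => ?_⟩, ⟨⟨1, fun q => Subtype.ext (by rw [hsm]; simp)⟩⟩⟩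
        have key : ∀ c : MulAction.fixedPoints P0 S, (c : S) = 1 := fun c => by
          have := congrArg Subtype.val (c.2 ⟨x, Subgroup.mem_zpowers x⟩)
          rw [hsm] at this
          exact Subtype.ext (hfix _ (c : S).2 (mul_inv_eq_iff_eq_mul.1 this).symm)
        exact Subtype.ext ((key a).trans (key b).symm)
      rw [hone, Nat.ModEq, Nat.one_mod_eq_one.2 hp.ne_one] at hmod
      exact hmod
    · refine le_antisymm (fun y hy => ?_) ?_
      · obtain ⟨y, rfl⟩ := QuotientGroup.mk_surjective y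
        have hy' := Subgroup.mem_centralizer_singleton_iff.1 hy
        have hmem : y * x * y⁻¹ * x⁻¹ ∈ S := by
          rw [← QuotientGroup.eq_one_iff, QuotientGroup.mk_mul, QuotientGroup.mk_mul, QuotientGroup.mk_mul,
            QuotientGroup.mk_inv, QuotientGroup.mk_inv, hy', mul_inv_cancel_right, mul_inv_cancel]
        obtain ⟨s, hs⟩ := hsurj ⟨_, hmem⟩
        have hs' : (s : G) * x * (s : G)⁻¹ * x⁻¹ = y * x * y⁻¹ * x⁻¹ := congrArg Subtype.val hs
        obtain ⟨k, hk⟩ := Subgroup.mem_zpowers_iff.1 (hcomm ((s : G)⁻¹ * y) (by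
          calc (s : G)⁻¹ * y * x = (s : G)⁻¹ * (y * x * y⁻¹ * x⁻¹) * x * y := by group
            _ = _ := by rw [← hs']; group))
        refine Subgroup.mem_zpowers_iff.2 ⟨k, ?_⟩
        rw [← QuotientGroup.mk_zpow, hk, QuotientGroup.mk_mul, QuotientGroup.mk_inv,
          (QuotientGroup.eq_one_iff (s : G)).2 s.2, inv_one, one_mul]
      · exact Subgroup.zpowers_le.2 (Subgroup.mem_centralizer_singleton_iff.2 rfl)

end Cfsg.Agent.S4496
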