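import Cfsg.Statements.S4497
import Cfsg.Agent.Lib.Char.SelfCentPrime

set_option autoImplicit false
open Cfsg

namespace Cfsg.Agent.S4497

/-- Let the finite group G contain an element x of prime order p with C_G(x) = ⟨x⟩, let t be the number of conjugacy classes of elements of order p, and let S* = O_{p′}(G) be the largest normal subgroup of order prime to p. Then S* ≤ G′; if t ≠ p − 1 the quotient G′/S* is simple (in particular non-trivial); if t = p − 1 then G′ = S*. -/
theorem result {G : Type*} [Group G] [Finite G] (p : ℕ) (hp : p.Prime) (x : G) (hx : orderOf x = p) (hC : Subgroup.centralizer ({x} : Set G) = Subgroup.zpowers x) (t : ℕ) (ht : Nat.card {C : ConjClasses G // ∃ g ∈ C.carrier, orderOf g = p} = t) : Cfsg.pPrimeCore p G ≤ commutator G ∧ (t ≠ p - 1 → ∀ h : ((Cfsg.pPrimeCore p G).subgroupOf (commutator G)).Normal, IsSimpleGroup (↥(commutator G) ⧸ (Cfsg.pPrimeCore p G).subgroupOf (commutator G))) ∧ (t = p - 1 → commutator G = Cfsg.pPrimeCore p G) := by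
  classical
  haveI : Fact p.Prime := ⟨hp⟩
  have hcount := Cfsg.Agent.Char.SelfCentPrime.count hx hC ht
  obtain ⟨e, he⟩ : ∃ e, e = (Subgroup.zpowers x).relIndex (Subgroup.normalizer (Subgroup.zpowers x : Set G)) := ⟨_, rfl⟩
  rw [← he] at hcount
  have hp2 := hp.two_le
  have hte : t = p - 1 ↔ e = 1 := by
    refine ⟨fun h => ?_, fun h => by rw [h, mul_one] at hcount; exact hcount⟩
    rw [h] at hcount
    exact Nat.eq_of_mul_eq_mul_left (by omega : 0 < p - 1) (by rw [hcount, mul_one])
  have hS : Cfsg.pPrimeCore p G ≤ commutator G :=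
    Cfsg.Agent.Char.SelfCentPrime.le_commutator hx hC _ ((hp.coprime_iff_not_dvd).mp (Cfsg.Agent.Solv.card_pPrimeCore_coprime p G).symm)
  refine ⟨hS, fun h hN => ?_, fun h => ?_⟩
  swap
  · refine le_antisymm (Cfsg.Agent.Solv.le_pPrimeCore ?_) hS
    exact ((hp.coprime_iff_not_dvd).mpr (Cfsg.Agent.Char.SelfCentPrime.complement hx hC (he ▸ hte.mp h)).2).symm
  haveI := hN
  have he1 : (Subgroup.zpowers x).relIndex (Subgroup.normalizer (Subgroup.zpowers x : Set G)) ≠ 1 :=
    fun e1 => h (hte.mpr (he.trans e1))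
  have hxD : x ∈ commutator G :=
    Cfsg.Agent.Char.SelfCentPrime.mem_commutator hx hC he1 (Subgroup.mem_zpowers x)
  have hcS : ∀ y ∈ Cfsg.pPrimeCore p G, orderOf y = p → False := fun y hy hyp =>
    (hp.coprime_iff_not_dvd).mp (Cfsg.Agent.Solv.card_pPrimeCore_coprime p G).symm
      (hyp ▸ (Cfsg.pPrimeCore p G).orderOf_dvd_natCard hy)
  let D : Subgroup G := commutator G
  let Q : Subgroup D := (Cfsg.pPrimeCore p G).subgroupOf (commutator G)
  by_cases hD : ⁅commutator G, commutator G⁆ = commutator G
  · haveI : Nontrivial (D ⧸ Q) := QuotientGroup.nontrivial_iff.mpr fun e => by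
      have : (⟨x, hxD⟩ : D) ∈ Q := e ▸ Subgroup.mem_top _
      exact hcS x this hx
    refine ⟨fun M hM => ?_⟩
    haveI := hM
    let M' : Subgroup D := M.comap (QuotientGroup.mk' Q)
    have hQM : Q ≤ M' := fun y hy => by
      show (QuotientGroup.mk' Q y) ∈ M
      rw [QuotientGroup.mk'_apply, (QuotientGroup.eq_one_iff y).mpr hy]
      exact M.one_mem
    by_cases hpM : p ∣ Nat.card M'
    · right
      have hcent := Cfsg.Agent.Char.SelfCentPrime.centralizer_subgroupOf hC D hxD
      have hle := Cfsg.Agent.Char.SelfCentPrime.commutator_le (G := D) (p := p) (x := ⟨x, hxD⟩)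
        (by rw [← Subgroup.orderOf_coe]; exact hx) hcent M' hpM
      have hDD : commutator D = ⊤ := by
        refine Subgroup.map_injective D.subtype_injective ?_
        rw [D.map_subtype_commutator, hD, ← MonoidHom.range_eq_map, Subgroup.range_subtype]
      rw [eq_top_iff]
      intro q _
      obtain ⟨y, rfl⟩ := QuotientGroup.mk'_surjective Q q
      exact hle (hDD ▸ Subgroup.mem_top y)
    · left
      have hM'le : M' ≤ Q := by
        have hD' : M' ≤ Cfsg.pPrimeCore p D :=
          Cfsg.Agent.Solv.le_pPrimeCore ((hp.coprime_iff_not_dvd).mpr hpM).symm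
        haveI : ((Cfsg.pPrimeCore p D).map D.subtype).Normal := inferInstance
        have hG : (Cfsg.pPrimeCore p D).map D.subtype ≤ Cfsg.pPrimeCore p G :=
          Cfsg.Agent.Solv.le_pPrimeCore (by
            rw [Subgroup.card_map_of_injective D.subtype_injective]
            exact Cfsg.Agent.Solv.card_pPrimeCore_coprime p D)
        exact fun y hy => hG ⟨y, hD' hy, rfl⟩
      rw [eq_bot_iff]
      intro q hq
      obtain ⟨y, rfl⟩ := QuotientGroup.mk'_surjective Q q
      exact (QuotientGroup.eq_one_iff y).mpr (hM'le hq)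
  · obtain ⟨hnd, hcard, -⟩ := Cfsg.Agent.Char.SelfCentPrime.derived hx hC he1 hD
    have hle : ⁅commutator G, commutator G⁆ ≤ Cfsg.pPrimeCore p G :=
      Cfsg.Agent.Solv.le_pPrimeCore ((hp.coprime_iff_not_dvd).mpr hnd).symm
    refine isSimpleGroup_of_prime_card (p := p) ?_
    have h1 : Q.index ∣ p := by
      have h2 : (⁅commutator G, commutator G⁆.subgroupOf (commutator G)).index = p := by
        have h3 := Subgroup.card_mul_index (⁅commutator G, commutator G⁆.subgroupOf (commutator G))
        rw [Nat.card_congr (Subgroup.subgroupOfEquivOfLe (Subgroup.commutator_le_left (commutator G) (commutator G))).toEquiv,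
          hcard, mul_comm p] at h3
        exact Nat.eq_of_mul_eq_mul_left Nat.card_pos h3
      exact h2 ▸ Subgroup.index_dvd_of_le (fun y hy => hle hy)
    rw [← Subgroup.index_eq_card]
    rcases (Nat.dvd_prime hp).mp h1 with h4 | h4
    · exfalso
      have : (⟨x, hxD⟩ : D) ∈ Q := (Subgroup.index_eq_one.mp h4) ▸ Subgroup.mem_top _
      exact hcS x this hx
    · exact h4

end Cfsg.Agent.S4497
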