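import Cfsg.Statements.S4498
import Cfsg.Agent.Lib.Block.SecondMain
import Cfsg.Agent.Lib.Block.PrincipalColumns

set_option autoImplicit false
open Cfsg

namespace Cfsg.Agent.S4498

open Cfsg.Agent.Block Cfsg.Agent.Char

/-- Let p and q be distinct primes dividing the order of the finite group G, and suppose G has no element of order p·q. Fix maximal ideals M_p over p and M_q over q of the algebraic integers. Then the principal p-block and the principal q-block of G have a non-principal irreducible character in common. -/
theorem result {G : Type*} [Group G] [Finite G] (p q : ℕ) [Fact p.Prime] [Fact q.Prime] (hpq : p ≠ q) (hp : p ∣ Nat.card G) (hq : q ∣ Nat.card G) (hno : ∀ g : G, orderOf g ≠ p * q) (Mp Mq : Ideal Cfsg.AlgInt) (hMp : Cfsg.IsPModular p Mp) (hMq : Cfsg.IsPModular q Mq) : ∃ χ : Cfsg.IrrCharacter G, (χ : G → ℂ) ≠ (fun _ => 1) ∧ χ ∈ Cfsg.principalBlock Mp G ∧ χ ∈ Cfsg.principalBlock Mq G := by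
  classical
  haveI := Fintype.ofFinite G
  haveI := prime_of_isPModular hMp
  haveI := prime_of_isPModular hMq
  have hpp : p.Prime := Fact.out
  have hqq : q.Prime := Fact.out
  obtain ⟨x, hx⟩ := exists_prime_orderOf_dvd_card' (G := G) p hp
  obtain ⟨y, hy⟩ := exists_prime_orderOf_dvd_card' (G := G) q hq
  let one : IrrCharacter G := ⟨fun _ => 1, isIrrCharacter_one⟩
  have hBp : IsPBlock Mp (principalBlock Mp G) := ⟨one, rfl⟩
  have hBq : IsPBlock Mq (principalBlock Mq G) := ⟨one, rfl⟩
  by_contra hcon
  push Not at hcon
  have h0 : ∑ g : G, blockKernel (principalBlock Mp G) g x * blockKernel (principalBlock Mq G) y g = 0 := by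
    refine Finset.sum_eq_zero fun g _ => ?_
    by_cases hg : q ∣ orderOf g
    · obtain ⟨u, hu⟩ := isPPart_exists hpp g
      by_cases hc : IsConj u x
      · exfalso
        obtain ⟨t, ht⟩ := isConj_iff.1 hc
        obtain ⟨w, huw, hcomm, -, hw⟩ := hu
        have hou : orderOf u = p := by
          rw [← hx, ← ht]
          exact (orderOf_injective (MulAut.conj t).toMonoidHom (MulAut.conj t).injective u).symm
        have hog : orderOf g = p * orderOf w := by
          rw [← huw, hcomm.orderOf_mul_eq_mul_orderOf_of_coprime (by rw [hou]; exact hpp.coprime_iff_not_dvd.2 hw), hou]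
        have hd : p * q ∣ orderOf g := by
          rw [hog]
          refine mul_dvd_mul_left p ?_
          rw [hog] at hg
          exact (hqq.dvd_mul.1 hg).resolve_left fun h => hpq ((Nat.prime_dvd_prime_iff_eq hqq hpp).1 h).symm
        exact hno _ (orderOf_pow_orderOf_div (orderOf_pos g).ne' hd)
      · rw [blockKernel_eq_zero_of_sections hMp hu (isPPart_self hpp ⟨1, by rw [pow_one, hx]⟩) hc hBp, zero_mul]
    · rw [blockKernel_eq_zero hMq hBq (fun h => hg (h.1 (hy ▸ dvd_refl q))), mul_zero]
  have h1 : ∑ g : G, blockKernel (principalBlock Mp G) g x * blockKernel (principalBlock Mq G) y g = (Nat.card G : ℂ) := by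
    simp only [blockKernel.eq_def (principalBlock Mp G), finsum_mem_eq_finite_toFinset_sum _ (principalBlock Mp G).toFinite, Finset.sum_mul]
    rw [Finset.sum_comm, Finset.sum_eq_single one]
    · have h := sum_mul_blockKernel (principalBlock Mq G) one y
      rw [if_pos (show one ∈ principalBlock Mq G from sameBlock_refl _)] at h
      simp only [one, map_one, mul_one] at h ⊢
      exact h
    · intro χ hχ hne
      have hχp : χ ∈ principalBlock Mp G := (principalBlock Mp G).toFinite.mem_toFinset.1 hχ
      have h := sum_mul_blockKernel (principalBlock Mq G) χ y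
      rw [if_neg (fun hχq => hcon χ (fun e => hne (Subtype.ext e)) hχp hχq)] at h
      calc _ = (starRingEnd ℂ) ((χ : G → ℂ) x) * ∑ g : G, (χ : G → ℂ) g * blockKernel (principalBlock Mq G) y g := by
            rw [Finset.mul_sum]
            exact Finset.sum_congr rfl fun g _ => by ring
        _ = 0 := by rw [h, mul_zero]
    · intro h
      exact absurd ((principalBlock Mp G).toFinite.mem_toFinset.2 (sameBlock_refl _)) h
  rw [h0] at h1
  exact Nat.cast_ne_zero.2 (Nat.card_pos (α := G)).ne' h1.symm

end Cfsg.Agent.S4498
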