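import Cfsg.Statements.S4500
import Cfsg.Agent.Lib.Block.Regular
import Cfsg.Agent.Lib.Block.SmallDefectForm
import Cfsg.Agent.Lib.Block.WeakOrth
import Cfsg.Agent.Lib.Block.RegInner
import Cfsg.Agent.Lib.Char.Burnside
import Cfsg.Agent.Lib.Block.LinearExtend

set_option autoImplicit false
open Cfsg

namespace Cfsg.Agent.S4500

open Cfsg.Agent.Block Cfsg.Agent.Char

/-- Let G be a non-trivial finite group of order p^a · q^b · r^c with p, q, r distinct primes and a ≤ 2. Then G has a non-principal irreducible character whose degree is a power of q, and a non-principal irreducible character whose degree is a power of r; the power may be the zeroth, so a non-principal linear character serves for both. -/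
theorem result {G : Type*} [Group G] [Finite G] [Nontrivial G] (p q r a b c : ℕ) (hp : p.Prime) (hq : q.Prime) (hr : r.Prime) (hpq : p ≠ q) (hpr : p ≠ r) (hqr : q ≠ r) (ha : a ≤ 2) (hG : Nat.card G = p ^ a * q ^ b * r ^ c) : (∃ χ : Cfsg.IrrCharacter G, (χ : G → ℂ) ≠ (fun _ => 1) ∧ ∃ k : ℕ, Cfsg.charDegree (χ : G → ℂ) = q ^ k) ∧ ∃ χ : Cfsg.IrrCharacter G, (χ : G → ℂ) ≠ (fun _ => 1) ∧ ∃ k : ℕ, Cfsg.charDegree (χ : G → ℂ) = r ^ k := by
  classical
  haveI := Fintype.ofFinite G
  suffices key : ∀ (q r b c : ℕ), q.Prime → r.Prime → p ≠ q → p ≠ r → q ≠ r → Nat.card G = p ^ a * q ^ b * r ^ c →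
      ∃ χ : IrrCharacter G, (χ : G → ℂ) ≠ (fun _ => 1) ∧ ∃ k : ℕ, charDegree (χ : G → ℂ) = q ^ k from
    ⟨key q r b c hq hr hpq hpr hqr hG, key r q c b hr hq hpr hpq hqr.symm (by rw [hG]; ring)⟩
  clear hq hr hpq hpr hqr hG
  intro q r b c hq hr hpq hpr hqr hG
  by_cases hperf : commutator G = ⊤
  swap
  · obtain ⟨x, hx⟩ : ∃ x, x ∉ commutator G := by
      by_contra h
      push Not at h
      exact hperf (Subgroup.eq_top_iff' _ |>.2 h)
    obtain ⟨φ, hφ⟩ := CommGroup.exists_apply_ne_one_of_hasEnoughRootsOfUnity (Abelianization G) ℂ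
      (a := Abelianization.of x) (fun e => hx ((QuotientGroup.eq_one_iff x).1 e))
    refine ⟨⟨_, isIrrCharacter_monoidHom (φ.comp Abelianization.of)⟩, fun e => hφ (Units.ext ?_), 0, by simp [charDegree]⟩
    have := congrFun e x
    simpa using this
  have hpG : p ∣ Nat.card G := by
    rcases Nat.eq_zero_or_pos a with ha0 | ha0
    · exfalso
      rw [ha0, pow_zero, one_mul] at hG
      haveI := solvable_of_card_prime_pow_mul q r hq hr _ G hG ⟨b, c, rfl⟩
      exact (Group.IsSolvable.commutator_lt_top_of_nontrivial G).ne hperf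
    · rw [hG]; exact ((dvd_pow_self p ha0.ne').mul_right _).mul_right _
  haveI : Fact p.Prime := ⟨hp⟩
  obtain ⟨M, hM⟩ := exists_isPModular hp
  haveI := prime_of_isPModular hM
  set one : IrrCharacter G := ⟨_, isIrrCharacter_one⟩ with hone
  have h1B : one ∈ principalBlock M G := self_mem_blockOf one
  have hB : IsPBlock M (principalBlock M G) := isPBlock_blockOf one
  obtain ⟨y, hy⟩ := exists_prime_orderOf_dvd_card' p hpG
  have hw := weak_orthogonality hM hB (x := (1 : G)) (y := y) (by rw [orderOf_one]; exact hp.not_dvd_one) (by rw [hy])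
  obtain ⟨χ, hχB, hχ1, hχr⟩ : ∃ χ ∈ principalBlock M G, (χ : G → ℂ) ≠ (fun _ => 1) ∧ ¬ r ∣ charDegree (χ : G → ℂ) := by
    by_contra hno
    simp only [not_exists, not_and, not_not] at hno
    haveI := Fintype.ofFinite (IrrCharacter G)
    rw [finsum_mem_eq_finite_toFinset_sum _ (Set.toFinite _), ← Finset.add_sum_erase _ _ ((Set.Finite.mem_toFinset _).2 h1B)] at hw
    have hint : IsIntegral ℤ (((1 : ℕ) : ℂ) / (r : ℂ)) := by
      have he : ((1 : ℕ) : ℂ) / (r : ℂ) = - ∑ χ ∈ (Set.toFinite (principalBlock M G)).toFinset.erase one,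
          ((charDegree (χ : G → ℂ) / r : ℕ) : ℂ) * (starRingEnd ℂ) ((χ : G → ℂ) y) := by
        rw [eq_neg_iff_add_eq_zero, ← mul_right_inj' (Nat.cast_ne_zero.2 hr.ne_zero : (r : ℂ) ≠ 0), mul_add, mul_zero,
          mul_div_cancel₀ _ (Nat.cast_ne_zero.2 hr.ne_zero : (r : ℂ) ≠ 0), Finset.mul_sum]
        refine Eq.trans ?_ hw
        congr 1
        · simp [hone]
        · refine Finset.sum_congr rfl fun χ hχ => ?_
          rw [← mul_assoc, ← Nat.cast_mul, Nat.mul_div_cancel' (hno χ ((Set.Finite.mem_toFinset _).1 (Finset.mem_of_mem_erase hχ))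
            fun e => Finset.ne_of_mem_erase hχ (Subtype.ext e)), charDegree_cast (IsIrrCharacter.isCharacter χ.2)]
      rw [he]
      refine (IsIntegral.sum _ fun χ _ => (isIntegral_natCast _).mul ?_).neg
      rw [← IsCharacter.map_inv (IsIrrCharacter.isCharacter χ.2)]
      exact IsCharacter.isIntegral (IsIrrCharacter.isCharacter χ.2) _
    exact hr.one_lt.ne' (Nat.dvd_one.1 (nat_dvd_of_isIntegral_div hr.ne_zero hint))
  refine ⟨χ, hχ1, (charDegree (χ : G → ℂ)).factorization q, ?_⟩
  have hfp : (charDegree (χ : G → ℂ)).factorization p = 0 := by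
    have h0 : minVal p (principalBlock M G) = 0 := by
      have := minVal_le (p := p) h1B
      simpa [hone, charDegree] using this
    have hd : blockDefect p (principalBlock M G) ≤ 2 := by
      refine (Nat.sub_le _ _).trans ?_
      rw [hG, Nat.factorization_mul (mul_ne_zero (pow_ne_zero _ hp.ne_zero) (pow_ne_zero _ hq.ne_zero)) (pow_ne_zero _ hr.ne_zero),
        Nat.factorization_mul (pow_ne_zero _ hp.ne_zero) (pow_ne_zero _ hq.ne_zero), hp.factorization_pow, hq.factorization_pow,
        hr.factorization_pow]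
      simp [hpq.symm, hpr.symm, ha]
    have := height_eq_zero_of_defect_le_two hM hB hd hχB
    change (charDegree (χ : G → ℂ)).factorization p - minVal p (principalBlock M G) = 0 at this
    omega
  have hd0 := (charDegree_pos χ.2).ne'
  have hdvd := charDegree_dvd_card χ.2
  rw [hG] at hdvd
  have hcp : (charDegree (χ : G → ℂ)).Coprime (p ^ a) := Nat.Coprime.pow_right _ ((hp.coprime_iff_not_dvd).2 (fun h => by
    have := hp.factorization_pos_of_dvd hd0 h; omega)).symm
  have hcr : (charDegree (χ : G → ℂ)).Coprime (r ^ c) := Nat.Coprime.pow_right _ ((hr.coprime_iff_not_dvd).2 hχr).symm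
  obtain ⟨k, -, hk⟩ := (Nat.dvd_prime_pow hq).1 (hcp.dvd_of_dvd_mul_left (hcr.dvd_of_dvd_mul_right hdvd))
  rw [hk, hq.factorization_pow, Finsupp.single_eq_same]

end Cfsg.Agent.S4500
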