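import Cfsg.Statements.S4506
import Cfsg.Agent.Lib.Char.PConjugateCount

set_option autoImplicit false
open Cfsg

namespace Cfsg.Agent.S4506

open Cfsg.Agent.Block Cfsg.Agent.Char

/-- Let G be a finite group, p a prime, p^a the p-part of the order of G and g′ its p′-part. Call two irreducible characters p-conjugate when one is obtained from the other by applying a field automorphism of ℂ that fixes the g′-th roots of unity, and let r be the number of characters p-conjugate to the irreducible character χ (χ included). Then the exponent of p in r·χ(1) is at most a; and if p^a divides r·χ(1) then p^a already divides χ(1). -/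
theorem result {G : Type*} [Group G] [Finite G] (p : ℕ) (hp : p.Prime) (χ : Cfsg.IrrCharacter G) (r : ℕ) (hr : Nat.card {ψ : Cfsg.IrrCharacter G // ∃ σ : ℂ ≃+* ℂ, σ (Complex.exp (2 * Real.pi * Complex.I / ((Nat.card G / p ^ (Nat.card G).factorization p) : ℕ))) = Complex.exp (2 * Real.pi * Complex.I / ((Nat.card G / p ^ (Nat.card G).factorization p) : ℕ)) ∧ (ψ : G → ℂ) = fun g => σ ((χ : G → ℂ) g)} = r) : (r * Cfsg.charDegree (χ : G → ℂ)).factorization p ≤ (Nat.card G).factorization p ∧ (p ^ (Nat.card G).factorization p ∣ r * Cfsg.charDegree (χ : G → ℂ) → p ^ (Nat.card G).factorization p ∣ Cfsg.charDegree (χ : G → ℂ)) := by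
    haveI := Fact.mk hp
    obtain ⟨hr0, hlt⟩ := PConj.main (p := p) χ hr
    have hd0 : Cfsg.charDegree (χ : G → ℂ) ≠ 0 := fun h => IsIrrCharacter.apply_one_ne_zero χ.2 (by
      rw [← charDegree_cast (IsIrrCharacter.isCharacter χ.2), h, Nat.cast_zero])
    rw [Nat.factorization_mul hr0 hd0, Finsupp.add_apply]
    by_cases hpr : p ∣ r
    · have := hlt hpr
      refine ⟨by omega, fun h => absurd ((hp.pow_dvd_iff_le_factorization (mul_ne_zero hr0 hd0)).1 h) ?_⟩
      rw [Nat.factorization_mul hr0 hd0, Finsupp.add_apply]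
      omega
    · rw [Nat.factorization_eq_zero_of_not_dvd hpr, zero_add]
      refine ⟨?_, fun h => (Nat.Coprime.dvd_of_dvd_mul_left ((hp.coprime_iff_not_dvd.2 hpr).pow_left _) h)⟩
      obtain ⟨d, hd⟩ := IsCharacter.exists_degree (IsIrrCharacter.isCharacter χ.2)
      have e : Cfsg.charDegree (χ : G → ℂ) = d := Nat.cast_injective (R := ℂ) (by
        rw [charDegree_cast (IsIrrCharacter.isCharacter χ.2), hd])
      exact (Nat.factorization_le_iff_dvd hd0 Nat.card_pos.ne').2 (e ▸ degree_dvd_card χ.2 d hd) p

end Cfsg.Agent.S4506
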