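import Cfsg.Statements.S4508
import Cfsg.Agent.Lib.Char.SelfCentPrime
import Cfsg.Agent.Lib.Char.TI
import Cfsg.Agent.Lib.Char.Clifford
import Cfsg.Agent.Lib.Char.Induction
import Cfsg.Agent.Lib.Char.Linear
import Cfsg.Agent.Lib.Char.Equiv
import Cfsg.Agent.Lib.Char.Integral
import Cfsg.Agent.Lib.Block.Regular
import Mathlib.LinearAlgebra.Matrix.Permutation
import Mathlib.GroupTheory.Perm.Sign

set_option autoImplicit false
open Cfsg

namespace Cfsg.Agent.S4508

open Cfsg.Agent.Char Representation
open scoped ComplexConjugate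

theorem sum_rep_eq_zero {G : Type*} [Group G] [Fintype G] {d : ℕ} (ρ : Representation ℂ G (Fin d → ℂ))
    (h : ∑ g, ρ.character g = 0) : ∑ g, ρ g = 0 := by
  have hQ : ∀ a, ρ a * (∑ g, ρ g) = ∑ g, ρ g := fun a => by
    rw [Finset.mul_sum]
    exact Fintype.sum_equiv (Equiv.mulLeft a) _ _ fun g => by simp [map_mul]
  have hc : (Fintype.card G : ℂ) ≠ 0 := Nat.cast_ne_zero.mpr Fintype.card_ne_zero
  obtain ⟨E, hE⟩ : ∃ E : Module.End ℂ (Fin d → ℂ), E = (Fintype.card G : ℂ)⁻¹ • ∑ g, ρ g := ⟨_, rfl⟩
  have hEE : E * E = E := by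
    conv_lhs => rw [hE, smul_mul_assoc, mul_smul_comm, Finset.sum_mul,
      Finset.sum_congr rfl (fun a _ => hQ a), Finset.sum_const, Finset.card_univ, ← Nat.cast_smul_eq_nsmul ℂ,
      smul_smul, smul_smul, mul_assoc, inv_mul_cancel₀ hc, mul_one]
    exact hE.symm
  have hproj : LinearMap.IsProj (LinearMap.range E) E := ⟨fun v => ⟨v, rfl⟩, fun v hv => by
    obtain ⟨w, rfl⟩ := hv
    rw [← Module.End.mul_apply, hEE]⟩
  have ht := hproj.trace
  have h0 : LinearMap.trace ℂ (Fin d → ℂ) E = 0 := by
    rw [hE, map_smul, map_sum]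
    exact smul_eq_zero.mpr (Or.inr h)
  rw [h0, eq_comm, Nat.cast_eq_zero, Submodule.finrank_eq_zero, LinearMap.range_eq_bot] at ht
  rw [hE, smul_eq_zero] at ht
  exact ht.resolve_left (inv_ne_zero hc)

/-- An element acting as a multiple of the regular representation of odd multiplicity. -/
theorem det_regular {G : Type*} [Group G] [Finite G] {d : ℕ} (ρ : Representation ℂ G (Fin d → ℂ))
    (y : G) (s k : ℕ) (hs : s ≠ 0) (hy : orderOf y = 2 ^ s) (hk : Odd k) (hd : d = k * 2 ^ s)
    (h0 : ∀ g ∈ Subgroup.zpowers y, g ≠ 1 → ρ.character g = 0) : LinearMap.det (ρ y) = -1 := by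
  classical
  haveI := Fintype.ofFinite G
  let Y := Subgroup.zpowers y
  let ρ₁ : Representation ℂ Y (Fin d → ℂ) := ρ.comp Y.subtype
  let sh : Y → Equiv.Perm (Fin k × Y) := fun g => Equiv.prodCongrRight fun _ => Equiv.mulRight g
  let σ : Representation ℂ Y (Fin k × Y → ℂ) :=
    { toFun := fun g => LinearMap.funLeft ℂ ℂ (sh g)
      map_one' := LinearMap.ext fun f => funext fun i => by simp [sh, LinearMap.funLeft_apply, Equiv.prodCongrRight]
      map_mul' := fun a b => LinearMap.ext fun f => funext fun i => by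
        simp [sh, LinearMap.funLeft_apply, Equiv.prodCongrRight, mul_assoc] }
  have hmat : ∀ g : Y, LinearMap.toMatrix' (σ g) = Equiv.Perm.permMatrix ℂ (sh g) := fun g => by
    refine Matrix.ext fun i j => ?_
    simp [σ, LinearMap.toMatrix'_apply, LinearMap.funLeft_apply, Equiv.Perm.permMatrix, PEquiv.toMatrix,
      Pi.single_apply, eq_comm]
  have hY : Fintype.card Y = 2 ^ s := by rw [← Nat.card_eq_fintype_card, Nat.card_zpowers, hy]
  have hchar : ρ₁.character = σ.character := funext fun g => by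
    show ρ.character (g : G) = LinearMap.trace ℂ _ (σ g)
    rw [LinearMap.trace_eq_matrix_trace ℂ (Pi.basisFun ℂ (Fin k × Y)), LinearMap.toMatrix_eq_toMatrix',
      hmat, Matrix.trace]
    by_cases hg : g = 1
    · subst hg
      rw [Subgroup.coe_one, ρ.char_one, Module.finrank_fin_fun, hd]
      simp [sh, Equiv.Perm.permMatrix, PEquiv.toMatrix, hY, Equiv.prodCongrRight]
    · rw [h0 g g.2 (fun e => hg (Subtype.ext e)), Finset.sum_eq_zero]
      intro i _
      simp [sh, Equiv.Perm.permMatrix, PEquiv.toMatrix, Prod.ext_iff, hg]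
  obtain ⟨φ⟩ := nonempty_equiv_of_character_eq_aux _ ρ₁ σ rfl hchar
  have hdet : LinearMap.det (ρ₁ ⟨y, Subgroup.mem_zpowers y⟩) = LinearMap.det (σ ⟨y, Subgroup.mem_zpowers y⟩) := by
    rw [← Equiv.conj_apply_self (⟨y, Subgroup.mem_zpowers y⟩ : Y) φ, LinearEquiv.conj_apply,
      LinearMap.comp_assoc, LinearMap.det_conj]
  show LinearMap.det (ρ₁ ⟨y, Subgroup.mem_zpowers y⟩) = -1
  rw [hdet, ← LinearMap.det_toMatrix', hmat, Matrix.det_permutation, Equiv.Perm.sign_prodCongrRight,
    Finset.prod_const, Finset.card_univ, Fintype.card_fin]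
  obtain ⟨w, hw⟩ : ∃ w : Y, w = ⟨y, Subgroup.mem_zpowers y⟩ := ⟨_, rfl⟩
  rw [← hw]
  have hw1 : w ≠ 1 := fun e => by
    have e' : y = 1 := congrArg Subtype.val (hw.symm.trans e)
    rw [e', orderOf_one] at hy
    exact hs (Nat.pow_eq_one.mp hy.symm |>.resolve_left (by norm_num))
  have hcyc : (Equiv.mulRight w : Equiv.Perm Y).IsCycle := by
    refine ⟨1, by simpa using hw1, fun z _ => ?_⟩
    obtain ⟨i, hi⟩ := Subgroup.mem_zpowers_iff.mp z.2
    refine ⟨i, ?_⟩
    rw [Equiv.zpow_mulRight]
    refine Subtype.ext ?_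
    simp [hw, hi]
  have hsupp : (Equiv.mulRight w : Equiv.Perm Y).support = Finset.univ :=
    Finset.eq_univ_iff_forall.mpr fun z => by simpa [Equiv.Perm.mem_support] using hw1
  rw [hcyc.sign, hsupp, Finset.card_univ, hY]
  have he : Even (2 ^ s) := Nat.even_pow.mpr ⟨even_two, hs⟩
  rw [he.neg_one_pow, hk.neg_one_pow]
  simp

/-- Let the finite group G contain an element x of prime order p with C_G(x) = ⟨x⟩, and let t be the number of conjugacy classes of elements of order p. If G has an irreducible character of degree p − 1, then t is even or the commutator subgroup has even index. -/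
theorem result {G : Type*} [Group G] [Finite G] (p : ℕ) (hp : p.Prime) (x : G) (hx : orderOf x = p) (hC : Subgroup.centralizer ({x} : Set G) = Subgroup.zpowers x) (t : ℕ) (ht : Nat.card {C : ConjClasses G // ∃ g ∈ C.carrier, orderOf g = p} = t) (χ : Cfsg.IrrCharacter G) (hχ : Cfsg.charDegree (χ : G → ℂ) + 1 = p) : Even t ∨ Even (commutator G).index := by
  classical
  haveI : Fact p.Prime := ⟨hp⟩
  have hcount := Cfsg.Agent.Char.SelfCentPrime.count hx hC ht
  obtain ⟨e, he⟩ : ∃ e, e = (Subgroup.zpowers x).relIndex (Subgroup.normalizer (Subgroup.zpowers x : Set G)) := ⟨_, rfl⟩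
  rw [← he] at hcount
  have hp2 := hp.two_le
  have hte : t = p - 1 ↔ e = 1 := by
    refine ⟨fun h => ?_, fun h => by rw [h, mul_one] at hcount; exact hcount⟩
    rw [h] at hcount
    exact Nat.eq_of_mul_eq_mul_left (by omega : 0 < p - 1) (by rw [hcount, mul_one])
  rcases Nat.even_or_odd t with hte' | hodd
  · exact Or.inl hte'
  right
  haveI := Fintype.ofFinite G
  by_cases h : t = p - 1
  · have hpeq : p = 2 := by
      by_contra h2
      obtain ⟨b, hb⟩ := hp.odd_of_ne_two h2
      obtain ⟨b', hb'⟩ := hodd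
      omega
    rw [(Cfsg.Agent.Char.SelfCentPrime.complement hx hC (he ▸ hte.mp h)).1, hpeq]
    exact even_two
  have he1 : e ≠ 1 := fun e1 => h (hte.mpr e1)
  have hp3 : p ≠ 2 := fun h2 => he1 (Nat.eq_one_of_dvd_one (by
    rw [show (1 : ℕ) = p - 1 by omega, ← hcount]; exact dvd_mul_left e t))
  have heven : Even e := by
    rcases Nat.even_mul.mp (show Even (t * e) by
      rw [hcount]; exact (Nat.Prime.even_sub_one hp hp3)) with h' | h'
    · exact absurd h' (Nat.not_even_iff_odd.mpr hodd)
    · exact h'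
  obtain ⟨n₀, ρ, hρirr, hρ⟩ := χ.2
  haveI := hρirr
  have hχρ : (χ : G → ℂ) = ρ.character := by simp [hρ]
  obtain rfl : p = n₀ + 1 := by
    rw [Cfsg.charDegree, hχρ, ρ.char_one, Module.finrank_fin_fun, Complex.natCast_re, Nat.floor_natCast] at hχ
    exact hχ.symm
  let P0 : Subgroup G := Subgroup.zpowers x
  let N : Subgroup G := Subgroup.normalizer (P0 : Set G)
  let P' : Subgroup N := P0.subgroupOf N
  haveI hP'n : P'.Normal := Subgroup.normal_in_normalizer
  haveI := Fintype.ofFinite N
  haveI := Fintype.ofFinite P'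
  haveI := Fintype.ofFinite P0
  have hPN : P0 ≤ N := Subgroup.le_normalizer
  have hcardP : Nat.card P' = n₀ + 1 := by
    rw [Nat.card_congr (Subgroup.subgroupOfEquivOfLe hPN).toEquiv, Cfsg.Agent.Char.SelfCentPrime.card_zp hx]
  have hePos : 0 < e := Nat.pos_of_ne_zero fun e0 => by rw [e0, mul_zero] at hcount; omega
  -- no trivial constituent on the cyclic subgroup
  obtain ⟨a, ha⟩ := classInner_natCast_of_isCharacter
    (isCharacter_character (ρ.comp P0.subtype)) (isCharacter_one (G := P0))
  have hasum : ∑ z : P0, ρ.character z = (n₀ + 1 : ℕ) * (a : ℂ) := by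
    rw [← ha, classInner, ← mul_assoc, Cfsg.Agent.Char.SelfCentPrime.card_zp hx,
      mul_inv_cancel₀ (Nat.cast_ne_zero.mpr (by omega)), one_mul]
    exact Finset.sum_congr rfl fun z _ => by
      simp only [Pi.one_apply, map_one, mul_one]
      rfl
  have hdiv : e ∣ (n₀ + 1) * a := by
    let S : Finset G := Finset.univ.filter fun z => z ∈ P0 ∧ z ≠ 1
    have h1 : ∑ z ∈ S, ρ.character z = ((n₀ + 1 : ℕ) * (a : ℂ)) - n₀ := by
      rw [← hasum, ← Finset.sum_subtype (Finset.univ.filter fun z => z ∈ P0) (by simp) (fun z => ρ.character z),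
        show S = (Finset.univ.filter fun z => z ∈ P0).erase 1 by ext z; simp [S, and_comm],
        Finset.sum_erase_eq_sub (by simp), ρ.char_one, Module.finrank_fin_fun]
    have h2 : ∑ z ∈ S, ρ.character z = (e : ℂ) * ∑ C ∈ S.image ConjClasses.mk, ρ.character C.out := by
      rw [← Finset.sum_fiberwise_of_maps_to (fun z hz => Finset.mem_image_of_mem ConjClasses.mk hz), Finset.mul_sum]
      refine Finset.sum_congr rfl fun C hC' => ?_
      obtain ⟨y, hy, rfl⟩ := Finset.mem_image.mp hC'
      rw [Finset.sum_congr rfl (fun z hz => ?_), Finset.sum_const, nsmul_eq_mul, he,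
        Cfsg.Agent.Char.SelfCentPrime.card_fibre hx hC (Finset.mem_filter.mp hy).2.1 (Finset.mem_filter.mp hy).2.2]
      have hz' : ConjClasses.mk z = ConjClasses.mk (ConjClasses.mk y).out := by
        rw [(Finset.mem_filter.mp hz).2, show ConjClasses.mk (ConjClasses.mk y).out = ConjClasses.mk y from Quotient.out_eq _]
      obtain ⟨b, hb⟩ := isConj_iff.mp (ConjClasses.mk_eq_mk_iff_isConj.mp hz')
      rw [← hb, IsCharacter.isClassFunction (isCharacter_character ρ)]
    have hint : IsIntegral ℤ ((((n₀ + 1) * a : ℕ) : ℂ) / e) := by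
      have h3 : (((n₀ + 1) * a : ℕ) : ℂ) / e = (∑ C ∈ S.image ConjClasses.mk, ρ.character C.out) + t := by
        have h4 : (t : ℂ) * e = n₀ := by
          rw [← Nat.cast_mul, hcount]; congr 1
        rw [div_eq_iff (Nat.cast_ne_zero.mpr hePos.ne'), mul_comm _ (e : ℂ), mul_add, ← h2, h1,
          mul_comm (e : ℂ) (t : ℂ), h4]
        push_cast
        ring
      rw [h3]
      exact IsIntegral.add (IsIntegral.sum _ fun C _ => isIntegral_character ρ _)
        (by simpa using isIntegral_algebraMap (R := ℤ) (A := ℂ) (x := (t : ℤ)))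
    exact nat_dvd_of_isIntegral_div hePos.ne' hint
  have hea : e ∣ a := by
    refine Nat.Coprime.dvd_of_dvd_mul_left ?_ hdiv
    refine (((Fact.out : (n₀ + 1).Prime).coprime_iff_not_dvd).mpr fun hd => ?_).symm
    have h1 := Nat.le_of_dvd hePos hd
    have h2 : e ≤ t * e := Nat.le_mul_of_pos_left e (by rcases hodd with ⟨b, hb⟩; omega)
    omega
  have hfix : ∀ (n : N) (l : P0 →* ℂˣ), l ≠ 1 →
      (∀ z : P0, l ⟨(n : G) * z * (n : G)⁻¹, (Subgroup.mem_normalizer_iff.mp n.2 z).mp z.2⟩ = l z) → (n : G) ∈ P0 := by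
    intro n l hl hinv
    refine Cfsg.Agent.Char.SelfCentPrime.mem_of_commute hC ?_
    have hz1 : (⟨(n : G) * x * (n : G)⁻¹, (Subgroup.mem_normalizer_iff.mp n.2 x).mp (Subgroup.mem_zpowers x)⟩ : P0) *
        (⟨x, Subgroup.mem_zpowers x⟩ : P0)⁻¹ ∈ l.ker := by
      rw [MonoidHom.mem_ker, map_mul, map_inv, hinv ⟨x, Subgroup.mem_zpowers x⟩, mul_inv_cancel]
    haveI : Fact (Nat.card P0).Prime := ⟨by rw [Cfsg.Agent.Char.SelfCentPrime.card_zp hx]; exact Fact.out⟩
    rcases Subgroup.eq_bot_or_eq_top_of_prime_card l.ker with h' | h'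
    · rw [h', Subgroup.mem_bot, mul_inv_eq_one] at hz1
      exact mul_inv_eq_iff_eq_mul.mp (congrArg Subtype.val hz1)
    · exact absurd (MonoidHom.ker_eq_top_iff.mp h') hl
  have ha0 : a = 0 := by
    by_contra ha0
    have hae : e ≤ a := Nat.le_of_dvd (Nat.pos_of_ne_zero ha0) hea
    haveI := Fintype.ofFinite (Cfsg.IrrCharacter P0)
    -- every nontrivial linear character occurs
    have hm : ∀ l : P0 →* ℂˣ, l ≠ 1 → Cfsg.classInner (fun z : P0 => (l z : ℂ)) (fun z : P0 => ρ.character z) ≠ 0 := by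
      intro l hl hzero
      let l' : P' → ℂ := fun z => (l ⟨((z : N) : G), z.2⟩ : ℂ)
      have hl' : Cfsg.IsIrrCharacter P' l' :=
        isIrrCharacter_monoidHom (G := P') (l.comp (Subgroup.subgroupOfEquivOfLe hPN).toMonoidHom)
      have hone' : Cfsg.IsIrrCharacter P' (1 : P' → ℂ) := isIrrCharacter_one
      let u : P' → ℂ := 1 - l'
      let f : N → ℂ := Cfsg.indFun P' u
      have hu1 : u 1 = 0 := by
        show (1 : ℂ) - (l ⟨1, _⟩ : ℂ) = 0
        rw [show (⟨1, P0.one_mem⟩ : P0) = 1 from rfl, map_one, Units.val_one, sub_self]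
      have hconj1 : ∀ g : N, conjChar P' g (1 : P' → ℂ) = 1 := fun g => rfl
      have hne1 : l' ≠ (1 : P' → ℂ) := fun e' => hl (MonoidHom.ext fun z => Units.ext (by
        have := congrFun e' ((Subgroup.subgroupOfEquivOfLe hPN).symm z)
        simpa [l'] using this))
      have hconjl : ∀ g : N, conjChar P' g l' = l' ↔ g ∈ P' := fun g => by
        refine ⟨fun hg => hfix g l hl fun z => Units.ext ?_, fun hg => conjChar_of_mem P'
          (IsCharacter.isClassFunction (IsIrrCharacter.isCharacter hl')) hg⟩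
        exact congrFun hg ((Subgroup.subgroupOfEquivOfLe hPN).symm z)
      have hcN : (Nat.card N : ℂ) / Nat.card P' = e := by
        rw [hcardP, Cfsg.Agent.Char.SelfCentPrime.card_normalizer hx, ← he, Nat.cast_mul, mul_comm,
          mul_div_assoc, div_self (Nat.cast_ne_zero.mpr (by omega)), mul_one]
      have hnorm : Cfsg.classInner f f = (e : ℂ) + 1 := by
        have h11 : Cfsg.classInner (Cfsg.indFun P' (1 : P' → ℂ)) (Cfsg.indFun P' 1) = e := by
          rw [classInner_indFun_indFun P' hone' hone', Finset.filter_true_of_mem (fun g _ => hconj1 g),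
            Finset.card_univ, ← Nat.card_eq_fintype_card, hcN]
        have h12 : Cfsg.classInner (Cfsg.indFun P' (1 : P' → ℂ)) (Cfsg.indFun P' l') = 0 := by
          rw [classInner_indFun_indFun P' hl' hone', Finset.filter_false_of_mem (fun g _ hg => ?_)]
          · simp
          · refine hne1 ?_
            have := congrArg (conjChar P' g⁻¹) hg
            rwa [conjChar_mul, mul_inv_cancel, conjChar_one, hconj1] at this
        have h22 : Cfsg.classInner (Cfsg.indFun P' l') (Cfsg.indFun P' l') = 1 := by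
          rw [classInner_indFun_indFun P' hl' hl', Finset.filter_congr (fun g _ => hconjl g),
            ← Fintype.card_subtype, ← Nat.card_eq_fintype_card, div_self]
          exact Nat.cast_ne_zero.mpr Nat.card_pos.ne'
        have h21 : Cfsg.classInner (Cfsg.indFun P' l') (Cfsg.indFun P' (1 : P' → ℂ)) = 0 := by
          rw [← classInner_conj_symm, h12, map_zero]
        show Cfsg.classInner (Cfsg.indFun P' (1 - l')) (Cfsg.indFun P' (1 - l')) = _
        rw [indFun_sub, classInner_sub_left, classInner_sub_right, classInner_sub_right, h11, h12, h21, h22]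
        ring
      have hsupp : ∀ n : N, (n : G) ∉ (P0 : Set G) → f n = 0 := by
        intro n hn
        show Cfsg.indFun P' u n = 0
        rw [indFun_apply, Finset.sum_eq_zero (fun g _ => ?_), mul_zero]
        refine extendByZero_of_notMem P' u fun hm' => hn ?_
        have := hP'n.conj_mem _ hm' g
        simp only [mul_assoc, mul_inv_cancel, mul_one, mul_inv_cancel_left] at this
        exact this
      have hf1 : f 1 = 0 := by
        show Cfsg.indFun P' u 1 = 0
        rw [indFun_one_apply, hu1, mul_zero]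
      let F : G → ℂ := Cfsg.indFun N f
      have hFF : Cfsg.classInner F F = (e : ℂ) + 1 := by
        rw [← hnorm]
        exact classInner_indFun_ti (P0 : Set G) N (fun g hg z hz hgz => by
          by_contra hz1
          exact hg (Cfsg.Agent.Char.SelfCentPrime.mem_normalizer_of_conj hx hz hz1 hgz))
          (isClassFunction_indFun P' u) hsupp hsupp hf1
      have hred : ∀ ψ : G → ℂ, Cfsg.IsClassFunction G ψ → Cfsg.classInner F ψ =
          Cfsg.classInner (fun z : P0 => 1 - (l z : ℂ)) (fun z : P0 => ψ z) := by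
        intro ψ hψ
        show Cfsg.classInner (Cfsg.indFun N (Cfsg.indFun P' u)) ψ = _
        rw [classInner_indFun N _ hψ, classInner_indFun P' u (fun g b => hψ g b)]
        exact (classInner_comp_mulEquiv (Subgroup.subgroupOfEquivOfLe hPN)
          (fun z : P0 => 1 - (l z : ℂ)) (fun z : P0 => ψ z))
      have hl0 : Cfsg.classInner (fun z : P0 => (l z : ℂ)) (1 : P0 → ℂ) = 0 :=
        IsIrrCharacter.classInner_eq_zero (isIrrCharacter_monoidHom l) isIrrCharacter_one
          fun e' => hl (MonoidHom.ext fun z => Units.ext (congrFun e' z))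
      have hF1 : Cfsg.classInner F (1 : G → ℂ) = 1 := by
        rw [hred 1 (fun _ _ => rfl)]
        show Cfsg.classInner ((1 : P0 → ℂ) - fun z : P0 => (l z : ℂ)) (1 : P0 → ℂ) = 1
        rw [classInner_sub_left, hl0, IsIrrCharacter.classInner_self isIrrCharacter_one, sub_zero]
      have hFχ : Cfsg.classInner F ρ.character = (a : ℂ) := by
        rw [hred _ (IsCharacter.isClassFunction (isCharacter_character ρ))]
        show Cfsg.classInner ((1 : P0 → ℂ) - fun z : P0 => (l z : ℂ)) (fun z : P0 => ρ.character z) = a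
        rw [classInner_sub_left, hzero, sub_zero, ← classInner_conj_symm]
        show conj (Cfsg.classInner (Representation.character (ρ.comp P0.subtype)) 1) = _
        rw [ha, Complex.conj_natCast]
      have h1χ : Cfsg.classInner (1 : G → ℂ) ρ.character = 0 :=
        IsIrrCharacter.classInner_eq_zero isIrrCharacter_one (isIrrCharacter_character ρ) fun e' => by
          have h' := congrFun e' 1
          rw [ρ.char_one, Module.finrank_fin_fun, Pi.one_apply, eq_comm, Nat.cast_eq_one] at h'
          omega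
      have hχ1' : Cfsg.classInner ρ.character (1 : G → ℂ) = 0 := by
        rw [← classInner_conj_symm, h1χ, map_zero]
      have h1F : Cfsg.classInner (1 : G → ℂ) F = 1 := by
        rw [← classInner_conj_symm, hF1, map_one]
      have hχF : Cfsg.classInner ρ.character F = (a : ℂ) := by
        rw [← classInner_conj_symm, hFχ, Complex.conj_natCast]
      have hb := classInner_self_re_nonneg (F - 1 - (a : ℂ) • ρ.character)
      simp only [classInner_sub_left, classInner_sub_right, classInner_smul_left, classInner_smul_right,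
        hFF, hF1, hFχ, h1F, hχF, h1χ, hχ1', IsIrrCharacter.classInner_self (isIrrCharacter_one (G := G)),
        IsIrrCharacter.classInner_self (isIrrCharacter_character ρ), Complex.conj_natCast] at hb
      simp at hb
      have h2e : 2 ≤ e := by omega
      have hae' : (e : ℝ) ≤ a := by exact_mod_cast hae
      have h2e' : (2 : ℝ) ≤ e := by exact_mod_cast h2e
      nlinarith
    choose m hm' using fun ψ : Cfsg.IrrCharacter P0 =>
      exists_classInner_nat (isCharacter_character (ρ.comp P0.subtype)) ψ.2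
    have hall : ∀ ψ : Cfsg.IrrCharacter P0, 1 ≤ m ψ ∧ (ψ : P0 → ℂ) 1 = 1 := by
      intro ψ
      have hcomm : ∀ u v : P0, u * v = v * u := fun u v => mul_comm' u v
      have h1 := IsIrrCharacter.degree_one_of_comm ψ.2 hcomm
      obtain ⟨l, hl⟩ := IsCharacter.exists_monoidHom (IsIrrCharacter.isCharacter ψ.2) h1
      refine ⟨Nat.one_le_iff_ne_zero.mpr fun h0 => ?_, h1⟩
      by_cases hl1 : l = 1
      · have e' : (ψ : P0 → ℂ) = 1 := by rw [hl, hl1]; rfl
        have := hm' ψ
        rw [e', ha, h0, Nat.cast_inj] at this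
        exact ha0 this
      · refine hm l hl1 ?_
        have := hm' ψ
        rw [h0, Nat.cast_zero, hl, ← classInner_conj_symm, map_eq_zero] at this
        exact this
    have hdeg : (n₀ : ℂ) = ∑ ψ : Cfsg.IrrCharacter P0, (m ψ : ℂ) := by
      have := congrFun (IsClassFunction.eq_sum (IsCharacter.isClassFunction (isCharacter_character (ρ.comp P0.subtype)))) 1
      rw [Representation.char_one, Module.finrank_fin_fun] at this
      rw [this, Finset.sum_apply]
      exact Finset.sum_congr rfl fun ψ _ => by simp [hm', (hall ψ).2]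
    have hcard : Fintype.card (Cfsg.IrrCharacter P0) = n₀ + 1 := by
      have hb : (_root_.commutator P0).index = Nat.card P0 := by
        have h' : _root_.commutator P0 = ⊥ := by
          rw [_root_.commutator_def, Subgroup.commutator_eq_bot_iff_le_centralizer]
          intro u _
          exact Subgroup.mem_centralizer_iff.mpr fun v _ => mul_comm' v u
        rw [h', Subgroup.index_bot]
      rw [← Nat.card_eq_fintype_card, ← Cfsg.Agent.Char.SelfCentPrime.card_zp hx, ← hb, ← card_monoidHom_units]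
      refine (Nat.card_eq_of_bijective
        (fun l : P0 →* ℂˣ => (⟨_, isIrrCharacter_monoidHom l⟩ : Cfsg.IrrCharacter P0))
        ⟨fun l l' e' => MonoidHom.ext fun z => Units.ext (congrFun (congrArg Subtype.val e') z), fun ψ => ?_⟩).symm
      obtain ⟨l, hl⟩ := IsCharacter.exists_monoidHom (IsIrrCharacter.isCharacter ψ.2) (hall ψ).2
      exact ⟨l, Subtype.ext hl.symm⟩
    have : n₀ + 1 ≤ n₀ := by
      conv_rhs => rw [show n₀ = ∑ ψ : Cfsg.IrrCharacter P0, m ψ from by exact_mod_cast hdeg]
      rw [← hcard, ← Finset.card_univ, Finset.card_eq_sum_ones]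
      exact Finset.sum_le_sum fun ψ _ => (hall ψ).1
    omega
  have hQ : ∑ z : P0, ρ (z : G) = 0 := sum_rep_eq_zero (ρ.comp P0.subtype) (by
    show ∑ z : P0, ρ.character (z : G) = 0
    rw [hasum, ha0, Nat.cast_zero, mul_zero])
  have hvan : ∀ n ∈ N, n ∉ P0 → ρ.character n = 0 := by
    intro n hn hnP
    have hmem : ∀ z : P0, n⁻¹ * z * n * (z : G)⁻¹ ∈ P0 := fun z =>
      mul_mem ((Subgroup.mem_normalizer_iff''.mp hn z).mp z.2) (inv_mem z.2)
    let φ : P0 → P0 := fun z => ⟨_, hmem z⟩
    have hinj : Function.Injective φ := by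
      intro z w hzw
      by_contra hne
      have h1 : n⁻¹ * (z : G) * n * (z : G)⁻¹ = n⁻¹ * (w : G) * n * (w : G)⁻¹ := congrArg Subtype.val hzw
      have hw1 : (w : G)⁻¹ * z ≠ 1 := fun e' => hne (Subtype.ext (inv_mul_eq_one.mp e').symm)
      refine hnP (Cfsg.Agent.Char.SelfCentPrime.mem_of_commute hC
        (Cfsg.Agent.Char.SelfCentPrime.commute_of_commute hx (mul_mem (inv_mem w.2) z.2) hw1 ?_))
      have hcomm : ((w : G))⁻¹ * z = (z : G) * (w : G)⁻¹ := congrArg Subtype.val (mul_comm' w⁻¹ z)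
      have h2 : n⁻¹ * ((z : G) * (w : G)⁻¹) * n = (z : G) * (w : G)⁻¹ := by
        have h3 : n⁻¹ * (z : G) * n = n⁻¹ * (w : G) * n * ((w : G)⁻¹ * z) := by
          rw [← mul_assoc, ← h1, inv_mul_cancel_right]
        have h4 : n⁻¹ * (w : G)⁻¹ * n ∈ P0 := (Subgroup.mem_normalizer_iff''.mp hn _).mp (inv_mem w.2)
        have h5 : ((w : G))⁻¹ * z * (n⁻¹ * (w : G)⁻¹ * n) = n⁻¹ * (w : G)⁻¹ * n * ((w : G)⁻¹ * z) :=
          congrArg Subtype.val (mul_comm' (⟨_, mul_mem (inv_mem w.2) z.2⟩ : P0) ⟨_, h4⟩)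
        calc n⁻¹ * ((z : G) * (w : G)⁻¹) * n = (n⁻¹ * (z : G) * n) * (n⁻¹ * (w : G)⁻¹ * n) := by group
          _ = n⁻¹ * (w : G) * n * (((w : G)⁻¹ * z) * (n⁻¹ * (w : G)⁻¹ * n)) := by rw [h3, mul_assoc]
          _ = (w : G)⁻¹ * z := by rw [h5]; group
          _ = _ := hcomm
      rw [hcomm]
      conv_lhs => rw [← h2]
      group
    have hsum : ∑ z : P0, ρ.character (n * z) = 0 := by
      have : LinearMap.trace ℂ _ (ρ n * ∑ z : P0, ρ (z : G)) = 0 := by rw [hQ, mul_zero, map_zero]
      rw [Finset.mul_sum, map_sum] at this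
      rw [← this]
      exact Finset.sum_congr rfl fun z _ => by rw [← map_mul]; rfl
    have hconst : ∀ z : P0, ρ.character (n * z) = ρ.character n := fun z => by
      obtain ⟨w, rfl⟩ := (Finite.injective_iff_surjective.mp hinj) z
      show ρ.character (n * (n⁻¹ * (w : G) * n * (w : G)⁻¹)) = _
      rw [show n * (n⁻¹ * (w : G) * n * (w : G)⁻¹) = (w : G) * n * (w : G)⁻¹ by group]
      exact IsCharacter.isClassFunction (isCharacter_character ρ) n w
    rw [Finset.sum_congr rfl fun z _ => hconst z, Finset.sum_const, Finset.card_univ, nsmul_eq_mul] at hsum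
    exact (mul_eq_zero.mp hsum).resolve_left (Nat.cast_ne_zero.mpr Fintype.card_ne_zero)
  -- a Sylow two-subgroup of the normalizer is cyclic of the full order
  obtain ⟨S₂⟩ := Sylow.nonempty (p := 2) (G := N)
  have hdisj : ∀ g : N, g ∈ (S₂ : Subgroup N) → (g : G) ∈ P0 → g = 1 := by
    intro g hg hgP
    obtain ⟨k, hk⟩ := IsPGroup.iff_card.mp S₂.isPGroup'
    have h1 := hk ▸ (S₂ : Subgroup N).orderOf_dvd_natCard hg
    have h2 : orderOf g ∣ n₀ + 1 := by
      rw [← Subgroup.orderOf_coe, ← Cfsg.Agent.Char.SelfCentPrime.card_zp hx]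
      exact P0.orderOf_dvd_natCard hgP
    exact orderOf_eq_one_iff.mp (Nat.eq_one_of_dvd_coprimes
      (((Nat.coprime_primes Nat.prime_two Fact.out).mpr (Ne.symm hp3)).pow_left k) h1 h2)
  haveI hcycP : IsCyclic P0 := inferInstanceAs (IsCyclic (Subgroup.zpowers x))
  haveI : IsCyclic (S₂ : Subgroup N) := by
    haveI : Fact (Nat.card P0).Prime := ⟨by rw [Cfsg.Agent.Char.SelfCentPrime.card_zp hx]; exact Fact.out⟩
    haveI : IsCyclic (ZMod (Nat.card P0))ˣ := inferInstance
    let κ : (S₂ : Subgroup N) →* (ZMod (Nat.card P0))ˣ :=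
      ((IsCyclic.mulAutMulEquiv (G := P0)).toMonoidHom.comp
        (MulEquiv.toMonoidHom (MulEquiv.refl (MulAut P0)))).comp
        ((P0.normalizerMonoidHom).comp (S₂ : Subgroup N).subtype)
    refine isCyclic_of_injective κ ((injective_iff_map_eq_one κ).mpr fun g hg => ?_)
    have h1 : P0.normalizerMonoidHom (g : N) = 1 :=
      (IsCyclic.mulAutMulEquiv (G := P0)).injective (hg.trans (map_one _).symm)
    refine Subtype.ext (hdisj _ g.2 (Cfsg.Agent.Char.SelfCentPrime.mem_of_commute hC ?_))
    have h2 : (((g : N) : G)) * x * (((g : N) : G))⁻¹ = x :=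
      congrArg (fun α : MulAut P0 => ((α ⟨x, Subgroup.mem_zpowers x⟩ : P0) : G)) h1
    exact mul_inv_eq_iff_eq_mul.mp h2
  obtain ⟨y, hy⟩ := IsCyclic.exists_ofOrder_eq_natCard (α := (S₂ : Subgroup N))
  obtain ⟨s, hs⟩ : ∃ s, s = (Nat.card N).factorization 2 := ⟨_, rfl⟩
  have hyord : orderOf (((y : N)) : G) = 2 ^ s := by
    rw [Subgroup.orderOf_coe, Subgroup.orderOf_coe, hy, hs]
    exact S₂.card_eq_multiplicity
  have hsval : s = n₀.factorization 2 := by
    rw [hs, Cfsg.Agent.Char.SelfCentPrime.card_normalizer hx, ← he,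
      Nat.factorization_mul (by omega) hePos.ne']
    have h1 : (n₀ + 1).factorization 2 = 0 := Nat.factorization_eq_zero_of_not_dvd fun h2 =>
      hp3 ((Nat.prime_dvd_prime_iff_eq Nat.prime_two Fact.out).mp h2).symm
    have h3 : n₀ = t * e := by omega
    have h5 : t.factorization 2 = 0 := Nat.factorization_eq_zero_of_not_dvd fun h4 =>
      Nat.not_even_iff_odd.mpr hodd (even_iff_two_dvd.mpr h4)
    rw [Finsupp.add_apply, h1, zero_add, h3, Nat.factorization_mul (by rcases hodd with ⟨b, hb⟩; omega) hePos.ne',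
      Finsupp.add_apply, h5, zero_add]
  have hn0 : n₀ ≠ 0 := by intro h0; rw [h0] at hcount; simp at hcount; rcases hodd with ⟨b, hb⟩; omega
  have hs0 : s ≠ 0 := by
    rw [hsval]
    refine (Nat.Prime.factorization_pos_of_dvd Nat.prime_two hn0 ?_).ne'
    rw [show n₀ = t * e by omega]
    exact dvd_mul_of_dvd_right heven.two_dvd t
  obtain ⟨k, hk⟩ : ∃ k, k = n₀ / 2 ^ s := ⟨_, rfl⟩
  have hkodd : Odd k := by
    rw [hk, hsval, Nat.odd_iff, ← Nat.two_dvd_ne_zero]
    exact Nat.not_dvd_ordCompl Nat.prime_two hn0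
  have hdet := det_regular ρ (((y : N)) : G) s k hs0 hyord hkodd (by
    rw [hk, hsval, mul_comm]; exact (Nat.ordProj_mul_ordCompl_eq_self n₀ 2).symm) (fun g hg hg1 => by
      obtain ⟨i, rfl⟩ := Subgroup.mem_zpowers_iff.mp hg
      refine hvan _ (zpow_mem (y : N).2 i) fun hP => hg1 ?_
      have := hdisj ((y : N) ^ i) (zpow_mem y.2 i) (by simpa using hP)
      simpa using congrArg Subtype.val this)
  by_contra hno
  let D : G →* ℂ := LinearMap.det.comp ρ
  obtain ⟨yG, hyG⟩ : ∃ g : G, g = ((y : N) : G) := ⟨_, rfl⟩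
  rw [← hyG] at hdet
  have hD1 : ∀ g ∈ commutator G, D.toHomUnits g = 1 := fun g hg => by
    have h' : commutator G ≤ D.toHomUnits.ker := by
      rw [_root_.commutator_def, Subgroup.commutator_le]
      intro u _ v _
      rw [MonoidHom.mem_ker, map_commutatorElement, commutatorElement_eq_one_iff_mul_comm]
      exact mul_comm _ _
    exact MonoidHom.mem_ker.mp (h' hg)
  have hpow : D.toHomUnits yG ^ (commutator G).index = 1 := by
    rw [← map_pow]
    refine hD1 _ ?_
    rw [← QuotientGroup.eq_one_iff, QuotientGroup.mk_pow, Subgroup.index_eq_card]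
    exact pow_card_eq_one'
  have hval := congrArg Units.val hpow
  rw [Units.val_pow_eq_pow_val, MonoidHom.coe_toHomUnits, show D yG = -1 from hdet,
    (Nat.not_even_iff_odd.mp hno).neg_one_pow, Units.val_one] at hval
  norm_num at hval

end Cfsg.Agent.S4508
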