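import Cfsg.Statements.S4509
import Cfsg.Agent.Lib.Char.SelfCentPrime

set_option autoImplicit false
open Cfsg

namespace Cfsg.Agent.S4509

/-- Let the finite group G contain an element x of prime order p with C_G(x) = ⟨x⟩; let t be the number of conjugacy classes of elements of order p and 1 + n·p the number of subgroups of order p. Then G has a normal subgroup of order 1 + n·p if and only if either t = p − 1, or t < p − 1 and G″ ≠ G′. Moreover, if t = p − 1 then G′ has order 1 + n·p and G/G′ is cyclic of order p; and if t < p − 1 and G″ ≠ G′ then G″ has order 1 + n·p and G′ has order p·(1 + n·p). -/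
theorem result {G : Type*} [Group G] [Finite G] (p : ℕ) (hp : p.Prime) (x : G) (hx : orderOf x = p) (hC : Subgroup.centralizer ({x} : Set G) = Subgroup.zpowers x) (t : ℕ) (ht : Nat.card {C : ConjClasses G // ∃ g ∈ C.carrier, orderOf g = p} = t) (n : ℕ) (hn : Nat.card {H : Subgroup G // Nat.card H = p} = 1 + n * p) : ((∃ S : Subgroup G, S.Normal ∧ Nat.card S = 1 + n * p) ↔ (t = p - 1 ∨ (t < p - 1 ∧ derivedSeries G 2 ≠ derivedSeries G 1))) ∧ (t = p - 1 → Nat.card (commutator G) = 1 + n * p ∧ IsCyclic (G ⧸ commutator G) ∧ (commutator G).index = p) ∧ (t < p - 1 → derivedSeries G 2 ≠ derivedSeries G 1 → Nat.card (derivedSeries G 2) = 1 + n * p ∧ Nat.card (commutator G) = p * (1 + n * p)) := by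
  classical
  haveI : Fact p.Prime := ⟨hp⟩
  have hcount := Cfsg.Agent.Char.SelfCentPrime.count hx hC ht
  obtain ⟨e, he⟩ : ∃ e, e = (Subgroup.zpowers x).relIndex (Subgroup.normalizer (Subgroup.zpowers x : Set G)) := ⟨_, rfl⟩
  rw [← he] at hcount
  have hp2 := hp.two_le
  have hte : t = p - 1 ↔ e = 1 := by
    refine ⟨fun h => ?_, fun h => by rw [h, mul_one] at hcount; exact hcount⟩
    rw [h] at hcount
    exact Nat.eq_of_mul_eq_mul_left (by omega : 0 < p - 1) (by rw [hcount, mul_one])
  rw [Cfsg.Agent.Char.SelfCentPrime.card_prime_subgroups hx hC] at hn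
  have hlt : t < p - 1 ↔ t ≠ p - 1 := by
    refine ⟨fun h => h.ne, fun h => lt_of_le_of_ne ?_ h⟩
    rw [← hcount]
    refine Nat.le_mul_of_pos_right t (Nat.pos_of_ne_zero fun e0 => ?_)
    rw [e0, mul_zero] at hcount
    omega
  have hd2 : derivedSeries G 2 = ⁅commutator G, commutator G⁆ := by
    rw [derivedSeries_succ, derivedSeries_one]
  have hd1 : derivedSeries G 1 = commutator G := derivedSeries_one G
  have hA : t = p - 1 → Nat.card (commutator G) = 1 + n * p ∧ IsCyclic (G ⧸ commutator G) ∧ (commutator G).index = p := by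
    intro h
    have he1 : (Subgroup.zpowers x).relIndex (Subgroup.normalizer (Subgroup.zpowers x : Set G)) = 1 := he ▸ hte.mp h
    obtain ⟨hi, -⟩ := Cfsg.Agent.Char.SelfCentPrime.complement hx hC he1
    refine ⟨?_, isCyclic_of_prime_card (p := p) (by rw [← Subgroup.index_eq_card, hi]), hi⟩
    rw [← hn]
    refine Nat.eq_of_mul_eq_mul_right hp.pos ?_
    have h1 := Subgroup.card_mul_index (commutator G)
    have h2 := Subgroup.index_mul_card (Subgroup.normalizer (Subgroup.zpowers x : Set G))
    rw [hi] at h1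
    rw [Cfsg.Agent.Char.SelfCentPrime.card_normalizer hx, he1, mul_one] at h2
    rw [h1, h2]
  have hB : t < p - 1 → derivedSeries G 2 ≠ derivedSeries G 1 → Nat.card (derivedSeries G 2) = 1 + n * p ∧ Nat.card (commutator G) = p * (1 + n * p) := by
    intro h hne
    rw [hd2, hd1] at hne
    obtain ⟨-, h1, h2⟩ := Cfsg.Agent.Char.SelfCentPrime.derived hx hC
      (fun e1 => (hlt.mp h) (hte.mpr (he.trans e1))) hne
    rw [hd2, ← hn, h2]
    exact ⟨rfl, h2 ▸ h1⟩
  refine ⟨⟨?_, ?_⟩, hA, hB⟩
  · rintro ⟨S, hSn, hScard⟩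
    haveI := hSn
    by_cases h : t = p - 1
    · exact Or.inl h
    refine Or.inr ⟨hlt.mpr h, ?_⟩
    have hpS : ¬ p ∣ Nat.card S := by
      rw [hScard]
      intro hd
      exact hp.not_dvd_one ((Nat.dvd_add_left (dvd_mul_left p n)).mp hd)
    have hdisj := Cfsg.Agent.Char.SelfCentPrime.inf_normalizer_eq_bot hx hC S hpS
    have hxD : x ∈ commutator G := Cfsg.Agent.Char.SelfCentPrime.mem_commutator hx hC
      (fun e1 => h (hte.mpr (he.trans e1))) (Subgroup.mem_zpowers x)
    have hSN : Subgroup.normalizer (Subgroup.zpowers x : Set G) ⊔ S = ⊤ := by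
      rw [← Subgroup.index_eq_one]
      have h1 := Subgroup.relIndex_mul_index (show S ≤ Subgroup.normalizer (Subgroup.zpowers x : Set G) ⊔ S from le_sup_right)
      rw [Subgroup.relIndex_sup_right, ← Subgroup.inf_relIndex_right, hdisj, Subgroup.relIndex_bot_left] at h1
      have h2 := Subgroup.card_mul_index S
      have h3 := Subgroup.index_mul_card (Subgroup.normalizer (Subgroup.zpowers x : Set G))
      rw [hScard, ← hn, ← h3, ← h1] at h2
      exact Nat.eq_of_mul_eq_mul_left
        (Nat.mul_pos (Nat.pos_of_ne_zero Subgroup.index_ne_zero_of_finite) (Nat.card_pos (α := Subgroup.normalizer (Subgroup.zpowers x : Set G))))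
        (by rw [mul_one, mul_assoc]; exact h2)
    let T : Subgroup G := Subgroup.zpowers x ⊔ S
    haveI hT : T.Normal := by
      rw [← Subgroup.normalizer_eq_top_iff, eq_top_iff, ← hSN]
      refine sup_le ?_ (le_sup_right.trans Subgroup.le_normalizer)
      intro a ha
      rw [Subgroup.mem_normalizer_iff_map_conj_eq, Subgroup.map_sup,
        Subgroup.mem_normalizer_iff_map_conj_eq.mp ha,
        Subgroup.mem_normalizer_iff_map_conj_eq.mp (show a ∈ Subgroup.normalizer (S : Set G) by
          rw [Subgroup.normalizer_eq_top]; trivial)]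
    have hpT : p ∣ Nat.card T := by
      rw [← Cfsg.Agent.Char.SelfCentPrime.card_zp hx]
      exact Subgroup.card_dvd_of_le le_sup_left
    have hGT := Cfsg.Agent.Char.SelfCentPrime.commutator_le hx hC T hpT
    have hle : ⁅commutator G, commutator G⁆ ≤ S := by
      refine le_trans (Subgroup.commutator_mono hGT hGT) ?_
      rw [← QuotientGroup.ker_mk' S, ← Subgroup.map_eq_bot_iff, Subgroup.map_commutator, Subgroup.map_sup,
        (Subgroup.map_eq_bot_iff S).mpr (QuotientGroup.ker_mk' S).ge, sup_bot_eq, MonoidHom.map_zpowers,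
        Subgroup.commutator_eq_bot_iff_le_centralizer]
      intro a ha
      rw [Subgroup.mem_centralizer_iff]
      intro b hb
      obtain ⟨i, rfl⟩ := Subgroup.mem_zpowers_iff.mp ha
      obtain ⟨j, rfl⟩ := Subgroup.mem_zpowers_iff.mp hb
      rw [← zpow_add, ← zpow_add, add_comm]
    rw [hd2, hd1]
    intro e1
    exact hpS (hx ▸ S.orderOf_dvd_natCard (hle (e1.symm ▸ hxD)))
  · rintro (h | ⟨h, hne⟩)
    · exact ⟨commutator G, inferInstance, (hA h).1⟩
    · exact ⟨derivedSeries G 2, derivedSeries_normal G 2, (hB h hne).1⟩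

end Cfsg.Agent.S4509
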