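import Cfsg.Statements.S4517
import Cfsg.Agent.Lib.Block.RealTest

set_option autoImplicit false
open Cfsg

namespace Cfsg.Agent.S4517

open Cfsg.Agent.Block Cfsg.Agent.Char

/-- Let G be a finite group, M a maximal ideal of the algebraic integers containing 2, and k a natural number coprime to the order of G with g ^ k = g⁻¹ for every element g of odd order (so that g ↦ g ^ k induces a field automorphism of the character values inverting the roots of unity of odd order). If B is a 2-block of full defect (its defect equals the exponent of 2 in the order of G) that is stable under χ ↦ χ ∘ (· ^ k), then B is the principal 2-block. -/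
theorem result {G : Type*} [Group G] [Finite G] (M : Ideal Cfsg.AlgInt) (hM : Cfsg.IsPModular 2 M) (k : ℕ) (hk : Nat.Coprime k (Nat.card G)) (hk₂ : ∀ g : G, Odd (orderOf g) → g ^ k = g⁻¹) (B : Set (Cfsg.IrrCharacter G)) (hB : Cfsg.IsPBlock M B) (hdef : Cfsg.blockDefect 2 B = (Nat.card G).factorization 2) (hstab : ∀ χ ∈ B, ∃ ψ ∈ B, ∀ g : G, (ψ : G → ℂ) g = (χ : G → ℂ) (g ^ k)) : B = Cfsg.principalBlock M G := by
    classical
    haveI := prime_of_isPModular hM
    obtain ⟨χ₀, rfl⟩ := hB
    let f := fun χ : IrrCharacter G => (charDegree (χ : G → ℂ)).factorization 2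
    have hne : (f '' blockOf M (χ₀ : G → ℂ)).Nonempty := ⟨_, χ₀, self_mem_blockOf χ₀, rfl⟩
    obtain ⟨χ, hχ, hmin⟩ := Nat.sInf_mem hne
    have hdle : (charDegree (χ : G → ℂ)).factorization 2 ≤ (Nat.card G).factorization 2 :=
      (Nat.factorization_le_iff_dvd (charDegree_pos χ.2).ne' Nat.card_pos.ne').2
        (charDegree_dvd_card χ.2) 2
    have h0 : (charDegree (χ : G → ℂ)).factorization 2 = 0 := by
      simp only [blockDefect] at hdef
      simp only [f] at hmin hdef
      omega
    have hodd : ¬ 2 ∣ charDegree (χ : G → ℂ) := fun h => by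
      have := Nat.Prime.factorization_pos_of_dvd Nat.prime_two (charDegree_pos χ.2).ne' h
      omega
    have hmem : χ ∈ principalBlock M G := by
      refine mem_principal_of_sum_odd_unit hM χ (sum_odd_congr_one hM χ hodd fun g hg => ?_)
      obtain ⟨ψ, hψ, hψk⟩ := hstab χ hχ
      have hs : SameBlock M (χ : G → ℂ) (ψ : G → ℂ) := sameBlock_trans (sameBlock_symm hχ) hψ
      have h1 := hs g
      have hgi : (χ : G → ℂ) g⁻¹ = (ψ : G → ℂ) g := by
        rw [hψk, hk₂ g (Nat.odd_iff.2 (Nat.two_dvd_ne_zero.1 hg))]
      have hc : Subgroup.centralizer ({g⁻¹} : Set G) = Subgroup.centralizer ({g} : Set G) := by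
        ext x; simp only [Subgroup.mem_centralizer_singleton_iff]
        exact ⟨fun h => by simpa using (Commute.inv_right (show Commute x g⁻¹ from h)).eq,
          fun h => (Commute.inv_right (show Commute x g from h)).eq⟩
      have h1χ : (χ : G → ℂ) 1 = (ψ : G → ℂ) 1 := by rw [hψk, one_pow]
      have heq : centralChar (χ : G → ℂ) g⁻¹ = centralChar (ψ : G → ℂ) g := by
        rw [centralChar, centralChar, hc, hgi, h1χ]
      rw [heq, ← neg_sub]
      exact memLocalIdeal_neg h1
    have h1 : blockOf M (χ₀ : G → ℂ) = blockOf M (χ : G → ℂ) := (blockOf_eq_of_mem hχ).symm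
    rw [h1, principalBlock]
    exact blockOf_eq_of_mem (χ := fun _ => (1 : ℂ)) hmem

end Cfsg.Agent.S4517
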