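import Cfsg.Statements.S4518
import Cfsg.Agent.Lib.Char.Galois
import Cfsg.Agent.Lib.Char.Clifford

set_option autoImplicit false
open Cfsg

namespace Cfsg.Agent.S4518

open Cfsg.Agent.Char

/-- Let N be a normal subgroup of the finite group G whose index is not divisible by the prime p, and let k be coprime to the order of G with k ^ (p ^ e) ≡ 1 modulo the order of G for some e (so g ↦ g ^ k induces a field automorphism of p-power order on character values). If an irreducible character χ of G satisfies χ (g ^ k) = χ g for all g, then every irreducible constituent θ of the restriction of χ to N satisfies θ (n ^ k) = θ n for all n. -/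
theorem result {G : Type*} [Group G] [Fintype G] (p : ℕ) [Fact p.Prime] (N : Subgroup G) [N.Normal] [Fintype N] (hidx : ¬ p ∣ N.index) (k e : ℕ) (hk : Nat.Coprime k (Nat.card G)) (hke : k ^ (p ^ e) ≡ 1 [MOD Nat.card G]) (χ : Cfsg.IrrCharacter G) (hχ : ∀ g : G, (χ : G → ℂ) (g ^ k) = (χ : G → ℂ) g) (θ : Cfsg.IrrCharacter N) (hθ : Cfsg.classInner (fun n : N => (χ : G → ℂ) n) (θ : N → ℂ) ≠ 0) : ∀ n : N, (θ : N → ℂ) (n ^ k) = (θ : N → ℂ) n := by
  classical
  have hkN : k.Coprime (Nat.card N) := hk.coprime_dvd_right (Subgroup.card_subgroup_dvd_card N)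
  set O := conjOrbit N (θ : N → ℂ) with hO
  have hmem : ∀ φ ∈ O, (fun n : N => φ (n ^ k)) ∈ O := by
    intro φ hφ
    obtain ⟨g, rfl⟩ := (mem_conjOrbit N).1 hφ
    have hirr := isIrrCharacter_conjChar N θ.2 g
    refine mem_conjOrbit_of_constituent N χ.2 θ.2 (isIrrCharacter_comp_pow hirr hkN) hθ ?_
    have e : (fun n : N => (χ : G → ℂ) n) = fun n : N => (χ : G → ℂ) ((n ^ k : N) : G) := funext fun n => by
      rw [SubgroupClass.coe_pow, hχ]
    rw [e, classInner_comp_pow hkN.symm (fun n : N => (χ : G → ℂ) n) (conjChar N g (θ : N → ℂ)), classInner_restrict_conjChar N (IsCharacter.isClassFunction (IsIrrCharacter.isCharacter χ.2))]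
    exact hθ
  let f : O → O := fun φ => ⟨fun n : N => φ.1 (n ^ k), hmem φ.1 φ.2⟩
  have hiter : ∀ (j : ℕ) (φ : O) (n : N), (f^[j] φ).1 n = φ.1 (n ^ (k ^ j)) := by
    intro j
    induction j with
    | zero => intro φ n; simp
    | succ j ih =>
      intro φ n
      rw [Function.iterate_succ_apply', pow_succ' k j]
      show (f^[j] φ).1 (n ^ k) = _
      rw [ih, ← pow_mul]
  have hper : ∀ φ : O, f^[p ^ e] φ = φ := by
    intro φ
    refine Subtype.ext (funext fun n => ?_)
    rw [hiter, pow_eq_pow_iff_modEq.mpr (hke.of_dvd ((Subgroup.orderOf_coe n ▸ orderOf_dvd_natCard (n : G)))), pow_one]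
  have hbij : Function.Bijective f := by
    refine ⟨fun a b h => ?_, fun b => ⟨f^[p ^ e - 1] b, ?_⟩⟩
    · rw [← hper a, ← hper b, ← Nat.sub_add_cancel (Nat.one_le_pow e p (Fact.out : p.Prime).pos), Function.iterate_succ_apply, h, ← Function.iterate_succ_apply]
    · rw [← Function.iterate_succ_apply' f (p ^ e - 1) b, Nat.succ_eq_add_one, Nat.sub_add_cancel (Nat.one_le_pow e p (Fact.out : p.Prime).pos), hper]
  let s : Equiv.Perm O := Equiv.ofBijective f hbij
  have hs : s ^ p ^ e = 1 := Equiv.ext fun φ => by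
    rw [Equiv.Perm.coe_pow, Equiv.Perm.one_apply]
    exact hper φ
  have hcard : ¬ p ∣ Fintype.card O := by
    rw [Fintype.card_coe, card_conjOrbit]
    exact fun hd => hidx (hd.trans (Subgroup.index_dvd_of_le (le_inertia N (IsCharacter.isClassFunction (IsIrrCharacter.isCharacter θ.2)))))
  obtain ⟨φ, hφ⟩ := Equiv.Perm.exists_fixed_point_of_prime hcard hs
  obtain ⟨g, hg⟩ := (mem_conjOrbit N).1 φ.2
  intro n
  have h1 := congrFun (congrArg Subtype.val hφ) ⟨g⁻¹ * n * g, by simpa using (inferInstance : N.Normal).conj_mem _ n.2 g⁻¹⟩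
  change φ.1 ((⟨g⁻¹ * n * g, _⟩ : N) ^ k) = φ.1 _ at h1
  rw [← hg] at h1
  simp only [conjChar] at h1
  convert h1 using 2 <;> apply Subtype.ext
  · simp only [SubgroupClass.coe_pow, ← conj_pow]
    congr 1
    group
  · group

end Cfsg.Agent.S4518
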