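import Cfsg.Statements.S4520
import Cfsg.Agent.Lib.Block.RealTest

set_option autoImplicit false
open Cfsg

namespace Cfsg.Agent.S4520

open Cfsg.Agent.Block Cfsg.Agent.Char

/-- Let N be a normal subgroup of odd index in the finite group G, M a maximal ideal of the algebraic integers containing 2, and k coprime to the order of G with k ^ (2 ^ e) ≡ 1 modulo the order of G for some e and g ^ k = g⁻¹ for every element g of odd order. Let θ be an irreducible character of N and χ an irreducible character of G over θ, both unchanged by composing with g ↦ g ^ k. Then χ lies in the principal 2-block of G if and only if θ lies in the principal 2-block of N. -/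
theorem result {G : Type*} [Group G] [Fintype G] (M : Ideal Cfsg.AlgInt) (hM : Cfsg.IsPModular 2 M) (N : Subgroup G) [N.Normal] [Fintype N] (hidx : Odd N.index) (k e : ℕ) (hk : Nat.Coprime k (Nat.card G)) (hke : k ^ (2 ^ e) ≡ 1 [MOD Nat.card G]) (hk₂ : ∀ g : G, Odd (orderOf g) → g ^ k = g⁻¹) (θ : Cfsg.IrrCharacter N) (hθ : ∀ n : N, (θ : N → ℂ) (n ^ k) = (θ : N → ℂ) n) (χ : Cfsg.IrrCharacter G) (hχ : ∀ g : G, (χ : G → ℂ) (g ^ k) = (χ : G → ℂ) g) (hover : Cfsg.classInner (fun n : N => (χ : G → ℂ) n) (θ : N → ℂ) ≠ 0) : χ ∈ Cfsg.principalBlock M G ↔ θ ∈ Cfsg.principalBlock M N := by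
    classical
    haveI := prime_of_isPModular hM
    have h2 : (2 : AlgInt) ∈ M := by simpa using hM.2.2
    -- the odd classes, and those inside N
    let s := (oddClasses G).filter (fun C => C.out ∈ N)
    have hmkN : ∀ g : G, (ConjClasses.mk g).out ∈ N ↔ g ∈ N := fun g => by
      obtain ⟨t, ht⟩ := isConj_iff.1 (ConjClasses.mk_eq_mk_iff_isConj.1 (mk_out (ConjClasses.mk g)))
      exact ⟨fun h => ht ▸ (inferInstance : N.Normal).conj_mem _ h t, fun h => by
        rw [← ht] at h
        have := (inferInstance : N.Normal).conj_mem _ h t⁻¹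
        rwa [show t⁻¹ * (t * (ConjClasses.mk g).out * t⁻¹) * t⁻¹⁻¹ = (ConjClasses.mk g).out by group]
          at this⟩
    have hsym : ∀ C ∈ oddClasses G, MemLocalIdeal M
        (centralChar (χ : G → ℂ) (invClass C).out - centralChar (χ : G → ℂ) C.out) := by
      intro C hC
      rw [← mk_out C, mk_mem_oddClasses] at hC
      have hi : (χ : G → ℂ) C.out⁻¹ = (χ : G → ℂ) C.out := by
        have := hχ C.out
        rwa [hk₂ C.out (Nat.odd_iff.2 (Nat.two_dvd_ne_zero.1 hC))] at this
      have hc : Subgroup.centralizer ({C.out⁻¹} : Set G) = Subgroup.centralizer ({C.out} : Set G) := by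
        ext x; simp only [Subgroup.mem_centralizer_singleton_iff]
        exact ⟨fun h => by simpa using (Commute.inv_right (show Commute x C.out⁻¹ from h)).eq,
          fun h => (Commute.inv_right (show Commute x C.out from h)).eq⟩
      rw [show centralChar (χ : G → ℂ) (invClass C).out = centralChar (χ : G → ℂ) C.out by
        rw [invClass, centralChar_out, centralChar, centralChar, hi, hc], sub_self]
      exact memLocalIdeal_zero
    have hsinv : ∀ C ∈ s, invClass C ∈ s := by
      intro C hC
      obtain ⟨h1, h2'⟩ := Finset.mem_filter.1 hC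
      refine Finset.mem_filter.2 ⟨invClass_mem_oddClasses h1, ?_⟩
      rw [invClass, hmkN]
      exact N.inv_mem h2'
    have hreal : (oddClasses G).filter (fun C => invClass C = C) = s.filter (fun C => invClass C = C) := by
      ext C
      simp only [s, Finset.mem_filter]
      refine ⟨fun ⟨h1, h2'⟩ => ⟨⟨h1, ?_⟩, h2'⟩, fun ⟨⟨h1, _⟩, h2'⟩ => ⟨h1, h2'⟩⟩
      rw [← mk_out C, invClass_mk, ConjClasses.mk_eq_mk_iff_isConj] at h2'
      obtain ⟨t, ht⟩ := isConj_iff.1 h2'
      -- in the quotient the image is real, and the quotient has odd order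
      set a : G ⧸ N := QuotientGroup.mk C.out
      set b : G ⧸ N := QuotientGroup.mk t
      have hab : b * a⁻¹ * b⁻¹ = a := by
        simpa [a, b] using congrArg (QuotientGroup.mk' N) ht
      have hba : b ^ 2 * a = a * b ^ 2 := by
        have h3 : b * a * b⁻¹ = a⁻¹ := by
          calc b * a * b⁻¹ = (b * a⁻¹ * b⁻¹)⁻¹ := by group
            _ = a⁻¹ := by rw [hab]
        calc b ^ 2 * a = b * (b * a * b⁻¹) * b⁻¹ * b ^ 2 := by rw [pow_two]; group
          _ = b * a⁻¹ * b⁻¹ * b ^ 2 := by rw [h3]
          _ = a * b ^ 2 := by rw [hab]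
      have hoddQ : Odd (Nat.card (G ⧸ N)) := by rwa [← Subgroup.index_eq_card]
      have hbo : Odd (orderOf b) := hoddQ.of_dvd_nat (orderOf_dvd_natCard b)
      obtain ⟨m, hm⟩ := hbo
      have hb : b = (b ^ 2) ^ (m + 1) := by
        rw [← pow_mul, show 2 * (m + 1) = orderOf b + 1 by omega, pow_succ, pow_orderOf_eq_one, one_mul]
      have hcomm : Commute b a := by
        rw [hb]; exact (show Commute (b ^ 2) a from hba).pow_left _
      have ha : a⁻¹ = a := by
        calc a⁻¹ = b * a⁻¹ * b⁻¹ := by rw [hcomm.inv_right.eq]; group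
          _ = a := hab
      have : a ^ 2 = 1 := by rw [pow_two]; nth_rewrite 1 [← ha]; exact inv_mul_cancel _
      have hao : orderOf a ∣ 2 := orderOf_dvd_of_pow_eq_one this
      have ha1 : a = 1 := by
        rcases (Nat.dvd_prime Nat.prime_two).1 hao with h | h
        · exact orderOf_eq_one_iff.1 h
        · exact absurd (h ▸ orderOf_dvd_natCard a) (fun h' => Nat.not_even_iff_odd.2 hoddQ
            (even_iff_two_dvd.2 h'))
      exact (QuotientGroup.eq_one_iff _).1 ha1
    -- G and N give congruent sums
    have hGN : MemLocalIdeal M (∑ C ∈ oddClasses G, centralChar (χ : G → ℂ) C.out -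
        ∑ C ∈ s, centralChar (χ : G → ℂ) C.out) := by
      have a := sum_congr_real h2 χ (oddClasses G) (fun C hC => invClass_mem_oddClasses hC) hsym
      have b := sum_congr_real h2 χ s hsinv fun C hC => hsym C (Finset.mem_filter.1 hC).1
      have := memLocalIdeal_sub a b
      convert this using 1
      rw [sub_sub_sub_comm, eq_comm, sub_eq_self, sub_eq_zero]
      refine Finset.sum_congr ?_ fun _ _ => rfl
      ext C
      have e := congrArg (C ∈ ·) hreal
      simp only [Finset.mem_filter] at e ⊢
      exact Iff.of_eq e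
    -- the sum inside N is a sum for θ
    have hNeq : ∑ C ∈ s, centralChar (χ : G → ℂ) C.out =
        ∑ C ∈ oddClasses N, centralChar (θ : N → ℂ) C.out := by
      haveI := Fintype.ofFinite (ConjClasses G)
      rw [sum_conjClasses_centralChar, sum_odd_eq, Finset.sum_div]
      have hres := restrict_eq_smul_sum_conjOrbit N χ.2 θ.2 hover
      set m := classInner (fun n : N => (χ : G → ℂ) n) (θ : N → ℂ)
      set R := fun f : N → ℂ => ∑ n : N, if 2 ∣ orderOf n then 0 else f n with hR
      have hconj : ∀ φ ∈ conjOrbit N (θ : N → ℂ), R φ = R (θ : N → ℂ) ∧ φ 1 = (θ : N → ℂ) 1 := by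
        intro φ hφ
        obtain ⟨g, rfl⟩ := mem_conjOrbit N |>.1 hφ
        refine ⟨?_, by simp [conjChar_apply]⟩
        refine Fintype.sum_equiv (MulAut.conjNormal g).toEquiv _ _ fun n => ?_
        have : conjChar N g (θ : N → ℂ) n = (θ : N → ℂ) (MulAut.conjNormal g n) := by
          rw [conjChar_apply]
        simp [this]
      have hm : m ≠ 0 := hover
      have hRχ : R (fun n : N => (χ : G → ℂ) n) =
          m * (conjOrbit N (θ : N → ℂ)).card * R (θ : N → ℂ) := by
        rw [hres, hR]
        simp only [Pi.smul_apply, Finset.sum_apply, smul_eq_mul]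
        have : ∀ n : N, (if 2 ∣ orderOf n then (0 : ℂ) else m * ∑ φ ∈ conjOrbit N (θ : N → ℂ), φ n) =
            m * ∑ φ ∈ conjOrbit N (θ : N → ℂ), if 2 ∣ orderOf n then 0 else φ n := fun n => by
          split <;> simp
        simp_rw [this]
        rw [← Finset.mul_sum, Finset.sum_comm, Finset.sum_congr rfl (fun φ hφ => (hconj φ hφ).1),
          Finset.sum_const, nsmul_eq_mul, mul_assoc]
      have hdeg : (χ : G → ℂ) 1 = m * (conjOrbit N (θ : N → ℂ)).card * (θ : N → ℂ) 1 := by
        have := congrFun hres 1
        simp only [Pi.smul_apply, Finset.sum_apply, smul_eq_mul, OneMemClass.coe_one] at this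
        rw [this, Finset.sum_congr rfl (fun φ hφ => (hconj φ hφ).2), Finset.sum_const, nsmul_eq_mul,
          mul_assoc]
      have hcard : ((conjOrbit N (θ : N → ℂ)).card : ℂ) ≠ 0 := by
        rw [Nat.cast_ne_zero]
        exact Finset.card_ne_zero.2 ⟨_, (mem_conjOrbit N).2 ⟨1, conjChar_one N _⟩⟩
      have hθ1 := IsIrrCharacter.apply_one_ne_zero θ.2
      have hleft : (∑ g : G, if ConjClasses.mk g ∈ s then (χ : G → ℂ) g / (χ : G → ℂ) 1 else 0) =
          R (fun n : N => (χ : G → ℂ) n) / (χ : G → ℂ) 1 := by
        rw [hR, Finset.sum_div]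
        have hiff : ∀ g : G, ConjClasses.mk g ∈ s ↔ g ∈ N ∧ ¬ 2 ∣ orderOf g := fun g => by
          simp only [s, Finset.mem_filter, mk_mem_oddClasses, hmkN]
          exact and_comm
        simp_rw [hiff]
        calc (∑ g : G, if g ∈ N ∧ ¬ 2 ∣ orderOf g then (χ : G → ℂ) g / (χ : G → ℂ) 1 else 0)
            = ∑ g ∈ Finset.univ.filter (fun g : G => g ∈ N),
                (if 2 ∣ orderOf g then 0 else (χ : G → ℂ) g) / (χ : G → ℂ) 1 := by
              rw [Finset.sum_filter]
              refine Finset.sum_congr rfl fun g _ => ?_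
              by_cases hg : g ∈ N <;> by_cases ho : 2 ∣ orderOf g <;> simp [hg, ho]
          _ = ∑ n : N, (if 2 ∣ orderOf (n : G) then 0 else (χ : G → ℂ) n) / (χ : G → ℂ) 1 :=
              Finset.sum_subtype _ (by simp) _
          _ = _ := by simp only [Subgroup.orderOf_coe]
      rw [hleft, hRχ, hdeg, ← Finset.sum_div, mul_div_mul_left _ _ (mul_ne_zero hm hcard)]
    -- the two directions
    let one : IrrCharacter N := ⟨fun _ => 1, isIrrCharacter_one⟩
    let oneG : IrrCharacter G := ⟨fun _ => 1, isIrrCharacter_one⟩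
    have hone : ∀ {H : Type _} [Group H] [Finite H] (φ ψ : IrrCharacter H),
        SameBlock M (φ : H → ℂ) (ψ : H → ℂ) → MemLocalIdeal M
          (∑ C ∈ oddClasses H, centralChar (φ : H → ℂ) C.out -
            ∑ C ∈ oddClasses H, centralChar (ψ : H → ℂ) C.out) := by
      intro H _ _ φ ψ h
      rw [← Finset.sum_sub_distrib]
      exact memLocalIdeal_sum _ _ fun C _ => h C.out
    have htriv : ∀ {H : Type _} [Group H] [Finite H] (φ : IrrCharacter H),
        (φ : H → ℂ) = (fun _ => 1) → MemLocalIdeal M
          (∑ C ∈ oddClasses H, centralChar (φ : H → ℂ) C.out - 1) := by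
      intro H _ _ φ h
      refine sum_odd_congr_one hM φ (by simp [charDegree, h]) fun g hg => ?_
      have hc : Subgroup.centralizer ({g⁻¹} : Set H) = Subgroup.centralizer ({g} : Set H) := by
        ext x; simp only [Subgroup.mem_centralizer_singleton_iff]
        exact ⟨fun h => by simpa using (Commute.inv_right (show Commute x g⁻¹ from h)).eq,
          fun h => (Commute.inv_right (show Commute x g from h)).eq⟩
      rw [centralChar, centralChar, hc, h, sub_self]
      exact memLocalIdeal_zero
    constructor
    · intro hmem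
      refine mem_principal_of_sum_odd_unit hM θ ?_
      rw [← hNeq]
      have a := hone χ oneG (sameBlock_symm hmem)
      have b := htriv oneG rfl
      have := memLocalIdeal_add (memLocalIdeal_sub a hGN) b
      convert this using 1
      ring
    · intro hmem
      refine mem_principal_of_sum_odd_unit hM χ ?_
      have a := hone θ one (sameBlock_symm hmem)
      have b := htriv one rfl
      rw [← hNeq] at a
      have := memLocalIdeal_add (memLocalIdeal_add a hGN) b
      convert this using 1
      ring

end Cfsg.Agent.S4520
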