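import Cfsg.Statements.S4541
import Cfsg.Agent.Lib.Block.SubsectionTwo

set_option autoImplicit false
open Cfsg

namespace Cfsg.Agent.S4541

open Cfsg.Agent.Block Cfsg.Agent.Char

/-- Let B be a 2-block of the finite group G (relative to a maximal ideal M of the algebraic integers containing 2), u a 2-element, and b a block of the centralizer of u inducing B (a subsection (u, b)), of defect q and 2-regular rank l; write s for the integer square root of l and k₀(B) for the number of members of B of height zero. If s is odd then k₀(B) ≤ s·2 ^ q, and otherwise (s + 1)·k₀(B) ≤ l·2 ^ q; in particular k₀(B) ≤ 2 ^ q when l ≤ 3. -/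
theorem result {G : Type*} [Group G] [Finite G] (M : Ideal Cfsg.AlgInt) (hM : Cfsg.IsPModular 2 M) (B : Set (Cfsg.IrrCharacter G)) (hB : Cfsg.IsPBlock M B) (u : G) (hu : ∃ j : ℕ, orderOf u = 2 ^ j) (b : Set (Cfsg.IrrCharacter ↥(Subgroup.centralizer ({u} : Set G)))) (hb : Cfsg.IsInducedBlock M (Subgroup.centralizer ({u} : Set G)) b B) : (Odd (Nat.sqrt (Cfsg.blockRank 2 b)) → Nat.card {χ : Cfsg.IrrCharacter G // χ ∈ B ∧ Cfsg.blockHeight 2 B (χ : G → ℂ) = 0} ≤ Nat.sqrt (Cfsg.blockRank 2 b) * 2 ^ Cfsg.blockDefect 2 b) ∧ (¬ Odd (Nat.sqrt (Cfsg.blockRank 2 b)) → (Nat.sqrt (Cfsg.blockRank 2 b) + 1) * Nat.card {χ : Cfsg.IrrCharacter G // χ ∈ B ∧ Cfsg.blockHeight 2 B (χ : G → ℂ) = 0} ≤ Cfsg.blockRank 2 b * 2 ^ Cfsg.blockDefect 2 b) ∧ (Cfsg.blockRank 2 b ≤ 3 → Nat.card {χ : Cfsg.IrrCharacter G // χ ∈ B ∧ Cfsg.blockHeight 2 B (χ : G → ℂ) = 0} ≤ 2 ^ Cfsg.blockDefect 2 b) := by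
  obtain ⟨h1, h2⟩ := height_zero_two_bounds hM hB hu hb (Nat.sqrt_le' (Cfsg.blockRank 2 b))
    (Nat.lt_succ_sqrt' (Cfsg.blockRank 2 b))
  refine ⟨h1, h2, fun hl => ?_⟩
  rcases Nat.eq_zero_or_pos (Cfsg.blockRank 2 b) with h0 | hpos
  · have := card_height_zero_sq_le hM hB hu hb
    rw [h0, mul_zero, Nat.le_zero] at this
    rw [(pow_eq_zero_iff two_ne_zero).1 this]
    exact Nat.zero_le _
  · have hs : Nat.sqrt (Cfsg.blockRank 2 b) = 1 := by
      have a1 : 1 ≤ Nat.sqrt (Cfsg.blockRank 2 b) := Nat.le_sqrt.2 (by omega)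
      have a2 : Nat.sqrt (Cfsg.blockRank 2 b) < 2 := Nat.sqrt_lt.2 (by omega)
      omega
    have := h1 (hs ▸ odd_one)
    rwa [hs, one_mul] at this

end Cfsg.Agent.S4541
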