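import Cfsg.Statements.S4550
import Mathlib.Algebra.BigOperators.Ring.Nat
import Cfsg.Agent.Lib.Block.DegreeSquares
import Cfsg.Agent.Lib.Block.Congr
import Cfsg.Agent.Lib.Block.PPart
import Cfsg.Agent.Lib.Char.Galois

set_option autoImplicit false
open Cfsg

namespace Cfsg.Agent.S4550

open Cfsg.Agent.Block Cfsg.Agent.Char

/-- Let G be a finite group of even order and M a maximal ideal of the algebraic integers containing 2. Let k be a natural number with g ^ k = g ^ 3 for every 2-element g and g ^ k = g for every element g of odd order (such k exist); an irreducible character χ is unchanged by g ↦ g ^ k exactly when it is fixed by the field automorphism that cubes the 2-power roots of unity and fixes the roots of unity of odd order. Then the number of members χ of the principal 2-block of odd degree with χ (g ^ k) = χ g for all g is even. -/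
theorem result {G : Type*} [Group G] [Finite G] (M : Ideal Cfsg.AlgInt) (hM : Cfsg.IsPModular 2 M) (hev : Even (Nat.card G)) (k : ℕ) (hk₁ : ∀ g : G, (∃ j : ℕ, orderOf g = 2 ^ j) → g ^ k = g ^ 3) (hk₂ : ∀ g : G, Odd (orderOf g) → g ^ k = g) : Even (Nat.card {χ : Cfsg.IrrCharacter G // χ ∈ Cfsg.principalBlock M G ∧ Odd (Cfsg.charDegree (χ : G → ℂ)) ∧ ∀ g : G, (χ : G → ℂ) (g ^ k) = (χ : G → ℂ) g}) := by
  haveI := prime_of_isPModular hM
  classical
  haveI : Fact (Nat.Prime 2) := ⟨Nat.prime_two⟩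
  set one : IrrCharacter G := ⟨fun _ => 1, isIrrCharacter_one⟩ with hone
  have hB : IsPBlock M (principalBlock M G) := ⟨one, rfl⟩
  have honeB : one ∈ principalBlock M G := self_mem_blockOf one
  have hd1 : charDegree (one : G → ℂ) = 1 := by
    apply Nat.cast_injective (R := ℂ)
    rw [charDegree_cast (IsIrrCharacter.isCharacter one.2), Nat.cast_one]
  have hv : minVal 2 (principalBlock M G) = 0 := Nat.le_zero.1 ((minVal_le honeB).trans (by rw [hd1, Nat.factorization_one]; rfl))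
  -- the action of `k`
  have hsplit : ∀ g : G, ∃ x y : G, x * y = g ∧ Commute x y ∧ (∃ j : ℕ, orderOf x = 2 ^ j) ∧ ¬ 2 ∣ orderOf y ∧ g ^ k = x ^ 3 * y := by
    intro g
    obtain ⟨x, y, h1, h2, h3, h4, -, -⟩ := exists_isPPart Nat.prime_two g
    refine ⟨x, y, h1, h2, h3, h4, ?_⟩
    rw [← h1, h2.mul_pow, hk₁ x h3, hk₂ y (Nat.odd_iff.2 (by omega))]
  have hpowfix : ∀ (j : ℕ) (g : G), ∃ x y : G, x * y = g ∧ Commute x y ∧ (∃ j : ℕ, orderOf x = 2 ^ j) ∧ g ^ (k ^ j) = x ^ (3 ^ j) * y := by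
    intro j g
    obtain ⟨x, y, h1, h2, h3, h4⟩ := hsplit g
    refine ⟨x, y, h1, h2, h3, ?_⟩
    induction j with
    | zero => simp [h1]
    | succ j ih =>
      obtain ⟨i, hi⟩ := h3
      rw [pow_succ k j, pow_mul, ih, (h2.pow_left _).mul_pow, hk₂ y (Nat.odd_iff.2 (by omega)),
        hk₁ (x ^ 3 ^ j) ((Nat.dvd_prime_pow Nat.prime_two).1 (hi ▸ orderOf_pow_dvd (3 ^ j)) |>.imp fun _ h => h.2), ← pow_mul, ← pow_succ]
  have h3pow : ∀ a : ℕ, 2 ^ (a + 1) ∣ 3 ^ (2 ^ a) - 1 := by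
    intro a
    induction a with
    | zero => simp
    | succ a ih =>
      have e : 3 ^ (2 ^ (a + 1)) - 1 = (3 ^ (2 ^ a) - 1) * (3 ^ (2 ^ a) + 1) := by
        rw [pow_succ 2 a, pow_mul, mul_comm (3 ^ 2 ^ a - 1)]
        simpa using Nat.sq_sub_sq (3 ^ 2 ^ a) 1
      rw [e, pow_succ 2 (a + 1)]
      refine mul_dvd_mul ih ?_
      have : Odd (3 ^ 2 ^ a) := Odd.pow (by decide)
      obtain ⟨c, hc⟩ := this
      exact ⟨c + 1, by omega⟩
  set a := (Nat.card G).factorization 2 with ha'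
  have hper : ∀ g : G, g ^ (k ^ (2 ^ a)) = g := by
    intro g
    obtain ⟨x, y, h1, h2, ⟨i, hi⟩, h4⟩ := hpowfix (2 ^ a) g
    have hia : i ≤ a := (Nat.prime_two.pow_dvd_iff_le_factorization Nat.card_pos.ne').1 (hi ▸ orderOf_dvd_natCard x)
    have hx : x ^ (3 ^ (2 ^ a)) = x ^ 1 := pow_eq_pow_iff_modEq.2 (((Nat.modEq_iff_dvd' (Nat.one_le_pow _ 3 (by norm_num))).2 (hi ▸ (Nat.pow_dvd_pow 2 (by omega : i ≤ a + 1)).trans (h3pow a))).symm)
    rw [h4, hx, pow_one, h1]
  have hkc : k.Coprime (Nat.card G) := by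
    refine Nat.coprime_of_dvd fun q hq hqk hqG => ?_
    haveI : Fact q.Prime := ⟨hq⟩
    obtain ⟨g, hg⟩ := exists_prime_orderOf_dvd_card' q hqG
    have h1 : g ^ k = 1 := orderOf_dvd_iff_pow_eq_one.1 (hg ▸ hqk)
    rcases hq.eq_two_or_odd' with rfl | hodd
    · rw [hk₁ g ⟨1, by rw [hg, pow_one]⟩] at h1
      have := Nat.le_of_dvd (by norm_num) (orderOf_dvd_of_pow_eq_one h1)
      have h3 := (orderOf_dvd_of_pow_eq_one h1)
      rw [hg] at h3
      omega
    · rw [hk₂ g (hg ▸ hodd)] at h1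
      rw [h1, orderOf_one] at hg
      exact hq.one_lt.ne hg
  -- the set of the odd degree characters
  let T := {χ : IrrCharacter G // χ ∈ principalBlock M G ∧ Odd (charDegree (χ : G → ℂ))}
  haveI : Fintype T := Fintype.ofFinite T
  have hdeg : ∀ χ : IrrCharacter G, charDegree (fun g : G => (χ : G → ℂ) (g ^ k)) = charDegree (χ : G → ℂ) := by
    intro χ
    apply Nat.cast_injective (R := ℂ)
    rw [charDegree_cast (IsIrrCharacter.isCharacter χ.2), charDegree_cast (IsIrrCharacter.isCharacter (isIrrCharacter_comp_pow χ.2 hkc)), one_pow]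
  have hmem : ∀ χ : T, (⟨fun g => (χ.1 : G → ℂ) (g ^ k), isIrrCharacter_comp_pow χ.1.2 hkc⟩ : IrrCharacter G) ∈ principalBlock M G := by
    rintro ⟨χ, hχ, hodd⟩
    refine sameBlock_trans hχ fun g => ?_
    obtain ⟨x, y, h1, h2, h3, h4, h5⟩ := hsplit g
    obtain ⟨i, hi⟩ := h3
    have hc := IsIrrCharacter.isCharacter χ.2
    have hx3 : ∃ j, orderOf (x ^ 3) = 2 ^ j := ((Nat.dvd_prime_pow Nat.prime_two).1 (hi ▸ orderOf_pow_dvd 3)).imp fun _ h => h.2
    have d := memLocalIdeal_sub (apply_mul_congr hM hc ⟨i, hi⟩ h2) (apply_mul_congr hM hc hx3 (h2.pow_left 3))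
    rw [sub_sub_sub_cancel_right, h1, ← h5] at d
    have hne : ¬ 2 ∣ charDegree (χ : G → ℂ) := by rw [Nat.odd_iff] at hodd; omega
    simp only [centralChar, one_pow]
    rw [div_sub_div_same, ← mul_sub, div_eq_mul_inv, ← charDegree_cast hc]
    exact memLocalIdeal_mul_right (inv_natCast_mem_locRing hM.1 hM.2.2 hne) (memLocalIdeal_mul_left (natCast_mem _ _) d)
  let f : T → T := fun χ => ⟨⟨fun g => (χ.1 : G → ℂ) (g ^ k), isIrrCharacter_comp_pow χ.1.2 hkc⟩, hmem χ, by rw [hdeg]; exact χ.2.2⟩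
  have hiter : ∀ (j : ℕ) (χ : T) (g : G), ((f^[j] χ).1 : G → ℂ) g = (χ.1 : G → ℂ) (g ^ (k ^ j)) := by
    intro j
    induction j with
    | zero => intro χ g; simp
    | succ j ih =>
      intro χ g
      rw [Function.iterate_succ_apply', pow_succ' k j]
      show ((f^[j] χ).1 : G → ℂ) (g ^ k) = _
      rw [ih, ← pow_mul]
  have hfper : ∀ χ : T, f^[2 ^ a] χ = χ := fun χ => Subtype.ext (Subtype.ext (funext fun g => by rw [hiter, hper]))
  have hbij : Function.Bijective f := by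
    refine ⟨fun u v h => ?_, fun b => ⟨f^[2 ^ a - 1] b, ?_⟩⟩
    · rw [← hfper u, ← hfper v, ← Nat.sub_add_cancel (Nat.one_le_pow a 2 two_pos), Function.iterate_succ_apply, h, ← Function.iterate_succ_apply]
    · rw [← Function.iterate_succ_apply' f (2 ^ a - 1) b, Nat.succ_eq_add_one, Nat.sub_add_cancel (Nat.one_le_pow a 2 two_pos), hfper]
  let s : Equiv.Perm T := Equiv.ofBijective f hbij
  have hs : s ^ 2 ^ a = 1 := Equiv.ext fun χ => by
    rw [Equiv.Perm.coe_pow, Equiv.Perm.one_apply]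
    exact hfper χ
  have hmod := Equiv.Perm.card_compl_support_modEq hs
  have hfix : Nat.card {χ : IrrCharacter G // χ ∈ principalBlock M G ∧ Odd (charDegree (χ : G → ℂ)) ∧ ∀ g : G, (χ : G → ℂ) (g ^ k) = (χ : G → ℂ) g} = (s.support)ᶜ.card := by
    rw [← Nat.card_eq_finsetCard]
    refine Nat.card_congr ⟨fun χ => ⟨⟨χ.1, χ.2.1, χ.2.2.1⟩, ?_⟩, fun χ => ⟨χ.1.1, χ.1.2.1, χ.1.2.2, ?_⟩, fun χ => rfl, fun χ => rfl⟩
    · rw [Finset.mem_compl, Equiv.Perm.notMem_support]
      exact Subtype.ext (Subtype.ext (funext χ.2.2.2))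
    · have h1 := χ.2
      rw [Finset.mem_compl, Equiv.Perm.notMem_support] at h1
      exact fun g => congrFun (congrArg Subtype.val (congrArg Subtype.val h1)) g
  have heven : Even (Fintype.card T) := by
    obtain ⟨u, hu, hsq⟩ := sum_sq_degree_eq hM hB
    rw [hv, Nat.add_zero, ← ha', finsum_mem_eq_finite_toFinset_sum _ (principalBlock M G).toFinite] at hsq
    have ha : 0 < a := Nat.prime_two.factorization_pos_of_dvd Nat.card_pos.ne' hev.two_dvd
    have he : Even (∑ χ ∈ (principalBlock M G).toFinite.toFinset, charDegree (χ : G → ℂ) ^ 2) := hsq ▸ ((Nat.even_pow.2 ⟨even_two, ha.ne'⟩).mul_right u)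
    rw [Finset.even_sum_iff_even_card_odd] at he
    convert he using 1
    rw [← Fintype.card_coe]
    refine Fintype.card_congr ⟨fun χ => ⟨χ.1, ?_⟩, fun χ => ⟨χ.1, ?_⟩, fun χ => rfl, fun χ => rfl⟩
    · rw [Finset.mem_filter, Set.Finite.mem_toFinset]
      exact ⟨χ.2.1, χ.2.2.pow⟩
    · have h := χ.2
      rw [Finset.mem_filter, Set.Finite.mem_toFinset, Nat.odd_pow_iff two_ne_zero] at h
      exact h
  rw [hfix]
  rw [Nat.even_iff] at heven ⊢
  rw [Nat.ModEq] at hmod
  omega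

end Cfsg.Agent.S4550
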