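import Cfsg.Statements.S4566
import Cfsg.Agent.Lib.Char.Extraspecial

set_option autoImplicit false
open Cfsg

namespace Cfsg.Agent.S4566

open Cfsg.Agent.Char

/-- Let N be a central subgroup of the finite group G, ψ a faithful irreducible (hence degree-one) character of N, and χ an irreducible character of G whose restriction to N contains ψ. If g ∈ G and some x ∈ G has commutator x⁻¹ g⁻¹ x g in N but different from 1, then χ g = 0. -/
theorem result {G : Type*} [Group G] [Fintype G] (N : Subgroup G) [Fintype N] (hN : N ≤ Subgroup.center G) (ψ : Cfsg.IrrCharacter ↥N) (hfaith : ∀ n : ↥N, (ψ : ↥N → ℂ) n = (ψ : ↥N → ℂ) 1 → n = 1) (χ : Cfsg.IrrCharacter G) (hover : Cfsg.classInner (fun n : ↥N => (χ : G → ℂ) n) (ψ : ↥N → ℂ) ≠ 0) (g x : G) (hcomm : x⁻¹ * g⁻¹ * x * g ∈ N) (hne : x⁻¹ * g⁻¹ * x * g ≠ 1) : (χ : G → ℂ) g = 0 := by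
  classical
  set n := (x⁻¹ * g⁻¹ * x * g)⁻¹ with hn
  have hnN : n ∈ N := inv_mem hcomm
  have hnne : n ≠ 1 := inv_ne_one.2 hne
  obtain ⟨ω, -, hωχ⟩ := IsIrrCharacter.central_apply χ.2 (hN hnN)
  have hconj : (χ : G → ℂ) (n * g) = (χ : G → ℂ) g := by
    have h1 : n * g = x⁻¹ * g * (x⁻¹)⁻¹ := by
      rw [← Subgroup.mem_center_iff.1 (hN hnN) g, hn]
      group
    rw [h1]
    exact IsCharacter.isClassFunction (IsIrrCharacter.isCharacter χ.2) g x⁻¹
  by_contra hg
  rw [hωχ] at hconj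
  have hω : ω = 1 := mul_left_eq_self₀.1 hconj |>.resolve_right hg
  have hc : (⟨n, hnN⟩ : N) ∈ Subgroup.center N := Subgroup.mem_center_iff.2 fun m =>
    Subtype.ext (Subgroup.mem_center_iff.1 (hN hnN) m)
  obtain ⟨η, hη1, hηψ⟩ := IsIrrCharacter.central_apply ψ.2 hc
  have hne' : η ≠ 1 := by
    intro h
    refine hnne (congrArg Subtype.val (hfaith ⟨n, hnN⟩ ?_))
    have := hηψ 1
    rwa [mul_one, h, one_mul] at this
  refine hover ?_
  rw [classInner]
  set S := ∑ m : N, (χ : G → ℂ) m * (starRingEnd ℂ) ((ψ : N → ℂ) m) with hS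
  have h2 : S = (starRingEnd ℂ) η * S := by
    rw [hS, Finset.mul_sum]
    conv_lhs => rw [← Equiv.sum_comp (Equiv.mulLeft (⟨n, hnN⟩ : N))]
    refine Finset.sum_congr rfl fun m _ => ?_
    simp only [Equiv.coe_mulLeft, hηψ, map_mul, Subgroup.coe_mul, hωχ, hω, one_mul]
    ring
  have h3 : (starRingEnd ℂ) η ≠ 1 := fun h => hne' (by simpa using congrArg (starRingEnd ℂ) h)
  have h4 : S = 0 := by
    by_contra hS0
    exact h3 ((mul_left_eq_self₀.1 h2.symm).resolve_right hS0)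
  rw [h4, mul_zero]

end Cfsg.Agent.S4566
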