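import Cfsg.Statements.S4567
import Cfsg.Agent.Lib.Char.Clifford
import Cfsg.Agent.Lib.Inv.QuatEightLocal
import Cfsg.Agent.Lib.Char.Orthogonality
import Cfsg.Agent.Lib.Block.QuotientBlocks
import Cfsg.Agent.Lib.Solv.Basic

set_option autoImplicit false
open Cfsg

namespace Cfsg.Agent.S4567

open Cfsg.Agent.Block Cfsg.Agent.Char

/-- Let N be a central subgroup of the finite group G and ψ a faithful irreducible (hence degree-one) character of N. Call a coset g N special when every x ∈ G whose commutator x⁻¹ g⁻¹ x g lies in N actually commutes with g (this depends only on the coset). Then the number of irreducible characters of G whose restriction to N contains ψ equals the number of conjugacy classes of G/N consisting of special cosets. -/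
theorem result {G : Type*} [Group G] [Fintype G] (N : Subgroup G) [N.Normal] [Fintype N] (hN : N ≤ Subgroup.center G) (ψ : Cfsg.IrrCharacter ↥N) (hfaith : ∀ n : ↥N, (ψ : ↥N → ℂ) n = (ψ : ↥N → ℂ) 1 → n = 1) : Nat.card {χ : Cfsg.IrrCharacter G // Cfsg.classInner (fun n : ↥N => (χ : G → ℂ) n) (ψ : ↥N → ℂ) ≠ 0} = Nat.card {C : ConjClasses (G ⧸ N) // ∃ g : G, ConjClasses.mk (g : G ⧸ N) = C ∧ ∀ x : G, x⁻¹ * g⁻¹ * x * g ∈ N → x * g = g * x} := by
    classical
    haveI := Fintype.ofFinite (IrrCharacter G)
    haveI := Fintype.ofFinite (ConjClasses (G ⧸ N))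
    haveI := Fintype.ofFinite (G ⧸ N)
    have hNc : ∀ n : N, ∀ g : G, g * n = n * g := fun n g => Subgroup.mem_center_iff.1 (hN n.2) g
    have hab : ∀ a b : N, a * b = b * a := fun a b => Subtype.ext (hNc b a)
    obtain ⟨l, hl⟩ := IsCharacter.exists_monoidHom (IsIrrCharacter.isCharacter ψ.2)
      (IsIrrCharacter.degree_one_of_commutator_ker ψ.2 fun x y => by
        rw [hab x y, mul_inv_cancel_right, mul_inv_cancel])
    have hl' : ∀ x : N, (ψ : N → ℂ) x = (l x : ℂ) := fun x => by rw [hl]
    have hψ1 : (ψ : N → ℂ) 1 = 1 := by rw [hl', map_one, Units.val_one]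
    have hG0 : (Nat.card G : ℂ) ≠ 0 := Nat.cast_ne_zero.2 Nat.card_pos.ne'
    have hN0 : (Nat.card N : ℂ) ≠ 0 := Nat.cast_ne_zero.2 Nat.card_pos.ne'
    -- each character lies over the linear one fully or not at all
    have hover : ∀ χ : IrrCharacter G, classInner (fun n : N => (χ : G → ℂ) n) (ψ : N → ℂ) / (χ : G → ℂ) 1 =
        if classInner (fun n : N => (χ : G → ℂ) n) (ψ : N → ℂ) ≠ 0 then 1 else 0 := by
      intro χ
      split
      next h =>
        have hres := restrict_eq_smul_of_inertia_top N χ.2 ψ.2 h (fun g => funext fun n => by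
          rw [Cfsg.Agent.Char.conjChar_apply]
          refine congrArg (ψ : N → ℂ) ?_
          exact Subtype.ext ((MulAut.conjNormal_apply (H := N) g n).trans (by rw [hNc, mul_inv_cancel_right])))
        have h1 := congrFun hres 1
        simp only [Pi.smul_apply, smul_eq_mul, OneMemClass.coe_one, hψ1, mul_one] at h1
        rw [h1, div_self h]
      next h => rw [not_not.1 h, zero_div]
    -- the central character through the second orthogonality relation
    have hcen : ∀ n : N, ∑ χ : IrrCharacter G, (χ : G → ℂ) n / (χ : G → ℂ) 1 =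
        (Nat.card G : ℂ)⁻¹ * ∑ g : G, (if IsConj (g * n) g then
          (Nat.card (Subgroup.centralizer ({g} : Set G)) : ℂ) else 0) := by
      intro n
      have e : ∀ g : G, (if IsConj (g * (n : G)) g then (Nat.card (Subgroup.centralizer ({g} : Set G)) : ℂ) else 0) =
          ∑ χ : IrrCharacter G, (χ : G → ℂ) (g * n) * (starRingEnd ℂ) ((χ : G → ℂ) g) := by
        intro g
        rw [second_orthogonality]
        split
        next h =>
          have a := card_isConj_mul_card_centralizer g
          have b := card_isConj_mul_card_centralizer (g * (n : G))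
          have c : Nat.card {x : G // IsConj g x} = Nat.card {x : G // IsConj (g * (n : G)) x} :=
            Nat.card_congr (Equiv.subtypeEquivRight fun x => ⟨fun hx => h.trans hx, fun hx => h.symm.trans hx⟩)
          rw [← c, ← a] at b
          haveI : Nonempty {x : G // IsConj g x} := ⟨⟨g, IsConj.refl g⟩⟩
          exact_mod_cast (Nat.eq_of_mul_eq_mul_left Nat.card_pos b).symm
        next => rfl
      rw [Finset.sum_congr rfl fun g _ => e g, Finset.sum_comm, Finset.mul_sum]
      refine Finset.sum_congr rfl fun χ _ => ?_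
      have h1 := IsIrrCharacter.classInner_self χ.2
      rw [classInner] at h1
      have e2 : ∀ g : G, (χ : G → ℂ) (g * n) * (starRingEnd ℂ) ((χ : G → ℂ) g) =
          ((χ : G → ℂ) n / (χ : G → ℂ) 1) * ((χ : G → ℂ) g * (starRingEnd ℂ) ((χ : G → ℂ) g)) := fun g => by
        rw [hNc, Cfsg.Agent.Inv.apply_central_mul χ (hN n.2)]
        ring
      rw [Finset.sum_congr rfl fun g _ => e2 g, ← Finset.mul_sum, mul_left_comm, h1, mul_one]
    -- elements whose coset splits
    let good : G → Prop := fun g => ∀ x : G, x⁻¹ * g⁻¹ * x * g ∈ N → x * g = g * x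
    have hgood : ∀ g : G, (∑ n : N, if IsConj (g * n) g then (starRingEnd ℂ) ((ψ : N → ℂ) n) else 0) =
        if good g then 1 else 0 := by
      intro g
      split
      next hg =>
        rw [Finset.sum_eq_single 1]
        · rw [OneMemClass.coe_one, mul_one, if_pos (IsConj.refl g), hψ1, map_one]
        · intro n _ hn
          refine if_neg fun h => hn (Subtype.ext ?_)
          obtain ⟨h, hh⟩ := isConj_iff.1 h.symm
          have hm : h⁻¹⁻¹ * g⁻¹ * h⁻¹ * g ∈ N := by
            rw [show h⁻¹⁻¹ * g⁻¹ * h⁻¹ * g = (g⁻¹ * (h * g * h⁻¹))⁻¹ by group, hh, inv_mul_cancel_left]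
            exact inv_mem n.2
          have hcm : h⁻¹ * g = g * h⁻¹ := hg _ hm
          rw [mul_assoc, ← hcm, mul_inv_cancel_left] at hh
          exact (mul_eq_left.1 hh.symm)
        · simp
      next hg =>
        simp only [good, not_forall] at hg
        obtain ⟨x, hx, hne⟩ := hg
        let n₀ : N := ⟨(x⁻¹ * g⁻¹ * x * g)⁻¹, inv_mem hx⟩
        have hn₀ : x⁻¹ * g * x = g * n₀ := by
          show _ = g * (x⁻¹ * g⁻¹ * x * g)⁻¹
          group
        have hclosed : ∀ n : N, IsConj (g * ((n₀ * n : N) : G)) g ↔ IsConj (g * (n : G)) g := by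
          intro n
          have e : x⁻¹ * (g * n) * x⁻¹⁻¹ = g * ((n₀ * n : N) : G) := by
            rw [inv_inv, Subgroup.coe_mul, ← mul_assoc g, ← hn₀]
            simp only [mul_assoc]
            rw [hNc n x]
          have hc : IsConj (g * (n : G)) (g * ((n₀ * n : N) : G)) := isConj_iff.2 ⟨x⁻¹, e⟩
          exact ⟨fun h => hc.trans h, fun h => hc.symm.trans h⟩
        have hne1 : (starRingEnd ℂ) ((ψ : N → ℂ) n₀) ≠ 1 := fun h => by
          have h1 := congrArg (starRingEnd ℂ) h
          rw [Complex.conj_conj, map_one, ← hψ1] at h1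
          have := congrArg Subtype.val (hfaith n₀ h1)
          apply hne
          simp only [n₀, OneMemClass.coe_one, inv_eq_one] at this
          calc x * g = g * x * (x⁻¹ * g⁻¹ * x * g) := by group
            _ = g * x := by rw [this, mul_one]
        set S := ∑ n : N, if IsConj (g * (n : G)) g then (starRingEnd ℂ) ((ψ : N → ℂ) n) else 0 with hS
        have : (starRingEnd ℂ) ((ψ : N → ℂ) n₀) * S = S := by
          rw [hS, Finset.mul_sum]
          refine Fintype.sum_equiv (Equiv.mulLeft n₀) _ _ fun n => ?_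
          simp only [Equiv.coe_mulLeft, hclosed, mul_ite, mul_zero]
          rw [hl', hl', hl', map_mul, Units.val_mul, map_mul]
        exact (mul_left_eq_self₀.1 this).resolve_left hne1
    have hgoodmk : ∀ g : G, ∀ m : N, good (g * m) ↔ good g := by
      have : ∀ g : G, ∀ m : N, good g → good (g * m) := by
        intro g m hg x hx
        have hm1 : x * (g * m) = x * g * m := (mul_assoc _ _ _).symm
        have hm2 : g * m * x = g * x * m := by rw [mul_assoc, ← hNc, ← mul_assoc]
        rw [hm1, hm2, hg x]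
        have e : x⁻¹ * (g * m)⁻¹ * x * (g * m) = x⁻¹ * g⁻¹ * x * g := by
          rw [hNc m g, mul_inv_rev,
            show x⁻¹ * (g⁻¹ * (m : G)⁻¹) * x * ((m : G) * g) = x⁻¹ * g⁻¹ * ((m : G)⁻¹ * (x * m)) * g by group,
            hNc m x, inv_mul_cancel_left]
        rwa [e] at hx
      refine fun g m => ⟨fun h => ?_, this g m⟩
      have := this _ m⁻¹ h
      simpa using this
    let goodQ : G ⧸ N → Prop := fun q => ∃ g : G, (g : G ⧸ N) = q ∧ good g
    have hQ : ∀ g : G, goodQ (g : G ⧸ N) ↔ good g := by
      refine fun g => ⟨fun ⟨g', e, h⟩ => ?_, fun h => ⟨g, rfl, h⟩⟩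
      have := (hgoodmk g' ⟨g'⁻¹ * g, QuotientGroup.eq.1 e⟩).2 h
      simpa using this
    have hcentQ : ∀ g : G, good g → Nat.card (Subgroup.centralizer ({g} : Set G)) =
        Nat.card (Subgroup.centralizer ({(g : G ⧸ N)} : Set (G ⧸ N))) * Nat.card N := by
      intro g hg
      have e : (Subgroup.centralizer ({(g : G ⧸ N)} : Set (G ⧸ N))).comap (QuotientGroup.mk' N) =
          Subgroup.centralizer ({g} : Set G) := by
        ext x
        rw [Subgroup.mem_comap, Subgroup.mem_centralizer_singleton_iff, Subgroup.mem_centralizer_singleton_iff,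
          QuotientGroup.mk'_apply, ← QuotientGroup.mk_mul, ← QuotientGroup.mk_mul]
        refine ⟨fun h => hg x ?_, fun h => by rw [h]⟩
        rw [mul_assoc, ← mul_inv_rev]
        exact QuotientGroup.eq.1 h.symm
      rw [← e]
      rw [Cfsg.Agent.Solv.card_comap_mk', mul_comm]
    have hsumQ : ∑ q : G ⧸ N, (if goodQ q then (Nat.card (Subgroup.centralizer ({q} : Set (G ⧸ N))) : ℂ) else 0) =
        (Nat.card (G ⧸ N) : ℂ) * Nat.card {C : ConjClasses (G ⧸ N) // ∃ g : G,
          ConjClasses.mk (g : G ⧸ N) = C ∧ good g} := by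
      rw [← Finset.sum_fiberwise Finset.univ (ConjClasses.mk : G ⧸ N → ConjClasses (G ⧸ N)),
        Nat.card_eq_fintype_card (α := {C : ConjClasses (G ⧸ N) // _}), Fintype.card_subtype]
      rw [← Finset.sum_boole, Finset.mul_sum]
      refine Finset.sum_congr rfl fun C _ => ?_
      obtain ⟨q, rfl⟩ := ConjClasses.exists_rep C
      have hgoodconj : ∀ a b : G ⧸ N, IsConj a b → goodQ a → goodQ b := by
        rintro a b hab' ⟨g, rfl, hg⟩
        obtain ⟨c, hc⟩ := isConj_iff.1 hab'
        obtain ⟨c, rfl⟩ := QuotientGroup.mk'_surjective N c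
        refine ⟨c * g * c⁻¹, by rw [← hc]; rfl, fun x hx => ?_⟩
        have hx' : (c⁻¹ * x * c)⁻¹ * g⁻¹ * (c⁻¹ * x * c) * g ∈ N := by
          have := ‹N.Normal›.conj_mem _ hx c⁻¹
          rw [inv_inv] at this
          rw [show (c⁻¹ * x * c)⁻¹ * g⁻¹ * (c⁻¹ * x * c) * g =
            c⁻¹ * (x⁻¹ * (c * g * c⁻¹)⁻¹ * x * (c * g * c⁻¹)) * c by group]
          exact this
        have := congrArg (fun t => c * t * c⁻¹) (hg _ hx')
        simpa [mul_assoc] using this
      have hiff : (∃ g : G, ConjClasses.mk (g : G ⧸ N) = ConjClasses.mk q ∧ good g) ↔ goodQ q :=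
        ⟨fun ⟨g, e, hg⟩ => hgoodconj _ _ (ConjClasses.mk_eq_mk_iff_isConj.1 e) ⟨g, rfl, hg⟩,
          fun ⟨g, e, hg⟩ => ⟨g, by rw [e], hg⟩⟩
      simp only [hiff]
      rw [Finset.sum_congr rfl (g := fun _ => if goodQ q then
        (Nat.card (Subgroup.centralizer ({q} : Set (G ⧸ N))) : ℂ) else 0) fun b hb => ?_,
        Finset.sum_const, nsmul_eq_mul]
      · rw [mul_ite, mul_ite, mul_one, mul_zero, mul_zero]
        have hk := card_isConj_mul_card_centralizer q
        rw [show (Finset.univ.filter fun b => ConjClasses.mk b = ConjClasses.mk q).card =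
          Nat.card {x : G ⧸ N // IsConj q x} by
            rw [Nat.card_eq_fintype_card, Fintype.card_subtype]
            congr 1
            ext b
            simp only [Finset.mem_filter, Finset.mem_univ, true_and, ConjClasses.mk_eq_mk_iff_isConj]; exact isConj_comm]
        split
        · exact_mod_cast hk
        · rfl
      · have hb' : IsConj q b := (ConjClasses.mk_eq_mk_iff_isConj.1 (Finset.mem_filter.1 hb).2).symm
        by_cases hq : goodQ q
        · rw [if_pos hq, if_pos (hgoodconj _ _ hb' hq)]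
          have a := card_isConj_mul_card_centralizer q
          have b' := card_isConj_mul_card_centralizer b
          have c : Nat.card {x : G ⧸ N // IsConj q x} = Nat.card {x : G ⧸ N // IsConj b x} :=
            Nat.card_congr (Equiv.subtypeEquivRight fun x => ⟨fun hx => hb'.symm.trans hx, fun hx => hb'.trans hx⟩)
          rw [← c, ← a] at b'
          haveI : Nonempty {x : G ⧸ N // IsConj q x} := ⟨⟨q, IsConj.refl q⟩⟩
          exact_mod_cast Nat.eq_of_mul_eq_mul_left Nat.card_pos b'
        · rw [if_neg hq, if_neg fun h => hq (hgoodconj _ _ hb'.symm h)]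
    have hsumG : ∑ g : G, (if good g then (Nat.card (Subgroup.centralizer ({g} : Set G)) : ℂ) else 0) =
        (Nat.card N : ℂ) * Nat.card N * ∑ q : G ⧸ N,
          (if goodQ q then (Nat.card (Subgroup.centralizer ({q} : Set (G ⧸ N))) : ℂ) else 0) := by
      rw [← Finset.sum_fiberwise Finset.univ (fun g : G => (g : G ⧸ N)), Finset.mul_sum]
      refine Finset.sum_congr rfl fun q _ => ?_
      obtain ⟨g₀, rfl⟩ := QuotientGroup.mk'_surjective N q
      rw [Finset.sum_congr rfl (g := fun _ => (Nat.card N : ℂ) * if goodQ (g₀ : G ⧸ N) then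
        (Nat.card (Subgroup.centralizer ({(g₀ : G ⧸ N)} : Set (G ⧸ N))) : ℂ) else 0) fun g hg => ?_,
        Finset.sum_const, nsmul_eq_mul, mul_assoc]
      · congr 1
        rw [Nat.cast_inj, ← Finset.card_univ.trans (Nat.card_eq_fintype_card (α := N)).symm]
        refine Finset.card_bij' (fun g hg => ⟨g₀⁻¹ * g, QuotientGroup.eq.1 (Finset.mem_filter.1 hg).2.symm⟩)
          (fun n _ => g₀ * n) (fun g _ => Finset.mem_univ _) (fun n _ => ?_) (fun g _ => by simp) (fun n _ => by simp)
        exact Finset.mem_filter.2 ⟨Finset.mem_univ _, QuotientGroup.mk_mul_of_mem g₀ n.2⟩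
      · have e : (g : G ⧸ N) = g₀ := (Finset.mem_filter.1 hg).2
        rw [← e]
        simp only [hQ]
        split
        next hgd => rw [hcentQ g hgd]; push_cast; ring
        next => rw [mul_zero]
    -- assemble
    have hmain : (Nat.card {χ : IrrCharacter G // classInner (fun n : N => (χ : G → ℂ) n) (ψ : N → ℂ) ≠ 0} : ℂ) =
        Nat.card {C : ConjClasses (G ⧸ N) // ∃ g : G, ConjClasses.mk (g : G ⧸ N) = C ∧ good g} := by
      rw [Nat.card_eq_fintype_card (α := {χ : IrrCharacter G // _}), Fintype.card_subtype, ← Finset.sum_boole,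
        ← Finset.sum_congr rfl fun χ _ => hover χ]
      simp only [classInner, div_eq_mul_inv, mul_assoc, ← Finset.mul_sum, Finset.sum_mul]
      rw [Finset.sum_comm]
      have e : ∀ n : N, ∑ χ : IrrCharacter G, (χ : G → ℂ) n * ((starRingEnd ℂ) ((ψ : N → ℂ) n) * ((χ : G → ℂ) 1)⁻¹) =
          (Nat.card G : ℂ)⁻¹ * ∑ g : G, (Nat.card (Subgroup.centralizer ({g} : Set G)) : ℂ) *
            (if IsConj (g * n) g then (starRingEnd ℂ) ((ψ : N → ℂ) n) else 0) := by
        intro n
        rw [Finset.sum_congr rfl (g := fun χ : IrrCharacter G =>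
          (starRingEnd ℂ) ((ψ : N → ℂ) n) * ((χ : G → ℂ) n / (χ : G → ℂ) 1)) fun χ _ => by ring,
          ← Finset.mul_sum, hcen, mul_left_comm, Finset.mul_sum]
        congr 1
        exact Finset.sum_congr rfl fun g _ => by split <;> ring
      rw [Finset.sum_congr rfl fun n _ => e n, ← Finset.mul_sum, Finset.sum_comm]
      rw [Finset.sum_congr rfl (g := fun g : G => if good g then
        (Nat.card (Subgroup.centralizer ({g} : Set G)) : ℂ) else 0) fun g _ => by
          rw [← Finset.mul_sum, hgood]; split <;> simp, hsumG, hsumQ]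
      have hidx : (Nat.card G : ℂ) = Nat.card (G ⧸ N) * Nat.card N := by
        exact_mod_cast Subgroup.card_eq_card_quotient_mul_card_subgroup N
      have hQ0 : (Nat.card (G ⧸ N) : ℂ) ≠ 0 := Nat.cast_ne_zero.2 Nat.card_pos.ne'
      rw [hidx]
      field_simp
    exact_mod_cast hmain

end Cfsg.Agent.S4567
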