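import Cfsg.Statements.S4574
import Cfsg.Agent.Lib.Char.Zero
import Cfsg.Agent.Lib.Char.Integral
import Cfsg.Agent.Lib.Char.Galois
import Cfsg.Agent.Lib.Block.Regular

set_option autoImplicit false
open Cfsg

namespace Cfsg.Agent.S4574

open Cfsg.Agent.Block Cfsg.Agent.Char

/-- Let χ be an irreducible character of the finite group G, of degree d, and let Z(χ) be the set of elements g with |χ g| = d (the centre of χ). Then χ vanishes on at least (d ^ 2 - 1) · |Z(χ)| elements of G, with equality when every value |χ g| is 0, 1 or d. -/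
theorem result {G : Type*} [Group G] [Fintype G] [DecidableEq G] (χ : G → ℂ) (hχ : Cfsg.IsIrrCharacter G χ) : (Cfsg.charDegree χ ^ 2 - 1) * (Finset.univ.filter (fun g : G => ‖χ g‖ = (Cfsg.charDegree χ : ℝ))).card ≤ (Finset.univ.filter (fun g : G => χ g = 0)).card ∧ ((∀ g : G, ‖χ g‖ = 0 ∨ ‖χ g‖ = 1 ∨ ‖χ g‖ = (Cfsg.charDegree χ : ℝ)) → (Cfsg.charDegree χ ^ 2 - 1) * (Finset.univ.filter (fun g : G => ‖χ g‖ = (Cfsg.charDegree χ : ℝ))).card = (Finset.univ.filter (fun g : G => χ g = 0)).card) := by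
  classical
  have hc := IsIrrCharacter.isCharacter hχ
  set d := charDegree χ with hd
  have hd1 : χ 1 = (d : ℂ) := (charDegree_cast hc).symm
  set D := Finset.univ.filter (fun g : G => ‖χ g‖ = (d : ℝ)) with hD
  set Z := Finset.univ.filter (fun g : G => χ g = 0) with hZ
  set R := Finset.univ.filter (fun g : G => χ g ≠ 0 ∧ ‖χ g‖ ≠ (d : ℝ)) with hR
  have hdpos : 0 < d := Nat.pos_of_ne_zero fun h0 => IsIrrCharacter.apply_one_ne_zero hχ (by rw [hd1, h0, Nat.cast_zero])
  have hsum : ∑ g : G, Complex.normSq (χ g) = Fintype.card G := by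
    have h2 := IsIrrCharacter.classInner_self hχ
    simp only [classInner, Complex.mul_conj] at h2
    rw [inv_mul_eq_div, div_eq_one_iff_eq (Nat.cast_ne_zero.mpr Nat.card_pos.ne'), ← Complex.ofReal_sum, Nat.card_eq_fintype_card] at h2
    exact_mod_cast h2
  have hsplit : ∀ (f : G → ℝ), ∑ g : G, f g = ∑ g ∈ D, f g + ∑ g ∈ Z, f g + ∑ g ∈ R, f g := by
    intro f
    rw [← Finset.sum_filter_add_sum_filter_not Finset.univ (fun g : G => ‖χ g‖ = (d : ℝ)) f, add_assoc]
    congr 1
    rw [← Finset.sum_filter_add_sum_filter_not (Finset.univ.filter fun g : G => ¬‖χ g‖ = (d : ℝ)) (fun g : G => χ g = 0) f, Finset.filter_filter, Finset.filter_filter]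
    congr 1
    · refine Finset.sum_congr (Finset.filter_congr fun g _ => ⟨fun h => h.2, fun h => ⟨fun hn => ?_, h⟩⟩) fun _ _ => rfl
      rw [h, norm_zero] at hn
      exact absurd (Nat.cast_eq_zero.1 hn.symm) hdpos.ne'
    · exact Finset.sum_congr (Finset.filter_congr fun g _ => And.comm) fun _ _ => rfl
  have hnD : ∑ g ∈ D, Complex.normSq (χ g) = (D.card : ℝ) * (d : ℝ) ^ 2 := by
    rw [Finset.sum_congr rfl (g := fun _ => (d : ℝ) ^ 2) fun g hg => by rw [Complex.normSq_eq_norm_sq, (Finset.mem_filter.1 hg).2], Finset.sum_const, nsmul_eq_mul]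
  have hnZ : ∑ g ∈ Z, Complex.normSq (χ g) = 0 := Finset.sum_eq_zero fun g hg => by rw [(Finset.mem_filter.1 hg).2, map_zero]
  have hcount : (Fintype.card G : ℝ) = (D.card : ℝ) + Z.card + R.card := by
    have := hsplit (fun _ => 1)
    simpa using this
  have hstab : ∀ x y : G, Subgroup.zpowers x = Subgroup.zpowers y → y ∈ R → x ∈ R := by
    intro x y hxy hy
    rw [hR, Finset.mem_filter] at hy ⊢
    have hord : orderOf x = orderOf y := by rw [← Nat.card_zpowers, hxy, Nat.card_zpowers]
    obtain ⟨m, hm⟩ := (mem_powers_iff_mem_zpowers (x := x)).2 (hxy ▸ Subgroup.mem_zpowers y)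
    have hm' : x ^ m = y := hm
    have hcop : m.Coprime (orderOf x) := by
      have e1 : orderOf (x ^ m) = orderOf x := by rw [hm', hord]
      rw [orderOf_pow, Nat.div_eq_self] at e1
      exact Nat.Coprime.symm (e1.resolve_left (orderOf_pos x).ne')
    refine ⟨Finset.mem_univ _, fun h0 => ?_, fun hn => ?_⟩
    · have h1 := apply_pow_eq_of_rat (IsIrrCharacter.isGeneralized hχ) x (q := 0) (by rw [h0, Rat.cast_zero]) hcop
      rw [hm', h0] at h1
      exact hy.2.1 h1
    · obtain ⟨n, ρ, rfl⟩ := id hc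
      have hfr : ((Module.finrank ℂ (Fin n → ℂ) : ℕ) : ℝ) = (d : ℝ) := by
        rw [ρ.char_one] at hd1
        exact_mod_cast hd1
      obtain ⟨ω, hω⟩ := (norm_character_eq_iff ρ x).1 (hn.trans hfr.symm)
      refine hy.2.2 (((norm_character_eq_iff ρ y).2 ⟨ω ^ m, ?_⟩).trans hfr)
      rw [← hm', map_pow, hω, smul_pow]
      congr 1
      exact one_pow m
  have hfib : (R.card : ℝ) ≤ ∑ x ∈ R, Complex.normSq (χ x) := by
    rw [Finset.card_eq_sum_card_fiberwise (f := (Subgroup.zpowers : G → Subgroup G)) (t := R.image (Subgroup.zpowers : G → Subgroup G)) (fun x hx => Finset.mem_image_of_mem _ hx),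
      ← Finset.sum_fiberwise_of_maps_to (g := (Subgroup.zpowers : G → Subgroup G)) (t := R.image (Subgroup.zpowers : G → Subgroup G)) (fun x hx => Finset.mem_image_of_mem _ hx)]
    push_cast
    refine Finset.sum_le_sum fun C hC => ?_
    obtain ⟨g, hg, rfl⟩ := Finset.mem_image.1 hC
    have hne : ∀ x : G, Subgroup.zpowers x = Subgroup.zpowers g → χ x ≠ 0 := fun x hx => (Finset.mem_filter.1 (hstab x g hx hg)).2.1
    rw [show R.filter (fun x => Subgroup.zpowers x = Subgroup.zpowers g) = Finset.univ.filter (fun x => Subgroup.zpowers x = Subgroup.zpowers g) from by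
      ext x; simp only [Finset.mem_filter, Finset.mem_univ, true_and]; exact ⟨fun h => h.2, fun h => ⟨hstab x g h hg, h⟩⟩]
    obtain ⟨z, hz⟩ := prod_generators_int hc g
    have hz0 : z ≠ 0 := by
      intro e
      rw [e, Int.cast_zero, Finset.prod_eq_zero_iff] at hz
      obtain ⟨x, hx, hx0⟩ := hz
      exact hne x (Finset.mem_filter.1 hx).2 hx0
    have hp : (1 : ℝ) ≤ ∏ x ∈ Finset.univ.filter (fun x => Subgroup.zpowers x = Subgroup.zpowers g), Complex.normSq (χ x) := by
      simp only [← map_prod, hz]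
      rw [Complex.normSq_intCast, ← sq]
      have : (1 : ℤ) ≤ z ^ 2 := by
        have := sq_pos_of_ne_zero hz0
        omega
      exact_mod_cast this
    have hlog : (0 : ℝ) ≤ ∑ x ∈ Finset.univ.filter (fun x => Subgroup.zpowers x = Subgroup.zpowers g), Real.log (Complex.normSq (χ x)) := by
      rw [← Real.log_prod fun x hx => (Complex.normSq_pos.mpr (hne x (Finset.mem_filter.1 hx).2)).ne']
      exact Real.log_nonneg hp
    have := Finset.sum_le_sum (s := Finset.univ.filter (fun x => Subgroup.zpowers x = Subgroup.zpowers g))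
      (fun x hx => Real.log_le_sub_one_of_pos (Complex.normSq_pos.mpr (hne x (Finset.mem_filter.1 hx).2)))
    rw [Finset.sum_sub_distrib, Finset.sum_const, nsmul_eq_mul, mul_one] at this
    linarith
  have htot := hsplit fun g => Complex.normSq (χ g)
  rw [hsum, hnD, hnZ, add_zero, hcount] at htot
  have hd2 : 1 ≤ d ^ 2 := Nat.one_le_pow _ _ hdpos
  have hcast : (((d ^ 2 - 1) * D.card : ℕ) : ℝ) = ((d : ℝ) ^ 2 - 1) * D.card := by
    rw [Nat.cast_mul, Nat.cast_sub hd2]; push_cast; ring
  refine ⟨?_, fun hall => ?_⟩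
  · have : (((d ^ 2 - 1) * D.card : ℕ) : ℝ) ≤ (Z.card : ℝ) := by rw [hcast]; linarith
    exact_mod_cast this
  · have hRsum : ∑ x ∈ R, Complex.normSq (χ x) = (R.card : ℝ) := by
      rw [Finset.sum_congr rfl (g := fun _ => (1 : ℝ)) fun x hx => ?_, Finset.sum_const, nsmul_eq_mul, mul_one]
      have hx2 := (Finset.mem_filter.1 hx).2
      rcases hall x with h | h | h
      · exact absurd (norm_eq_zero.1 h) hx2.1
      · rw [Complex.normSq_eq_norm_sq, h, one_pow]
      · exact absurd h hx2.2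
    have : (((d ^ 2 - 1) * D.card : ℕ) : ℝ) = (Z.card : ℝ) := by rw [hcast]; linarith
    exact_mod_cast this

end Cfsg.Agent.S4574
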