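import Cfsg.Statements.S4580
import Cfsg.Agent.Lib.Block.RealTest
import Cfsg.Agent.Lib.Char.Extension2

set_option autoImplicit false
open Cfsg

namespace Cfsg.Agent.S4580

open Cfsg.Agent.Block Cfsg.Agent.Char

/-- Let N be a normal subgroup of the finite group G, M a maximal ideal of the algebraic integers containing 2, and θ a real-valued irreducible character of N of odd degree that extends to G (some irreducible character of G restricts to θ). Then θ has an extension to G lying in the principal 2-block of G. -/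
theorem result {G : Type*} [Group G] [Finite G] (N : Subgroup G) [N.Normal] (M : Ideal Cfsg.AlgInt) (hM : Cfsg.IsPModular 2 M) (θ : Cfsg.IrrCharacter N) (hreal : ∀ n : N, ((θ : N → ℂ) n).im = 0) (hodd : Odd (Cfsg.charDegree (θ : N → ℂ))) (hext : ∃ η : Cfsg.IrrCharacter G, ∀ n : N, (η : G → ℂ) n = (θ : N → ℂ) n) :
    ∃ η : Cfsg.IrrCharacter G, (∀ n : N, (η : G → ℂ) n = (θ : N → ℂ) n) ∧ η ∈ Cfsg.principalBlock M G := by
    classical
    haveI := prime_of_isPModular hM
    obtain ⟨η, hη⟩ := hext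
    let ηb : IrrCharacter G := ⟨fun g => (starRingEnd ℂ) ((η : G → ℂ) g), IsIrrCharacter.conj η.2⟩
    have hηb : ∀ n : N, (ηb : G → ℂ) n = (θ : N → ℂ) n := fun n => by
      show (starRingEnd ℂ) ((η : G → ℂ) n) = _
      rw [hη]; exact Complex.conj_eq_iff_im.2 (hreal n)
    obtain ⟨β, hβN, hβ⟩ := extension_eq_twist θ.2 η.2 ηb.2 hη hηb
    -- split off the odd part of the twist
    have hfin : β ^ N.index = 1 := pow_index_eq_one hβN
    have hidx : N.index ≠ 0 := Subgroup.index_ne_zero_of_finite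
    set a := N.index.factorization 2 with ha
    set m := N.index / 2 ^ a with hm
    have hm2 : ¬ 2 ∣ m := Nat.not_dvd_ordCompl Nat.prime_two hidx
    have hsplit : N.index = 2 ^ a * m := (Nat.ordProj_mul_ordCompl_eq_self N.index 2).symm
    obtain ⟨u, hu⟩ : ∃ u : ℕ, (2 ^ (a + 1) * u) % m = 1 % m := by
      rcases eq_or_ne m 1 with h | h
      · exact ⟨0, by simp [h]⟩
      · have hmpos : 0 < m := Nat.pos_of_ne_zero fun h0 => hm2 (h0 ▸ dvd_zero 2)
        have hco : Nat.Coprime (2 ^ (a + 1)) m :=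
          Nat.Coprime.pow_left _ ((Nat.Prime.coprime_iff_not_dvd Nat.prime_two).2 hm2)
        obtain ⟨u, -, hu⟩ := Nat.exists_mul_mod_eq_one_of_coprime hco (by omega)
        exact ⟨u, by rw [hu, Nat.mod_eq_of_lt (show 1 < m by omega)]⟩
    set μ : G →* ℂˣ := β ^ (2 ^ a * u) with hμ
    obtain ⟨hirr, -⟩ := exists_twist_character μ η.2
      (charDegree_cast (IsIrrCharacter.isCharacter η.2)).symm
    have hμN : ∀ n : N, μ n = 1 := fun n => by
      rw [hμ, MonoidHom.pow_apply, hβN n, one_pow]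
    refine ⟨⟨_, hirr⟩, fun n => by simp [hμN n, hη n], mem_principal_of_symm hM _ ?_ fun g hg => ?_⟩
    · have hdeg : charDegree (fun g : G => (μ g : ℂ) * (η : G → ℂ) g) = charDegree (θ : N → ℂ) := by
        simp only [charDegree, map_one, Units.val_one, one_mul]
        rw [show (η : G → ℂ) 1 = (θ : N → ℂ) 1 by simpa using hη 1]
      rw [hdeg]
      exact Nat.two_dvd_ne_zero.2 (Nat.odd_iff.1 hodd)
    · -- on elements of odd order β equals μ squared
      have hgm : β g ^ m = 1 := by
        have h1 : (β g) ^ orderOf g = 1 := by rw [← map_pow, pow_orderOf_eq_one, map_one]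
        have h2 : (β g) ^ (2 ^ a * m) = 1 := by
          rw [← hsplit, ← MonoidHom.pow_apply, hfin, MonoidHom.one_apply]
        have h3 := pow_gcd_eq_one.2 ⟨h1, h2⟩
        have hco : Nat.Coprime (orderOf g) (2 ^ a) :=
          (Nat.Coprime.pow_left _ ((Nat.Prime.coprime_iff_not_dvd Nat.prime_two).2 hg)).symm
        rw [Nat.Coprime.gcd_mul_left_cancel_right m hco.symm] at h3
        exact orderOf_dvd_iff_pow_eq_one.1 ((orderOf_dvd_of_pow_eq_one h3).trans (Nat.gcd_dvd_right _ _))
      have hμg : (μ g) ^ 2 = β g := by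
        rw [hμ, MonoidHom.pow_apply, ← pow_mul, show 2 ^ a * u * 2 = 2 ^ (a + 1) * u by ring,
          pow_eq_pow_mod _ hgm, hu, ← pow_eq_pow_mod _ hgm, pow_one]
      have hηg : (η : G → ℂ) g⁻¹ = (β g : ℂ) * (η : G → ℂ) g := by
        rw [IsCharacter.map_inv (IsIrrCharacter.isCharacter η.2)]
        exact congrFun hβ g
      show (μ g⁻¹ : ℂ) * (η : G → ℂ) g⁻¹ = (μ g : ℂ) * (η : G → ℂ) g
      rw [hηg, ← hμg, map_inv, Units.val_inv_eq_inv_val, Units.val_pow_eq_pow_val]
      field_simp

end Cfsg.Agent.S4580
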