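import Cfsg.Statements.S4582
import Mathlib.GroupTheory.Transfer
import Mathlib.GroupTheory.Abelianization.Defs
import Mathlib.GroupTheory.Sylow

set_option autoImplicit false
open Cfsg

namespace Cfsg.Agent.S4582

open scoped commutatorElement

/-- The transfer computation. -/
theorem core {M : Type*} [Group M] [Finite M] (N : Subgroup M) [N.Normal] (P : Subgroup M)
    (htop : P ⊔ N = ⊤) (hidx : ¬ 2 ∣ P.index) (hP2 : IsPGroup 2 P)
    (hP : ∀ x ∈ P, x ^ 2 ∈ (P ⊓ N) ⊔ ⁅P, P⁆) (hQ : ∀ x ∈ P ⊓ N, x ^ 2 ∈ ⁅P ⊓ N, P ⊓ N⁆)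
    (hodd : Odd (Nat.card (Abelianization N))) (x : M) (hx : x ∈ P) : x ^ 2 ∈ ⁅P, P⁆ := by
  classical
  haveI := Fintype.ofFinite M
  let φ : P →* Abelianization P := Abelianization.of
  let V : M →* Abelianization P := MonoidHom.transfer φ
  have hker : ∀ u : P, φ u = 1 ↔ (u : M) ∈ ⁅P, P⁆ := fun u => by
    rw [← P.map_subtype_commutator]
    constructor
    · intro h
      exact ⟨u, (QuotientGroup.eq_one_iff u).mp h, rfl⟩
    · rintro ⟨w, hw, e⟩
      rw [← P.subtype_injective e]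
      exact (QuotientGroup.eq_one_iff w).mpr hw
  obtain ⟨b, hb⟩ := IsPGroup.iff_card.mp hP2
  have h2grp : ∀ z : Abelianization P, orderOf z ∣ 2 ^ b := fun z => by
    obtain ⟨u, rfl⟩ := QuotientGroup.mk_surjective z
    exact hb ▸ (orderOf_map_dvd φ u).trans (orderOf_dvd_natCard u)
  have hN1 : ∀ m ∈ N, V m = 1 := fun m hm => by
    let g := Abelianization.lift (V.comp N.subtype)
    have e : V m = g (Abelianization.of ⟨m, hm⟩) := (Abelianization.lift_apply_of _ _).symm
    have h1 : orderOf (V m) ∣ Nat.card (Abelianization N) := by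
      rw [e]; exact (orderOf_map_dvd g _).trans (orderOf_dvd_natCard _)
    exact orderOf_eq_one_iff.mp (Nat.eq_one_of_dvd_coprimes
      ((Nat.coprime_two_right.mpr hodd).pow_right b) h1 (h2grp _))
  have hV2 : V x ^ 2 = 1 := by
    rw [← map_pow]
    have hle : (P ⊓ N) ⊔ ⁅P, P⁆ ≤ V.ker := by
      refine sup_le (fun m hm => hN1 m hm.2) ?_
      rw [Subgroup.commutator_le]
      intro u _ v _
      rw [MonoidHom.mem_ker, map_commutatorElement, commutatorElement_eq_one_iff_mul_comm]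
      exact mul_comm _ _
    exact MonoidHom.mem_ker.mp (hle (hP x hx))
  let a : Abelianization P := φ ⟨x, hx⟩
  have hterm : ∀ (r : ℕ) (z : M) (h : z⁻¹ * x ^ r * z ∈ P), φ ⟨_, h⟩ ^ 2 = a ^ (2 * r) := by
    intro r z h
    have hy : z⁻¹ * x ^ r * z * (x ^ r)⁻¹ ∈ N ⊔ ⁅P, P⁆ := by
      have hmapP : P.map (QuotientGroup.mk' N) = ⊤ := by
        have h1 := congrArg (Subgroup.map (QuotientGroup.mk' N)) htop
        rw [Subgroup.map_sup, (Subgroup.map_eq_bot_iff N).mpr (QuotientGroup.ker_mk' N).ge, sup_bot_eq,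
          ← MonoidHom.range_eq_map, MonoidHom.range_eq_top.mpr (QuotientGroup.mk'_surjective N)] at h1
        exact h1
      have h2 : z⁻¹ * x ^ r * z * (x ^ r)⁻¹ ∈ (⁅P, P⁆.map (QuotientGroup.mk' N)).comap (QuotientGroup.mk' N) := by
        rw [Subgroup.mem_comap, Subgroup.map_commutator, hmapP,
          show z⁻¹ * x ^ r * z * (x ^ r)⁻¹ = ⁅z⁻¹, x ^ r⁆ by simp [commutatorElement_def], map_commutatorElement]
        exact Subgroup.commutator_mem_commutator (Subgroup.mem_top _) (Subgroup.mem_top _)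
      rw [Subgroup.comap_map_eq, QuotientGroup.ker_mk', sup_comm] at h2
      exact h2
    obtain ⟨n, hn, c, hc, hnc⟩ := Subgroup.mem_sup_of_normal_left.mp hy
    have hcP : c ∈ P := by
      exact (Subgroup.commutator_le.mpr (fun u hu v hv => by
        rw [commutatorElement_def]
        exact mul_mem (mul_mem (mul_mem hu hv) (inv_mem hu)) (inv_mem hv)) : ⁅P, P⁆ ≤ P) hc
    have hyP : z⁻¹ * x ^ r * z * (x ^ r)⁻¹ ∈ P := mul_mem h (inv_mem (pow_mem hx r))
    have hnP : n ∈ P := by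
      rw [show n = z⁻¹ * x ^ r * z * (x ^ r)⁻¹ * c⁻¹ by rw [← hnc, mul_inv_cancel_right]]
      exact mul_mem hyP (inv_mem hcP)
    have e : (⟨_, h⟩ : P) = ⟨n, hnP⟩ * ⟨c, hcP⟩ * ⟨x, hx⟩ ^ r := Subtype.ext (by
      simp only [Subgroup.coe_mul, SubmonoidClass.coe_pow]
      rw [hnc, inv_mul_cancel_right])
    have hn2 : φ ⟨n, hnP⟩ ^ 2 = 1 := by
      rw [← map_pow, hker, SubmonoidClass.coe_pow]
      exact Subgroup.commutator_mono inf_le_left inf_le_left (hQ n ⟨hnP, hn⟩)
    rw [e, map_mul, map_mul, map_pow, (hker ⟨c, hcP⟩).mpr hc, mul_one, mul_pow, hn2, one_mul, ← pow_mul, mul_comm r 2]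
  haveI : Fintype (Quotient (MulAction.orbitRel (Subgroup.zpowers x) (M ⧸ P))) := Fintype.ofFinite _
  have h1 : a ^ (2 * P.index) = 1 := by
    have hval : V x ^ 2 = a ^ (2 * P.index) := by
      rw [show V x = _ from MonoidHom.transfer_eq_prod_quotient_orbitRel_zpowers_quot φ x, ← Finset.prod_pow,
        Finset.prod_congr rfl (fun q _ => hterm _ _ _), Finset.prod_pow_eq_pow_sum, ← Finset.mul_sum,
        ← Subgroup.index_eq_sum_minimalPeriod P x]
    rw [← hval, hV2]
  have ha : a ^ 2 = 1 := orderOf_eq_one_iff.mp (Nat.eq_one_of_dvd_coprimes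
    (((Nat.prime_two.coprime_iff_not_dvd).mpr hidx).pow_left b) (h2grp _)
    (orderOf_dvd_of_pow_eq_one (by rw [← pow_mul, h1])))
  have := (hker (⟨x, hx⟩ ^ 2)).mp (by rw [map_pow]; exact ha)
  simpa using this

/-- Let N be a normal subgroup of the finite group G, P a Sylow 2-subgroup of G and Q = P ∩ N. Suppose that P/QP' and Q/Q' are elementary abelian (every square of an element of P lies in the subgroup generated by Q and the derived subgroup of P, and every square of an element of Q lies in the derived subgroup of Q), and that the commutator factor group N/N' has odd order. Then P/P' is elementary abelian. -/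
theorem result {G : Type*} [Group G] [Finite G] (N : Subgroup G) [N.Normal] (P : Sylow 2 G)
    (hP : ∀ x ∈ (P : Subgroup G), x ^ 2 ∈ ((P : Subgroup G) ⊓ N) ⊔ ⁅(P : Subgroup G), (P : Subgroup G)⁆)
    (hQ : ∀ x ∈ (P : Subgroup G) ⊓ N, x ^ 2 ∈ ⁅(P : Subgroup G) ⊓ N, (P : Subgroup G) ⊓ N⁆)
    (hodd : Odd (Nat.card (Abelianization N))) :
    ∀ x ∈ (P : Subgroup G), x ^ 2 ∈ ⁅(P : Subgroup G), (P : Subgroup G)⁆ := by
  intro x hx
  let M : Subgroup G := (P : Subgroup G) ⊔ N
  have hPM : (P : Subgroup G) ≤ M := le_sup_left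
  have hNM : N ≤ M := le_sup_right
  let P' : Subgroup M := (P : Subgroup G).subgroupOf M
  let N' : Subgroup M := N.subgroupOf M
  have hPmap : P'.map M.subtype = (P : Subgroup G) := Subgroup.map_subgroupOf_eq_of_le hPM
  have hNmap : N'.map M.subtype = N := Subgroup.map_subgroupOf_eq_of_le hNM
  have hinf : (P' ⊓ N').map M.subtype = (P : Subgroup G) ⊓ N := by
    rw [Subgroup.map_inf _ _ _ M.subtype_injective, hPmap, hNmap]
  have hcomm : ⁅P', P'⁆.map M.subtype = ⁅(P : Subgroup G), (P : Subgroup G)⁆ := by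
    rw [Subgroup.map_commutator, hPmap]
  have htop : P' ⊔ N' = ⊤ := by
    refine Subgroup.map_injective M.subtype_injective ?_
    rw [Subgroup.map_sup, hPmap, hNmap, ← MonoidHom.range_eq_map, Subgroup.range_subtype]
  have hidx : ¬ 2 ∣ P'.index := fun h => P.not_dvd_index (h.trans ⟨M.index, (Subgroup.relIndex_mul_index hPM).symm⟩)
  have h := core N' P' htop hidx P.isPGroup'.comap_subtype
    (fun y hy => ?_) (fun y hy => ?_) ?_ ⟨x, hPM hx⟩ hx
  · have h' := Subgroup.mem_map_of_mem M.subtype h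
    rw [hcomm] at h'
    exact h'
  · have h' := hP y hy
    rw [← hinf, ← hcomm, ← Subgroup.map_sup] at h'
    obtain ⟨w, hw, hwe⟩ := h'
    rwa [show y ^ 2 = w from M.subtype_injective (by rw [hwe, map_pow]; rfl)]
  · have h' := hQ y ⟨hy.1, hy.2⟩
    rw [← hinf, ← Subgroup.map_commutator] at h'
    obtain ⟨w, hw, hwe⟩ := h'
    rwa [show y ^ 2 = w from M.subtype_injective (by rw [hwe, map_pow]; rfl)]
  · rw [Nat.card_congr (Subgroup.subgroupOfEquivOfLe hNM).abelianizationCongr.toEquiv]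
    exact hodd

end Cfsg.Agent.S4582
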