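import Cfsg.Statements.S4584
import Mathlib.GroupTheory.Sylow
import Mathlib.Tactic.Group
import Mathlib.GroupTheory.PGroup
import Cfsg.Agent.Lib.Solv.Misc

set_option autoImplicit false
open Cfsg

namespace Cfsg.Agent.S4584

open scoped commutatorElement

/-- Let p be a prime and P a group of order p^4. Then the derived subgroup P' has order p if and only if the centre Z(P) has index p^2 in P. -/
theorem result {P : Type*} [Group P] [Finite P] (p : ℕ) [Fact p.Prime] (hP : Nat.card P = p ^ 4) :
    Nat.card (commutator P) = p ↔ (Subgroup.center P).index = p ^ 2 := by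
  classical
  have hp : p.Prime := Fact.out
  have hPg : IsPGroup p P := IsPGroup.of_card hP
  haveI : Group.IsNilpotent P := hPg.isNilpotent
  set Z := Subgroup.center P with hZ
  -- a group with a central subgroup of cyclic quotient is commutative
  have hcyc : ∀ (H : Type _) [Group H] (D : Subgroup H) [D.Normal], D ≤ Subgroup.center H →
      IsCyclic (H ⧸ D) → ∀ a b : H, a * b = b * a := fun H _ D _ hD hc a b => by
    haveI := hc
    exact commutative_of_cyclic_center_quotient (QuotientGroup.mk' D) (by rwa [QuotientGroup.ker_mk']) a b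
  have hsmall : Z.index ≠ 1 ∧ Z.index ≠ p ∨ ∀ a b : P, a * b = b * a := by
    by_cases h1 : Z.index = 1
    · refine Or.inr fun a b => ?_
      have := Subgroup.index_eq_one.1 h1
      exact ((Subgroup.mem_center_iff.1 (this ▸ Subgroup.mem_top b : b ∈ Z)) a)
    by_cases h2 : Z.index = p
    · exact Or.inr (hcyc P Z le_rfl (isCyclic_of_prime_card (p := p) (by rw [← Subgroup.index_eq_card, h2])))
    exact Or.inl ⟨h1, h2⟩
  constructor
  · intro hc
    have hne : commutator P ≠ ⊥ := fun h => by
      rw [h, Subgroup.card_bot] at hc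
      exact hp.ne_one hc.symm
    -- commutators are central
    have hcen : commutator P ≤ Z := by
      have h1 := Cfsg.Agent.Solv.inf_center_ne_bot (commutator P) hne
      intro c hc'
      obtain ⟨z, hz, hz1⟩ := (Subgroup.bot_or_exists_ne_one (commutator P ⊓ Z)).resolve_left h1
      obtain ⟨i, hi⟩ := Subgroup.mem_zpowers_iff.1 (mem_zpowers_of_prime_card (p := p) hc
        (g := (⟨z, hz.1⟩ : commutator P)) (g' := ⟨c, hc'⟩) (fun h => hz1 (congrArg Subtype.val h)))
      have hi' : z ^ i = c := by simpa using congrArg Subtype.val hi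
      rw [← hi']
      exact Z.zpow_mem hz.2 i
    rcases hsmall with ⟨h1, h2⟩ | hab
    swap
    · exact absurd (by
        rw [commutator_eq_closure, Subgroup.closure_eq_bot_iff]
        rintro _ ⟨a, b, rfl⟩
        exact commutatorElement_eq_one_iff_mul_comm.2 (hab a b)) hne
    -- centralisers of elements have index at most p
    have hidx : ∀ x : P, (Subgroup.centralizer ({x} : Set P)).index ≤ p := by
      intro x
      have hm : ∀ g : P, g * x * g⁻¹ * x⁻¹ ∈ commutator P := fun g =>
        Subgroup.commutator_mem_commutator (Subgroup.mem_top g) (Subgroup.mem_top x)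
      let f : P →* commutator P :=
        MonoidHom.mk' (fun g => ⟨g * x * g⁻¹ * x⁻¹, hm g⟩) fun a b => Subtype.ext (by
          have hc1 := Subgroup.mem_center_iff.1 (hcen (hm b)) a
          show a * b * x * (a * b)⁻¹ * x⁻¹ = a * x * a⁻¹ * x⁻¹ * (b * x * b⁻¹ * x⁻¹)
          calc a * b * x * (a * b)⁻¹ * x⁻¹ = a * (b * x * b⁻¹ * x⁻¹) * (x * a⁻¹ * x⁻¹) := by group
            _ = (b * x * b⁻¹ * x⁻¹) * (a * x * a⁻¹ * x⁻¹) := by rw [hc1]; group
            _ = _ := (Subgroup.mem_center_iff.1 (hcen (hm b)) _).symm)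
      have hk : f.ker = Subgroup.centralizer ({x} : Set P) := by
        ext g
        rw [MonoidHom.mem_ker, Subgroup.mem_centralizer_singleton_iff, Subtype.ext_iff]
        show g * x * g⁻¹ * x⁻¹ = 1 ↔ _
        rw [mul_inv_eq_one, mul_inv_eq_iff_eq_mul]
      rw [← hk, Subgroup.index_ker]
      exact (Subgroup.card_le_of_le le_top).trans (by rw [Subgroup.card_top, hc])
    obtain ⟨x, hx⟩ : ∃ x, x ∉ Z := by
      by_contra hh
      push Not at hh
      exact h1 (Subgroup.index_eq_one.2 (eq_top_iff.2 fun g _ => hh g))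
    obtain ⟨y, hy⟩ : ∃ y, y * x ≠ x * y := by
      by_contra hh
      push Not at hh
      exact hx (Subgroup.mem_center_iff.2 hh)
    set A := Subgroup.centralizer ({x} : Set P) with hA
    set B := Subgroup.centralizer ({y} : Set P) with hB
    set D := A ⊓ B with hD
    obtain ⟨j, -, hDc⟩ := (Nat.dvd_prime_pow hp).1 (hP ▸ D.card_subgroup_dvd_card)
    have hDi : D.index ≤ p ^ 2 := by
      rw [pow_two]
      exact (Subgroup.index_inf_le).trans (Nat.mul_le_mul (hidx x) (hidx y))
    have hZD : Z ≤ D := fun z hz => ⟨Subgroup.mem_centralizer_singleton_iff.2 ((Subgroup.mem_center_iff.1 hz x).symm),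
      Subgroup.mem_centralizer_singleton_iff.2 ((Subgroup.mem_center_iff.1 hz y).symm)⟩
    have hxD : x ∉ D := fun h => hy (Subgroup.mem_centralizer_singleton_iff.1 h.2).symm
    have hDmul := D.card_mul_index
    rw [hDc, hP] at hDmul
    have hj3 : j ≤ 2 := by
      by_contra hh
      push Not at hh
      -- otherwise D would be the whole centraliser of x
      have hAD : A = D := by
        refine (Subgroup.eq_of_le_of_card_ge inf_le_left ?_).symm
        obtain ⟨i, hi4, hAc⟩ := (Nat.dvd_prime_pow hp).1 (hP ▸ A.card_subgroup_dvd_card)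
        have hi : i ≠ 4 := fun h => by
          have : A = ⊤ := Subgroup.eq_top_of_card_eq A (by rw [hAc, h, hP])
          exact hy (Subgroup.mem_centralizer_singleton_iff.1 (this ▸ Subgroup.mem_top y : y ∈ A))
        rw [hAc, hDc]
        exact Nat.pow_le_pow_right hp.pos (by omega)
      exact hxD (hAD ▸ Subgroup.mem_centralizer_singleton_iff.2 rfl)
    have hj2 : j = 2 := by
      have hpos : p ^ 4 ≤ p ^ (j + 2) := by
        rw [← hDmul, pow_add]
        exact Nat.mul_le_mul_left _ hDi
      have := (Nat.pow_le_pow_iff_right hp.one_lt).1 hpos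
      omega
    subst hj2
    have hDab : ∀ a ∈ D, ∀ b ∈ D, a * b = b * a := fun a ha b hb =>
      congrArg Subtype.val (IsPGroup.commutative_of_card_eq_prime_sq (p := p) (G := D) hDc ⟨a, ha⟩ ⟨b, hb⟩)
    set M := Subgroup.centralizer (D : Set P) with hM
    have hDM : D ≤ M := fun a ha => Subgroup.mem_centralizer_iff.2 fun b hb => hDab b hb a ha
    have hxM : x ∈ M := Subgroup.mem_centralizer_iff.2 fun b hb => Subgroup.mem_centralizer_singleton_iff.1 hb.1
    have hyM : y ∈ M := Subgroup.mem_centralizer_iff.2 fun b hb => Subgroup.mem_centralizer_singleton_iff.1 hb.2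
    have hMtop : M = ⊤ := by
      obtain ⟨i, hi4, hMc⟩ := (Nat.dvd_prime_pow hp).1 (hP ▸ M.card_subgroup_dvd_card)
      by_contra hne'
      have hi : i ≠ 4 := fun h => hne' (Subgroup.eq_top_of_card_eq M (by rw [hMc, h, hP]))
      have hi2 : 2 ≤ i := (Nat.pow_dvd_pow_iff_le_right hp.one_lt).1 (hDc ▸ hMc ▸ Subgroup.card_dvd_of_le hDM)
      have hDcen : D.subgroupOf M ≤ Subgroup.center M := fun a ha => Subgroup.mem_center_iff.2 fun b =>
        Subtype.ext ((Subgroup.mem_centralizer_iff.1 b.2 _ ha).symm)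
      haveI : (D.subgroupOf M).Normal := ⟨fun a ha g => by
        rw [Subgroup.mem_center_iff.1 (hDcen ha) g, mul_inv_cancel_right]; exact ha⟩
      have hc' : IsCyclic (M ⧸ D.subgroupOf M) := by
        have hmul := (D.subgroupOf M).card_mul_index
        rw [Nat.card_congr (Subgroup.subgroupOfEquivOfLe hDM).toEquiv, hDc, hMc, Subgroup.index_eq_card] at hmul
        have hle : Nat.card (M ⧸ D.subgroupOf M) ≤ p := by
          refine Nat.le_of_mul_le_mul_left ?_ (pow_pos hp.pos 2)
          rw [hmul, ← pow_succ]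
          exact Nat.pow_le_pow_right hp.pos (by omega)
        obtain ⟨u, hu, hu'⟩ := (Nat.dvd_prime_pow hp).1 (hmul ▸ Dvd.intro_left (p ^ 2) rfl :
          Nat.card (M ⧸ D.subgroupOf M) ∣ p ^ i)
        have hu1 : u ≤ 1 := (Nat.pow_le_pow_iff_right hp.one_lt).1 (by rw [← hu', pow_one]; exact hle)
        interval_cases u
        · haveI := (Nat.card_eq_one_iff_unique.1 (hu'.trans (pow_zero p))).1
          infer_instance
        · exact isCyclic_of_prime_card (hu'.trans (pow_one p))
      exact hy (congrArg Subtype.val (hcyc M _ hDcen hc' ⟨y, hyM⟩ ⟨x, hxM⟩))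
    have hDZ : D ≤ Z := fun a ha => Subgroup.mem_center_iff.2 fun g =>
      (Subgroup.mem_centralizer_iff.1 (hMtop ▸ Subgroup.mem_top g : g ∈ M) a ha).symm
    rw [le_antisymm hZD hDZ]
    exact Nat.eq_of_mul_eq_mul_left (pow_pos hp.pos 2) (by rw [hDmul, ← pow_add])
  · intro hidx
    have hQc : Nat.card (P ⧸ Z) = p ^ 2 := by rw [← Subgroup.index_eq_card, hidx]
    have hQab := IsPGroup.commutative_of_card_eq_prime_sq (p := p) (G := P ⧸ Z) hQc
    have hna : ¬ ∀ a b : P, a * b = b * a := fun h => by
      have : Z = ⊤ := eq_top_iff.2 fun g _ => Subgroup.mem_center_iff.2 fun a => h a g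
      rw [this, Subgroup.index_top] at hidx
      nlinarith [hp.two_le]
    push Not at hna
    obtain ⟨a, b, hab⟩ := hna
    set c := a⁻¹ * b * a * b⁻¹ with hc
    have hcZ : c ∈ Z := by
      rw [← QuotientGroup.eq_one_iff, hc]
      simp only [QuotientGroup.mk_mul, QuotientGroup.mk_inv]
      rw [mul_assoc (a : P ⧸ Z)⁻¹, hQab (b : P ⧸ Z) a]
      group
    have hc1 : c ≠ 1 := fun h => hab (by
      calc a * b = a * c * b := by rw [h, mul_one]
        _ = b * a := by rw [hc]; group)
    -- the centraliser of a is generated by a and the centre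
    set A := Subgroup.centralizer ({a} : Set P) with hA
    have hZA : Z ≤ A := fun z hz => Subgroup.mem_centralizer_singleton_iff.2 ((Subgroup.mem_center_iff.1 hz a).symm)
    have haZ : a ∉ Z := fun h => hab (Subgroup.mem_center_iff.1 h b).symm
    have hbA : b ∉ A := fun h => hab (Subgroup.mem_centralizer_singleton_iff.1 h).symm
    -- modulo c the group is commutative
    let C := Subgroup.zpowers c
    have hCZ : C ≤ Z := Subgroup.zpowers_le.2 hcZ
    haveI : C.Normal := ⟨fun u hu g => by
      rw [Subgroup.mem_center_iff.1 (hCZ hu) g, mul_inv_cancel_right]; exact hu⟩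
    let K := (Subgroup.centralizer {(a : P ⧸ C), (b : P ⧸ C)}).comap (QuotientGroup.mk' C)
    have hKmem : ∀ g : P, (g : P ⧸ C) * a = a * g → (g : P ⧸ C) * b = b * g → g ∈ K := fun g h1 h2 => by
      refine Subgroup.mem_comap.2 (Subgroup.mem_centralizer_iff.2 ?_)
      rintro u (rfl | rfl)
      · exact h1.symm
      · exact h2.symm
    have hab' : (a : P ⧸ C) * b = b * a := by
      rw [← QuotientGroup.mk_mul, ← QuotientGroup.mk_mul, QuotientGroup.eq]
      have : (a * b)⁻¹ * (b * a) = b⁻¹ * c * b := by rw [hc]; group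
      rw [this, mul_assoc, ← Subgroup.mem_center_iff.1 hcZ b, inv_mul_cancel_left]
      exact Subgroup.mem_zpowers c
    have hgen : ∀ H : Subgroup P, Z ≤ H → a ∈ H → b ∈ H → H = ⊤ := by
      intro H hZH haH hbH
      have hAlt : A.index ≠ 1 := fun h => hbA (Subgroup.index_eq_one.1 h ▸ Subgroup.mem_top b)
      have h1 : Z.relIndex (A ⊓ H) * (A ⊓ H).index = p ^ 2 := by
        rw [Subgroup.relIndex_mul_index (le_inf hZA hZH), hidx]
      have h2 : (A ⊓ H).relIndex H * H.index = (A ⊓ H).index := Subgroup.relIndex_mul_index inf_le_right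
      have h3 : Z.relIndex (A ⊓ H) ≠ 1 := fun h => haZ (Subgroup.relIndex_eq_one.1 h ⟨Subgroup.mem_centralizer_singleton_iff.2 rfl, haH⟩)
      have h4 : (A ⊓ H).relIndex H ≠ 1 := fun h => hbA (Subgroup.relIndex_eq_one.1 h hbH).1
      obtain ⟨u, -, hu⟩ := (Nat.dvd_prime_pow hp).1 (Dvd.intro _ h1)
      obtain ⟨w, -, hw⟩ := (Nat.dvd_prime_pow hp).1 ((Dvd.intro _ h2).trans (Dvd.intro_left _ h1))
      have h5 : p ^ u * (p ^ w * H.index) = p ^ 2 := by rw [← hu, ← hw, h2, h1]
      have hu0 : u ≠ 0 := fun h => h3 (by rw [hu, h, pow_zero])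
      have hw0 : w ≠ 0 := fun h => h4 (by rw [hw, h, pow_zero])
      have hH1 : 0 < H.index := Nat.pos_of_ne_zero Subgroup.index_ne_zero_of_finite
      have h6 : p ^ (u + w) ≤ p ^ 2 := by
        rw [← h5, ← mul_assoc, ← pow_add]
        exact Nat.le_mul_of_pos_right _ hH1
      have h7 := (Nat.pow_le_pow_iff_right hp.one_lt).1 h6
      rw [← mul_assoc, ← pow_add, show u + w = 2 by omega] at h5
      exact Subgroup.index_eq_one.1 ((Nat.mul_eq_left (pow_pos hp.pos 2).ne').1 h5)
    have hKtop : K = ⊤ := hgen K (fun z hz => hKmem z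
        (by rw [← QuotientGroup.mk_mul, ← QuotientGroup.mk_mul, Subgroup.mem_center_iff.1 hz a])
        (by rw [← QuotientGroup.mk_mul, ← QuotientGroup.mk_mul, Subgroup.mem_center_iff.1 hz b]))
      (hKmem a rfl hab') (hKmem b hab'.symm rfl)
    have hcomm : ∀ u : P ⧸ C, u * a = a * u ∧ u * b = b * u := fun u => by
      obtain ⟨g, rfl⟩ := QuotientGroup.mk_surjective u
      have hg := Subgroup.mem_centralizer_iff.1 (Subgroup.mem_comap.1 (hKtop ▸ Subgroup.mem_top g : g ∈ K))
      exact ⟨(hg a (Or.inl rfl)).symm, (hg b (Or.inr rfl)).symm⟩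
    have hall : ∀ g : P, (g : P ⧸ C) ∈ Subgroup.center (P ⧸ C) := by
      have : (Subgroup.center (P ⧸ C)).comap (QuotientGroup.mk' C) = ⊤ := hgen _
        (fun z hz => Subgroup.mem_comap.2 (Subgroup.mem_center_iff.2 fun u => by
          obtain ⟨g, rfl⟩ := QuotientGroup.mk_surjective u
          show (g : P ⧸ C) * z = z * g
          rw [← QuotientGroup.mk_mul, ← QuotientGroup.mk_mul, Subgroup.mem_center_iff.1 hz g]))
        (Subgroup.mem_comap.2 (Subgroup.mem_center_iff.2 fun u => (hcomm u).1))
        (Subgroup.mem_comap.2 (Subgroup.mem_center_iff.2 fun u => (hcomm u).2))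
      exact fun g => Subgroup.mem_comap.1 (this ▸ Subgroup.mem_top g)
    have hle : commutator P ≤ C := by
      rw [commutator_eq_closure, Subgroup.closure_le]
      rintro _ ⟨u, w, rfl⟩
      rw [SetLike.mem_coe, ← QuotientGroup.eq_one_iff, ← QuotientGroup.mk'_apply, map_commutatorElement,
        commutatorElement_eq_one_iff_mul_comm]
      exact Subgroup.mem_center_iff.1 (hall w) _
    have hcp : c ^ p = 1 := by
      have hap : a ^ p ∈ Z := by
        by_contra hh
        -- the quotient by the centre has exponent p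
        have hcy : IsCyclic (P ⧸ Z) := by
          refine isCyclic_of_orderOf_eq_card (x := (a : P ⧸ Z)) ?_
          obtain ⟨u, hu, hu'⟩ := (Nat.dvd_prime_pow hp).1 (hQc ▸ orderOf_dvd_natCard (a : P ⧸ Z))
          have hu2 : ¬ u ≤ 1 := fun hle' => hh (by
            rw [← QuotientGroup.eq_one_iff, QuotientGroup.mk_pow, ← orderOf_dvd_iff_pow_eq_one, hu']
            exact (pow_dvd_pow p hle').trans (by rw [pow_one]))
          rw [hu', hQc, show u = 2 by omega]
        exact hab (hcyc P Z le_rfl hcy a b)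
      have h1 : b * a * b⁻¹ = a * c := by rw [hc]; group
      have h2 := congrArg (· ^ p) h1
      simp only [conj_pow] at h2
      rw [(show Commute a c from Subgroup.mem_center_iff.1 hcZ a).mul_pow,
        Subgroup.mem_center_iff.1 hap b, mul_inv_cancel_right] at h2
      exact mul_eq_left.1 h2.symm
    have hCc : Nat.card C = p := by rw [Nat.card_zpowers, orderOf_eq_prime hcp hc1]
    refine le_antisymm (hCc ▸ Subgroup.card_le_of_le hle) ?_
    have hcm : c ∈ commutator P := by
      rw [hc, show a⁻¹ * b * a * b⁻¹ = ⁅a⁻¹, b⁆ by rw [commutatorElement_def]; group]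
      exact Subgroup.commutator_mem_commutator (Subgroup.mem_top _) (Subgroup.mem_top _)
    exact hCc ▸ Subgroup.card_le_of_le (Subgroup.zpowers_le.2 hcm)

end Cfsg.Agent.S4584
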