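import Cfsg.Statements.S4585
import Cfsg.Agent.S4584
import Cfsg.Agent.Lib.Solv.MaxClass

set_option autoImplicit false
open Cfsg

namespace Cfsg.Agent.S4585

open scoped commutatorElement

/-- Let p be a prime and P a group of order p^4. Then P' has index p^2 in P if and only if P has maximal nilpotency class, that is, nilpotency class exactly 3. -/
theorem result {P : Type*} [Group P] [Finite P] (p : ℕ) [Fact p.Prime] (hP : Nat.card P = p ^ 4) :
    (commutator P).index = p ^ 2 ↔ Group.nilpotencyClass P = 3 := by
  classical
  have hp : p.Prime := Fact.out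
  have hPg : IsPGroup p P := IsPGroup.of_card hP
  haveI : Group.IsNilpotent P := hPg.isNilpotent
  constructor
  · intro hidx
    have h3 := Cfsg.Agent.Solv.MaxClass.class_le (n := 4) hP (by norm_num)
    by_contra hne
    have h2 : Group.nilpotencyClass P ≤ 2 := by omega
    have hl2 := Subgroup.lowerCentralSeries_eq_bot_iff_nilpotencyClass_le.2 h2
    rw [Subgroup.lowerCentralSeries_succ, Subgroup.lowerCentralSeries_succ, Subgroup.lowerCentralSeries_zero] at hl2
    have hcen : commutator P ≤ Subgroup.center P := fun c hc => Subgroup.mem_center_iff.2 fun g => by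
      have h := Subgroup.commutator_mem_commutator (H₁ := ⁅(⊤ : Subgroup P), (⊤ : Subgroup P)⁆) (H₂ := ⊤) hc (Subgroup.mem_top g)
      rw [hl2, Subgroup.mem_bot, commutatorElement_eq_one_iff_mul_comm] at h
      exact h.symm
    have hcc : Nat.card (commutator P) = p ^ 2 := by
      have := (commutator P).card_mul_index
      rw [hidx, hP, show p ^ 4 = p ^ 2 * p ^ 2 by rw [← pow_add]] at this
      exact Nat.eq_of_mul_eq_mul_right (pow_pos hp.pos 2) this
    have hzle : (Subgroup.center P).index ∣ p ^ 2 := hidx ▸ Subgroup.index_dvd_of_le hcen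
    obtain ⟨u, hu, hu'⟩ := (Nat.dvd_prime_pow hp).1 hzle
    have hu2 : ¬ u ≤ 1 := fun hle => by
      have hab : ∀ a b : P, a * b = b * a := by
        have hc : IsCyclic (P ⧸ Subgroup.center P) := by
          interval_cases u
          · haveI := (Nat.card_eq_one_iff_unique.1 ((Subgroup.index_eq_card _).symm.trans (hu'.trans (pow_zero p)))).1
            infer_instance
          · exact isCyclic_of_prime_card ((Subgroup.index_eq_card _).symm.trans (hu'.trans (pow_one p)))
        exact fun a b => commutative_of_cyclic_center_quotient (QuotientGroup.mk' (Subgroup.center P)) (by rw [QuotientGroup.ker_mk']) a b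
      have : commutator P = ⊥ := by
        rw [commutator_eq_closure, Subgroup.closure_eq_bot_iff]
        rintro _ ⟨a, b, rfl⟩
        exact commutatorElement_eq_one_iff_mul_comm.2 (hab a b)
      rw [this, Subgroup.card_bot] at hcc
      nlinarith [hp.two_le]
    have hone := (Cfsg.Agent.S4584.result p hP).2 (by rw [hu', show u = 2 by omega])
    rw [hcc] at hone
    nlinarith [hp.two_le]
  · intro h
    have := Cfsg.Agent.Solv.MaxClass.index_lcs_eq (n := 4) hP (by norm_num) h (i := 1) le_rfl (by norm_num)
    rw [Subgroup.lowerCentralSeries_succ, Subgroup.lowerCentralSeries_zero] at this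
    exact this

end Cfsg.Agent.S4585
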