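import Cfsg.Statements.S4586
import Mathlib.GroupTheory.Abelianization.Defs

set_option autoImplicit false
open Cfsg

namespace Cfsg.Agent.S4586

theorem index_formula {P : Type*} [Group P] [Finite P] {p : ℕ} (hp : p.Prime) (N : Subgroup P) [N.Normal]
    (hN : N.index = p) (x : P) (hx : x ∉ N) :
    (commutator P).index * Nat.card (commutator N) =
      p * Nat.card {n : N // x * n * x⁻¹ * (n : P)⁻¹ ∈ (commutator N).map N.subtype} := by
  classical
  set D : Subgroup P := ⁅N, N⁆ with hDdef
  have hDeq : (commutator N).map N.subtype = D := Subgroup.map_subtype_commutator N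
  haveI : D.Normal := Subgroup.commutator_normal N N
  have hDN : D ≤ N := Subgroup.commutator_le_self N
  have hcomm : ∀ a ∈ N, ∀ b ∈ N, (QuotientGroup.mk a : P ⧸ D) * QuotientGroup.mk b =
      QuotientGroup.mk b * QuotientGroup.mk a := by
    intro a ha b hb
    rw [← QuotientGroup.mk_mul, ← QuotientGroup.mk_mul, QuotientGroup.eq]
    have h := Subgroup.commutator_mem_commutator (inv_mem hb) (inv_mem ha)
    simpa [commutatorElement_def, mul_assoc] using h
  have hcN : ∀ n : N, x * n * x⁻¹ * (n : P)⁻¹ ∈ N := fun n =>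
    mul_mem (‹N.Normal›.conj_mem n n.2 x) (inv_mem n.2)
  let φ : N →* P ⧸ D :=
    { toFun := fun n => QuotientGroup.mk (x * n * x⁻¹ * (n : P)⁻¹)
      map_one' := by simp
      map_mul' := fun n m => by
        have h1 : x * (n * m : N) * x⁻¹ * ((n * m : N) : P)⁻¹ =
            (x * n * x⁻¹ * (n : P)⁻¹) * ((n : P) * (x * m * x⁻¹ * (m : P)⁻¹) * (n : P)⁻¹) := by
          push_cast; group
        rw [h1, QuotientGroup.mk_mul]
        congr 1
        rw [QuotientGroup.mk_mul, QuotientGroup.mk_mul, hcomm _ n.2 _ (hcN m), QuotientGroup.mk_inv,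
          mul_inv_cancel_right] }
  have hker : Nat.card φ.ker =
      Nat.card {n : N // x * n * x⁻¹ * (n : P)⁻¹ ∈ (commutator N).map N.subtype} := by
    refine Nat.card_congr (Equiv.subtypeEquivRight fun n => ?_)
    rw [MonoidHom.mem_ker, hDeq]
    exact QuotientGroup.eq_one_iff _
  set K : Subgroup P := φ.range.comap (QuotientGroup.mk' D) with hKdef
  have hDK : D ≤ K := fun d hd => by
    show QuotientGroup.mk' D d ∈ φ.range
    rw [QuotientGroup.mk'_apply, (QuotientGroup.eq_one_iff d).2 hd]
    exact one_mem _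
  have hxn : ∀ n ∈ N, x * n * x⁻¹ * n⁻¹ ∈ K := fun n hn => ⟨⟨n, hn⟩, rfl⟩
  have hKN : K ≤ N := by
    rintro k ⟨n, hn⟩
    have h : (x * n * x⁻¹ * (n : P)⁻¹)⁻¹ * k ∈ D := QuotientGroup.eq.1 hn
    have h2 := mul_mem (hcN n) (hDN h)
    rwa [mul_inv_cancel_left] at h2
  have hgen : ∀ S : Subgroup P, N ≤ S → x ∈ S → S = ⊤ := by
    intro S hNS hxS
    have h := Subgroup.index_dvd_of_le hNS
    rw [hN] at h
    rcases hp.eq_one_or_self_of_dvd _ h with h1 | h1
    · exact Subgroup.index_eq_one.1 h1
    · have h2 : N = S := Subgroup.eq_of_le_of_card_ge hNS (by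
        have e1 := N.card_mul_index
        have e2 := S.card_mul_index
        rw [hN] at e1
        rw [h1] at e2
        exact le_of_eq (Nat.eq_of_mul_eq_mul_right hp.pos (e2.trans e1.symm)))
      exact absurd (h2 ▸ hxS) hx
  have hKnormal : K.Normal := by
    rw [← Subgroup.normalizer_eq_top_iff]
    refine hgen _ ?_ ?_
    · intro a ha
      have hfix : ∀ k ∈ N, a * k * a⁻¹ * k⁻¹ ∈ K := fun k hk =>
        hDK (by simpa [commutatorElement_def] using Subgroup.commutator_mem_commutator ha hk)
      rw [Subgroup.mem_normalizer_iff]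
      intro k
      constructor
      · intro hk
        simpa using mul_mem (hfix k (hKN hk)) hk
      · intro hk
        have hk' : a * k * a⁻¹ ∈ N := hKN hk
        have hkN : k ∈ N := by simpa [mul_assoc] using mul_mem (mul_mem (inv_mem ha) hk') ha
        have h2 := mul_mem (inv_mem (hfix k hkN)) hk
        rwa [show (a * k * a⁻¹ * k⁻¹)⁻¹ * (a * k * a⁻¹) = k by group] at h2
    · suffices hconj : ∀ k ∈ K, x * k * x⁻¹ ∈ K by
        have heq : K.map (MulAut.conj x).toMonoidHom = K := Subgroup.eq_of_le_of_card_ge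
          (by rintro _ ⟨k, hk, rfl⟩; exact hconj k hk)
          (le_of_eq (Subgroup.card_map_of_injective (MulAut.conj x).injective).symm)
        rw [Subgroup.mem_normalizer_iff]
        intro k
        refine ⟨hconj k, fun hk => ?_⟩
        rw [← heq] at hk
        obtain ⟨k', hk', e⟩ := hk
        rwa [show k = k' from mul_left_cancel (mul_right_cancel e.symm)]
      rintro k ⟨n, hn⟩
      refine ⟨⟨x * n * x⁻¹, ‹N.Normal›.conj_mem n n.2 x⟩, ?_⟩
      rw [QuotientGroup.mk'_apply] at hn ⊢
      rw [QuotientGroup.mk_mul, QuotientGroup.mk_mul, ← hn]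
      show (QuotientGroup.mk _ : P ⧸ D) = _ * QuotientGroup.mk _ * _
      rw [← QuotientGroup.mk_mul, ← QuotientGroup.mk_mul]
      congr 1
      group
  haveI := hKnormal
  have hq : ∀ (a b : P), a * b * a⁻¹ * b⁻¹ ∈ K →
      (QuotientGroup.mk a : P ⧸ K) * QuotientGroup.mk b = QuotientGroup.mk b * QuotientGroup.mk a := by
    intro a b h
    rw [← QuotientGroup.eq_one_iff, QuotientGroup.mk_mul, QuotientGroup.mk_mul, QuotientGroup.mk_mul,
      QuotientGroup.mk_inv, QuotientGroup.mk_inv, mul_inv_eq_one, mul_inv_eq_iff_eq_mul] at h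
    exact h
  have hcent : ∀ a : P, (∀ n ∈ N, a * n * a⁻¹ * n⁻¹ ∈ K) → a * x * a⁻¹ * x⁻¹ ∈ K →
      ∀ b : P, a * b * a⁻¹ * b⁻¹ ∈ K := by
    intro a h1 h2 b
    have hS := hgen ((Subgroup.centralizer {(QuotientGroup.mk a : P ⧸ K)}).comap (QuotientGroup.mk' K))
      (fun n hn => Subgroup.mem_centralizer_singleton_iff.2 (hq a n (h1 n hn)).symm)
      (Subgroup.mem_centralizer_singleton_iff.2 (hq a x h2).symm)
    have h3 := Subgroup.mem_centralizer_singleton_iff.1
      (show QuotientGroup.mk' K b ∈ Subgroup.centralizer {(QuotientGroup.mk a : P ⧸ K)} by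
        rw [← Subgroup.mem_comap, hS]; exact Subgroup.mem_top b)
    rw [QuotientGroup.mk'_apply] at h3
    rw [← QuotientGroup.eq_one_iff, QuotientGroup.mk_mul, QuotientGroup.mk_mul, QuotientGroup.mk_mul,
      QuotientGroup.mk_inv, QuotientGroup.mk_inv, mul_inv_eq_one, mul_inv_eq_iff_eq_mul]
    exact h3.symm
  have hNcent : ∀ n ∈ N, ∀ b : P, n * b * n⁻¹ * b⁻¹ ∈ K := fun n hn =>
    hcent n (fun m hm => hDK (by simpa [commutatorElement_def] using Subgroup.commutator_mem_commutator hn hm))
      (by simpa [mul_assoc] using inv_mem (hxn n hn))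
  have hxcent : ∀ b : P, x * b * x⁻¹ * b⁻¹ ∈ K := hcent x hxn (by simp)
  have hPK : commutator P = K := by
    refine le_antisymm ?_ ?_
    · rw [commutator_def, Subgroup.commutator_le]
      intro a _ b _
      refine hcent a (fun n hn => ?_) ?_ b
      · simpa [mul_assoc] using inv_mem (hNcent n hn a)
      · simpa [mul_assoc] using inv_mem (hxcent a)
    · rintro k ⟨n, hn⟩
      have h : (x * n * x⁻¹ * (n : P)⁻¹)⁻¹ * k ∈ D := QuotientGroup.eq.1 hn
      have hDP : D ≤ commutator P := by
        rw [commutator_def]; exact Subgroup.commutator_mono le_top le_top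
      have h' : x * n * x⁻¹ * (n : P)⁻¹ ∈ commutator P := by
        rw [commutator_def]
        simpa [commutatorElement_def] using
          Subgroup.commutator_mem_commutator (Subgroup.mem_top x) (Subgroup.mem_top (n : P))
      have h2 := mul_mem h' (hDP h)
      rwa [mul_inv_cancel_left] at h2
  have h1 : K.index = φ.range.index := φ.range.index_comap_of_surjective (QuotientGroup.mk'_surjective D)
  have h2 : Nat.card φ.ker * Nat.card φ.range = Nat.card N := by
    rw [← Subgroup.index_ker, φ.ker.card_mul_index]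
  have h3 := φ.range.index_mul_card
  have h4 := N.card_mul_index
  have h5 : Nat.card (commutator N) * Nat.card (P ⧸ D) = Nat.card P := by
    rw [Nat.card_congr ((commutator N).equivMapOfInjective N.subtype N.subtype_injective).toEquiv, hDeq]
    exact D.card_mul_index
  rw [hPK, h1, ← hker]
  refine Nat.eq_of_mul_eq_mul_right (Nat.card_pos (α := φ.range)) ?_
  rw [show φ.range.index * Nat.card (commutator N) * Nat.card φ.range =
    Nat.card (commutator N) * (φ.range.index * Nat.card φ.range) by ring, h3, h5, ← h4, hN, ← h2]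
  ring

/-- Let p be a prime, P a finite p-group and N a normal subgroup of P of index p. For x ∈ P write c(x) for the number of elements n of N whose commutator x n x⁻¹ n⁻¹ lies in the derived subgroup N' (so c(x)/#N' is the order of the centralizer of x acting on N/N'). Then [P : P'] = p² if and only if c(x) = p·#N' for every x ∈ P outside N, and also if and only if c(x) = p·#N' for some x ∈ P outside N. -/
theorem result {P : Type*} [Group P] [Finite P] (p : ℕ) [Fact p.Prime] (hP : IsPGroup p P) (N : Subgroup P) [N.Normal] (hN : N.index = p) :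
    ((commutator P).index = p ^ 2 ↔ ∀ x : P, x ∉ N →
        Nat.card {n : N // x * n * x⁻¹ * (n : P)⁻¹ ∈ (commutator N).map N.subtype} = p * Nat.card (commutator N)) ∧
    ((commutator P).index = p ^ 2 ↔ ∃ x : P, x ∉ N ∧
        Nat.card {n : N // x * n * x⁻¹ * (n : P)⁻¹ ∈ (commutator N).map N.subtype} = p * Nat.card (commutator N)) := by
  have hp : p.Prime := Fact.out
  obtain ⟨x₀, hx₀⟩ : ∃ x, x ∉ N := by
    by_contra h
    push Not at h
    rw [(Subgroup.eq_top_iff' N).2 h, Subgroup.index_top] at hN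
    exact hp.one_lt.ne hN
  have key : ∀ x, x ∉ N → ((commutator P).index = p ^ 2 ↔
      Nat.card {n : N // x * n * x⁻¹ * (n : P)⁻¹ ∈ (commutator N).map N.subtype} = p * Nat.card (commutator N)) := by
    intro x hx
    have h := index_formula hp N hN x hx
    constructor
    · intro h2
      rw [h2, sq, mul_assoc] at h
      exact (Nat.eq_of_mul_eq_mul_left hp.pos h).symm
    · intro h2
      rw [h2, ← mul_assoc] at h
      rw [sq]
      exact Nat.eq_of_mul_eq_mul_right Nat.card_pos h
  exact ⟨⟨fun h x hx => (key x hx).1 h, fun h => (key x₀ hx₀).2 (h x₀ hx₀)⟩,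
    ⟨fun h => ⟨x₀, hx₀, (key x₀ hx₀).1 h⟩, fun ⟨x, hx, hc⟩ => (key x hx).2 hc⟩⟩

end Cfsg.Agent.S4586
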