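import Cfsg.Statements.S4588
import Cfsg.Agent.Lib.Block.SubsectionSmall
import Cfsg.Agent.Lib.Block.Columns

set_option autoImplicit false
open Cfsg

namespace Cfsg.Agent.S4588

open Cfsg.Agent.Block Cfsg.Agent.Char

/-- Let G be a finite group, p a prime and M a maximal ideal of the algebraic integers containing p. If some p-element x of G (possibly x = 1) has centralizer whose order has p-part at most p², then the principal p-block of G contains at most p² irreducible characters of degree prime to p. -/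
theorem result {G : Type*} [Group G] [Finite G] (p : ℕ) [Fact p.Prime] (M : Ideal Cfsg.AlgInt) (hM : Cfsg.IsPModular p M)
    (hx : ∃ x : G, (∃ k : ℕ, orderOf x = p ^ k) ∧ (Nat.card (Subgroup.centralizer ({x} : Set G))).factorization p ≤ 2) :
    Nat.card {χ : Cfsg.IrrCharacter G // χ ∈ Cfsg.principalBlock M G ∧ ¬ p ∣ Cfsg.charDegree (χ : G → ℂ)} ≤ p ^ 2 := by
  classical
  haveI := prime_of_isPModular hM
  haveI := Fintype.ofFinite G
  let one : Cfsg.IrrCharacter G := ⟨fun _ => 1, isIrrCharacter_one⟩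
  have hB0 : Cfsg.IsPBlock M (Cfsg.principalBlock M G) := ⟨one, rfl⟩
  have hmin : ∀ {H : Type _} [Group H] [Finite H], minVal p (Cfsg.principalBlock M H) = 0 := by
    intro H _ _
    let o : Cfsg.IrrCharacter H := ⟨fun _ => 1, isIrrCharacter_one⟩
    have h := minVal_le (p := p) (B := Cfsg.principalBlock M H) (χ := o) (sameBlock_refl _)
    have h1 : Cfsg.charDegree (o : H → ℂ) = 1 := by simp [Cfsg.charDegree, o]
    rw [h1, Nat.factorization_one] at h
    simpa using h
  have hiff : ∀ χ : Cfsg.IrrCharacter G, (χ ∈ Cfsg.principalBlock M G ∧ ¬ p ∣ Cfsg.charDegree (χ : G → ℂ)) ↔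
      (χ ∈ Cfsg.principalBlock M G ∧ Cfsg.blockHeight p (Cfsg.principalBlock M G) (χ : G → ℂ) = 0) := fun χ => by
    rw [blockHeight_eq, hmin, Nat.sub_zero, Nat.factorization_eq_zero_iff]
    simp [hM.1, (charDegree_pos χ.2).ne']
  rw [Nat.card_congr (Equiv.subtypeEquivRight hiff)]
  by_cases hG : p ∣ Nat.card G
  swap
  · have hd : Cfsg.blockDefect p (Cfsg.principalBlock M G) = 0 := by
      rw [blockDefect_eq, Nat.factorization_eq_zero_of_not_dvd hG, Nat.zero_sub]
    have h := brauer_feit hM hB0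
    rw [hd, mul_zero, pow_zero] at h
    have h1 : 1 ≤ p ^ 2 := Nat.one_le_pow _ _ hM.1.pos
    have h2 : Nat.card {χ : Cfsg.IrrCharacter G // χ ∈ Cfsg.principalBlock M G ∧
        Cfsg.blockHeight p (Cfsg.principalBlock M G) (χ : G → ℂ) = 0} ≤ Nat.card (Cfsg.principalBlock M G) :=
      Nat.card_le_card_of_injective (fun χ => ⟨χ.1, χ.2.1⟩) fun a b hab => Subtype.ext (by simpa using congrArg Subtype.val hab)
    omega
  -- a non-trivial element with a small centraliser
  obtain ⟨y, hy, hy1, hyc⟩ : ∃ y : G, (∃ k : ℕ, orderOf y = p ^ k) ∧ y ≠ 1 ∧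
      (Nat.card (Subgroup.centralizer ({y} : Set G))).factorization p ≤ 2 := by
    obtain ⟨x, hxk, hxc⟩ := hx
    by_cases hx1 : x = 1
    · obtain ⟨y, hy⟩ := exists_prime_orderOf_dvd_card' p hG
      refine ⟨y, ⟨1, by rw [hy, pow_one]⟩, fun h => hM.1.one_lt.ne (by rw [← hy, h, orderOf_one]), ?_⟩
      refine le_trans ?_ hxc
      refine (Nat.factorization_le_iff_dvd Nat.card_pos.ne' Nat.card_pos.ne').2 ?_ p
      have htop : Subgroup.centralizer ({x} : Set G) = ⊤ :=
        eq_top_iff.2 fun g _ => mem_centralizer_singleton.2 (by rw [hx1]; exact Commute.one_left g)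
      rw [htop, Subgroup.card_top]
      exact Subgroup.card_subgroup_dvd_card _
    · exact ⟨x, hxk, hx1, hxc⟩
  set b := Cfsg.principalBlock M (Subgroup.centralizer ({y} : Set G)) with hb
  have hind : Cfsg.IsInducedBlock M (Subgroup.centralizer ({y} : Set G)) b (Cfsg.principalBlock M G) := by
    rw [← mem_localBlocks, localBlocks_principal hM hy]
    exact Finset.mem_singleton_self _
  have hdb : Cfsg.blockDefect p b = (Nat.card (Subgroup.centralizer ({y} : Set G))).factorization p := by
    rw [blockDefect_eq, hb, hmin, Nat.sub_zero]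
  refine (card_height_zero_le_of_small hM hB0 hy hind (hdb ▸ hyc) fun _ => ?_).trans
    (Nat.pow_le_pow_right hM.1.pos (hdb ▸ hyc))
  obtain ⟨k, hk⟩ := hy
  set yc : Subgroup.centralizer ({y} : Set G) := ⟨y, mem_centralizer_singleton.2 (Commute.refl y)⟩
  have hyo : orderOf yc = p ^ k := by rw [← Subgroup.orderOf_coe]; exact hk
  have hk0 : k ≠ 0 := fun h => hy1 (orderOf_eq_one_iff.1 (by rw [hk, h, pow_zero]))
  obtain ⟨j, rfl⟩ := Nat.exists_eq_succ_of_ne_zero hk0
  refine ⟨yc ^ p ^ j, fun c => ?_, ?_⟩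
  · have hc : Commute yc c := Subtype.ext (mem_centralizer_singleton.1 c.2).eq
    exact (hc.pow_left _).eq
  · rw [orderOf_pow, hyo, Nat.succ_eq_add_one, pow_succ, Nat.gcd_mul_right_left,
      Nat.mul_div_cancel_left _ (pow_pos hM.1.pos j)]

end Cfsg.Agent.S4588
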