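import Cfsg.Statements.S4591
import Cfsg.Agent.Lib.Char.PPrimeKernel

set_option autoImplicit false
set_option linter.style.haveILetI false
set_option linter.unusedSectionVars false
open Cfsg

namespace Cfsg.Agent.S4591

open Cfsg.Agent.Char
open scoped Pointwise

universe w

variable {G : Type w} [Group G] [Finite G] {p : ℕ} [hp : Fact p.Prime]

theorem inf_sylow_eq_bot (P : Sylow p G) (N : Subgroup G) [N.Normal]
    (hN : N ⊓ Subgroup.centralizer ((P : Subgroup G) : Set G) = ⊥) :
    N ⊓ (P : Subgroup G) = ⊥ := by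
  by_contra hne
  set S := (N ⊓ (P : Subgroup G)).subgroupOf (P : Subgroup G) with hS
  haveI : S.Normal := ⟨fun a ha y => ⟨Subgroup.Normal.conj_mem ‹N.Normal› _ ha.1 _,
    (y * a * y⁻¹).2⟩⟩
  obtain ⟨a, ha, ha1⟩ := (Subgroup.ne_bot_iff_exists_ne_one).mp hne |> fun ⟨⟨a, ha⟩, h⟩ =>
    (⟨a, ha, fun e => h (Subtype.ext e)⟩ : ∃ a ∈ N ⊓ (P : Subgroup G), a ≠ 1)
  haveI : Nontrivial S := ⟨⟨⟨a, ha.2⟩, ha⟩, 1, fun e => ha1 (congrArg (fun z : S => ((z : (P : Subgroup G)) : G)) e)⟩
  haveI : Group.IsNilpotent (P : Subgroup G) := IsPGroup.isNilpotent P.2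
  have hbot : S ⊓ Subgroup.center (P : Subgroup G) ≠ ⊥ :=
    inf_center_ne_bot S
  obtain ⟨⟨z, hz⟩, hz1⟩ := Subgroup.ne_bot_iff_exists_ne_one.mp hbot
  have : ((z : (P : Subgroup G)) : G) ∈ N ⊓ Subgroup.centralizer ((P : Subgroup G) : Set G) := by
    refine ⟨hz.1.1, Subgroup.mem_centralizer_iff.mpr fun y hy => ?_⟩
    exact congrArg Subtype.val (Subgroup.mem_center_iff.mp hz.2 ⟨y, hy⟩)
  rw [hN, Subgroup.mem_bot] at this
  exact hz1 (Subtype.ext (Subtype.ext this))
where
  inf_center_ne_bot {P : Sylow p G} (S : Subgroup (P : Subgroup G)) [S.Normal] [Nontrivial S] :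
      S ⊓ Subgroup.center (P : Subgroup G) ≠ ⊥ := by
    haveI : Fintype (P : Subgroup G) := Fintype.ofFinite _
    letI : MulAction (P : Subgroup G) S := MulAction.compHom S (MulAut.conjNormal (H := S))
    have hpS : p ∣ Nat.card S := by
      obtain ⟨k, hk⟩ := IsPGroup.iff_card.mp (P.2.to_subgroup S)
      rw [hk]
      refine dvd_pow_self p ?_
      rintro rfl
      exact (Finite.one_lt_card (α := S)).ne' (by simpa using hk)
    have h1 : (1 : S) ∈ MulAction.fixedPoints (P : Subgroup G) S := fun y => by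
      show MulAut.conjNormal y (1 : S) = 1
      simp
    obtain ⟨z, hz, hz1⟩ := P.2.exists_fixed_point_of_prime_dvd_card_of_fixed_point S hpS h1
    intro e
    have hm : (z : (P : Subgroup G)) ∈ S ⊓ Subgroup.center (P : Subgroup G) := by
      refine ⟨z.2, Subgroup.mem_center_iff.mpr fun y => ?_⟩
      have := congrArg Subtype.val (hz y)
      change ((MulAut.conjNormal y z : S) : (P : Subgroup G)) = z at this
      rw [MulAut.conjNormal_apply] at this
      exact mul_inv_eq_iff_eq_mul.mp this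
    rw [e, Subgroup.mem_bot] at hm
    exact hz1 (Subtype.ext hm.symm)

theorem not_dvd_card (P : Sylow p G) (N : Subgroup G) [N.Normal]
    (hNP : N ⊓ (P : Subgroup G) = ⊥) : ¬ p ∣ Nat.card N := by
  intro hd
  obtain ⟨⟨a, ha⟩, hord⟩ := exists_prime_orderOf_dvd_card' p hd
  have hA : IsPGroup p (Subgroup.zpowers a) := by
    refine IsPGroup.of_card (n := 1) ?_
    rw [Nat.card_zpowers, pow_one]
    simpa using hord
  obtain ⟨Q, hQ⟩ := hA.exists_le_sylow
  obtain ⟨x, hx⟩ := MulAction.exists_smul_eq G Q P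
  have haP : x * a * x⁻¹ ∈ (P : Subgroup G) := by
    rw [← hx, Sylow.coe_subgroup_smul]
    exact ⟨a, hQ (Subgroup.mem_zpowers a), rfl⟩
  have h0 : x * a * x⁻¹ = 1 := by
    have : x * a * x⁻¹ ∈ N ⊓ (P : Subgroup G) := ⟨Subgroup.Normal.conj_mem ‹N.Normal› a ha x, haP⟩
    rwa [hNP, Subgroup.mem_bot] at this
  have ha1 : a = 1 := by simpa using h0
  subst ha1
  rw [show (⟨1, ha⟩ : N) = 1 from rfl, orderOf_one] at hord
  exact hp.out.one_lt.ne hord

theorem apply_eq_of_mem (P : Sylow p G) (N : Subgroup G) [N.Normal]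
    (hN : N ⊓ Subgroup.centralizer ((P : Subgroup G) : Set G) = ⊥) (hNp : ¬ p ∣ Nat.card N)
    (χ : IrrCharacter G) (hχ : ¬ p ∣ charDegree (χ : G → ℂ)) (n : G) (hn : n ∈ N) :
    (χ : G → ℂ) n = (χ : G → ℂ) 1 := by
  classical
  haveI := Fintype.ofFinite G
  haveI := Fintype.ofFinite N
  obtain ⟨d, hd0, hd⟩ := IsIrrCharacter.degree_pos χ.2
  have hres : (fun m : N => (χ : G → ℂ) m) ≠ 0 := fun e => by
    have := congrFun e 1
    simp [IsIrrCharacter.apply_one_ne_zero χ.2] at this
  obtain ⟨θ, hθ, hne⟩ := IsCharacter.exists_irr_constituent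
    (IsCharacter.restrict (IsIrrCharacter.isCharacter χ.2) N) hres
  obtain ⟨e, he⟩ := exists_classInner_nat (IsCharacter.restrict (IsIrrCharacter.isCharacter χ.2) N) hθ
  have hdeg := restrict_degree_eq N χ.2 hθ hne
  rw [he, PPrime.coe_charDegree χ.2, PPrime.coe_charDegree hθ, ← Nat.cast_mul, ← Nat.cast_mul,
    Nat.cast_inj] at hdeg
  have hidx : ¬ p ∣ (inertia N θ).index := fun h =>
    hχ (hdeg ▸ (h.mul_right _).mul_left e)
  set T := inertia N θ with hT
  obtain ⟨Q⟩ : Nonempty (Sylow p T) := inferInstance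
  have hQG : IsPGroup p ((Q : Subgroup T).map T.subtype) := Q.2.map _
  obtain ⟨R, hR⟩ := hQG.exists_le_sylow
  have hcard : Nat.card ((Q : Subgroup T).map T.subtype) = Nat.card (R : Subgroup G) := by
    rw [Subgroup.card_map_of_injective T.subtype_injective, Sylow.card_eq_multiplicity,
      Sylow.card_eq_multiplicity, ← T.index_mul_card, Nat.factorization_mul
        Subgroup.index_ne_zero_of_finite Nat.card_pos.ne']
    simp [Nat.factorization_eq_zero_of_not_dvd hidx]
  have hRT : (R : Subgroup G) ≤ T := by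
    rw [← Subgroup.eq_of_le_of_card_ge hR hcard.ge]
    exact Subgroup.map_subtype_le _
  obtain ⟨x, hx⟩ := MulAction.exists_smul_eq G R P
  have hinv : ∀ y ∈ (P : Subgroup G), conjChar N y (conjChar N x⁻¹ θ) = conjChar N x⁻¹ θ := by
    intro y hy
    rw [← hx, Sylow.coe_subgroup_smul] at hy
    obtain ⟨r, hr, rfl⟩ := hy
    show conjChar N (x * r * x⁻¹) _ = _
    rw [conjChar_mul, show x⁻¹ * (x * r * x⁻¹) = r * x⁻¹ by group, ← conjChar_mul,
      (mem_inertia N).mp (hRT hr)]
  have h1 := PPrime.eq_one_of_invariant P.2 hNp hN (isIrrCharacter_conjChar N hθ x⁻¹) hinv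
  have hne' : classInner (fun m : N => (χ : G → ℂ) m) 1 ≠ 0 := by
    rw [← h1, classInner_restrict_conjChar N
      (IsCharacter.isClassFunction (IsIrrCharacter.isCharacter χ.2))]
    exact hne
  exact PPrime.eq_degree_of_classInner_one χ.2 hne' ⟨n, hn⟩

theorem core_le (P : Sylow p G) (N : Subgroup G) [N.Normal]
    (hN : N ⊓ Subgroup.centralizer ((P : Subgroup G) : Set G) = ⊥) (hNp : ¬ p ∣ Nat.card N)
    (hNker : ∀ χ : IrrCharacter G, ¬ p ∣ charDegree (χ : G → ℂ) →
      ∀ n ∈ N, (χ : G → ℂ) n = (χ : G → ℂ) 1)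
    (K : Subgroup G) [K.Normal] (hK : K ≤ N ⊔ ⁅(P : Subgroup G), (P : Subgroup G)⁆)
    (χ : IrrCharacter G) (hχ : ¬ p ∣ charDegree (χ : G → ℂ)) (g : G) (hg : g ∈ K) :
    (χ : G → ℂ) g = (χ : G → ℂ) 1 := by
  classical
  haveI := Fintype.ofFinite G
  haveI := Fintype.ofFinite (P : Subgroup G)
  set Pd : Subgroup G := ⁅(P : Subgroup G), (P : Subgroup G)⁆ with hPd
  have hc := IsIrrCharacter.isCharacter χ.2
  -- it suffices to treat `Q = (N ⊔ K) ⊓ P'`
  set L : Subgroup G := N ⊔ K with hL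
  haveI : L.Normal := Subgroup.sup_normal N K
  haveI := Fintype.ofFinite L
  have hLle : L ≤ N ⊔ Pd := sup_le le_sup_left hK
  obtain ⟨l, hl⟩ := PPrime.classInner_one_ne_zero_of_restrict hc (P := (P : Subgroup G)) P.2
    (PPrime.coe_charDegree χ.2) hχ
  have hlPd : ∀ y (hy : y ∈ (P : Subgroup G)), y ∈ Pd → l ⟨y, hy⟩ = 1 := by
    intro y hy hyd
    have : (⟨y, hy⟩ : (P : Subgroup G)) ∈ commutator (P : Subgroup G) := by
      rw [hPd, ← Subgroup.map_subtype_commutator] at hyd
      obtain ⟨z, hz, e⟩ := hyd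
      rwa [show (⟨y, hy⟩ : (P : Subgroup G)) = z from Subtype.ext e.symm]
    exact Abelianization.commutator_subset_ker l this
  obtain ⟨r, hr, hsplit⟩ := exists_add_of_classInner_ne_zero (IsCharacter.restrict hc (P : Subgroup G))
    (isIrrCharacter_monoidHom l) hl
  have hPdle : Pd ≤ (P : Subgroup G) := by
    rw [hPd, ← Subgroup.map_subtype_commutator]
    exact Subgroup.map_subtype_le _
  set Q : Subgroup G := L ⊓ Pd with hQ
  haveI := Fintype.ofFinite Q
  have hQP : Q ≤ (P : Subgroup G) := inf_le_right.trans hPdle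
  -- `L = N Q`
  have hdec : ∀ k ∈ L, ∃ n ∈ N, ∃ y ∈ Q, k = n * y := by
    intro k hk
    have hk' : k ∈ ((N : Set G) * (Pd : Set G)) := by
      rw [← Subgroup.normal_mul]
      exact hLle hk
    obtain ⟨n, hn, y, hy, rfl⟩ := hk'
    refine ⟨n, hn, y, ⟨?_, hy⟩, rfl⟩
    have := L.mul_mem (L.inv_mem ((le_sup_left : N ≤ L) hn)) hk
    simpa using this
  -- the sum over `L`
  have hQsum : (∑ y : Q, (χ : G → ℂ) y) ≠ 0 := by
    have h1 : classInner (fun y : Q => (χ : G → ℂ) y) 1 ≠ 0 := by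
      have e : (fun y : Q => (χ : G → ℂ) y) = 1 + (fun y : Q => r ⟨y, hQP y.2⟩) := funext fun y => by
        have := congrFun hsplit ⟨(y : G), hQP y.2⟩
        simpa [hlPd _ (hQP y.2) y.2.2] using this
      rw [e]
      refine classInner_ne_zero_of_le isCharacter_one
        (isCharacter_comp hr (Subgroup.inclusion hQP)) isIrrCharacter_one ?_
      rw [IsIrrCharacter.classInner_self isIrrCharacter_one]
      exact one_ne_zero
    intro e
    refine h1 ?_
    simp only [classInner, Pi.one_apply, map_one, mul_one, e, mul_zero]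
  haveI := Fintype.ofFinite N
  have hsumL : (∑ k : L, (χ : G → ℂ) k) = (Nat.card N : ℂ) * ∑ y : Q, (χ : G → ℂ) y := by
    have hbij : Function.Bijective (fun z : N × Q =>
        (⟨(z.1 : G) * z.2, L.mul_mem ((le_sup_left : N ≤ L) z.1.2) z.2.2.1⟩ : L)) := by
      refine ⟨fun a b e => ?_, fun k => ?_⟩
      · have e' : (a.1 : G) * a.2 = (b.1 : G) * b.2 := congrArg Subtype.val e
        have h3 : (b.1 : G)⁻¹ * a.1 = (b.2 : G) * (a.2 : G)⁻¹ := by
          rw [eq_mul_inv_iff_mul_eq, mul_assoc, e', inv_mul_cancel_left]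
        have h4 : (b.1 : G)⁻¹ * a.1 ∈ N ⊓ (P : Subgroup G) :=
          ⟨N.mul_mem (N.inv_mem b.1.2) a.1.2,
            h3 ▸ (P : Subgroup G).mul_mem (hQP b.2.2) ((P : Subgroup G).inv_mem (hQP a.2.2))⟩
        rw [inf_sylow_eq_bot P N hN, Subgroup.mem_bot] at h4
        rw [h4] at h3
        exact Prod.ext (Subtype.ext (inv_mul_eq_one.mp h4).symm)
          (Subtype.ext (mul_inv_eq_one.mp h3.symm).symm)
      · obtain ⟨n, hn, y, hy, e⟩ := hdec k k.2
        exact ⟨(⟨n, hn⟩, ⟨y, hy⟩), Subtype.ext e.symm⟩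
    rw [← Fintype.sum_bijective _ hbij (fun z : N × Q => (χ : G → ℂ) ((z.1 : G) * z.2))
      (fun k : L => (χ : G → ℂ) k) fun _ => rfl, Fintype.sum_prod_type]
    rw [Finset.sum_congr rfl fun (n : N) _ => Finset.sum_congr rfl fun (y : Q) _ =>
      PPrime.apply_mul_of_ker hc (hNker χ hχ n n.2) y, Finset.sum_const, nsmul_eq_mul,
      Finset.card_univ, ← Nat.card_eq_fintype_card]
  have hne : classInner (fun k : L => (χ : G → ℂ) k) 1 ≠ 0 := by
    simp only [classInner, Pi.one_apply, map_one, mul_one, hsumL]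
    refine mul_ne_zero ?_ (mul_ne_zero (Nat.cast_ne_zero.mpr Nat.card_pos.ne') hQsum)
    simp
  exact PPrime.eq_degree_of_classInner_one χ.2 hne ⟨g, (le_sup_right : K ≤ L) hg⟩

theorem exists_sylow_eq (P : Sylow p G) (R : Subgroup G) [R.Normal] :
    ∃ Q : Sylow p R, (Q : Subgroup R) ≤ (P : Subgroup G).subgroupOf R := by
  obtain ⟨Q, hQ⟩ := (P.2.comap_of_injective R.subtype R.subtype_injective).exists_le_sylow
  refine ⟨Q, ?_⟩
  obtain ⟨S, hS⟩ := (Q.2.map R.subtype).exists_le_sylow
  obtain ⟨t, ht⟩ := MulAction.exists_smul_eq G S P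
  have h1 : Nat.card (Q : Subgroup R) ≤ Nat.card ((P : Subgroup G).subgroupOf R) := by
    refine Nat.card_le_card_of_injective
      (fun q => ⟨MulAut.conjNormal t (q : R), ?_⟩) fun a b e => ?_
    · rw [Subgroup.mem_subgroupOf, MulAut.conjNormal_apply, ← ht, Sylow.coe_subgroup_smul]
      exact ⟨_, hS ⟨q, q.2, rfl⟩, rfl⟩
    · exact Subtype.ext ((MulAut.conjNormal t).injective (congrArg Subtype.val e))
  exact (Subgroup.eq_of_le_of_card_ge hQ h1).ge

theorem eq_one_of_extends (P : Sylow p G) (M : Subgroup G) [M.Normal] (hMp : ¬ p ∣ Nat.card M)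
    {θ : M → ℂ} (hθ : IsIrrCharacter M θ) (hinv : ∀ y ∈ (P : Subgroup G), conjChar M y θ = θ)
    (hker : ∀ χ : IrrCharacter G, ¬ p ∣ charDegree (χ : G → ℂ) →
      ∀ m : M, (χ : G → ℂ) m = (χ : G → ℂ) 1) : θ = 1 := by
  classical
  haveI := Fintype.ofFinite G
  haveI := Fintype.ofFinite M
  set H : Subgroup G := M ⊔ (P : Subgroup G) with hH
  haveI := Fintype.ofFinite H
  have hMH : M ≤ H := le_sup_left
  set e : M.subgroupOf H ≃* M := Subgroup.subgroupOfEquivOfLe hMH with he
  have hθ' : IsIrrCharacter (M.subgroupOf H) (fun n => θ (e n)) :=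
    isIrrCharacter_comp_mulEquiv e hθ
  have hle : H ≤ inertia M θ := sup_le (le_inertia M
    (IsCharacter.isClassFunction (IsIrrCharacter.isCharacter hθ))) fun y hy => hinv y hy
  have hinv' : ∀ g : H, conjChar (M.subgroupOf H) g (fun n => θ (e n)) = fun n => θ (e n) := by
    intro g
    funext n
    exact congrFun ((mem_inertia M).mp (hle g.2)) (e n)
  obtain ⟨d, -, hd⟩ := IsIrrCharacter.degree_pos hθ'
  have hidx : ∃ k, (M.subgroupOf H).index = p ^ k := by
    have h1 : M.relIndex (M ⊔ (P : Subgroup G)) = M.relIndex (P : Subgroup G) :=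
      (congrArg M.relIndex (sup_comm _ _)).trans (Subgroup.relIndex_sup_right _ _)
    obtain ⟨k, hk⟩ := IsPGroup.iff_card.mp P.2
    obtain ⟨i, -, hi⟩ := (Nat.dvd_prime_pow hp.out).mp
      (hk ▸ (Subgroup.index_dvd_card (M.subgroupOf (P : Subgroup G))))
    exact ⟨i, by rw [show (M.subgroupOf H).index = M.relIndex H from rfl, hH, h1]; exact hi⟩
  obtain ⟨k, hk⟩ := hidx
  have hcardM : Nat.card (M.subgroupOf H) = Nat.card M := Nat.card_congr e.toEquiv
  have hcop : Nat.Coprime (M.subgroupOf H).index (detOrder (fun n => θ (e n)) * d) := by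
    rw [hk]
    refine Nat.Coprime.pow_left k ((Nat.Prime.coprime_iff_not_dvd hp.out).mpr fun hdv => hMp ?_)
    rw [← hcardM]
    obtain ⟨l, hl⟩ := exists_detHom hθ'
    rcases (Nat.Prime.dvd_mul hp.out).mp hdv with h | h
    · refine h.trans ?_
      rw [detOrder, hl, orderOf_linearChar]
      refine orderOf_dvd_of_pow_eq_one (MonoidHom.ext fun n => ?_)
      rw [MonoidHom.pow_apply, ← map_pow, pow_card_eq_one', map_one, MonoidHom.one_apply]
    · exact h.trans (degree_dvd_card hθ' d hd)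
  obtain ⟨ψ, ⟨hψ, hψθ, -⟩, -⟩ := exists_unique_extension_coprime hθ' hinv' hd hcop
  have hψ1 : ψ 1 = d := by
    have := hψθ 1
    rwa [hd, OneMemClass.coe_one] at this
  have hHp : ¬ p ∣ H.index * d := by
    intro hdv
    rcases (Nat.Prime.dvd_mul hp.out).mp hdv with h | h
    · exact P.not_dvd_index (h.trans (Subgroup.index_dvd_of_le le_sup_right))
    · exact hMp (hcardM ▸ h.trans (degree_dvd_card hθ' d hd))
  obtain ⟨χ, hχ, hne, hnd⟩ := PPrime.exists_irr_not_dvd (p := p)
    (isCharacter_indFun H (IsIrrCharacter.isCharacter hψ)) (n := H.index * d)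
    (by rw [indFun_one_apply, hψ1, Nat.cast_mul]) hHp
  rw [classInner_indFun H _ (IsCharacter.isClassFunction (IsIrrCharacter.isCharacter hχ))] at hne
  have hne' : classInner (fun z : H => χ z) ψ ≠ 0 := by
    rw [← classInner_conj_symm]
    simpa using hne
  obtain ⟨r, hr, hsplit⟩ := exists_add_of_classInner_ne_zero
    (IsCharacter.restrict (IsIrrCharacter.isCharacter hχ) H) hψ hne'
  refine PPrime.linear_eq_one_of_constituent (d := χ 1) (hker ⟨χ, hχ⟩ hnd) hθ ?_
  have e2 : (fun m : M => χ m) = θ + (fun m : M => r (Subgroup.inclusion hMH m)) := funext fun m => by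
    have h := congrFun hsplit (Subgroup.inclusion hMH m)
    simp only [Pi.add_apply] at h ⊢
    rw [show χ (m : G) = _ from h]
    congr 1
    have h2 := hψθ (e.symm m)
    rw [MulEquiv.apply_symm_apply] at h2
    exact h2
  show classInner (fun m : M => χ m) θ ≠ 0
  rw [e2]
  refine classInner_ne_zero_of_le (IsIrrCharacter.isCharacter hθ)
    (isCharacter_comp hr (Subgroup.inclusion hMH)) hθ ?_
  rw [IsIrrCharacter.classInner_self hθ]
  exact one_ne_zero

theorem kerSubgroup_le (P : Sylow p G) (N : Subgroup G) [N.Normal]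
    (hN : N ⊓ Subgroup.centralizer ((P : Subgroup G) : Set G) = ⊥)
    (hmax : ∀ L : Subgroup G, L.Normal → L ⊓ Subgroup.centralizer ((P : Subgroup G) : Set G) = ⊥ → L ≤ N) :
    PPrime.kerSubgroup G p ≤ N ⊔ ⁅(P : Subgroup G), (P : Subgroup G)⁆ := by
  classical
  haveI := Fintype.ofFinite G
  set R := PPrime.kerSubgroup G p with hRdef
  haveI : R.Normal := PPrime.kerSubgroup_normal
  haveI := Fintype.ofFinite (P : Subgroup G)
  have hidx : ¬ p ∣ (P : Subgroup G).index := P.not_dvd_index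
  -- `R ∩ P ≤ P'`
  have hRP : ∀ y ∈ R, y ∈ (P : Subgroup G) → y ∈ ⁅(P : Subgroup G), (P : Subgroup G)⁆ := by
    intro y hy hyP
    rw [← Subgroup.map_subtype_commutator]
    refine ⟨⟨y, hyP⟩, ?_, rfl⟩
    have hall : ∀ l : (P : Subgroup G) →* ℂˣ, l ⟨y, hyP⟩ = 1 := by
      intro l
      set Q : Subgroup (P : Subgroup G) := R.subgroupOf (P : Subgroup G) with hQ
      haveI := Fintype.ofFinite Q
      have hl1 := isIrrCharacter_monoidHom l
      obtain ⟨χ, hχ, hne, hnd⟩ := PPrime.exists_irr_not_dvd (p := p)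
        (isCharacter_indFun (P : Subgroup G) (IsIrrCharacter.isCharacter hl1))
        (n := (P : Subgroup G).index) (by rw [indFun_one_apply]; simp) hidx
      rw [classInner_indFun (P : Subgroup G) _
        (IsCharacter.isClassFunction (IsIrrCharacter.isCharacter hχ))] at hne
      have hne' : classInner (fun z : (P : Subgroup G) => χ z) (fun z => (l z : ℂ)) ≠ 0 := by
        rw [← classInner_conj_symm]
        simpa using hne
      obtain ⟨r, hr, hsplit⟩ := exists_add_of_classInner_ne_zero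
        (IsCharacter.restrict (IsIrrCharacter.isCharacter hχ) (P : Subgroup G)) hl1 hne'
      have hQirr : IsIrrCharacter Q (fun z : Q => ((l.comp Q.subtype) z : ℂ)) :=
        isIrrCharacter_monoidHom _
      have h1 : classInner (fun z : Q => χ ((z : (P : Subgroup G)) : G))
          (fun z : Q => ((l.comp Q.subtype) z : ℂ)) ≠ 0 := by
        have e : (fun z : Q => χ ((z : (P : Subgroup G)) : G)) =
            (fun z : Q => ((l.comp Q.subtype) z : ℂ)) + (fun z : Q => r z) := funext fun z =>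
          congrFun hsplit (z : (P : Subgroup G))
        rw [e]
        refine classInner_ne_zero_of_le (IsIrrCharacter.isCharacter hQirr)
          (IsCharacter.restrict hr Q) hQirr ?_
        rw [IsIrrCharacter.classInner_self hQirr]
        exact one_ne_zero
      have := congrFun (PPrime.linear_eq_one_of_constituent
        (d := χ 1) (fun z : Q => z.2 ⟨χ, hχ⟩ hnd) hQirr h1) ⟨⟨y, hyP⟩, hy⟩
      exact Units.ext this
    by_contra hnc
    have hne : (Abelianization.of (⟨y, hyP⟩ : (P : Subgroup G))) ≠ 1 := fun e =>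
      hnc ((QuotientGroup.eq_one_iff _).mp e)
    obtain ⟨φ, hφ⟩ := CommGroup.exists_apply_ne_one_of_hasEnoughRootsOfUnity
      (Abelianization (P : Subgroup G)) ℂ hne
    exact hφ (hall (φ.comp Abelianization.of))
  -- Tate
  haveI : Group.IsNilpotent (P : Subgroup G) := IsPGroup.isNilpotent P.2
  have hfr : R ⊓ (P : Subgroup G) ≤ (frattini (P : Subgroup G)).map (P : Subgroup G).subtype := by
    intro y hy
    have := hRP y hy.1 hy.2
    rw [← Subgroup.map_subtype_commutator] at this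
    exact Subgroup.map_mono Solv.commutator_le_frattini this
  have hnpc := Solv.hasNormalPComplement_of_le_frattini P R hfr
  obtain ⟨Q₀, hQ₀⟩ := exists_sylow_eq P R
  have hcompl := Solv.isComplement'_pPrimeCore hnpc Q₀
  haveI := Solv.pPrimeCore_characteristic p R
  set M : Subgroup G := (pPrimeCore p R).map R.subtype with hM
  haveI : M.Normal := inferInstance
  have hMp : ¬ p ∣ Nat.card M := by
    rw [hM, Subgroup.card_map_of_injective R.subtype_injective]
    exact (Nat.Prime.coprime_iff_not_dvd hp.out).mp (Solv.card_pPrimeCore_coprime p R).symm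
  have hMR : M ≤ R := Subgroup.map_subtype_le _
  have hMN : M ≤ N := by
    refine hmax M inferInstance (PPrime.inf_centralizer_eq_bot P.2 fun θ hθ hinv => ?_)
    exact eq_one_of_extends P M hMp hθ hinv fun χ hχ m => hMR m.2 χ hχ
  -- `R = M (R ∩ P)`
  intro x hx
  obtain ⟨x₀, hx₀⟩ : ∃ z, R.subtype z = x := ⟨⟨x, hx⟩, rfl⟩
  have hmem : x₀ ∈ ((pPrimeCore p R : Subgroup R) : Set R) * ((Q₀ : Subgroup R) : Set R) := by
    rw [hcompl.mul_eq]; trivial
  obtain ⟨a, ha, b, hb, rfl⟩ := hmem
  rw [← hx₀, map_mul]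
  refine Subgroup.mul_mem _ ((le_sup_left : N ≤ _) (hMN ⟨a, ha, rfl⟩)) ?_
  refine (le_sup_right : _ ≤ N ⊔ ⁅(P : Subgroup G), (P : Subgroup G)⁆) (hRP _ b.2 ?_)
  exact hQ₀ hb

/-- Let G be a finite group, p a prime and P a Sylow p-subgroup, and let N be the largest normal subgroup of G in which P has trivial centralizer (N is normal with C_N(P) = 1 and contains every normal subgroup with that property). Then the intersection of the kernels of the irreducible characters of G of degree prime to p is the normal core in G of the subgroup N·P' (P' the derived subgroup of P). In particular, when G has no nontrivial normal subgroup of order prime to p, that intersection is the normal core of P'. -/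
theorem result {G : Type*} [Group G] [Finite G] (p : ℕ) [Fact p.Prime] (P : Sylow p G) (N : Subgroup G) [N.Normal]
    (hN : N ⊓ Subgroup.centralizer ((P : Subgroup G) : Set G) = ⊥)
    (hmax : ∀ L : Subgroup G, L.Normal → L ⊓ Subgroup.centralizer ((P : Subgroup G) : Set G) = ⊥ → L ≤ N) :
    {g : G | ∀ χ : Cfsg.IrrCharacter G, ¬ p ∣ Cfsg.charDegree (χ : G → ℂ) → (χ : G → ℂ) g = (χ : G → ℂ) 1} =
      ((N ⊔ ⁅(P : Subgroup G), (P : Subgroup G)⁆).normalCore : Set G) := by
  classical
  haveI := Fintype.ofFinite G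
  set Pd : Subgroup G := ⁅(P : Subgroup G), (P : Subgroup G)⁆ with hPd
  have hP : IsPGroup p (P : Subgroup G) := P.2
  have hPdle : Pd ≤ (P : Subgroup G) :=
    Subgroup.commutator_le.mpr fun a ha b hb => by
      rw [commutatorElement_def]
      exact (P : Subgroup G).mul_mem ((P : Subgroup G).mul_mem ((P : Subgroup G).mul_mem ha hb)
        ((P : Subgroup G).inv_mem ha)) ((P : Subgroup G).inv_mem hb)
  have hNP : N ⊓ (P : Subgroup G) = ⊥ := inf_sylow_eq_bot P N hN
  have hNp : ¬ p ∣ Nat.card N := not_dvd_card P N hNP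
  have hNker : ∀ χ : IrrCharacter G, ¬ p ∣ charDegree (χ : G → ℂ) →
      ∀ n ∈ N, (χ : G → ℂ) n = (χ : G → ℂ) 1 := fun χ hχ n hn =>
    apply_eq_of_mem P N hN hNp χ hχ n hn
  ext g
  constructor
  · intro hg
    haveI := Char.PPrime.kerSubgroup_normal (G := G) (p := p)
    have hle : Char.PPrime.kerSubgroup G p ≤ N ⊔ Pd :=
      kerSubgroup_le P N hN hmax
    exact Subgroup.normal_le_normalCore.mpr hle hg
  · intro hg χ hχ
    haveI : (N ⊔ Pd).normalCore.Normal := Subgroup.normalCore_normal _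
    exact core_le P N hN hNp hNker _ (Subgroup.normalCore_le _) χ hχ g hg

end Cfsg.Agent.S4591
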