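import Cfsg.Statements.S4602
import Cfsg.Agent.Lib.Solv.PSolvable
import Cfsg.Agent.Lib.Solv.Coprime
import Cfsg.Agent.Lib.Solv.Basic

set_option autoImplicit false
open Cfsg

namespace Cfsg.Agent.S4602

open Cfsg.Agent.Solv

/-- Let G be a finite p-solvable group and q a prime different from p. Some Sylow p-subgroup of G normalizes some Sylow q-subgroup of G if and only if q does not divide the order of G/O_{p'}(G), the quotient by the largest normal subgroup of order prime to p. -/
theorem result {G : Type*} [Group G] [Finite G] (p q : ℕ) [Fact p.Prime] [Fact q.Prime] (hpq : p ≠ q) (hsolv : Cfsg.IsPSolvable p G) :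
    (∃ (P : Sylow p G) (Q : Sylow q G), (P : Subgroup G) ≤ Subgroup.normalizer ((Q : Subgroup G) : Set G)) ↔ ¬ q ∣ (Cfsg.pPrimeCore p G).index := by
  classical
  have hp : p.Prime := Fact.out
  have hq : q.Prime := Fact.out
  set K := pPrimeCore p G with hK
  haveI hKn : K.Normal := by
    rw [hK]
    infer_instance
  constructor
  · rintro ⟨P, Q, hPQ⟩
    haveI : Fact (Nat.Prime p) := ⟨hp⟩
    let π := QuotientGroup.mk' K
    have hO := centralizer_pCore_le_of_isPSolvable (isPSolvable_quotient hsolv K) (pPrimeCore_quotient_pPrimeCore p)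
    let P' : Sylow p (G ⧸ K) := P.mapSurjective (QuotientGroup.mk'_surjective K)
    have hOP : pCore p (G ⧸ K) ≤ (P : Subgroup G).map π := pCore_le_sylow P'
    have hQg : IsPGroup q ((Q : Subgroup G).map π) := Q.isPGroup'.map π
    have hdisj : Disjoint (pCore p (G ⧸ K)) ((Q : Subgroup G).map π) :=
      IsPGroup.disjoint_of_ne q p (Ne.symm hpq) _ _ hQg (isPGroup_pCore p _) |>.symm
    have hcen : (Q : Subgroup G).map π ≤ Subgroup.centralizer (pCore p (G ⧸ K) : Set (G ⧸ K)) := by
      rintro b ⟨y, hy, rfl⟩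
      refine Subgroup.mem_centralizer_iff.2 fun a ha => ?_
      obtain ⟨x, hx, rfl⟩ := hOP ha
      have h1 : π x * π y * (π x)⁻¹ * (π y)⁻¹ ∈ pCore p (G ⧸ K) := by
        have e : π x * π y * (π x)⁻¹ * (π y)⁻¹ = π x * (π y * (π x)⁻¹ * (π y)⁻¹) := by group
        rw [e]
        exact mul_mem ha ((pCore_normal p (G ⧸ K)).conj_mem _ (inv_mem ha) _)
      have h2 : π x * π y * (π x)⁻¹ * (π y)⁻¹ ∈ (Q : Subgroup G).map π := by
        refine ⟨x * y * x⁻¹ * y⁻¹, mul_mem ((Subgroup.mem_normalizer_iff.1 (hPQ hx) y).1 hy) (inv_mem hy), by simp⟩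
      have h3 := Subgroup.disjoint_def.1 hdisj h1 h2
      rwa [mul_inv_eq_one, mul_inv_eq_iff_eq_mul] at h3
    have hbot : (Q : Subgroup G).map π = ⊥ := disjoint_self.1 (hdisj.mono_left (hcen.trans hO))
    have hQK : (Q : Subgroup G) ≤ K := by
      intro x hx
      have : π x ∈ (Q : Subgroup G).map π := Subgroup.mem_map_of_mem π hx
      rw [hbot, Subgroup.mem_bot] at this
      exact (QuotientGroup.eq_one_iff x).1 this
    exact fun hd => Q.not_dvd_index (hd.trans (Subgroup.index_dvd_of_le hQK))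
  · intro hq'
    obtain ⟨P⟩ : Nonempty (Sylow p G) := inferInstance
    have hcop : (Nat.card (P : Subgroup G)).Coprime (Nat.card K) := by
      obtain ⟨n, hn⟩ := IsPGroup.iff_card.1 P.isPGroup'
      rw [hn]
      exact (card_pPrimeCore_coprime p G).symm.pow_left n
    haveI : Group.IsNilpotent (P : Subgroup G) := P.isPGroup'.isNilpotent
    obtain ⟨R, hR⟩ := exists_invariant_sylow (P : Subgroup G) K
      (fun x _ => by rw [Subgroup.normalizer_eq_top]; trivial) hcop (Or.inl inferInstance) q
    have hRg : IsPGroup q ((R : Subgroup K).map K.subtype) := R.isPGroup'.map _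
    have hRi : ¬ q ∣ ((R : Subgroup K).map K.subtype).index := by
      rw [Subgroup.index_map_subtype]
      exact fun h => (hq.dvd_mul.1 h).elim R.not_dvd_index hq'
    exact ⟨P, hRg.toSylow hRi, hR⟩

end Cfsg.Agent.S4602
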