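import Cfsg.Statements.S4604
import Cfsg.Agent.Lib.Block.PowCongr
import Cfsg.Agent.Lib.Block.Basic
import Cfsg.Agent.Lib.Block.RegInner
import Cfsg.Agent.Lib.Char.PRegular

set_option autoImplicit false
open Cfsg

namespace Cfsg.Agent.S4604

open Cfsg.Agent.Block Cfsg.Agent.Char

/-- Let G be a finite group, p a prime and p^a the p-part of the order of G. Let x, y ∈ G and let x′, y′ be their p-regular parts: x′ has order prime to p, commutes with x·x′⁻¹, and x·x′⁻¹ has p-power order (likewise for y). Then x′ and y′ are conjugate in G if and only if for every irreducible character χ of G the algebraic integer χ(x)^(p^a) − χ(y)^(p^a) is p times an algebraic integer. -/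
theorem result {G : Type*} [Group G] [Finite G] (p : ℕ) [Fact p.Prime] (x y x' y' : G)
    (hx : (∃ k : ℕ, orderOf (x * x'⁻¹) = p ^ k) ∧ Commute (x * x'⁻¹) x' ∧ ¬ p ∣ orderOf x')
    (hy : (∃ k : ℕ, orderOf (y * y'⁻¹) = p ^ k) ∧ Commute (y * y'⁻¹) y' ∧ ¬ p ∣ orderOf y') :
    IsConj x' y' ↔ ∀ χ : Cfsg.IrrCharacter G, ∃ γ : Cfsg.AlgInt,
      (χ : G → ℂ) x ^ (p ^ (Nat.card G).factorization p) - (χ : G → ℂ) y ^ (p ^ (Nat.card G).factorization p) = (p : ℂ) * (γ : ℂ) := by
  obtain ⟨M, hM⟩ := exists_isPModular (Fact.out : p.Prime)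
  haveI := prime_of_isPModular hM
  classical
  have hp : p.Prime := Fact.out
  set a := (Nat.card G).factorization p with ha
  have hpow : ∀ (u u' : G), ((∃ k : ℕ, orderOf (u * u'⁻¹) = p ^ k) ∧ Commute (u * u'⁻¹) u' ∧ ¬ p ∣ orderOf u') → u ^ p ^ a = u' ^ p ^ a := by
    rintro u u' ⟨⟨k, hk⟩, hc, -⟩
    have hka : k ≤ a := (hp.pow_dvd_iff_le_factorization Nat.card_pos.ne').1 (hk ▸ orderOf_dvd_natCard _)
    conv_lhs => rw [show u = (u * u'⁻¹) * u' by group]
    rw [hc.mul_pow, orderOf_dvd_iff_pow_eq_one.1 (hk ▸ Nat.pow_dvd_pow p hka), one_mul]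
  have hI := natCast_mem_span_iff hM
  have hpart : ∀ (u u' : G), ((∃ k : ℕ, orderOf (u * u'⁻¹) = p ^ k) ∧ Commute (u * u'⁻¹) u' ∧ ¬ p ∣ orderOf u') → IsPPart p u (u * u'⁻¹) :=
    fun u u' h => ⟨u', by group, h.2.1, h.1, h.2.2⟩
  have hrw : ∀ u u' : G, (u * u'⁻¹)⁻¹ * u = u' := fun u u' => by group
  constructor
  · intro hc χ
    have hχ := IsIrrCharacter.isCharacter χ.2
    obtain ⟨u, b, hu, hb, hub⟩ := exists_apply_pow_congr_ideal hp hI hχ x a
    obtain ⟨v, b', hv, hb', hvb⟩ := exists_apply_pow_congr_ideal hp hI hχ y a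
    obtain rfl : b = b' := Subtype.ext (by
      rw [hb, hb', hpow x x' hx, hpow y y' hy]
      obtain ⟨c, hc⟩ := isConj_iff.1 hc
      exact IsIrrCharacter.apply_isConj χ.2 (isConj_iff.2 ⟨c, by rw [← conj_pow, hc]⟩))
    have h := sub_mem hub hvb
    rw [sub_sub_sub_cancel_right] at h
    obtain ⟨γ, hγ⟩ := Ideal.mem_span_singleton'.1 h
    refine ⟨γ, ?_⟩
    rw [← hu, ← hv, mul_comm (p : ℂ)]
    exact (congrArg Subtype.val hγ).symm
  · intro h
    have key : ∀ χ : IrrCharacter G, MemLocalIdeal M ((χ : G → ℂ) x - (χ : G → ℂ) y) := by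
      intro χ
      have hχ := IsIrrCharacter.isCharacter χ.2
      obtain ⟨γ, hγ⟩ := h χ
      let u : AlgInt := ⟨(χ : G → ℂ) x, IsCharacter.isIntegral hχ x⟩
      let v : AlgInt := ⟨(χ : G → ℂ) y, IsCharacter.isIntegral hχ y⟩
      have h1 : u ^ p ^ a - v ^ p ^ a = (p : AlgInt) * γ := Subtype.ext hγ
      have h2 : u - v ∈ M := by
        haveI := hM.2.1
        haveI := Fact.mk hp
        haveI : CharP (AlgInt ⧸ M) p := ⟨fun z => by
          rw [← map_natCast (Ideal.Quotient.mk M), Ideal.Quotient.eq_zero_iff_mem]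
          exact natCast_mem_iff hp hM.2.2 z⟩
        have h3 : Ideal.Quotient.mk M (u ^ p ^ a - v ^ p ^ a) = 0 :=
          Ideal.Quotient.eq_zero_iff_mem.2 (h1 ▸ Ideal.mul_mem_right _ _ hM.2.2)
        rw [← Ideal.Quotient.eq_zero_iff_mem]
        refine eq_zero_of_pow_eq_zero (n := p ^ a) ?_
        rw [map_sub, sub_pow_char_pow, ← map_pow, ← map_pow, ← map_sub]
        exact h3
      exact (memLocalIdeal_algInt_iff (u - v)).2 h2
    have := (isConj_regular_iff_congr hM (hpart x x' hx) (hpart y y' hy)).2 key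
    rwa [hrw, hrw] at this

end Cfsg.Agent.S4604
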