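import Cfsg.Statements.S4611
import Cfsg.Agent.Lib.Block.SolvablePrincipal
import Cfsg.Agent.Lib.Solv.PSolvable

set_option autoImplicit false
open Cfsg

namespace Cfsg.Agent.S4611

open Cfsg.Agent.Block Cfsg.Agent.Char

/-- Let G be a finite solvable group and π a nonempty set of primes, each dividing the order of G; fix for each p in π a maximal ideal M p of the algebraic integers containing p. Then the only irreducible character lying in the principal p-block for every p in π is the principal character if and only if G is generated by the subgroups O_{p'}(G), p in π (the largest normal subgroups of order prime to p). -/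
theorem result {G : Type*} [Group G] [Finite G] [Group.IsSolvable G] (π : Set ℕ) (hπ : ∀ p ∈ π, p.Prime ∧ p ∣ Nat.card G) (hne : π.Nonempty) (M : ℕ → Ideal Cfsg.AlgInt) (hM : ∀ p ∈ π, Cfsg.IsPModular p (M p)) :
    (∀ χ : Cfsg.IrrCharacter G, (∀ p ∈ π, χ ∈ Cfsg.principalBlock (M p) G) → (χ : G → ℂ) = fun _ => 1) ↔
      ⨆ p ∈ π, Cfsg.pPrimeCore p G = ⊤ := by
  haveI := Fintype.ofFinite G
  haveI hn : ∀ p, (pPrimeCore p G).Normal := fun p => by
    haveI := Cfsg.Agent.Solv.pPrimeCore_characteristic p G
    infer_instance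
  set K := ⨆ p ∈ π, pPrimeCore p G with hK
  haveI hKn : K.Normal := by
    rw [hK, iSup_subtype', ← sSup_range]
    exact Subgroup.sSup_normal _ (by rintro _ ⟨i, rfl⟩; exact hn i)
  have hmem : ∀ p ∈ π, ∀ χ : IrrCharacter G, χ ∈ principalBlock (M p) G ↔
      ∀ n ∈ pPrimeCore p G, (χ : G → ℂ) n = (χ : G → ℂ) 1 := fun p hp χ => by
    haveI := Fact.mk (hπ p hp).1
    exact mem_principal_iff_of_isPSolvable (hM p hp) (Cfsg.Agent.Solv.isPSolvable_of_isSolvable) χ
  constructor
  · intro h
    by_contra hne
    haveI : Nontrivial (G ⧸ K) := by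
      by_contra hn'
      rw [not_nontrivial_iff_subsingleton] at hn'
      refine hne ?_
      rw [← QuotientGroup.ker_mk' K, MonoidHom.ker_eq_top_iff]
      exact MonoidHom.ext fun x => Subsingleton.elim _ _
    obtain ⟨φ, hφ⟩ : ∃ φ : IrrCharacter (G ⧸ K), (φ : G ⧸ K → ℂ) ≠ fun _ => 1 := by
      by_contra hn'
      push Not at hn'
      obtain ⟨x, hx⟩ := exists_ne (1 : G ⧸ K)
      exact hx (isConj_one_left.mp ((isConj_iff_irr x 1).mpr fun χ => by simp [hn' χ]))
    have h1 := h (inflate K φ) fun p hp => (hmem p hp _).2 fun n hn' => by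
      have : n ∈ K := le_biSup (fun p => pPrimeCore p G) hp hn'
      simp only [inflate_apply, (QuotientGroup.eq_one_iff n).2 this, QuotientGroup.mk_one]
    refine hφ (funext fun q => ?_)
    obtain ⟨g, rfl⟩ := QuotientGroup.mk_surjective q
    exact congrFun h1 g
  · intro h χ hχ
    have hc := IsIrrCharacter.isCharacter χ.2
    let L : Subgroup G :=
      { carrier := {x | (χ : G → ℂ) x = (χ : G → ℂ) 1}
        one_mem' := rfl
        mul_mem' := fun {a b} ha hb => ((IsCharacter.apply_mul_of_eq_one hc ha b).1).trans hb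
        inv_mem' := fun {a} ha => by
          have := (IsCharacter.apply_mul_of_eq_one hc ha a⁻¹).1
          rw [mul_inv_cancel] at this
          exact this.symm }
    have hL : K ≤ L := iSup₂_le fun p hp n hn' => (hmem p hp χ).1 (hχ p hp) n hn'
    have hall : ∀ x, (χ : G → ℂ) x = (χ : G → ℂ) 1 := fun x => hL (by rw [h]; trivial)
    by_contra hne
    let one : IrrCharacter G := ⟨fun _ => 1, isIrrCharacter_one⟩
    have h0 : classInner (χ : G → ℂ) (one : G → ℂ) = 0 := IsIrrCharacter.classInner_eq_zero χ.2 one.2 hne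
    have h1 : classInner (χ : G → ℂ) (one : G → ℂ) = (χ : G → ℂ) 1 := by
      simp only [classInner, one, map_one, mul_one, hall, Finset.sum_const, Finset.card_univ,
        nsmul_eq_mul, ← Nat.card_eq_fintype_card]
      rw [← mul_assoc, inv_mul_cancel₀ (Nat.cast_ne_zero.mpr Nat.card_pos.ne'), one_mul]
    exact IsIrrCharacter.apply_one_ne_zero χ.2 (h1 ▸ h0)

end Cfsg.Agent.S4611
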