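import Cfsg.Statements.S4626
import Cfsg.Agent.Lib.Block.CentralQuotientBlock

set_option autoImplicit false
open Cfsg

namespace Cfsg.Agent.S4626

open Cfsg.Agent.Block Cfsg.Agent.Char

/-- Let G be a finite group, p a prime, M a maximal ideal of the algebraic integers containing p, P a Sylow p-subgroup of G and N a normal subgroup of index prime to p containing the centralizer C_G(P). Then every irreducible character of G whose kernel contains N lies in the principal p-block of G. -/
theorem result {G : Type*} [Group G] [Finite G] (p : ℕ) [Fact p.Prime] (M : Ideal Cfsg.AlgInt) (hM : Cfsg.IsPModular p M) (P : Sylow p G) (N : Subgroup G) [N.Normal] (hidx : ¬ p ∣ N.index)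
    (hC : Subgroup.centralizer ((P : Subgroup G) : Set G) ≤ N) (χ : Cfsg.IrrCharacter G) (hker : ∀ n ∈ N, (χ : G → ℂ) n = (χ : G → ℂ) 1) :
    χ ∈ Cfsg.principalBlock M G := by
  haveI := prime_of_isPModular hM
  classical
  have hp : p.Prime := Fact.out
  obtain ⟨φ, hφ⟩ := exists_factor_quotient N χ fun g hg y =>
    (IsCharacter.apply_mul_of_eq_one (IsIrrCharacter.isCharacter χ.2) (hker g hg) y).1
  have hdeg : ¬ p ∣ charDegree (χ : G → ℂ) := fun hd => hidx (hd.trans (by
    have he : charDegree (χ : G → ℂ) = charDegree (φ : G ⧸ N → ℂ) := by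
      apply Nat.cast_injective (R := ℂ)
      rw [charDegree_cast (IsIrrCharacter.isCharacter χ.2), charDegree_cast (IsIrrCharacter.isCharacter φ.2), ← hφ 1]
      rfl
    rw [he, Subgroup.index_eq_card]
    exact charDegree_dvd_card φ.2))
  intro g
  simp only [centralChar]
  set C := Subgroup.centralizer ({g} : Set G) with hC'
  by_cases hi : p ∣ C.index
  · have e : (C.index : ℂ) * 1 / 1 - (C.index : ℂ) * (χ : G → ℂ) g / (χ : G → ℂ) 1 = (C.index : ℂ) * (1 - (χ : G → ℂ) g * (charDegree (χ : G → ℂ) : ℂ)⁻¹) := by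
      rw [charDegree_cast (IsIrrCharacter.isCharacter χ.2)]; ring
    rw [e]
    exact memLocalIdeal_mul_right (sub_mem (one_mem _) (mul_mem (irr_mem_locRing χ g) (inv_natCast_mem_locRing hM.1 hM.2.2 hdeg))) ((memLocalIdeal_natCast_iff hp hM.2.2 _).2 hi)
  · obtain ⟨R⟩ := Sylow.nonempty (p := p) (G := C)
    have hR : (Nat.card ↥((R : Subgroup C).map C.subtype)) = p ^ (Nat.card G).factorization p := by
      rw [Nat.card_congr (Subgroup.equivMapOfInjective (R : Subgroup C) _ C.subtype_injective).symm.toEquiv, R.card_eq_multiplicity]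
      congr 1
      rw [← C.card_mul_index, Nat.factorization_mul Nat.card_pos.ne' Subgroup.index_ne_zero_of_finite, Finsupp.add_apply, Nat.factorization_eq_zero_of_not_dvd hi, Nat.add_zero]
    obtain ⟨Q, hQ⟩ : ∃ Q : Sylow p G, (Q : Subgroup G) = (R : Subgroup C).map C.subtype :=
      ⟨Sylow.ofCard _ hR, Sylow.coe_ofCard _ hR⟩
    obtain ⟨x, hx⟩ := MulAction.exists_smul_eq G P Q
    have hgN : g ∈ N := by
      have h1 : x⁻¹ * g * x ∈ Subgroup.centralizer ((P : Subgroup G) : Set G) := by
        rw [Subgroup.mem_centralizer_iff]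
        intro y hy
        have hm : x * y * x⁻¹ ∈ (R : Subgroup C).map C.subtype := by
          rw [← hQ, ← hx, Sylow.coe_subgroup_smul]
          exact Subgroup.smul_mem_pointwise_smul y _ _ hy
        obtain ⟨z, -, hz⟩ := hm
        have hzc := Subgroup.mem_centralizer_singleton_iff.1 z.2
        rw [Subgroup.coe_subtype] at hz
        rw [hz] at hzc
        calc y * (x⁻¹ * g * x) = x⁻¹ * ((x * y * x⁻¹) * g) * x := by group
          _ = x⁻¹ * (g * (x * y * x⁻¹)) * x := by rw [hzc]
          _ = x⁻¹ * g * x * y := by group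
      have h2 := (inferInstance : N.Normal).conj_mem _ (hC h1) x
      simpa [mul_assoc] using h2
    rw [hker g hgN, mul_div_cancel_right₀ _ (IsIrrCharacter.apply_one_ne_zero χ.2)]
    simpa using memLocalIdeal_zero (M := M)

end Cfsg.Agent.S4626
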