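import Cfsg.Statements.S4627
import Cfsg.Agent.Lib.Classical.SylowAbelGL

set_option autoImplicit false
open Cfsg

namespace Cfsg.Agent.S4627

/-- Let F be a finite field of odd order q and m ≥ 1. If 4 divides q + 1, or if 4 divides q − 1 and m is a power of 2, then a Sylow 2-subgroup P of SL_{2m}(F) has P/P' elementary abelian: the square of every element of P lies in the derived subgroup of P. -/
theorem result {F : Type*} [Field F] [Fintype F] (hF : Odd (Fintype.card F)) (m : ℕ) (hm : 1 ≤ m)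
    (hq : 4 ∣ Fintype.card F + 1 ∨ (4 ∣ Fintype.card F - 1 ∧ ∃ j : ℕ, m = 2 ^ j)) (P : Sylow 2 (Matrix.SpecialLinearGroup (Fin (2 * m)) F)) :
    ∀ x : (P : Subgroup (Matrix.SpecialLinearGroup (Fin (2 * m)) F)), x ^ 2 ∈ commutator (P : Subgroup (Matrix.SpecialLinearGroup (Fin (2 * m)) F)) := by
  classical
  obtain ⟨H, hH, -, h3⟩ := SylowAbelGL.model hF m
  obtain ⟨hc, hsq⟩ := h3 hm (hq.imp id And.right)
  let e : Fin 2 × Fin m ≃ Fin (2 * m) := finProdFinEquiv
  let j : Matrix.SpecialLinearGroup (Fin 2 × Fin m) F →* Matrix.SpecialLinearGroup (Fin (2 * m)) F :=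
    MonoidHom.mk' (fun g => ⟨Matrix.reindex e e (g : Matrix (Fin 2 × Fin m) (Fin 2 × Fin m) F), by
      rw [Matrix.det_reindex_self]; exact g.2⟩) fun g h => Subtype.ext (by
        show Matrix.reindex e e ((g : Matrix (Fin 2 × Fin m) (Fin 2 × Fin m) F) * (h : Matrix (Fin 2 × Fin m) (Fin 2 × Fin m) F)) =
          Matrix.reindex e e (g : Matrix (Fin 2 × Fin m) (Fin 2 × Fin m) F) *
            Matrix.reindex e e (h : Matrix (Fin 2 × Fin m) (Fin 2 × Fin m) F)
        simp only [Matrix.reindex_apply]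
        exact (Matrix.submatrix_mul_equiv _ _ _ _ _).symm)
  have hj : Function.Injective j := fun a b h => Subtype.ext ((Matrix.reindex e e).injective (congrArg Subtype.val h))
  haveI : Nonempty (Fin (2 * m)) := ⟨⟨0, by omega⟩⟩
  haveI : Fact (Nat.Prime 2) := ⟨Nat.prime_two⟩
  refine SylowAbelGL.transfer_hom j hj ?_ hsq P
  have hq1 : 1 < Fintype.card F := Fintype.one_lt_card
  rw [hH, Cfsg.Agent.Classical.card_GL_eq_mul_card_SL, padicValNat.mul (by omega) Nat.card_pos.ne', pow_add,
    mul_comm (2 ^ padicValNat 2 (Fintype.card F - 1))] at hc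
  exact Nat.eq_of_mul_eq_mul_right (Nat.two_pow_pos _) hc

end Cfsg.Agent.S4627
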