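import Cfsg.Statements.S4628
import Cfsg.Agent.Lib.Classical.SylowAbelGL

set_option autoImplicit false
open Cfsg

namespace Cfsg.Agent.S4628

/-- Let F be a finite field of odd order q with 4 dividing q + 1, and m ≥ 1. Then a Sylow 2-subgroup P of SL_{2m+1}(F) has P/P' elementary abelian: the square of every element of P lies in the derived subgroup of P. -/
theorem result {F : Type*} [Field F] [Fintype F] (hF : Odd (Fintype.card F)) (hq : 4 ∣ Fintype.card F + 1) (m : ℕ) (hm : 1 ≤ m) (P : Sylow 2 (Matrix.SpecialLinearGroup (Fin (2 * m + 1)) F)) :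
    ∀ x : (P : Subgroup (Matrix.SpecialLinearGroup (Fin (2 * m + 1)) F)), x ^ 2 ∈ commutator (P : Subgroup (Matrix.SpecialLinearGroup (Fin (2 * m + 1)) F)) := by
  classical
  obtain ⟨H, hH, h1, -⟩ := SylowAbelGL.model hF m
  let e : (Fin 2 × Fin m) ⊕ Fin 1 ≃ Fin (2 * m + 1) :=
    (finProdFinEquiv.sumCongr (Equiv.refl (Fin 1))).trans finSumFinEquiv
  let M : Matrix.GeneralLinearGroup (Fin 2 × Fin m) F → Matrix ((Fin 2 × Fin m) ⊕ Fin 1) ((Fin 2 × Fin m) ⊕ Fin 1) F :=
    fun g => Matrix.fromBlocks (g : Matrix (Fin 2 × Fin m) (Fin 2 × Fin m) F) 0 0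
      (Matrix.diagonal fun _ => (((Matrix.GeneralLinearGroup.det g)⁻¹ : Fˣ) : F))
  have hdet : ∀ g, (Matrix.reindex e e (M g)).det = 1 := fun g => by
    rw [Matrix.det_reindex_self, Matrix.det_fromBlocks_zero₂₁, Matrix.det_diagonal, Fin.prod_univ_one,
      ← Matrix.GeneralLinearGroup.val_det_apply]
    exact Units.mul_inv _
  have hmul : ∀ g h, M (g * h) = M g * M h := fun g h => by
    simp only [M, Matrix.fromBlocks_multiply, Matrix.mul_zero, Matrix.zero_mul, add_zero, zero_add,
      Matrix.diagonal_mul_diagonal, map_mul, _root_.mul_inv_rev, Units.val_mul]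
    simp [mul_comm]
  let j : Matrix.GeneralLinearGroup (Fin 2 × Fin m) F →* Matrix.SpecialLinearGroup (Fin (2 * m + 1)) F :=
    MonoidHom.mk' (fun g => ⟨Matrix.reindex e e (M g), hdet g⟩) fun g h => Subtype.ext (by
      show Matrix.reindex e e (M (g * h)) = Matrix.reindex e e (M g) * Matrix.reindex e e (M h)
      rw [hmul]
      simp only [Matrix.reindex_apply]
      exact (Matrix.submatrix_mul_equiv _ _ _ _ _).symm)
  have hj : Function.Injective j := fun a b h => by
    have h2 : M a = M b := (Matrix.reindex e e).injective (congrArg Subtype.val h)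
    exact Units.ext (Matrix.fromBlocks_inj.1 h2).1
  haveI : Fact (Nat.Prime 2) := ⟨Nat.prime_two⟩
  haveI : Nonempty (Fin (2 * m + 1)) := ⟨0⟩
  refine SylowAbelGL.transfer_hom j hj ?_ (h1 hq) P
  have hq1 : 1 < Fintype.card F := Fintype.one_lt_card
  have hv : padicValNat 2 (Nat.card (Matrix.GeneralLinearGroup (Fin (2 * m + 1)) F)) =
      padicValNat 2 (Nat.card (Matrix.GeneralLinearGroup (Fin (2 * m)) F)) + padicValNat 2 (Fintype.card F - 1) := by
    rw [SylowAbelGL.v_GL hF, SylowAbelGL.v_GL hF, Finset.sum_range_succ, SylowAbelGL.v_odd hq1 hF]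
  rw [Cfsg.Agent.Classical.card_GL_eq_mul_card_SL, padicValNat.mul (by omega) Nat.card_pos.ne'] at hv
  rw [hH]
  congr 1
  omega

end Cfsg.Agent.S4628
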