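import Cfsg.Statements.S4636
import Cfsg.Agent.Lib.Solv.Basic

set_option autoImplicit false
open scoped Pointwise
open Cfsg
open scoped Pointwise

namespace Cfsg.Agent.S4636



/-- Let P be a nontrivial cyclic p-subgroup of the finite group G and Z its subgroup of order p. For every x outside N_G(Z), P meets its conjugate xPx⁻¹ trivially; consequently N_G(Q) ≤ N_G(Z) for every nontrivial subgroup Q of P. -/
theorem result {G : Type*} [Group G] [Finite G] (p : ℕ) [Fact p.Prime] (P : Subgroup G) (hP : IsPGroup p P) (hP1 : P ≠ ⊥) (hcyc : IsCyclic P) (Z : Subgroup G) (hZ : Z ≤ P) (hZcard : Nat.card Z = p) : (∀ x : G, x ∉ Subgroup.normalizer (Z : Set G) → P ⊓ MulAut.conj x • P = ⊥) ∧ ∀ Q : Subgroup G, Q ≤ P → Q ≠ ⊥ → Subgroup.normalizer (Q : Set G) ≤ Subgroup.normalizer (Z : Set G) := by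
  classical
  have hp : p.Prime := Fact.out
  haveI := hcyc
  have uniq : ∀ A B : Subgroup G, A ≤ P → B ≤ P → Nat.card A = Nat.card B → A = B := by
    intro A B hA hB hc
    have h1 : A.subgroupOf P = B.subgroupOf P := by
      haveI := Fintype.ofFinite P
      have key : ∀ C : Subgroup P, C.carrier.toFinset =
          Finset.univ.filter (fun x : P => x ^ Nat.card C = 1) := by
        intro C
        refine Finset.eq_of_subset_of_card_le (fun x hx => ?_) ?_
        · rw [Set.mem_toFinset] at hx
          refine Finset.mem_filter.2 ⟨Finset.mem_univ _, ?_⟩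
          exact congrArg Subtype.val (pow_card_eq_one' (x := (⟨x, hx⟩ : C)))
        · refine (IsCyclic.card_pow_eq_one_le Nat.card_pos).trans (le_of_eq ?_)
          rw [Set.toFinset_card, Nat.card_eq_fintype_card]
          rfl
      have hc' : Nat.card (A.subgroupOf P) = Nat.card (B.subgroupOf P) := by
        rw [Nat.card_congr (Subgroup.subgroupOfEquivOfLe hA).toEquiv, Nat.card_congr (Subgroup.subgroupOfEquivOfLe hB).toEquiv, hc]
      refine SetLike.coe_injective (Set.toFinset_inj.1 ((key _).trans ?_))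
      rw [hc']
      exact (key _).symm
    calc A = (A.subgroupOf P).map P.subtype := (Subgroup.map_subgroupOf_eq_of_le hA).symm
      _ = (B.subgroupOf P).map P.subtype := by rw [h1]
      _ = B := Subgroup.map_subgroupOf_eq_of_le hB
  have hZin : ∀ Q : Subgroup G, Q ≤ P → Q ≠ ⊥ → Z ≤ Q := by
    intro Q hQ hQ1
    haveI : Nontrivial Q := Subgroup.nontrivial_iff_ne_bot Q |>.2 hQ1
    obtain ⟨k, hk0, hk⟩ := (hP.to_le hQ).nontrivial_iff_card.1 inferInstance
    obtain ⟨y, hy⟩ := exists_prime_orderOf_dvd_card' (G := Q) p (hk ▸ dvd_pow_self p hk0.ne')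
    have h2 : Nat.card (Subgroup.zpowers (y : G)) = Nat.card Z := by
      rw [Nat.card_zpowers, Subgroup.orderOf_coe, hy, hZcard]
    rw [← uniq _ _ (Subgroup.zpowers_le.2 (hQ y.2)) hZ h2]
    exact Subgroup.zpowers_le.2 y.2
  have hnorm : ∀ x : G, MulAut.conj x • Z ≤ P → x ∈ Subgroup.normalizer (Z : Set G) := by
    intro x hx
    have h := uniq _ _ hx hZ (Nat.card_congr (Subgroup.equivSMul (MulAut.conj x) Z).toEquiv).symm
    rw [Subgroup.mem_normalizer_iff]
    intro z
    constructor
    · intro hz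
      have h3 : MulAut.conj x • z ∈ MulAut.conj x • Z := Subgroup.smul_mem_pointwise_smul _ _ _ hz
      rw [h] at h3
      exact h3
    · intro hz
      have h3 : MulAut.conj x • z ∈ MulAut.conj x • Z := by rw [h]; exact hz
      exact Subgroup.smul_mem_pointwise_smul_iff.1 h3
  refine ⟨fun x hx => by_contra fun hne => hx ?_, fun Q hQ hQ1 x hx => hnorm x ?_⟩
  · have hne' : MulAut.conj x⁻¹ • (P ⊓ MulAut.conj x • P) ≠ ⊥ := fun e => hne
      ((Subgroup.map_eq_bot_iff_of_injective _ (MulAut.conj x⁻¹).injective).1 e)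
    have hle : MulAut.conj x⁻¹ • (P ⊓ MulAut.conj x • P) ≤ P := by
      rw [Subgroup.pointwise_smul_subset_iff]
      refine inf_le_right.trans (le_of_eq ?_)
      rw [map_inv, inv_inv]
    have h4 := hZin _ hle hne'
    refine hnorm x ?_
    have h5 : MulAut.conj x • Z ≤ P ⊓ MulAut.conj x • P := by
      rw [Subgroup.pointwise_smul_subset_iff, ← map_inv]
      exact h4
    exact h5.trans inf_le_left
  · refine le_trans (Subgroup.pointwise_smul_le_pointwise_smul_iff.2 (hZin Q hQ hQ1)) ?_
    rw [show MulAut.conj x • Q = Q from Subgroup.conjAct_pointwise_smul_eq_self (H := Q) hx]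
    exact hQ

end Cfsg.Agent.S4636
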