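import Cfsg.Statements.S4642
import Cfsg.Agent.Lib.Block.CoreLocal

set_option autoImplicit false
open Cfsg

namespace Cfsg.Agent.S4642

open Cfsg.Agent.Block Cfsg.Agent.Char

/-- Let G be a finite group, p a prime, M a maximal ideal of the algebraic integers containing p, K the largest normal subgroup of G of order prime to p, and L the preimage in G of the largest normal p-subgroup of G/K. Let Q be a Sylow p-subgroup of L and suppose C_G(Q) ≤ L. Let θ be an irreducible character of K invariant under conjugation by every element of G, and let B be the set of irreducible characters of G whose restriction to K contains θ. Then B is a block of G, every Sylow p-subgroup of G is a defect group of B, and B is of principal type: for every p-subgroup R of G exactly one block of C_G(R) induces B. -/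
theorem result {G : Type*} [Group G] [Fintype G] (p : ℕ) [Fact p.Prime] (M : Ideal Cfsg.AlgInt) (hM : Cfsg.IsPModular p M) (K : Subgroup G) (hK : K = Cfsg.pPrimeCore p G) [Fintype K] (L : Subgroup G) (hL : L = Cfsg.pPrimePCore p G) (Q : Subgroup G) (hQL : Q ≤ L) (hQp : IsPGroup p Q) (hQS : ¬ p ∣ Q.relIndex L) (hCQ : Subgroup.centralizer (Q : Set G) ≤ L) (θ : Cfsg.IrrCharacter K) (hθ : ∀ g : G, Cfsg.IsConjCharOf K g (θ : K → ℂ) (θ : K → ℂ)) (B : Set (Cfsg.IrrCharacter G)) (hBdef : ∀ χ : Cfsg.IrrCharacter G, χ ∈ B ↔ Cfsg.classInner (fun k : K => (χ : G → ℂ) k) (θ : K → ℂ) ≠ 0) : Cfsg.IsPBlock M B ∧ (∀ S : Sylow p G, Cfsg.IsDefectGroup p M B S) ∧ ∀ R : Subgroup G, IsPGroup p R → ∃! f : Set (Cfsg.IrrCharacter (Subgroup.centralizer (R : Set G))), Cfsg.IsInducedBlock M (Subgroup.centralizer (R : Set G)) f B := by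
  classical
  subst hK hL
  haveI := prime_of_isPModular hM
  have hK : ¬ p ∣ Nat.card (pPrimeCore p G) := Local.not_dvd_card_pPrimeCore hM.1
  haveI : (pPrimePCore p G).Normal := Subgroup.Normal.comap inferInstance _
  have hKL : pPrimeCore p G ≤ pPrimePCore p G := Solv.le_comap_mk' _ _
  have hinv : ∀ (g : G) (k : pPrimeCore p G),
      (θ : pPrimeCore p G → ℂ) ⟨g * k * g⁻¹, Subgroup.Normal.conj_mem inferInstance (k : G) k.2 g⟩ =
        (θ : pPrimeCore p G → ℂ) k := fun g k => hθ g k _ rfl
  obtain ⟨B', hB', hmem, hsyl, -, hidem⟩ := block_over_invariant hM hK hinv fun hB hB' h h' =>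
    eq_of_covers_singleton hM hK hinv hKL relIndex_pPrimePCore hQL hQp hQS
      (fun g hg _ => hCQ hg) hB hB' h h'
  obtain rfl : B = B' := Set.ext fun χ => (hBdef χ).trans (hmem χ).symm
  exact ⟨hB', hsyl, fun R hR =>
    existsUnique_induced_centralizer hM hK hinv hKL relIndex_pPrimePCore hQL hQp hQS hCQ hB' hsyl hidem hR⟩

end Cfsg.Agent.S4642
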