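import Cfsg.Statements.S4645
import Cfsg.Agent.Lib.Block.AbelianLocalNilpotent
import Cfsg.Agent.Lib.Block.CyclicNilpotentRank
import Cfsg.Agent.Lib.Block.DefectOne

set_option autoImplicit false
open Cfsg

namespace Cfsg.Agent.S4645

open Cfsg.Agent.Block Cfsg.Agent.Char

/-- Let B be a block of the finite group G relative to a maximal ideal M of the algebraic integers containing the prime p, with a nontrivial cyclic defect group P; let c be a block of C_G(P) inducing B and T the stabilizer of c in N_G(P). Let Q be a nontrivial subgroup of P (so C_G(P) ≤ C_G(Q)), f the block of C_G(Q) induced by c inside C_G(Q), and T' the stabilizer of f in N_G(Q). Then T' = T·C_G(Q), the index of C_G(Q) in T' equals the index of C_G(P) in T, f has p-regular rank 1, and f is a nilpotent block of C_G(Q). -/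
theorem result {G : Type*} [Group G] [Finite G] (p : ℕ) [Fact p.Prime] (M : Ideal Cfsg.AlgInt) (hM : Cfsg.IsPModular p M) (B : Set (Cfsg.IrrCharacter G)) (hB : Cfsg.IsPBlock M B) (P : Subgroup G) (hPD : Cfsg.IsDefectGroup p M B P) (hP1 : P ≠ ⊥) (hcyc : IsCyclic P) (c : Set (Cfsg.IrrCharacter (Subgroup.centralizer (P : Set G)))) (hc : Cfsg.IsInducedBlock M (Subgroup.centralizer (P : Set G)) c B) (T : Subgroup G) (hT : ∀ g : G, g ∈ T ↔ (g ∈ Subgroup.normalizer (P : Set G) ∧ Cfsg.StabilizesBlock (Subgroup.centralizer (P : Set G)) c g)) (Q : Subgroup G) (hQP : Q ≤ P) (hQ1 : Q ≠ ⊥) (f : Set (Cfsg.IrrCharacter (Subgroup.centralizer (Q : Set G)))) (hf : Cfsg.IsInducedBlockIn M (Subgroup.centralizer (Q : Set G)) (Subgroup.centralizer (P : Set G)) c f) (T' : Subgroup G) (hT' : ∀ g : G, g ∈ T' ↔ (g ∈ Subgroup.normalizer (Q : Set G) ∧ Cfsg.StabilizesBlock (Subgroup.centralizer (Q : Set G)) f g)) : T' = T ⊔ Subgroup.centralizer (Q : Set G) ∧ (Subgroup.centralizer (Q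 : Set G)).relIndex T' = (Subgroup.centralizer (P : Set G)).relIndex T ∧ Cfsg.blockRank p f = 1 ∧ Cfsg.IsNilpotentBlock p M f := by
  classical
  haveI := prime_of_isPModular hM
  have hP := isPGroup_of_isDefectGroup hPD
  have hab : ∀ x ∈ P, ∀ y ∈ P, x * y = y * x := fun x hx y hy =>
    congrArg Subtype.val (hcyc.commutative.is_comm.comm (⟨x, hx⟩ : P) ⟨y, hy⟩)
  have hPQ : P ≤ Subgroup.centralizer (Q : Set G) := fun a ha =>
    Subgroup.mem_centralizer_iff.2 fun b hb => hab b (hQP hb) a ha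
  have hCQ : Subgroup.centralizer (P : Set G) ≤ Subgroup.centralizer (Q : Set G) := centralizer_le_of_le hQP
  have hmax := isMaximal_of_induced hM hB hPD hab hc
  have hT1 : IsStab P T c := hT
  have hT2 : IsStab Q T' f := hT'
  obtain ⟨-, -, hfree⟩ := cyclic_inertial_structure hM hmax hP1 hcyc hT1
  have hnil : IsNilpotentBlock p M f := (free_iff_local_nilpotent hM hmax hab hT1).1 hfree Q hQP hQ1 f hf
  obtain ⟨f₀, hns₀, -⟩ := existsUnique_normalSubpair hM hmax.1.1 hQP (hPQ.trans (centralizer_le_normalizer' Q))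
  obtain rfl : f = f₀ := inducedBlockIn_unique hf (inducedBlockIn_of_normalSubpair hM hns₀ hPQ)
  have hle : SubpairLE p M Q f P c := Relation.ReflTransGen.single (show NormalSubpairRel p M ⟨Q, f⟩ ⟨P, c⟩ from hns₀)
  have hQf : IsBrauerPairOf p M B Q f := (IsNormalSubpair.pairOf_iff hM hns₀ B).1 hmax.1
  -- the defect group of f
  obtain ⟨D', hD', hle'⟩ := exists_defectGroup_centralizer hM hmax.1.1 hf.2.1 hle
  rw [inf_eq_left.2 hPQ] at hle'
  have hQC : Q ≤ Subgroup.centralizer (Q : Set G) := hQP.trans hPQ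
  have hfd := blockDefect_le_of_induced hM ((isInducedBlock_iff_brauerOmega hM hQf.1.1 hQC hB hf.2.1).2 hQf.2.2)
  have hDP : P.subgroupOf (Subgroup.centralizer (Q : Set G)) = D' := Subgroup.eq_of_le_of_card_ge hle' (by
    rw [Nat.card_congr (Subgroup.subgroupOfEquivOfLe hPQ).toEquiv, card_defectGroup hM hf.2.1 hD',
      card_defectGroup hM hB hPD]
    exact Nat.pow_le_pow_right (Fact.out : p.Prime).pos hfd)
  haveI := hcyc
  have hcyc' : IsCyclic (P.subgroupOf (Subgroup.centralizer (Q : Set G))) :=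
    isCyclic_of_surjective (Subgroup.subgroupOfEquivOfLe hPQ).symm.toMonoidHom (Subgroup.subgroupOfEquivOfLe hPQ).symm.surjective
  -- the stabilisers
  have hTN : ∀ t ∈ T, t ∈ Subgroup.normalizer (Q : Set G) := by
    intro t ht
    obtain ⟨m, hm⟩ := MonoidHom.map_cyclic (stabAct P T (IsStab.le_normalizer hT1) ⟨t, ht⟩).toMonoidHom
    have himg : Q.map (MulAut.conj t).toMonoidHom ≤ Q := by
      rintro _ ⟨q, hq, rfl⟩
      have h1 := congrArg Subtype.val (hm ⟨q, hQP hq⟩)
      show t * q * t⁻¹ ∈ Q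
      rw [show t * q * t⁻¹ = q ^ m from by simpa [stabAct] using h1]
      exact zpow_mem hq m
    have heq := Subgroup.eq_of_le_of_card_ge himg (card_map_conj Q t).ge
    rw [Subgroup.mem_normalizer_iff]
    intro q
    conv_rhs => rw [← heq]
    rw [mem_map_conj_iff]
    simp [mul_assoc]
  have hTT' : T ≤ T' := fun t ht => (hT' t).2 ⟨hTN t ht,
    stab_of_le hM hmax.1.1 hle ((hT t).1 ht).1 ((hT t).1 ht).2 (hTN t ht)⟩
  have hCT' : Subgroup.centralizer (Q : Set G) ≤ T' := le_sup_right.trans (IsStab.sup_le hT2 hf.2.1)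
  have hT'eq : T' = T ⊔ Subgroup.centralizer (Q : Set G) := by
    refine le_antisymm (fun x hx => ?_) (sup_le hTT' hCT')
    obtain ⟨y, hy, -, hyx⟩ := exists_factor_abelian hM hmax hab hle hT2 hT1 hx
    rw [← mul_inv_cancel_left y x]
    exact mul_mem (Subgroup.mem_sup_left hy) (Subgroup.mem_sup_right hyx)
  refine ⟨hT'eq, ?_, blockRank_eq_one_of_cyclic_nilpotent hM hf.2.1 (hDP ▸ hD') hcyc' hnil, hnil⟩
  let π := stabAct Q T' (IsStab.le_normalizer hT2)
  let π' : T →* MulAut Q := π.comp (Subgroup.inclusion hTT')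
  have hker : π.ker = (Subgroup.centralizer (Q : Set G)).subgroupOf T' := Subgroup.ext fun t => by
    rw [MonoidHom.mem_ker, Subgroup.mem_subgroupOf]; exact stabAct_eq_one_iff t
  have hker' : π'.ker = (Subgroup.centralizer (P : Set G)).subgroupOf T := Subgroup.ext fun t => by
    rw [MonoidHom.mem_ker, Subgroup.mem_subgroupOf]
    show π (Subgroup.inclusion hTT' t) = 1 ↔ _
    rw [stabAct_eq_one_iff]
    refine ⟨fun h => ?_, fun h => hCQ h⟩
    obtain ⟨q, hq, hq1⟩ : ∃ q ∈ Q, q ≠ 1 := by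
      by_contra hcon
      push Not at hcon
      exact hQ1 ((Subgroup.eq_bot_iff_forall _).2 hcon)
    refine hfree _ t.2 q (hQP hq) hq1 ?_
    have h1 : (t : G) ∈ Subgroup.centralizer (Q : Set G) := h
    rw [← Subgroup.mem_centralizer_iff.1 h1 q hq, mul_inv_cancel_right]
  rw [Subgroup.relIndex, Subgroup.relIndex, ← hker, ← hker', Subgroup.index_ker, Subgroup.index_ker]
  refine congrArg (fun S : Subgroup (MulAut Q) => Nat.card S) (le_antisymm ?_ ?_)
  · rintro _ ⟨x, rfl⟩
    obtain ⟨y, hy, -, hyx⟩ := exists_factor_abelian hM hmax hab hle hT2 hT1 x.2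
    refine ⟨⟨y, hy⟩, ?_⟩
    show π (Subgroup.inclusion hTT' ⟨y, hy⟩) = π x
    have hx : x = Subgroup.inclusion hTT' ⟨y, hy⟩ * ⟨_, hCT' hyx⟩ := Subtype.ext (mul_inv_cancel_left y (x : G)).symm
    rw [hx, map_mul, (stabAct_eq_one_iff (hTN := IsStab.le_normalizer hT2) (⟨_, hCT' hyx⟩ : T')).2 hyx, mul_one]
  · rintro _ ⟨x, rfl⟩
    exact ⟨_, rfl⟩

end Cfsg.Agent.S4645
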