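import Cfsg.Statements.S4646
import Cfsg.Agent.Lib.Block.NormalComplement
import Cfsg.Agent.Lib.Block.Transport

set_option autoImplicit false
open Cfsg

namespace Cfsg.Agent.S4646

open Cfsg.Agent.Block Cfsg.Agent.Char

/-- For a finite group G, a prime p and a maximal ideal M of the algebraic integers containing p: the principal block of G is nilpotent if and only if its p-regular rank is 1 (the trivial Brauer character is its only irreducible Brauer character). -/
theorem result {G : Type*} [Group G] [Finite G] (p : ℕ) [Fact p.Prime] (M : Ideal Cfsg.AlgInt) (hM : Cfsg.IsPModular p M) : Cfsg.IsNilpotentBlock p M (Cfsg.principalBlock M G) ↔ Cfsg.blockRank p (Cfsg.principalBlock M G) = 1 := by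
  classical
  haveI := Fintype.ofFinite G
  haveI := prime_of_isPModular hM
  let one : Cfsg.IrrCharacter G := ⟨fun _ => 1, isIrrCharacter_one⟩
  have hB : Cfsg.IsPBlock M (Cfsg.principalBlock M G) := ⟨one, rfl⟩
  constructor
  · intro hn
    have hF : Solv.FrobeniusCond p G := by
      intro Q hQ g hg hgc
      have he : Cfsg.IsPBlock M (Cfsg.principalBlock M (Subgroup.centralizer (Q : Set G))) :=
        ⟨⟨fun _ => 1, isIrrCharacter_one⟩, rfl⟩
      refine hn.2 Q _ ⟨⟨hQ, he⟩, hB, fun ξ hξ => ?_⟩ g hg (stabilizesBlock_principal _ ?_) ?_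
      · have h := brauerOmega_principal hM hQ ξ
        rwa [if_pos hξ] at h
      · refine Subgroup.mem_normalizer_iff.2 fun c => ?_
        simp only [mem_centralizer_subgroup]
        have key : ∀ (g c : G), g ∈ Subgroup.normalizer (Q : Set G) → Q ≤ Subgroup.centralizer ({c} : Set G) →
            Q ≤ Subgroup.centralizer ({g * c * g⁻¹} : Set G) := by
          intro g c hg hc q hq
          have hq' : g⁻¹ * q * g ∈ Q := by simpa using (Subgroup.mem_normalizer_iff.1 (inv_mem hg) q).1 hq
          have h : Commute (g⁻¹ * q * g) c := (mem_centralizer_singleton.1 (hc hq')).symm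
          refine mem_centralizer_singleton.2 (Commute.symm ?_)
          show q * (g * c * g⁻¹) = g * c * g⁻¹ * q
          calc q * (g * c * g⁻¹) = g * (g⁻¹ * q * g * c) * g⁻¹ := by group
            _ = g * (c * (g⁻¹ * q * g)) * g⁻¹ := by rw [h.eq]
            _ = g * c * g⁻¹ * q := by group
        refine ⟨fun hc => key g c hg hc, fun hc => ?_⟩
        have h := key g⁻¹ _ (inv_mem hg) hc
        simpa [mul_assoc] using h
      · show ¬ p ∣ orderOf g
        rw [← (Fact.out : p.Prime).coprime_iff_not_dvd, Nat.coprime_comm]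
        exact hgc
    exact blockRank_principal_eq_one hM
      (regular_iff_mem_pPrimeCore (Solv.hasNormalPComplement_iff_index.mp hF.hasNormalPComplement))
  · intro h1
    refine ⟨hB, fun Q e hQe x hx _ hxr => ?_⟩
    have h1B : one ∈ Cfsg.principalBlock M G := sameBlock_refl _
    set W := Submodule.span ℂ ((fun χ : Cfsg.IrrCharacter G => Cfsg.pRegularPart p (χ : G → ℂ)) '' Cfsg.principalBlock M G)
    have hne : (⟨_, Submodule.subset_span ⟨one, h1B, rfl⟩⟩ : W) ≠ 0 := fun h => by
      have h' := congrFun (congrArg Subtype.val h) 1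
      simp only [one, pRegularPart_apply, orderOf_one, Nat.dvd_one, (Fact.out : p.Prime).one_lt.ne', if_false,
        ZeroMemClass.coe_zero, Pi.zero_apply] at h'
      exact one_ne_zero h'
    have hker : ∀ χ ∈ Cfsg.principalBlock M G, ∀ y : G, ¬ p ∣ orderOf y → (χ : G → ℂ) y = (χ : G → ℂ) 1 := by
      intro χ hχ y hy
      obtain ⟨c, hc⟩ := exists_smul_eq_of_finrank_eq_one h1 hne
        (⟨_, Submodule.subset_span ⟨χ, hχ, rfl⟩⟩ : W)
      have h1' := congrFun (congrArg Subtype.val hc) 1
      have hy' := congrFun (congrArg Subtype.val hc) y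
      simp only [SetLike.val_smul, Pi.smul_apply, smul_eq_mul, one, pRegularPart_apply, orderOf_one,
        Nat.dvd_one, (Fact.out : p.Prime).one_lt.ne', hy, if_false, mul_one] at h1' hy'
      rw [← h1', ← hy']
    have hnz : ∀ y : G, (∀ χ ∈ Cfsg.principalBlock M G, (χ : G → ℂ) y = (χ : G → ℂ) 1) → ¬ p ∣ orderOf y := by
      intro y hy hd
      have h := blockKernel_eq_zero hM hB (g := (1 : G)) (y := y) (fun e => by
        have h2 := e.2 hd
        rw [orderOf_one] at h2
        exact (Fact.out : p.Prime).one_lt.ne' (Nat.dvd_one.1 h2))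
      rw [blockKernel, finsum_mem_eq_finite_toFinset_sum _ (Cfsg.principalBlock M G).toFinite,
        Finset.sum_congr rfl (g := fun χ : Cfsg.IrrCharacter G => ((Cfsg.charDegree (χ : G → ℂ) ^ 2 : ℕ) : ℂ))
          fun χ hχ => by
            rw [hy χ ((Set.Finite.mem_toFinset _).1 hχ), ← charDegree_cast (IsIrrCharacter.isCharacter χ.2),
              Complex.conj_natCast]
            push_cast; ring, ← Nat.cast_sum, Nat.cast_eq_zero, Finset.sum_eq_zero_iff] at h
      have h2 := h one ((Set.Finite.mem_toFinset _).2 h1B)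
      exact absurd (pow_eq_zero_iff two_ne_zero |>.1 h2) (charDegree_pos one.2).ne'
    rw [Subgroup.mem_centralizer_iff]
    intro q hq
    have hcomm : ∀ χ ∈ Cfsg.principalBlock M G, (χ : G → ℂ) (x * q * x⁻¹ * q⁻¹) = (χ : G → ℂ) 1 := by
      intro χ hχ
      have hxk := hker χ hχ x hxr
      have hxi := hker χ hχ (q * x⁻¹ * q⁻¹) (by rwa [orderOf_conj_eq, orderOf_inv])
      rw [show x * q * x⁻¹ * q⁻¹ = x * (q * x⁻¹ * q⁻¹) by group]
      obtain ⟨n, ρ, -, hρ⟩ := χ.2
      rw [← hρ] at hxk hxi ⊢
      have ex := (character_eq_finrank_iff ρ _).1 (hxk.trans ρ.char_one)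
      have ei := (character_eq_finrank_iff ρ _).1 (hxi.trans ρ.char_one)
      rw [Representation.character, Representation.character, map_mul, ex, ei, map_one]
      rfl
    have hreg := hnz _ hcomm
    have hmem : x * q * x⁻¹ * q⁻¹ ∈ Q :=
      mul_mem ((Subgroup.mem_normalizer_iff.1 hx q).1 hq) (inv_mem hq)
    obtain ⟨k, hk⟩ := hQe.1.1 ⟨_, hmem⟩
    have hk' : (x * q * x⁻¹ * q⁻¹) ^ p ^ k = 1 := congrArg Subtype.val hk
    have hcop : Nat.Coprime (orderOf (x * q * x⁻¹ * q⁻¹)) (p ^ k) :=
      (((Fact.out : p.Prime).coprime_iff_not_dvd.2 hreg).symm).pow_right k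
    have := Nat.eq_one_of_dvd_coprimes hcop dvd_rfl (orderOf_dvd_of_pow_eq_one hk')
    rw [orderOf_eq_one_iff] at this
    show q * x = x * q
    rw [eq_comm, ← mul_inv_eq_iff_eq_mul, ← mul_inv_eq_one]
    exact this

end Cfsg.Agent.S4646
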