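import Cfsg.Statements.S4652
import Cfsg.Agent.Lib.Block.Height
import Cfsg.Agent.Lib.Block.SecondMain

set_option autoImplicit false
open Cfsg

namespace Cfsg.Agent.S4652

open Cfsg.Agent.Block Cfsg.Agent.Char

/-- Fix a prime p and a maximal ideal M of the algebraic integers containing p. The defect groups of the principal p-block of a finite group G are exactly the Sylow p-subgroups of G: a subgroup D is a defect group of the principal block if and only if D is a Sylow p-subgroup. -/
theorem result {G : Type*} [Group G] [Fintype G] (p : ℕ) [Fact p.Prime] (M : Ideal Cfsg.AlgInt) (hM : Cfsg.IsPModular p M) (D : Subgroup G) : Cfsg.IsDefectGroup p M (Cfsg.principalBlock M G) D ↔ ∃ S : Sylow p G, (S : Subgroup G) = D := by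
  haveI := prime_of_isPModular hM
  have hp : p.Prime := Fact.out
  let one : IrrCharacter G := ⟨fun _ => 1, isIrrCharacter_one⟩
  have hB : IsPBlock M (principalBlock M G) := ⟨one, rfl⟩
  have hone : one ∈ principalBlock M G := self_mem_blockOf one
  have hdef : blockDefect p (principalBlock M G) = (Nat.card G).factorization p := by
    have h := minVal_le (p := p) hone
    have h1 : charDegree (one : G → ℂ) = 1 := by
      simp [charDegree, one]
    rw [h1, Nat.factorization_one] at h
    have h0 : minVal p (principalBlock M G) = 0 := by simpa using h
    rw [blockDefect_eq, h0, Nat.sub_zero]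
  constructor
  · intro hD
    have hc := card_defectGroup hM hB hD
    rw [hdef] at hc
    exact ⟨Sylow.ofCard D hc, rfl⟩
  · rintro ⟨S, rfl⟩
    obtain ⟨D, hD⟩ := exists_isDefectGroup (p := p) hB
    have hc := card_defectGroup hM hB hD
    rw [hdef] at hc
    obtain ⟨t, ht⟩ := MulAction.exists_smul_eq G (Sylow.ofCard D hc) S
    have h := isDefectGroup_map_conj hD t
    have h2 : D.map (MulAut.conj t).toMonoidHom = (S : Subgroup G) := by
      rw [← ht]
      rfl
    rwa [h2] at h

end Cfsg.Agent.S4652
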