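import Cfsg.Statements.S4663
import Cfsg.Agent.Lib.Block.Kulshammer

set_option autoImplicit false
open Cfsg

namespace Cfsg.Agent.S4663

open Cfsg.Agent.Block Cfsg.Agent.Char

/-- Fix a prime p and a maximal ideal M of the algebraic integers containing p. Brauer's Third Main Theorem in the language of Brauer pairs: for the principal p-block B₀ of the finite group G and any p-subgroup Q, a p-block e of C_G(Q) makes (Q, e) a Brauer pair of B₀ if and only if e is the principal p-block of C_G(Q). Equivalently, modulo M the truncation to C_G(Q) of the idempotent of B₀ is the idempotent of the principal block of C_G(Q). -/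
theorem result {G : Type*} [Group G] [Fintype G] (p : ℕ) [Fact p.Prime] (M : Ideal Cfsg.AlgInt) (hM : Cfsg.IsPModular p M) (Q : Subgroup G) (hQ : IsPGroup p Q) (e : Set (Cfsg.IrrCharacter (Subgroup.centralizer (Q : Set G)))) (he : Cfsg.IsPBlock M e) : Cfsg.IsBrauerPairOf p M (Cfsg.principalBlock M G) Q e ↔ e = Cfsg.principalBlock M (Subgroup.centralizer (Q : Set G)) := by
    classical
    haveI := prime_of_isPModular hM
    have hB : IsPBlock M (principalBlock M G) := ⟨⟨fun _ => 1, isIrrCharacter_one⟩, rfl⟩
    have he0 : IsPBlock M (principalBlock M (Subgroup.centralizer (Q : Set G))) :=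
      ⟨⟨fun _ => 1, isIrrCharacter_one⟩, rfl⟩
    constructor
    · rintro ⟨-, -, h⟩
      obtain ⟨ξ, hξ⟩ := isPBlock_nonempty he
      refine isPBlock_eq_of_mem he he0 hξ ?_
      by_contra hn
      have h2 := brauerOmega_principal hM hQ ξ
      rw [if_neg hn, sub_zero] at h2
      have := memLocalIdeal_sub h2 (h ξ hξ)
      rw [sub_sub_cancel] at this
      exact not_memLocalIdeal_one this
    · rintro rfl
      refine ⟨⟨hQ, he⟩, hB, fun ξ hξ => ?_⟩
      simpa [if_pos hξ] using brauerOmega_principal hM hQ ξ

end Cfsg.Agent.S4663
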