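import Cfsg.Statements.S4664
import Cfsg.Agent.Lib.Block.Regular
import Cfsg.Agent.Lib.Char.Galois

set_option autoImplicit false
open Cfsg

namespace Cfsg.Agent.S4664

open Cfsg.Agent.Block Cfsg.Agent.Char

/-- Fix a prime p and a maximal ideal M of the algebraic integers containing p, and let B be a p-block of the finite group G. Let m be the p'-part of the order of G and η = exp(2πi/m). Then every coefficient of the idempotent of B lies in the cyclotomic field ℚ(η). -/
theorem result {G : Type*} [Group G] [Fintype G] (p : ℕ) [Fact p.Prime] (M : Ideal Cfsg.AlgInt) (hM : Cfsg.IsPModular p M) (B : Set (Cfsg.IrrCharacter G)) (hB : Cfsg.IsPBlock M B) (g : G) : Cfsg.blockCoeff B g ∈ IntermediateField.adjoin ℚ ({Complex.exp (2 * Real.pi * Complex.I / ((Nat.card G / p ^ (Nat.card G).factorization p : ℕ) : ℂ))} : Set ℂ) := by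
  haveI := prime_of_isPModular hM
  classical
  set m := Nat.card G / p ^ (Nat.card G).factorization p with hm
  set K := IntermediateField.adjoin ℚ ({Complex.exp (2 * Real.pi * Complex.I / (m : ℂ))} : Set ℂ)
  by_cases hg : p ∣ orderOf g
  · rw [blockCoeff_eq_zero_of_dvd hM hB hg]; exact zero_mem _
  have hp : p.Prime := Fact.out
  have hm0 : m ≠ 0 := fun e => Nat.not_dvd_ordCompl hp (n := Nat.card G) Nat.card_pos.ne' (by rw [← hm, e]; exact dvd_zero p)
  set ζ : ℂ := Complex.exp (2 * Real.pi * Complex.I / (m : ℂ))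
  have hζ : IsPrimitiveRoot ζ m := Complex.isPrimitiveRoot_exp m hm0
  have hζK : ζ ∈ K := IntermediateField.mem_adjoin_simple_self ℚ ζ
  have hgm : g⁻¹ ^ m = 1 := by
    refine orderOf_dvd_iff_pow_eq_one.1 ?_
    rw [orderOf_inv]
    have h1 : orderOf g ∣ p ^ (Nat.card G).factorization p * m := by
      rw [hm, Nat.ordProj_mul_ordCompl_eq_self]; exact orderOf_dvd_natCard g
    exact ((hp.coprime_iff_not_dvd.2 hg).symm.pow_right _).dvd_of_dvd_mul_left h1
  have hval : ∀ χ : IrrCharacter G, ∀ k : ℕ, (χ : G → ℂ) (g⁻¹ ^ k) ∈ K := by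
    intro χ k
    obtain ⟨P, hP⟩ := exists_value_poly (IsIrrCharacter.isGeneralized χ.2) g⁻¹ hm0 hζ hgm
    rw [hP k, Polynomial.aeval_eq_sum_range]
    exact sum_mem fun i _ => by rw [zsmul_eq_mul]; exact mul_mem (intCast_mem _ _) (pow_mem (pow_mem hζK _) _)
  rw [blockCoeff_eq_blockKernel, blockKernel, finsum_mem_eq_finite_toFinset_sum _ B.toFinite]
  refine mul_mem (inv_mem (natCast_mem _ _)) (sum_mem fun χ _ => mul_mem ?_ ?_)
  · rw [← charDegree_cast (IsIrrCharacter.isCharacter χ.2)]; exact natCast_mem _ _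
  · rw [← IsCharacter.map_inv (IsIrrCharacter.isCharacter χ.2)]
    simpa using hval χ 1

end Cfsg.Agent.S4664
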