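import Cfsg.Statements.S4665
import Cfsg.Agent.Lib.Block.RegVirtual
import Cfsg.Agent.Lib.Block.Rank

set_option autoImplicit false
open Cfsg

namespace Cfsg.Agent.S4665

open Cfsg.Agent.Block Cfsg.Agent.Char

/-- Fix a prime p, a maximal ideal M of the algebraic integers containing p, and a p-block B of the finite group G, and let p^a be the p-part of the order of G. Let χ be an integer combination of the irreducible characters in B. If the function that agrees with χ on p-regular elements and vanishes on p-singular elements is again an integer combination of the irreducible characters in B, then p^a divides χ(1). -/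
theorem result {G : Type*} [Group G] [Fintype G] (p : ℕ) [Fact p.Prime] (M : Ideal Cfsg.AlgInt) (hM : Cfsg.IsPModular p M) (B : Set (Cfsg.IrrCharacter G)) (hB : Cfsg.IsPBlock M B) (χ : G → ℂ) (hχ : (∃ n : Cfsg.IrrCharacter G → ℤ, ∀ g : G, χ g = ∑ᶠ ψ ∈ B, (n ψ : ℂ) * (ψ : G → ℂ) g)) (h0 : (∃ n : Cfsg.IrrCharacter G → ℤ, ∀ g : G, Cfsg.pRegularPart p χ g = ∑ᶠ ψ ∈ B, (n ψ : ℂ) * (ψ : G → ℂ) g)) : ∃ k : ℤ, χ 1 = (p ^ (Nat.card G).factorization p : ℂ) * k := by
  haveI := prime_of_isPModular hM
  classical
  obtain ⟨n, hn⟩ := h0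
  have hgen : IsGeneralizedCharacter G (pRegularPart p χ) := by
    have h : pRegularPart p χ = ∑ ψ ∈ B.toFinite.toFinset, fun g => (n ψ : ℂ) * (ψ : G → ℂ) g := by
      funext g
      rw [hn g, finsum_mem_eq_finite_toFinset_sum _ B.toFinite, Finset.sum_apply]
    rw [h]
    refine isGeneralizedCharacter_sum _ _ fun ψ _ => ?_
    have h2 := isGeneralizedCharacter_intCast_smul (IsIrrCharacter.isGeneralized ψ.2) (n ψ)
    exact h2
  obtain ⟨P⟩ : Nonempty (Sylow p G) := inferInstance
  haveI := Fintype.ofFinite (P : Subgroup G)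
  obtain ⟨z, hz⟩ := classInner_int_of_isGeneralized (IsGeneralizedCharacter.restrict hgen (P : Subgroup G))
    (isGeneralizedCharacter_one (G := ↥(P : Subgroup G)))
  refine ⟨z, ?_⟩
  have hp : p.Prime := Fact.out
  rw [classInner, Finset.sum_eq_single (1 : ↥(P : Subgroup G)), Sylow.card_eq_multiplicity] at hz
  · simp only [Subgroup.coe_one, pRegularPart_apply, orderOf_one, if_neg hp.not_dvd_one, Pi.one_apply, map_one, mul_one] at hz
    have hp0 : ((p ^ (Nat.card G).factorization p : ℕ) : ℂ) ≠ 0 :=
      Nat.cast_ne_zero.2 (pow_ne_zero _ hp.ne_zero)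
    rw [← hz]
    push_cast at hp0 ⊢
    field_simp
  · intro x _ hx
    obtain ⟨k, hk⟩ := IsPGroup.iff_orderOf.1 P.2 x
    have hd : p ∣ orderOf (x : G) := by
      rw [Subgroup.orderOf_coe, hk]
      rcases k with _ | k
      · exact absurd (orderOf_eq_one_iff.1 (by simpa using hk)) hx
      · exact dvd_pow_self p k.succ_ne_zero
    show (pRegularPart p χ (x : G)) * _ = 0
    rw [pRegularPart_apply, if_pos hd, zero_mul]
  · simp

end Cfsg.Agent.S4665
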