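import Cfsg.Statements.S4666
import Cfsg.Agent.Lib.Block.BrauerFeit
import Cfsg.Agent.Lib.Block.Rank

set_option autoImplicit false
open Cfsg

namespace Cfsg.Agent.S4666

open Cfsg.Agent.Block Cfsg.Agent.Char

/-- Fix a prime p and a maximal ideal M of the algebraic integers containing p, and a p-block B of the finite group G of defect d. For every integer combination χ of the irreducible characters in B, p^d times the function that agrees with χ on p-regular elements and vanishes elsewhere is again an integer combination of the irreducible characters in B. -/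
theorem result {G : Type*} [Group G] [Fintype G] (p : ℕ) [Fact p.Prime] (M : Ideal Cfsg.AlgInt) (hM : Cfsg.IsPModular p M) (B : Set (Cfsg.IrrCharacter G)) (hB : Cfsg.IsPBlock M B) (χ : G → ℂ) (hχ : (∃ n : Cfsg.IrrCharacter G → ℤ, ∀ g : G, χ g = ∑ᶠ ψ ∈ B, (n ψ : ℂ) * (ψ : G → ℂ) g)) : (∃ n : Cfsg.IrrCharacter G → ℤ, ∀ g : G, (p ^ Cfsg.blockDefect p B : ℂ) * Cfsg.pRegularPart p χ g = ∑ᶠ ψ ∈ B, (n ψ : ℂ) * (ψ : G → ℂ) g) := by
  haveI := prime_of_isPModular hM
  classical
  set T := B.toFinite.toFinset with hT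
  have key : ∀ (χ : IrrCharacter G), χ ∈ B → ∀ x : G,
      ∑ φ ∈ T, regInner p (χ : G → ℂ) (φ : G → ℂ) * (φ : G → ℂ) x =
        (Nat.card G : ℂ) * pRegularPart p (χ : G → ℂ) x := by
    intro χ hχ x
    have h2 := sum_mul_blockKernel B χ x
    rw [if_pos hχ] at h2
    rw [pRegularPart_apply]
    simp only [regInner, Finset.sum_mul]
    rw [Finset.sum_comm]
    by_cases hx : p ∣ orderOf x
    · rw [if_pos hx, mul_zero]
      refine Finset.sum_eq_zero fun y _ => ?_
      by_cases hy : p ∣ orderOf y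
      · exact Finset.sum_eq_zero fun φ _ => by rw [if_pos hy, zero_mul]
      · have h3 := blockKernel_eq_zero hM hB (g := x) (y := y) (fun e => hy (e.1 hx))
        simp only [blockKernel, finsum_mem_eq_finite_toFinset_sum _ B.toFinite] at h3
        rw [← mul_zero ((χ : G → ℂ) y), ← h3, Finset.mul_sum]
        exact Finset.sum_congr rfl fun φ _ => by rw [if_neg hy]; ring
    · rw [if_neg hx, ← h2]
      simp only [blockKernel, finsum_mem_eq_finite_toFinset_sum _ B.toFinite]
      refine Finset.sum_congr rfl fun y _ => ?_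
      by_cases hy : p ∣ orderOf y
      · have h3 := blockKernel_eq_zero hM hB (g := x) (y := y) (fun e => hx (e.2 hy))
        simp only [blockKernel, finsum_mem_eq_finite_toFinset_sum _ B.toFinite] at h3
        simp [hy, h3]
      · rw [Finset.mul_sum]
        exact Finset.sum_congr rfl fun φ _ => by rw [if_neg hy]; ring
  have hq : ∀ χ φ : IrrCharacter G, χ ∈ B → φ ∈ B → ∃ z : ℤ, (z : ℂ) = ((p ^ blockDefect p B : ℕ) : ℂ) *
      regInner p (χ : G → ℂ) (φ : G → ℂ) / (Nat.card G : ℂ) := fun χ φ hχ hφ =>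
    let ⟨z, hz, _⟩ := exists_qInt hM hB hχ hφ
    ⟨z, hz⟩
  choose! q hq using hq
  obtain ⟨n, hn⟩ := hχ
  refine ⟨fun φ => ∑ ψ ∈ T, n ψ * q ψ φ, fun g => ?_⟩
  rw [finsum_mem_eq_finite_toFinset_sum _ B.toFinite]
  have hG : (Nat.card G : ℂ) ≠ 0 := Nat.cast_ne_zero.2 Nat.card_pos.ne'
  have h1 : pRegularPart p χ g = ∑ ψ ∈ T, (n ψ : ℂ) * pRegularPart p (ψ : G → ℂ) g := by
    simp only [pRegularPart_apply]
    split
    · simp
    · rw [hn g, finsum_mem_eq_finite_toFinset_sum _ B.toFinite]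
  rw [h1, Finset.mul_sum]
  simp only [Int.cast_sum, Int.cast_mul, Finset.sum_mul]
  rw [Finset.sum_comm (γ := IrrCharacter G)]
  refine Finset.sum_congr rfl fun ψ hψ => ?_
  have hψB : ψ ∈ B := by simpa [hT] using hψ
  calc _ = (n ψ : ℂ) * ((p : ℂ) ^ blockDefect p B / (Nat.card G : ℂ)) * ((Nat.card G : ℂ) * pRegularPart p (ψ : G → ℂ) g) := by
        field_simp
    _ = (n ψ : ℂ) * ((p : ℂ) ^ blockDefect p B / (Nat.card G : ℂ)) * ∑ φ ∈ T, regInner p (ψ : G → ℂ) (φ : G → ℂ) * (φ : G → ℂ) g := by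
        rw [key ψ hψB g]
    _ = _ := by
        rw [Finset.mul_sum]
        refine Finset.sum_congr rfl fun φ hφ => ?_
        rw [hq ψ φ hψB (by simpa [hT] using hφ)]
        push_cast
        ring

end Cfsg.Agent.S4666
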