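import Cfsg.Statements.S4668
import Cfsg.Agent.Lib.Block.DefectSupport
import Cfsg.Agent.Lib.Block.Regular
import Cfsg.Agent.Lib.Solv.Coprime

set_option autoImplicit false
open Cfsg

namespace Cfsg.Agent.S4668

open Cfsg.Agent.Block Cfsg.Agent.Char

/-- Fix a prime p and a maximal ideal M of the algebraic integers containing p. Let Q₀ < Q₁ < ⋯ < Q_m be a strictly increasing chain of p-subgroups of the finite group G and N the intersection of their normalizers. Then every block idempotent of N is supported on C_G(Q_m): for every p-block E of N, the idempotent coefficient of E vanishes at every element of N outside C_G(Q_m). -/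
theorem result {G : Type*} [Group G] [Fintype G] (p : ℕ) [Fact p.Prime] (M : Ideal Cfsg.AlgInt) (hM : Cfsg.IsPModular p M) (m : ℕ) (Q : Fin (m + 1) → Subgroup G) (hQ : StrictMono Q) (hQp : ∀ i, IsPGroup p (Q i)) (N : Subgroup G) (hN : ∀ g : G, g ∈ N ↔ ∀ i, g ∈ Subgroup.normalizer (Q i : Set G)) (E : Set (Cfsg.IrrCharacter N)) (hE : Cfsg.IsPBlock M E) (n : N) (hn : (n : G) ∉ Subgroup.centralizer (Q (Fin.last m) : Set G)) : Cfsg.blockCoeff E n = 0 := by
  classical
  haveI := prime_of_isPModular hM
  have hp : p.Prime := Fact.out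
  by_contra hne
  have hreg : ¬ p ∣ orderOf n := fun h => hne (blockCoeff_eq_zero_of_dvd hM hE h)
  have hnN := (hN n).1 n.2
  have hnorm : ∀ i, ((Q i).subgroupOf N).Normal := fun i => ⟨fun x hx g => (Subgroup.mem_normalizer_iff.1 ((hN g).1 g.2 i) (x : G)).1 hx⟩
  have hcent : ∀ i, ∀ x ∈ Q i, x ∈ N → x * (n : G) = n * x := by
    intro i x hx hxN
    by_contra h
    haveI := hnorm i
    exact hne (blockCoeff_eq_zero_of_notMem hM hE ((Q i).subgroupOf N) (hQp i).comap_subtype
      fun hc => h (congrArg Subtype.val (Subgroup.mem_centralizer_iff.1 hc ⟨x, hxN⟩ hx)))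
  suffices key : ∀ i, (n : G) ∈ Subgroup.centralizer (Q i : Set G) from hn (key _)
  intro i
  induction i using Fin.induction with
  | zero =>
    refine Subgroup.mem_centralizer_iff.2 fun x hx => hcent 0 x hx ((hN x).2 fun j => ?_)
    exact Subgroup.le_normalizer (hQ.monotone (Fin.zero_le j) hx)
  | succ i ih =>
    have hle : Q i.castSucc ≤ Q i.succ := hQ.monotone i.castSucc_lt_succ.le
    have hcop : (Nat.card (Subgroup.zpowers (n : G))).Coprime p := by
      rw [Nat.card_zpowers, Subgroup.orderOf_coe]
      exact (hp.coprime_iff_not_dvd.2 hreg).symm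
    have hW : Q i.succ ⊓ Subgroup.centralizer (Q i.castSucc : Set G) ≤ Subgroup.centralizer (Subgroup.zpowers (n : G) : Set G) := by
      intro x hx
      have hxN : x ∈ N := by
        refine (hN x).2 fun j => ?_
        rcases le_or_gt j i.castSucc with h | h
        · exact Subgroup.centralizer_le_normalizer _ (Subgroup.centralizer_le (SetLike.coe_subset_coe.2 (hQ.monotone h)) hx.2)
        · exact Subgroup.le_normalizer (hQ.monotone (Fin.castSucc_lt_iff_succ_le.1 h) hx.1)
      refine Subgroup.mem_centralizer_iff.2 fun y hy => ?_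
      obtain ⟨k, rfl⟩ := Subgroup.mem_zpowers_iff.1 hy
      exact (Commute.zpow_left (show Commute (n : G) x from (hcent i.succ x hx.1 hxN).symm) k).eq
    have h := Cfsg.Agent.Solv.thompson_pq p (Q i.castSucc) (Subgroup.zpowers (n : G)) (Q i.succ) (hQp _) hcop (hQp _)
      (Subgroup.le_centralizer_iff.1 (Subgroup.zpowers_le.2 ih)) (hle.trans Subgroup.le_normalizer)
      (Subgroup.zpowers_le.2 (hnN i.succ)) hW
    exact h (Subgroup.mem_zpowers _)

end Cfsg.Agent.S4668
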