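import Cfsg.Statements.S4669
import Cfsg.Agent.Lib.Block.CentralExtDefect
import Cfsg.Agent.Lib.Block.Rank
import Cfsg.Agent.Lib.Block.DefectOne

set_option autoImplicit false
open Cfsg

namespace Cfsg.Agent.S4669

open Cfsg.Agent.Block Cfsg.Agent.Char

/-- Fix a prime p and a maximal ideal M of the algebraic integers containing p. If the p-block B of the finite group G has a defect group P contained in the centre of G, then B has p-regular rank one (a single irreducible Brauer character). -/
theorem result {G : Type*} [Group G] [Fintype G] (p : ℕ) [Fact p.Prime] (M : Ideal Cfsg.AlgInt) (hM : Cfsg.IsPModular p M) (B : Set (Cfsg.IrrCharacter G)) (hB : Cfsg.IsPBlock M B) (P : Subgroup G) (hD : Cfsg.IsDefectGroup p M B P) (hPZ : P ≤ Subgroup.center G) : Cfsg.blockRank p B = 1 := by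
  haveI := prime_of_isPModular hM
  classical
  have hp : p.Prime := Fact.out
  have hP : IsPGroup p P := by
    obtain ⟨g, hg, S, rfl⟩ := hD
    exact S.2.map _
  have hG : P ⊔ Subgroup.centralizer (P : Set G) = ⊤ := by
    rw [eq_top_iff]
    intro g _
    refine Subgroup.mem_sup_right (Subgroup.mem_centralizer_iff.2 fun x hx => ?_)
    exact (Subgroup.mem_center_iff.1 (hPZ hx) g).symm
  haveI := normal_of_sup_centralizer hG
  haveI := Fintype.ofFinite P
  obtain ⟨-, θ, hθB, hker⟩ := exists_mem_ker_normal (P := P) hM hP hB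
  obtain ⟨F, -, -, hr, hF⟩ := exists_equiv_block_core hM hP hG hB hD hθB hker
  obtain ⟨hc, -⟩ := coreChar_of_defectGroup hM hP hG hB hD hθB hker
  refine le_antisymm ?_ (blockRank_pos hp (isPBlock_nonempty hB))
  have hsub : Submodule.span ℂ ((fun χ : IrrCharacter G => pRegularPart p (χ : G → ℂ)) '' B) ≤
      Submodule.span ℂ {pRegularPart p (θ : G → ℂ)} := by
    rw [Submodule.span_le]
    rintro _ ⟨χ, hχ, rfl⟩
    rw [← hr] at hχ
    obtain ⟨φ, rfl⟩ := hχ
    refine Submodule.mem_span_singleton.2 ⟨(φ : P → ℂ) 1, funext fun y => ?_⟩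
    simp only [Pi.smul_apply, smul_eq_mul, pRegularPart_apply]
    split
    · rw [mul_zero]
    · rw [hF φ, ← coreExt_apply hp hP hG (φ : P → ℂ) hc 1 ‹_›, Subgroup.coe_one, one_mul]
  rw [blockRank]
  refine (Submodule.finrank_mono hsub).trans ?_
  exact (finrank_span_le_card ({pRegularPart p (θ : G → ℂ)} : Set (G → ℂ))).trans (by simp)

end Cfsg.Agent.S4669
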