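import Cfsg.Statements.S4670
import Cfsg.Agent.Lib.Block.FirstMain
import Cfsg.Agent.Lib.Block.BrauerPair

set_option autoImplicit false
open Cfsg

namespace Cfsg.Agent.S4670

open Cfsg.Agent.Block Cfsg.Agent.Char

/-- Fix a prime p and a maximal ideal M of the algebraic integers containing p. Let P be a p-subgroup of the finite group G and H a subgroup containing N_G(P). For every p-block B of G with defect group P there is exactly one p-block c of H with defect group P whose idempotent agrees with that of B, modulo the local ideal at M, at every element of C_G(P) (their Brauer-map images at P coincide); and every p-block c of H with defect group P arises in this way from exactly one such B. This is the Brauer correspondence over H. -/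
theorem result {G : Type*} [Group G] [Fintype G] (p : ℕ) [Fact p.Prime] (M : Ideal Cfsg.AlgInt) (hM : Cfsg.IsPModular p M) (P H : Subgroup G) (hP : IsPGroup p P) (hH : Subgroup.normalizer (P : Set G) ≤ H) : (∀ B : Set (Cfsg.IrrCharacter G), Cfsg.IsPBlock M B → Cfsg.IsDefectGroup p M B P → ∃! c : Set (Cfsg.IrrCharacter H), Cfsg.IsPBlock M c ∧ Cfsg.IsDefectGroup p M c (P.subgroupOf H) ∧ ∀ x : G, x ∈ Subgroup.centralizer (P : Set G) → Cfsg.MemLocalIdeal M (Cfsg.blockCoeff B x - Cfsg.subgroupBlockCoeff H c x)) ∧ (∀ c : Set (Cfsg.IrrCharacter H), Cfsg.IsPBlock M c → Cfsg.IsDefectGroup p M c (P.subgroupOf H) → ∃! B : Set (Cfsg.IrrCharacter G), Cfsg.IsPBlock M B ∧ Cfsg.IsDefectGroup p M B P ∧ ∀ x : G, x ∈ Subgroup.centralizer (P : Set G) → Cfsg.MemLocalIdeal M (Cfsg.blockCoeff B x - Cfsg.subgroupBlockCoeff H c x)) := by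
  haveI := prime_of_isPModular hM
  have hPH : P ≤ H := Subgroup.le_normalizer.trans hH
  have hCH := (centralizer_le_normalizer' P).trans hH
  have key : ∀ (B : Set (Cfsg.IrrCharacter G)) (c : Set (Cfsg.IrrCharacter H)),
      Cfsg.IsPBlock M B → Cfsg.IsPBlock M c →
      ((∀ x : G, x ∈ Subgroup.centralizer (P : Set G) →
        Cfsg.MemLocalIdeal M (Cfsg.blockCoeff B x - Cfsg.subgroupBlockCoeff H c x)) ↔
        brFun M P (blockIdem B) = brFun M P (embH H (blockIdem c))) := fun B c hB hc => by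
    rw [brFun_eq_iff (isLocElt_blockIdem hB) (isLocElt_embH H (isLocElt_blockIdem hc))]
    refine forall₂_congr fun x _ => ?_
    rw [coe_subgroupBlockCoeff, coeff_blockIdem]
  constructor
  · intro B hB hBD
    obtain ⟨c, hc, hcD, hl⟩ := exists_block_over hM hPH hCH hB hBD
    obtain ⟨ξ, hξ⟩ := isPBlock_nonempty hc
    refine ⟨c, ⟨hc, hcD, (key B c hB hc).2 (brFun_eq_of_lam hM hH hB hBD hc hcD hξ (hl ξ hξ))⟩,
      fun c' h' => ?_⟩
    obtain ⟨ξ', hξ'⟩ := isPBlock_nonempty h'.1
    refine eq_of_lam_eq_one hM hP hH hB h'.1 h'.2.1 hc hcD hξ' hξ ?_ (hl ξ hξ)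
    have he := (key B c' hB h'.1).1 h'.2.2
    rw [lam, (Factors.of_defectGroup hM hPH h'.1 h'.2.1 hξ').ro_eq
      (cl_resH ((CL.blockIdem hB).ps H)) (CL.blockIdem h'.1) (by rw [brFun_embH_resH hCH, he]),
      ro_blockIdem_mem hξ']
  · intro c hc hcD
    obtain ⟨B, hB, hBD, hind⟩ := exists_induced_of_defectGroup hM hP hH hc hcD
    obtain ⟨ξ, hξ⟩ := isPBlock_nonempty hc
    have he := brFun_eq_of_lam hM hH hB hBD hc hcD hξ (lam_blockIdem_of_isInducedBlock hind hξ)
    refine ⟨B, ⟨hB, hBD, (key B c hB hc).2 he⟩, fun B' h' => ?_⟩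
    exact (eq_of_brFun_eq hM hB hBD h'.1 (he.trans ((key B' c h'.1 hc).1 h'.2.2).symm)).symm

end Cfsg.Agent.S4670
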