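import Cfsg.Statements.S4673
import Cfsg.Agent.Lib.Block.CoverChain

set_option autoImplicit false
open Cfsg

namespace Cfsg.Agent.S4673

open Cfsg.Agent.Block Cfsg.Agent.Char

/-- Fix a prime p and a maximal ideal M of the algebraic integers containing p. Let N ≤ L be normal subgroups of the finite group G with L/N a p-group, let B be a p-block of G covering the p-block c of N (some member of B has a constituent in c on restriction to N), and suppose that N contains a defect group of B. Then the stabilizer T of c in G satisfies T ∩ L = N. -/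
theorem result {G : Type*} [Group G] [Fintype G] (p : ℕ) [Fact p.Prime] (M : Ideal Cfsg.AlgInt) (hM : Cfsg.IsPModular p M) (N L : Subgroup G) [N.Normal] [L.Normal] [Fintype N] (hNL : N ≤ L) (hLN : ∃ k : ℕ, (N.subgroupOf L).index = p ^ k) (B : Set (Cfsg.IrrCharacter G)) (hB : Cfsg.IsPBlock M B) (c : Set (Cfsg.IrrCharacter N)) (hc : Cfsg.IsPBlock M c) (hcov : (∃ χ ∈ B, ∃ θ ∈ c, Cfsg.classInner (fun n : N => (χ : G → ℂ) n) (θ : N → ℂ) ≠ 0)) (hD : ∃ D : Subgroup G, Cfsg.IsDefectGroup p M B D ∧ D ≤ N) (T : Subgroup G) (hT : ∀ x : G, x ∈ T ↔ Cfsg.StabilizesBlock N c x) : T ⊓ L = N := by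
  classical
  haveI := prime_of_isPModular hM
  obtain ⟨D, hD, hDN⟩ := hD
  have hconv : ∀ x : G, Cfsg.StabilizesBlock N c x → conjBlk (mem_normalizer_of_normal (N := N) x) c = c := by
    rintro x ⟨-, hx⟩
    obtain ⟨θ, hθ⟩ := isPBlock_nonempty hc
    obtain ⟨θ', hθ', h⟩ := hx θ hθ
    refine isPBlock_eq_of_mem (isPBlock_conjBlk _ hc) hc ((mem_conjBlk_iff _ c θ).2 hθ) ?_
    have e : conjIrr (mem_normalizer_of_normal (N := N) x) θ = θ' := Subtype.ext (funext fun k => by
      rw [conjIrr_apply, h (normConj (mem_normalizer_of_normal (N := N) x) k) k (by simp [mul_assoc])])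
    rwa [e]
  refine le_antisymm (fun x hx => ?_) (fun n hn => ⟨(hT n).2 ⟨mem_normalizer_of_normal n, fun χ hχ => ⟨χ, hχ, ?_⟩⟩, hNL hn⟩)
  · obtain ⟨hxT, hxL⟩ := hx
    obtain ⟨k, hk⟩ := hLN
    have hord : x ^ p ^ k ∈ N := by
      have h := Subgroup.pow_index_mem (N.subgroupOf L) ⟨x, hxL⟩
      rw [hk] at h
      exact h
    -- the p-part of `x`
    obtain ⟨m, hm⟩ : ∃ m, orderOf x = p ^ (orderOf x).factorization p * m :=
      ⟨_, (Nat.ordProj_mul_ordCompl_eq_self _ p).symm⟩
    set a := (orderOf x).factorization p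
    have hm0 : ¬ p ∣ m := by
      intro hd
      refine Nat.pow_succ_factorization_not_dvd (orderOf_pos x).ne' (Fact.out : p.Prime) ?_
      obtain ⟨d, rfl⟩ := hd
      show p ^ (a + 1) ∣ orderOf x
      exact ⟨d, by rw [hm, pow_succ, mul_assoc]⟩
    have hfix : ∀ n : ℕ, conjBlk (mem_normalizer_of_normal (N := N) (x ^ n)) c = c := by
      intro n
      induction n with
      | zero => rw [conjBlk_ext' (pow_zero x)]; exact conjBlk_one _ c
      | succ n ih => rw [conjBlk_ext' (pow_succ x n), conjBlk_mul', hconv x ((hT x).1 hxT), ih]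
    have hy : x ^ m ∈ N := stab_le_of_defect_le hM hNL ⟨k, hk⟩ hB hc hcov hD hDN (pow_mem hxL m)
      ⟨a, by
        have hm00 : m ≠ 0 := fun h0 => hm0 (by rw [h0]; exact dvd_zero p)
        rw [orderOf_pow_of_dvd hm00 ⟨_, hm.trans (mul_comm _ _)⟩, hm, Nat.mul_div_cancel _ (Nat.pos_of_ne_zero hm00)]⟩ (hfix m)
    have hcop : Nat.Coprime (p ^ k) m := ((Nat.Prime.coprime_iff_not_dvd (Fact.out : p.Prime)).2 hm0).pow_left k
    have h1 := pow_mem hord 1
    have hq : (QuotientGroup.mk x : G ⧸ N) = 1 := by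
      have e1 : (QuotientGroup.mk x : G ⧸ N) ^ (p ^ k) = 1 := (QuotientGroup.eq_one_iff _).2 hord
      have e2 : (QuotientGroup.mk x : G ⧸ N) ^ m = 1 := (QuotientGroup.eq_one_iff _).2 hy
      exact orderOf_eq_one_iff.1 (Nat.eq_one_of_dvd_coprimes hcop (orderOf_dvd_of_pow_eq_one e1) (orderOf_dvd_of_pow_eq_one e2))
    exact (QuotientGroup.eq_one_iff x).1 hq
  · intro a b e
    have h := congrArg (fun θ : IrrCharacter N => (θ : N → ℂ) b) (conjIrr_self_of_mem ⟨n, hn⟩ χ)
    simp only [conjIrr_apply] at h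
    rw [← h]
    exact congrArg (χ : N → ℂ) (Subtype.ext (by simp [e, mul_assoc]))

end Cfsg.Agent.S4673
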