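import Cfsg.Statements.S4674
import Cfsg.Agent.Lib.Block.HarrisKnorr

set_option autoImplicit false
open Cfsg

namespace Cfsg.Agent.S4674

open Cfsg.Agent.Block Cfsg.Agent.Char

/-- Fix a prime p and a maximal ideal M of the algebraic integers containing p. Let N be a normal subgroup of the finite group G, Q a p-subgroup of N, H = N_G(Q) and L = H ∩ N = N_N(Q). Let d be a p-block of N with defect group Q and e the p-block of L with defect group Q that induces d inside N (its Brauer correspondent). Then block induction from H to G is a bijection from the p-blocks of H covering e onto the p-blocks of G covering d: every block of H covering e induces exactly one block of G, and that block covers d; and every block of G covering d is induced by exactly one block of H covering e. -/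
theorem result {G : Type*} [Group G] [Fintype G] (p : ℕ) [Fact p.Prime] (M : Ideal Cfsg.AlgInt) (hM : Cfsg.IsPModular p M) (N : Subgroup G) [N.Normal] [Fintype N] (Q : Subgroup G) (hQ : IsPGroup p Q) (hQN : Q ≤ N) [Fintype ↥(Subgroup.normalizer (Q : Set G) ⊓ N)] (d : Set (Cfsg.IrrCharacter N)) (hd : Cfsg.IsPBlock M d) (hdQ : Cfsg.IsDefectGroup p M d (Q.subgroupOf N)) (e : Set (Cfsg.IrrCharacter ↥(Subgroup.normalizer (Q : Set G) ⊓ N))) (he : Cfsg.IsPBlock M e) (heQ : Cfsg.IsDefectGroup p M e (Q.subgroupOf (Subgroup.normalizer (Q : Set G) ⊓ N))) (hed : Cfsg.IsInducedBlockIn M N (Subgroup.normalizer (Q : Set G) ⊓ N) e d) : (∀ c : Set (Cfsg.IrrCharacter ↥(Subgroup.normalizer (Q : Set G))), Cfsg.IsPBlock M c → (∃ ψ ∈ c, ∃ ξ ∈ e, Cfsg.classInner (fun l : ↥(Subgroup.normalizer (Q : Set G) ⊓ N) => (ψ : ↥(Subgroup.normalizer (Q : Set G)) → ℂ) (Subgroup.inclusion inf_le_left l)) (ξ : ↥(Subgroup.normalizer (Q : Set G) ⊓ N) → ℂ) ≠ 0) → ∃! B : Set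 (Cfsg.IrrCharacter G), Cfsg.IsInducedBlock M (Subgroup.normalizer (Q : Set G)) c B ∧ (∃ χ ∈ B, ∃ θ ∈ d, Cfsg.classInner (fun n : N => (χ : G → ℂ) n) (θ : N → ℂ) ≠ 0)) ∧ (∀ B : Set (Cfsg.IrrCharacter G), Cfsg.IsPBlock M B → (∃ χ ∈ B, ∃ θ ∈ d, Cfsg.classInner (fun n : N => (χ : G → ℂ) n) (θ : N → ℂ) ≠ 0) → ∃! c : Set (Cfsg.IrrCharacter ↥(Subgroup.normalizer (Q : Set G))), (Cfsg.IsPBlock M c ∧ ∃ ψ ∈ c, ∃ ξ ∈ e, Cfsg.classInner (fun l : ↥(Subgroup.normalizer (Q : Set G) ⊓ N) => (ψ : ↥(Subgroup.normalizer (Q : Set G)) → ℂ) (Subgroup.inclusion inf_le_left l)) (ξ : ↥(Subgroup.normalizer (Q : Set G) ⊓ N) → ℂ) ≠ 0) ∧ Cfsg.IsInducedBlock M (Subgroup.normalizer (Q : Set G)) c B) := by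
  classical
  haveI : M.IsPrime := prime_of_isPModular hM
  have hH : Subgroup.normalizer (Q : Set G) = Subgroup.normalizer (Q : Set G) := rfl
  letI := Fintype.ofFinite (Subgroup.normalizer (Q : Set G))
  letI := Fintype.ofFinite (N.subgroupOf (Subgroup.normalizer (Q : Set G)))
  let ρ : (N.subgroupOf (Subgroup.normalizer (Q : Set G))) ≃* ↥((Subgroup.normalizer (Q : Set G)) ⊓ N) :=
    { toFun := fun n => ⟨((n : (Subgroup.normalizer (Q : Set G))) : G), ⟨(n : (Subgroup.normalizer (Q : Set G))).2, n.2⟩⟩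
      invFun := fun l => ⟨⟨(l : G), l.2.1⟩, l.2.2⟩
      left_inv := fun _ => rfl
      right_inv := fun _ => rfl
      map_mul' := fun _ _ => rfl }
  have hQH : Q ≤ (Subgroup.normalizer (Q : Set G)) := Subgroup.le_normalizer
  have he' : IsPBlock M (compIrr ρ '' e) := isPBlock_comp ρ he
  have heQ' := isDefectGroup_comp ρ heQ
  rw [show (Q.subgroupOf ((Subgroup.normalizer (Q : Set G)) ⊓ N)).map ρ.symm.toMonoidHom =
    (Q.subgroupOf (Subgroup.normalizer (Q : Set G))).subgroupOf (N.subgroupOf (Subgroup.normalizer (Q : Set G))) from by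
      ext x; rw [Subgroup.mem_map_equiv]; exact Iff.rfl] at heQ'
  have hed' : IsInducedBlock M ((Subgroup.normalizer (Q : Set G)).subgroupOf N) (compIrr (meetEquiv N (Subgroup.normalizer (Q : Set G))) '' (compIrr ρ '' e)) d := by
    refine ⟨isPBlock_comp _ he', hd, ?_⟩
    rintro _ ⟨_, ⟨η, hη, rfl⟩, rfl⟩ χ hχ g
    have hsum : inducedCentralChar ((Subgroup.normalizer (Q : Set G)).subgroupOf N)
        (fun x => (η : ↥((Subgroup.normalizer (Q : Set G)) ⊓ N) → ℂ) (ρ (meetEquiv N (Subgroup.normalizer (Q : Set G)) x))) g =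
        inducedCentralCharIn N ((Subgroup.normalizer (Q : Set G)) ⊓ N) (η : ↥((Subgroup.normalizer (Q : Set G)) ⊓ N) → ℂ) (g : G) := by
      rw [inducedCentralChar, inducedCentralCharIn]
      refine finsum_mem_eq_of_bijOn (fun x => ρ (meetEquiv N (Subgroup.normalizer (Q : Set G)) x)) ⟨?_, ?_, ?_⟩ fun x _ => ?_
      · intro x hx
        obtain ⟨y, hy⟩ := isConj_iff.1 (IsConj.symm hx)
        exact ⟨y, congrArg Subtype.val hy⟩
      · intro a _ b _ hab
        exact ((meetEquiv N (Subgroup.normalizer (Q : Set G))).trans ρ).injective hab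
      · rintro k ⟨y, hy⟩
        refine ⟨((meetEquiv N (Subgroup.normalizer (Q : Set G))).trans ρ).symm k, IsConj.symm (isConj_iff.2 ⟨y, Subtype.ext hy⟩), ?_⟩
        exact ((meetEquiv N (Subgroup.normalizer (Q : Set G))).trans ρ).apply_symm_apply k
      · rfl
    show MemLocalIdeal M (inducedCentralChar ((Subgroup.normalizer (Q : Set G)).subgroupOf N)
      (fun x => (η : ↥((Subgroup.normalizer (Q : Set G)) ⊓ N) → ℂ) (ρ (meetEquiv N (Subgroup.normalizer (Q : Set G)) x))) g - centralChar (χ : N → ℂ) g)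
    rw [hsum]
    exact hed.2.2 η hη χ hχ g
  have hcov : ∀ c : Set (IrrCharacter (Subgroup.normalizer (Q : Set G))), Covers c (compIrr ρ '' e) ↔
      ∃ ψ ∈ c, ∃ ξ ∈ e, classInner (fun l : ↥((Subgroup.normalizer (Q : Set G)) ⊓ N) => (ψ : (Subgroup.normalizer (Q : Set G)) → ℂ) (Subgroup.inclusion inf_le_left l))
        (ξ : ↥((Subgroup.normalizer (Q : Set G)) ⊓ N) → ℂ) ≠ 0 := by
    intro c
    have key : ∀ (ψ : IrrCharacter (Subgroup.normalizer (Q : Set G))) (ξ : IrrCharacter ↥((Subgroup.normalizer (Q : Set G)) ⊓ N)),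
        classInner (fun n : N.subgroupOf (Subgroup.normalizer (Q : Set G)) => (ψ : (Subgroup.normalizer (Q : Set G)) → ℂ) n) (compIrr ρ ξ : N.subgroupOf (Subgroup.normalizer (Q : Set G)) → ℂ) =
        classInner (fun l : ↥((Subgroup.normalizer (Q : Set G)) ⊓ N) => (ψ : (Subgroup.normalizer (Q : Set G)) → ℂ) (Subgroup.inclusion inf_le_left l))
          (ξ : ↥((Subgroup.normalizer (Q : Set G)) ⊓ N) → ℂ) := fun ψ ξ =>
      classInner_comp_mulEquiv ρ (fun l : ↥((Subgroup.normalizer (Q : Set G)) ⊓ N) => (ψ : (Subgroup.normalizer (Q : Set G)) → ℂ) (Subgroup.inclusion inf_le_left l)) _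
    constructor
    · rintro ⟨ψ, hψ, _, ⟨ξ, hξ, rfl⟩, h⟩
      exact ⟨ψ, hψ, ξ, hξ, key ψ ξ ▸ h⟩
    · rintro ⟨ψ, hψ, ξ, hξ, h⟩
      exact ⟨ψ, hψ, _, ⟨ξ, hξ, rfl⟩, (key ψ ξ).symm ▸ h⟩
  obtain ⟨h1, h2⟩ := harris_knorr hM hQ hQN hH hd hdQ he' heQ' hed'
  refine ⟨fun c hc hce => h1 c hc ((hcov c).2 hce), fun B hB hBd => ?_⟩
  have h3 := h2 B hB hBd
  simp only [hcov] at h3
  exact h3

end Cfsg.Agent.S4674
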