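import Cfsg.Statements.S4678
import Cfsg.Agent.Lib.Block.PairFusion

set_option autoImplicit false
open Cfsg

namespace Cfsg.Agent.S4678

open Cfsg.Agent.Block Cfsg.Agent.Char

/-- Fix a prime p and a maximal ideal M of the algebraic integers containing p, a p-block B of the finite group G with maximal Brauer pair (P, e), its fusion system F on P, and a Brauer pair (Q, f) ≤ (P, e). Then Q is fully centralized in F if and only if C_P(Q) is a defect group of f as a block of C_G(Q). -/
theorem result {G : Type*} [Group G] [Fintype G] (p : ℕ) [Fact p.Prime] (M : Ideal Cfsg.AlgInt) (hM : Cfsg.IsPModular p M) (B : Set (Cfsg.IrrCharacter G)) (P : Subgroup G) (e : Set (Cfsg.IrrCharacter (Subgroup.centralizer (P : Set G)))) (hmax : Cfsg.IsMaximalBrauerPair p M B P e) (F : Cfsg.FusionSystem P) (hF : Cfsg.IsBlockFusionSystemOn p M B P e F) (Q : Subgroup G) (f : Set (Cfsg.IrrCharacter (Subgroup.centralizer (Q : Set G)))) (hQP : Q ≤ P) (hf : Cfsg.IsPBlock M f) (hle : Cfsg.SubpairLE p M Q f P e) : F.IsFullyCentralized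 Q ↔ Cfsg.IsDefectGroup p M f ((P ⊓ Subgroup.centralizer (Q : Set G)).subgroupOf (Subgroup.centralizer (Q : Set G))) := by
  haveI := prime_of_isPModular hM
  obtain ⟨D, hD⟩ := exists_isDefectGroup (p := p) hf
  rw [isDefectGroup_centralizerIn_iff hM hmax hf hD hle]
  constructor
  · intro h
    obtain ⟨D', hD', hle'⟩ := exists_defectGroup_centralizer hM hmax.1.1 hf hle
    obtain ⟨x, hx, hc⟩ := exists_card_centralizerIn_eq hM hmax hf hD hle
    refine le_antisymm ?_ (hc.symm.le.trans (h.2 _ ((isConj_iff_subpair hM hmax hF hle _).2 ⟨x, rfl, hx⟩)))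
    calc _ = _ := (card_centralizerIn P Q).symm
      _ ≤ Nat.card D' := Subgroup.card_le_of_le hle'
      _ = _ := by rw [card_defectGroup hM hf hD', card_defectGroup hM hf hD]
  · intro h
    refine ⟨hQP, fun Q' hQ' => ?_⟩
    obtain ⟨g, rfl, hg⟩ := (isConj_iff_subpair hM hmax hF hle _).1 hQ'
    exact (card_centralizerIn_le hM hmax hf hD hg).trans h.symm.le

end Cfsg.Agent.S4678
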