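import Cfsg.Statements.S4679
import Cfsg.Agent.Lib.Block.StabPair

set_option autoImplicit false
open Cfsg

namespace Cfsg.Agent.S4679

open Cfsg.Agent.Block Cfsg.Agent.Char

/-- Fix a prime p and a maximal ideal M of the algebraic integers containing p, a p-block B of the finite group G with maximal Brauer pair (P, e), its fusion system F on P, a Brauer pair (Q, f) ≤ (P, e), and let T be the stabilizer of f in N_G(Q). Then Q is fully normalized in F if and only if N_P(Q) is a defect group of the block of T whose idempotent is that of f. -/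
theorem result {G : Type*} [Group G] [Fintype G] (p : ℕ) [Fact p.Prime] (M : Ideal Cfsg.AlgInt) (hM : Cfsg.IsPModular p M) (B : Set (Cfsg.IrrCharacter G)) (P : Subgroup G) (e : Set (Cfsg.IrrCharacter (Subgroup.centralizer (P : Set G)))) (hmax : Cfsg.IsMaximalBrauerPair p M B P e) (F : Cfsg.FusionSystem P) (hF : Cfsg.IsBlockFusionSystemOn p M B P e F) (Q : Subgroup G) (f : Set (Cfsg.IrrCharacter (Subgroup.centralizer (Q : Set G)))) (hQP : Q ≤ P) (hf : Cfsg.IsPBlock M f) (hle : Cfsg.SubpairLE p M Q f P e) (T : Subgroup G) (hT : ∀ y : G, y ∈ T ↔ y ∈ Subgroup.normalizer (Q : Set G) ∧ Cfsg.StabilizesBlock (Subgroup.centralizer (Q : Set G)) f y) : F.IsFullyNormalized Q ↔ ∃ F' : Set (Cfsg.IrrCharacter T), Cfsg.IsPBlock M F' ∧ (∀ t : T, Cfsg.blockCoeff F' t = Cfsg.subgroupBlockCoeff (Subgroup.centralizer (Q : Set G)) f (t : G)) ∧ Cfsg.IsDefectGroup p M F' ((P ⊓ Subgroup.normalizer (Q : Set G)).subgroupOf T) := by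
  haveI := prime_of_isPModular hM
  have hpair := (SubpairLE.pairOf_iff hM hle B).1 hmax.1
  obtain ⟨F₀, hF₀⟩ := IsStab.exists_block (p := p) (hT : IsStab Q T f) hM hpair.1
  obtain ⟨D, hD⟩ := exists_isDefectGroup (p := p) hF₀.1
  constructor
  · intro h
    refine ⟨F₀, hF₀.1, hF₀.2, (isDefectGroup_normalizerIn_iff hM hmax.1.1 hle hT hF₀ hD).2 ?_⟩
    obtain ⟨hR, D', hD', hle'⟩ := exists_defectGroup_normalizerIn hM hmax.1.1 hle hT hF₀
    obtain ⟨x, hx, hc⟩ := exists_card_normalizerIn_ge hM hmax hle hT hF₀ hD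
    refine le_antisymm ?_ (hc.trans (h.2 _ ((isConj_iff_subpair hM hmax hF hle _).2 ⟨x, rfl, hx⟩)))
    rw [← Nat.card_congr (Subgroup.subgroupOfEquivOfLe hR).toEquiv,
      card_defectGroup hM hF₀.1 hD, ← card_defectGroup hM hF₀.1 hD']
    exact Subgroup.card_le_of_le hle'
  · rintro ⟨F', h1, h2, h3⟩
    obtain rfl : F' = F₀ := IsBlockOfStab.unique (M := M) (Q := Q) (f := f) ⟨h1, h2⟩ hF₀
    refine ⟨hQP, fun Q' hQ' => ?_⟩
    obtain ⟨g, rfl, hg⟩ := (isConj_iff_subpair hM hmax hF hle _).1 hQ'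
    exact (card_normalizerIn_le hM hmax.1.1 hpair.1 hT hF₀ hD hg).trans
      ((isDefectGroup_normalizerIn_iff hM hmax.1.1 hle hT hF₀ hD).1 h3).symm.le

end Cfsg.Agent.S4679
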