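import Cfsg.Statements.S4680
import Cfsg.Agent.Lib.Block.PairFusion

set_option autoImplicit false
open Cfsg

namespace Cfsg.Agent.S4680

open Cfsg.Agent.Block Cfsg.Agent.Char

/-- Fix a prime p and a maximal ideal M of the algebraic integers containing p, a p-block B of the finite group G with maximal Brauer pair (P, e), its fusion system F on P, and a Brauer pair (Q, f) ≤ (P, e). Then Q is centric in F if and only if Z(Q) is a defect group of f as a block of C_G(Q). -/
theorem result {G : Type*} [Group G] [Fintype G] (p : ℕ) [Fact p.Prime] (M : Ideal Cfsg.AlgInt) (hM : Cfsg.IsPModular p M) (B : Set (Cfsg.IrrCharacter G)) (P : Subgroup G) (e : Set (Cfsg.IrrCharacter (Subgroup.centralizer (P : Set G)))) (hmax : Cfsg.IsMaximalBrauerPair p M B P e) (F : Cfsg.FusionSystem P) (hF : Cfsg.IsBlockFusionSystemOn p M B P e F) (Q : Subgroup G) (f : Set (Cfsg.IrrCharacter (Subgroup.centralizer (Q : Set G)))) (hQP : Q ≤ P) (hf : Cfsg.IsPBlock M f) (hle : Cfsg.SubpairLE p M Q f P e) : F.IsCentric Q ↔ Cfsg.IsDefectGroup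 p M f ((Q ⊓ Subgroup.centralizer (Q : Set G)).subgroupOf (Subgroup.centralizer (Q : Set G))) := by
  haveI := prime_of_isPModular hM
  obtain ⟨D, hD⟩ := exists_isDefectGroup (p := p) hf
  have hZle : Q ⊓ Subgroup.centralizer (Q : Set G) ≤ P ⊓ Subgroup.centralizer (Q : Set G) :=
    inf_le_inf_right _ hQP
  have hcardZ : Nat.card ((Q ⊓ Subgroup.centralizer (Q : Set G)).subgroupOf
        (Subgroup.centralizer (Q : Set G))) =
      Nat.card (Q ⊓ Subgroup.centralizer (Q : Set G) : Subgroup G) :=
    Nat.card_congr (Subgroup.subgroupOfEquivOfLe inf_le_right).toEquiv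
  constructor
  · intro h
    obtain ⟨x, hx, hc⟩ := exists_card_centralizerIn_eq hM hmax hf hD hle
    have h1 := h.2 _ ((isConj_iff_subpair hM hmax hF hle _).2 ⟨x, rfl, hx⟩)
    have h2 : Nat.card D ≤ Nat.card (Q ⊓ Subgroup.centralizer (Q : Set G) : Subgroup G) := by
      rw [← hc, ← card_center_map Q x]
      exact Subgroup.card_le_of_le (le_inf h1 inf_le_right)
    obtain ⟨D', hD', hle'⟩ := exists_defectGroup_centralizer hM hmax.1.1 hf hle
    rwa [Subgroup.eq_of_le_of_card_ge ((show (Q ⊓ Subgroup.centralizer (Q : Set G)).subgroupOf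
        (Subgroup.centralizer (Q : Set G)) ≤ _ from fun a ha => hle' (hZle ha))) (by
      rw [hcardZ, card_defectGroup hM hf hD', ← card_defectGroup hM hf hD]; exact h2)]
  · intro h
    refine ⟨hQP, fun Q' hQ' => ?_⟩
    obtain ⟨g, rfl, hg⟩ := (isConj_iff_subpair hM hmax hF hle _).1 hQ'
    have h1 := card_centralizerIn_le hM hmax hf hD hg
    have h2 : Nat.card D ≤ Nat.card (Q.map (MulAut.conj g).toMonoidHom ⊓ Subgroup.centralizer
        ((Q.map (MulAut.conj g).toMonoidHom : Subgroup G) : Set G) : Subgroup G) := by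
      rw [card_center_map, ← hcardZ, card_defectGroup hM hf hD, card_defectGroup hM hf h]
    have h3 := Subgroup.eq_of_le_of_card_ge
      (inf_le_inf_right (Subgroup.centralizer ((Q.map (MulAut.conj g).toMonoidHom : Subgroup G) : Set G))
        (SubpairLE.le hg)) (h1.trans h2)
    exact h3.ge.trans inf_le_left

end Cfsg.Agent.S4680
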