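import Cfsg.Statements.S4681
import Cfsg.Agent.Lib.Block.PairMax
import Cfsg.Agent.Lib.Block.Kulshammer

set_option autoImplicit false
open Cfsg

namespace Cfsg.Agent.S4681

open Cfsg.Agent.Block Cfsg.Agent.Char

/-- Fix a prime p and a maximal ideal M of the algebraic integers containing p. Let B₀ be the principal p-block of the finite group G, P a Sylow p-subgroup and e₀ the principal p-block of C_G(P). Then (P, e₀) is a maximal Brauer pair of B₀, and the fusion system of B₀ on (P, e₀) is the fusion system of G on P: its maps from each subgroup of P are exactly the conjugation maps into P by elements of G. -/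
theorem result {G : Type*} [Group G] [Fintype G] (p : ℕ) [Fact p.Prime] (M : Ideal Cfsg.AlgInt) (hM : Cfsg.IsPModular p M) (S : Sylow p G) : Cfsg.IsMaximalBrauerPair p M (Cfsg.principalBlock M G) (S : Subgroup G) (Cfsg.principalBlock M (Subgroup.centralizer ((S : Subgroup G) : Set G))) ∧ ∀ F : Cfsg.FusionSystem (S : Subgroup G), Cfsg.IsBlockFusionSystemOn p M (Cfsg.principalBlock M G) (S : Subgroup G) (Cfsg.principalBlock M (Subgroup.centralizer ((S : Subgroup G) : Set G))) F → ∀ Q : Subgroup G, F.Hom Q = (Cfsg.groupFusionSystem (S : Subgroup G)).Hom Q := by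
  haveI := prime_of_isPModular hM
  classical
  have hblk : ∀ Q : Subgroup G, Cfsg.IsPBlock M
      (Cfsg.principalBlock M (Subgroup.centralizer (Q : Set G))) :=
    fun Q => ⟨⟨fun _ => 1, isIrrCharacter_one⟩, rfl⟩
  have hB : Cfsg.IsPBlock M (Cfsg.principalBlock M G) := ⟨⟨fun _ => 1, isIrrCharacter_one⟩, rfl⟩
  -- the pairs of the principal block are the principal ones
  have hiff : ∀ (Q : Subgroup G) (f : Set (Cfsg.IrrCharacter (Subgroup.centralizer (Q : Set G)))),
      Cfsg.IsBrauerPairOf p M (Cfsg.principalBlock M G) Q f ↔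
        IsPGroup p Q ∧ f = Cfsg.principalBlock M (Subgroup.centralizer (Q : Set G)) := by
    intro Q f
    constructor
    · intro h
      refine ⟨h.1.1, ?_⟩
      obtain ⟨ξ, hξ⟩ := isPBlock_nonempty h.1.2
      by_contra hne
      have hn : ξ ∉ Cfsg.principalBlock M (Subgroup.centralizer (Q : Set G)) :=
        fun h' => hne (isPBlock_eq_of_mem h.1.2 (hblk Q) hξ h')
      have h1 := brauerOmega_principal hM h.1.1 ξ
      rw [if_neg hn, sub_zero] at h1
      have h2 := memLocalIdeal_sub h1 (h.2.2 ξ hξ)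
      rw [sub_sub_cancel] at h2
      exact not_memLocalIdeal_one h2
    · rintro ⟨hQ, rfl⟩
      refine ⟨⟨hQ, hblk Q⟩, hB, fun ξ hξ => ?_⟩
      have h1 := brauerOmega_principal hM hQ ξ
      rwa [if_pos hξ] at h1
  have hS : IsPGroup p (S : Subgroup G) := S.2
  have hpair := (hiff (S : Subgroup G) _).2 ⟨hS, rfl⟩
  have hmax : Cfsg.IsMaximalBrauerPair p M (Cfsg.principalBlock M G) (S : Subgroup G)
      (Cfsg.principalBlock M (Subgroup.centralizer ((S : Subgroup G) : Set G))) :=
    ⟨hpair, fun R g hg hle => S.3 hg.1.1 (SubpairLE.le hle)⟩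
  refine ⟨hmax, fun F hF Q => Set.ext fun φ => ?_⟩
  rw [hF.2 Q φ]
  -- the pair below on each subgroup is principal
  have hbelow : ∀ R : Subgroup G, R ≤ (S : Subgroup G) → Cfsg.SubpairLE p M R
      (Cfsg.principalBlock M (Subgroup.centralizer (R : Set G))) (S : Subgroup G)
      (Cfsg.principalBlock M (Subgroup.centralizer ((S : Subgroup G) : Set G))) := fun R hR => by
    obtain ⟨f, hf, -⟩ := existsUnique_subpair hM (S : Subgroup G) _ hpair.1 R hR
    have h2 := ((hiff R f).1 ((SubpairLE.pairOf_iff hM hf _).1 hpair)).2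
    rwa [h2] at hf
  constructor
  · rintro ⟨hQS, g, hg, hgS, -⟩
    exact ⟨hQS, fun x => hgS ⟨x, x.2, (hg x).symm⟩, g, hg⟩
  · rintro ⟨hQS, hin, g, hg⟩
    refine ⟨hQS, g, hg, ?_, _, hbelow Q hQS, ?_⟩
    · rintro _ ⟨x, hx, rfl⟩
      have := hin ⟨x, hx⟩
      rw [hg ⟨x, hx⟩] at this
      exact this
    · rw [conjBlock_eq, trivial_mem_comp _ rfl]
      refine hbelow _ ?_
      rintro _ ⟨x, hx, rfl⟩
      have := hin ⟨x, hx⟩
      rw [hg ⟨x, hx⟩] at this
      exact this

end Cfsg.Agent.S4681
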