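import Cfsg.Statements.S4682
import Cfsg.Agent.Lib.Block.AbelianPair

set_option autoImplicit false
open Cfsg

namespace Cfsg.Agent.S4682

open Cfsg.Agent.Block Cfsg.Agent.Char

/-- Fix a prime p and a maximal ideal M of the algebraic integers containing p, a p-block B of the finite group G with maximal Brauer pair (P, e), P abelian, and a Brauer pair (Q, f) ≤ (P, e). Let T_Q be the stabilizer of f in N_G(Q) and T_P the stabilizer of e in N_G(P). Then every element of T_Q is a product of an element of T_P and an element of C_G(Q); and the index of C_G(Q) in T_Q equals the index of T_P ∩ C_G(Q) in T_P ∩ N_G(Q). -/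
theorem result {G : Type*} [Group G] [Fintype G] (p : ℕ) [Fact p.Prime] (M : Ideal Cfsg.AlgInt) (hM : Cfsg.IsPModular p M) (B : Set (Cfsg.IrrCharacter G)) (P : Subgroup G) (e : Set (Cfsg.IrrCharacter (Subgroup.centralizer (P : Set G)))) (hmax : Cfsg.IsMaximalBrauerPair p M B P e) (hab : ∀ x ∈ P, ∀ y ∈ P, x * y = y * x) (Q : Subgroup G) (f : Set (Cfsg.IrrCharacter (Subgroup.centralizer (Q : Set G)))) (hQP : Q ≤ P) (hf : Cfsg.IsPBlock M f) (hle : Cfsg.SubpairLE p M Q f P e) (TQ : Subgroup G) (hTQ : ∀ y : G, y ∈ TQ ↔ y ∈ Subgroup.normalizer (Q : Set G) ∧ Cfsg.StabilizesBlock (Subgroup.centralizer (Q : Set G)) f y) (TP : Subgroup G) (hTP : ∀ y : G, y ∈ TP ↔ y ∈ Subgroup.normalizer (P : Set G) ∧ Cfsg.StabilizesBlock (Subgroup.centralizer (P : Set G)) e y) : (∀ x ∈ TQ, ∃ y ∈ TP, ∃ c ∈ Subgroup.centralizer (Q : Set G), x = y * c) ∧ ((Subgroup.centralizer (Q : Set G)).subgroupOf TQ).index = ((TP ⊓ Subgroup.centralizer (Q :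 Set G)).subgroupOf (TP ⊓ Subgroup.normalizer (Q : Set G))).index := by
  haveI := prime_of_isPModular hM
  have h1 : ∀ x ∈ TQ, ∃ y ∈ TP, y ∈ Subgroup.normalizer (Q : Set G) ∧
      y⁻¹ * x ∈ Subgroup.centralizer (Q : Set G) := fun x hx =>
    exists_factor_abelian hM hmax hab hle hTQ hTP hx
  refine ⟨fun x hx => ?_, ?_⟩
  · obtain ⟨y, hy, -, hc⟩ := h1 x hx
    exact ⟨y, hy, _, hc, by group⟩
  have h2 : TP ⊓ Subgroup.normalizer (Q : Set G) ≤ TQ := fun y hy =>
    (hTQ y).2 ⟨hy.2, stab_of_le hM hmax.1.1 hle ((hTP y).1 hy.1).1 ((hTP y).1 hy.1).2 hy.2⟩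
  let π := stabAct Q TQ (IsStab.le_normalizer (f := f) hTQ)
  let π' := π.comp (Subgroup.inclusion h2)
  have hk : π.ker = (Subgroup.centralizer (Q : Set G)).subgroupOf TQ :=
    Subgroup.ext fun t => stabAct_eq_one_iff t
  have hk' : π'.ker = (TP ⊓ Subgroup.centralizer (Q : Set G)).subgroupOf
      (TP ⊓ Subgroup.normalizer (Q : Set G)) :=
    Subgroup.ext fun t => (stabAct_eq_one_iff (Subgroup.inclusion h2 t)).trans
      ⟨fun h => ⟨t.2.1, h⟩, fun h => h.2⟩
  rw [← hk, ← hk', Subgroup.index_ker, Subgroup.index_ker]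
  suffices h3 : π.range = π'.range by rw [h3]
  refine le_antisymm ?_ ?_
  · rintro _ ⟨x, rfl⟩
    obtain ⟨y, hy, hyN, hc⟩ := h1 x x.2
    refine ⟨⟨y, hy, hyN⟩, ?_⟩
    have h4 : π (⟨y, h2 ⟨hy, hyN⟩⟩⁻¹ * x) = 1 := (stabAct_eq_one_iff _).2 hc
    rw [map_mul, map_inv] at h4
    exact inv_mul_eq_one.1 h4
  · rintro _ ⟨x, rfl⟩
    exact ⟨_, rfl⟩

end Cfsg.Agent.S4682
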