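import Cfsg.Statements.S4683
import Cfsg.Agent.Lib.Block.Columns

set_option autoImplicit false
open Cfsg

namespace Cfsg.Agent.S4683

open Cfsg.Agent.Block Cfsg.Agent.Char

/-- Fix a prime p and a maximal ideal M of the algebraic integers containing p, a p-block B of the finite group G, a p-element u and a p-block e of C = C_G(u) such that (⟨u⟩, e) is a Brauer pair of B (a Brauer element of B). For χ ∈ B let χ_u be the e-part of the class function c ↦ χ(u c) on C and χ_u' the e-part of c ↦ χ(u⁻¹ c). Then the sum over χ ∈ B and over the p-regular elements s of C of χ_u(s)·χ_u'(s⁻¹) equals the order of C times the p-regular rank of e (the number of irreducible Brauer characters of e). -/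
theorem result {G : Type*} [Group G] [Fintype G] (p : ℕ) [Fact p.Prime] (M : Ideal Cfsg.AlgInt) (hM : Cfsg.IsPModular p M) (B : Set (Cfsg.IrrCharacter G)) (u : G) (hu : ∃ k : ℕ, orderOf u = p ^ k) (e : Set (Cfsg.IrrCharacter (Subgroup.centralizer (Subgroup.zpowers u : Set G)))) (hBe : Cfsg.IsBrauerPairOf p M B (Subgroup.zpowers u) e) : ∑ᶠ χ ∈ B, ∑ᶠ s : Subgroup.centralizer (Subgroup.zpowers u : Set G), Cfsg.pRegularPart p (Cfsg.blockPart e (fun c : Subgroup.centralizer (Subgroup.zpowers u : Set G) => (χ : G → ℂ) (u * c))) s * Cfsg.blockPart e (fun c : Subgroup.centralizer (Subgroup.zpowers u : Set G) => (χ : G → ℂ) (u⁻¹ * c)) s⁻¹ = (Nat.card (Subgroup.centralizer (Subgroup.zpowers u : Set G)) : ℂ) * (Cfsg.blockRank p e : ℂ) := by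
  classical
  haveI := Fintype.ofFinite (Subgroup.centralizer (Subgroup.zpowers u : Set G))
  obtain ⟨⟨hQ, he⟩, hB, hω⟩ := hBe
  have hind : IsInducedBlock M (Subgroup.centralizer (Subgroup.zpowers u : Set G)) e B :=
    (isInducedBlock_iff_brauerOmega hM hQ (zpowers_le_centralizer_zpowers u) hB he).2 hω
  have key := sum_localPart_norm_of_eq hM hu hB _ (centralizer_zpowers u) ‹_› e hind
  rw [← key, finsum_mem_eq_finite_toFinset_sum _ B.toFinite]
  refine Finset.sum_congr rfl fun χ _ => ?_
  rw [finsum_eq_sum_of_fintype]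
  refine Finset.sum_congr rfl fun s _ => ?_
  rw [pRegularPart_apply]
  by_cases hs : p ∣ orderOf s
  · rw [if_pos hs, if_pos hs, zero_mul]
  · rw [if_neg hs, if_neg hs]
    congr 1
    rw [blockPart_eq_sum, blockPart_eq_sum, map_mul, map_inv₀, Complex.conj_natCast, map_sum]
    congr 1
    refine Fintype.sum_equiv (Equiv.inv _) _ _ fun c => ?_
    rw [map_mul, blockKernel_conj]
    congr 1
    · have hc : Commute u (c : G) :=
        centralizer_coe_iff (⟨c.1, centralizer_zpowers u ▸ c.2⟩ : Subgroup.centralizer ({u} : Set G))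
      have hinv := IsCharacter.map_inv (IsIrrCharacter.isCharacter χ.2) (u * (c : G)⁻¹)
      simp only [Equiv.inv_apply, Subgroup.coe_inv]
      rw [← hinv, mul_inv_rev, inv_inv, ← hc.inv_left.eq]
    · simp only [Equiv.inv_apply, blockKernel, IsCharacter.map_inv (IsIrrCharacter.isCharacter (Subtype.prop _))]
      refine finsum_congr fun ξ => finsum_congr fun _ => ?_
      ring

end Cfsg.Agent.S4683
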