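import Cfsg.Statements.S4691
import Cfsg.Agent.S4646

set_option autoImplicit false
open Cfsg

namespace Cfsg.Agent.S4691

open Cfsg.Agent.Block Cfsg.Agent.Char

/-- Fix a prime p and a maximal ideal M of the algebraic integers containing p. A finite group G has a normal p-complement if and only if its principal p-block is nilpotent. -/
theorem result {G : Type*} [Group G] [Fintype G] (p : ℕ) [Fact p.Prime] (M : Ideal Cfsg.AlgInt) (hM : Cfsg.IsPModular p M) : Cfsg.HasNormalPComplement p G ↔ Cfsg.IsNilpotentBlock p M (Cfsg.principalBlock M G) := by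
  classical
  haveI := Fintype.ofFinite G
  haveI := prime_of_isPModular hM
  let one : Cfsg.IrrCharacter G := ⟨fun _ => 1, isIrrCharacter_one⟩
  have hB : Cfsg.IsPBlock M (Cfsg.principalBlock M G) := ⟨one, rfl⟩
  refine ⟨fun h => (Cfsg.Agent.S4646.result p M hM).2 (blockRank_principal_eq_one hM
    (regular_iff_mem_pPrimeCore (Solv.hasNormalPComplement_iff_index.mp h))), fun hn => ?_⟩
  have hF : Solv.FrobeniusCond p G := by
    intro Q hQ g hg hgc
    have he : Cfsg.IsPBlock M (Cfsg.principalBlock M (Subgroup.centralizer (Q : Set G))) :=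
      ⟨⟨fun _ => 1, isIrrCharacter_one⟩, rfl⟩
    refine hn.2 Q _ ⟨⟨hQ, he⟩, hB, fun ξ hξ => ?_⟩ g hg (stabilizesBlock_principal _ ?_) ?_
    · have h := brauerOmega_principal hM hQ ξ
      rwa [if_pos hξ] at h
    · refine Subgroup.mem_normalizer_iff.2 fun c => ?_
      simp only [mem_centralizer_subgroup]
      have key : ∀ (g c : G), g ∈ Subgroup.normalizer (Q : Set G) → Q ≤ Subgroup.centralizer ({c} : Set G) →
          Q ≤ Subgroup.centralizer ({g * c * g⁻¹} : Set G) := by
        intro g c hg hc q hq
        have hq' : g⁻¹ * q * g ∈ Q := by simpa using (Subgroup.mem_normalizer_iff.1 (inv_mem hg) q).1 hq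
        have h : Commute (g⁻¹ * q * g) c := (mem_centralizer_singleton.1 (hc hq')).symm
        refine mem_centralizer_singleton.2 (Commute.symm ?_)
        show q * (g * c * g⁻¹) = g * c * g⁻¹ * q
        calc q * (g * c * g⁻¹) = g * (g⁻¹ * q * g * c) * g⁻¹ := by group
          _ = g * (c * (g⁻¹ * q * g)) * g⁻¹ := by rw [h.eq]
          _ = g * c * g⁻¹ * q := by group
      refine ⟨fun hc => key g c hg hc, fun hc => ?_⟩
      have h := key g⁻¹ _ (inv_mem hg) hc
      simpa [mul_assoc] using h
    · show ¬ p ∣ orderOf g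
      rw [← (Fact.out : p.Prime).coprime_iff_not_dvd, Nat.coprime_comm]
      exact hgc
  exact hF.hasNormalPComplement

end Cfsg.Agent.S4691
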