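import Cfsg.Statements.S4702
import Cfsg.Agent.Lib.Perm.SharplyThree

set_option autoImplicit false
open Cfsg

namespace Cfsg.Agent.S4702

/-- Let G be a triply transitive permutation group on a finite set of odd size m ≥ 3 in which only the identity fixes three or more points. Then m = 2^a + 1 for some a ≥ 1 and G is isomorphic to SL(2, 2^a). -/
theorem result {α : Type*} [Fintype α] [DecidableEq α] (hm : 3 ≤ Fintype.card α) (hodd : Odd (Fintype.card α)) (G : Subgroup (Equiv.Perm α)) (h3 : MulAction.IsMultiplyPretransitive G α 3) (hfix : ∀ g : G, 3 ≤ Nat.card (MulAction.fixedBy α g) → g = 1) : ∃ a : ℕ, 1 ≤ a ∧ Fintype.card α = 2 ^ a + 1 ∧ ∃ (F : Type) (_ : Field F) (_ : Fintype F), Fintype.card F = 2 ^ a ∧ Nonempty (G ≃* Matrix.SpecialLinearGroup (Fin 2) F) := by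
  classical
  have hyp : Cfsg.Agent.Perm.SharplyThree.Hyp G α := by
    refine Cfsg.Agent.Perm.SharplyThree.hyp_of_pretransitive h3 ?_ (by rwa [Nat.card_eq_fintype_card])
      (by rwa [Nat.card_eq_fintype_card])
    intro g x₁ x₂ x₃ a b c e1 e2 e3
    refine hfix g ?_
    let t : Fin 3 → MulAction.fixedBy α g := ![⟨x₁, e1⟩, ⟨x₂, e2⟩, ⟨x₃, e3⟩]
    have ht : Function.Injective t := by
      have hx : Function.Injective ![x₁, x₂, x₃] := by
        intro i j e
        fin_cases i <;> fin_cases j <;> simp_all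
      have hval : ∀ i, (t i).1 = ![x₁, x₂, x₃] i := by intro i; fin_cases i <;> rfl
      intro i j e
      exact hx (by rw [← hval, ← hval, e])
    simpa using Nat.card_le_card_of_injective t ht
  obtain ⟨f, hf, hcard, ⟨e⟩, -⟩ := Cfsg.Agent.Perm.SharplyThree.main hyp
  rw [Nat.card_eq_fintype_card] at hcard
  haveI : Fact (Nat.Prime 2) := ⟨Nat.prime_two⟩
  letI : Fintype (GaloisField 2 f) := Fintype.ofFinite _
  exact ⟨f, hf, hcard, GaloisField 2 f, inferInstance, inferInstance,
    by rw [← Nat.card_eq_fintype_card, GaloisField.card 2 f (by omega)], ⟨e⟩⟩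

end Cfsg.Agent.S4702
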