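import Cfsg.Statements.S4709
import Cfsg.Agent.Lib.Block.AbelianTIPrincipal

set_option autoImplicit false
set_option maxHeartbeats 800000
set_option linter.style.haveILetI false
set_option linter.unusedVariables false
open Cfsg

namespace Cfsg.Agent.S4709

open Cfsg.Agent Cfsg.Agent.Char Cfsg.Agent.Block

/-- Let p be a prime, M a maximal ideal of the algebraic integers containing p, and G a finite group with a nontrivial abelian Sylow p-subgroup P; put N = N_G(P), C = C_G(P). Suppose N/C is cyclic of order m with 1 < m < #P − 1 (C has index m in N and N is generated by C and one element), and C_G(y) ∩ N = C for every non-identity y ∈ P. Put r = (#P − 1)/m. Then there is s ≤ m such that the principal p-block is the disjoint union of a set X of s characters containing the principal character and a set Y of r characters, with integers a_χ ≠ 0 (χ ∈ X), d and a sign δ = ±1, such that: every χ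 ∈ X takes the value a_χ at every element whose p-part is a non-identity element of P; there is a map ζ from the non-principal linear characters ψ of P onto Y, constant on N-conjugacy classes, with ζ_ψ(z) = d + δ·Σ ψ'(y) for every z whose p-part y is a non-identity element of P, the sum running over the N-conjugates ψ' of ψ; (d − δ)^2 + (r − 1) d^2 + Σ_{χ ∈ X} a_χ^2 = m + 1; all members of Y agree on p-regular elements; and (r d − δ) η(g) + Σ_{χ ∈ X} a_χ χ(g) = 0 for every η ∈ Y and every p-regular g. -/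
theorem result {G : Type*} [Group G] [Finite G] (p : ℕ) [Fact p.Prime] (M : Ideal Cfsg.AlgInt) (hM : Cfsg.IsPModular p M) (P : Sylow p G) (hab : IsMulCommutative P) (hP1 : Nat.card P ≠ 1) (m : ℕ) (hm1 : 1 < m) (hm2 : m + 1 < Nat.card P) (hCN : (Subgroup.centralizer ((P : Subgroup G) : Set G)).relIndex (Subgroup.normalizer ((P : Subgroup G) : Set G)) = m) (hcyc : ∃ g : G, g ∈ Subgroup.normalizer ((P : Subgroup G) : Set G) ∧ Subgroup.centralizer ((P : Subgroup G) : Set G) ⊔ Subgroup.zpowers g = Subgroup.normalizer ((P : Subgroup G) : Set G)) (hfrob : ∀ y : G, y ∈ (P : Subgroup G) → y ≠ 1 → Subgroup.centralizer ({y} : Set G) ⊓ Subgroup.normalizer ((P : Subgroup G) : Set G) = Subgroup.centralizer ((P : Subgroup G) : Set G)) : ∃ (s : ℕ) (X Y : Set (Cfsg.IrrCharacter G)), s ≤ m ∧ Cfsg.principalBlock M G = X ∪ Y ∧ Disjoint X Y ∧ Nat.card X = s ∧ Nat.card Y = (Nat.card P - 1) / m ∧ (∃ χ₁ ∈ X, (χ₁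 : G → ℂ) = fun _ => 1) ∧ ∃ (a : Cfsg.IrrCharacter G → ℤ) (d δ : ℤ) (ζ : (↥(P : Subgroup G) →* ℂˣ) → Cfsg.IrrCharacter G), (δ = 1 ∨ δ = -1) ∧ (∀ χ ∈ X, a χ ≠ 0 ∧ ∀ z y : G, Cfsg.IsPPart p z y → y ∈ (P : Subgroup G) → y ≠ 1 → (χ : G → ℂ) z = (a χ : ℂ)) ∧ (∀ ψ : ↥(P : Subgroup G) →* ℂˣ, ψ ≠ 1 → ζ ψ ∈ Y) ∧ (∀ η ∈ Y, ∃ ψ : ↥(P : Subgroup G) →* ℂˣ, ψ ≠ 1 ∧ ζ ψ = η) ∧ (∀ ψ ψ' : ↥(P : Subgroup G) →* ℂˣ, ψ ≠ 1 → (∃ n : G, n ∈ Subgroup.normalizer ((P : Subgroup G) : Set G) ∧ ∀ w w' : ↥(P : Subgroup G), (w' : G) = n * w * n⁻¹ → ψ' w' = ψ w) → ζ ψ' = ζ ψ) ∧ (∀ ψ : ↥(P : Subgroup G) →* ℂˣ, ψ ≠ 1 → ∀ (z : G) (y : ↥(P : Subgroup G)), Cfsg.IsPPart p z (y : G) → (y : G) ≠ 1 → (ζ ψ : G → ℂ) z = (d : ℂ) + (δ : ℂ) * ∑ᶠ ψ' ∈ {ψ' : ↥(P : Subgroup G) →* ℂˣ | ∃ n : G, n ∈ Subgroup.normalizer ((P : Subgroup G) : Set G) ∧ ∀ w w' : ↥(P : Subgroup G), (w' : G) = n * w * n⁻¹ → ψ' w' = ψ w}, ((ψ' y : ℂˣ) : ℂ)) ∧ ((d -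 δ) ^ 2 + ((Nat.card P - 1) / m - 1 : ℤ) * d ^ 2 + ∑ᶠ χ ∈ X, a χ ^ 2 = (m : ℤ) + 1) ∧ (∀ η ∈ Y, ∀ η' ∈ Y, ∀ g : G, ¬ p ∣ orderOf g → (η : G → ℂ) g = (η' : G → ℂ) g) ∧ (∀ η ∈ Y, ∀ g : G, ¬ p ∣ orderOf g → ((((Nat.card P - 1) / m : ℕ) : ℂ) * d - δ) * (η : G → ℂ) g + ∑ᶠ χ ∈ X, (a χ : ℂ) * (χ : G → ℂ) g = 0) := by
  classical
  haveI := Fintype.ofFinite (P : Subgroup G)
  haveI := prime_of_isPModular hM
  have h : AbTI.Hyp P m := ⟨fun a b => hab.is_comm.comm a b, hCN, hfrob⟩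
  haveI : Finite ((P : Subgroup G) →* ℂˣ) := by
    refine Nat.finite_of_card_ne_zero ?_
    rw [card_monoidHom_units]
    exact Subgroup.index_ne_zero_of_finite
  haveI := Fintype.ofFinite ((P : Subgroup G) →* ℂˣ)
  obtain ⟨ζ, δ, d, c, hD⟩ := h.exists_data hM hm2
  let one : IrrCharacter G := ⟨fun _ => 1, isIrrCharacter_one⟩
  have h1B : one ∈ principalBlock M G := sameBlock_refl _
  obtain ⟨hc1, hζ1⟩ := hD.trivial_apply h hm2 (one := one) rfl h1B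
  set YF := (Finset.univ.erase (1 : (P : Subgroup G) →* ℂˣ)).image ζ with hYF
  set BF := (principalBlock M G).toFinite.toFinset with hBF
  have hYB : YF ⊆ BF := fun η hη => by
    obtain ⟨ψ, hψ, rfl⟩ := Finset.mem_image.1 hη
    exact (Set.Finite.mem_toFinset _).2 (hD.mem ψ (Finset.ne_of_mem_erase hψ))
  have hY : ∀ ψ, ψ ≠ 1 → ζ ψ ∈ YF := fun ψ hψ =>
    Finset.mem_image.2 ⟨ψ, Finset.mem_erase.2 ⟨hψ, Finset.mem_univ _⟩, rfl⟩
  have hX : ∀ χ ∈ BF \ YF, c χ ≠ 0 := fun χ hχ => by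
    obtain ⟨hχB, hχY⟩ := Finset.mem_sdiff.1 hχ
    exact hD.coeff_ne_zero h hM hm2 ((Set.Finite.mem_toFinset _).1 hχB) fun ψ hψ e => hχY (e ▸ hY ψ hψ)
  have hr : YF.card * m = Nat.card P - 1 := hD.card_image h
  have hr' : (Nat.card P - 1) / m = YF.card := Nat.div_eq_of_eq_mul_left (by omega) hr.symm
  have hcd : ∀ η ∈ YF, c η = d := fun η hη => by
    obtain ⟨ψ, hψ, rfl⟩ := Finset.mem_image.1 hη
    exact hD.coef_zeta ψ (Finset.ne_of_mem_erase hψ)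
  have hnorm : ∑ χ ∈ BF \ YF, c χ * c χ + (YF.card : ℤ) * (d * d) + 2 * δ * d = m := by
    have hn := hD.norm
    rw [← hBF, ← Finset.sum_sdiff hYB, Finset.sum_congr rfl (g := fun _ => d * d)
      (fun η (hη : η ∈ YF) => by rw [hcd η hη]), Finset.sum_const, nsmul_eq_mul] at hn
    exact hn
  have hsq : δ * δ = 1 := by rcases hD.sign with e | e <;> simp [e]
  have hr2 : 2 ≤ YF.card := by
    rcases Nat.lt_or_ge YF.card 2 with hlt | hge
    · have : YF.card * m ≤ 1 * m := Nat.mul_le_mul_right m (by omega)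
      omega
    · exact hge
  have hs : (BF \ YF).card ≤ m := by
    have h1 : ((BF \ YF).card : ℤ) ≤ ∑ χ ∈ BF \ YF, c χ * c χ := by
      rw [Finset.card_eq_sum_ones, Nat.cast_sum, Nat.cast_one]
      exact Finset.sum_le_sum fun χ hχ => by
        rcases lt_or_gt_of_ne (hX χ hχ) with hh | hh <;> nlinarith
    have h2 : (0 : ℤ) ≤ (YF.card : ℤ) * (d * d) + 2 * δ * d := by
      have h2' : (2 : ℤ) ≤ YF.card := by exact_mod_cast hr2
      rcases eq_or_ne d 0 with hd | hd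
      · simp [hd]
      have hdd : 0 < d * d := mul_self_pos.2 hd
      have : 0 ≤ (d + δ) * (d + δ) := mul_self_nonneg _
      nlinarith
    have : ((BF \ YF).card : ℤ) ≤ m := by linarith
    exact_mod_cast this
  have hval : ∀ χ ∈ BF, ∀ (z y : G), IsPPart p z y → ∀ hy : y ∈ (P : Subgroup G), y ≠ 1 →
      (χ : G → ℂ) z = -(c χ : ℂ) + (δ : ℂ) *
        ∑ ψ ∈ Finset.univ.filter (fun ψ : (P : Subgroup G) →* ℂˣ => ψ ≠ 1 ∧ ζ ψ = χ), (ψ ⟨y, hy⟩ : ℂ) :=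
    fun χ hχ z y hz hy hy1 => by
      have hχB := (Set.Finite.mem_toFinset _).1 hχ
      rw [h.apply_section hM hχB hz hy hy1]
      exact hD.apply_eq h.comm hχB (y := ⟨y, hy⟩) fun e => hy1 (congrArg Subtype.val e)
  refine ⟨(BF \ YF).card, ↑(BF \ YF), ↑YF, hs, ?_, ?_, ?_, ?_, ⟨one, ?_, rfl⟩, fun χ => -c χ, -d, δ, ζ,
    hD.sign, ?_, ?_, ?_, ?_, ?_, ?_, ?_, ?_⟩
  · rw [← Finset.coe_union, Finset.sdiff_union_of_subset hYB, hBF, Set.Finite.coe_toFinset]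
  · exact Finset.disjoint_coe.2 Finset.sdiff_disjoint
  · rw [Nat.card_coe_set_eq, Set.ncard_coe_finset]
  · rw [Nat.card_coe_set_eq, Set.ncard_coe_finset, hr']
  · refine Finset.mem_coe.2 (Finset.mem_sdiff.2 ⟨(Set.Finite.mem_toFinset _).2 h1B, fun hm => ?_⟩)
    obtain ⟨ψ, hψ, e⟩ := Finset.mem_image.1 hm
    exact hζ1 ψ (Finset.ne_of_mem_erase hψ) e
  · intro χ hχ
    rw [Finset.mem_coe] at hχ
    refine ⟨neg_ne_zero.2 (hX χ hχ), fun z y hz hy hy1 => ?_⟩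
    obtain ⟨hχB, hχY⟩ := Finset.mem_sdiff.1 hχ
    rw [hval χ hχB z y hz hy hy1, Finset.sum_eq_zero fun ψ hψ => ?_, mul_zero, add_zero]
    · push_cast; rfl
    · simp only [Finset.mem_filter, Finset.mem_univ, true_and] at hψ
      exact absurd (hψ.2 ▸ hY ψ hψ.1) hχY
  · exact fun ψ hψ => hY ψ hψ
  · intro η hη
    obtain ⟨ψ, hψ, e⟩ := Finset.mem_image.1 (Finset.mem_coe.1 hη)
    exact ⟨ψ, Finset.ne_of_mem_erase hψ, e⟩
  · intro ψ ψ' hψ hn
    have ht : AbTI.Twist P ψ ψ' := hn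
    have hψ' : ψ' ≠ 1 := fun e => hψ (by
      obtain ⟨n, hn'⟩ := (AbTI.twist_iff P ψ ψ').1 ht
      rw [← hn', e, AbTI.one_tw])
    exact ((hD.eq_iff ψ ψ' hψ hψ').2 ht).symm
  · intro ψ hψ z y hz hy1
    rw [hval (ζ ψ) ((Set.Finite.mem_toFinset _).2 (hD.mem ψ hψ)) z y hz y.2 hy1, hD.coef_zeta ψ hψ]
    rw [show {ψ' : (P : Subgroup G) →* ℂˣ | ∃ n : G, n ∈ Subgroup.normalizer ((P : Subgroup G) : Set G) ∧
      ∀ w w' : (P : Subgroup G), (w' : G) = n * w * n⁻¹ → ψ' w' = ψ w} = _ from hD.fibre_eq hψ,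
      finsum_mem_coe_finset]
    push_cast
    rfl
  · rw [finsum_mem_coe_finset, (show ((Nat.card P : ℤ) - 1) / (m : ℤ) = (YF.card : ℤ) by
      rw [← hr', Int.natCast_div, Nat.cast_sub (by omega), Nat.cast_one])]
    simp only [neg_sq, pow_two, neg_mul_neg]
    linear_combination hnorm + hsq
  · intro η hη η' hη' g hg
    obtain ⟨ψ, hψ, rfl⟩ := Finset.mem_image.1 (Finset.mem_coe.1 hη)
    obtain ⟨ψ', hψ', rfl⟩ := Finset.mem_image.1 (Finset.mem_coe.1 hη')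
    have e1 := hD.relation hM (Finset.ne_of_mem_erase hψ) hg
    have e2 := hD.relation hM (Finset.ne_of_mem_erase hψ') hg
    have hδ0 : (δ : ℂ) ≠ 0 := by rcases hD.sign with e | e <;> simp [e]
    exact mul_left_cancel₀ hδ0 (by linear_combination e1 - e2)
  · intro η hη g hg
    obtain ⟨ψ, hψ, rfl⟩ := Finset.mem_image.1 (Finset.mem_coe.1 hη)
    have e1 := hD.relation hM (Finset.ne_of_mem_erase hψ) hg
    have hδ0 : (δ : ℂ) ≠ 0 := by rcases hD.sign with e | e <;> simp [e]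
    have e2 : ∀ η ∈ YF, (c η : ℂ) * (η : G → ℂ) g = (d : ℂ) * (ζ ψ : G → ℂ) g := fun η hη => by
      obtain ⟨ψ', hψ', rfl⟩ := Finset.mem_image.1 hη
      have e2 := hD.relation hM (Finset.ne_of_mem_erase hψ') hg
      rw [hD.coef_zeta ψ' (Finset.ne_of_mem_erase hψ'),
        mul_left_cancel₀ hδ0 (by linear_combination e2 - e1 :
          (δ : ℂ) * (ζ ψ' : G → ℂ) g = (δ : ℂ) * (ζ ψ : G → ℂ) g)]
    rw [← hBF, ← Finset.sum_sdiff hYB, Finset.sum_congr rfl e2, Finset.sum_const, nsmul_eq_mul] at e1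
    rw [finsum_mem_coe_finset, hr']
    push_cast
    simp only [neg_mul, Finset.sum_neg_distrib]
    linear_combination -e1

end Cfsg.Agent.S4709
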