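import Cfsg.Statements.S4713
import Cfsg.Agent.Lib.Block.PPrimeDegrees

set_option autoImplicit false
open Cfsg

namespace Cfsg.Agent.S4713

open Cfsg.Agent.Block Cfsg.Agent.Char

/-- Let p be a prime and G a finite p-solvable group. Then G has a normal abelian Sylow p-subgroup if and only if the degree of every irreducible character of G is prime to p. -/
theorem result {G : Type*} [Group G] [Finite G] (p : ℕ) [Fact p.Prime] (hsolv : Cfsg.IsPSolvable p G) (P : Sylow p G) : ((P : Subgroup G).Normal ∧ IsMulCommutative P) ↔ ∀ χ : Cfsg.IrrCharacter G, ¬ p ∣ Cfsg.charDegree (χ : G → ℂ) := by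
  constructor
  · rintro ⟨hn, hc⟩
    haveI := hn
    exact pPrimeDegrees_of_normal_abelian_sylow P hc
  · intro h
    obtain ⟨Q, hQn, hQc⟩ := PPrimeDegrees.exists_normal_abelian_sylow h hsolv
    haveI := Sylow.unique_of_normal Q hQn
    obtain rfl : P = Q := Subsingleton.elim _ _
    exact ⟨hQn, hQc⟩

end Cfsg.Agent.S4713
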