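import Cfsg.Statements.S4714
import Cfsg.Agent.Lib.Block.CentralExtDefect

set_option autoImplicit false
open Cfsg

namespace Cfsg.Agent.S4714

open Cfsg.Agent.Block Cfsg.Agent.Char

/-- Let p be a prime, M a maximal ideal of the algebraic integers containing p, D a p-subgroup of the finite group G with G = D·C_G(D), and B a p-block with defect group D. Let χ be a member of B having D in its kernel (there is exactly one, the canonical character of B). Then the irreducible characters in B are exactly the functions θ on G for which there is an irreducible character ζ of D such that θ(yx) = ζ(y)χ(x) whenever y ∈ D, x has order prime to p and x commutes with y, and θ(z) = 0 whenever the p-part of z does not lie in D. -/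
theorem result {G : Type*} [Group G] [Finite G] (p : ℕ) [Fact p.Prime] (M : Ideal Cfsg.AlgInt) (hM : Cfsg.IsPModular p M) (D : Subgroup G) (hD : IsPGroup p D) (hG : D ⊔ Subgroup.centralizer (D : Set G) = ⊤) (B : Set (Cfsg.IrrCharacter G)) (hB : Cfsg.IsPBlock M B) (hBD : Cfsg.IsDefectGroup p M B D) (χ : Cfsg.IrrCharacter G) (hχ : χ ∈ B) (hχD : ∀ y ∈ D, (χ : G → ℂ) y = (χ : G → ℂ) 1) : (∀ θ : Cfsg.IrrCharacter G, θ ∈ B ↔ ∃ ζ : Cfsg.IrrCharacter D, (∀ (y : D) (x : G), ¬ p ∣ orderOf x → Commute (y : G) x → (θ : G → ℂ) ((y : G) * x) = (ζ : D → ℂ) y * (χ : G → ℂ) x) ∧ (∀ z : G, (∀ y : G, Cfsg.IsPPart p z y → y ∉ D) → (θ : G → ℂ) z = 0)) ∧ ∀ ζ : Cfsg.IrrCharacter D, ∃ θ ∈ B, (∀ (y : D) (x : G), ¬ p ∣ orderOf x → Commute (y : G) x → (θ : G → ℂ) ((y : G) * x) = (ζ : D → ℂ) y * (χ : G → ℂ) x) ∧ (∀ z : G, (∀ y : G, Cfsg.IsPPart p z y → y ∉ D) → (θ : G → ℂ) z = 0) := by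
  haveI := prime_of_isPModular hM
  classical
  haveI := Fintype.ofFinite G
  have hp : p.Prime := Fact.out
  obtain ⟨F, hFB, -, hr, hF⟩ := exists_equiv_block_core hM hD hG hB hBD hχ hχD
  obtain ⟨hc, -⟩ := coreChar_of_defectGroup hM hD hG hB hBD hχ hχD
  have hzero : ∀ (ζ : IrrCharacter D) (z : G), (∀ y : G, IsPPart p z y → y ∉ D) →
      (F ζ : G → ℂ) z = 0 := fun ζ z hz => by
    rw [hF ζ, coreExt, dif_neg]
    rintro ⟨x, hx⟩
    exact hz x hx x.2
  have hval : ∀ (ζ : IrrCharacter D) (y : D) (x : G), ¬ p ∣ orderOf x →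
      (F ζ : G → ℂ) ((y : G) * x) = (ζ : D → ℂ) y * (χ : G → ℂ) x := fun ζ y x hx => by
    rw [hF ζ, coreExt_apply hp hD hG _ hc y hx]
  refine ⟨fun θ => ⟨fun hθ => ?_, ?_⟩, fun ζ => ⟨F ζ, hFB ζ, fun y x hx _ => hval ζ y x hx, hzero ζ⟩⟩
  · rw [← hr] at hθ
    obtain ⟨ζ, rfl⟩ := hθ
    exact ⟨ζ, fun y x hx _ => hval ζ y x hx, hzero ζ⟩
  · rintro ⟨ζ, h1, h2⟩
    convert hFB ζ
    refine Subtype.ext (funext fun z => ?_)
    by_cases h : ∃ y : G, IsPPart p z y ∧ y ∈ D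
    · obtain ⟨y, ⟨x, hxy, hco, -, hx⟩, hy⟩ := h
      rw [← hxy, h1 ⟨y, hy⟩ x hx hco, hval ζ ⟨y, hy⟩ x hx]
    · push Not at h
      rw [h2 z h, hzero ζ z h]

end Cfsg.Agent.S4714
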