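import Cfsg.Statements.S4715
import Cfsg.Agent.Lib.Block.MajorPairs
import Cfsg.Agent.Lib.Block.MajorHeight

set_option autoImplicit false
open Cfsg

namespace Cfsg.Agent.S4715

open Cfsg.Agent.Block Cfsg.Agent.Char

/-- Let p be a prime, M a maximal ideal of the algebraic integers containing p, B a p-block of the finite group G with defect group D of order p^d, H = D·C_G(D), b a block of H inducing B, T the stabilizer of b in N_G(D) and e = [T : H] the inertial index of B; let n be the integer with p^n ≤ e < p^(n+1) and p^c the order of the centre of D. Then every irreducible character in B has height h with h + c ≤ n + d. -/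
theorem result {G : Type*} [Group G] [Finite G] (p : ℕ) [Fact p.Prime] (M : Ideal Cfsg.AlgInt) (hM : Cfsg.IsPModular p M) (B : Set (Cfsg.IrrCharacter G)) (hB : Cfsg.IsPBlock M B) (D : Subgroup G) (hBD : Cfsg.IsDefectGroup p M B D) (d : ℕ) (hDd : Nat.card D = p ^ d) (H : Subgroup G) (hH : H = D ⊔ Subgroup.centralizer (D : Set G)) (b : Set (Cfsg.IrrCharacter H)) (hind : Cfsg.IsInducedBlock M H b B) (T : Subgroup G) (hT : ∀ g : G, g ∈ T ↔ (g ∈ Subgroup.normalizer (D : Set G) ∧ ∀ θ ∈ b, ∀ θ' : Cfsg.IrrCharacter H, (∀ h h' : H, (h' : G) = g * h * g⁻¹ → (θ' : H → ℂ) h' = (θ : H → ℂ) h) → θ' ∈ b)) (e : ℕ) (he : H.relIndex T = e) (n : ℕ) (hn : p ^ n ≤ e ∧ e < p ^ (n + 1)) (c : ℕ) (hc : Nat.card (Subgroup.center D) = p ^ c) : ∀ χ ∈ B, Cfsg.blockHeight p B (χ : G → ℂ) + c ≤ n + d := by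
  haveI := prime_of_isPModular hM
  haveI := Fintype.ofFinite G
  intro χ hχ
  obtain ⟨S, hS, hcount⟩ := major_classes_ge hM hBD hH hind hT
  have hle := major_sum_le hM hB S hS hχ
  have hd : blockDefect p B = d := by
    have h := card_defectGroup hM hB hBD
    rw [hDd] at h
    exact (Nat.pow_right_injective hM.1.two_le h).symm
  rw [hc, he] at hcount
  rw [hd] at hle
  set h := blockHeight p B (χ : G → ℂ)
  have hG : 0 < Nat.card G := Nat.card_pos
  have key : p ^ (h + c) * Nat.card G ≤ p ^ d * e * Nat.card G := by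
    calc p ^ (h + c) * Nat.card G = p ^ h * (Nat.card G * p ^ c) := by rw [pow_add]; ring
      _ ≤ p ^ h * (e * ∑ s ∈ S, Nat.card (Subgroup.centralizer ({s.1} : Set G))) := Nat.mul_le_mul_left _ hcount
      _ = e * (p ^ h * ∑ s ∈ S, Nat.card (Subgroup.centralizer ({s.1} : Set G))) := by ring
      _ ≤ e * (p ^ d * Nat.card G) := Nat.mul_le_mul_left _ hle
      _ = p ^ d * e * Nat.card G := by ring
  have key2 : p ^ (h + c) < p ^ (n + d + 1) := by
    refine lt_of_le_of_lt (Nat.le_of_mul_le_mul_right key hG) ?_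
    calc p ^ d * e < p ^ d * p ^ (n + 1) := (Nat.mul_lt_mul_left (pow_pos hM.1.pos d)).2 hn.2
      _ = p ^ (n + d + 1) := by ring
  exact Nat.lt_succ_iff.1 ((Nat.pow_lt_pow_iff_right hM.1.one_lt).1 key2)

end Cfsg.Agent.S4715
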