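import Cfsg.Statements.S4717
import Cfsg.Agent.Lib.Block.DefectDeficiency

set_option autoImplicit false
open Cfsg

namespace Cfsg.Agent.S4717

open Cfsg.Agent.Block Cfsg.Agent.Char

/-- Let p be a prime, M a maximal ideal of the algebraic integers containing p, and r a natural number; say that a finite group X has deficiency class r when X has no non-principal p-block of defect ≥ r. If G has deficiency class r then so does the centralizer of every p-element of G; conversely, if r > 0 and the centralizer of every element of order p has deficiency class r, then G has deficiency class r. -/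
theorem result {G : Type*} [Group G] [Finite G] (p : ℕ) [Fact p.Prime] (M : Ideal Cfsg.AlgInt) (hM : Cfsg.IsPModular p M) (r : ℕ) : ((∀ B' : Set (Cfsg.IrrCharacter G), Cfsg.IsPBlock M B' → B' ≠ Cfsg.principalBlock M G → Cfsg.blockDefect p B' < r) → ∀ y : G, (∃ k : ℕ, orderOf y = p ^ k) → (∀ B' : Set (Cfsg.IrrCharacter ↥(Subgroup.centralizer ({y} : Set G))), Cfsg.IsPBlock M B' → B' ≠ Cfsg.principalBlock M ↥(Subgroup.centralizer ({y} : Set G)) → Cfsg.blockDefect p B' < r)) ∧ (0 < r → (∀ y : G, orderOf y = p → (∀ B' : Set (Cfsg.IrrCharacter ↥(Subgroup.centralizer ({y} : Set G))), Cfsg.IsPBlock M B' → B' ≠ Cfsg.principalBlock M ↥(Subgroup.centralizer ({y} : Set G)) → Cfsg.blockDefect p B' < r)) → (∀ B' : Set (Cfsg.IrrCharacter G), Cfsg.IsPBlock M B' → B' ≠ Cfsg.principalBlock M G → Cfsg.blockDefect p B' < r)) := by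
    haveI := prime_of_isPModular hM
    refine ⟨fun h y hy B' hB' hne => ?_, fun hr h B' hB' hne => ?_⟩
    · revert B'
      rw [← centralizer_zpowers y]
      intro f hf hne
      obtain ⟨B, hB, hBne, hle⟩ := exists_nonprincipal_above hM (isPGroup_zpowers_of_orderOf hy) hf hne
      exact lt_of_le_of_lt hle (h B hB hBne)
    · by_contra hlt
      obtain ⟨y, hy, f, hf, hfne, hle⟩ :=
        exists_nonprincipal_below hM hB' hne (lt_of_lt_of_le hr (not_lt.1 hlt))
      have h' := h y hy
      rw [← centralizer_zpowers y] at h'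
      exact absurd (lt_of_le_of_lt hle (h' f hf hfne)) hlt

end Cfsg.Agent.S4717
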