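import Cfsg.Statements.S4719
import Cfsg.Agent.Lib.Block.FourGroupBound

set_option autoImplicit false
universe u
open Cfsg

namespace Cfsg.Agent.S4719

open Cfsg.Agent.Block Cfsg.Agent.Char

/-- For every natural number a there is a bound N with the following property. Let G be a finite group with Sylow 2-subgroups of order 2^a and r ≥ 0 such that G has no non-principal 2-block (relative to a maximal ideal of the algebraic integers containing 2) of defect ≥ r, and suppose a Sylow 2-subgroup of G contains an elementary abelian subgroup of order 2^(r+1). Then the order of G is at most N. -/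
theorem result (a : ℕ) : ∃ N : ℕ, ∀ (G : Type u) [Group G] [Finite G] (M : Ideal Cfsg.AlgInt) (r : ℕ) (P : Sylow 2 G), Cfsg.IsPModular 2 M → Nat.card P = 2 ^ a → (∀ B : Set (Cfsg.IrrCharacter G), Cfsg.IsPBlock M B → B ≠ Cfsg.principalBlock M G → Cfsg.blockDefect 2 B < r) → (∃ E : Subgroup G, E ≤ (P : Subgroup G) ∧ IsMulCommutative E ∧ (∀ x ∈ E, x * x = 1) ∧ Nat.card E = 2 ^ (r + 1)) → Nat.card G ≤ N := by
  classical
  choose N hN using fun j => exists_bound_of_single_block.{u} 2 j
  choose Φ hΦ using exists_four_group_bound.{u}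
  let N₁ : ℕ := ∑ j ∈ Finset.range (a + 1), N j
  let F : ℕ → ℕ := fun j => Nat.rec N₁ (fun _ f => f + N₁ + Φ f) j
  refine ⟨F a, fun G _ _ M r P hM hP hB hE => ?_⟩
  obtain ⟨E, hEP, hEc, hE2, hEcard⟩ := hE
  haveI : Fact (Nat.Prime 2) := ⟨Nat.prime_two⟩
  have hfac : (Nat.card G).factorization 2 = a := by
    have h := P.card_eq_multiplicity
    rw [hP] at h
    exact (Nat.pow_right_injective (le_refl 2) h).symm
  have hcomm : ∀ u ∈ E, ∀ v ∈ E, u * v = v * u := fun u hu v hv =>
    congrArg Subtype.val (hEc.is_comm.comm ⟨u, hu⟩ ⟨v, hv⟩)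
  have main : ∀ j, ∀ U : Subgroup G, U ≤ E → Nat.card E ≤ Nat.card U * 2 ^ j →
      Nat.card (Subgroup.centralizer (U : Set G)) ≤ F j := by
    intro j
    induction j with
    | zero =>
      intro U hUE hc
      rw [pow_zero, mul_one, hEcard] at hc
      have hsb := single_block_centralizer hM hB (P.isPGroup'.to_le (hUE.trans hEP))
        ((Nat.pow_le_pow_right two_pos (Nat.le_succ r)).trans hc)
      have hle : (Nat.card (Subgroup.centralizer (U : Set G))).factorization 2 ≤ a := by
        rw [← hfac]
        exact (Nat.factorization_le_iff_dvd Nat.card_pos.ne' Nat.card_pos.ne').2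
          (Subgroup.card_subgroup_dvd_card _) 2
      exact (hN _ _ M hM rfl hsb).trans (Finset.single_le_sum (f := N) (fun _ _ => Nat.zero_le _)
        (Finset.mem_range.2 (Nat.lt_succ_of_le hle)))
    | succ j ih =>
      intro U hUE hc
      have hF : F (j + 1) = F j + N₁ + Φ (F j) := rfl
      by_cases h1 : Nat.card E ≤ Nat.card U * 2 ^ j
      · have := ih U hUE h1
        omega
      by_cases h2 : Nat.card E ≤ Nat.card U * 2
      · rw [hEcard, pow_succ] at h2
        have hsb := single_block_centralizer hM hB (P.isPGroup'.to_le (hUE.trans hEP))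
          (Nat.le_of_mul_le_mul_right h2 two_pos)
        have hle : (Nat.card (Subgroup.centralizer (U : Set G))).factorization 2 ≤ a := by
          rw [← hfac]
          exact (Nat.factorization_le_iff_dvd Nat.card_pos.ne' Nat.card_pos.ne').2
            (Subgroup.card_subgroup_dvd_card _) 2
        have : Nat.card (Subgroup.centralizer (U : Set G)) ≤ N₁ :=
          (hN _ _ M hM rfl hsb).trans (Finset.single_le_sum (f := N) (fun _ _ => Nat.zero_le _)
            (Finset.mem_range.2 (Nat.lt_succ_of_le hle)))
        omega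
      obtain ⟨x, hxE, hxU⟩ : ∃ x ∈ E, x ∉ U := by
        by_contra hcon
        push Not at hcon
        exact h2 ((Subgroup.card_le_of_le hcon).trans (Nat.le_mul_of_pos_right _ two_pos))
      obtain ⟨y, hyE, hyU, hxyU⟩ : ∃ y ∈ E, y ∉ U ∧ x⁻¹ * y ∉ U := by
        by_contra hcon
        push Not at hcon
        have hsub : (E : Set G) ⊆ (U : Set G) ∪ (fun v => x * v) '' (U : Set G) := fun y hy => by
          by_cases hy' : y ∈ U
          · exact Or.inl hy'
          · exact Or.inr ⟨_, hcon y hy hy', mul_inv_cancel_left x y⟩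
        have hn := (Set.ncard_le_ncard hsub (Set.toFinite _)).trans (Set.ncard_union_le _ _)
        have hi := Set.ncard_image_le (f := fun v => x * v) (Set.toFinite (U : Set G))
        simp only [← Nat.card_coe_set_eq, SetLike.coe_sort_coe] at hn hi
        omega
      have hzU : x * y ∉ U := fun h => hxyU (by rwa [inv_eq_of_mul_eq_one_left (hE2 x hxE)])
      have hwC : ∀ w ∈ E, w ∈ Subgroup.centralizer (U : Set G) := fun w hw =>
        Subgroup.mem_centralizer_iff.2 fun v hv => hcomm v (hUE hv) w hw
      have hbound : ∀ (w : G) (hw : w ∈ E), w ∉ U → Nat.card (Subgroup.centralizer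
          ({(⟨w, hwC w hw⟩ : Subgroup.centralizer (U : Set G))} :
            Set (Subgroup.centralizer (U : Set G)))) ≤ F j := by
        intro w hw hwU
        have hlt : U < U ⊔ Subgroup.zpowers w := lt_of_le_of_ne le_sup_left fun e =>
          hwU (e.symm ▸ Subgroup.mem_sup_right (Subgroup.mem_zpowers w))
        obtain ⟨k, hk⟩ := Subgroup.card_dvd_of_le hlt.le
        have hk2 : 2 ≤ k := by
          by_contra hk1
          have hpos := Nat.card_pos (α := (U ⊔ Subgroup.zpowers w : Subgroup G))
          refine hlt.ne (Subgroup.eq_of_le_of_card_ge hlt.le ?_)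
          rw [hk]
          calc Nat.card U * k ≤ Nat.card U * 1 := Nat.mul_le_mul_left _ (by omega)
            _ = Nat.card U := mul_one _
        refine le_trans ?_ (ih (U ⊔ Subgroup.zpowers w) (sup_le hUE (Subgroup.zpowers_le.2 hw)) ?_)
        · refine Nat.card_le_card_of_injective (fun c => (⟨(c : G), ?_⟩ :
            Subgroup.centralizer ((U ⊔ Subgroup.zpowers w : Subgroup G) : Set G))) fun c d e =>
              Subtype.ext (Subtype.ext (Subtype.mk.injEq .. ▸ e))
          refine mem_centralizer_subgroup.2 (sup_le (mem_centralizer_subgroup.1 c.1.2) ?_)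
          rw [Subgroup.zpowers_le, Subgroup.mem_centralizer_singleton_iff]
          exact (congrArg Subtype.val (Subgroup.mem_centralizer_singleton_iff.1 c.2)).symm
        · rw [hk]
          refine hc.trans ?_
          rw [pow_succ]
          calc Nat.card U * (2 ^ j * 2) = Nat.card U * 2 * 2 ^ j := by ring
            _ ≤ Nat.card U * k * 2 ^ j :=
              Nat.mul_le_mul_right _ (Nat.mul_le_mul_left _ hk2)
      have := hΦ (F j) (Subgroup.centralizer (U : Set G)) ⟨x, hwC x hxE⟩ ⟨y, hwC y hyE⟩
        (Subtype.ext (hE2 x hxE)) (Subtype.ext (hE2 y hyE)) (Subtype.ext (hcomm x hxE y hyE))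
        (hbound x hxE hxU) (hbound y hyE hyU) (hbound (x * y) (mul_mem hxE hyE) hzU)
      omega
  have hEa : Nat.card E ≤ Nat.card (⊥ : Subgroup G) * 2 ^ a := by
    rw [Subgroup.card_bot, one_mul, ← hP]
    exact Subgroup.card_le_of_le hEP
  have := main a ⊥ bot_le hEa
  have htop : Subgroup.centralizer ((⊥ : Subgroup G) : Set G) = ⊤ :=
    eq_top_iff.2 fun g _ => Subgroup.mem_centralizer_iff.2 fun v hv => by
      rw [Subgroup.mem_bot.1 hv, one_mul, mul_one]
  rwa [htop, Subgroup.card_top] at this

end Cfsg.Agent.S4719
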