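import Cfsg.Statements.S4720
import Cfsg.Agent.Lib.Block.PrincipalColumns

set_option autoImplicit false
open Cfsg

namespace Cfsg.Agent.S4720

open Cfsg.Agent.Block Cfsg.Agent.Char

/-- Let p be a prime, M a maximal ideal of the algebraic integers containing p, P a p-subgroup of the finite group G, N a subgroup with P ≤ N ≤ N_G(P), and U a nonempty subset of P normalized by N such that an element of U and an element of P that are conjugate in G are already conjugate in N, and such that λ(C_G(y)) = w·#C_N(y) for every y ∈ U with one rational number w, where λ(X) denotes the sum of the squares of the degrees of the irreducible characters in the principal p-block of X. For a complex function θ on P and χ in the principal block of G put a_χ(θ) = #P⁻¹ Σ_{y ∈ P} χ(y) θ(y⁻¹). Then for generalized characters θ, η of P with θ vanishing outside U, Σ_χ a_χ(θ)·conj(a_χ(η)) = (w/#P²)·Σ_{y ∈ P} θ(y)·conj(Σ_{x ∈ N} η(x y x⁻¹)) (η extended by zero off P; the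 conjugates lie in P), the first sum over the principal p-block of G. -/
theorem result {G : Type*} [Group G] [Finite G] (p : ℕ) [Fact p.Prime] (M : Ideal Cfsg.AlgInt) (hM : Cfsg.IsPModular p M) (P : Subgroup G) (hP : IsPGroup p P) (N : Subgroup G) (hPN : P ≤ N) (hNN : N ≤ Subgroup.normalizer (P : Set G)) (U : Set G) (hUne : U.Nonempty) (hUP : U ⊆ (P : Set G)) (hUN : ∀ n ∈ N, ∀ u ∈ U, n * u * n⁻¹ ∈ U) (hfus : ∀ u ∈ U, ∀ g : G, g * u * g⁻¹ ∈ (P : Set G) → ∃ n ∈ N, n * u * n⁻¹ = g * u * g⁻¹) (w : ℚ) (hw : ∀ y ∈ U, ((∑ᶠ ψ ∈ Cfsg.principalBlock M ↥(Subgroup.centralizer ({y} : Set G)), Cfsg.charDegree (ψ : ↥(Subgroup.centralizer ({y} : Set G)) → ℂ) ^ 2) : ℚ) = w * Nat.card ↥(N ⊓ Subgroup.centralizer ({y} : Set G))) (θ η : ↥P → ℂ) (hθ : Cfsg.IsGeneralizedCharacter ↥P θ) (hη : Cfsg.IsGeneralizedCharacter ↥P η) (hθU : ∀ y : ↥P, (y : G) ∉ U → θ y = 0) : ∑ᶠ χ ∈ Cfsg.principalBlock M G, ((Nat.card ↥P : ℂ)⁻¹ * ∑ᶠ y : ↥P, (χ : G → ℂ) (y : G) * θ y⁻¹) * (starRingEnd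 ℂ) ((Nat.card ↥P : ℂ)⁻¹ * ∑ᶠ y : ↥P, (χ : G → ℂ) (y : G) * η y⁻¹) = ((w : ℂ) / ((Nat.card ↥P : ℂ) ^ 2)) * ∑ᶠ y : ↥P, θ y * (starRingEnd ℂ) (∑ᶠ x : ↥N, Cfsg.extendByZero P η ((x : G) * (y : G) * (x : G)⁻¹)) := by
  classical
  haveI := Fintype.ofFinite G
  haveI := Fintype.ofFinite ↥P
  haveI := Fintype.ofFinite ↥N
  have hPp : ∀ a : ↥P, ∃ k : ℕ, orderOf (a : G) = p ^ k := fun a => by
    rw [Subgroup.orderOf_coe]; exact IsPGroup.iff_orderOf.1 hP a
  have key : ∀ a : ↥P, θ a * (∑ b : ↥P, (starRingEnd ℂ) (η b) *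
      blockKernel (Cfsg.principalBlock M G) ((b : G)) ((a : G))) =
      (w : ℂ) * (θ a * (starRingEnd ℂ) (∑ᶠ x : ↥N, Cfsg.extendByZero P η ((x : G) * (a : G) * (x : G)⁻¹))) := by
    intro a
    by_cases haU : (a : G) ∈ U
    swap
    · rw [hθU a haU, zero_mul, zero_mul, mul_zero]
    have hext : ∀ b : ↥P, Cfsg.extendByZero P η (b : G) = η b := fun b => by
      rw [Cfsg.extendByZero]; exact Subtype.val_injective.extend_apply η 0 b
    rw [finsum_eq_sum_of_fintype, sum_conj_eq N (a : G) (Cfsg.extendByZero P η), map_sum, ← mul_assoc,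
      mul_comm (w : ℂ), mul_assoc, Finset.mul_sum (a := (w : ℂ))]
    congr 1
    have hw' : ((∑ᶠ ψ ∈ Cfsg.principalBlock M (Subgroup.centralizer ({(a : G)} : Set G)),
        Cfsg.charDegree (ψ : Subgroup.centralizer ({(a : G)} : Set G) → ℂ) ^ 2 : ℕ) : ℂ) =
        (w : ℂ) * (Nat.card ↥(N ⊓ Subgroup.centralizer ({(a : G)} : Set G)) : ℂ) := by
      have := congrArg (fun q : ℚ => (q : ℂ)) (hw _ haU)
      rw [finsum_mem_eq_finite_toFinset_sum _ (Set.toFinite _)] at this ⊢
      simpa using this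
    calc ∑ b : ↥P, (starRingEnd ℂ) (η b) * blockKernel (Cfsg.principalBlock M G) (b : G) (a : G)
        = ∑ b ∈ Finset.univ.filter (fun b : ↥P => IsConj (a : G) (b : G)), (starRingEnd ℂ) (η b) *
            ((w : ℂ) * (Nat.card ↥(N ⊓ Subgroup.centralizer ({(a : G)} : Set G)) : ℂ)) := by
          rw [Finset.sum_filter]
          refine Finset.sum_congr rfl fun b _ => ?_
          rw [← blockKernel_conj, blockKernel_principal_pElement hM (hPp a) (hPp b)]
          split_ifs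
          · rw [Complex.conj_natCast, hw']
          · rw [map_zero, mul_zero]
      _ = _ := by
          refine Finset.sum_bij (fun b _ => (b : G)) (fun b hb => ?_)
            (fun b _ b' _ h => Subtype.ext h) (fun x hx => ?_) (fun b _ => ?_)
          · obtain ⟨g, hg⟩ := isConj_iff.1 (Finset.mem_filter.1 hb).2
            obtain ⟨n, hn, hnb⟩ := hfus _ haU g (by rw [hg]; exact b.2)
            exact Finset.mem_image.2 ⟨⟨n, hn⟩, Finset.mem_univ _, hnb.trans hg⟩
          · obtain ⟨n, -, rfl⟩ := Finset.mem_image.1 hx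
            exact ⟨⟨_, hUP (hUN n n.2 _ haU)⟩, Finset.mem_filter.2 ⟨Finset.mem_univ _,
              isConj_iff.2 ⟨n, rfl⟩⟩, rfl⟩
          · rw [hext, map_mul, Complex.conj_natCast]; ring
  have hK : ∀ a b : ↥P, blockKernel (Cfsg.principalBlock M G) ((a⁻¹ : ↥P) : G) ((b⁻¹ : ↥P) : G) =
      blockKernel (Cfsg.principalBlock M G) (b : G) (a : G) := by
    intro a b
    simp only [blockKernel]
    refine finsum_congr fun χ => finsum_congr fun _ => ?_
    rw [Subgroup.coe_inv, Subgroup.coe_inv, IsCharacter.map_inv (IsIrrCharacter.isCharacter χ.2),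
      IsCharacter.map_inv (IsIrrCharacter.isCharacter χ.2), Complex.conj_conj, mul_comm]
  rw [finsum_eq_sum_of_fintype (f := fun y : ↥P => θ y * _),
    finsum_mem_eq_finite_toFinset_sum _ (Set.toFinite (Cfsg.principalBlock M G))]
  simp only [finsum_eq_sum_of_fintype] at key ⊢
  have hk : (Nat.card ↥P : ℂ) ≠ 0 := Nat.cast_ne_zero.2 Nat.card_pos.ne'
  calc ∑ χ ∈ (Set.toFinite (Cfsg.principalBlock M G)).toFinset,
        ((Nat.card ↥P : ℂ)⁻¹ * ∑ y : ↥P, (χ : G → ℂ) (y : G) * θ y⁻¹) *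
          (starRingEnd ℂ) ((Nat.card ↥P : ℂ)⁻¹ * ∑ y : ↥P, (χ : G → ℂ) (y : G) * η y⁻¹)
      = (Nat.card ↥P : ℂ)⁻¹ ^ 2 * ∑ a : ↥P, ∑ b : ↥P, θ a * ((starRingEnd ℂ) (η b) *
          blockKernel (Cfsg.principalBlock M G) ((a⁻¹ : ↥P) : G) ((b⁻¹ : ↥P) : G)) := by
        have hre : ∀ (χ : Cfsg.IrrCharacter G) (f : ↥P → ℂ),
            ∑ y : ↥P, (χ : G → ℂ) (y : G) * f y⁻¹ = ∑ y : ↥P, (χ : G → ℂ) ((y⁻¹ : ↥P) : G) * f y :=
          fun χ f => Finset.sum_equiv (Equiv.inv ↥P) (fun _ => by simp) fun y _ => by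
            simp only [Equiv.inv_apply, inv_inv]
        simp only [hre, map_mul, map_inv₀, map_sum, Complex.conj_natCast, mul_mul_mul_comm,
          Finset.sum_mul_sum]
        rw [← Finset.mul_sum, ← sq, Finset.sum_comm]
        refine congrArg _ (Finset.sum_congr rfl fun a _ => ?_)
        rw [Finset.sum_comm]
        refine Finset.sum_congr rfl fun b _ => ?_
        simp only [blockKernel, finsum_mem_eq_finite_toFinset_sum _
          (Set.toFinite (Cfsg.principalBlock M G)), Finset.mul_sum]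
        exact Finset.sum_congr rfl fun χ _ => by ring
    _ = _ := by
        simp only [hK, ← Finset.mul_sum]
        rw [Finset.sum_congr rfl fun a _ => key a, ← Finset.mul_sum]
        field_simp

end Cfsg.Agent.S4720
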