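import Cfsg.Statements.S4721
import Cfsg.Agent.Lib.Block.AbelianTIPrincipal
import Cfsg.Agent.Lib.Block.KleinBlock
import Cfsg.Agent.Lib.Char.Central

set_option autoImplicit false
set_option maxHeartbeats 800000
set_option linter.style.haveILetI false
set_option linter.unusedVariables false
set_option linter.unusedSectionVars false
open Cfsg

namespace Cfsg.Agent.S4721

open Cfsg.Agent Cfsg.Agent.Char Cfsg.Agent.Block Cfsg.Agent.Block.AbTI
open scoped Classical ComplexConjugate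

universe w

variable {G : Type w} [Group G] [Finite G] {p : ℕ} [Fact p.Prime] {M : Ideal AlgInt} {P : Sylow p G}

theorem exists_conj_mem {x : G} (hx : ∃ k, orderOf x = p ^ k) : ∃ c : G, c * x * c⁻¹ ∈ (P : Subgroup G) := by
  obtain ⟨k, hk⟩ := hx
  obtain ⟨Q, hQ⟩ := (IsPGroup.of_card (n := k) (by rw [Nat.card_zpowers, hk]) :
    IsPGroup p (Subgroup.zpowers x)).exists_le_sylow
  obtain ⟨d, rfl⟩ := MulAction.exists_smul_eq G P Q
  obtain ⟨r, hr, hrx⟩ := hQ (Subgroup.mem_zpowers x)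
  refine ⟨d⁻¹, ?_⟩
  have : d * r * d⁻¹ = x := hrx
  rw [← this, show d⁻¹ * (d * r * d⁻¹) * d⁻¹⁻¹ = r by group]
  exact hr

theorem exists_int_value (χ : IrrCharacter G) {t : G} (ht : orderOf t = 2) :
    ∃ v : ℤ, (χ : G → ℂ) t = (v : ℂ) := by
  haveI := Fintype.ofFinite (Subgroup.zpowers t)
  obtain ⟨a, ha⟩ := exists_sum_subgroup_eq χ (Subgroup.zpowers t)
  rw [← Finset.add_sum_erase _ _ (Finset.mem_univ (1 : Subgroup.zpowers t)),
    Finset.sum_congr rfl (g := fun _ => (χ : G → ℂ) t) fun x hx => by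
      obtain ⟨i, hi⟩ := Subgroup.mem_zpowers_iff.1 x.2
      have h2 : orderOf (x : G) ∣ 2 := ht ▸ orderOf_dvd_of_mem_zpowers x.2
      rcases Int.emod_two_eq_zero_or_one i with h | h
      · exfalso
        apply Finset.ne_of_mem_erase hx
        apply Subtype.ext
        rw [← hi, ← zpow_mod_orderOf t i, ht]
        norm_num [h]
      · rw [← hi, ← zpow_mod_orderOf t i, ht]
        norm_num [h],
    Finset.sum_const, Finset.card_erase_of_mem (Finset.mem_univ _), Finset.card_univ,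
    ← Nat.card_eq_fintype_card, Nat.card_zpowers, ht, Subgroup.coe_one,
    ← charDegree_cast (IsIrrCharacter.isCharacter χ.2), nsmul_eq_mul] at ha
  refine ⟨2 * (a : ℤ) - charDegree (χ : G → ℂ), ?_⟩
  push_cast at ha ⊢
  linear_combination ha

/-- The data with common value zero. -/
theorem normalised (h : Hyp P 3) (hM : IsPModular p M) (hm2 : 3 + 1 < Nat.card P)
    [Fintype (P : Subgroup G)] [Fintype ((P : Subgroup G) →* ℂˣ)] :
    ∃ ζ δ c, IsData (P := P) (principalBlock M G) 3 ζ δ 0 c := by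
  obtain ⟨ζ, δ, d, c, hD⟩ := h.exists_data hM hm2
  haveI := prime_of_isPModular hM
  let one : IrrCharacter G := ⟨fun _ => 1, isIrrCharacter_one⟩
  have h1B : one ∈ principalBlock M G := sameBlock_refl _
  obtain ⟨hc1, hζ1⟩ := hD.trivial_apply h hm2 (one := one) rfl h1B
  set YF := (Finset.univ.erase (1 : (P : Subgroup G) →* ℂˣ)).image ζ with hYF
  set BF := (principalBlock M G).toFinite.toFinset with hBF
  have hYB : YF ⊆ BF := fun η hη => by
    obtain ⟨ψ, hψ, rfl⟩ := Finset.mem_image.1 hη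
    exact (Set.Finite.mem_toFinset _).2 (hD.mem ψ (Finset.ne_of_mem_erase hψ))
  have hr : YF.card * 3 = Nat.card P - 1 := hD.card_image h
  have hcd : ∀ η ∈ YF, c η = d := fun η hη => by
    obtain ⟨ψ, hψ, rfl⟩ := Finset.mem_image.1 hη
    exact hD.coef_zeta ψ (Finset.ne_of_mem_erase hψ)
  have hone : one ∈ BF \ YF := by
    refine Finset.mem_sdiff.2 ⟨(Set.Finite.mem_toFinset _).2 h1B, fun hm => ?_⟩
    obtain ⟨ψ, hψ, e⟩ := Finset.mem_image.1 hm
    exact hζ1 ψ (Finset.ne_of_mem_erase hψ) e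
  have hnorm : ∑ χ ∈ BF \ YF, c χ * c χ + (YF.card : ℤ) * (d * d) + 2 * δ * d = 3 := by
    have hn := hD.norm
    rw [← hBF, ← Finset.sum_sdiff hYB, Finset.sum_congr rfl (g := fun _ => d * d)
      (fun η (hη : η ∈ YF) => by rw [hcd η hη]), Finset.sum_const, nsmul_eq_mul] at hn
    exact_mod_cast hn
  have hr2 : 2 ≤ YF.card := by omega
  have hr2' : (2 : ℤ) ≤ YF.card := by exact_mod_cast hr2
  have h1le : 1 ≤ ∑ χ ∈ BF \ YF, c χ * c χ := by
    have := Finset.single_le_sum (fun χ _ => mul_self_nonneg (c χ)) hone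
    rw [hc1] at this
    linarith
  rcases eq_or_ne d 0 with hd | hd
  · exact ⟨ζ, δ, c, hd ▸ hD⟩
  have hsq : δ * δ = 1 := by rcases hD.sign with e | e <;> simp [e]
  have hdd : d = -δ := by
    by_contra hne
    have h2 : d + δ ≠ 0 := fun e => hne (by linarith)
    have hp2 : 0 < (d + δ) * (d + δ) := mul_self_pos.2 h2
    have hd2 : 0 < d * d := mul_self_pos.2 hd
    have h3 : 2 ≤ d * (d + δ) := by
      rcases hD.sign with e | e <;> subst e <;> rcases lt_or_gt_of_ne hd with h' | h'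
      · have : d ≤ -2 := by omega
        nlinarith
      · nlinarith
      · nlinarith
      · have : 2 ≤ d := by omega
        nlinarith
    nlinarith
  subst hdd
  have hr4 : YF.card ≤ 4 := by
    have : (YF.card : ℤ) ≤ 4 := by nlinarith
    exact_mod_cast this
  have hne3 : YF.card ≠ 3 := fun e3 => by
    have h10 : Nat.card P = 10 := by omega
    obtain ⟨k, hk⟩ := IsPGroup.iff_card.1 P.2
    rw [h10] at hk
    have e2 := (Nat.prime_dvd_prime_iff_eq Nat.prime_two (Fact.out : p.Prime)).1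
      (Nat.prime_two.dvd_of_dvd_pow (hk ▸ (by norm_num : 2 ∣ 10)))
    have e5 := (Nat.prime_dvd_prime_iff_eq (by norm_num : Nat.Prime 5) (Fact.out : p.Prime)).1
      ((by norm_num : Nat.Prime 5).dvd_of_dvd_pow (hk ▸ (by norm_num : 5 ∣ 10)))
    omega
  obtain ⟨ψa, hψa⟩ : ∃ ψ : (P : Subgroup G) →* ℂˣ, ψ ≠ 1 := by
    have : YF.Nonempty := Finset.card_pos.1 (by omega)
    obtain ⟨η, hη⟩ := this
    obtain ⟨ψ, hψ, -⟩ := Finset.mem_image.1 hη
    exact ⟨ψ, Finset.ne_of_mem_erase hψ⟩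
  have hne4 : YF.card ≠ 4 := fun e4 => by
    have hX1 : ∀ χ ∈ BF \ YF, χ ≠ one → c χ = 0 := fun χ hχ hne => by
      have hsum : ∑ χ ∈ BF \ YF, c χ * c χ = 1 := by
        rw [e4] at hnorm; push_cast at hnorm; linear_combination hnorm - 2 * hsq
      rw [← Finset.add_sum_erase _ _ hone, hc1] at hsum
      have h0 : ∑ χ ∈ (BF \ YF).erase one, c χ * c χ = 0 := by linarith
      exact mul_self_eq_zero.1 ((Finset.sum_eq_zero_iff_of_nonneg fun x _ => mul_self_nonneg (c x)).1 h0 χ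
        (Finset.mem_erase.2 ⟨hne, hχ⟩))
    have hrel := hD.relation hM hψa (g := (1 : G)) (by rw [orderOf_one]; exact (Fact.out : p.Prime).not_dvd_one)
    rw [← hBF, ← Finset.sum_sdiff hYB, ← Finset.add_sum_erase _ _ hone, hc1,
      Finset.sum_eq_zero fun χ hχ => by
        rw [hX1 χ (Finset.mem_of_mem_erase hχ) (Finset.ne_of_mem_erase hχ), Int.cast_zero, zero_mul]] at hrel
    have hdeg : ∀ η ∈ YF, (η : G → ℂ) 1 = (ζ ψa : G → ℂ) 1 := fun η hη => by
      obtain ⟨ψ, hψ, rfl⟩ := Finset.mem_image.1 hη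
      have e1 := hD.relation hM (Finset.ne_of_mem_erase hψ) (g := (1 : G))
        (by rw [orderOf_one]; exact (Fact.out : p.Prime).not_dvd_one)
      have e2 := hD.relation hM hψa (g := (1 : G))
        (by rw [orderOf_one]; exact (Fact.out : p.Prime).not_dvd_one)
      have hδ0 : (δ : ℂ) ≠ 0 := by rcases hD.sign with e | e <;> simp [e]
      exact mul_left_cancel₀ hδ0 (by linear_combination e1 - e2)
    rw [Finset.sum_congr rfl (g := fun _ => -(δ : ℂ) * (ζ ψa : G → ℂ) 1) fun η hη => by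
      rw [hdeg η hη, hcd η hη, Int.cast_neg]] at hrel
    rw [Finset.sum_const, e4, nsmul_eq_mul, ← charDegree_cast (IsIrrCharacter.isCharacter (ζ ψa).2)] at hrel
    simp only [one] at hrel
    have hint : -1 + 4 * (-δ * (charDegree (ζ ψa : G → ℂ) : ℤ)) + δ * (charDegree (ζ ψa : G → ℂ) : ℤ) = 0 := by
      refine Int.cast_injective (α := ℂ) ?_
      push_cast
      linear_combination hrel
    rcases hD.sign with e | e <;> subst e <;> omega
  have e2 : YF.card = 2 := by omega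
  obtain ⟨ψb, hψb, hab⟩ := hD.exists_other h hm2 hψa
  have hmem : ∀ ψ, ψ ≠ 1 → ζ ψ = ζ ψa ∨ ζ ψ = ζ ψb := fun ψ hψ => by
    by_contra hn
    push Not at hn
    have hsub : ({ζ ψ, ζ ψa, ζ ψb} : Finset (IrrCharacter G)) ⊆ YF := by
      intro η hη
      simp only [Finset.mem_insert, Finset.mem_singleton] at hη
      rcases hη with rfl | rfl | rfl <;>
        exact Finset.mem_image.2 ⟨_, Finset.mem_erase.2 ⟨by assumption, Finset.mem_univ _⟩, rfl⟩
    have := Finset.card_le_card hsub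
    rw [Finset.card_insert_of_notMem (by simp [hn.1, hn.2]), Finset.card_pair (Ne.symm hab), e2] at this
    omega
  let ζ' : ((P : Subgroup G) →* ℂˣ) → IrrCharacter G := fun ψ => if ζ ψ = ζ ψa then ζ ψb else ζ ψa
  have hζ' : ∀ ψ, ψ ≠ 1 → ζ' ψ ∈ YF ∧ ζ' ψ ≠ ζ ψ ∧
      ∀ χ ∈ YF, χ = ζ ψ ∨ χ = ζ' ψ := fun ψ hψ => by
    have hall : ∀ χ ∈ YF, χ = ζ ψa ∨ χ = ζ ψb := fun χ hχ => by
      obtain ⟨φ, hφ, rfl⟩ := Finset.mem_image.1 hχ
      exact hmem φ (Finset.ne_of_mem_erase hφ)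
    simp only [ζ']
    rcases hmem ψ hψ with e | e
    · rw [if_pos e, e]
      exact ⟨Finset.mem_image.2 ⟨ψb, Finset.mem_erase.2 ⟨hψb, Finset.mem_univ _⟩, rfl⟩, hab, hall⟩
    · rw [if_neg (e ▸ hab), e]
      exact ⟨Finset.mem_image.2 ⟨ψa, Finset.mem_erase.2 ⟨hψa, Finset.mem_univ _⟩, rfl⟩, Ne.symm hab,
        fun χ hχ => (hall χ hχ).symm⟩
  refine ⟨ζ', -δ, fun χ => c χ + δ * (if χ ∈ YF then 1 else 0),
    ⟨by rcases hD.sign with e | e <;> simp [e], fun ψ hψ => ?_, fun ψ ψ' hψ hψ' => ?_,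
      fun χ hχ ψ hψ => ?_, fun ψ hψ => ?_, ?_⟩⟩
  · exact (Set.Finite.mem_toFinset _).1 (hYB (hζ' ψ hψ).1)
  · rw [← hD.eq_iff ψ ψ' hψ hψ']
    simp only [ζ']
    rcases hmem ψ hψ with e | e <;> rcases hmem ψ' hψ' with e' | e'
    · simp [e, e']
    · simp [e, e', hab, Ne.symm hab]
    · simp [e, e', hab, Ne.symm hab]
    · simp [e, e', hab]
  · rw [hD.coef_eq χ hχ ψ hψ]
    obtain ⟨h1, h2, h3⟩ := hζ' ψ hψ
    by_cases hY : χ ∈ YF
    · rcases h3 χ hY with e | e
      · rw [if_pos e, if_pos hY, if_neg (e ▸ Ne.symm h2)]; ring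
      · rw [if_neg (e ▸ h2), if_pos hY, if_pos e]; ring
    · rw [if_neg (fun e : χ = ζ ψ => hY (e ▸ Finset.mem_image.2 ⟨ψ, Finset.mem_erase.2 ⟨hψ, Finset.mem_univ _⟩, rfl⟩)),
        if_neg hY, if_neg (fun e : χ = ζ' ψ => hY (e ▸ h1))]
      ring
  · simp only [if_pos (hζ' ψ hψ).1, hcd _ (hζ' ψ hψ).1]
    ring
  · rw [← hBF, ← Finset.sum_sdiff hYB, Finset.sum_congr rfl (g := fun χ => c χ * c χ) (fun χ hχ => by
      rw [if_neg (Finset.mem_sdiff.1 hχ).2]; ring), Finset.sum_eq_zero (s := YF) (fun χ hχ => by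
      rw [if_pos hχ, hcd χ hχ]; ring)]
    rw [e2] at hnorm
    push_cast at hnorm ⊢
    linear_combination hnorm

/-- An involution `t`, the value of the relation and a suitable non-real element. -/
theorem exists_avoiding (h : Hyp P 3) (hm2 : 3 + 1 < Nat.card P) {t : G} (ht : orderOf t = 2) :
    ∃ y : (P : Subgroup G), y ≠ 1 ∧
      (∀ x : G, IsPPart p t x → ¬ IsConj x (y : G)) ∧
      (∀ u v : G, IsConj t u → IsConj t v → ∀ x : G, IsPPart p (u * v) x → ¬ IsConj x (y : G)) ∧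
      (p = 2 → ∃ t₀ : (P : Subgroup G), IsConj t (t₀ : G) ∧
        (∀ n, phi P n t₀ ≠ y) ∧ ∀ n n', phi P n t₀ * phi P n' t₀ ≠ y) := by
  haveI := Fintype.ofFinite G
  have hp := (Fact.out : p.Prime)
  have hinv : ∀ u v : G, orderOf u = 2 → orderOf v = 2 → ∀ y : G, IsPPart p (u * v) y →
      u * y * u⁻¹ = y⁻¹ ∧ v * y * v⁻¹ = y⁻¹ := by
    intro u v hu hv y hy
    obtain ⟨X, Y, hXY, hXYc, hX, hY, hXg, -⟩ := exists_isPPart hp (u * v)
    obtain rfl : X = y := isPPart_unique hp ⟨Y, hXY, hXYc, hX, hY⟩ hy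
    have hu1 : u * u = 1 := by rw [← pow_two, ← hu]; exact pow_orderOf_eq_one u
    have hv1 : v * v = 1 := by rw [← pow_two, ← hv]; exact pow_orderOf_eq_one v
    have hui : u⁻¹ = u := inv_eq_of_mul_eq_one_right hu1
    have hvi : v⁻¹ = v := inv_eq_of_mul_eq_one_right hv1
    have e1 : (u * v)⁻¹ = u * (u * v) * u⁻¹ := by
      rw [mul_inv_rev, hvi, hui, ← mul_assoc u u v, hu1, one_mul]
    have e2 : (u * v)⁻¹ = v * (u * v) * v⁻¹ := by
      rw [mul_inv_rev, hvi, hui, mul_assoc v (u * v), mul_assoc u v v, hv1, mul_one]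
    obtain ⟨i, hi⟩ := Subgroup.mem_zpowers_iff.mp hXg
    constructor
    · rw [← hi, ← conj_zpow, ← e1, inv_zpow]
    · rw [← hi, ← conj_zpow, ← e2, inv_zpow]
  have hclass : ∀ u, IsConj t u → orderOf u = 2 := fun u hu => by
    obtain ⟨c, rfl⟩ := isConj_iff.1 hu
    rw [show c * t * c⁻¹ = MulAut.conj c t from rfl, MulEquiv.orderOf_eq, ht]
  -- it suffices to avoid products lying over `y` itself
  suffices hy : ∃ y : (P : Subgroup G), y ≠ 1 ∧ (∀ x : G, IsPPart p t x → ¬ IsConj x (y : G)) ∧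
      (∀ u v : G, IsConj t u → IsConj t v → ¬ IsPPart p (u * v) (y : G)) ∧
      (p = 2 → ∃ t₀ : (P : Subgroup G), IsConj t (t₀ : G) ∧
        (∀ n, phi P n t₀ ≠ y) ∧ ∀ n n', phi P n t₀ * phi P n' t₀ ≠ y) by
    obtain ⟨y, hy1, hy2, hy3, hy4⟩ := hy
    refine ⟨y, hy1, hy2, fun u v hu hv x hx hxy => ?_, hy4⟩
    obtain ⟨c, hc⟩ := isConj_iff.1 hxy
    refine hy3 (c * u * c⁻¹) (c * v * c⁻¹) (hu.trans (isConj_iff.2 ⟨c, rfl⟩))
      (hv.trans (isConj_iff.2 ⟨c, rfl⟩)) ?_
    have := isPPart_conj hx c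
    rw [hc] at this
    rwa [show c * u * c⁻¹ * (c * v * c⁻¹) = c * (u * v) * c⁻¹ by group]
  by_cases hp2 : p = 2
  · subst hp2
    obtain ⟨c, hc⟩ := exists_conj_mem (P := P) (x := t) ⟨1, by rw [ht, pow_one]⟩
    let t₀ : (P : Subgroup G) := ⟨c * t * c⁻¹, hc⟩
    have ht₀ : IsConj t (t₀ : G) := isConj_iff.2 ⟨c, rfl⟩
    have ht₀2 : orderOf (t₀ : G) = 2 := hclass _ ht₀
    have ht₀1 : (t₀ : G) ≠ 1 := fun e => by rw [e, orderOf_one] at ht₀2; omega
    have h16 : 16 ≤ Nat.card P := by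
      obtain ⟨k, hk⟩ := IsPGroup.iff_card.1 P.2
      have hdiv : 3 ∣ Nat.card P - 1 := by
        haveI : Finite ((P : Subgroup G) →* ℂˣ) := by
          refine Nat.finite_of_card_ne_zero ?_
          rw [card_monoidHom_units]
          exact Subgroup.index_ne_zero_of_finite
        haveI := Fintype.ofFinite ((P : Subgroup G) →* ℂˣ)
        haveI := Fintype.ofFinite (Subgroup.normalizer ((P : Subgroup G) : Set G))
        haveI := Fintype.ofFinite (P : Subgroup G)
        have e := Finset.card_eq_sum_card_image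
          (fun y : (P : Subgroup G) => Finset.univ.image fun n : Subgroup.normalizer ((P : Subgroup G) : Set G) => phi P n y)
          (Finset.univ.erase (1 : (P : Subgroup G)))
        rw [Finset.card_erase_of_mem (Finset.mem_univ _), Finset.card_univ, ← Nat.card_eq_fintype_card] at e
        rw [show Nat.card P - 1 = _ from e]
        refine Finset.dvd_sum fun O hO => ?_
        obtain ⟨y, hy, rfl⟩ := Finset.mem_image.1 hO
        have hy1 : (y : G) ≠ 1 := fun e => Finset.ne_of_mem_erase hy (Subtype.ext e)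
        have hs := sum_conj_eq (Subgroup.normalizer ((P : Subgroup G) : Set G)) (y : G) (fun _ => (1 : ℂ))
        rw [inf_comm, h.free _ y.2 hy1] at hs
        simp only [Finset.sum_const, nsmul_eq_mul, mul_one, Finset.card_univ, ← Nat.card_eq_fintype_card,
          h.card_normalizer, ← Nat.cast_mul, Nat.cast_inj] at hs
        have h3 := (Nat.eq_of_mul_eq_mul_right Nat.card_pos hs).symm
        refine dvd_of_eq (h3.symm.trans ?_)
        refine Finset.card_bij (fun b hb => ⟨b, ?_⟩) ?_ ?_ ?_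
        · obtain ⟨n, -, rfl⟩ := Finset.mem_image.1 hb
          exact (phi P n y).2
        · intro b hb
          obtain ⟨n, -, rfl⟩ := Finset.mem_image.1 hb
          refine Finset.mem_filter.2 ⟨Finset.mem_erase.2 ⟨fun e => hy1 ?_, Finset.mem_univ _⟩, ?_⟩
          · exact conj_eq_one_iff.1 (congrArg Subtype.val e)
          · ext z
            simp only [Finset.mem_image, Finset.mem_univ, true_and]
            constructor
            · rintro ⟨n', rfl⟩
              exact ⟨n' * n, Subtype.ext (by simp [phi_coe, mul_assoc])⟩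
            · rintro ⟨n', rfl⟩
              exact ⟨n' * n⁻¹, Subtype.ext (by simp [phi_coe, mul_assoc])⟩
        · intro a _ b _ e; exact congrArg Subtype.val e
        · intro z hz
          obtain ⟨hz1, hz2⟩ := Finset.mem_filter.1 hz
          have hz3 : z ∈ Finset.univ.image fun n : Subgroup.normalizer ((P : Subgroup G) : Set G) => phi P n y := by
            rw [← hz2]
            exact Finset.mem_image.2 ⟨1, Finset.mem_univ _, Subtype.ext (by simp [phi_coe])⟩
          obtain ⟨n, -, rfl⟩ := Finset.mem_image.1 hz3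
          exact ⟨(n : G) * y * (n : G)⁻¹, Finset.mem_image.2 ⟨n, Finset.mem_univ _, rfl⟩, rfl⟩
      have hk' : Nat.card (P : Subgroup G) = 2 ^ k := hk
      clear hk
      rename' hk' => hk
      rcases k with _ | _ | _ | _ | k
      · rw [hk] at hdiv hm2; revert hdiv hm2; norm_num
      · rw [hk] at hdiv hm2; revert hdiv hm2; norm_num
      · rw [hk] at hdiv hm2; revert hdiv hm2; norm_num
      · rw [hk] at hdiv hm2; revert hdiv hm2; norm_num
      · rw [hk, pow_succ, pow_succ, pow_succ, pow_succ]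
        nlinarith [Nat.one_le_two_pow (n := k)]
    haveI := Fintype.ofFinite (Subgroup.normalizer ((P : Subgroup G) : Set G))
    haveI := Fintype.ofFinite (P : Subgroup G)
    set T := Finset.univ.image (fun n : Subgroup.normalizer ((P : Subgroup G) : Set G) => phi P n t₀) with hT
    have hT3 : T.card ≤ 3 := by
      have hs := sum_conj_eq (Subgroup.normalizer ((P : Subgroup G) : Set G)) (t₀ : G) (fun _ => (1 : ℂ))
      rw [inf_comm, h.free _ t₀.2 ht₀1] at hs
      simp only [Finset.sum_const, nsmul_eq_mul, mul_one, Finset.card_univ, ← Nat.card_eq_fintype_card,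
        h.card_normalizer, ← Nat.cast_mul, Nat.cast_inj] at hs
      have h3 := (Nat.eq_of_mul_eq_mul_right Nat.card_pos hs).symm
      rw [← h3]
      refine Finset.card_le_card_of_injOn (fun z : (P : Subgroup G) => (z : G)) ?_ ?_
      · intro z hz
        obtain ⟨n, -, rfl⟩ := Finset.mem_image.1 hz
        exact Finset.mem_image.2 ⟨n, Finset.mem_univ _, rfl⟩
      · intro a _ b _ e; exact Subtype.ext e
    obtain ⟨y, hy⟩ : ∃ y : (P : Subgroup G), y ∉ T ∪ (T ×ˢ T).image (fun z => z.1 * z.2) ∪ {1} := by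
      by_contra hn
      push Not at hn
      have h1 := Finset.card_le_card (show (Finset.univ : Finset (P : Subgroup G)) ⊆ _ from fun y _ => hn y)
      have h2 := Finset.card_union_le (T ∪ (T ×ˢ T).image fun z => z.1 * z.2) ({1} : Finset (P : Subgroup G))
      have h3 := Finset.card_union_le T ((T ×ˢ T).image fun z => z.1 * z.2)
      have h4 := Finset.card_image_le (s := T ×ˢ T) (f := fun z => z.1 * z.2)
      rw [Finset.card_product] at h4
      rw [Finset.card_singleton] at h2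
      rw [Finset.card_univ, ← Nat.card_eq_fintype_card] at h1
      have : T.card * T.card ≤ 3 * 3 := Nat.mul_le_mul hT3 hT3
      omega
    simp only [Finset.mem_union, Finset.mem_singleton, Finset.mem_image, Finset.mem_product, not_or,
      not_exists, not_and] at hy
    obtain ⟨⟨hyT, hyTT⟩, hy1⟩ := hy
    have hmemT : ∀ n, phi P n t₀ ∈ T := fun n => Finset.mem_image.2 ⟨n, Finset.mem_univ _, rfl⟩
    have hconjT : ∀ z : (P : Subgroup G), IsConj t (z : G) → z ∈ T := fun z hz => by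
      obtain ⟨n, hn⟩ := (h.isConj_iff_exists t₀.2 z.2).1 (ht₀.symm.trans hz)
      rw [show z = phi P n t₀ from Subtype.ext hn.symm]
      exact hmemT n
    refine ⟨y, hy1, fun x hx hxy => ?_, fun u v hu hv huv => ?_, fun _ =>
      ⟨t₀, ht₀, fun n e => hyT (e ▸ hmemT n), fun n n' e => hyTT ⟨phi P n t₀, phi P n' t₀⟩ ⟨hmemT n, hmemT n'⟩ e⟩⟩
    · rw [isPPart_unique hp hx (isPPart_self hp ⟨1, by rw [ht, pow_one]⟩)] at hxy
      exact hyT (hconjT y hxy)
    · obtain ⟨huy, hvy⟩ := hinv u v (hclass u hu) (hclass v hv) _ huv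
      have hy1' : (y : G) ≠ 1 := fun e => hy1 (Subtype.ext e)
      obtain ⟨k, hk⟩ := pow_orderOf_of_mem (P := P) y.2
      obtain ⟨k, rfl⟩ : ∃ j, k = j + 1 := Nat.exists_eq_succ_of_ne_zero fun e => by
        rw [e, pow_zero, orderOf_eq_one_iff] at hk; exact hy1' hk
      set w := (y : G) ^ (2 ^ k) with hw
      have hwP : w ∈ (P : Subgroup G) := (P : Subgroup G).pow_mem y.2 _
      have hw2 : orderOf w = 2 := by
        rw [hw, orderOf_pow, hk, Nat.gcd_eq_right (pow_dvd_pow 2 k.le_succ), pow_succ,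
          Nat.mul_div_cancel_left _ (pow_pos (by norm_num) k)]
      have hw1 : w ≠ 1 := fun e => by rw [e, orderOf_one] at hw2; omega
      have hwi : w⁻¹ = w := inv_eq_of_mul_eq_one_right (by rw [← pow_two, ← hw2]; exact pow_orderOf_eq_one w)
      set C := Subgroup.centralizer ({w} : Set G) with hC
      have huC : u ∈ C := mem_centralizer_singleton.2
        (mul_inv_eq_iff_eq_mul.1 (by rw [hw, ← conj_pow, huy, inv_pow, ← hw, hwi])).symm
      have hvC : v ∈ C := mem_centralizer_singleton.2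
        (mul_inv_eq_iff_eq_mul.1 (by rw [hw, ← conj_pow, hvy, inv_pow, ← hw, hwi])).symm
      have hPC := h.le_centralizer_singleton hwP
      have hidx := h.index_core hwP hw1
      set O := pPrimeCore 2 C with hO
      let π := QuotientGroup.mk' O
      let ι : (P : Subgroup G) →* C ⧸ O := π.comp (Subgroup.inclusion hPC)
      have hιi : Function.Injective ι := by
        refine (injective_iff_map_eq_one ι).2 fun z hz => ?_
        have hzO : Subgroup.inclusion hPC z ∈ O := (QuotientGroup.eq_one_iff _).1 hz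
        have hreg := (regular_iff_mem_pPrimeCore hidx _).1 hzO
        rw [← Subgroup.orderOf_coe] at hreg
        by_contra hne
        exact hreg (dvd_orderOf_of_mem z.2 fun e => hne (Subtype.ext e))
      have hιs : Function.Surjective ι := by
        have hc : Nat.card (C ⧸ O) = Nat.card (P : Subgroup G) := by
          rw [← Subgroup.index_eq_card, hO, index_eq_ordProj_of_regular hidx,
            ← (P.subtype hPC).card_eq_multiplicity]
          exact Nat.card_congr (Subgroup.subgroupOfEquivOfLe hPC).toEquiv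
        exact ((Nat.bijective_iff_injective_and_card ι).2 ⟨hιi, hc.symm⟩).2
      have hab : ∀ a b : C ⧸ O, a * b = b * a := fun a b => by
        obtain ⟨a', rfl⟩ := hιs a
        obtain ⟨b', rfl⟩ := hιs b
        rw [← map_mul, h.comm, map_mul]
      have hcomp : ∀ (u : G) (huC : u ∈ C), IsConj t u → ∃ z : (P : Subgroup G), z ∈ T ∧ π ⟨u, huC⟩ = ι z := by
        intro u huC hu
        obtain ⟨d, hd⟩ := exists_conj_mem (G := C) (P := P.subtype hPC) (x := ⟨u, huC⟩)
          ⟨1, by rw [← Subgroup.orderOf_coe]; exact (hclass u hu).trans (pow_one 2).symm⟩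
        refine ⟨⟨((d * (⟨u, huC⟩ : C) * d⁻¹ : C) : G), hd⟩, hconjT _ ?_, ?_⟩
        · exact hu.trans (isConj_iff.2 ⟨(d : G), rfl⟩)
        · show π ⟨u, huC⟩ = π (d * ⟨u, huC⟩ * d⁻¹)
          rw [map_mul, map_mul, hab (π d), mul_assoc, ← map_mul, mul_inv_cancel, map_one, mul_one]
      obtain ⟨zu, hzu, eu⟩ := hcomp u huC hu
      obtain ⟨zv, hzv, ev⟩ := hcomp v hvC hv
      obtain ⟨g, hg, hgc, -, hgr⟩ := huv
      have hgC : g ∈ C := mem_centralizer_singleton.2 (hgc.pow_left _)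
      have hgO : (⟨g, hgC⟩ : C) ∈ O := (regular_iff_mem_pPrimeCore hidx _).2 (by rwa [← Subgroup.orderOf_coe])
      refine hyTT ⟨zu, zv⟩ ⟨hzu, hzv⟩ (hιi ?_)
      rw [map_mul, ← eu, ← ev, ← map_mul, show (⟨u, huC⟩ : C) * ⟨v, hvC⟩ = Subgroup.inclusion hPC y * ⟨g, hgC⟩ from
        Subtype.ext hg.symm, map_mul, show π ⟨g, hgC⟩ = 1 from (QuotientGroup.eq_one_iff _).2 hgO, mul_one]
      rfl
  · haveI : Nontrivial (P : Subgroup G) := Finite.one_lt_card_iff_nontrivial.1 (by omega)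
    obtain ⟨y, hy1⟩ := exists_ne (1 : (P : Subgroup G))
    have hy1' : (y : G) ≠ 1 := fun e => hy1 (Subtype.ext e)
    refine ⟨y, hy1, fun x hx hxy => ?_, fun u v hu hv huv => ?_, fun e => absurd e hp2⟩
    · have hreg : ¬ p ∣ orderOf t := by rw [ht]; exact fun hd => hp2 ((Nat.prime_dvd_prime_iff_eq hp Nat.prime_two).1 hd)
      rw [isPPart_unique hp hx ((isPPart_one_iff hp).2 hreg)] at hxy
      exact hy1' (isConj_one_right.1 hxy)
    · obtain ⟨huy, -⟩ := hinv u v (hclass u hu) (hclass v hv) _ huv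
      obtain ⟨n, hn⟩ := (h.isConj_iff_exists y.2 ((P : Subgroup G).inv_mem y.2)).1 (isConj_iff.2 ⟨u, huy⟩)
      have hn2 : ∀ j : ℕ, ((n ^ (2 * j) : Subgroup.normalizer ((P : Subgroup G) : Set G)) : G) * y *
          ((n ^ (2 * j) : Subgroup.normalizer ((P : Subgroup G) : Set G)) : G)⁻¹ = y := by
        intro j
        induction j with
        | zero => simp
        | succ j ih =>
          rw [Nat.mul_succ, pow_add, pow_two, Subgroup.coe_mul, Subgroup.coe_mul,
            show ∀ a b : G, a * (b * b) * y * (a * (b * b))⁻¹ = a * (b * (b * y * b⁻¹) * b⁻¹) * a⁻¹ from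
              fun a b => by group, hn, ← conj_inv, hn, inv_inv, ih]
      have h3 : ((n ^ 3 : Subgroup.normalizer ((P : Subgroup G) : Set G)) : G) ∈
          Subgroup.centralizer ((P : Subgroup G) : Set G) := by
        haveI hnorm : ((Subgroup.centralizer ((P : Subgroup G) : Set G)).subgroupOf
            (Subgroup.normalizer ((P : Subgroup G) : Set G))).Normal := by
          rw [← Subgroup.normalizerMonoidHom_ker]; infer_instance
        have := Subgroup.pow_index_mem ((Subgroup.centralizer ((P : Subgroup G) : Set G)).subgroupOf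
          (Subgroup.normalizer ((P : Subgroup G) : Set G))) n
        rwa [show ((Subgroup.centralizer ((P : Subgroup G) : Set G)).subgroupOf
            (Subgroup.normalizer ((P : Subgroup G) : Set G))).index = 3 from h.card,
          Subgroup.mem_subgroupOf] at this
      have e3 := mul_inv_eq_iff_eq_mul.2 (Subgroup.mem_centralizer_iff.1 h3 y y.2).symm
      rw [show (3 : ℕ) = 1 + 2 * 1 from rfl, pow_add, pow_one, Subgroup.coe_mul,
        show ∀ a b : G, a * b * y * (a * b)⁻¹ = a * (b * y * b⁻¹) * a⁻¹ from fun a b => by group,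
        hn2 1, hn] at e3
      have hd : p ∣ 2 := (dvd_orderOf_of_mem (P := P) y.2 hy1').trans
        (orderOf_dvd_of_pow_eq_one (by rw [pow_two]; nth_rw 1 [← e3]; rw [inv_mul_cancel]))
      exact hp2 ((Nat.prime_dvd_prime_iff_eq hp Nat.prime_two).1 hd)

/-- The algebra behind the sign condition. -/
theorem discriminant {X₂ X₃ H A B C : ℚ} (hX₂ : X₂ ≠ 0) (hX₃ : X₃ ≠ 0) (hH : H ≠ 0)
    (h1 : 1 + X₂ + X₃ + H = 0) (h2 : 1 + A + B + C = 0)
    (h3 : 1 + A ^ 2 / X₂ + B ^ 2 / X₃ + C ^ 2 / H = 0) (hB : B ≠ X₃) :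
    ∃ s : ℚ, X₂ * X₃ * H = s * s := by
  field_simp at h3
  have hb : B - X₃ ≠ 0 := sub_ne_zero.2 hB
  refine ⟨(X₃ * (H + X₂) * (A - X₂) + X₂ * X₃ * (B - X₃)) / (B - X₃), ?_⟩
  field_simp
  obtain rfl : H = -1 - X₂ - X₃ := by linarith
  obtain rfl : C = -1 - A - B := by linarith
  first
    | linear_combination (-(X₃ * (-1 - X₃))) * h3
    | linear_combination (X₃ * (-1 - X₃)) * h3
    | linear_combination (-(-1 - X₃)) * h3

theorem involution_part (h : Hyp P 3) (hM : IsPModular p M) (hm2 : 3 + 1 < Nat.card P)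
    [Fintype (P : Subgroup G)] [Fintype ((P : Subgroup G) →* ℂˣ)]
    {ζ : ((P : Subgroup G) →* ℂˣ) → IrrCharacter G} {δ : ℤ} {c : IrrCharacter G → ℤ}
    (hD : IsData (P := P) (principalBlock M G) 3 ζ δ 0 c)
    (hX : ∀ χ ∈ (principalBlock M G).toFinite.toFinset \ (Finset.univ.erase (1 : (P : Subgroup G) →* ℂˣ)).image ζ,
      c χ = 1 ∨ c χ = -1)
    (hX3 : ((principalBlock M G).toFinite.toFinset \ (Finset.univ.erase (1 : (P : Subgroup G) →* ℂˣ)).image ζ).card = 3)
    (hone : (⟨fun _ => 1, isIrrCharacter_one⟩ : IrrCharacter G) ∈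
      (principalBlock M G).toFinite.toFinset \ (Finset.univ.erase (1 : (P : Subgroup G) →* ℂˣ)).image ζ)
    (hXval : ∀ χ ∈ (principalBlock M G).toFinite.toFinset \ (Finset.univ.erase (1 : (P : Subgroup G) →* ℂˣ)).image ζ,
      ∀ z y : G, IsPPart p z y → y ∈ (P : Subgroup G) → y ≠ 1 → (χ : G → ℂ) z = ((-c χ : ℤ) : ℂ))
    (hYB : (Finset.univ.erase (1 : (P : Subgroup G) →* ℂˣ)).image ζ ⊆ (principalBlock M G).toFinite.toFinset)
    (hcd : ∀ η ∈ (Finset.univ.erase (1 : (P : Subgroup G) →* ℂˣ)).image ζ, c η = 0)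
    {t : G} (ht : orderOf t = 2) (htn : ∀ K : Subgroup G, K.Normal → t ∈ K → K = ⊤) :
    Nat.card {χ : IrrCharacter G // χ ∈ (↑((principalBlock M G).toFinite.toFinset \
        (Finset.univ.erase (1 : (P : Subgroup G) →* ℂˣ)).image ζ) : Set (IrrCharacter G)) ∧
        (χ : G → ℂ) ≠ (fun _ => 1) ∧ -c χ = -1} + (if δ = 1 then 1 else 0) = 2 ∧
      ∀ η ∈ (↑((Finset.univ.erase (1 : (P : Subgroup G) →* ℂˣ)).image ζ) : Set (IrrCharacter G)),
        IsSquare (charDegree (η : G → ℂ) * ∏ᶠ χ ∈ {χ : IrrCharacter G | χ ∈ (↑((principalBlock M G).toFinite.toFinset \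
          (Finset.univ.erase (1 : (P : Subgroup G) →* ℂˣ)).image ζ) : Set (IrrCharacter G)) ∧
          (χ : G → ℂ) ≠ fun _ => 1}, charDegree (χ : G → ℂ)) := by
  haveI := prime_of_isPModular hM
  have hp := (Fact.out : p.Prime)
  have hB : IsPBlock M (principalBlock M G) := ⟨⟨fun _ => 1, isIrrCharacter_one⟩, rfl⟩
  set one : IrrCharacter G := ⟨fun _ => 1, isIrrCharacter_one⟩ with hone'
  obtain ⟨hc1, hζ1⟩ := hD.trivial_apply h hm2 (one := one) rfl (sameBlock_refl _)
  set BF := (principalBlock M G).toFinite.toFinset with hBF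
  set YF := (Finset.univ.erase (1 : (P : Subgroup G) →* ℂˣ)).image ζ with hYF
  obtain ⟨χ₂, χ₃, h23, herase⟩ := Finset.card_eq_two.1
    (show ((BF \ YF).erase one).card = 2 by rw [Finset.card_erase_of_mem hone, hX3])
  have h2 : χ₂ ∈ (BF \ YF).erase one := by rw [herase]; simp
  have h3 : χ₃ ∈ (BF \ YF).erase one := by rw [herase]; simp
  obtain ⟨h2ne, h2X⟩ := Finset.mem_erase.1 h2
  obtain ⟨h3ne, h3X⟩ := Finset.mem_erase.1 h3
  have hsetX : {χ : IrrCharacter G | χ ∈ (↑(BF \ YF) : Set (IrrCharacter G)) ∧ (χ : G → ℂ) ≠ fun _ => 1} =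
      (↑({χ₂, χ₃} : Finset (IrrCharacter G)) : Set (IrrCharacter G)) := by
    rw [← herase]
    ext χ
    simp only [Finset.coe_erase, Set.mem_setOf_eq, Set.mem_diff, Set.mem_singleton_iff, Finset.mem_coe]
    exact and_congr_right fun _ => ⟨fun hh e => hh (congrArg Subtype.val e), fun hh e => hh (Subtype.ext e)⟩
  have hprodX : ∏ᶠ χ ∈ {χ : IrrCharacter G | χ ∈ (↑(BF \ YF) : Set (IrrCharacter G)) ∧ (χ : G → ℂ) ≠ fun _ => 1},
      charDegree (χ : G → ℂ) = charDegree (χ₂ : G → ℂ) * charDegree (χ₃ : G → ℂ) := by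
    rw [hsetX, finprod_mem_coe_finset, Finset.prod_pair h23]
  have hcountX : Nat.card {χ : IrrCharacter G // χ ∈ (↑(BF \ YF) : Set (IrrCharacter G)) ∧
      (χ : G → ℂ) ≠ (fun _ => 1) ∧ -c χ = -1} =
      (if -c χ₂ = -1 then 1 else 0) + (if -c χ₃ = -1 then 1 else 0) := by
    rw [Nat.card_congr (Equiv.subtypeEquivRight (q := fun χ => χ ∈ ({χ₂, χ₃} : Finset (IrrCharacter G)).filter
        (fun χ => -c χ = -1)) fun χ => by
      have h' := Set.ext_iff.1 hsetX χ
      rw [Set.mem_ofPred_eq, Finset.mem_coe, Finset.mem_coe] at h'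
      rw [Finset.mem_filter, ← h', Finset.mem_coe, and_assoc]), Nat.card_eq_fintype_card, Fintype.card_coe,
      Finset.card_filter, Finset.sum_pair h23]
  have hδ0 : (δ : ℂ) ≠ 0 := by rcases hD.sign with e | e <;> simp [e]
  obtain ⟨ψ₀, hψ₀⟩ : ∃ ψ : (P : Subgroup G) →* ℂˣ, ψ ≠ 1 := by
    obtain ⟨y, hy⟩ : ∃ y : (P : Subgroup G), y ≠ 1 := by
      haveI : Nontrivial (P : Subgroup G) := Finite.one_lt_card_iff_nontrivial.1 (by omega)
      exact exists_ne 1
    letI : CommGroup (P : Subgroup G) := { (inferInstance : Group (P : Subgroup G)) with mul_comm := h.comm }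
    obtain ⟨φ, hφ⟩ := CommGroup.exists_apply_ne_one_of_hasEnoughRootsOfUnity (P : Subgroup G) ℂ hy
    exact ⟨φ, fun e => hφ (by rw [e]; rfl)⟩
  have hone1 : ¬ p ∣ orderOf (1 : G) := by rw [orderOf_one]; exact hp.not_dvd_one
  have hsplit : ∀ f : IrrCharacter G → ℂ, ∑ χ ∈ BF, (c χ : ℂ) * f χ =
      -f one + (c χ₂ : ℂ) * f χ₂ + (c χ₃ : ℂ) * f χ₃ := fun f => by
    rw [← Finset.sum_sdiff hYB, Finset.sum_eq_zero (s := YF) (fun η hη => by rw [hcd η hη, Int.cast_zero, zero_mul]),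
      add_zero, ← Finset.add_sum_erase _ _ hone, herase, Finset.sum_pair h23, hc1]
    push_cast; ring
  have hdeg : ∀ ψ, ψ ≠ 1 → (ζ ψ : G → ℂ) 1 = (ζ ψ₀ : G → ℂ) 1 := fun ψ hψ => by
    have e1 := hD.relation hM hψ hone1
    have e2 := hD.relation hM hψ₀ hone1
    exact mul_left_cancel₀ hδ0 (by linear_combination e1 - e2)
  set z : ℕ := charDegree (ζ ψ₀ : G → ℂ) with hz
  set x₂ : ℕ := charDegree (χ₂ : G → ℂ) with hx₂
  set x₃ : ℕ := charDegree (χ₃ : G → ℂ) with hx₃
  have hrel : -1 + c χ₂ * (x₂ : ℤ) + c χ₃ * (x₃ : ℤ) + δ * (z : ℤ) = 0 := by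
    have e := hD.relation hM hψ₀ hone1
    rw [← hBF, hsplit fun χ => (χ : G → ℂ) 1, ← charDegree_cast (IsIrrCharacter.isCharacter (ζ ψ₀).2),
      ← charDegree_cast (IsIrrCharacter.isCharacter χ₂.2), ← charDegree_cast (IsIrrCharacter.isCharacter χ₃.2)] at e
    refine Int.cast_injective (α := ℂ) ?_
    push_cast
    simp only [hone'] at e
    linear_combination e
  obtain ⟨y, hy1, hyt, hyuv, hy2⟩ := exists_avoiding h hm2 ht
  have hy1' : (y : G) ≠ 1 := fun e => hy1 (Subtype.ext e)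
  have hK0 : ∀ g x : G, IsPPart p g x → ¬ IsConj x (y : G) → blockKernel (principalBlock M G) g y = 0 :=
    fun g x hgx hne => blockKernel_eq_zero_of_sections hM hgx (isPPart_self hp (pow_orderOf_of_mem y.2)) hne hB
  choose v hv using fun χ : IrrCharacter G => exists_int_value χ ht
  -- expansion at y
  have hconjy : ∀ f : IrrCharacter G → ℂ, ∑ χ ∈ BF, f χ * conj ((χ : G → ℂ) (y : G)) =
      -∑ χ ∈ BF, (c χ : ℂ) * f χ +
        (δ : ℂ) * ∑ ψ ∈ Finset.univ.erase (1 : (P : Subgroup G) →* ℂˣ), f (ζ ψ) * conj (ψ y : ℂ) := fun f => by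
    have e : ∀ χ ∈ BF, f χ * conj ((χ : G → ℂ) (y : G)) = -((c χ : ℂ) * f χ) + (δ : ℂ) *
        ∑ ψ ∈ Finset.univ.filter (fun ψ : (P : Subgroup G) →* ℂˣ => ψ ≠ 1 ∧ ζ ψ = χ), f (ζ ψ) * conj (ψ y : ℂ) := by
      intro χ hχ
      rw [hD.apply_eq h.comm ((Set.Finite.mem_toFinset _).1 hχ) hy1, map_add, map_neg, map_mul, map_sum,
        map_intCast, map_intCast, mul_add, mul_neg, mul_comm (f χ) (c χ : ℂ), mul_left_comm, Finset.mul_sum (a := f χ)]
      congr 2
      exact Finset.sum_congr rfl fun ψ hψ => by rw [(Finset.mem_filter.1 hψ).2.2]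
    rw [Finset.sum_congr rfl e, Finset.sum_add_distrib, Finset.sum_neg_distrib, ← Finset.mul_sum,
      ← Finset.sum_fiberwise_of_maps_to (s := Finset.univ.erase (1 : (P : Subgroup G) →* ℂˣ)) (t := BF) (g := ζ)
        (fun ψ hψ => (Set.Finite.mem_toFinset _).2 (hD.mem ψ (Finset.ne_of_mem_erase hψ)))]
    congr 2
    refine Finset.sum_congr rfl fun χ _ => Finset.sum_congr ?_ fun _ _ => rfl
    ext ψ; simp
  obtain ⟨C, hC1, hC2⟩ : ∃ C : ℤ,
      (δ : ℂ) * ∑ ψ ∈ Finset.univ.erase (1 : (P : Subgroup G) →* ℂˣ), (v (ζ ψ) : ℂ) * conj (ψ y : ℂ) = (C : ℂ) ∧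
      (δ : ℂ) * ∑ ψ ∈ Finset.univ.erase (1 : (P : Subgroup G) →* ℂˣ), (v (ζ ψ) : ℂ) ^ 2 * conj (ψ y : ℂ) =
        -(δ : ℂ) * (C : ℂ) ^ 2 := by
    have hsumy : ∑ ψ ∈ Finset.univ.erase (1 : (P : Subgroup G) →* ℂˣ), conj (ψ y : ℂ) = -1 := by
      have := congrArg conj (sum_dual h.comm y)
      rw [if_neg hy1, map_zero, map_sum,
        ← Finset.add_sum_erase _ _ (Finset.mem_univ (1 : (P : Subgroup G) →* ℂˣ))] at this
      simp only [MonoidHom.one_apply, Units.val_one, map_one] at this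
      linear_combination this
    by_cases hp2 : p = 2
    · obtain ⟨t₀, ht₀, hn1, hn2⟩ := hy2 hp2
      haveI := Fintype.ofFinite (Subgroup.normalizer ((P : Subgroup G) : Set G))
      have ht₀1 : t₀ ≠ 1 := fun e => by
        rw [e, OneMemClass.coe_one, isConj_one_left] at ht₀
        rw [ht₀, orderOf_one] at ht; omega
      set q : ℂ := (Nat.card (Subgroup.centralizer ((P : Subgroup G) : Set G)) : ℂ) with hq
      have hq0 : q ≠ 0 := Nat.cast_ne_zero.2 Nat.card_pos.ne'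
      have hvψ : ∀ ψ : (P : Subgroup G) →* ℂˣ, ψ ≠ 1 →
          q * (v (ζ ψ) : ℂ) = (δ : ℂ) * ∑ n : Subgroup.normalizer ((P : Subgroup G) : Set G), (ψ (phi P n t₀) : ℂ) := by
        intro ψ hψ
        rw [← hv, IsIrrCharacter.apply_isConj (ζ ψ).2 ht₀, hD.apply_eq h.comm (hD.mem ψ hψ) ht₀1,
          hD.coef_zeta ψ hψ, Int.cast_zero, neg_zero, zero_add, mul_left_comm]
        congr 1
        rw [Finset.mul_sum, ← Finset.sum_fiberwise_of_maps_to
          (s := (Finset.univ : Finset (Subgroup.normalizer ((P : Subgroup G) : Set G))))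
          (t := Finset.univ.filter (fun φ : (P : Subgroup G) →* ℂˣ => φ ≠ 1 ∧ ζ φ = ζ ψ)) (g := fun n => tw P n ψ)
          (fun n _ => Finset.mem_filter.2 ⟨Finset.mem_univ _, tw_ne_one P hψ,
            (hD.eq_iff _ _ (tw_ne_one P hψ) hψ).2 ((twist_iff P _ _).2 ⟨n, rfl⟩)⟩)]
        refine Finset.sum_congr rfl fun φ hφ => ?_
        rw [Finset.sum_congr rfl (g := fun _ => (φ t₀ : ℂ)) fun n hn => by
            rw [← (Finset.mem_filter.1 hn).2]; simp only [tw, MonoidHom.comp_apply],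
          Finset.sum_const, nsmul_eq_mul]
        congr 1
        rw [← Fintype.card_subtype, ← Nat.card_eq_fintype_card, h.card_tw_eq hψ, if_pos]
        exact (hD.eq_iff _ _ (Finset.mem_filter.1 hφ).2.1 hψ).1 (Finset.mem_filter.1 hφ).2.2
      have horth : ∀ z : (P : Subgroup G), z ≠ y →
          ∑ ψ ∈ Finset.univ.erase (1 : (P : Subgroup G) →* ℂˣ), (ψ z : ℂ) * conj (ψ y : ℂ) = -1 := by
        intro z hzy
        have := sum_dual h.comm (y⁻¹ * z)
        rw [if_neg (fun e => hzy (inv_mul_eq_one.1 e).symm),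
          ← Finset.add_sum_erase _ _ (Finset.mem_univ (1 : (P : Subgroup G) →* ℂˣ))] at this
        simp only [MonoidHom.one_apply, Units.val_one, map_mul, map_inv, Units.val_mul, inv_one, one_mul] at this
        simp only [conj_hom, MonoidHom.inv_apply]
        rw [Finset.sum_congr rfl fun ψ _ => mul_comm ((ψ : (P : Subgroup G) →* ℂˣ) z : ℂ) _]
        linear_combination this
      have hN : (Fintype.card (Subgroup.normalizer ((P : Subgroup G) : Set G)) : ℂ) = 3 * q := by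
        rw [← Nat.card_eq_fintype_card, h.card_normalizer, Nat.cast_mul, hq]; norm_num
      have hδsq : (δ : ℂ) * δ = 1 := by rcases hD.sign with e | e <;> simp [e]
      refine ⟨-3, mul_left_cancel₀ hq0 ?_, mul_left_cancel₀ (mul_ne_zero hq0 hq0) ?_⟩
      · rw [mul_left_comm, Finset.mul_sum, Finset.sum_congr rfl fun ψ hψ => show q * ((v (ζ ψ) : ℂ) * conj (ψ y : ℂ)) =
          (δ : ℂ) * ∑ n : Subgroup.normalizer ((P : Subgroup G) : Set G), (ψ (phi P n t₀) : ℂ) * conj (ψ y : ℂ) by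
            rw [← mul_assoc, hvψ ψ (Finset.ne_of_mem_erase hψ), mul_assoc, Finset.sum_mul],
          ← Finset.mul_sum, Finset.sum_comm, Finset.sum_congr rfl fun n _ => horth _ (hn1 n),
          Finset.sum_const, Finset.card_univ, nsmul_eq_mul, hN]
        push_cast
        linear_combination (-3 * q) * hδsq
      · rw [mul_left_comm, Finset.mul_sum, Finset.sum_congr rfl fun ψ hψ =>
          show q * q * ((v (ζ ψ) : ℂ) ^ 2 * conj (ψ y : ℂ)) =
          (δ : ℂ) * δ * ∑ n : Subgroup.normalizer ((P : Subgroup G) : Set G),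
            ∑ n' : Subgroup.normalizer ((P : Subgroup G) : Set G),
              (ψ (phi P n t₀ * phi P n' t₀) : ℂ) * conj (ψ y : ℂ) by
            simp only [map_mul, Units.val_mul, ← Finset.sum_mul, ← Finset.mul_sum]
            have e := hvψ ψ (Finset.ne_of_mem_erase hψ)
            linear_combination (q * (v (ζ ψ) : ℂ) + (δ : ℂ) * ∑ n : Subgroup.normalizer ((P : Subgroup G) : Set G),
              (ψ (phi P n t₀) : ℂ)) * conj (ψ y : ℂ) * e,
          ← Finset.mul_sum, Finset.sum_comm, Finset.sum_congr rfl fun n _ => Finset.sum_comm,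
          Finset.sum_congr rfl fun n _ => Finset.sum_congr rfl fun n' _ => horth _ (hn2 n n')]
        simp only [Finset.sum_const, Finset.card_univ, nsmul_eq_mul, hN]
        push_cast
        linear_combination (-9 * (δ : ℂ) * q * q) * hδsq
    · have hreg : ¬ p ∣ orderOf t := by
        rw [ht]; exact fun hd => hp2 ((Nat.prime_dvd_prime_iff_eq hp Nat.prime_two).1 hd)
      have hvc : ∀ ψ ∈ Finset.univ.erase (1 : (P : Subgroup G) →* ℂˣ), v (ζ ψ) = v (ζ ψ₀) := fun ψ hψ => by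
        have e1 := hD.relation hM (Finset.ne_of_mem_erase hψ) hreg
        have e2 := hD.relation hM hψ₀ hreg
        refine Int.cast_injective (α := ℂ) ?_
        rw [← hv, ← hv]
        exact mul_left_cancel₀ hδ0 (by linear_combination e1 - e2)
      refine ⟨-δ * v (ζ ψ₀), ?_, ?_⟩
      · rw [Finset.sum_congr rfl fun ψ hψ => by rw [hvc ψ hψ], ← Finset.mul_sum, hsumy]
        push_cast; ring
      · rw [Finset.sum_congr rfl fun ψ hψ => by rw [hvc ψ hψ], ← Finset.mul_sum, hsumy]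
        push_cast
        rcases hD.sign with e | e <;> rw [e] <;> push_cast <;> ring
  have E1 : 1 + (-c χ₂) * v χ₂ + (-c χ₃) * v χ₃ + C = 0 := by
    obtain ⟨x, hx⟩ := isPPart_exists hp t
    have e := hK0 t x hx (hyt x hx)
    rw [blockKernel, finsum_mem_eq_finite_toFinset_sum _ (principalBlock M G).toFinite, ← hBF,
      hconjy fun χ => (χ : G → ℂ) t, hsplit fun χ => (χ : G → ℂ) t] at e
    simp only [hv] at e
    rw [hC1, ← hv one] at e
    simp only [hone'] at e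
    refine Int.cast_injective (α := ℂ) ?_
    push_cast
    linear_combination e
  haveI := Fintype.ofFinite G
  set S := Finset.univ.filter (IsConj t) with hS
  have hsumK : ∑ q ∈ S ×ˢ S, blockKernel (principalBlock M G) (q.1 * q.2) y = 0 :=
    Finset.sum_eq_zero fun q hq => by
      obtain ⟨x, hx⟩ := isPPart_exists hp (q.1 * q.2)
      simp only [hS, Finset.mem_product, Finset.mem_filter, Finset.mem_univ, true_and] at hq
      exact hK0 _ x hx (hyuv q.1 q.2 hq.1 hq.2 x hx)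
  have E2 : (1 : ℂ) + (-c χ₂ : ℂ) * (v χ₂ : ℂ) ^ 2 / x₂ + (-c χ₃ : ℂ) * (v χ₃ : ℂ) ^ 2 / x₃ +
      -(δ : ℂ) * (C : ℂ) ^ 2 / z = 0 := by
    have hidx : ((Subgroup.centralizer ({t} : Set G)).index : ℂ) = S.card := by
      rw [← card_isConj_eq_index, Nat.card_eq_fintype_card, Fintype.card_subtype]
    have hS0 : (S.card : ℂ) ≠ 0 := Nat.cast_ne_zero.2 (Finset.card_ne_zero.2
      ⟨t, Finset.mem_filter.2 ⟨Finset.mem_univ _, IsConj.refl t⟩⟩)
    have hs : ∀ χ : IrrCharacter G, ∑ q ∈ S ×ˢ S, (χ : G → ℂ) (q.1 * q.2) =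
        (S.card : ℂ) ^ 2 * ((v χ : ℂ) ^ 2 / (χ : G → ℂ) 1) := fun χ => by
      have h1 := IsIrrCharacter.apply_one_ne_zero χ.2
      have hh := centralChar_mul χ.2 t t
      simp only [centralChar, hidx, hv] at hh
      rw [Finset.sum_product]
      field_simp at hh ⊢
      linear_combination -hh
    simp only [blockKernel, finsum_mem_eq_finite_toFinset_sum _ (principalBlock M G).toFinite] at hsumK
    rw [Finset.sum_comm, ← hBF, Finset.sum_congr rfl fun (χ : IrrCharacter G) _ => show ∑ q ∈ S ×ˢ S, (χ : G → ℂ) (q.1 * q.2) *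
      conj ((χ : G → ℂ) (y : G)) = (S.card : ℂ) ^ 2 * ((v χ : ℂ) ^ 2 / (χ : G → ℂ) 1 * conj ((χ : G → ℂ) (y : G))) by
        rw [← Finset.sum_mul, hs χ, mul_assoc], ← Finset.mul_sum, mul_eq_zero] at hsumK
    have e := hsumK.resolve_left (pow_ne_zero 2 hS0)
    rw [hconjy fun χ => (v χ : ℂ) ^ 2 / (χ : G → ℂ) 1, hsplit fun χ => (v χ : ℂ) ^ 2 / (χ : G → ℂ) 1,
      Finset.sum_congr rfl fun ψ hψ => show (v (ζ ψ) : ℂ) ^ 2 / (ζ ψ : G → ℂ) 1 * conj (ψ y : ℂ) =
        (z : ℂ)⁻¹ * ((v (ζ ψ) : ℂ) ^ 2 * conj (ψ y : ℂ)) by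
          rw [hdeg ψ (Finset.ne_of_mem_erase hψ), ← charDegree_cast (IsIrrCharacter.isCharacter (ζ ψ₀).2), ← hz]
          ring,
      ← Finset.mul_sum, mul_left_comm, hC2,
      ← charDegree_cast (IsIrrCharacter.isCharacter χ₂.2), ← charDegree_cast (IsIrrCharacter.isCharacter χ₃.2),
      ← hx₂, ← hx₃, ← hv one] at e
    simp only [hone', one_pow, div_one] at e
    linear_combination e
  have hker : ∀ χ : IrrCharacter G, χ ≠ one → v χ ≠ (charDegree (χ : G → ℂ) : ℤ) := fun χ hne e => by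
    have hχc := IsIrrCharacter.isCharacter χ.2
    have hval : (χ : G → ℂ) t = (χ : G → ℂ) 1 := by
      rw [hv, e, ← charDegree_cast hχc]; push_cast; rfl
    let K : Subgroup G :=
      { carrier := {g | (χ : G → ℂ) g = (χ : G → ℂ) 1}
        mul_mem' := fun {a b} ha hb => ((IsCharacter.apply_mul_of_eq_one hχc ha b).1).trans hb
        one_mem' := rfl
        inv_mem' := fun {a} ha => by
          show (χ : G → ℂ) a⁻¹ = _
          rw [IsCharacter.map_inv hχc, show (χ : G → ℂ) a = _ from ha, ← charDegree_cast hχc, Complex.conj_natCast] }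
    have hKn : K.Normal := ⟨fun a ha g => by
      show (χ : G → ℂ) (g * a * g⁻¹) = _
      rw [(IsIrrCharacter.apply_isConj χ.2 (show IsConj a (g * a * g⁻¹) from isConj_iff.2 ⟨g, rfl⟩)).symm]
      exact ha⟩
    have hK := htn K hKn hval
    have hall : ∀ g : G, (χ : G → ℂ) g = (χ : G → ℂ) 1 := fun g =>
      show g ∈ K by rw [hK]; trivial
    apply hne
    apply Subtype.ext
    have hn := IsIrrCharacter.classInner_self χ.2
    rw [classInner, inv_mul_eq_iff_eq_mul₀ (Nat.cast_ne_zero.2 Nat.card_pos.ne'), mul_one,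
      Finset.sum_congr rfl fun g _ => by rw [hall g], Finset.sum_const, Finset.card_univ, nsmul_eq_mul,
      ← Nat.card_eq_fintype_card, ← charDegree_cast hχc, Complex.conj_natCast] at hn
    have h1 : charDegree (χ : G → ℂ) * charDegree (χ : G → ℂ) = 1 := by
      have : (Nat.card G : ℂ) * ((charDegree (χ : G → ℂ) * charDegree (χ : G → ℂ) : ℕ) : ℂ) =
          (Nat.card G : ℂ) * ((1 : ℕ) : ℂ) := by push_cast; linear_combination hn
      exact_mod_cast mul_left_cancel₀ (Nat.cast_ne_zero.2 Nat.card_pos.ne') this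
    funext g
    show (χ : G → ℂ) g = 1
    rw [hall g, ← charDegree_cast hχc, Nat.eq_one_of_mul_eq_one_right h1, Nat.cast_one]
  have p2 : 0 < x₂ := charDegree_pos χ₂.2
  have p3 : 0 < x₃ := charDegree_pos χ₃.2
  have pz : 0 < z := charDegree_pos (ζ ψ₀).2
  have s2 : c χ₂ = 1 ∨ c χ₂ = -1 := hX χ₂ h2X
  have s3 : c χ₃ = 1 ∨ c χ₃ = -1 := hX χ₃ h3X
  set a₂ : ℚ := -(c χ₂ : ℚ) with ha₂
  set a₃ : ℚ := -(c χ₃ : ℚ) with ha₃
  have q2 : a₂ * a₂ = 1 := by rcases s2 with e | e <;> simp [ha₂, e]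
  have q3 : a₃ * a₃ = 1 := by rcases s3 with e | e <;> simp [ha₃, e]
  have qδ : (δ : ℚ) * δ = 1 := by rcases hD.sign with e | e <;> simp [e]
  have E1Q : 1 + a₂ * v χ₂ + a₃ * v χ₃ + (C : ℚ) = 0 := by
    have := congrArg (fun k : ℤ => (k : ℚ)) E1
    push_cast at this
    linear_combination this
  have E2Q : 1 + a₂ * (v χ₂ : ℚ) ^ 2 / x₂ + a₃ * (v χ₃ : ℚ) ^ 2 / x₃ + -(δ : ℚ) * (C : ℚ) ^ 2 / z = 0 := by
    refine Rat.cast_injective (α := ℂ) ?_
    simp only [ha₂, ha₃]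
    push_cast
    linear_combination E2
  have hrelQ : 1 + a₂ * x₂ + a₃ * x₃ + -(δ : ℚ) * z = 0 := by
    have := congrArg (fun k : ℤ => (k : ℚ)) hrel
    push_cast at this
    simp only [ha₂, ha₃]
    linear_combination -this
  have n2 : (x₂ : ℚ) ≠ 0 := by exact_mod_cast p2.ne'
  have n3 : (x₃ : ℚ) ≠ 0 := by exact_mod_cast p3.ne'
  have nz : (z : ℚ) ≠ 0 := by exact_mod_cast pz.ne'
  have na2 : a₂ ≠ 0 := left_ne_zero_of_mul (q2 ▸ one_ne_zero)
  have na3 : a₃ ≠ 0 := left_ne_zero_of_mul (q3 ▸ one_ne_zero)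
  have nd : (δ : ℚ) ≠ 0 := left_ne_zero_of_mul (qδ ▸ one_ne_zero)
  obtain ⟨s, hs⟩ := discriminant (X₂ := a₂ * x₂) (X₃ := a₃ * x₃) (H := -(δ : ℚ) * z) (A := a₂ * v χ₂)
    (B := a₃ * v χ₃) (C := (C : ℚ)) (mul_ne_zero na2 n2) (mul_ne_zero na3 n3)
    (mul_ne_zero (neg_ne_zero.2 nd) nz) hrelQ E1Q (by
      have e : ∀ (a x w : ℚ), a * a = 1 → x ≠ 0 → (a * w) ^ 2 / (a * x) = a * w ^ 2 / x := fun a x w ha hx => by
        have : a ≠ 0 := left_ne_zero_of_mul (ha ▸ one_ne_zero)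
        field_simp
      have e' : (C : ℚ) ^ 2 / (-(δ : ℚ) * z) = -(δ : ℚ) * (C : ℚ) ^ 2 / z := by
        rw [div_eq_div_iff (mul_ne_zero (neg_ne_zero.2 nd) nz) nz]
        linear_combination (-((C : ℚ) ^ 2 * z)) * qδ
      rw [e _ _ _ q2 n2, e _ _ _ q3 n3, e']
      linear_combination E2Q)
    (fun hh => hker χ₃ h3ne (by
      have h' : (v χ₃ : ℚ) = (x₃ : ℚ) := mul_left_cancel₀ na3 hh
      exact_mod_cast h'))
  have hpos : 0 < a₂ * a₃ * -(δ : ℚ) := by
    have h1 : 0 ≤ a₂ * a₃ * -(δ : ℚ) * ((x₂ : ℚ) * x₃ * z) := by nlinarith [mul_self_nonneg s]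
    have h2 : 0 < (x₂ : ℚ) * x₃ * z := by positivity
    rcases lt_trichotomy 0 (a₂ * a₃ * -(δ : ℚ)) with hl | he | hg
    · exact hl
    · exact absurd he.symm (mul_ne_zero (mul_ne_zero na2 na3) (neg_ne_zero.2 nd))
    · nlinarith
  have hcase : a₂ * a₃ * -(δ : ℚ) = 1 := by
    have : (a₂ * a₃ * -(δ : ℚ)) * (a₂ * a₃ * -(δ : ℚ)) = 1 := by
      linear_combination (a₃ * a₃ * (δ : ℚ) * δ) * q2 + ((δ : ℚ) * δ) * q3 + qδ
    rcases mul_self_eq_one_iff.1 this with e | e
    · exact e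
    · linarith
  refine ⟨?_, fun η hη => ?_⟩
  · rw [hcountX]
    simp only [ha₂, ha₃] at hcase
    rcases s2 with e2 | e2 <;> rcases s3 with e3 | e3 <;> rcases hD.sign with e | e <;>
      simp only [e2, e3, e] at hcase hrel ⊢ <;> (try norm_num at hcase) <;> (try norm_num) <;> (try omega)
  · simp only [hYF, Finset.coe_image, Set.mem_image, Finset.mem_coe] at hη
    obtain ⟨ψ, hψ, rfl⟩ := hη
    rw [hprodX]
    have hzz : charDegree (ζ ψ : G → ℂ) = z := by
      have := hdeg ψ (Finset.ne_of_mem_erase hψ)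
      rw [← charDegree_cast (IsIrrCharacter.isCharacter (ζ ψ).2),
        ← charDegree_cast (IsIrrCharacter.isCharacter (ζ ψ₀).2)] at this
      exact_mod_cast this
    rw [hzz, ← Rat.isSquare_natCast_iff]
    refine ⟨s, ?_⟩
    push_cast
    linear_combination hs - ((z : ℚ) * x₂ * x₃) * hcase


/-- Let p be a prime, M a maximal ideal of the algebraic integers containing p, and G a finite group with a nontrivial abelian Sylow p-subgroup P, N = N_G(P), C = C_G(P), such that N/C is cyclic of order 3, #P > 4, and C_G(y) ∩ N = C for every non-identity y ∈ P. Then the principal p-block is the disjoint union of a set X of exactly 3 characters containing the principal character and a set Y of (#P − 1)/3 characters, with signs a_χ = ±1 (χ ∈ X, a = 1 at the principal character) and δ = ±1 such that every χ ∈ X takes the value a_χ at every element whose p-part is a non-identity element of P, and there is a map ζ from the non-principal linear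 characters of P onto Y, constant on N-conjugacy classes, with ζ_ψ(z) = δ·Σ ψ'(y) over the N-orbit of ψ, for z with p-part y ≠ 1 in P. If moreover G has an involution lying in no proper normal subgroup of G, then exactly two of the three numbers −δ and a_χ (χ ∈ X non-principal) equal −1, and the product of the degrees of the two non-principal members of X and of any member of Y is a perfect square. -/
theorem result {G : Type*} [Group G] [Finite G] (p : ℕ) [Fact p.Prime] (M : Ideal Cfsg.AlgInt) (hM : Cfsg.IsPModular p M) (P : Sylow p G) (hab : IsMulCommutative P) (hP1 : Nat.card P ≠ 1) (hCN : (Subgroup.centralizer ((P : Subgroup G) : Set G)).relIndex (Subgroup.normalizer ((P : Subgroup G) : Set G)) = 3) (hcyc : ∃ g : G, g ∈ Subgroup.normalizer ((P : Subgroup G) : Set G) ∧ Subgroup.centralizer ((P : Subgroup G) : Set G) ⊔ Subgroup.zpowers g = Subgroup.normalizer ((P : Subgroup G) : Set G)) (hm2 : 3 + 1 < Nat.card P) (hfrob : ∀ y : G,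 y ∈ (P : Subgroup G) → y ≠ 1 → Subgroup.centralizer ({y} : Set G) ⊓ Subgroup.normalizer ((P : Subgroup G) : Set G) = Subgroup.centralizer ((P : Subgroup G) : Set G)) : ∃ (X Y : Set (Cfsg.IrrCharacter G)), Cfsg.principalBlock M G = X ∪ Y ∧ Disjoint X Y ∧ Nat.card X = 3 ∧ Nat.card Y = (Nat.card P - 1) / 3 ∧ (∃ χ₁ ∈ X, (χ₁ : G → ℂ) = fun _ => 1) ∧ ∃ (a : Cfsg.IrrCharacter G → ℤ) (δ : ℤ) (ζ : (↥(P : Subgroup G) →* ℂˣ) → Cfsg.IrrCharacter G), (δ = 1 ∨ δ = -1) ∧ (∀ χ ∈ X, (a χ = 1 ∨ a χ = -1) ∧ ∀ z y : G, Cfsg.IsPPart p z y → y ∈ (P : Subgroup G) → y ≠ 1 → (χ : G → ℂ) z = (a χ : ℂ)) ∧ (∀ ψ : ↥(P : Subgroup G) →* ℂˣ, ψ ≠ 1 → ζ ψ ∈ Y) ∧ (∀ η ∈ Y, ∃ ψ : ↥(P : Subgroup G) →* ℂˣ, ψ ≠ 1 ∧ ζ ψ = η) ∧ (∀ ψ ψ' : ↥(P : Subgroup G) →* ℂˣ, ψ ≠ 1 → (∃ n : G, n ∈ Subgroup.normalizer ((P : Subgroup G) : Set G) ∧ ∀ w w' : ↥(P : Subgroup G), (w' : G) = n * w * n⁻¹ → ψ' w' = ψ w) → ζ ψ' = ζ ψ) ∧ (∀ ψ : ↥(P : Subgroup G) →* ℂˣ, ψ ≠ 1 → ∀ (z : G) (y : ↥(P :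 Subgroup G)), Cfsg.IsPPart p z (y : G) → (y : G) ≠ 1 → (ζ ψ : G → ℂ) z = (δ : ℂ) * ∑ᶠ ψ' ∈ {ψ' : ↥(P : Subgroup G) →* ℂˣ | ∃ n : G, n ∈ Subgroup.normalizer ((P : Subgroup G) : Set G) ∧ ∀ w w' : ↥(P : Subgroup G), (w' : G) = n * w * n⁻¹ → ψ' w' = ψ w}, ((ψ' y : ℂˣ) : ℂ)) ∧ ((∃ t : G, orderOf t = 2 ∧ ∀ K : Subgroup G, K.Normal → t ∈ K → K = ⊤) → Nat.card {χ : Cfsg.IrrCharacter G // χ ∈ X ∧ (χ : G → ℂ) ≠ (fun _ => 1) ∧ a χ = -1} + (if δ = 1 then 1 else 0) = 2 ∧ ∀ η ∈ Y, IsSquare (Cfsg.charDegree (η : G → ℂ) * ∏ᶠ χ ∈ {χ : Cfsg.IrrCharacter G | χ ∈ X ∧ (χ : G → ℂ) ≠ fun _ => 1}, Cfsg.charDegree (χ : G → ℂ))) := by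
  classical
  haveI := Fintype.ofFinite (P : Subgroup G)
  haveI := prime_of_isPModular hM
  have h : AbTI.Hyp P 3 := ⟨fun a b => hab.is_comm.comm a b, hCN, hfrob⟩
  haveI : Finite ((P : Subgroup G) →* ℂˣ) := by
    refine Nat.finite_of_card_ne_zero ?_
    rw [card_monoidHom_units]
    exact Subgroup.index_ne_zero_of_finite
  haveI := Fintype.ofFinite ((P : Subgroup G) →* ℂˣ)
  obtain ⟨ζ, δ, c, hD⟩ := normalised h hM hm2
  let one : IrrCharacter G := ⟨fun _ => 1, isIrrCharacter_one⟩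
  have h1B : one ∈ principalBlock M G := sameBlock_refl _
  obtain ⟨hc1, hζ1⟩ := hD.trivial_apply h hm2 (one := one) rfl h1B
  set YF := (Finset.univ.erase (1 : (P : Subgroup G) →* ℂˣ)).image ζ with hYF
  set BF := (principalBlock M G).toFinite.toFinset with hBF
  have hYB : YF ⊆ BF := fun η hη => by
    obtain ⟨ψ, hψ, rfl⟩ := Finset.mem_image.1 hη
    exact (Set.Finite.mem_toFinset _).2 (hD.mem ψ (Finset.ne_of_mem_erase hψ))
  have hY : ∀ ψ, ψ ≠ 1 → ζ ψ ∈ YF := fun ψ hψ =>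
    Finset.mem_image.2 ⟨ψ, Finset.mem_erase.2 ⟨hψ, Finset.mem_univ _⟩, rfl⟩
  have hr : YF.card * 3 = Nat.card P - 1 := hD.card_image h
  have hr' : (Nat.card P - 1) / 3 = YF.card := by omega
  have hcd : ∀ η ∈ YF, c η = 0 := fun η hη => by
    obtain ⟨ψ, hψ, rfl⟩ := Finset.mem_image.1 hη
    exact hD.coef_zeta ψ (Finset.ne_of_mem_erase hψ)
  have hnorm : ∑ χ ∈ BF \ YF, c χ * c χ = 3 := by
    have hn := hD.norm
    rw [← hBF, ← Finset.sum_sdiff hYB, Finset.sum_eq_zero (s := YF) (fun η hη => by rw [hcd η hη, mul_zero]),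
      add_zero, mul_zero, add_zero] at hn
    exact_mod_cast hn
  have hone : one ∈ BF \ YF := by
    refine Finset.mem_sdiff.2 ⟨(Set.Finite.mem_toFinset _).2 h1B, fun hm => ?_⟩
    obtain ⟨ψ, hψ, e⟩ := Finset.mem_image.1 hm
    exact hζ1 ψ (Finset.ne_of_mem_erase hψ) e
  have hX : ∀ χ ∈ BF \ YF, c χ = 1 ∨ c χ = -1 := fun χ hχ => by
    obtain ⟨hχB, hχY⟩ := Finset.mem_sdiff.1 hχ
    have h0 : c χ ≠ 0 :=
      hD.coeff_ne_zero h hM hm2 ((Set.Finite.mem_toFinset _).1 hχB) fun ψ hψ e => hχY (e ▸ hY ψ hψ)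
    have hle : c χ * c χ ≤ 3 :=
      le_of_le_of_eq (Finset.single_le_sum (fun i _ => mul_self_nonneg (c i)) hχ) hnorm
    have h1 : c χ ≤ 1 := by nlinarith
    have h2 : -1 ≤ c χ := by nlinarith
    omega
  have hX3 : (BF \ YF).card = 3 := by
    have : ((BF \ YF).card : ℤ) = 3 := by
      rw [Finset.card_eq_sum_ones, Nat.cast_sum, Nat.cast_one, ← hnorm]
      exact Finset.sum_congr rfl fun χ hχ => by rcases hX χ hχ with e | e <;> simp [e]
    exact_mod_cast this
  have hval : ∀ χ ∈ BF, ∀ (z y : G), IsPPart p z y → ∀ hy : y ∈ (P : Subgroup G), y ≠ 1 →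
      (χ : G → ℂ) z = -(c χ : ℂ) + (δ : ℂ) *
        ∑ ψ ∈ Finset.univ.filter (fun ψ : (P : Subgroup G) →* ℂˣ => ψ ≠ 1 ∧ ζ ψ = χ), (ψ ⟨y, hy⟩ : ℂ) :=
    fun χ hχ z y hz hy hy1 => by
      have hχB := (Set.Finite.mem_toFinset _).1 hχ
      rw [h.apply_section hM hχB hz hy hy1]
      exact hD.apply_eq h.comm hχB (y := ⟨y, hy⟩) fun e => hy1 (congrArg Subtype.val e)
  have hXval : ∀ χ ∈ BF \ YF, ∀ z y : G, IsPPart p z y → y ∈ (P : Subgroup G) → y ≠ 1 →
      (χ : G → ℂ) z = ((-c χ : ℤ) : ℂ) := fun χ hχ z y hz hy hy1 => by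
    obtain ⟨hχB, hχY⟩ := Finset.mem_sdiff.1 hχ
    rw [hval χ hχB z y hz hy hy1, Finset.sum_eq_zero fun ψ hψ => ?_, mul_zero, add_zero]
    · push_cast; rfl
    · simp only [Finset.mem_filter, Finset.mem_univ, true_and] at hψ
      exact absurd (hψ.2 ▸ hY ψ hψ.1) hχY
  refine ⟨↑(BF \ YF), ↑YF, ?_, ?_, ?_, ?_, ⟨one, hone, rfl⟩, fun χ => -c χ, δ, ζ,
    hD.sign, ?_, ?_, ?_, ?_, ?_, ?_⟩
  · rw [← Finset.coe_union, Finset.sdiff_union_of_subset hYB, hBF, Set.Finite.coe_toFinset]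
  · exact Finset.disjoint_coe.2 Finset.sdiff_disjoint
  · rw [Nat.card_coe_set_eq, Set.ncard_coe_finset, hX3]
  · rw [Nat.card_coe_set_eq, Set.ncard_coe_finset, hr']
  · intro χ hχ
    rw [Finset.mem_coe] at hχ
    exact ⟨by rcases hX χ hχ with e | e <;> simp [e], hXval χ hχ⟩
  · exact fun ψ hψ => hY ψ hψ
  · intro η hη
    obtain ⟨ψ, hψ, e⟩ := Finset.mem_image.1 (Finset.mem_coe.1 hη)
    exact ⟨ψ, Finset.ne_of_mem_erase hψ, e⟩
  · intro ψ ψ' hψ hn
    have ht : AbTI.Twist P ψ ψ' := hn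
    have hψ' : ψ' ≠ 1 := fun e => hψ (by
      obtain ⟨n, hn'⟩ := (AbTI.twist_iff P ψ ψ').1 ht
      rw [← hn', e, AbTI.one_tw])
    exact ((hD.eq_iff ψ ψ' hψ hψ').2 ht).symm
  · intro ψ hψ z y hz hy1
    rw [hval (ζ ψ) ((Set.Finite.mem_toFinset _).2 (hD.mem ψ hψ)) z y hz y.2 hy1, hD.coef_zeta ψ hψ]
    rw [show {ψ' : (P : Subgroup G) →* ℂˣ | ∃ n : G, n ∈ Subgroup.normalizer ((P : Subgroup G) : Set G) ∧
      ∀ w w' : (P : Subgroup G), (w' : G) = n * w * n⁻¹ → ψ' w' = ψ w} = _ from hD.fibre_eq hψ,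
      finsum_mem_coe_finset]
    simp
  · rintro ⟨t, ht, htn⟩
    exact involution_part h hM hm2 hD hX hX3 hone hXval hYB hcd ht htn

end Cfsg.Agent.S4721
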