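import Cfsg.Statements.S4722
import Cfsg.Agent.Lib.Block.PrincipalColumns
import Cfsg.Agent.Lib.Block.PrincipalKernel
import Cfsg.Agent.Lib.Block.InvolutionZero
import Cfsg.Agent.Lib.Inv.Exceptional
import Cfsg.Agent.Lib.Local.Basic

set_option autoImplicit false
open Cfsg

namespace Cfsg.Agent.S4722

open Cfsg.Agent.Block Cfsg.Agent.Char

/-- Let M be a maximal ideal of the algebraic integers containing 2, P a 2-subgroup of the finite group G, U a subset of P, and t an involution of G such that no element of U is inverted by any conjugate of t. Let θ be a generalized character of P vanishing outside U, and for χ in the principal 2-block B₀ put a_χ = #P⁻¹ Σ_{y ∈ P} χ(y) θ(y⁻¹). Then Σ_{χ ∈ B₀} a_χ χ(t)^2/χ(1) = 0, Σ_{χ ∈ B₀} a_χ χ(1) = 0 and Σ_{χ ∈ B₀} a_χ χ(t) = 0. If moreover #P⁻¹ Σ_{y ∈ P} θ(y) ≠ 0, then either at least two of the a_χ have positive real part and at least two have negative real part, or G has a proper normal subgroup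 containing O_2'(G) and t. -/
theorem result {G : Type*} [Group G] [Finite G] (M : Ideal Cfsg.AlgInt) (hM : Cfsg.IsPModular 2 M) (P : Subgroup G) (hP : IsPGroup 2 P) (U : Set G) (hUP : U ⊆ (P : Set G)) (t : G) (ht : orderOf t = 2) (hinv : ∀ u ∈ U, ∀ g : G, (g * t * g⁻¹) * u * (g * t * g⁻¹)⁻¹ ≠ u⁻¹) (θ : ↥P → ℂ) (hθ : Cfsg.IsGeneralizedCharacter ↥P θ) (hθU : ∀ y : ↥P, (y : G) ∉ U → θ y = 0) : (∑ᶠ χ ∈ Cfsg.principalBlock M G, ((Nat.card ↥P : ℂ)⁻¹ * ∑ᶠ y : ↥P, (χ : G → ℂ) (y : G) * θ y⁻¹) * (χ : G → ℂ) t ^ 2 / (χ : G → ℂ) 1 = 0) ∧ (∑ᶠ χ ∈ Cfsg.principalBlock M G, ((Nat.card ↥P : ℂ)⁻¹ * ∑ᶠ y : ↥P, (χ : G → ℂ) (y : G) * θ y⁻¹) * (χ : G → ℂ) 1 = 0) ∧ (∑ᶠ χ ∈ Cfsg.principalBlock M G, ((Nat.card ↥P : ℂ)⁻¹ * ∑ᶠ y : ↥P, (χ : G → ℂ) (y : G) * θ y⁻¹) * (χ : G → ℂ) t = 0) ∧ ((Nat.card ↥P : ℂ)⁻¹ * ∑ᶠ y : ↥P, θ y ≠ 0 → (2 ≤ Nat.card {χ : Cfsg.IrrCharacter G // χ ∈ Cfsg.principalBlock M G ∧ 0 < (((Nat.card ↥P : ℂ)⁻¹ * ∑ᶠ y : ↥P, (χ : G → ℂ) (y : G)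 * θ y⁻¹)).re} ∧ 2 ≤ Nat.card {χ : Cfsg.IrrCharacter G // χ ∈ Cfsg.principalBlock M G ∧ (((Nat.card ↥P : ℂ)⁻¹ * ∑ᶠ y : ↥P, (χ : G → ℂ) (y : G) * θ y⁻¹)).re < 0}) ∨ ∃ K : Subgroup G, K.Normal ∧ K ≠ ⊤ ∧ Cfsg.pPrimeCore 2 G ≤ K ∧ t ∈ K) := by
  classical
  haveI := prime_of_isPModular hM
  haveI := Fintype.ofFinite G
  haveI := Fintype.ofFinite ↥P
  haveI := Fintype.ofFinite (Cfsg.IrrCharacter G)
  let one : Cfsg.IrrCharacter G := ⟨fun _ => 1, isIrrCharacter_one⟩
  have hB : Cfsg.IsPBlock M (Cfsg.principalBlock M G) := ⟨one, rfl⟩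
  simp only [finsum_mem_eq_finite_toFinset_sum _ (Set.toFinite (Cfsg.principalBlock M G)),
    finsum_eq_sum_of_fintype (α := ↥P)]
  set S := (Set.toFinite (Cfsg.principalBlock M G)).toFinset with hS
  have hPp : ∀ a : ↥P, ∃ k : ℕ, orderOf (a : G) = 2 ^ k := fun a => by
    rw [Subgroup.orderOf_coe]; exact IsPGroup.iff_orderOf.1 hP a
  have ht2 : ∀ g : G, (g * t * g⁻¹) * (g * t * g⁻¹) = 1 := fun g => by
    have h := pow_orderOf_eq_one t; rw [ht, pow_two] at h
    calc (g * t * g⁻¹) * (g * t * g⁻¹) = g * (t * t) * g⁻¹ := by group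
      _ = 1 := by rw [h]; group
  have hU : ∀ y : ↥P, θ y⁻¹ ≠ 0 → ∀ g : G,
      (g * t * g⁻¹) * (y : G) * (g * t * g⁻¹)⁻¹ ≠ (y : G)⁻¹ := by
    intro y hy g h
    have h1 : ((y⁻¹ : ↥P) : G) ∈ U := by
      by_contra hn; exact hy (hθU _ hn)
    rw [Subgroup.coe_inv] at h1
    refine hinv _ h1 g ?_
    rw [← conj_inv, h]
  let a : Cfsg.IrrCharacter G → ℂ := fun χ =>
    (Nat.card ↥P : ℂ)⁻¹ * ∑ y : ↥P, (χ : G → ℂ) (y : G) * θ y⁻¹
  have hzero : ∀ f : Cfsg.IrrCharacter G → ℂ,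
      (∀ y : ↥P, θ y⁻¹ ≠ 0 → ∑ χ ∈ S, (χ : G → ℂ) (y : G) * f χ = 0) → ∑ χ ∈ S, a χ * f χ = 0 := by
    intro f hf
    simp only [a, Finset.mul_sum, Finset.sum_mul]
    rw [Finset.sum_comm]
    refine Finset.sum_eq_zero fun y _ => ?_
    rcases eq_or_ne (θ y⁻¹) 0 with h | h
    · simp [h]
    rw [show (∑ χ ∈ S, (Nat.card ↥P : ℂ)⁻¹ * ((χ : G → ℂ) (y : G) * θ y⁻¹) * f χ) =
      (Nat.card ↥P : ℂ)⁻¹ * θ y⁻¹ * ∑ χ ∈ S, (χ : G → ℂ) (y : G) * f χ by
        rw [Finset.mul_sum]; exact Finset.sum_congr rfl fun χ _ => by ring, hf y h, mul_zero]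
  have hker : ∀ (y : ↥P) (b : G), (∃ k : ℕ, orderOf b = 2 ^ k) → ¬ IsConj (y : G) b →
      ∑ χ ∈ S, (χ : G → ℂ) (y : G) * (starRingEnd ℂ) ((χ : G → ℂ) b) = 0 := by
    intro y b hb hyb
    have := blockKernel_principal_pElement hM (hPp y) hb
    rwa [if_neg hyb, blockKernel, finsum_mem_eq_finite_toFinset_sum _ (Set.toFinite _)] at this
  have e1 : ∑ χ ∈ S, a χ * (χ : G → ℂ) 1 = 0 := hzero _ fun y hy => by
    refine (Finset.sum_congr rfl fun χ _ => ?_).trans (hker y 1 ⟨0, by simp⟩ fun h => hU y hy 1 ?_)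
    · rw [← charDegree_cast (IsIrrCharacter.isCharacter χ.2), Complex.conj_natCast]
    · rw [isConj_one_right.1 h.symm]; group
  have e2 : ∑ χ ∈ S, a χ * (χ : G → ℂ) t = 0 := hzero _ fun y hy => by
    refine (Finset.sum_congr rfl fun χ _ => ?_).trans (hker y t ⟨1, by simpa using ht⟩ fun h => ?_)
    · rw [Inv.conj_apply_involution χ ht]
    · obtain ⟨g, hg⟩ := isConj_iff.1 h.symm
      refine hU y hy g ?_
      rw [hg]
      have h2 := ht2 g; rw [hg] at h2
      rw [mul_inv_cancel_right]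
      exact (inv_eq_of_mul_eq_one_right h2).symm
  let F : G → ℂ := fun g => (classSum t * classSum t).coeff g⁻¹
  have hFc : IsClassFunction G F := fun x y => by
    show (classSum t * classSum t).coeff (y * x * y⁻¹)⁻¹ = (classSum t * classSum t).coeff x⁻¹
    rw [show (y * x * y⁻¹)⁻¹ = y * x⁻¹ * y⁻¹ by group]
    exact ((isCentralElt_classSum t).mul (isCentralElt_classSum t)) x⁻¹ y
  have e3 : ∑ χ ∈ S, a χ * ((χ : G → ℂ) t ^ 2 / (χ : G → ℂ) 1) = 0 := hzero _ fun y hy => by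
    have h0 : blockPart (Cfsg.principalBlock M G) F (y : G) = 0 :=
      blockPart_eq_zero_of_section hM hFc (hPp y) (fun u z hu hyz => by
        show (classSum t * classSum t).coeff u⁻¹ = 0
        rw [MonoidAlgebra.coeff_mul_apply_left, Finsupp.sum_fintype _ _ (by simp)]
        refine Finset.sum_eq_zero fun x _ => ?_
        simp only [classSum, coeff_mkA]
        split_ifs with hx hx'
        · exfalso
          obtain ⟨c, rfl⟩ := isConj_iff.1 hx
          obtain ⟨d, hd⟩ := isConj_iff.1 hx'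
          have hxx := ht2 c
          generalize hxdef : c * t * c⁻¹ = x at *
          have hxi : x⁻¹ = x := inv_eq_of_mul_eq_one_right hxx
          have hd2 := ht2 d
          rw [hd, hxi] at hd2
          have hxu : x * u * x⁻¹ = u⁻¹ := by
            have h4 : x * u⁻¹ * x = u := by
              calc x * u⁻¹ * x = x * u⁻¹ * (x * u⁻¹) * u := by group
                _ = u := by rw [hd2, one_mul]
            rw [hxi]
            calc x * u * x = x * (x * u⁻¹ * x) * x := by rw [h4]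
              _ = (x * x) * u⁻¹ * (x * x) := by group
              _ = u⁻¹ := by rw [hxx]; group
          obtain ⟨v, hu1, hu2, hu3, hu4⟩ := hu
          have hinvp : IsPPart 2 u⁻¹ z⁻¹ := ⟨v⁻¹, by rw [← hu1, hu2.eq, mul_inv_rev],
            hu2.inv_inv, by simpa using hu3, by rwa [orderOf_inv]⟩
          have hz := isPPart_conj (p := 2) ⟨v, hu1, hu2, hu3, hu4⟩ x
          rw [hxu] at hz
          have hzz := isPPart_unique Nat.prime_two hz hinvp
          obtain ⟨g, hg⟩ := isConj_iff.1 hyz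
          refine hU y hy (g⁻¹ * c) ?_
          rw [show g⁻¹ * c * t * (g⁻¹ * c)⁻¹ = g⁻¹ * (c * t * c⁻¹) * g by group, hxdef]
          calc g⁻¹ * x * g * (y : G) * (g⁻¹ * x * g)⁻¹
              = g⁻¹ * (x * (g * (y : G) * g⁻¹) * x⁻¹) * g := by group
            _ = g⁻¹ * z⁻¹ * g := by rw [hg, hzz]
            _ = (y : G)⁻¹ := by rw [← hg]; group
        all_goals simp) hB (isPPart_self Nat.prime_two (hPp y)) (IsConj.refl _)
    have hF : ∀ (I : Fintype G) (χ : Cfsg.IrrCharacter G), @classInner G _ I F (χ : G → ℂ) =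
        (Nat.card G : ℂ)⁻¹ * (((Subgroup.centralizer ({t} : Set G)).index : ℂ) ^ 2 *
          ((χ : G → ℂ) t ^ 2 / (χ : G → ℂ) 1)) := by
      intro I χ
      rw [Subsingleton.elim I ‹Fintype G›]
      have hex : F = fun g => ∑ ψ : Cfsg.IrrCharacter G, ((Nat.card G : ℂ)⁻¹ *
          (((Subgroup.centralizer ({t} : Set G)).index : ℂ) ^ 2 *
            ((ψ : G → ℂ) t ^ 2 / (ψ : G → ℂ) 1))) * (ψ : G → ℂ) g := by
        funext g
        show (classSum t * classSum t).coeff g⁻¹ = _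
        rw [coeff_eq_sum_omega ((isCentralElt_classSum t).mul (isCentralElt_classSum t)),
          Finset.mul_sum]
        refine Finset.sum_congr rfl fun ψ _ => ?_
        have h1 := IsIrrCharacter.apply_one_ne_zero ψ.2
        rw [omega_mul ψ (isCentralElt_classSum t) (isCentralElt_classSum t), omega_classSum, centralChar,
          IsCharacter.map_inv (IsIrrCharacter.isCharacter ψ.2), Complex.conj_conj]
        field_simp
      rw [hex]
      simp only [classInner, Finset.sum_mul]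
      rw [Finset.sum_comm, Finset.mul_sum, Finset.sum_eq_single χ]
      · have h := classInner_irr χ χ
        rw [if_pos rfl, classInner] at h
        simp only [mul_assoc, ← Finset.mul_sum]
        rw [mul_left_comm]
        linear_combination ((Nat.card G : ℂ)⁻¹ * (((Subgroup.centralizer ({t} : Set G)).index : ℂ) ^ 2 *
            ((χ : G → ℂ) t ^ 2 / (χ : G → ℂ) 1))) * h
      · intro ψ _ hψ
        have h := classInner_irr ψ χ
        rw [if_neg hψ, classInner] at h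
        simp only [mul_assoc, ← Finset.mul_sum]
        linear_combination ((Nat.card G : ℂ)⁻¹ * (((Subgroup.centralizer ({t} : Set G)).index : ℂ) ^ 2 *
            ((ψ : G → ℂ) t ^ 2 / (ψ : G → ℂ) 1))) * h
      · exact fun h => absurd (Finset.mem_univ χ) h
    simp only [blockPart, finsum_mem_eq_finite_toFinset_sum _ (Set.toFinite (Cfsg.principalBlock M G))] at h0
    rw [Finset.sum_congr rfl (g := fun χ : Cfsg.IrrCharacter G => ((Nat.card G : ℂ)⁻¹ *
      ((Subgroup.centralizer ({t} : Set G)).index : ℂ) ^ 2) * ((χ : G → ℂ) (y : G) *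
        ((χ : G → ℂ) t ^ 2 / (χ : G → ℂ) 1))) fun χ _ => by
          rw [hF]; ring, ← Finset.mul_sum] at h0
    refine (mul_eq_zero.1 h0).resolve_left (mul_ne_zero (inv_ne_zero (Nat.cast_ne_zero.2 Nat.card_pos.ne'))
      (pow_ne_zero 2 (Nat.cast_ne_zero.2 Subgroup.index_ne_zero_of_finite)))
  refine ⟨?_, e1, e2, fun hθ1 => ?_⟩
  · rw [← e3]; exact Finset.sum_congr rfl fun χ _ => mul_div_assoc _ _ _
  have haint : ∀ χ : Cfsg.IrrCharacter G, ∃ n : ℤ, a χ = n := by
    intro χ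
    obtain ⟨n, hn⟩ := classInner_int_of_isGeneralized
      (IsGeneralizedCharacter.restrict (IsIrrCharacter.isGeneralized χ.2) P) hθ
    refine ⟨n, ?_⟩
    rw [← hn, classInner]
    show (Nat.card ↥P : ℂ)⁻¹ * _ = (Nat.card ↥P : ℂ)⁻¹ * _
    refine congrArg _ (Finset.sum_congr rfl fun y _ => ?_)
    rw [IsGeneralizedCharacter.map_inv hθ]
  choose n hn using haint
  let x : Cfsg.IrrCharacter G → ℝ := fun χ => ((χ : G → ℂ) 1).re
  let s : Cfsg.IrrCharacter G → ℝ := fun χ => ((χ : G → ℂ) t).re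
  have hx : ∀ χ, (x χ : ℂ) = (χ : G → ℂ) 1 ∧ 1 ≤ x χ := fun χ => Inv.apply_one_re χ
  have hs : ∀ χ, (s χ : ℂ) = (χ : G → ℂ) t := fun χ =>
    Complex.conj_eq_iff_re.1 (Inv.conj_apply_involution χ ht)
  have r1 : ∑ χ ∈ S, (n χ : ℝ) * x χ = 0 := by
    apply Complex.ofReal_injective
    push_cast
    simp only [hx, ← hn]
    exact e1
  have r2 : ∑ χ ∈ S, (n χ : ℝ) * s χ = 0 := by
    apply Complex.ofReal_injective
    push_cast
    simp only [hs, ← hn]
    exact e2
  have r3 : ∑ χ ∈ S, (n χ : ℝ) * (s χ ^ 2 / x χ) = 0 := by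
    apply Complex.ofReal_injective
    push_cast
    simp only [hx, hs, ← hn]
    exact e3
  have hone : one ∈ S := (Set.Finite.mem_toFinset _).2 (self_mem_blockOf one)
  have hn1 : n one ≠ 0 := by
    intro h
    apply hθ1
    have h1 := hn one
    rw [h, Int.cast_zero] at h1
    rw [← h1]
    refine congrArg _ (Finset.sum_equiv (Equiv.inv ↥P) (fun _ => by simp) fun y _ => ?_)
    simp [one]
  by_contra hcon
  rw [not_or] at hcon
  obtain ⟨hcount, hK⟩ := hcon
  have key : ∀ ε : ℝ, (ε = 1 ∨ ε = -1) →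
      Nat.card {χ : Cfsg.IrrCharacter G // χ ∈ Cfsg.principalBlock M G ∧ 0 < ε * (n χ : ℝ)} ≤ 1 → False := by
    intro ε hε hcard
    haveI hsub : Subsingleton {χ : Cfsg.IrrCharacter G // χ ∈ Cfsg.principalBlock M G ∧ 0 < ε * (n χ : ℝ)} :=
      Finite.card_le_one_iff_subsingleton.1 hcard
    have hε0 : ε ≠ 0 := by rcases hε with h | h <;> simp [h]
    obtain ⟨χ₀, hχ₀, hpos⟩ : ∃ χ ∈ S, 0 < ε * (n χ : ℝ) := by
      by_contra hall
      push Not at hall
      have h0 : ∀ χ ∈ S, ε * ((n χ : ℝ) * x χ) = 0 := by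
        refine (Finset.sum_eq_zero_iff_of_nonpos fun χ hχ => ?_).1 (by rw [← Finset.mul_sum, r1, mul_zero])
        rw [← mul_assoc]; exact mul_nonpos_of_nonpos_of_nonneg (hall χ hχ) (by linarith [(hx χ).2])
      have := h0 one hone
      simp only [mul_eq_zero, hε0, Int.cast_eq_zero, hn1, false_or] at this
      linarith [(hx one).2]
    set r := s χ₀ / x χ₀ with hr
    have hterm : ∀ χ ∈ S, ε * ((n χ : ℝ) * ((s χ - r * x χ) ^ 2 / x χ)) = 0 := by
      refine (Finset.sum_eq_zero_iff_of_nonpos fun χ hχ => ?_).1 ?_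
      · by_cases h : 0 < ε * (n χ : ℝ)
        · have : χ = χ₀ := congrArg Subtype.val (@Subsingleton.elim _ hsub
            ⟨χ, (Set.Finite.mem_toFinset _).1 hχ, h⟩ ⟨χ₀, (Set.Finite.mem_toFinset _).1 hχ₀, hpos⟩)
          subst this
          rw [hr, div_mul_cancel₀ _ (by linarith [(hx χ).2] : x χ ≠ 0)]
          simp
        · rw [← mul_assoc]
          exact mul_nonpos_of_nonpos_of_nonneg (not_lt.1 h) (div_nonneg (sq_nonneg _) (by linarith [(hx χ).2]))
      · rw [← Finset.mul_sum, Finset.sum_congr rfl (g := fun χ => (n χ : ℝ) * (s χ ^ 2 / x χ) -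
          2 * r * ((n χ : ℝ) * s χ) + r ^ 2 * ((n χ : ℝ) * x χ)) fun χ _ => by
            have : x χ ≠ 0 := by linarith [(hx χ).2]
            field_simp; ring,
          Finset.sum_add_distrib, Finset.sum_sub_distrib, ← Finset.mul_sum, ← Finset.mul_sum, r1, r2, r3]
        ring
    have heq : ∀ χ ∈ S, n χ ≠ 0 → s χ = r * x χ := by
      intro χ hχ h
      have := hterm χ hχ
      simp only [mul_eq_zero, hε0, Int.cast_eq_zero, h, div_eq_zero_iff, false_or] at this
      rcases this with h' | h'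
      · nlinarith [h']
      · linarith [(hx χ).2]
    have hr1 : r = 1 := by
      have := heq one hone hn1
      simpa [x, s, one] using this.symm
    obtain ⟨χ, hχ, hχn, hχne⟩ : ∃ χ ∈ S, n χ ≠ 0 ∧ χ ≠ one := by
      by_contra hall
      push Not at hall
      rw [Finset.sum_eq_single one (fun χ hχ hne => by
        rw [not_not.1 (fun h => hne (hall χ hχ h)), Int.cast_zero, zero_mul]) (fun h => absurd hone h)] at r1
      simp only [mul_eq_zero, Int.cast_eq_zero, hn1, false_or] at r1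
      linarith [(hx one).2]
    have htK : (χ : G → ℂ) t = (χ : G → ℂ) 1 := by
      rw [← hs, ← (hx χ).1, heq χ hχ hχn, hr1, one_mul]
    obtain ⟨m, ρ, hρ, hρχ⟩ := χ.2
    have hmem : ∀ g : G, g ∈ ρ.ker ↔ (χ : G → ℂ) g = (χ : G → ℂ) 1 := fun g => by
      rw [← hρχ, MonoidHom.mem_ker, ρ.char_one]; exact (character_eq_finrank_iff ρ g).symm
    refine hK ⟨ρ.ker, inferInstance, fun htop => hχne (Subtype.ext ?_), fun g hg => ?_, (hmem t).2 htK⟩
    · have hall : ∀ g : G, (χ : G → ℂ) g = (χ : G → ℂ) 1 := fun g => (hmem g).1 (by rw [htop]; trivial)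
      have hir := IsIrrCharacter.classInner_eq_zero χ.2 one.2
      by_contra hne
      have h0 := hir hne
      simp only [classInner, one, map_one, mul_one, hall, Finset.sum_const, Finset.card_univ,
        nsmul_eq_mul, ← Nat.card_eq_fintype_card] at h0
      rw [← mul_assoc, inv_mul_cancel₀ (Nat.cast_ne_zero.2 Nat.card_pos.ne'), one_mul] at h0
      exact IsIrrCharacter.apply_one_ne_zero χ.2 h0
    · exact (hmem g).2 (apply_eq_one_of_mem_principal hM (Cfsg.pPrimeCore 2 G)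
        (Local.not_dvd_card_pPrimeCore Nat.prime_two) ((Set.Finite.mem_toFinset _).1 hχ) hg)
  simp only [← finsum_eq_sum_of_fintype (α := ↥P)] at hcount
  have hare : ∀ χ : Cfsg.IrrCharacter G,
      ((Nat.card ↥P : ℂ)⁻¹ * ∑ᶠ y : ↥P, (χ : G → ℂ) (y : G) * θ y⁻¹).re = (n χ : ℝ) := fun χ => by
    rw [finsum_eq_sum_of_fintype]; exact (congrArg Complex.re (hn χ)).trans (by simp)
  simp only [hare] at hcount
  rcases not_and_or.1 hcount with h | h
  · exact key 1 (Or.inl rfl) (by simp only [one_mul]; omega)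
  · exact key (-1) (Or.inr rfl) (by simp only [neg_mul, one_mul, Left.neg_pos_iff]; omega)

end Cfsg.Agent.S4722
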