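import Cfsg.Statements.S4723
import Cfsg.Agent.Lib.Block.HeightZeroStable

set_option autoImplicit false
open Cfsg

namespace Cfsg.Agent.S4723

open Cfsg.Agent.Block Cfsg.Agent.Char

/-- Let p be a prime, M a maximal ideal of the algebraic integers containing p, H a normal subgroup of the finite group G and b a p-block of H. Let T be the stabilizer of b in G. Then b contains a character θ of height zero whose own stabilizer in G (the elements g with θ(g h g⁻¹) = θ(h) for all h ∈ H) has index prime to p in T, i.e. contains a Sylow p-subgroup of T. -/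
theorem result {G : Type*} [Group G] [Finite G] (p : ℕ) [Fact p.Prime] (M : Ideal Cfsg.AlgInt) (hM : Cfsg.IsPModular p M) (H : Subgroup G) [H.Normal] (b : Set (Cfsg.IrrCharacter ↥H)) (hb : Cfsg.IsPBlock M b) (T : Subgroup G) (hT : (∀ g : G, g ∈ T ↔ ∀ θ ∈ b, ∀ θ' : Cfsg.IrrCharacter ↥H, (∀ h h' : ↥H, (h' : G) = g * h * g⁻¹ → (θ' : ↥H → ℂ) h' = (θ : ↥H → ℂ) h) → θ' ∈ b)) : ∃ θ ∈ b, Cfsg.blockHeight p b (θ : ↥H → ℂ) = 0 ∧ ∃ S : Subgroup G, S ≤ T ∧ (∀ g : G, g ∈ S ↔ (g ∈ T ∧ ∀ h h' : ↥H, (h' : G) = g * h * g⁻¹ → (θ : ↥H → ℂ) h' = (θ : ↥H → ℂ) h)) ∧ ¬ p ∣ S.relIndex T := by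
  classical
  haveI := prime_of_isPModular hM
  have hfix : ∀ t ∈ T, ∃ ht : t ∈ Subgroup.normalizer (H : Set G), conjBlk ht b = b := by
    intro t ht
    have htn : t ∈ Subgroup.normalizer (H : Set G) := Subgroup.normalizer_eq_top H ▸ Subgroup.mem_top t
    obtain ⟨η, hη⟩ := isPBlock_nonempty hb
    have hmem : conjIrr htn η ∈ b := (hT t).1 ht η hη _ fun h h' hh => by
      rw [conjIrr_apply]
      exact congrArg (η : H → ℂ) (Subtype.ext (by rw [coe_normConj, hh]; group))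
    exact ⟨htn, isPBlock_eq_of_mem (isPBlock_conjBlk htn hb) hb ((mem_conjBlk_iff htn b η).2 hη) hmem⟩
  have hHT : H ≤ T := fun g hg => (hT g).2 fun η hη η' hh => by
    have : η' = η := Subtype.ext (funext fun k => by
      rw [hh (⟨g⁻¹, inv_mem hg⟩ * k * ⟨g, hg⟩) k (by simp [mul_assoc])]
      exact IsIrrCharacter.apply_isConj η.2 (isConj_iff.2 ⟨⟨g, hg⟩, by ext; simp [mul_assoc]⟩))
    rw [this]; exact hη
  obtain ⟨θ, hθ, hh0, S₀, hS₀T, hS₀, hS₀fix⟩ := exists_height_zero_fixed hM hb hHT hfix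
  let S : Subgroup G :=
    { carrier := {g : G | g ∈ T ∧ ∀ h h' : H, (h' : G) = g * h * g⁻¹ → (θ : H → ℂ) h' = (θ : H → ℂ) h}
      one_mem' := ⟨one_mem T, fun h h' hh => by rw [Subtype.ext (a1 := h') (a2 := h) (by simpa using hh)]⟩
      mul_mem' := by
        rintro x y ⟨hx, hx'⟩ ⟨hy, hy'⟩
        refine ⟨mul_mem hx hy, fun h h' hh => ?_⟩
        rw [hx' ⟨y * h * y⁻¹, ‹H.Normal›.conj_mem _ h.2 y⟩ h' (by rw [hh]; simp [mul_assoc])]
        exact hy' h _ rfl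
      inv_mem' := by
        rintro x ⟨hx, hx'⟩
        refine ⟨inv_mem hx, fun h h' hh => (hx' h' h (by rw [hh]; group)).symm⟩ }
  refine ⟨θ, hθ, hh0, S, fun g hg => hg.1, fun g => Iff.rfl, ?_⟩
  have hle : S₀ ≤ S := by
    intro s hs
    refine ⟨hS₀T hs, fun h h' hh => ?_⟩
    obtain ⟨hsn, e⟩ := hS₀fix s hs
    conv_lhs => rw [← e, conjIrr_apply]
    exact congrArg (θ : H → ℂ) (Subtype.ext (by rw [coe_normConj, hh]; group))
  exact fun h => hS₀ (h.trans (Subgroup.relIndex_dvd_of_le_left T hle))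

end Cfsg.Agent.S4723
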