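import Cfsg.Statements.S4726
import Cfsg.Agent.Lib.Block.SubgroupPair
import Cfsg.Agent.Lib.Block.DefectDeficiency
import Cfsg.Agent.Lib.Block.FirstMain

set_option autoImplicit false
open Cfsg

namespace Cfsg.Agent.S4726

open Cfsg.Agent.Block Cfsg.Agent.Char

/-- Let p be a prime, M a maximal ideal of the algebraic integers containing p, H a subgroup of the finite group G and b a p-block of H with defect group D₀ such that C_G(D₀) ≤ H. Then b induces a block of G, and for every block B of G induced by b there is a defect group D of B with Z(D) ≤ Z(D₀) ≤ D₀ ≤ D (as subgroups of G). In particular, if the defect groups of B are abelian then D₀ is a defect group of B. -/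
theorem result {G : Type*} [Group G] [Finite G] (p : ℕ) [Fact p.Prime] (M : Ideal Cfsg.AlgInt) (hM : Cfsg.IsPModular p M) (H : Subgroup G) (b : Set (Cfsg.IrrCharacter ↥H)) (hb : Cfsg.IsPBlock M b) (D₀ : Subgroup ↥H) (hD₀ : Cfsg.IsDefectGroup p M b D₀) (hC : Subgroup.centralizer ((D₀.map H.subtype : Subgroup G) : Set G) ≤ H) : Cfsg.InducedBlockDefined M H b ∧ ∀ B : Set (Cfsg.IrrCharacter G), Cfsg.IsInducedBlock M H b B → (∃ D : Subgroup G, Cfsg.IsDefectGroup p M B D ∧ (Subgroup.center ↥D).map D.subtype ≤ ((Subgroup.center ↥D₀).map D₀.subtype).map H.subtype ∧ ((Subgroup.center ↥D₀).map D₀.subtype).map H.subtype ≤ D₀.map H.subtype ∧ D₀.map H.subtype ≤ D) ∧ (∀ D : Subgroup G, Cfsg.IsDefectGroup p M B D → IsMulCommutative ↥D → Cfsg.IsDefectGroup p M B (D₀.map H.subtype)) := by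
  haveI := prime_of_isPModular hM
  classical
  haveI := Fintype.ofFinite G
  set P : Subgroup G := D₀.map H.subtype with hP
  have hPH : P ≤ H := Subgroup.map_subtype_le D₀
  have hD0p : IsPGroup p D₀ := isPGroup_of_isDefectGroup hD₀
  have hPp : IsPGroup p P := hD0p.map _
  have hsub : P.subgroupOf H = D₀ := Subgroup.comap_map_eq_self_of_injective H.subtype_injective D₀
  obtain ⟨ξ, hξ⟩ := isPBlock_nonempty hb
  have hf : Factors M P H ξ := Factors.of_defectGroup hM hPH hb (hsub.symm ▸ hD₀) hξ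
  have hh := isResHom_lam hM hPp hC (Or.inl hPH) hf
  obtain ⟨B₁, hB₁, h1⟩ := hh.exists_block
  have hind₁ : IsInducedBlock M H b B₁ := isInducedBlock_of_lam hb hξ hh hB₁ (h1 ▸ one_ne_zero)
  refine ⟨⟨B₁, hind₁⟩, fun B hind => ?_⟩
  obtain rfl : B = B₁ := by
    obtain ⟨χ, hχ⟩ := isPBlock_nonempty hind.2.1
    obtain ⟨χ', hχ'⟩ := isPBlock_nonempty hB₁
    refine isPBlock_eq_of_mem hind.2.1 hB₁ hχ ((isPBlock_mem_iff hB₁ hχ').2 fun g => ?_)
    have := memLocalIdeal_sub (hind.2.2 ξ hξ χ hχ g) (hind₁.2.2 ξ hξ χ' hχ' g)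
    simpa using this
  -- the pair at `D₀`, in both groups
  obtain ⟨e, he⟩ := exists_pairOf_defectGroup hM hb hD₀
  obtain ⟨θ, hθ⟩ := isPBlock_nonempty he.1.2
  have hlamE : lam M (Subgroup.centralizer (D₀ : Set H)) θ (resH H (blockIdem B)) = 1 := by
    have hcl : CL M (resH H (blockIdem B)) := cl_resH ((CL.blockIdem hB₁).ps H)
    rw [(isResHom_lam_centralizer hM hD0p θ).eq_ro hb (by rw [((isBrauerPairOf_iff hθ).1 he).2.2]; exact one_ne_zero) hξ hcl]
    exact h1
  set eG := liftBlk D₀ hC e with heG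
  have hθG : compIrr (centIso D₀ hC) θ ∈ eG := ⟨θ, hθ, rfl⟩
  have hpairG : IsBrauerPairOf p M B P eG := by
    rw [isBrauerPairOf_iff hθG]
    refine ⟨⟨hPp, isPBlock_liftBlk D₀ hC he.1.2⟩, hB₁, ?_⟩
    rw [lam_liftBlk D₀ hC θ (z := resH H (blockIdem B)) fun k => (coeff_resH _ _ _).symm]
    exact hlamE
  obtain ⟨R, gR, hmax, hle⟩ := exists_maximal_above hpairG
  have hR : IsDefectGroup p M B R := isDefectGroup_of_maximal hM hmax
  have hPR : P ≤ R := SubpairLE.le hle
  -- central elements of `R` lie in `D₀`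
  have key : ∀ z : R, z ∈ Subgroup.center R → (z : G) ∈ P := by
    intro z hz
    have hzC : (z : G) ∈ Subgroup.centralizer (P : Set G) := Subgroup.mem_centralizer_iff.2 fun q hq =>
      congrArg Subtype.val (Subgroup.mem_center_iff.1 hz ⟨q, hPR hq⟩)
    set K : Subgroup G := P ⊔ Subgroup.zpowers (z : G) with hK
    have hKR : K ≤ R := sup_le hPR (Subgroup.zpowers_le.2 z.2)
    have hKH : K ≤ H := sup_le hPH (Subgroup.zpowers_le.2 (hC hzC))
    have hPK : P ≤ K := le_sup_left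
    have hKp : IsPGroup p K := hmax.1.1.1.to_le hKR
    obtain ⟨f, hfR, -⟩ := existsUnique_subpair hM R gR hmax.1.1 K hKR
    have hfpair : IsBrauerPairOf p M B K f := (SubpairLE.pairOf_iff hM hfR B).1 hmax.1
    obtain ⟨f₀, hf₀, -⟩ := existsUnique_subpair hM K f hfpair.1 P hPK
    obtain rfl : f₀ = eG := (existsUnique_subpair hM R gR hmax.1.1 P hPR).unique
      (Relation.ReflTransGen.trans hf₀ hfR) hle
    have hCK : Subgroup.centralizer (K : Set G) ≤ H := (Subgroup.centralizer_le hPK).trans hC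
    set fH := restrBlk K hKH hCK f with hfH
    have hpairH : IsBrauerPair p M (K.subgroupOf H) fH :=
      ⟨hKp.comap_subtype, isPBlock_comp _ hfpair.1.2⟩
    have hD0K : D₀ ≤ K.subgroupOf H := hsub ▸ Subgroup.comap_mono hPK
    obtain ⟨f₁, hf₁, -⟩ := existsUnique_subpair hM _ fH hpairH D₀ hD0K
    have hCK' : Subgroup.centralizer (((K.subgroupOf H).map H.subtype : Subgroup G) : Set G) ≤ H := by
      rwa [Subgroup.map_subgroupOf_eq_of_le hKH]
    have hlift := subpairLE_lift (a := ⟨D₀, f₁⟩) (b := ⟨K.subgroupOf H, fH⟩) hf₁ hCK' hC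
    rw [liftBlk_restrBlk K hKH hCK hCK' f] at hlift
    have hfe : liftBlk D₀ hC f₁ = eG := (existsUnique_subpair hM K f hfpair.1 P hPK).unique hlift hf₀
    have hf1e : f₁ = e := (Set.image_injective.2 (compIrr_injective _)) hfe
    subst hf1e
    have hpairH' : IsBrauerPairOf p M b (K.subgroupOf H) fH := (SubpairLE.pairOf_iff hM hf₁ b).2 he
    have heq : D₀ = K.subgroupOf H := Subgroup.eq_of_le_of_card_ge hD0K (card_le_of_pairOf hM hpairH' hD₀)
    exact ⟨⟨(z : G), hC hzC⟩, heq.ge (Subgroup.mem_subgroupOf.2 (Subgroup.mem_sup_right (Subgroup.mem_zpowers _))), rfl⟩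
  refine ⟨⟨R, hR, ?_, Subgroup.map_mono (Subgroup.map_subtype_le _), hPR⟩, fun D hD hab => ?_⟩
  · rintro _ ⟨z, hz, rfl⟩
    obtain ⟨d, hd, hdz⟩ := key z hz
    refine ⟨d, ⟨⟨d, hd⟩, Subgroup.mem_center_iff.2 fun w => ?_, rfl⟩, hdz⟩
    have h := congrArg Subtype.val (Subgroup.mem_center_iff.1 hz ⟨((w : H) : G), hPR ⟨w, w.2, rfl⟩⟩)
    simp only [Subgroup.coe_mul] at h
    refine Subtype.ext (Subtype.ext ?_)
    simp only [Subgroup.coe_mul]
    rw [show (d : G) = (z : G) from hdz]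
    exact h
  · obtain ⟨x, hx⟩ := isDefectGroup_conj hM hB₁ hD hR
    have habR : ∀ a b : R, a * b = b * a := by
      intro a b
      obtain ⟨a', ha', ha⟩ := (hx ▸ a.2 : (a : G) ∈ D.map (MulAut.conj x).toMonoidHom)
      obtain ⟨b', hb', hb⟩ := (hx ▸ b.2 : (b : G) ∈ D.map (MulAut.conj x).toMonoidHom)
      have h : a' * b' = b' * a' := congrArg Subtype.val (hab.is_comm.comm ⟨a', ha'⟩ ⟨b', hb'⟩)
      refine Subtype.ext ?_
      rw [Subgroup.coe_mul, Subgroup.coe_mul, ← ha, ← hb, ← map_mul, ← map_mul, h]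
    have : R = P := le_antisymm (fun r hr => key ⟨r, hr⟩ (Subgroup.mem_center_iff.2 fun w => habR w _)) hPR
    exact this ▸ hR

end Cfsg.Agent.S4726
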