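import Cfsg.Statements.S4727
import Cfsg.Agent.Lib.Block.CoreKernel
import Cfsg.Agent.Lib.Block.DefectOne

set_option autoImplicit false
open Cfsg

namespace Cfsg.Agent.S4727

open Cfsg.Agent.Block Cfsg.Agent.Char

/-- Let p be a prime, π a set of primes containing p, M a maximal ideal of the algebraic integers containing p, and B a p-block of the finite group G with defect group D; let B₁ be the block of N_G(D) with defect group D that induces B (the Brauer correspondent of B). Suppose every element of O_π'(N_G(D)), the largest normal subgroup of N_G(D) whose order has no prime divisor in π, lies in the kernel of every member of B₁. If y is a p-element whose centralizer C has a normal Hall π'-subgroup (every element of C whose order has no prime divisor in π lies in O_π'(C)), then χ(y x) = χ(y) for every χ ∈ B and every x ∈ C whose order has no prime divisor in π. -/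
theorem result {G : Type*} [Group G] [Finite G] (p : ℕ) [Fact p.Prime] (M : Ideal Cfsg.AlgInt) (hM : Cfsg.IsPModular p M) (π : Set ℕ) (hpπ : p ∈ π) (B : Set (Cfsg.IrrCharacter G)) (hB : Cfsg.IsPBlock M B) (D : Subgroup G) (hBD : Cfsg.IsDefectGroup p M B D) (B₁ : Set (Cfsg.IrrCharacter ↥(Subgroup.normalizer (D : Set G)))) (hB₁ : Cfsg.IsInducedBlock M (Subgroup.normalizer (D : Set G)) B₁ B) (hB₁D : Cfsg.IsDefectGroup p M B₁ (D.subgroupOf (Subgroup.normalizer (D : Set G)))) (hker : ∀ n : ↥(Subgroup.normalizer (D : Set G)), n ∈ Cfsg.piCore {q | q ∉ π} ↥(Subgroup.normalizer (D : Set G)) → n ∈ Cfsg.blockKer B₁) (y : G) (hy : ∃ k : ℕ, orderOf y = p ^ k) (hC : ∀ x : ↥(Subgroup.centralizer ({y} : Set G)), (∀ q : ℕ, q.Prime → q ∣ orderOf x → q ∉ π) → x ∈ Cfsg.piCore {q | q ∉ π} ↥(Subgroup.centralizer ({y} : Set G))) : ∀ χ ∈ B, ∀ x : G, x ∈ Subgroup.centralizer ({y} : Set G) → (∀ q : ℕ, q.Prime → q ∣ orderOf x → q ∉ π) → (χ : G → ℂ) (y * x) = (χ : G → ℂ) y := by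
  classical
  haveI : M.IsPrime := prime_of_isPModular hM
  haveI := Fintype.ofFinite G
  intro χ hχ x hxC hxπ
  -- the maximal pair
  have hDN : D ≤ (Subgroup.normalizer (D : Set G)) := Subgroup.le_normalizer
  have hne : brFun M D (embH (Subgroup.normalizer (D : Set G)) (blockIdem B₁)) ≠ 0 := fun h0 => brFun_blockIdem_ne_zero hB₁.1 hB₁D
    ((brFun_subgroupOf_eq_zero_iff hDN (isLocElt_blockIdem hB₁.1)).2 h0)
  obtain ⟨eD, heD, hlD⟩ := exists_pair_over hM (isPGroup_of_isDefectGroup hBD) hDN
    (centralizer_le_normalizer' D) hB₁.1 hne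
  have hkD : KerPi π D eD := (kerPi_normalizer_iff hM hpπ hB₁.1 heD hlD).1 hker
  have hmax := isMaximal_of_defectGroup hM (pairOf_of_over hM hDN (centralizer_le_normalizer' D) heD hlD hB₁) hBD
  -- the local blocks
  have hx : ¬ p ∣ orderOf x := fun h => hxπ p (Fact.out) h hpπ
  have hxC' : ¬ p ∣ orderOf (⟨x, hxC⟩ : (Subgroup.centralizer ({y} : Set G))) := by rwa [Subgroup.orderOf_mk]
  have hmem : (⟨x, hxC⟩ : (Subgroup.centralizer ({y} : Set G))) ∈ piCore {q | q ∉ π} (Subgroup.centralizer ({y} : Set G)) := hC _ (fun q hq hd => hxπ q hq (by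
    rwa [Subgroup.orderOf_mk] at hd))
  have h1 := blockPart_mul_eq_sum_local hM hy hB (IsCharacter.isClassFunction (IsIrrCharacter.isCharacter χ.2))
    (y := (⟨x, hxC⟩ : (Subgroup.centralizer ({y} : Set G)))) hxC'
  have h2 := blockPart_mul_eq_sum_local hM hy hB (IsCharacter.isClassFunction (IsIrrCharacter.isCharacter χ.2))
    (y := (1 : (Subgroup.centralizer ({y} : Set G)))) (by rw [orderOf_one]; exact fun h => (Fact.out : p.Prime).ne_one (Nat.dvd_one.1 h))
  rw [blockPart_self hχ] at h1 h2
  rw [Subgroup.coe_one, mul_one] at h2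
  change (χ : G → ℂ) (y * x) = _ at h1
  rw [h1, h2]
  refine Finset.sum_congr rfl fun b hb => ?_
  obtain ⟨hb, hbB⟩ := mem_localBlocks.1 hb
  obtain ⟨k, hk⟩ := hy
  have hcz : Subgroup.centralizer ((Subgroup.zpowers y : Subgroup G) : Set G) = (Subgroup.centralizer ({y} : Set G)) := by
    ext z
    rw [mem_centralizer_subgroup, Subgroup.zpowers_le, mem_centralizer_singleton,
      mem_centralizer_singleton]
    exact ⟨Commute.symm, Commute.symm⟩
  have hyP : IsPGroup p (Subgroup.zpowers y) := IsPGroup.of_card (n := k) (by rw [Nat.card_zpowers, hk])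
  have hyC : Subgroup.zpowers y ≤ (Subgroup.centralizer ({y} : Set G)) := Subgroup.zpowers_le.2 (mem_centralizer_singleton.2 (Commute.refl y))
  have hCN : (Subgroup.centralizer ({y} : Set G)) ≤ Subgroup.normalizer ((Subgroup.zpowers y : Subgroup G) : Set G) :=
    hcz.ge.trans (centralizer_le_normalizer' _)
  have hne' : brFun M (Subgroup.zpowers y) (embH (Subgroup.centralizer ({y} : Set G)) (blockIdem b)) ≠ 0 := fun h0 => by
    obtain ⟨η, hη⟩ := isPBlock_nonempty hb
    have := Factors.of_normal hM hyP hyC hCN η _ (CL.blockIdem hb) h0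
    rw [ro_blockIdem_mem hη] at this
    exact one_ne_zero this
  obtain ⟨e, he, hle⟩ := exists_pair_over hM hyP hyC hcz.le hb hne'
  obtain ⟨g, hg⟩ := exists_conj_le_maximal hM hmax (pairOf_of_over hM hyC hcz.le he hle ⟨hb, hbB⟩)
  have hke : KerPi π (Subgroup.zpowers y) e :=
    (kerPi_conj_iff _ g e).1 (SubpairLE.kerPi_down hM hpπ hg hkD)
  have hkb : (⟨x, hxC⟩ : (Subgroup.centralizer ({y} : Set G))) ∈ blockKer b :=
    (blockKer_iff_over hM hb hyC hcz.le he hle (piCore {q | q ∉ π} (Subgroup.centralizer ({y} : Set G)))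
      (not_dvd_card_piCore (Fact.out) hpπ)).2
      (fun c hc => hke c (mem_piCore_of_inclusion _ hcz.le hc)) _ hmem
  simp only [blockPart]
  refine finsum_mem_congr rfl fun θ hθ => ?_
  rw [hkb θ hθ]

end Cfsg.Agent.S4727
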