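import Cfsg.Statements.S4728
import Cfsg.Agent.Lib.Block.CoreKernel

set_option autoImplicit false
open Cfsg

namespace Cfsg.Agent.S4728

open Cfsg.Agent.Block Cfsg.Agent.Char

/-- Let p be a prime, π a set of primes containing p, M a maximal ideal of the algebraic integers containing p, B a p-block of the finite group G with defect group D, and B₁ the block of N_G(D) with defect group D inducing B. Let D₀ be a p-subgroup, H₀ = D₀·C_G(D₀), and b a block of H₀ inducing B. Write O_π'(X) for the largest normal subgroup of X whose order has no prime divisor in π. Suppose that O_π'(C_G(D₀)) is a normal Hall π'-subgroup of C_G(D₀) (it contains every element of C_G(D₀) whose order has no prime divisor in π) and that every element of it lies in the kernel of every member of b. Then every element of O_π'(N_G(D)) lies in the kernel of every member of B₁. -/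
theorem result {G : Type*} [Group G] [Finite G] (p : ℕ) [Fact p.Prime] (M : Ideal Cfsg.AlgInt) (hM : Cfsg.IsPModular p M) (π : Set ℕ) (hpπ : p ∈ π) (B : Set (Cfsg.IrrCharacter G)) (hB : Cfsg.IsPBlock M B) (D : Subgroup G) (hBD : Cfsg.IsDefectGroup p M B D) (B₁ : Set (Cfsg.IrrCharacter ↥(Subgroup.normalizer (D : Set G)))) (hB₁ : Cfsg.IsInducedBlock M (Subgroup.normalizer (D : Set G)) B₁ B) (hB₁D : Cfsg.IsDefectGroup p M B₁ (D.subgroupOf (Subgroup.normalizer (D : Set G)))) (D₀ : Subgroup G) (hD₀ : IsPGroup p D₀) (H₀ : Subgroup G) (hH₀ : H₀ = D₀ ⊔ Subgroup.centralizer (D₀ : Set G)) (b : Set (Cfsg.IrrCharacter ↥H₀)) (hb : Cfsg.IsInducedBlock M H₀ b B) (hcompl : ∀ x : ↥(Subgroup.centralizer (D₀ : Set G)), (∀ q : ℕ, q.Prime → q ∣ orderOf x → q ∉ π) → x ∈ Cfsg.piCore {q | q ∉ π} ↥(Subgroup.centralizer (D₀ : Set G))) (hkerb : ∀ x : ↥(Subgroup.centralizer (D₀ : Set G)), x ∈ Cfsg.piCore {q | q ∉ π} ↥(Subgroup.centralizer (D₀ : Set G)) → ∀ θ ∈ b, ∀ h : ↥H₀, (h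 : G) = (x : G) → (θ : ↥H₀ → ℂ) h = (θ : ↥H₀ → ℂ) 1) : ∀ n : ↥(Subgroup.normalizer (D : Set G)), n ∈ Cfsg.piCore {q | q ∉ π} ↥(Subgroup.normalizer (D : Set G)) → n ∈ Cfsg.blockKer B₁ := by
  classical
  haveI : M.IsPrime := prime_of_isPModular hM
  have hDN : D ≤ (Subgroup.normalizer (D : Set G)) := Subgroup.le_normalizer
  have hne : brFun M D (embH (Subgroup.normalizer (D : Set G)) (blockIdem B₁)) ≠ 0 := fun h0 => brFun_blockIdem_ne_zero hB₁.1 hB₁D
    ((brFun_subgroupOf_eq_zero_iff hDN (isLocElt_blockIdem hB₁.1)).2 h0)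
  obtain ⟨eD, heD, hlD⟩ := exists_pair_over hM (isPGroup_of_isDefectGroup hBD) hDN
    (centralizer_le_normalizer' D) hB₁.1 hne
  have hmax := isMaximal_of_defectGroup hM (pairOf_of_over hM hDN (centralizer_le_normalizer' D) heD hlD hB₁) hBD
  refine (kerPi_normalizer_iff hM hpπ hB₁.1 heD hlD).2 ?_
  -- the bottom pair
  have hD₀H : D₀ ≤ H₀ := hH₀ ▸ le_sup_left
  have hCH : Subgroup.centralizer (D₀ : Set G) ≤ H₀ := hH₀ ▸ le_sup_right
  have hHN : H₀ ≤ Subgroup.normalizer (D₀ : Set G) :=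
    hH₀ ▸ sup_le Subgroup.le_normalizer (centralizer_le_normalizer' D₀)
  have hne' : brFun M D₀ (embH H₀ (blockIdem b)) ≠ 0 := fun h0 => by
    obtain ⟨η, hη⟩ := isPBlock_nonempty hb.1
    have := Factors.of_normal hM hD₀ hD₀H hHN η _ (CL.blockIdem hb.1) h0
    rw [ro_blockIdem_mem hη] at this
    exact one_ne_zero this
  obtain ⟨e, he, hle⟩ := exists_pair_over hM hD₀ hD₀H hCH hb.1 hne'
  haveI := normal_map_piCore {q | q ∉ π} hHN hCH
  have hcard : ¬ p ∣ Nat.card ((piCore {q | q ∉ π} (Subgroup.centralizer (D₀ : Set G))).map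
      (Subgroup.inclusion hCH)) := by
    rw [Subgroup.card_map_of_injective (Subgroup.inclusion_injective hCH)]
    exact not_dvd_card_piCore (Fact.out) hpπ
  have hk : HallKer π D₀ e := by
    refine ⟨hcompl, fun c hc => (blockKer_iff_over hM hb.1 hD₀H hCH he hle
      ((piCore {q | q ∉ π} (Subgroup.centralizer (D₀ : Set G))).map (Subgroup.inclusion hCH)) hcard).1
      ?_ c (Subgroup.mem_map_of_mem _ hc)⟩
    rintro _ ⟨x, hx, rfl⟩ θ hθ
    exact hkerb x hx θ hθ _ rfl
  obtain ⟨g, hg⟩ := exists_conj_le_maximal hM hmax (pairOf_of_over hM hD₀H hCH he hle hb)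
  exact (SubpairLE.hallKer_up hM hpπ hg (hallKer_conj g hk)).2

end Cfsg.Agent.S4728
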