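import Cfsg.Statements.S4730
import Cfsg.Agent.Lib.Block.CentralPPower

set_option autoImplicit false
open Cfsg

namespace Cfsg.Agent.S4730

open Cfsg.Agent.Block Cfsg.Agent.Char

/-- Let p be a prime, M a maximal ideal of the algebraic integers containing p, and G a finite group with trivial centre, Sylow p-subgroup P of order p^a and centre Z(P) of order p^b. If χ is a faithful irreducible character of G whose degree is a power of p, then the p-block of χ has defect at most a − b; in particular, if P is abelian then χ lies in a block of defect zero. -/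
theorem result {G : Type*} [Group G] [Finite G] (p : ℕ) [Fact p.Prime] (M : Ideal Cfsg.AlgInt) (hM : Cfsg.IsPModular p M) (hZ : Subgroup.center G = ⊥) (P : Sylow p G) (a b : ℕ) (ha : Nat.card P = p ^ a) (hb : Nat.card (Subgroup.center ↥(P : Subgroup G)) = p ^ b) (χ : Cfsg.IrrCharacter G) (hfaith : ∀ g : G, (χ : G → ℂ) g = (χ : G → ℂ) 1 → g = 1) (n : ℕ) (hdeg : Cfsg.charDegree (χ : G → ℂ) = p ^ n) : Cfsg.blockDefect p (Cfsg.blockOf M (χ : G → ℂ)) ≤ a - b ∧ (IsMulCommutative ↥(P : Subgroup G) → Cfsg.blockDefect p (Cfsg.blockOf M (χ : G → ℂ)) = 0) := by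
    classical
    haveI := prime_of_isPModular hM
    have hvan : ∀ x : G, x ∈ (P : Subgroup G) → (∀ y ∈ (P : Subgroup G), x * y = y * x) → x ≠ 1 →
        (χ : G → ℂ) x = 0 := fun x hx hc hx1 => apply_eq_zero_of_ppower P hZ χ hfaith hdeg hx hc hx1
    have hfac : (Nat.card G).factorization p = a := by
      have h := P.card_eq_multiplicity
      rw [ha] at h
      exact (Nat.pow_right_injective (Fact.out : p.Prime).two_le h).symm
    have hmin : b ≤ minVal p (Cfsg.blockOf M (χ : G → ℂ)) := by
      obtain ⟨ψ, hψ, e⟩ := exists_minVal p (B := Cfsg.blockOf M (χ : G → ℂ)) ⟨χ, self_mem_blockOf χ⟩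
      rw [← e]
      exact factorization_center_le hM P hb hvan hψ
    rw [blockDefect_eq, hfac]
    refine ⟨by omega, fun hcomm => ?_⟩
    have hab : b = a := by
      have htop : Subgroup.center ↥(P : Subgroup G) = ⊤ := by
        refine top_unique fun x _ => Subgroup.mem_center_iff.2 fun y => ?_
        exact hcomm.is_comm.comm y x
      rw [htop, Subgroup.card_top, ha] at hb
      exact (Nat.pow_right_injective (Fact.out : p.Prime).two_le hb).symm
    omega

end Cfsg.Agent.S4730
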