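import Cfsg.Statements.S4731
import Cfsg.Agent.Lib.Block.Regular

set_option autoImplicit false
open Cfsg

namespace Cfsg.Agent.S4731

open Cfsg.Agent.Block Cfsg.Agent.Char

/-- Let p ≠ q be primes, M_p and M_q maximal ideals of the algebraic integers containing p and q respectively, and G a finite group with no element of order pq; let q^b be the q-part of the order of G. For a p-block B_p (relative to M_p), a q-block B_q (relative to M_q) and a p-singular element y, the sum of χ(1)χ(y) over the irreducible characters χ lying in both B_p and B_q is q^b times an algebraic integer. -/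
theorem result {G : Type*} [Group G] [Finite G] (p q : ℕ) [Fact p.Prime] [Fact q.Prime] (hpq : p ≠ q) (Mp Mq : Ideal Cfsg.AlgInt) (hMp : Cfsg.IsPModular p Mp) (hMq : Cfsg.IsPModular q Mq) (hno : ∀ g : G, orderOf g ≠ p * q) (b : ℕ) (hb : (Nat.card G).factorization q = b) (Bp : Set (Cfsg.IrrCharacter G)) (hBp : Cfsg.IsPBlock Mp Bp) (Bq : Set (Cfsg.IrrCharacter G)) (hBq : Cfsg.IsPBlock Mq Bq) (y : G) (hy : p ∣ orderOf y) : ∃ ω : Cfsg.AlgInt, ∑ᶠ χ ∈ Bp ∩ Bq, (Cfsg.charDegree (χ : G → ℂ) : ℂ) * (χ : G → ℂ) y = (q : ℂ) ^ b * (ω : ℂ) := by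
  haveI := prime_of_isPModular hMp
  haveI := prime_of_isPModular hMq
  classical
  haveI := Fintype.ofFinite G
  subst hb
  have hq : q.Prime := Fact.out
  have hp : p.Prime := Fact.out
  obtain ⟨Q⟩ : Nonempty (Sylow q G) := inferInstance
  haveI := Fintype.ofFinite (Q : Subgroup G)
  set T := (Bp ∩ Bq).toFinite.toFinset with hT
  have hnone : ∀ x : G, p ∣ orderOf x → ¬ q ∣ orderOf x := by
    intro x hxp hxq
    have hd : p * q ∣ orderOf x := ((Nat.coprime_primes hp hq).2 hpq).mul_dvd_of_dvd_of_dvd hxp hxq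
    refine hno (x ^ (orderOf x / (p * q))) ?_
    exact orderOf_pow_orderOf_div (orderOf_pos x).ne' hd
  set f : G → ℂ := fun x => ∑ φ ∈ T, (φ : G → ℂ) y * (φ : G → ℂ) x with hf
  have hf0 : ∀ x : G, q ∣ orderOf x → f x = 0 := by
    intro x hx
    have hy' : p ∣ orderOf y⁻¹ := by rwa [orderOf_inv]
    have h1 : ∑ z : G, blockKernel Bp z y⁻¹ * blockKernel Bq x z = 0 := by
      refine Finset.sum_eq_zero fun z _ => ?_
      by_cases hz : q ∣ orderOf z
      · rw [blockKernel_eq_zero hMp hBp (fun e => hnone z (e.2 hy') hz), zero_mul]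
      · rw [blockKernel_eq_zero hMq hBq (fun e => hz (e.1 hx)), mul_zero]
    have h2 : ∑ z : G, blockKernel Bp z y⁻¹ * blockKernel Bq x z =
        ∑ φ ∈ Bp.toFinite.toFinset, (φ : G → ℂ) y * (if φ ∈ Bq then (Nat.card G : ℂ) * (φ : G → ℂ) x else 0) := by
      have e : ∀ z, blockKernel Bp z y⁻¹ = ∑ φ ∈ Bp.toFinite.toFinset, (φ : G → ℂ) y * (φ : G → ℂ) z := by
        intro z
        simp only [blockKernel, finsum_mem_eq_finite_toFinset_sum _ Bp.toFinite]
        refine Finset.sum_congr rfl fun φ _ => ?_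
        rw [IsCharacter.map_inv (IsIrrCharacter.isCharacter φ.2), Complex.conj_conj, mul_comm]
      simp only [e, Finset.sum_mul, mul_assoc]
      rw [Finset.sum_comm]
      exact Finset.sum_congr rfl fun φ _ => by rw [← Finset.mul_sum, sum_mul_blockKernel]
    have h3 : (Nat.card G : ℂ) * f x = 0 := by
      rw [← h1, h2, hf, Finset.mul_sum]
      simp only [mul_ite, mul_zero, ← Finset.sum_filter]
      refine Finset.sum_congr (Finset.ext fun φ => by simp [hT]) fun φ _ => by ring
    exact (mul_eq_zero.1 h3).resolve_left (Nat.cast_ne_zero.2 Nat.card_pos.ne')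
  have hn : ∀ φ : IrrCharacter G, ∃ n : ℕ, ∑ x : (Q : Subgroup G), (φ : G → ℂ) x = (q : ℂ) ^ (Nat.card G).factorization q * n := by
    intro φ
    obtain ⟨n, hn⟩ := classInner_natCast_of_isCharacter
      (IsCharacter.restrict (IsIrrCharacter.isCharacter φ.2) (Q : Subgroup G)) (isCharacter_one (G := (Q : Subgroup G)))
    refine ⟨n, ?_⟩
    rw [classInner, inv_mul_eq_iff_eq_mul₀ (Nat.cast_ne_zero.2 Nat.card_pos.ne'), Sylow.card_eq_multiplicity] at hn
    simp only [Pi.one_apply, map_one, mul_one] at hn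
    rw [hn]
    push_cast
    ring
  choose n hn using hn
  have hint : IsIntegral ℤ (∑ φ ∈ T, (φ : G → ℂ) y * (n φ : ℂ)) :=
    IsIntegral.sum _ fun φ _ => (IsCharacter.isIntegral (IsIrrCharacter.isCharacter φ.2) y).mul (isIntegral_algebraMap (R := ℤ) (x := (n φ : ℤ)) |> fun h => by simpa using h)
  refine ⟨⟨_, hint⟩, ?_⟩
  show _ = _ * ∑ φ ∈ T, (φ : G → ℂ) y * (n φ : ℂ)
  have h4 : ∑ x : (Q : Subgroup G), f x = f 1 := by
    rw [Finset.sum_eq_single (1 : (Q : Subgroup G))]
    · simp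
    · intro x _ hx
      refine hf0 x ?_
      obtain ⟨k, hk⟩ := IsPGroup.iff_orderOf.1 Q.2 x
      rw [Subgroup.orderOf_coe, hk]
      refine dvd_pow_self q fun h0 => hx ?_
      rwa [h0, pow_zero, orderOf_eq_one_iff] at hk
    · simp
  simp only [hf] at h4
  rw [Finset.sum_comm] at h4
  simp only [← Finset.mul_sum, hn] at h4
  rw [finsum_mem_eq_finite_toFinset_sum _ (Bp ∩ Bq).toFinite, Finset.mul_sum]
  rw [Finset.sum_congr rfl (fun φ _ => by rw [charDegree_cast (IsIrrCharacter.isCharacter φ.2), mul_comm]), ← h4]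
  exact Finset.sum_congr rfl fun φ _ => by ring

end Cfsg.Agent.S4731
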