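import Cfsg.Statements.S4733
import Cfsg.Agent.Lib.Block.DefectBound
import Cfsg.Agent.Lib.Block.DefectOne
import Cfsg.Agent.Lib.Block.NormalComplement

set_option autoImplicit false
open Cfsg

namespace Cfsg.Agent.S4733

open Cfsg.Agent.Block Cfsg.Agent.Char

/-- Let p be a prime, M a maximal ideal of the algebraic integers containing p, and B a p-block of the finite group G with k irreducible characters and p-regular rank l (the number of irreducible Brauer characters). Then l ≤ k, and the following are equivalent: B has defect 0; k = l = 1; k = l. -/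
theorem result {G : Type*} [Group G] [Finite G] (p : ℕ) [Fact p.Prime] (M : Ideal Cfsg.AlgInt) (hM : Cfsg.IsPModular p M) (B : Set (Cfsg.IrrCharacter G)) (hB : Cfsg.IsPBlock M B) : Cfsg.blockRank p B ≤ Nat.card B ∧ (Cfsg.blockDefect p B = 0 ↔ (Nat.card B = 1 ∧ Cfsg.blockRank p B = 1)) ∧ (Cfsg.blockDefect p B = 0 ↔ Nat.card B = Cfsg.blockRank p B) := by
    classical
    haveI := prime_of_isPModular hM
    have hp : p.Prime := Fact.out
    have hne := isPBlock_nonempty hB
    have hk1 : 0 < Nat.card B := Nat.card_pos_iff.2 ⟨hne.to_subtype, inferInstance⟩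
    have hlk : blockRank p B ≤ Nat.card B := by
      rw [blockRank, ← B.toFinite.coe_toFinset, ← Finset.coe_image]
      refine (finrank_span_finset_le_card _).trans (Finset.card_image_le.trans ?_)
      rw [B.toFinite.coe_toFinset, Nat.card_eq_card_finite_toFinset B.toFinite]
    have hl1 := blockRank_pos hp hne
    have h0 : blockDefect p B = 0 → Nat.card B = 1 := fun h => by
      have h' := brauer_feit hM hB
      rw [h, mul_zero, pow_zero] at h'
      omega
    have h2 : Nat.card B = blockRank p B → blockDefect p B = 0 := fun heq => by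
      by_contra hd
      obtain ⟨z, b, hz, hind, -⟩ := exists_major_subsection hM hB (Nat.pos_of_ne_zero hd)
      have hzk : ∃ k : ℕ, orderOf z = p ^ k := ⟨1, by rw [hz, pow_one]⟩
      have hz1 : z ≠ 1 := fun h => by rw [h, orderOf_one] at hz; exact hp.one_lt.ne hz
      obtain ⟨X, h1X, hzX, hX, hrep⟩ := exists_reps_pair hp hzk hz1
      have hsum := card_block_eq_sum hM hB X hX hrep
      have hge := Finset.add_le_sum (f := fun i => ∑ c ∈ localBlocks M i B, blockRank p c) (fun i _ => Nat.zero_le _) h1X hzX (Ne.symm hz1)
      simp only [← hsum] at hge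
      rw [sum_localBlocks_one hM hB] at hge
      have hb : blockRank p b ≤ ∑ c ∈ localBlocks M z B, blockRank p c :=
        Finset.single_le_sum (f := fun c => blockRank p c) (fun i _ => Nat.zero_le _) (mem_localBlocks.2 hind)
      have := blockRank_pos hp (isPBlock_nonempty hind.1)
      omega
    exact ⟨hlk, ⟨fun h => ⟨h0 h, by have := h0 h; omega⟩, fun h => h2 (by omega)⟩,
      ⟨fun h => by have := h0 h; omega, h2⟩⟩

end Cfsg.Agent.S4733
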