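import Cfsg.Statements.S4734
import Cfsg.Agent.Lib.Block.CoreKernel

set_option autoImplicit false
open Cfsg

namespace Cfsg.Agent.S4734

open Cfsg.Agent.Block Cfsg.Agent.Char

/-- Let p be a prime, π a set of primes containing p, M a maximal ideal of the algebraic integers containing p, B a p-block of the finite group G with defect group D, and B₁ the block of N_G(D) with defect group D inducing B. Write O_π'(X) for the largest normal subgroup of X whose order has no prime divisor in π, and suppose every element of O_π'(N_G(D)) lies in the kernel of every member of B₁. Let G₀ be a subgroup and B₀ a block of G₀ with defect group D₀ such that C_G(D₀) ≤ G₀ and B₀ induces B. Then every element of O_π'(G₀) lies in the kernel of every member of B₀. -/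
theorem result {G : Type*} [Group G] [Finite G] (p : ℕ) [Fact p.Prime] (M : Ideal Cfsg.AlgInt) (hM : Cfsg.IsPModular p M) (π : Set ℕ) (hpπ : p ∈ π) (B : Set (Cfsg.IrrCharacter G)) (hB : Cfsg.IsPBlock M B) (D : Subgroup G) (hBD : Cfsg.IsDefectGroup p M B D) (B₁ : Set (Cfsg.IrrCharacter ↥(Subgroup.normalizer (D : Set G)))) (hB₁ : Cfsg.IsInducedBlock M (Subgroup.normalizer (D : Set G)) B₁ B) (hB₁D : Cfsg.IsDefectGroup p M B₁ (D.subgroupOf (Subgroup.normalizer (D : Set G)))) (hker : ∀ n : ↥(Subgroup.normalizer (D : Set G)), n ∈ Cfsg.piCore {q | q ∉ π} ↥(Subgroup.normalizer (D : Set G)) → n ∈ Cfsg.blockKer B₁) (G₀ : Subgroup G) (B₀ : Set (Cfsg.IrrCharacter ↥G₀)) (hB₀ : Cfsg.IsInducedBlock M G₀ B₀ B) (D₀ : Subgroup ↥G₀) (hD₀ : Cfsg.IsDefectGroup p M B₀ D₀) (hC : Subgroup.centralizer ((D₀.map G₀.subtype : Subgroup G) : Set G) ≤ G₀) : ∀ x : ↥G₀, x ∈ Cfsg.piCore {q | q ∉ π} ↥G₀ → x ∈ Cfsg.blockKer B₀ := by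
  classical
  haveI : M.IsPrime := prime_of_isPModular hM
  have hDN : D ≤ (Subgroup.normalizer (D : Set G)) := Subgroup.le_normalizer
  have hne : brFun M D (embH (Subgroup.normalizer (D : Set G)) (blockIdem B₁)) ≠ 0 := fun h0 => brFun_blockIdem_ne_zero hB₁.1 hB₁D
    ((brFun_subgroupOf_eq_zero_iff hDN (isLocElt_blockIdem hB₁.1)).2 h0)
  obtain ⟨eD, heD, hlD⟩ := exists_pair_over hM (isPGroup_of_isDefectGroup hBD) hDN
    (centralizer_le_normalizer' D) hB₁.1 hne
  have hkD : KerPi π D eD := (kerPi_normalizer_iff hM hpπ hB₁.1 heD hlD).1 hker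
  have hmax := isMaximal_of_defectGroup hM (pairOf_of_over hM hDN (centralizer_le_normalizer' D) heD hlD hB₁) hBD
  set P : Subgroup G := D₀.map G₀.subtype with hP
  have hPG : P ≤ G₀ := Subgroup.map_subtype_le D₀
  have hback : P.subgroupOf G₀ = D₀ := Subgroup.comap_map_eq_self_of_injective G₀.subtype_injective D₀
  have hne₀ : brFun M P (embH G₀ (blockIdem B₀)) ≠ 0 := fun h0 => brFun_blockIdem_ne_zero hB₀.1 hD₀
    (hback ▸ (brFun_subgroupOf_eq_zero_iff hPG (isLocElt_blockIdem hB₀.1)).2 h0)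
  obtain ⟨e, he, hle⟩ := exists_pair_over hM ((isPGroup_of_isDefectGroup hD₀).map _) hPG hC hB₀.1 hne₀
  obtain ⟨g, hg⟩ := exists_conj_le_maximal hM hmax (pairOf_of_over hM hPG hC he hle hB₀)
  have hke : KerPi π P e := (kerPi_conj_iff _ g e).1 (SubpairLE.kerPi_down hM hpπ hg hkD)
  exact (blockKer_iff_over hM hB₀.1 hPG hC he hle (piCore {q | q ∉ π} G₀)
    (not_dvd_card_piCore (Fact.out) hpπ)).2 fun c hc => hke c (mem_piCore_of_inclusion _ hC hc)

end Cfsg.Agent.S4734
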