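import Cfsg.Statements.S4736
import Cfsg.Agent.Lib.Block.PPrimeDegrees
import Cfsg.Agent.Lib.Block.PrincipalKernel
import Cfsg.Agent.Lib.Block.Height
import Cfsg.Agent.S0915

set_option autoImplicit false
open Cfsg

namespace Cfsg.Agent.S4736

open Cfsg.Agent.Block Cfsg.Agent.Char

/-- Let p be a prime, M a maximal ideal of the algebraic integers containing p, and G a finite p-solvable group with Sylow p-subgroup P. Then P is abelian if and only if every irreducible character in the principal p-block of G has height zero. -/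
theorem result {G : Type*} [Group G] [Finite G] (p : ℕ) [Fact p.Prime] (M : Ideal Cfsg.AlgInt) (hM : Cfsg.IsPModular p M) (hsolv : Cfsg.IsPSolvable p G) (P : Sylow p G) : IsMulCommutative P ↔ ∀ χ ∈ Cfsg.principalBlock M G, Cfsg.blockHeight p (Cfsg.principalBlock M G) (χ : G → ℂ) = 0 := by
  haveI := prime_of_isPModular hM
  classical
  haveI := Fintype.ofFinite G
  have hp : p.Prime := Fact.out
  set one : IrrCharacter G := ⟨fun _ => 1, isIrrCharacter_one⟩ with hone
  have honeB : one ∈ principalBlock M G := self_mem_blockOf one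
  have hd1 : charDegree (one : G → ℂ) = 1 := by
    apply Nat.cast_injective (R := ℂ)
    rw [charDegree_cast (IsIrrCharacter.isCharacter one.2), Nat.cast_one]
  have hv : minVal p (principalBlock M G) = 0 := Nat.le_zero.1 ((minVal_le honeB).trans (by rw [hd1, Nat.factorization_one]; rfl))
  have hh : ∀ χ : IrrCharacter G, blockHeight p (principalBlock M G) (χ : G → ℂ) = 0 ↔ ¬ p ∣ charDegree (χ : G → ℂ) := by
    intro χ
    have h0 : charDegree (χ : G → ℂ) ≠ 0 := fun e => IsIrrCharacter.apply_one_ne_zero χ.2 (by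
      rw [← charDegree_cast (IsIrrCharacter.isCharacter χ.2), e, Nat.cast_zero])
    rw [blockHeight_eq, hv, Nat.sub_zero, Nat.factorization_eq_zero_iff]
    refine ⟨fun h => ?_, fun h => Or.inr (Or.inl h)⟩
    rcases h with h | h | h
    · exact absurd hp h
    · exact h
    · exact absurd h h0
  haveI := Solv.pPrimeCore_characteristic p G
  set K := pPrimeCore p G with hKdef
  have hKcop : (Nat.card K).Coprime p := Solv.card_pPrimeCore_coprime p G
  have hKp : ¬ p ∣ Nat.card K := fun hd => hp.one_lt.ne' (Nat.dvd_one.1 (hKcop.gcd_eq_one ▸ Nat.dvd_gcd hd dvd_rfl))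
  set π := QuotientGroup.mk' K with hπ
  have hπs : Function.Surjective π := QuotientGroup.mk'_surjective K
  set Pb : Sylow p (G ⧸ K) := P.mapSurjective hπs with hPb
  have hsK : IsPSolvable p (G ⧸ K) := Solv.isPSolvable_quotient hsolv K
  have hdegeq : ∀ (φ : IrrCharacter (G ⧸ K)) (χ : IrrCharacter G), (∀ g, (φ : G ⧸ K → ℂ) (QuotientGroup.mk g) = (χ : G → ℂ) g) → charDegree (χ : G → ℂ) = charDegree (φ : G ⧸ K → ℂ) := by
    intro φ χ hφ
    apply Nat.cast_injective (R := ℂ)
    rw [charDegree_cast (IsIrrCharacter.isCharacter χ.2), charDegree_cast (IsIrrCharacter.isCharacter φ.2), ← hφ 1]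
    rfl
  have hmem : ∀ x, x ∈ (Pb : Subgroup (G ⧸ K)) ↔ ∃ a ∈ (P : Subgroup G), π a = x := by
    intro x
    rw [hPb, Sylow.coe_mapSurjective]
    rfl
  constructor
  · intro hc χ hχ
    rw [hh]
    obtain ⟨φ, hφ⟩ := exists_factor_quotient K χ fun g hg y =>
      (IsCharacter.apply_mul_of_eq_one (IsIrrCharacter.isCharacter χ.2) (apply_eq_one_of_mem_principal hM K hKp hχ hg) y).1
    rw [hdegeq φ χ hφ]
    haveI := Solv.pCore_characteristic p (G ⧸ K)
    have hle : (Pb : Subgroup (G ⧸ K)) ≤ pCore p (G ⧸ K) := by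
      refine fun x hx => Solv.centralizer_pCore_le_of_isPSolvable hsK (Solv.pPrimeCore_quotient_pPrimeCore p) (Subgroup.mem_centralizer_iff.2 fun y hy => ?_)
      obtain ⟨b, hb, rfl⟩ := (hmem y).1 (Solv.pCore_le_sylow Pb hy)
      obtain ⟨a, ha, rfl⟩ := (hmem x).1 hx
      rw [← map_mul, ← map_mul]
      exact congrArg π (congrArg Subtype.val (hc.is_comm.comm (⟨b, hb⟩ : (P : Subgroup G)) ⟨a, ha⟩))
    haveI : (Pb : Subgroup (G ⧸ K)).Normal := by
      rw [le_antisymm hle (Solv.pCore_le_sylow Pb)]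
      infer_instance
    refine pPrimeDegrees_of_normal_abelian_sylow Pb ⟨⟨fun u v => Subtype.ext ?_⟩⟩ φ
    obtain ⟨a, ha, hu⟩ := (hmem u).1 u.2
    obtain ⟨b, hb, hv⟩ := (hmem v).1 v.2
    show (u : G ⧸ K) * v = v * u
    rw [← hu, ← hv, ← map_mul, ← map_mul]
    exact congrArg π (congrArg Subtype.val (hc.is_comm.comm (⟨a, ha⟩ : (P : Subgroup G)) ⟨b, hb⟩))
  · intro hall
    have hdeg : PPrimeDegrees p (G ⧸ K) := by
      intro φ
      let χ : IrrCharacter G := ⟨fun g => (φ : G ⧸ K → ℂ) (QuotientGroup.mk g), isIrrCharacter_comp_surjective π hπs φ.2⟩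
      rw [← hdegeq φ χ fun g => rfl, ← hh χ]
      refine hall χ ?_
      let φ1 : IrrCharacter (G ⧸ K) := ⟨fun _ => 1, isIrrCharacter_one⟩
      have hsame := Cfsg.Agent.S0915.result p M hM hsK (Solv.pPrimeCore_quotient_pPrimeCore p) φ1 φ
      show SameBlock M (fun _ : G => (1 : ℂ)) (χ : G → ℂ)
      intro g
      have hle : Subgroup.centralizer ({g} : Set G) ≤ (Subgroup.centralizer ({π g} : Set (G ⧸ K))).comap π := by
        intro x hx
        rw [Subgroup.mem_comap, Subgroup.mem_centralizer_singleton_iff, ← map_mul, ← map_mul, Subgroup.mem_centralizer_singleton_iff.1 hx]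
      obtain ⟨m, hm⟩ := Subgroup.index_dvd_of_le hle
      rw [Subgroup.index_comap_of_surjective _ hπs] at hm
      have e : centralChar (fun _ : G => (1 : ℂ)) g - centralChar (χ : G → ℂ) g = (m : ℂ) * (centralChar (φ1 : G ⧸ K → ℂ) (π g) - centralChar (φ : G ⧸ K → ℂ) (π g)) := by
        simp only [centralChar, hm, φ1, χ]
        push_cast
        rw [hπ]
        simp only [QuotientGroup.mk'_apply, QuotientGroup.mk_one]
        ring
      rw [e]
      exact memLocalIdeal_mul_left (natCast_mem _ _) (hsame (π g))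
    obtain ⟨Q, hQn, hQc⟩ := PPrimeDegrees.exists_normal_abelian_sylow hdeg hsK
    haveI := Sylow.unique_of_normal Q hQn
    have hQ : Pb = Q := Subsingleton.elim _ _
    refine ⟨⟨fun a b => Subtype.ext ?_⟩⟩
    have ha : π a ∈ (Q : Subgroup (G ⧸ K)) := hQ ▸ (hmem _).2 ⟨a, a.2, rfl⟩
    have hb : π b ∈ (Q : Subgroup (G ⧸ K)) := hQ ▸ (hmem _).2 ⟨b, b.2, rfl⟩
    have h1 : π (a : G) * π b = π b * π a := congrArg Subtype.val (hQc.is_comm.comm (⟨π a, ha⟩ : (Q : Subgroup (G ⧸ K))) ⟨π b, hb⟩)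
    have h2 : (a : G) * b * (a : G)⁻¹ * (b : G)⁻¹ ∈ (P : Subgroup G) ⊓ K := by
      refine ⟨(P : Subgroup G).mul_mem ((P : Subgroup G).mul_mem ((P : Subgroup G).mul_mem a.2 b.2) ((P : Subgroup G).inv_mem a.2)) ((P : Subgroup G).inv_mem b.2), (QuotientGroup.eq_one_iff _).1 ?_⟩
      show π _ = 1
      rw [map_mul, map_mul, map_mul, h1, map_inv, map_inv]
      group
    rw [Solv.inf_eq_bot_of_isPGroup P.isPGroup' hKcop, Subgroup.mem_bot, mul_inv_eq_one, mul_inv_eq_iff_eq_mul] at h2
    exact h2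

end Cfsg.Agent.S4736
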