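import Cfsg.Statements.S4738
import Cfsg.Agent.Lib.Block.NoDefectZero

set_option autoImplicit false
open Cfsg

namespace Cfsg.Agent.S4738

open Cfsg.Agent.Block Cfsg.Agent.Char

/-- Let p be an odd prime and G a finite group of even order containing no element of order 2p. Then either G has an irreducible character of p-defect zero (its degree has the same p-part as the order of G), or every Sylow p-subgroup of G is abelian and all involutions of G are conjugate. -/
theorem result {G : Type*} [Group G] [Finite G] (p : ℕ) [Fact p.Prime] (hp2 : p ≠ 2) (hG : Even (Nat.card G)) (h2p : ∀ g : G, orderOf g ≠ 2 * p) : (∃ χ : Cfsg.IrrCharacter G, (Cfsg.charDegree (χ : G → ℂ)).factorization p = (Nat.card G).factorization p) ∨ ((∀ P : Sylow p G, IsMulCommutative ↥(P : Subgroup G)) ∧ ∀ s t : G, orderOf s = 2 → orderOf t = 2 → IsConj s t) := by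
  classical
  by_contra hcon
  push Not at hcon
  obtain ⟨hno, hcon⟩ := hcon
  have hno' : ¬ ∃ χ : Cfsg.IrrCharacter G,
      (Cfsg.charDegree (χ : G → ℂ)).factorization p = (Nat.card G).factorization p :=
    fun ⟨χ, h⟩ => hno χ h
  have hC : ∀ g : G, g ≠ 1 → (∃ k : ℕ, orderOf g = p ^ k) →
      Odd (Nat.card ↥(Subgroup.centralizer ({g} : Set G))) := by
    intro g hg ⟨k, hk⟩
    rw [← Nat.not_even_iff_odd, even_iff_two_dvd]
    intro hd
    haveI := Fact.mk Nat.prime_two
    obtain ⟨⟨t, ht⟩, ht2⟩ := exists_prime_orderOf_dvd_card' 2 hd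
    rw [Subgroup.orderOf_mk] at ht2
    obtain ⟨j, rfl⟩ : ∃ j, k = j + 1 := Nat.exists_eq_succ_of_ne_zero
      (fun h => hg (by rw [h, pow_zero, orderOf_eq_one_iff] at hk; exact hk))
    have hx : orderOf (g ^ p ^ j) = p := by
      rw [orderOf_pow_of_dvd (pow_ne_zero _ (Fact.out : p.Prime).ne_zero)
        (by rw [hk]; exact pow_dvd_pow p (Nat.le_succ j)), hk, pow_succ,
        Nat.mul_div_cancel_left _ (pow_pos (Fact.out : p.Prime).pos _)]
    have hcm : Commute t g := (show Commute g t from mem_centralizer_singleton.1 ht).symm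
    refine h2p (t * g ^ p ^ j) ?_
    rw [(hcm.pow_right _).orderOf_mul_eq_mul_orderOf_of_coprime
      (by rw [ht2, hx, Nat.coprime_two_left]; exact (Fact.out : p.Prime).odd_of_ne_two hp2), ht2, hx]
  obtain ⟨s, t, hs, ht, hst⟩ := hcon (fun P => by
    haveI := Fact.mk Nat.prime_two
    obtain ⟨t, ht⟩ := exists_prime_orderOf_dvd_card' 2 (even_iff_two_dvd.1 hG)
    exact (exists_inverts_sylow hC hno' t ht P).1)
  exact hst (isConj_involutions hC hno' hs ht)

end Cfsg.Agent.S4738
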