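import Cfsg.Statements.S4740
import Cfsg.Agent.Lib.Block.OddIndexReal
import Cfsg.Agent.Lib.Block.Regular
import Cfsg.Agent.Lib.Block.WeakOrth
import Cfsg.Agent.Lib.Char.Integral

set_option autoImplicit false
open Cfsg

namespace Cfsg.Agent.S4740

open Cfsg.Agent.Block Cfsg.Agent.Char

/-- Let p be an odd prime, G a finite group of even order, x an involution of G and P a subgroup of G of order p ^ c such that no conjugate of x inverts a non-identity element of P. If p ^ a is the p-part of the order of C_G(x), then some irreducible character of G has degree divisible by p ^ (c - a). -/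
theorem result {G : Type*} [Group G] [Finite G] (p : ℕ) [Fact p.Prime] (hp2 : p ≠ 2) (hG : Even (Nat.card G)) (x : G) (hx : orderOf x = 2) (P : Subgroup G) (c : ℕ) (hP : Nat.card ↥P = p ^ c) (hinv : ∀ g : G, IsConj x g → ∀ z ∈ P, z ≠ 1 → g * z * g⁻¹ ≠ z⁻¹) (a : ℕ) (ha : (Nat.card ↥(Subgroup.centralizer ({x} : Set G))).factorization p = a) : ∃ χ : Cfsg.IrrCharacter G, p ^ (c - a) ∣ Cfsg.charDegree (χ : G → ℂ) := by
    classical
    haveI := Fintype.ofFinite G
    haveI := Fintype.ofFinite P
    haveI := Fintype.ofFinite (IrrCharacter G)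
    have hp := (Fact.out : p.Prime)
    by_contra hne
    simp only [not_exists] at hne
    have hca : a < c := by
      by_contra h
      exact hne ⟨_, isIrrCharacter_one⟩ (by rw [Nat.sub_eq_zero_of_le (not_lt.1 h), pow_zero]; exact one_dvd _)
    have hx2 : x * x = 1 := by rw [← pow_two, ← hx]; exact pow_orderOf_eq_one x
    have hxinv : x⁻¹ = x := inv_eq_of_mul_eq_one_right hx2
    let F : G → ℂ := fun z => ∑ χ : IrrCharacter G,
      (χ : G → ℂ) x * (χ : G → ℂ) x / (χ : G → ℂ) 1 * (starRingEnd ℂ) ((χ : G → ℂ) z)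
    have hF0 : ∀ z : P, z ≠ 1 → F z = 0 := by
      intro z hz
      have e : ∀ χ : IrrCharacter G, (χ : G → ℂ) x * (χ : G → ℂ) x / (χ : G → ℂ) 1 =
          (Nat.card G : ℂ)⁻¹ * ∑ g : G, (χ : G → ℂ) (x * (g * x * g⁻¹)) := fun χ => by
        have h1 := sum_conj_mul_apply χ.2 x x
        have h0 := IsIrrCharacter.apply_one_ne_zero χ.2
        have hG : (Nat.card G : ℂ) ≠ 0 := Nat.cast_ne_zero.2 Nat.card_pos.ne'
        have hc : ∀ g : G, (χ : G → ℂ) (g * x * g⁻¹ * x) = (χ : G → ℂ) (x * (g * x * g⁻¹)) := fun g => by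
          rw [← IsCharacter.isClassFunction (IsIrrCharacter.isCharacter χ.2) (x * (g * x * g⁻¹)) x⁻¹]
          simp [mul_assoc]
        simp only [hc] at h1
        field_simp
        linear_combination -h1
      simp only [F, e, Finset.sum_mul, mul_assoc, ← Finset.mul_sum]
      rw [Finset.sum_comm]
      refine mul_eq_zero_of_right _ (Finset.sum_eq_zero fun g _ => ?_)
      rw [sum_irr_eq_card_conj]
      refine Finset.sum_eq_zero fun h _ => if_neg fun he => ?_
      refine hinv (h * x * h⁻¹) (isConj_iff.2 ⟨h, rfl⟩) z z.2 (fun e1 => hz (Subtype.ext e1)) ?_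
      rw [← he]
      simp only [mul_inv_rev, inv_inv, hxinv, mul_assoc, inv_mul_cancel_left, mul_inv_cancel_left]
      rw [← mul_assoc x x, hx2, one_mul]
    have hreal : ∀ χ : IrrCharacter G, (starRingEnd ℂ) ((χ : G → ℂ) x) = (χ : G → ℂ) x := fun χ => by
      rw [← IsCharacter.map_inv (IsIrrCharacter.isCharacter χ.2), hxinv]
    have hF1 : F 1 = (Nat.card (Subgroup.centralizer ({x} : Set G)) : ℂ) := by
      have h := second_orthogonality x x
      rw [if_pos (IsConj.refl x)] at h
      rw [← h]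
      refine Finset.sum_congr rfl fun χ _ => ?_
      rw [conj_irr_one, hreal, div_mul_cancel₀ _ (IsIrrCharacter.apply_one_ne_zero χ.2)]
    have hm : ∀ χ : IrrCharacter G, ∃ m : ℕ, ∑ z : P, (starRingEnd ℂ) ((χ : G → ℂ) z) = (Nat.card P : ℂ) * m := fun χ => by
      obtain ⟨m, hm⟩ := classInner_natCast_of_isCharacter
        (IsCharacter.restrict (IsIrrCharacter.isCharacter χ.2) P) (isCharacter_one (G := P))
      refine ⟨m, ?_⟩
      rw [classInner, inv_mul_eq_iff_eq_mul₀ (Nat.cast_ne_zero.2 Nat.card_pos.ne')] at hm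
      simp only [Pi.one_apply, map_one, mul_one] at hm
      rw [← map_sum, hm, map_mul, map_natCast, map_natCast]
    choose m hm using hm
    have hsum : (Nat.card (Subgroup.centralizer ({x} : Set G)) : ℂ) =
        (Nat.card P : ℂ) * ∑ χ : IrrCharacter G, (χ : G → ℂ) x * (χ : G → ℂ) x / (χ : G → ℂ) 1 * (m χ : ℂ) := by
      rw [← hF1, show F 1 = ∑ z : P, F z by
        rw [Finset.sum_eq_single (1 : P) (fun z _ hz => hF0 z hz) (fun h => absurd (Finset.mem_univ _) h),
          OneMemClass.coe_one], Finset.mul_sum]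
      simp only [F]
      rw [Finset.sum_comm]
      refine Finset.sum_congr rfl fun χ _ => ?_
      rw [← Finset.mul_sum, hm]
      ring
    set D : ℕ := p ^ (c - a - 1) * (Nat.card G / p ^ (Nat.card G).factorization p) with hD
    have hdvd : ∀ χ : IrrCharacter G, charDegree (χ : G → ℂ) ∣ D := by
      intro χ
      have hlt : (charDegree (χ : G → ℂ)).factorization p < c - a := by
        by_contra h
        exact hne χ ((pow_dvd_pow p (not_lt.1 h)).trans (Nat.ordProj_dvd _ p))
      rw [hD, ← Nat.ordProj_mul_ordCompl_eq_self (charDegree (χ : G → ℂ)) p]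
      exact mul_dvd_mul (pow_dvd_pow p (by omega)) (Nat.ordCompl_dvd_ordCompl_of_dvd (charDegree_dvd_card χ.2) p)
    choose e he using hdvd
    have hint : IsIntegral ℤ ((D * Nat.card (Subgroup.centralizer ({x} : Set G)) : ℕ) / (Nat.card P : ℂ) : ℂ) := by
      rw [Nat.cast_mul, hsum, mul_left_comm, mul_div_assoc, mul_div_cancel₀ _ (Nat.cast_ne_zero.2 Nat.card_pos.ne') ]
      rw [Finset.mul_sum]
      refine IsIntegral.sum _ fun χ _ => ?_
      have h1 : (charDegree (χ : G → ℂ) : ℂ) = (χ : G → ℂ) 1 := charDegree_cast (IsIrrCharacter.isCharacter χ.2)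
      rw [he χ, Nat.cast_mul, h1, show (χ : G → ℂ) 1 * (e χ : ℂ) * ((χ : G → ℂ) x * (χ : G → ℂ) x / (χ : G → ℂ) 1 * (m χ : ℂ)) =
        (χ : G → ℂ) x * (χ : G → ℂ) x * ((e χ * m χ : ℕ) : ℂ) by
          have h0 := IsIrrCharacter.apply_one_ne_zero χ.2
          push_cast; field_simp]
      have hi := IsCharacter.isIntegral (IsIrrCharacter.isCharacter χ.2) x
      exact (hi.mul hi).mul (isIntegral_natCast _)
    have hdiv := nat_dvd_of_isIntegral_div Nat.card_pos.ne' hint
    rw [hP] at hdiv
    have hpq : ¬ p ∣ Nat.card G / p ^ (Nat.card G).factorization p := Nat.not_dvd_ordCompl hp Nat.card_pos.ne'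
    have hC0 : Nat.card (Subgroup.centralizer ({x} : Set G)) ≠ 0 := Nat.card_pos.ne'
    have hD0 : D ≠ 0 := fun h => hpq (by
      rw [hD, mul_eq_zero] at h
      rcases h with h | h
      · exact absurd h (pow_ne_zero _ hp.ne_zero)
      · rw [h]; exact dvd_zero p)
    have := (hp.pow_dvd_iff_le_factorization (mul_ne_zero hD0 hC0)).1 hdiv
    rw [Nat.factorization_mul hD0 hC0, Finsupp.add_apply, hD,
      Nat.factorization_mul (pow_ne_zero _ hp.ne_zero) (fun h => hpq (by rw [h]; exact dvd_zero p)),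
      Finsupp.add_apply, hp.factorization_pow, Finsupp.single_eq_same, Nat.factorization_eq_zero_of_not_dvd hpq, ha] at this
    omega

end Cfsg.Agent.S4740
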