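import Cfsg.Statements.S4742
import Cfsg.Agent.Lib.Block.NoDefectZero

set_option autoImplicit false
open Cfsg

namespace Cfsg.Agent.S4742

open Cfsg.Agent.Block Cfsg.Agent.Char

/-- Let p ≠ q be primes dividing the order of the finite group G, and suppose the centralizer of every non-identity p-element of G has order prime to q. Then either G has an irreducible character of p-defect zero, or for every non-identity q-element z of G there are conjugates g, h of z such that g h⁻¹ is a non-identity p-element. -/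
theorem result {G : Type*} [Group G] [Finite G] (p q : ℕ) [Fact p.Prime] [Fact q.Prime] (hppq : p ≠ q) (hpG : p ∣ Nat.card G) (hqG : q ∣ Nat.card G) (hC : ∀ g : G, g ≠ 1 → (∃ k : ℕ, orderOf g = p ^ k) → ¬ q ∣ Nat.card ↥(Subgroup.centralizer ({g} : Set G))) : (∃ χ : Cfsg.IrrCharacter G, (Cfsg.charDegree (χ : G → ℂ)).factorization p = (Nat.card G).factorization p) ∨ ∀ z : G, z ≠ 1 → (∃ k : ℕ, orderOf z = q ^ k) → ∃ g h : G, IsConj z g ∧ IsConj z h ∧ g * h⁻¹ ≠ 1 ∧ ∃ k : ℕ, orderOf (g * h⁻¹) = p ^ k := by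
  by_cases hno : ∃ χ : Cfsg.IrrCharacter G,
      (Cfsg.charDegree (χ : G → ℂ)).factorization p = (Nat.card G).factorization p
  · exact Or.inl hno
  refine Or.inr fun z hz ⟨k, hk⟩ => ?_
  have hzc : ¬ p ∣ Nat.card (Subgroup.centralizer ({z} : Set G)) := by
    intro hd
    obtain ⟨⟨x, hx⟩, hxp⟩ := exists_prime_orderOf_dvd_card' p hd
    rw [Subgroup.orderOf_mk] at hxp
    refine hC x (fun h => by simp [h, (Fact.out : p.Prime).ne_one.symm] at hxp) ⟨1, by rw [hxp, pow_one]⟩ ?_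
    refine dvd_trans ?_ (Subgroup.orderOf_dvd_natCard _ (mem_centralizer_singleton.2
      (show Commute x z from (show Commute z x from mem_centralizer_singleton.1 hx).symm)))
    rw [hk]
    exact dvd_pow_self q (fun h => hz (by rw [h, pow_zero, orderOf_eq_one_iff] at hk; exact hk))
  obtain ⟨S⟩ : Nonempty (Sylow p G) := inferInstance
  obtain ⟨x, hx, hx1, g, hg, hgx⟩ := exists_conj_diff_mem_sylow z hzc hno S
  refine ⟨g, x⁻¹ * g, hg, ?_, ?_, ?_⟩
  · obtain ⟨c, hc⟩ := isConj_iff.1 hgx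
    refine isConj_iff.2 ⟨c, ?_⟩
    rw [show c * z * c⁻¹ = (c * z⁻¹ * c⁻¹)⁻¹ by group, hc]
    group
  · rw [show g * (x⁻¹ * g)⁻¹ = x by group]; exact hx1
  · rw [show g * (x⁻¹ * g)⁻¹ = x by group]
    obtain ⟨j, hj⟩ := IsPGroup.iff_orderOf.1 S.isPGroup' ⟨x, hx⟩
    exact ⟨j, by rw [← hj, Subgroup.orderOf_mk]⟩

end Cfsg.Agent.S4742
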