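import Cfsg.Statements.S4744
import Cfsg.Agent.Lib.Block.NoDefectZero

set_option autoImplicit false
open Cfsg

namespace Cfsg.Agent.S4744

open Cfsg.Agent.Block Cfsg.Agent.Char

/-- Let p be an odd prime and G a finite group of even order divisible by p in which the centralizer of every non-identity p-element has odd order. Then either G has an irreducible character of p-defect zero, or the normalizer of every Sylow p-subgroup P of G has even order and P is abelian. -/
theorem result {G : Type*} [Group G] [Finite G] (p : ℕ) [Fact p.Prime] (hp2 : p ≠ 2) (hpG : p ∣ Nat.card G) (h2G : 2 ∣ Nat.card G) (hC : ∀ g : G, g ≠ 1 → (∃ k : ℕ, orderOf g = p ^ k) → Odd (Nat.card ↥(Subgroup.centralizer ({g} : Set G)))) : (∃ χ : Cfsg.IrrCharacter G, (Cfsg.charDegree (χ : G → ℂ)).factorization p = (Nat.card G).factorization p) ∨ ∀ P : Sylow p G, Even (Nat.card ↥(Subgroup.normalizer ((P : Subgroup G) : Set G))) ∧ IsMulCommutative ↥(P : Subgroup G) := by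
  by_cases hno : ∃ χ : Cfsg.IrrCharacter G,
      (Cfsg.charDegree (χ : G → ℂ)).factorization p = (Nat.card G).factorization p
  · exact Or.inl hno
  refine Or.inr fun P => ?_
  haveI := Fact.mk Nat.prime_two
  obtain ⟨t, ht⟩ := exists_prime_orderOf_dvd_card' 2 h2G
  obtain ⟨hcomm, -, g, hg, hgP⟩ := exists_inverts_sylow hC hno t ht P
  refine ⟨?_, hcomm⟩
  obtain ⟨c, hc⟩ := isConj_iff.1 hg
  have hgo : orderOf g = 2 := by rw [← hc, ← MulAut.conj_apply, MulEquiv.orderOf_eq, ht]
  have hgg : g * g = 1 := by rw [← pow_two, ← hgo, pow_orderOf_eq_one]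
  have key : ∀ y ∈ (P : Subgroup G), g * y * g⁻¹ ∈ (P : Subgroup G) := fun y hy => by
    rw [hgP y hy]; exact inv_mem hy
  rw [even_iff_two_dvd, ← hgo]
  refine Subgroup.orderOf_dvd_natCard _ (Subgroup.mem_normalizer_iff.2 fun y => ⟨key y, fun h => ?_⟩)
  have h2 := key _ h
  rwa [inv_eq_of_mul_eq_one_right hgg, show g * (g * y * g) * g = (g * g) * y * (g * g) by group, hgg,
    one_mul, mul_one] at h2

end Cfsg.Agent.S4744
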