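import Cfsg.Statements.S4748
import Cfsg.Agent.Lib.Char.Gallagher
import Cfsg.Agent.Lib.Char.Extension2
import Cfsg.Agent.Lib.Char.CoprimeFix
import Cfsg.Agent.Lib.Char.Perm
import Cfsg.Agent.Lib.Char.Linear
import Cfsg.Agent.Lib.Solv.PSolvable
import Cfsg.Agent.Lib.Local.CoprimeGeneration
import Cfsg.Agent.Lib.Char.SharedCentralizerMain
import Cfsg.Agent.Lib.Char.CyclicTI

set_option autoImplicit false
open scoped Pointwise
open Cfsg

namespace Cfsg.Agent.S4748

universe u

open scoped ComplexConjugate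

open Cfsg.Agent in
/-- An invariant character of small degree of a coprime kernel is centralized. -/
theorem core_scalar {Γ : Type u} [Group Γ] [Fintype Γ] (K S : Subgroup Γ) [K.Normal] [Fintype K]
    (hKS : K ⊔ S = ⊤) (hcop : (Nat.card K).Coprime (Nat.card S))
    (hC : ∀ s ∈ S, s ≠ 1 → ∀ k ∈ K, k * s = s * k → ∀ t ∈ S, k * t = t * k)
    (θ : K → ℂ) (hθ : Cfsg.IsIrrCharacter K θ) (hinv : ∀ g, Char.conjChar K g θ = θ)
    (d : ℕ) (hd : θ 1 = (d : ℂ)) (hdS : d * d ≤ Nat.card S) :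
    ∀ s ∈ S, ∀ k : K, θ (⟨s * k * s⁻¹, Subgroup.Normal.conj_mem inferInstance _ k.2 s⟩ * k⁻¹) = θ 1 := by
  classical
  have hidx : K.index ∣ Nat.card S := by
    have h1 : K.relIndex S = K.index := by
      rw [← Subgroup.relIndex_sup_right, sup_comm, hKS, Subgroup.relIndex_top_right]
    rw [← h1]; exact Subgroup.relIndex_dvd_card _ _
  obtain ⟨l, hl⟩ := Char.exists_detHom hθ
  have hdet : Cfsg.detOrder θ ∣ Nat.card K := by
    rw [Cfsg.detOrder, hl, Char.orderOf_linearChar]
    refine orderOf_dvd_of_pow_eq_one (MonoidHom.ext fun x => ?_)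
    rw [MonoidHom.pow_apply, ← map_pow, pow_card_eq_one', map_one]
    rfl
  have hcopd : Nat.Coprime K.index (Cfsg.detOrder θ * d) := by
    refine (Nat.Coprime.coprime_dvd_left hidx ?_)
    exact (hcop.symm.coprime_dvd_right hdet).mul_right
      (hcop.symm.coprime_dvd_right (Char.degree_dvd_card hθ d hd))
  obtain ⟨χ, ⟨hχ, hχθ, -⟩, -⟩ := Char.exists_unique_extension_coprime (N := K) hθ hinv hd hcopd
  have hχcf := Char.IsCharacter.isClassFunction (Char.IsIrrCharacter.isCharacter hχ)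
  have hres : (fun n : K => χ n) = θ := funext hχθ
  have hcoset : ∀ g : Γ, ∑ n : K, χ ((n : Γ) * g) * conj (χ ((n : Γ) * g)) = (Nat.card K : ℂ) := by
    intro g
    have h := congrFun ((Char.cosetAverage_spec K hχ (hres ▸ hθ) hχ).2.2 rfl) g
    simp only [Char.cosetAverage] at h
    rwa [inv_mul_eq_one₀ (Nat.cast_ne_zero.mpr Nat.card_pos.ne'), eq_comm] at h
  set C : Subgroup Γ := K ⊓ Subgroup.centralizer (S : Set Γ) with hCdef
  have hCS : ∀ (c : C) (s : S), (c : Γ) * s = s * c := fun c s =>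
    (Subgroup.mem_centralizer_iff.mp c.2.2 s s.2).symm
  haveI := Fintype.ofFinite C
  haveI := Fintype.ofFinite S
  -- the norm on `C s`
  have hfib : ∀ s : S, s ≠ 1 →
      ∑ c : C, χ ((c : Γ) * s) * conj (χ ((c : Γ) * s)) = (Nat.card C : ℂ) := by
    intro s hs
    have hs1 : (s : Γ) ≠ 1 := fun e => hs (Subtype.ext e)
    have hsN : (s : Γ) ∈ Subgroup.normalizer (K : Set Γ) := by
      rw [Subgroup.normalizer_eq_top]; trivial
    have hscop : Nat.Coprime (orderOf (s : Γ)) (Nat.card K) :=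
      Nat.Coprime.coprime_dvd_left (S.orderOf_dvd_natCard s.2) hcop.symm
    obtain ⟨e, he1, he0⟩ := Nat.chineseRemainder hscop 1 0
    have hpow : ∀ c : C, ((c : Γ) * s) ^ e = s := fun c =>
      Char.pow_mul_eq_right he1 he0 (hCS c s)
        (orderOf_dvd_iff_pow_eq_one.mp (K.orderOf_dvd_natCard c.2.1)) (pow_orderOf_eq_one _)
    have hmem : ∀ q : K × C, (q.1 : Γ) * ((q.2 : Γ) * s) * (q.1 : Γ)⁻¹ * (s : Γ)⁻¹ ∈ K := by
      intro q
      rw [show (q.1 : Γ) * ((q.2 : Γ) * s) * (q.1 : Γ)⁻¹ * (s : Γ)⁻¹ =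
        (q.1 : Γ) * (q.2 : Γ) * (s * (q.1 : Γ)⁻¹ * (s : Γ)⁻¹) by group]
      exact mul_mem (mul_mem q.1.2 q.2.2.1)
        (Subgroup.Normal.conj_mem inferInstance _ (inv_mem q.1.2) _)
    let Φ : K × C → K := fun q => ⟨_, hmem q⟩
    have hΦs : ∀ q, ((Φ q : K) : Γ) * s = (q.1 : Γ) * ((q.2 : Γ) * s) * (q.1 : Γ)⁻¹ := fun q => by
      show (q.1 : Γ) * ((q.2 : Γ) * s) * (q.1 : Γ)⁻¹ * (s : Γ)⁻¹ * s = _
      group
    have hsurj : ∀ n : K, ∃ q, Φ q = n := by
      intro n
      obtain ⟨x, hx, c, hc, hcs, hxc⟩ := Char.exists_conj_coset K (s : Γ) hsN hscop n.2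
      have hcC : c ∈ C := ⟨hc, Subgroup.mem_centralizer_iff.mpr fun t ht =>
        (hC s s.2 hs1 c hc hcs t ht).symm⟩
      refine ⟨(⟨x⁻¹, inv_mem hx⟩, ⟨c, hcC⟩), Subtype.ext ?_⟩
      show x⁻¹ * (c * s) * x⁻¹⁻¹ * (s : Γ)⁻¹ = (n : Γ)
      rw [← hxc]; group
    have hcard : ∀ n : K, (Finset.univ.filter fun q => Φ q = n).card = Fintype.card C := by
      intro n
      obtain ⟨⟨x, c⟩, rfl⟩ := hsurj n
      rw [← Fintype.card_subtype]
      refine Fintype.card_congr
        { toFun := fun q => ⟨(x : Γ)⁻¹ * (q.1.1 : Γ), (K.mul_mem (K.inv_mem x.2) q.1.1.2), ?_⟩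
          invFun := fun w => ⟨(⟨(x : Γ) * w, mul_mem x.2 w.2.1⟩, w⁻¹ * c * w), ?_⟩
          left_inv := ?_
          right_inv := fun w => Subtype.ext (by simp) }
      · have h1 : ((Φ q.1 : K) : Γ) * s = ((Φ (x, c) : K) : Γ) * s := by rw [q.2]
        rw [hΦs, hΦs] at h1
        set y := (x : Γ)⁻¹ * (q.1.1 : Γ) with hy
        have h2 : y * ((q.1.2 : Γ) * s) * y⁻¹ = (c : Γ) * s := by
          calc y * ((q.1.2 : Γ) * s) * y⁻¹
              = (x : Γ)⁻¹ * ((q.1.1 : Γ) * ((q.1.2 : Γ) * s) * (q.1.1 : Γ)⁻¹) * x := by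
                rw [hy]; group
            _ = _ := by rw [h1]; group
        have h3 := congrArg (fun t => t ^ e) h2
        simp only [conj_pow, hpow] at h3
        refine Subgroup.mem_centralizer_iff.mpr fun t ht => ?_
        exact (hC s s.2 hs1 y (mul_mem (inv_mem x.2) q.1.1.2) (mul_inv_eq_iff_eq_mul.mp h3) t ht).symm
      · refine Subtype.ext ?_
        show ((x : Γ) * w) * (((w⁻¹ * c * w : C) : Γ) * s) * ((x : Γ) * w)⁻¹ * (s : Γ)⁻¹ =
          (x : Γ) * ((c : Γ) * s) * (x : Γ)⁻¹ * (s : Γ)⁻¹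
        have := hCS w s
        calc (x : Γ) * w * (((w⁻¹ * c * w : C) : Γ) * s) * ((x : Γ) * w)⁻¹ * (s : Γ)⁻¹
            = (x : Γ) * c * ((w : Γ) * s) * (w : Γ)⁻¹ * (x : Γ)⁻¹ * (s : Γ)⁻¹ := by
              simp only [Subgroup.coe_mul, InvMemClass.coe_inv]; group
          _ = _ := by rw [this]; group
      · rintro ⟨⟨x', c'⟩, hq⟩
        refine Subtype.ext (Prod.ext (Subtype.ext (by simp)) (Subtype.ext ?_))
        have h1 : ((Φ (x', c') : K) : Γ) * s = ((Φ (x, c) : K) : Γ) * s := by rw [hq]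
        rw [hΦs, hΦs] at h1
        set y := (x : Γ)⁻¹ * (x' : Γ) with hy
        have h2 : y * ((c' : Γ) * s) * y⁻¹ = (c : Γ) * s := by
          calc y * ((c' : Γ) * s) * y⁻¹
              = (x : Γ)⁻¹ * ((x' : Γ) * ((c' : Γ) * s) * (x' : Γ)⁻¹) * x := by rw [hy]; group
            _ = _ := by rw [h1]; group
        have h3 := congrArg (fun t => t ^ e) h2
        simp only [conj_pow, hpow] at h3
        have h4 : y * s = s * y := mul_inv_eq_iff_eq_mul.mp h3
        show y⁻¹ * (c : Γ) * y = (c' : Γ)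
        have h5 : (s : Γ) * y⁻¹ = y⁻¹ * s := (Commute.inv_left h4).eq.symm
        calc y⁻¹ * (c : Γ) * y = y⁻¹ * ((c : Γ) * s) * (s : Γ)⁻¹ * y := by group
          _ = (c' : Γ) * ((s : Γ) * y⁻¹) * (s : Γ)⁻¹ * y := by rw [← h2]; group
          _ = (c' : Γ) := by rw [h5]; group
    have h := hcoset (s : Γ)
    have e : ∑ q : K × C, χ ((Φ q : Γ) * s) * conj (χ ((Φ q : Γ) * s)) =
        (Nat.card C : ℂ) * (Nat.card K : ℂ) := by
      rw [← h, ← Finset.sum_fiberwise' Finset.univ Φ (fun n => χ ((n : Γ) * s) * conj (χ ((n : Γ) * s))),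
        Finset.mul_sum]
      refine Finset.sum_congr rfl fun n _ => ?_
      rw [Finset.sum_const, hcard, nsmul_eq_mul, Nat.card_eq_fintype_card]
    rw [Fintype.sum_prod_type] at e
    have e2 : ∀ x : K, ∑ c : C, χ ((Φ (x, c) : Γ) * s) * conj (χ ((Φ (x, c) : Γ) * s)) =
        ∑ c : C, χ ((c : Γ) * s) * conj (χ ((c : Γ) * s)) := fun x =>
      Finset.sum_congr rfl fun c _ => by rw [hΦs, hχcf]
    rw [Finset.sum_congr rfl fun x _ => e2 x, Finset.sum_const, Finset.card_univ, nsmul_eq_mul,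
      ← Nat.card_eq_fintype_card, mul_comm (Nat.card C : ℂ)] at e
    exact mul_left_cancel₀ (Nat.cast_ne_zero.mpr Nat.card_pos.ne') e
  -- the character of `C × S`
  let φ : C × S →* Γ := MonoidHom.mk' (fun q => (q.1 : Γ) * q.2) fun a b => by
    simp only [Prod.fst_mul, Prod.snd_mul, Subgroup.coe_mul]
    calc (a.1 : Γ) * b.1 * ((a.2 : Γ) * b.2) = (a.1 : Γ) * ((b.1 : Γ) * a.2) * b.2 := by group
      _ = _ := by rw [hCS b.1 a.2]; group
  have hf : Cfsg.IsCharacter (C × S) (fun q => χ (φ q)) :=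
    Char.isCharacter_comp (Char.IsIrrCharacter.isCharacter hχ) φ
  have hfC : Cfsg.IsCharacter C (fun c => χ (c : Γ)) :=
    Char.IsCharacter.restrict (Char.IsIrrCharacter.isCharacter hχ) C
  obtain ⟨Sn, hSn⟩ := Char.classInner_natCast_of_isCharacter hf hf
  obtain ⟨N₂, hN₂⟩ := Char.classInner_natCast_of_isCharacter hfC hfC
  have hχ1 : χ 1 = (d : ℂ) := by rw [← hd]; exact hχθ 1
  have hN₂d : N₂ ≤ d * d := by
    have h1 : (N₂ : ℝ) = (Nat.card C : ℝ)⁻¹ * ∑ c : C, ‖χ (c : Γ)‖ ^ 2 := by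
      have := congrArg Complex.re hN₂
      simp only [Cfsg.classInner, Complex.mul_conj'] at this
      rw [Complex.natCast_re] at this
      rw [← this]
      have e : ((Nat.card C : ℂ)⁻¹ * ∑ c : C, ((‖χ (c : Γ)‖ : ℂ)) ^ 2) =
          (((Nat.card C : ℝ)⁻¹ * ∑ c : C, ‖χ (c : Γ)‖ ^ 2 : ℝ) : ℂ) := by push_cast; rfl
      rw [e, Complex.ofReal_re]
    have h2 : ∀ c : C, ‖χ (c : Γ)‖ ^ 2 ≤ ((d * d : ℕ) : ℝ) := fun c => by
      have := Char.IsCharacter.norm_le (Char.IsIrrCharacter.isCharacter hχ) (c : Γ)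
      rw [hχ1, Complex.norm_natCast] at this
      push_cast
      nlinarith [norm_nonneg (χ (c : Γ))]
    have h3 : (N₂ : ℝ) ≤ ((d * d : ℕ) : ℝ) := by
      rw [h1, inv_mul_le_iff₀ (Nat.cast_pos.mpr Nat.card_pos)]
      refine (Finset.sum_le_sum fun c _ => h2 c).trans (le_of_eq ?_)
      rw [Finset.sum_const, nsmul_eq_mul, Finset.card_univ, ← Nat.card_eq_fintype_card]
    exact_mod_cast h3
  have hd0 : 0 < d := by
    obtain ⟨m, hm, hm'⟩ := Char.IsIrrCharacter.degree_pos hθ
    rw [hd] at hm'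
    have : d = m := by exact_mod_cast hm'
    omega
  have hpos : ∀ {H : Type u} [Group H] [Fintype H] (f : H → ℂ) (m : ℕ),
      Cfsg.classInner f f = (m : ℂ) → f 1 ≠ 0 → 0 < m := by
    intro H _ _ f m h h1
    rcases Nat.eq_zero_or_pos m with rfl | hm
    · exact absurd (congrFun (Char.classInner_self_eq_zero (by simpa using h)) 1) h1
    · exact hm
  have hSn0 : 0 < Sn := hpos _ Sn hSn (by
    show χ (φ 1) ≠ 0
    rw [map_one, hχ1]; exact_mod_cast hd0.ne')
  have hN0 : 0 < N₂ := hpos _ N₂ hN₂ (by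
    show χ ((1 : C) : Γ) ≠ 0
    rw [OneMemClass.coe_one, hχ1]; exact_mod_cast hd0.ne')
  have heq : (Nat.card S : ℂ) * Sn = (N₂ : ℂ) + ((Nat.card S : ℂ) - 1) := by
    have hC0 : (Nat.card C : ℂ) ≠ 0 := Nat.cast_ne_zero.mpr Nat.card_pos.ne'
    have hS0 : (Nat.card S : ℂ) ≠ 0 := Nat.cast_ne_zero.mpr Nat.card_pos.ne'
    rw [← hSn, ← hN₂]
    simp only [Cfsg.classInner, Nat.card_prod, Nat.cast_mul]
    rw [Fintype.sum_prod_type_right, ← Finset.add_sum_erase _ _ (Finset.mem_univ (1 : S))]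
    simp only [φ, MonoidHom.mk'_apply, OneMemClass.coe_one, mul_one]
    rw [Finset.sum_congr rfl fun s hs => hfib s (Finset.ne_of_mem_erase hs), Finset.sum_const,
      Finset.card_erase_of_mem (Finset.mem_univ _), Finset.card_univ, nsmul_eq_mul,
      ← Nat.card_eq_fintype_card, Nat.cast_sub Nat.card_pos, Nat.cast_one]
    field_simp
  have heq' : Nat.card S * Sn + 1 = N₂ + Nat.card S := by
    have : ((Nat.card S * Sn + 1 : ℕ) : ℂ) = ((N₂ + Nat.card S : ℕ) : ℂ) := by
      push_cast; rw [heq]; ring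
    exact_mod_cast this
  have hSn1 : Sn = 1 := by
    by_contra h
    have : Nat.card S * 2 ≤ Nat.card S * Sn := Nat.mul_le_mul_left _ (by omega)
    omega
  have hN1 : N₂ = 1 := by rw [hSn1] at heq'; omega
  haveI : Finite (C × S) := inferInstance
  have hirr : Cfsg.IsIrrCharacter (C × S) (fun q => χ (φ q)) :=
    Char.isIrrCharacter_iff.mpr ⟨hf, by rw [hSn, hSn1, Nat.cast_one]⟩
  obtain ⟨a, b, ha, hb, hab⟩ := (Char.isIrrCharacter_prod_iff _).mp hirr
  have hval : ∀ (c : C) (s : S), χ ((c : Γ) * s) = a c * b s := fun c s => congrFun hab (c, s)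
  obtain ⟨bd, -, hbd⟩ := Char.IsIrrCharacter.degree_pos hb
  have hb1 : b 1 = 1 := by
    have h : (fun c : C => χ (c : Γ)) = b 1 • a := funext fun c => by
      have := hval c 1
      rw [OneMemClass.coe_one, mul_one] at this
      rw [this, Pi.smul_apply, smul_eq_mul, mul_comm]
    rw [h, hN1, Char.classInner_smul_left, Char.classInner_smul_right,
      Char.IsIrrCharacter.classInner_self ha, hbd, Complex.conj_natCast, mul_one, Nat.cast_one,
      ← Nat.cast_mul, Nat.cast_eq_one] at hN₂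
    rw [hbd, Nat.eq_one_of_mul_eq_one_left hN₂, Nat.cast_one]
  intro s hs k
  obtain ⟨n, ρ, hρ, hρχ⟩ := hχ
  haveI := hρ
  obtain ⟨lb, hlb⟩ := Char.IsCharacter.exists_monoidHom (Char.IsIrrCharacter.isCharacter hb) hb1
  have hnorm : ‖ρ.character s‖ = (Module.finrank ℂ (Fin n → ℂ) : ℝ) := by
    rw [← Complex.norm_natCast, ← ρ.char_one, hρχ]
    have e1 := hval 1 ⟨s, hs⟩
    rw [OneMemClass.coe_one, one_mul] at e1
    have e2 := hval 1 1
    rw [OneMemClass.coe_one, OneMemClass.coe_one, one_mul, hb1, mul_one] at e2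
    rw [e1, e2, norm_mul]
    have : ‖b ⟨s, hs⟩‖ = 1 := by
      rw [hlb]
      exact ((Units.coeHom ℂ).comp lb).isOfFinOrder (isOfFinOrder_of_finite _) |>.norm_eq_one
    rw [this, mul_one]
  obtain ⟨ω, hω⟩ := (Char.norm_character_eq_iff ρ s).mp hnorm
  rw [← hχθ, ← hχθ, Subgroup.coe_mul, InvMemClass.coe_inv, OneMemClass.coe_one, ← hρχ,
    ρ.char_one, Char.character_eq_finrank_iff]
  have hcomm : ρ s * ρ k = ρ k * ρ s := by
    rw [hω]; ext v; simp
  calc ρ (s * k * s⁻¹ * (k : Γ)⁻¹) = ρ s * ρ k * ρ (s⁻¹ * (k : Γ)⁻¹) := by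
        rw [← map_mul, ← map_mul]; congr 1; group
    _ = ρ ((k : Γ) * s) * ρ (s⁻¹ * (k : Γ)⁻¹) := by rw [hcomm, map_mul ρ (k : Γ) s]
    _ = 1 := by rw [← map_mul, show (k : Γ) * s * (s⁻¹ * (k : Γ)⁻¹) = 1 by group, map_one]

/-- Let G be a finite p-solvable group whose Sylow p-subgroup P meets each conjugate g P g⁻¹ with g outside N_G(P) trivially, and let χ be a faithful character of G (χ g = χ 1 only for g = 1) whose degree d satisfies d² ≤ |P|. Then P is normal in G. -/
theorem result {G : Type*} [Group G] [Finite G] (p : ℕ) [Fact p.Prime] (hsolv : Cfsg.IsPSolvable p G) (P : Sylow p G) (hTI : ∀ g : G, g ∉ Subgroup.normalizer ((P : Subgroup G) : Set G) → (P : Subgroup G) ⊓ (MulAut.conj g • (P : Subgroup G)) = ⊥) (χ : G → ℂ) (hχ : Cfsg.IsCharacter G χ) (hfaith : ∀ g : G, χ g = χ 1 → g = 1) (hdeg : Cfsg.charDegree χ ^ 2 ≤ Nat.card ↥(P : Subgroup G)) : (P : Subgroup G).Normal := by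
  classical
  haveI := Fintype.ofFinite G
  obtain ⟨d, hd⟩ := Char.IsCharacter.exists_degree hχ
  have hdd : Cfsg.charDegree χ = d := by simp [Cfsg.charDegree, hd]
  rw [hdd, pow_two] at hdeg
  by_contra hPn
  have hPb : (P : Subgroup G) ≠ ⊥ := fun e => hPn (e ▸ inferInstance)
  have hconjP : ∀ g : G, ∀ x : G, x ∈ (MulAut.conj g • (P : Subgroup G)) ↔ g⁻¹ * x * g ∈ (P : Subgroup G) :=
    fun g x => by
      rw [Subgroup.mem_pointwise_smul_iff_inv_smul_mem]
      simp
  have hTI' : ∀ g : G, ∀ y ∈ (P : Subgroup G), y ≠ 1 → g⁻¹ * y * g ∈ (P : Subgroup G) →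
      g ∈ Subgroup.normalizer ((P : Subgroup G) : Set G) := by
    intro g y hy hy1 hg
    by_contra hn
    have := hTI g hn
    exact hy1 ((Subgroup.eq_bot_iff_forall _).mp this y ⟨hy, (hconjP g y).mpr hg⟩)
  have hOp : Cfsg.pCore p G = ⊥ := by
    by_contra hne
    obtain ⟨y, hy, hy1⟩ := (Subgroup.ne_bot_iff_exists_ne_one.mp hne) |> fun ⟨y, hy⟩ =>
      (⟨(y : G), y.2, fun e => hy (Subtype.ext e)⟩ : ∃ y : G, y ∈ Cfsg.pCore p G ∧ y ≠ 1)
    have hle : Cfsg.pCore p G ≤ (P : Subgroup G) := by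
      obtain ⟨Q, hQ⟩ := (Solv.isPGroup_pCore p G).exists_le_sylow
      obtain ⟨g, hg⟩ := MulAction.exists_smul_eq G Q P
      intro x hx
      have h2 : g⁻¹ * x * g ∈ Cfsg.pCore p G := by
        simpa using (inferInstance : (Cfsg.pCore p G).Normal).conj_mem x hx g⁻¹
      rw [← hg, Sylow.coe_subgroup_smul, Subgroup.mem_pointwise_smul_iff_inv_smul_mem]
      simpa using hQ h2
    refine hPn (Subgroup.normalizer_eq_top_iff.mp (eq_top_iff.mpr fun g _ => ?_))
    refine hTI' g y (hle hy) hy1 (hle ?_)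
    simpa using (inferInstance : (Cfsg.pCore p G).Normal).conj_mem y hy g⁻¹
  set K := Cfsg.pPrimeCore p G with hK
  have hKp : (Nat.card K).Coprime p := Solv.card_pPrimeCore_coprime p G
  have hKP : (Nat.card K).Coprime (Nat.card (P : Subgroup G)) := by
    rw [P.card_eq_multiplicity]; exact hKp.pow_right _
  have hKPbot : K ⊓ (P : Subgroup G) = ⊥ := Subgroup.inf_eq_bot_of_coprime hKP
  -- `G` is `K` times the normalizer of `P`
  have hGKN : Subgroup.normalizer ((P : Subgroup G) : Set G) ⊔ K = ⊤ := by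
    have hKt : K ≠ ⊤ := fun e => hPb (by rw [← hKPbot, e, top_inf_eq])
    haveI : Nontrivial (G ⧸ K) := QuotientGroup.nontrivial_iff.mpr hKt
    have hcore : Cfsg.pCore p (G ⧸ K) ≠ ⊥ :=
      (Solv.core_ne_bot_of_isPSolvable (Solv.isPSolvable_quotient hsolv K)).resolve_right
        (fun h => h (Solv.pPrimeCore_quotient_pPrimeCore p))
    set H₂ := (Cfsg.pCore p (G ⧸ K)).comap (QuotientGroup.mk' K) with hH₂
    haveI hH₂n : H₂.Normal := Subgroup.Normal.comap inferInstance _
    have hKH : K ≤ H₂ := Solv.le_comap_mk' K _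
    have hrel : K.relIndex H₂ = Nat.card (Cfsg.pCore p (G ⧸ K)) := Solv.relIndex_comap_mk' K _
    obtain ⟨a, ha⟩ := IsPGroup.iff_card.mp (Solv.isPGroup_pCore p (G ⧸ K))
    let Q0 : Sylow p H₂ := default
    obtain ⟨R, hR⟩ := (Q0.isPGroup'.map H₂.subtype).exists_le_sylow
    obtain ⟨g, hg⟩ := MulAction.exists_smul_eq G R P
    have hQ0P : ∀ x ∈ (Q0 : Subgroup H₂), g * (x : G) * g⁻¹ ∈ (P : Subgroup G) := by
      intro x hx
      rw [← hg, Sylow.coe_subgroup_smul, Subgroup.mem_pointwise_smul_iff_inv_smul_mem]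
      simpa [mul_assoc] using hR (Subgroup.mem_map_of_mem H₂.subtype hx)
    let P0 : Subgroup H₂ := (P : Subgroup G).subgroupOf H₂
    have hP0p : IsPGroup p P0 := IsPGroup.comap_of_injective P.isPGroup' H₂.subtype H₂.subtype_injective
    obtain ⟨Q, hQ⟩ := hP0p.exists_le_sylow
    have hQ0c : Nat.card (Q0 : Subgroup H₂) ≤ Nat.card P0 := by
      refine Nat.card_le_card_of_injective
        (fun x => ⟨⟨g * ((x : H₂) : G) * g⁻¹, hH₂n.conj_mem _ (x : H₂).2 g⟩, hQ0P _ x.2⟩) ?_
      intro x y e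
      have h := congrArg (fun z : P0 => ((z : H₂) : G)) e
      exact Subtype.ext (Subtype.ext (mul_left_cancel (mul_right_cancel h)))
    have hPQ : P0 = (Q : Subgroup H₂) := Subgroup.eq_of_le_of_card_ge hQ (by
      rw [Q.card_eq_multiplicity, ← Q0.card_eq_multiplicity]; exact hQ0c)
    have htop := Sylow.normalizer_sup_eq_top (N := H₂) Q
    rw [← hPQ, Subgroup.subgroupOf_map_subtype] at htop
    have hJK : ((P : Subgroup G) ⊓ H₂) ⊔ K = H₂ := by
      refine le_antisymm (sup_le inf_le_right hKH) ?_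
      rw [← Subgroup.relIndex_eq_one]
      have h1 : (((P : Subgroup G) ⊓ H₂) ⊔ K).relIndex H₂ ∣ p ^ a := by
        rw [← ha, ← hrel]; exact Subgroup.relIndex_dvd_of_le_left H₂ le_sup_right
      have h2 : (((P : Subgroup G) ⊓ H₂) ⊔ K).relIndex H₂ ∣ (Q : Subgroup H₂).index := by
        rw [← hPQ]
        refine dvd_trans (Subgroup.relIndex_dvd_of_le_left H₂ le_sup_left) ?_
        rw [Subgroup.inf_relIndex_right]
        exact dvd_rfl
      exact Nat.eq_one_of_dvd_coprimes
        ((Nat.Prime.coprime_iff_not_dvd Fact.out).mpr Q.not_dvd_index |>.pow_left a) h1 h2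
    have hne : (P : Subgroup G) ⊓ H₂ ≠ ⊥ := fun e => hcore (by
      rw [e, bot_sup_eq] at hJK
      have h1 : K.relIndex H₂ = 1 := Subgroup.relIndex_eq_one.mpr (hJK ▸ le_rfl)
      exact Subgroup.eq_bot_of_card_eq _ (hrel ▸ h1))
    have hle : Subgroup.normalizer (((P : Subgroup G) ⊓ H₂ : Subgroup G) : Set G) ≤
        Subgroup.normalizer ((P : Subgroup G) : Set G) := fun g hg => by
      obtain ⟨⟨y, hy⟩, hy1⟩ := Subgroup.ne_bot_iff_exists_ne_one.mp hne
      refine hTI' g y hy.1 (fun e => hy1 (Subtype.ext e)) ?_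
      exact ((Subgroup.mem_normalizer_iff''.mp hg y).mp hy).1
    refine eq_top_iff.mpr (htop.ge.trans (sup_le (hle.trans le_sup_left) ?_))
    rw [← hJK]
    exact sup_le ((inf_le_left.trans Subgroup.le_normalizer).trans le_sup_left) le_sup_right
  -- no element of `P` centralizes `K`
  have hno : ∀ y ∈ (P : Subgroup G), (∀ k ∈ K, k * y = y * k) → y = 1 := by
    set R := (P : Subgroup G) ⊓ Subgroup.centralizer (K : Set G) with hR
    have hRn : R.Normal := by
      rw [← Subgroup.normalizer_eq_top_iff, ← top_le_iff, ← hGKN]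
      refine sup_le (fun n hn => ?_) (fun k hk => ?_)
      · exact Char.SharedCent.mem_normalizer_of_map_le fun w hw =>
          ⟨(Subgroup.mem_normalizer_iff.mp hn w).mp hw.1,
            (inferInstance : (Subgroup.centralizer (K : Set G)).Normal).conj_mem w hw.2 n⟩
      · exact Char.SharedCent.mem_normalizer_of_map_le fun w hw => by
          rw [Subgroup.mem_centralizer_iff.mp hw.2 k hk, mul_inv_cancel_right]; exact hw
    intro y hy hc
    have hy' : y ∈ R := ⟨hy, Subgroup.mem_centralizer_iff.mpr hc⟩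
    have hle : R ≤ Cfsg.pCore p G := le_sSup ⟨hRn, P.isPGroup'.to_le inf_le_left⟩
    have := hle hy'
    rw [hOp] at this
    exact Subgroup.mem_bot.mp this
  have hC : ∀ y ∈ (P : Subgroup G), y ≠ 1 → ∀ k ∈ K, k * y = y * k →
      ∀ t ∈ (P : Subgroup G), k * t = t * k := by
    intro y hy hy1 k hk hky t ht
    have hkN : k ∈ Subgroup.normalizer ((P : Subgroup G) : Set G) := by
      refine hTI' k y hy hy1 ?_
      rw [show k⁻¹ * y * k = y by rw [mul_assoc, ← hky]; group]
      exact hy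
    have h1 : k * t * k⁻¹ * t⁻¹ ∈ K ⊓ (P : Subgroup G) := by
      refine ⟨?_, (P : Subgroup G).mul_mem ((Subgroup.mem_normalizer_iff.mp hkN t).mp ht) ((P : Subgroup G).inv_mem ht)⟩
      rw [show k * t * k⁻¹ * t⁻¹ = k * (t * k⁻¹ * t⁻¹) by group]
      exact mul_mem hk ((inferInstance : K.Normal).conj_mem _ (inv_mem hk) t)
    rw [hKPbot, Subgroup.mem_bot, mul_inv_eq_one, mul_inv_eq_iff_eq_mul] at h1
    exact h1
  -- the central element of order `p`
  haveI : Nontrivial (P : Subgroup G) := (Subgroup.nontrivial_iff_ne_bot _).mpr hPb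
  haveI := P.isPGroup'.center_nontrivial
  obtain ⟨z₀, hz₀⟩ := exists_prime_orderOf_dvd_card' (G := Subgroup.center (P : Subgroup G)) p (by
    obtain ⟨a, ha⟩ := IsPGroup.iff_card.mp (P.isPGroup'.to_subgroup (Subgroup.center (P : Subgroup G)))
    rw [ha]
    refine dvd_pow_self p fun e => ?_
    rw [e, pow_zero] at ha
    have := Finite.one_lt_card (α := Subgroup.center (P : Subgroup G))
    omega)
  set z : G := ((z₀ : (P : Subgroup G)) : G) with hzdef
  have hzP : z ∈ (P : Subgroup G) := (z₀ : (P : Subgroup G)).2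
  have hzo : orderOf z = p := by rw [hzdef, Subgroup.orderOf_coe, Subgroup.orderOf_coe, hz₀]
  have hz1 : z ≠ 1 := fun e => by
    rw [e, orderOf_one] at hzo; exact (Fact.out : p.Prime).ne_one hzo.symm
  have hzc : ∀ w ∈ (P : Subgroup G), w * z = z * w := fun w hw =>
    congrArg Subtype.val (Subgroup.mem_center_iff.mp z₀.2 ⟨w, hw⟩)
  have hzmem : ∀ y ∈ (P : Subgroup G), orderOf y = p → z ∈ Subgroup.zpowers y := by
    intro y hy hyo
    by_contra hn
    set E := Subgroup.closure ({y, z} : Set G) with hE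
    haveI hEc : IsMulCommutative E := Subgroup.isMulCommutative_closure (by
      rintro a (rfl | rfl) b (rfl | rfl)
      · rfl
      · exact hzc _ hy
      · exact (hzc _ hy).symm
      · rfl)
    have hEP : E ≤ (P : Subgroup G) := by
      rw [hE, Subgroup.closure_le]; rintro a (rfl | rfl) <;> assumption
    have hyE : y ∈ E := Subgroup.subset_closure (Set.mem_insert _ _)
    have hzE : z ∈ E := Subgroup.subset_closure (Set.mem_insert_of_mem _ rfl)
    have hEnc : ¬ IsCyclic E := fun hc => by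
      haveI := hc
      have h1 : Nat.card (Subgroup.zpowers (⟨y, hyE⟩ : E)) = p := by
        rw [Nat.card_zpowers, ← Subgroup.orderOf_coe, hyo]
      have h2 : Nat.card (Subgroup.zpowers (⟨z, hzE⟩ : E)) = p := by
        rw [Nat.card_zpowers, ← Subgroup.orderOf_coe, hzo]
      have h3 := Char.eq_of_card_eq_of_cyclic (h1.trans h2.symm)
      have h4 : (⟨z, hzE⟩ : E) ∈ Subgroup.zpowers (⟨y, hyE⟩ : E) := h3 ▸ Subgroup.mem_zpowers _
      obtain ⟨i, hi⟩ := Subgroup.mem_zpowers_iff.mp h4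
      exact hn (Subgroup.mem_zpowers_iff.mpr ⟨i, by simpa using congrArg Subtype.val hi⟩)
    have hle := Local.CoprimeGen.le_of_centralizers E K (Subgroup.centralizer ((P : Subgroup G) : Set G))
      hEnc (by rw [Subgroup.normalizer_eq_top]; exact le_top)
      ((hKP.symm).coprime_dvd_left (Subgroup.card_dvd_of_le hEP)) (fun w hw hw1 k hk =>
        Subgroup.mem_centralizer_iff.mpr fun t ht =>
          (hC w (hEP hw) hw1 k hk.1 (Subgroup.mem_centralizer_singleton_iff.mp hk.2) t ht).symm)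
    exact hz1 (hno z hzP fun k hk => (Subgroup.mem_centralizer_iff.mp (hle hk) z hzP).symm)
  -- `z` centralizes `K`
  refine hz1 (hno z hzP fun k hk => ?_)
  haveI := Fintype.ofFinite K
  haveI := Fintype.ofFinite (Cfsg.IrrCharacter K)
  have hres : Cfsg.IsCharacter K (fun n : K => χ n) := Char.IsCharacter.restrict hχ K
  choose m hm using fun θ : Cfsg.IrrCharacter K => Char.exists_classInner_nat hres θ.2
  have hdec : (fun n : K => χ n) = ∑ θ : Cfsg.IrrCharacter K, (m θ : ℂ) • (θ : K → ℂ) := by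
    conv_lhs => rw [Char.IsClassFunction.eq_sum (Char.IsCharacter.isClassFunction hres)]
    simp only [hm]
  choose dg hdg0 hdg using fun θ : Cfsg.IrrCharacter K => Char.IsIrrCharacter.degree_pos θ.2
  have hdsum : ∑ θ, m θ * dg θ = d := by
    have e := congrFun hdec 1
    simp only [OneMemClass.coe_one, hd, Finset.sum_apply, Pi.smul_apply, smul_eq_mul, hdg] at e
    exact_mod_cast e.symm
  have hzk : z * k * z⁻¹ ∈ K := (inferInstance : K.Normal).conj_mem k hk z
  set n₀ : K := ⟨z * k * z⁻¹, hzk⟩ * ⟨k, hk⟩⁻¹ with hn₀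
  have key : ∀ θ : Cfsg.IrrCharacter K, m θ ≠ 0 → (θ : K → ℂ) n₀ = (θ : K → ℂ) 1 := by
    intro θ hθ
    let cj : G → K → K := fun g n => ⟨g * n * g⁻¹, (inferInstance : K.Normal).conj_mem n n.2 g⟩
    let S : Subgroup G :=
      { carrier := {g | g ∈ (P : Subgroup G) ∧ ∀ n : K, (θ : K → ℂ) (cj g n) = (θ : K → ℂ) n}
        mul_mem' := fun {a b} ha hb => ⟨mul_mem ha.1 hb.1, fun n => by
          rw [show cj (a * b) n = cj a (cj b n) from Subtype.ext (by simp [cj, mul_assoc]),
            ha.2, hb.2]⟩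
        one_mem' := ⟨one_mem _, fun n => congrArg _ (Subtype.ext (by simp [cj]))⟩
        inv_mem' := fun {a} ha => ⟨inv_mem ha.1, fun n => by
          conv_rhs => rw [show n = cj a (cj a⁻¹ n) from Subtype.ext (by simp [cj, mul_assoc])]
          rw [ha.2]⟩ }
    have hSP : S ≤ (P : Subgroup G) := fun g hg => hg.1
    -- the orbit
    set S' := S.subgroupOf (P : Subgroup G) with hS'
    haveI := Fintype.ofFinite ((P : Subgroup G) ⧸ S')
    let orb : (P : Subgroup G) ⧸ S' → Cfsg.IrrCharacter K := fun q =>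
      ⟨Char.conjChar K ((q.out : (P : Subgroup G)) : G)⁻¹ (θ : K → ℂ),
        Char.isIrrCharacter_conjChar K θ.2 _⟩
    have horb : Function.Injective orb := by
      intro q q' e
      rw [← q.out_eq, ← q'.out_eq]
      refine QuotientGroup.eq.mpr ⟨mul_mem (inv_mem q.out.2) q'.out.2, fun n => ?_⟩
      have e' := congrFun (congrArg Subtype.val e) (cj ((q'.out : (P : Subgroup G)) : G) n)
      simp only [orb, Char.conjChar] at e'
      show (θ : K → ℂ) (cj (((q.out)⁻¹ * q'.out : (P : Subgroup G)) : G) n) = (θ : K → ℂ) n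
      rw [show cj (((q.out)⁻¹ * q'.out : (P : Subgroup G)) : G) n =
        ⟨((q.out : (P : Subgroup G)) : G)⁻¹ * (cj ((q'.out : (P : Subgroup G)) : G) n : G) *
          ((q.out : (P : Subgroup G)) : G)⁻¹⁻¹, (inferInstance : K.Normal).conj_mem _ (cj _ n).2 _⟩
        from Subtype.ext (by simp [cj, mul_assoc]), e']
      exact congrArg (θ : K → ℂ) (Subtype.ext (by simp [cj, mul_assoc]))
    have hmorb : ∀ q, m (orb q) = m θ ∧ dg (orb q) = dg θ := by
      intro q
      constructor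
      · have h1 := hm (orb q)
        rw [show (orb q : K → ℂ) = Char.conjChar K ((q.out : (P : Subgroup G)) : G)⁻¹ (θ : K → ℂ) from rfl,
          Char.classInner_restrict_conjChar K (Char.IsCharacter.isClassFunction hχ), hm θ] at h1
        exact_mod_cast h1.symm
      · have h1 := hdg (orb q)
        simp only [orb, Char.conjChar] at h1
        have e : (⟨((q.out : (P : Subgroup G)) : G)⁻¹ * ((1 : K) : G) *
          ((q.out : (P : Subgroup G)) : G)⁻¹⁻¹, (inferInstance : K.Normal).conj_mem _ (1 : K).2 _⟩ : K) = 1 :=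
            Subtype.ext (by simp)
        rw [e, hdg θ] at h1
        exact_mod_cast h1.symm
    have hb : S'.index * dg θ ≤ d := by
      rw [← hdsum, Subgroup.index, Nat.card_eq_fintype_card, ← Finset.card_univ, ← smul_eq_mul,
        ← Finset.sum_const]
      refine le_trans (Finset.sum_le_sum fun q _ => ?_)
        (le_trans (le_of_eq (Finset.sum_image (f := fun φ => m φ * dg φ) (g := orb)
          (s := Finset.univ) horb.injOn).symm) (Finset.sum_le_sum_of_subset (Finset.subset_univ _)))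
      rw [(hmorb q).1, (hmorb q).2]
      exact Nat.le_mul_of_pos_left _ (Nat.pos_of_ne_zero hθ)
    have hSc : Nat.card S * S'.index = Nat.card (P : Subgroup G) := by
      rw [← S'.card_mul_index, Nat.card_congr (Subgroup.subgroupOfEquivOfLe hSP).toEquiv]
    have hdeg' : d * d ≤ Nat.card (P : Subgroup G) := hdeg
    have hi0 : 0 < S'.index := Nat.pos_of_ne_zero Subgroup.index_ne_zero_of_finite
    have hdS : dg θ * dg θ ≤ Nat.card S := by
      refine Nat.le_of_mul_le_mul_right ?_ hi0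
      rw [hSc]
      refine le_trans ?_ ((Nat.mul_le_mul hb hb).trans hdeg')
      calc dg θ * dg θ * S'.index ≤ dg θ * dg θ * S'.index * S'.index :=
            Nat.le_mul_of_pos_right _ hi0
        _ = S'.index * dg θ * (S'.index * dg θ) := by ring
    have hS1 : S ≠ ⊥ := by
      intro e
      rw [e, Subgroup.card_bot, one_mul] at hSc
      have h1 : d * d ≤ d * 1 := by
        rw [mul_one]
        refine le_trans hdeg' ?_
        rw [← hSc]
        exact (Nat.le_mul_of_pos_right _ (hdg0 θ)).trans hb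
      have := Finite.one_lt_card (α := (P : Subgroup G))
      have h2 : d ≤ 1 := by
        rcases Nat.eq_zero_or_pos d with h | h
        · omega
        · exact Nat.le_of_mul_le_mul_left h1 h
      have := Nat.le_mul_of_pos_right S'.index (hdg0 θ)
      omega
    -- `z` lies in `S`
    haveI : Nontrivial S := (Subgroup.nontrivial_iff_ne_bot _).mpr hS1
    obtain ⟨y, hy⟩ := exists_prime_orderOf_dvd_card' (G := S) p (by
      obtain ⟨a, ha⟩ := IsPGroup.iff_card.mp (P.isPGroup'.to_le hSP)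
      rw [ha]
      refine dvd_pow_self p fun e => ?_
      rw [e, pow_zero] at ha
      have := Finite.one_lt_card (α := S)
      omega)
    have hzS : z ∈ S :=
      (Subgroup.zpowers_le.mpr y.2) (hzmem (y : G) (hSP y.2) (by rw [Subgroup.orderOf_coe, hy]))
    -- the group `K S`
    set T : Subgroup G := K ⊔ S with hT
    haveI := Fintype.ofFinite T
    have hKT : K ≤ T := le_sup_left
    have hST : S ≤ T := le_sup_right
    haveI : (K.subgroupOf T).Normal := Subgroup.normal_subgroupOf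
    haveI := Fintype.ofFinite (K.subgroupOf T)
    let eK := Subgroup.subgroupOfEquivOfLe hKT
    let θ' : K.subgroupOf T → ℂ := fun w => (θ : K → ℂ) (eK w)
    have hθ' : Cfsg.IsIrrCharacter _ θ' := Char.isIrrCharacter_comp_mulEquiv eK θ.2
    have htop : K.subgroupOf T ⊔ S.subgroupOf T = ⊤ := by
      rw [← Subgroup.subgroupOf_sup hKT hST, ← hT, Subgroup.subgroupOf_self]
    have hinv' : ∀ g : T, Char.conjChar (K.subgroupOf T) g θ' = θ' := by
      intro g
      have hle : K.subgroupOf T ⊔ S.subgroupOf T ≤ Char.inertia (K.subgroupOf T) θ' := by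
        refine sup_le (Char.le_inertia _ (Char.IsCharacter.isClassFunction
          (Char.IsIrrCharacter.isCharacter hθ'))) fun w hw => ?_
        rw [Char.mem_inertia]
        funext v
        have h1 := ((Subgroup.mem_subgroupOf.mp hw : (w : G) ∈ S)).2 (eK v)
        show (θ : K → ℂ) _ = (θ : K → ℂ) (eK v)
        rw [← h1]
        congr 1
      exact (Char.mem_inertia _).mp (hle (htop ▸ Subgroup.mem_top g))
    have hcS : Nat.card (S.subgroupOf T) = Nat.card S :=
      Nat.card_congr (Subgroup.subgroupOfEquivOfLe hST).toEquiv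
    have hcK : Nat.card (K.subgroupOf T) = Nat.card K := Nat.card_congr eK.toEquiv
    have h := core_scalar (K.subgroupOf T) (S.subgroupOf T) htop
      (by rw [hcS, hcK]; exact hKP.coprime_dvd_right (Subgroup.card_dvd_of_le hSP))
      (fun s hs hs1 w hw hws t ht => Subtype.ext (hC s (hSP hs) (fun e => hs1 (Subtype.ext e)) w hw
        (congrArg Subtype.val hws) t (hSP ht)))
      θ' hθ' hinv' (dg θ) (by show (θ : K → ℂ) (eK 1) = _; rw [map_one, hdg]) (by rw [hcS]; exact hdS)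
      ⟨z, hST hzS⟩ hzS (eK.symm ⟨k, hk⟩)
    show (θ : K → ℂ) n₀ = (θ : K → ℂ) 1
    have e1 : θ' 1 = (θ : K → ℂ) 1 := by show (θ : K → ℂ) (eK 1) = _; rw [map_one]
    rw [← e1, ← h]
    show _ = (θ : K → ℂ) (eK _)
    congr 1
  have hfin : χ (n₀ : G) = χ 1 := by
    have e1 := congrFun hdec n₀
    have e2 := congrFun hdec 1
    simp only [OneMemClass.coe_one] at e1 e2
    rw [e1, e2]
    simp only [Finset.sum_apply, Pi.smul_apply, smul_eq_mul]
    refine Finset.sum_congr rfl fun θ _ => ?_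
    by_cases h0 : m θ = 0
    · simp [h0]
    · rw [key θ h0]
  have h := hfaith _ hfin
  simp only [hn₀, Subgroup.coe_mul, InvMemClass.coe_inv] at h
  rw [mul_inv_eq_one, mul_inv_eq_iff_eq_mul] at h
  exact h.symm

end Cfsg.Agent.S4748
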