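import Cfsg.Statements.S4757
import Cfsg.Agent.Lib.Char.Orthogonality
import Cfsg.Agent.Lib.Char.Linear
import Cfsg.Agent.Lib.Solv.Basic
import Mathlib.GroupTheory.Perm.Cycle.Type

set_option autoImplicit false
open Cfsg

namespace Cfsg.Agent.S4757

open Cfsg.Agent.Char
open scoped ComplexConjugate

theorem converse {G : Type*} [Group G] [Finite G] (u : G) (h2 : orderOf u = 2)
    (hgen : Subgroup.zpowers u ⊔ Cfsg.oddCore G = ⊤) : commutator G ≠ ⊤ := by
  intro hperf
  haveI : (Cfsg.oddCore G).Normal := by
    unfold Cfsg.oddCore Cfsg.pPrimeCore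
    exact Subgroup.sSup_normal _ fun N hN => hN.1
  have hcomm : ∀ a b : G ⧸ Cfsg.oddCore G, a * b = b * a := by
    have hk : ∀ a : G ⧸ Cfsg.oddCore G, ∃ k : ℤ, a = (QuotientGroup.mk u) ^ k := by
      intro a
      induction a using QuotientGroup.induction_on with
      | H g =>
        have hg : g ∈ Subgroup.zpowers u ⊔ Cfsg.oddCore G := hgen ▸ Subgroup.mem_top g
        obtain ⟨x, hx, y, hy, rfl⟩ := Subgroup.mem_sup_of_normal_right.1 hg
        obtain ⟨k, rfl⟩ := Subgroup.mem_zpowers_iff.1 hx
        refine ⟨k, ?_⟩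
        rw [QuotientGroup.mk_mul, QuotientGroup.mk_zpow, (QuotientGroup.eq_one_iff y).2 hy, mul_one]
    intro a b
    obtain ⟨i, rfl⟩ := hk a
    obtain ⟨j, rfl⟩ := hk b
    rw [← zpow_add, ← zpow_add, add_comm]
  have hle : commutator G ≤ Cfsg.oddCore G := by
    rw [commutator_eq_closure, Subgroup.closure_le]
    rintro z ⟨a, b, rfl⟩
    rw [SetLike.mem_coe, ← QuotientGroup.eq_one_iff, commutatorElement_def, QuotientGroup.mk_mul,
      QuotientGroup.mk_mul, QuotientGroup.mk_mul, hcomm (a : G ⧸ Cfsg.oddCore G) b]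
    simp
  rw [hperf, top_le_iff] at hle
  have hc : (Nat.card (Cfsg.oddCore G)).Coprime 2 := Cfsg.Agent.Solv.card_pPrimeCore_coprime 2 G
  rw [hle, Subgroup.card_top, Nat.coprime_comm, Nat.prime_two.coprime_iff_not_dvd] at hc
  exact hc (h2 ▸ orderOf_dvd_natCard u)

theorem forward {G : Type*} [Group G] [Finite G] (u : G) (hu : u ≠ 1) (c : ℂ)
    (hyp : ∀ χ : Cfsg.IrrCharacter G, (χ : G → ℂ) ≠ (fun _ => (1 : ℂ)) →
      ((χ : G → ℂ) 1 - (χ : G → ℂ) u = c ∨ (χ : G → ℂ) u = 0)) :
    (commutator G ≠ ⊤ → c = 2 ∧ orderOf u = 2 ∧ Subgroup.zpowers u ⊔ Cfsg.oddCore G = ⊤ ∧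
      Subgroup.centralizer ({u} : Set G) = Subgroup.zpowers u) ∧
    (c = 2 → commutator G ≠ ⊤) := by
  classical
  haveI := Fintype.ofFinite G
  haveI := Fintype.ofFinite (Cfsg.IrrCharacter G)
  let one : Cfsg.IrrCharacter G := ⟨1, isIrrCharacter_one⟩
  have hdeg : ∀ χ : Cfsg.IrrCharacter G, ∃ n : ℕ, 0 < n ∧ (χ : G → ℂ) 1 = n := fun χ =>
    IsIrrCharacter.degree_pos χ.2
  choose d hd0 hd using hdeg
  have horth : ∑ χ : Cfsg.IrrCharacter G, (χ : G → ℂ) u * (χ : G → ℂ) 1 = 0 := by
    have h := second_orthogonality u (1 : G)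
    rw [if_neg (fun e => hu (isConj_one_left.1 e))] at h
    rw [← h]
    refine Finset.sum_congr rfl fun χ _ => ?_
    rw [hd, Complex.conj_natCast]
  have hne1 : ∀ χ : Cfsg.IrrCharacter G, χ ≠ one → (χ : G → ℂ) ≠ fun _ => (1 : ℂ) :=
    fun χ h e => h (Subtype.ext e)
  -- the nonlinear characters have nonnegative values when `c = 2`
  have hnonneg : c = 2 → ∀ χ : Cfsg.IrrCharacter G, d χ ≠ 1 →
      ∃ r : ℝ, 0 ≤ r ∧ (χ : G → ℂ) u * (χ : G → ℂ) 1 = r ∧ (r = 0 → (χ : G → ℂ) u = 0) := by
    intro hc χ h1
    have h2 : 2 ≤ d χ := by have := hd0 χ; omega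
    have hne : χ ≠ one := by
      rintro rfl
      apply h1
      have := hd one
      simpa [one] using this.symm
    rcases hyp χ (hne1 χ hne) with h | h
    · rw [hc, hd] at h
      have hu' : (χ : G → ℂ) u = ((d χ - 2 : ℕ) : ℂ) := by
        rw [Nat.cast_sub h2]; linear_combination (-1 : ℂ) * h
      refine ⟨((d χ - 2 : ℕ) : ℝ) * (d χ : ℝ), by positivity, ?_, fun h0 => ?_⟩
      · rw [hu', hd]; push_cast; ring
      · rcases mul_eq_zero.1 h0 with h0 | h0
        · rw [hu']; exact_mod_cast h0
        · exact absurd (by exact_mod_cast h0) (hd0 χ).ne'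
    · exact ⟨0, le_rfl, by rw [h]; simp, fun _ => h⟩
  have honeval : ∀ g : G, (one : G → ℂ) g = 1 := fun g => rfl
  have hd1 : d one = 1 := by
    have := hd one; rw [honeval] at this; exact_mod_cast this.symm
  refine ⟨fun hperf => ?_, fun hc hperf => ?_⟩
  · -- imperfect groups
    have hlin : ∀ l : G →* ℂˣ, l ≠ 1 → (l u : ℂ) = 1 - c := by
      intro l hl
      have hχ := hyp ⟨_, isIrrCharacter_monoidHom l⟩ (fun e => hl (monoidHom_coe_injective
        (e.trans (by funext g; simp))))
      simp only [map_one, Units.val_one] at hχ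
      rcases hχ with h | h
      · linear_combination (-1 : ℂ) * h
      · exact absurd h (Units.ne_zero _)
    have hc0 : c ≠ 0 := by
      intro hc
      have hnn : ∀ χ : Cfsg.IrrCharacter G, 0 ≤ ((χ : G → ℂ) u * (χ : G → ℂ) 1).re := by
        intro χ
        by_cases h1 : χ = one
        · subst h1; simp [honeval]
        rcases hyp χ (hne1 χ h1) with h | h
        · rw [hc, sub_eq_zero] at h
          rw [← h, hd, ← Nat.cast_mul, Complex.natCast_re]; positivity
        · simp [h]
      have h0 := congrArg Complex.re horth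
      rw [Complex.re_sum, Complex.zero_re,
        Finset.sum_eq_zero_iff_of_nonneg (fun χ _ => hnn χ)] at h0
      have := h0 one (Finset.mem_univ _)
      simp [honeval] at this
    haveI : Finite (G →* ℂˣ) := Nat.finite_of_card_ne_zero (by
      rw [card_monoidHom_units]; exact Subgroup.index_ne_zero_of_finite)
    haveI : Nontrivial (G →* ℂˣ) := Finite.one_lt_card_iff_nontrivial.1 (by
      rw [card_monoidHom_units]
      exact Subgroup.one_lt_index_of_ne_top hperf)
    obtain ⟨l, hl⟩ := exists_ne (1 : G →* ℂˣ)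
    have hsq : ∀ (m : G →* ℂˣ) (g : G), m g * m g = 1 := by
      intro m g
      suffices h : m * m = 1 by rw [← MonoidHom.mul_apply, h, MonoidHom.one_apply]
      by_contra h
      have hm : m ≠ 1 := fun e => h (by subst e; ext x; simp)
      have h2 : ((m u : ℂˣ) : ℂ) * (m u : ℂ) = 1 - c := by
        rw [← Units.val_mul, ← MonoidHom.mul_apply]; exact hlin _ h
      rw [hlin m hm] at h2
      have h3 : (1 - c) * c = 0 := by linear_combination (-1 : ℂ) * h2
      rcases mul_eq_zero.1 h3 with h4 | h4
      · exact Units.ne_zero _ ((hlin m hm).trans h4)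
      · exact hc0 h4
    have hlu : (1 - c) * (1 - c) = 1 := by
      rw [← hlin l hl, ← Units.val_mul, hsq]; simp
    have hc : c = 2 := by
      have h3 : c * (c - 2) = 0 := by linear_combination hlu
      rcases mul_eq_zero.1 h3 with h4 | h4
      · exact absurd h4 hc0
      · linear_combination h4
    have huniq : ∀ m : G →* ℂˣ, m ≠ 1 → m = l := by
      intro m hm
      by_contra hne
      have hml : m * l ≠ 1 := by
        intro e
        apply hne
        refine MonoidHom.ext fun g => ?_
        have h1 := DFunLike.congr_fun e g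
        rw [MonoidHom.mul_apply, MonoidHom.one_apply, ← hsq m g] at h1
        exact (mul_left_cancel h1).symm
      have := hlin _ hml
      rw [MonoidHom.mul_apply, Units.val_mul, hlin m hm, hlin l hl, hc] at this
      norm_num at this
    have hindex : (commutator G).index = 2 := by
      rw [← card_monoidHom_units, Nat.card_eq_two_iff]
      refine ⟨1, l, hl.symm, Set.eq_univ_of_forall fun m => ?_⟩
      by_cases hm : m = 1
      · exact Or.inl hm
      · exact Or.inr (huniq m hm)
    let L := (Finset.univ : Finset (Cfsg.IrrCharacter G)).filter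
      (fun χ : Cfsg.IrrCharacter G => (χ : G → ℂ) 1 = 1)
    have hLcard : L.card = 2 := by
      rw [← hindex, ← card_linear, Nat.card_eq_fintype_card, Fintype.card_subtype]
    have hone : one ∈ L := Finset.mem_filter.2 ⟨Finset.mem_univ _, honeval 1⟩
    have hLval : ∀ χ ∈ L.erase one, (χ : G → ℂ) u = -1 := by
      intro χ hχ
      obtain ⟨h1, h2⟩ := Finset.mem_erase.1 hχ
      have h2 := (Finset.mem_filter.1 h2).2
      rcases hyp χ (hne1 χ h1) with h | h
      · rw [h2, hc] at h; linear_combination (-1 : ℂ) * h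
      · exfalso
        obtain ⟨m, hm⟩ := IsCharacter.exists_monoidHom (IsIrrCharacter.isCharacter χ.2) h2
        rw [hm] at h
        exact Units.ne_zero _ h
    have hLsum : ∑ χ ∈ L, (χ : G → ℂ) u * (χ : G → ℂ) 1 = 0 := by
      rw [← Finset.add_sum_erase L _ hone, Finset.sum_congr rfl fun χ hχ => by
        rw [hLval χ hχ, (Finset.mem_filter.1 (Finset.mem_erase.1 hχ).2).2],
        Finset.sum_const, Finset.card_erase_of_mem hone, hLcard]
      simp [honeval]
    have hzero : ∀ χ : Cfsg.IrrCharacter G, χ ∉ L → (χ : G → ℂ) u = 0 := by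
      have hsplit := Finset.sum_filter_add_sum_filter_not (Finset.univ : Finset (Cfsg.IrrCharacter G))
        (fun χ : Cfsg.IrrCharacter G => (χ : G → ℂ) 1 = 1) (fun χ => (χ : G → ℂ) u * (χ : G → ℂ) 1)
      rw [horth, hLsum, zero_add] at hsplit
      intro χ hχ
      have hmem : ∀ ψ ∈ (Finset.univ : Finset (Cfsg.IrrCharacter G)).filter
          (fun ψ : Cfsg.IrrCharacter G => ¬ (ψ : G → ℂ) 1 = 1), d ψ ≠ 1 := by
        intro ψ hψ e
        exact (Finset.mem_filter.1 hψ).2 (by rw [hd, e, Nat.cast_one])
      have h0 := congrArg Complex.re hsplit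
      rw [Complex.re_sum, Complex.zero_re, Finset.sum_eq_zero_iff_of_nonneg (fun ψ hψ => by
        obtain ⟨r, hr, he, -⟩ := hnonneg hc ψ (hmem ψ hψ)
        rw [he]; exact hr)] at h0
      have hχ' : χ ∈ (Finset.univ : Finset (Cfsg.IrrCharacter G)).filter
          (fun ψ : Cfsg.IrrCharacter G => ¬ (ψ : G → ℂ) 1 = 1) :=
        Finset.mem_filter.2 ⟨Finset.mem_univ _, fun e => hχ (Finset.mem_filter.2 ⟨Finset.mem_univ _, e⟩)⟩
      obtain ⟨r, hr, he, hr0⟩ := hnonneg hc χ (hmem χ hχ')
      have := h0 χ hχ'
      rw [he, Complex.ofReal_re] at this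
      exact hr0 this
    have hC : Nat.card (Subgroup.centralizer ({u} : Set G)) = 2 := by
      have h := second_orthogonality u u
      rw [if_pos (IsConj.refl u), ← Finset.sum_subset (Finset.subset_univ L) (fun χ _ hχ => by
        rw [hzero χ hχ, zero_mul])] at h
      have h1 : ∀ χ ∈ L, (χ : G → ℂ) u * conj ((χ : G → ℂ) u) = 1 := by
        intro χ hχ
        by_cases e : χ = one
        · subst e; simp [honeval]
        · rw [hLval χ (Finset.mem_erase.2 ⟨e, hχ⟩)]; simp
      rw [Finset.sum_congr rfl h1, Finset.sum_const, hLcard] at h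
      simp only [nsmul_eq_mul, mul_one] at h
      exact_mod_cast h.symm
    have hzle : Subgroup.zpowers u ≤ Subgroup.centralizer ({u} : Set G) := by
      rw [Subgroup.zpowers_le]
      exact Subgroup.mem_centralizer_singleton_iff.2 rfl
    have hord : orderOf u = 2 := by
      have h1 := Subgroup.card_dvd_of_le hzle
      rw [hC, Nat.card_zpowers] at h1
      rcases (Nat.dvd_prime Nat.prime_two).1 h1 with h | h
      · exact absurd (orderOf_eq_one_iff.1 h) hu
      · exact h
    have hcent : Subgroup.centralizer ({u} : Set G) = Subgroup.zpowers u :=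
      (Subgroup.eq_of_le_of_card_ge hzle (by rw [hC, Nat.card_zpowers, hord])).symm
    have hker : commutator G ≤ l.ker := Abelianization.commutator_subset_ker l
    have hunot : u ∉ commutator G := by
      intro h
      have h1 := hlin l hl
      rw [MonoidHom.mem_ker.1 (hker h), hc, Units.val_one] at h1
      norm_num at h1
    have hclass : ∀ g, g ∉ commutator G → g * g = 1 := by
      have hsub : {x : G | IsConj u x} ⊆ {x : G | x ∉ commutator G} := by
        intro x hx hxc
        obtain ⟨z, rfl⟩ := isConj_iff.1 hx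
        apply hunot
        have hN : (commutator G).Normal := inferInstance
        have := hN.conj_mem _ hxc z⁻¹
        simpa [mul_assoc] using this
      have hcard : Nat.card {x : G | x ∉ commutator G} ≤ Nat.card {x : G | IsConj u x} := by
        have h1 := card_isConj_mul_card_centralizer u
        rw [hC] at h1
        have h2 := (commutator G).card_mul_index
        rw [hindex] at h2
        have h3 : Nat.card {x : G | x ∉ commutator G} + Nat.card (commutator G) = Nat.card G := by
          have := Set.ncard_add_ncard_compl ((commutator G : Subgroup G) : Set G)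
          rw [← this, ← Nat.card_coe_set_eq, ← Nat.card_coe_set_eq, add_comm]
          rfl
        simp only [Set.coe_setOf] at h3 ⊢
        omega
      have heq := Set.Finite.eq_of_subset_of_card_le (Set.toFinite _) hsub hcard
      intro g hg
      have hg' : g ∈ {x : G | IsConj u x} := heq ▸ hg
      obtain ⟨z, rfl⟩ := isConj_iff.1 hg'
      have huu : u * u = 1 := by rw [← sq, ← hord, pow_orderOf_eq_one]
      calc z * u * z⁻¹ * (z * u * z⁻¹) = z * (u * u) * z⁻¹ := by group
        _ = 1 := by rw [huu]; group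
    refine ⟨hc, hord, ?_, hcent⟩
    have hodd : (Nat.card (commutator G)).Coprime 2 := by
      rw [Nat.coprime_comm, Nat.prime_two.coprime_iff_not_dvd]
      intro h2
      haveI : Fact (Nat.Prime 2) := ⟨Nat.prime_two⟩
      obtain ⟨n, hn⟩ := exists_prime_orderOf_dvd_card' 2 h2
      have hn2 : (n : G) * n = 1 := by
        have : n * n = 1 := by rw [← sq, ← hn, pow_orderOf_eq_one]
        exact congrArg Subtype.val this
      have hun : u * (n : G) ∉ commutator G := fun h => hunot (by
        simpa using mul_mem h (inv_mem n.2))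
      have h3 := hclass _ hun
      have huu : u * u = 1 := by rw [← sq, ← hord, pow_orderOf_eq_one]
      have hcomm : u * (n : G) = (n : G) * u := by
        calc u * (n : G) = u * (n : G) * (u * (n : G)) * (u * (n : G))⁻¹ := by group
          _ = (n : G)⁻¹ * u⁻¹ := by rw [h3]; group
          _ = (n : G) * u := by
            rw [← eq_inv_of_mul_eq_one_left hn2, ← eq_inv_of_mul_eq_one_left huu]
      have hmem : (n : G) ∈ Subgroup.centralizer ({u} : Set G) :=
        Subgroup.mem_centralizer_singleton_iff.2 hcomm.symm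
      rw [hcent, Subgroup.mem_zpowers_iff] at hmem
      obtain ⟨k, hk⟩ := hmem
      rcases Int.even_or_odd k with ⟨j, rfl⟩ | ⟨j, rfl⟩
      · have h1 : (n : G) = 1 := by
          rw [← hk, ← two_mul, zpow_mul, show u ^ (2 : ℤ) = 1 by
            rw [show (2 : ℤ) = 1 + 1 by rfl, zpow_add, zpow_one, huu], one_zpow]
        have : orderOf n = 1 := orderOf_eq_one_iff.2 (Subtype.ext h1)
        omega
      · apply hunot
        have h1 : (n : G) = u := by
          rw [← hk, zpow_add, zpow_one, zpow_mul, show u ^ (2 : ℤ) = 1 by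
            rw [show (2 : ℤ) = 1 + 1 by rfl, zpow_add, zpow_one, huu], one_zpow, one_mul]
        exact h1 ▸ n.2
    have hle : commutator G ≤ Cfsg.oddCore G := Cfsg.Agent.Solv.le_pPrimeCore hodd
    rw [eq_top_iff]
    intro g _
    by_cases hg : g ∈ commutator G
    · exact Subgroup.mem_sup_right (hle hg)
    · have hgu : g * u ∈ commutator G :=
        (Subgroup.mul_mem_iff_of_index_two hindex).2 (by simp [hg, hunot])
      have : g = g * u * u⁻¹ := by group
      rw [this]
      exact mul_mem (Subgroup.mem_sup_right (hle hgu))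
        (Subgroup.mem_sup_left (inv_mem (Subgroup.mem_zpowers u)))
  · -- c = 2
    have hdne : ∀ χ : Cfsg.IrrCharacter G, χ ≠ one → d χ ≠ 1 := by
      intro χ hχ e
      obtain ⟨m, hm⟩ := IsCharacter.exists_monoidHom (IsIrrCharacter.isCharacter χ.2)
        (by rw [hd, e, Nat.cast_one])
      apply hne1 χ hχ
      have : m = 1 := by
        ext g
        have hg : g ∈ m.ker := Abelianization.commutator_subset_ker m (hperf ▸ Subgroup.mem_top g)
        rw [MonoidHom.mem_ker.1 hg, MonoidHom.one_apply]
      rw [hm, this]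
      simp
    have h0 := congrArg Complex.re horth
    rw [Complex.re_sum, Complex.zero_re, ← Finset.add_sum_erase _ _ (Finset.mem_univ one)] at h0
    have : 0 ≤ ∑ χ ∈ Finset.univ.erase one, ((χ : G → ℂ) u * (χ : G → ℂ) 1).re :=
      Finset.sum_nonneg fun χ hχ => by
        obtain ⟨r, hr, he, -⟩ := hnonneg hc χ (hdne χ (Finset.mem_erase.1 hχ).1)
        rw [he, Complex.ofReal_re]; exact hr
    simp only [honeval, one_mul, Complex.one_re] at h0
    linarith


/-- Let u ≠ 1 be an element of the finite group G and c a complex number such that every non-principal irreducible character χ satisfies χ(1) − χ(u) = c or χ(u) = 0. Then the following are equivalent: (a) u has order 2, G is generated by u together with O(G), the largest normal subgroup of G of odd order, and the centralizer of u is {1, u}; (b) G is not perfect; (c) c = 2. -/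
theorem result {G : Type*} [Group G] [Finite G] (u : G) (hu : u ≠ 1) (c : ℂ) (hyp : ∀ χ : Cfsg.IrrCharacter G, (χ : G → ℂ) ≠ (fun _ => (1 : ℂ)) → ((χ : G → ℂ) 1 - (χ : G → ℂ) u = c ∨ (χ : G → ℂ) u = 0)) : ((orderOf u = 2 ∧ Subgroup.zpowers u ⊔ Cfsg.oddCore G = ⊤ ∧ Subgroup.centralizer ({u} : Set G) = Subgroup.zpowers u) ↔ commutator G ≠ ⊤) ∧ (commutator G ≠ ⊤ ↔ c = 2) := by
  obtain ⟨hf, hb⟩ := forward u hu c hyp
  exact ⟨⟨fun h => converse u h.1 h.2.1, fun h => (hf h).2⟩, ⟨fun h => (hf h).1, hb⟩⟩

end Cfsg.Agent.S4757
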