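import Cfsg.Statements.S4762
import Cfsg.Agent.Lib.Block.OneNonlinear
import Cfsg.Agent.Lib.Char.Perm
import Cfsg.Agent.Lib.Char.Clifford

set_option autoImplicit false
open Cfsg

namespace Cfsg.Agent.S4762

open Cfsg.Agent.Block Cfsg.Agent.Char

/-- Let p be a prime and G a finite nilpotent group. Then G has exactly one irreducible complex character of degree divisible by p if and only if p = 2 and G is an extraspecial 2-group. -/
theorem result {G : Type*} [Group G] [Finite G] [Group.IsNilpotent G] (p : ℕ) [Fact p.Prime] : Nat.card {χ : Cfsg.IrrCharacter G // p ∣ Cfsg.charDegree (χ : G → ℂ)} = 1 ↔ (p = 2 ∧ Cfsg.IsExtraspecial 2 G) := by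
    classical
    constructor
    · intro h
      obtain ⟨P⟩ := Sylow.nonempty (p := p) (G := G)
      haveI hPn : (P : Subgroup G).Normal :=
        ((Group.isNilpotent_of_finite_tfae (G := G)).out 0 3 rfl rfl).mp inferInstance p ‹_› P
      obtain ⟨H, hH⟩ := Subgroup.exists_right_complement'_of_coprime P.card_coprime_index
      have hHi : Nat.card H = (P : Subgroup G).index := (Subgroup.IsComplement'.symm hH).index_eq_card.symm
      have hcen : ∀ h ∈ H, h ∈ Subgroup.centralizer ((P : Subgroup G) : Set G) := by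
        intro x hx
        have hsyl : ∀ q : ℕ, q.Prime → q ≠ p → ∀ Q : Sylow q G,
            (Q : Subgroup G) ≤ Subgroup.centralizer ((P : Subgroup G) : Set G) := by
          intro q hq hqp Q
          haveI := Fact.mk hq
          haveI hQn : (Q : Subgroup G).Normal :=
            ((Group.isNilpotent_of_finite_tfae (G := G)).out 0 3 rfl rfl).mp inferInstance q ‹_› Q
          intro a ha
          rw [Subgroup.mem_centralizer_iff]
          intro b hb
          exact (Subgroup.commute_of_normal_of_disjoint _ _ hPn hQn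
            (IsPGroup.disjoint_of_ne p q (Ne.symm hqp) _ _ P.2 Q.2) b a hb ha).eq
        have hidx : (Subgroup.centralizer ((P : Subgroup G) : Set G)).index.Coprime (Nat.card H) := by
          rw [hHi]
          refine Nat.coprime_of_dvd fun q hq h1 h2 => ?_
          haveI := Fact.mk hq
          by_cases hqp : q = p
          · exact P.not_dvd_index (hqp ▸ h2)
          · obtain ⟨Q⟩ := Sylow.nonempty (p := q) (G := G)
            exact Q.not_dvd_index (h1.trans (Subgroup.index_dvd_of_le (hsyl q hq hqp Q)))
        rw [← QuotientGroup.eq_one_iff, ← orderOf_eq_one_iff]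
        refine Nat.eq_one_of_dvd_coprimes hidx ?_ ?_
        · rw [Subgroup.index_eq_card]; exact orderOf_dvd_natCard _
        · exact (orderOf_map_dvd (QuotientGroup.mk' _) x).trans (Subgroup.orderOf_dvd_natCard H hx)
      let f : ↥(P : Subgroup G) × H →* G := MonoidHom.noncommCoprod (P : Subgroup G).subtype H.subtype
        (fun a b => (Subgroup.mem_centralizer_iff.1 (hcen b b.2) a a.2))
      have hbij : Function.Bijective f := hH
      let e := MulEquiv.ofBijective f hbij
      have hirr : ∀ (φ : IrrCharacter (P : Subgroup G)) (ψ : IrrCharacter H),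
          IsIrrCharacter G (fun g => (φ : ↥(P : Subgroup G) → ℂ) (e.symm g).1 * (ψ : H → ℂ) (e.symm g).2) :=
        fun φ ψ => isIrrCharacter_comp_mulEquiv e.symm (isIrrCharacter_outer φ.2 ψ.2)
      obtain ⟨hsub, ⟨χ₀, hχ₀⟩⟩ := Nat.card_eq_one_iff_unique.1 h
      obtain ⟨φ, ψ, hφ, hψ, he⟩ := (isIrrCharacter_prod_iff _).1 (isIrrCharacter_comp_mulEquiv e χ₀.2)
      have hφ1 : φ 1 ≠ 1 := by
        intro h1
        obtain ⟨m, hm, hdvd⟩ : ∃ m : ℕ, ψ 1 = m ∧ m ∣ Nat.card H :=
          ⟨_, (charDegree_cast (IsIrrCharacter.isCharacter hψ)).symm, charDegree_dvd_card hψ⟩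
        have e1 : (χ₀ : G → ℂ) 1 = m := by
          have := congrFun he 1
          simp only [map_one, Prod.fst_one, Prod.snd_one, h1, one_mul, hm] at this
          exact this
        rw [← charDegree_cast (IsIrrCharacter.isCharacter χ₀.2), Nat.cast_inj] at e1
        exact P.not_dvd_index (hHi ▸ (e1 ▸ hχ₀).trans hdvd)
      have hpd : p ∣ charDegree φ := (dvd_charDegree_iff_ne_one P.2 ⟨φ, hφ⟩).2 hφ1
      have hdvd : ∀ ψ : IrrCharacter H, p ∣ charDegree
          (fun g => φ (e.symm g).1 * (ψ : H → ℂ) (e.symm g).2) := by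
        intro ψ
        have h1 := charDegree_cast (IsIrrCharacter.isCharacter (hirr ⟨φ, hφ⟩ ψ))
        simp only [map_one, Prod.fst_one, Prod.snd_one] at h1
        rw [← charDegree_cast (IsIrrCharacter.isCharacter hφ), ← charDegree_cast (IsIrrCharacter.isCharacter ψ.2),
          ← Nat.cast_mul, Nat.cast_inj] at h1
        rw [h1]
        exact hpd.mul_right _
      have hsubH : Subsingleton (IrrCharacter H) := ⟨fun a b => by
        have := congrArg (fun x : {χ : IrrCharacter G // p ∣ charDegree (χ : G → ℂ)} => (x.1 : G → ℂ))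
          (hsub.elim ⟨⟨_, hirr ⟨φ, hφ⟩ a⟩, hdvd a⟩ ⟨⟨_, hirr ⟨φ, hφ⟩ b⟩, hdvd b⟩)
        refine Subtype.ext (funext fun x => ?_)
        have := congrFun this (e (1, x))
        simp only [MulEquiv.symm_apply_apply] at this
        exact mul_left_cancel₀ (IsIrrCharacter.apply_one_ne_zero hφ) this⟩
      have hH1 : Nat.card H = 1 := by
        have hc := card_irrCharacter (G := H)
        haveI : Nonempty (IrrCharacter H) := ⟨⟨_, isIrrCharacter_one⟩⟩
        rw [Nat.card_eq_one_iff_unique.2 ⟨hsubH, ‹_›⟩] at hc
        haveI := (Nat.card_eq_one_iff_unique.1 hc.symm).1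
        haveI : Subsingleton H := ⟨fun a b => by
          have ha : IsConj a 1 := ConjClasses.mk_eq_mk_iff_isConj.1 (Subsingleton.elim _ _)
          have hb : IsConj b 1 := ConjClasses.mk_eq_mk_iff_isConj.1 (Subsingleton.elim _ _)
          rw [isConj_one_left.1 ha, isConj_one_left.1 hb]⟩
        exact Nat.card_unique
      have hPG : IsPGroup p G := by
        obtain ⟨n, hn⟩ := IsPGroup.iff_card.1 P.2
        refine IsPGroup.of_card (n := n) ?_
        rw [← Subgroup.card_mul_index (P : Subgroup G), ← hHi, hH1, mul_one, hn]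
      refine extraspecial_of_card_nonlinear hPG ?_
      rw [← h]
      exact Nat.card_congr (Equiv.subtypeEquivRight fun χ => (dvd_charDegree_iff_ne_one hPG χ).symm)
    · rintro ⟨rfl, hG⟩
      rw [← card_nonlinear_of_extraspecial hG]
      exact Nat.card_congr (Equiv.subtypeEquivRight fun χ => dvd_charDegree_iff_ne_one hG.1.1 χ)

end Cfsg.Agent.S4762
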