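import Cfsg.Statements.S4763
import Cfsg.Agent.Lib.Block.GlaubermanSolvable
import Cfsg.Agent.Lib.Block.PSolvableHeight
import Cfsg.Agent.Lib.Char.Gallagher
import Cfsg.Agent.Lib.Char.Extension2
import Cfsg.Agent.Lib.Char.Degrees
import Mathlib.GroupTheory.SchurZassenhaus
import Mathlib.GroupTheory.Sylow
import Mathlib.GroupTheory.Nilpotent

set_option autoImplicit false
open Cfsg

namespace Cfsg.Agent.S4763

open Cfsg.Agent.Char Cfsg.Agent.Block
open scoped Classical

universe u

variable {G : Type u} [Group G] [Finite G] {p : ℕ} [Fact p.Prime] (N : Subgroup G) [N.Normal]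

theorem irr_eq_of_not_comm [Fintype G] {k : ℕ} (hidx : N.index = p ^ k) (hna : ¬ ∀ x y : G, x * y * x⁻¹ * y⁻¹ ∈ N) :
    ∃ ψ : IrrCharacter G, p ∣ charDegree (ψ : G → ℂ) ∧ ∀ n : N, (ψ : G → ℂ) n = (ψ : G → ℂ) 1 := by
  have h : ∃ χ : IrrCharacter (G ⧸ N), (χ : G ⧸ N → ℂ) 1 ≠ 1 := by
    by_contra hcon
    push Not at hcon
    refine hna fun x y => ?_
    rw [← QuotientGroup.eq_one_iff, QuotientGroup.mk_mul, QuotientGroup.mk_mul, QuotientGroup.mk_mul,
      QuotientGroup.mk_inv, QuotientGroup.mk_inv, comm_of_degree_one hcon (x : G ⧸ N) (y : G ⧸ N)]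
    simp
  obtain ⟨⟨χ, hχ⟩, hχ1⟩ := h
  obtain ⟨d, hd⟩ := IsCharacter.exists_degree (IsIrrCharacter.isCharacter hχ)
  have hχ1' : χ 1 ≠ 1 := hχ1
  have hdp : d ∣ p ^ k := by
    rw [← hidx, Subgroup.index_eq_card]
    exact degree_dvd_card hχ d hd
  obtain ⟨j, -, rfl⟩ := (Nat.dvd_prime_pow Fact.out).1 hdp
  have hj : j ≠ 0 := fun e => hχ1' (by rw [hd, e]; simp)
  obtain ⟨m, ρ, hρ, rfl⟩ := hχ
  haveI := hρ
  haveI : Representation.IsIrreducible (ρ.comp (QuotientGroup.mk' N)) :=
    isIrreducible_comp_surjective ρ _ (QuotientGroup.mk'_surjective N)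
  refine ⟨⟨fun g => ρ.character (g : G ⧸ N), m, ρ.comp (QuotientGroup.mk' N), inferInstance, rfl⟩, ?_, fun n => ?_⟩
  · refine Dvd.dvd.trans (dvd_pow_self p hj) ?_
    have h1 := charDegree_cast (IsIrrCharacter.isCharacter
      (⟨m, ρ.comp (QuotientGroup.mk' N), inferInstance, rfl⟩ : IsIrrCharacter G fun g : G => ρ.character (g : G ⧸ N)))
    rw [QuotientGroup.mk_one, hd] at h1
    exact (show p ^ j = _ from (by exact_mod_cast h1.symm)) ▸ dvd_rfl
  · show ρ.character ((n : G) : G ⧸ N) = ρ.character ((1 : G) : G ⧸ N)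
    rw [(QuotientGroup.eq_one_iff _).2 n.2]
    rfl

theorem natDegree (χ : IrrCharacter G) : (χ : G → ℂ) 1 = (charDegree (χ : G → ℂ) : ℂ) :=
  (charDegree_cast (IsIrrCharacter.isCharacter χ.2)).symm

theorem exists_ext [Fintype N] {k : ℕ} (hidx : N.index = p ^ k) (hN : (Nat.card N).Coprime p) {θ : N → ℂ}
    (hθ : IsIrrCharacter N θ) (hinv : ∀ g, conjChar N g θ = θ) :
    ∃ η : G → ℂ, IsIrrCharacter G η ∧ ∀ n : N, η n = θ n := by
  obtain ⟨d, hd⟩ := IsCharacter.exists_degree (IsIrrCharacter.isCharacter hθ)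
  have hdet : detOrder θ ∣ Nat.card N := by
    obtain ⟨l, hl⟩ := exists_detHom hθ
    rw [detOrder, hl, orderOf_linearChar]
    refine orderOf_dvd_of_pow_eq_one (MonoidHom.ext fun n => ?_)
    rw [MonoidHom.pow_apply, ← map_pow, pow_card_eq_one', map_one]
    rfl
  have hcop : Nat.Coprime N.index (detOrder θ * d) := by
    rw [hidx]
    refine Nat.Coprime.pow_left _ (Nat.Coprime.mul_right (Nat.Coprime.coprime_dvd_right hdet hN.symm) ?_)
    exact Nat.Coprime.coprime_dvd_right (degree_dvd_card hθ d hd) hN.symm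
  obtain ⟨η, ⟨hη, hηN, -⟩, -⟩ := exists_unique_extension_coprime hθ hinv hd hcop
  exact ⟨η, hη, hηN⟩

theorem comm_mod [Fintype G] [Fintype N] {k : ℕ} (hidx : N.index = p ^ k) (hN : (Nat.card N).Coprime p) (hN1 : N ≠ ⊥)
    (huniq : ∀ χ χ' : IrrCharacter G, p ∣ charDegree (χ : G → ℂ) → p ∣ charDegree (χ' : G → ℂ) → χ = χ') :
    ∀ x y : G, x * y * x⁻¹ * y⁻¹ ∈ N := by
  by_contra hna
  obtain ⟨ψ, hψp, hψN⟩ := irr_eq_of_not_comm N hidx hna
  haveI : Nontrivial N := N.nontrivial_iff_ne_bot.2 hN1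
  obtain ⟨θ, hθ1⟩ : ∃ θ : IrrCharacter N, (θ : N → ℂ) ≠ 1 := by
    by_contra hcon
    push Not at hcon
    haveI : Subsingleton (IrrCharacter N) := ⟨fun a b => Subtype.ext ((hcon a).trans (hcon b).symm)⟩
    have h1 : Nat.card (ConjClasses N) ≤ 1 := by
      rw [← card_irrCharacter]
      exact Finite.card_le_one_iff_subsingleton.2 inferInstance
    haveI := Finite.card_le_one_iff_subsingleton.1 h1
    obtain ⟨a, ha⟩ := exists_ne (1 : N)
    exact ha (isConj_one_right.1 (ConjClasses.mk_eq_mk_iff_isConj.1 (Subsingleton.elim (ConjClasses.mk 1) (ConjClasses.mk a))))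
  have hres0 : classInner (fun n : N => (ψ : G → ℂ) n) (θ : N → ℂ) = 0 := by
    rw [show (fun n : N => (ψ : G → ℂ) n) = (ψ : G → ℂ) 1 • (1 : N → ℂ) from funext fun n => by simp [hψN],
      classInner_smul_left, IsIrrCharacter.classInner_eq_zero isIrrCharacter_one θ.2 (Ne.symm hθ1), mul_zero]
  by_cases hinv : ∀ g, conjChar N g (θ : N → ℂ) = θ
  · obtain ⟨η, hη, hηN⟩ := exists_ext N hidx hN θ.2 hinv
    have hone : ((1 : N → ℂ) * (θ : N → ℂ)) = (θ : N → ℂ) := one_mul _
    have hbij := gallagher N isIrrCharacter_one (fun g => rfl) hinv (hone.symm ▸ θ.2) hη hηN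
    obtain ⟨hirr, -⟩ := hbij.1 (show (ψ : G → ℂ) ∈ _ from ⟨ψ.2, mem_over_one_of_trivial N ψ.2 hψN⟩)
    have hdeg : p ∣ charDegree ((ψ : G → ℂ) * η) := by
      obtain ⟨d, hd⟩ := IsCharacter.exists_degree (IsIrrCharacter.isCharacter hη)
      have e := natDegree (G := G) ⟨_, hirr⟩
      have e' : (((ψ : G → ℂ) * η) 1) = ((charDegree (ψ : G → ℂ) * d : ℕ) : ℂ) := by
        rw [Pi.mul_apply, natDegree ψ, hd, Nat.cast_mul]
      rw [show charDegree ((ψ : G → ℂ) * η) = charDegree (ψ : G → ℂ) * d from Nat.cast_injective (e.symm.trans e')]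
      exact dvd_mul_of_dvd_left hψp d
    have heq := congrArg Subtype.val (huniq ⟨_, hirr⟩ ψ hdeg hψp)
    have hres : (fun n : N => (ψ : G → ℂ) n) = (ψ : G → ℂ) 1 • (θ : N → ℂ) := funext fun n => by
      conv_lhs => rw [← heq]
      simp [hψN, hηN]
    rw [hres, classInner_smul_left, IsIrrCharacter.classInner_self θ.2, mul_one] at hres0
    exact IsIrrCharacter.apply_one_ne_zero ψ.2 hres0
  · obtain ⟨χ, hχ, hχne, -⟩ := exists_constituent
      (isCharacter_indFun N (IsIrrCharacter.isCharacter θ.2)) (f := indFun N (θ : N → ℂ)) (by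
        rw [classInner_indFun_indFun N θ.2 θ.2]
        refine div_ne_zero (Nat.cast_ne_zero.2 (Finset.card_pos.2 ⟨(1 : G), by simp [conjChar_one]⟩).ne') ?_
        exact Nat.cast_ne_zero.2 Nat.card_pos.ne')
    have hcon : classInner (fun n : N => χ n) (θ : N → ℂ) ≠ 0 := by
      intro h0
      refine hχne ?_
      rw [classInner_indFun N _ (IsCharacter.isClassFunction (IsIrrCharacter.isCharacter hχ)), ← classInner_conj_symm, h0, map_zero]
    have hdeg : p ∣ charDegree χ := by
      have hT : p ∣ (inertia N (θ : N → ℂ)).index := by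
        have hd := hidx ▸ Subgroup.index_dvd_of_le (le_inertia N (IsCharacter.isClassFunction (IsIrrCharacter.isCharacter θ.2)))
        obtain ⟨j, -, hj⟩ := (Nat.dvd_prime_pow Fact.out).1 hd
        rw [hj]
        refine dvd_pow_self p fun e => hinv fun g => ?_
        rw [e, pow_zero, Subgroup.index_eq_one] at hj
        exact (mem_inertia N).1 (hj ▸ Subgroup.mem_top g)
      obtain ⟨e, he⟩ := classInner_natCast_of_isCharacter (IsCharacter.restrict (IsIrrCharacter.isCharacter hχ) N) (IsIrrCharacter.isCharacter θ.2)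
      have h1 := restrict_degree_eq N hχ θ.2 hcon
      rw [he, natDegree θ, show χ 1 = (charDegree χ : ℂ) from natDegree (G := G) ⟨χ, hχ⟩] at h1
      have h2 : charDegree χ = e * ((inertia N (θ : N → ℂ)).index * charDegree (θ : N → ℂ)) := by exact_mod_cast h1
      rw [h2]
      exact dvd_mul_of_dvd_right (dvd_mul_of_dvd_left hT _) _
    have heq := congrArg Subtype.val (huniq ⟨χ, hχ⟩ ψ hdeg hψp)
    exact hcon (by rw [show χ = (ψ : G → ℂ) from heq]; exact hres0)

theorem card_prime_degree [Fintype G] [Fintype N] {k : ℕ} (hidx : N.index = p ^ k) (hN : (Nat.card N).Coprime p)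
    (hab : ∀ x y : G, x * y * x⁻¹ * y⁻¹ ∈ N) :
    Nat.card {χ : IrrCharacter G // ¬ p ∣ charDegree (χ : G → ℂ)} =
      Nat.card {θ : IrrCharacter N // ∀ g, conjChar N g (θ : N → ℂ) = θ} * N.index := by
  have hcomm : commutator (G ⧸ N) = ⊥ := by
    rw [_root_.commutator_def, Subgroup.commutator_eq_bot_iff_le_centralizer]
    intro a _
    rw [Subgroup.mem_centralizer_iff]
    intro b _
    obtain ⟨x, rfl⟩ := QuotientGroup.mk_surjective a
    obtain ⟨y, rfl⟩ := QuotientGroup.mk_surjective b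
    have h1 := (QuotientGroup.eq_one_iff _).2 (hab y x)
    rw [← QuotientGroup.mk_mul, ← QuotientGroup.mk_mul]
    rw [QuotientGroup.mk_mul, QuotientGroup.mk_mul, QuotientGroup.mk_mul, QuotientGroup.mk_inv, QuotientGroup.mk_inv,
      mul_inv_eq_one, mul_inv_eq_iff_eq_mul] at h1
    rw [QuotientGroup.mk_mul, QuotientGroup.mk_mul]
    exact h1
  have hL : Nat.card ((G ⧸ N) →* ℂˣ) = N.index := by
    rw [card_monoidHom_units, hcomm, Subgroup.index_bot, Subgroup.index_eq_card]
  choose E hE hEN using fun θ : {θ : IrrCharacter N // ∀ g, conjChar N g (θ : N → ℂ) = θ} => exists_ext N hidx hN θ.1.2 θ.2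
  let tw : {θ : IrrCharacter N // ∀ g, conjChar N g (θ : N → ℂ) = θ} × ((G ⧸ N) →* ℂˣ) → IrrCharacter G := fun q =>
    ⟨_, (exists_twist_character (q.2.comp (QuotientGroup.mk' N)) (hE q.1) (natDegree (G := G) ⟨_, hE q.1⟩)).1⟩
  have htw : ∀ q (n : N), (tw q : G → ℂ) n = (q.1.1 : N → ℂ) n := fun q n => by
    show (((q.2.comp (QuotientGroup.mk' N)) (n : G) : ℂˣ) : ℂ) * E q.1 n = _
    rw [MonoidHom.comp_apply, QuotientGroup.mk'_apply, (QuotientGroup.eq_one_iff _).2 n.2, map_one, Units.val_one, one_mul, hEN]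
  have hdeg : ∀ q, ¬ p ∣ charDegree (tw q : G → ℂ) := fun q hd => by
    have e : charDegree (tw q : G → ℂ) = charDegree (q.1.1 : N → ℂ) := by
      have h1 := htw q 1
      rw [OneMemClass.coe_one, natDegree, natDegree] at h1
      exact_mod_cast h1
    rw [e] at hd
    exact (Fact.out : p.Prime).not_dvd_one (hN ▸ Nat.dvd_gcd (hd.trans (degree_dvd_card q.1.1.2 _ (natDegree _))) dvd_rfl)
  rw [← hL, ← Nat.card_prod]
  refine (Nat.card_congr (Equiv.ofBijective (fun q => (⟨tw q, hdeg q⟩ :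
    {χ : IrrCharacter G // ¬ p ∣ charDegree (χ : G → ℂ)})) ⟨?_, ?_⟩)).symm
  · rintro ⟨θ, β⟩ ⟨θ', β'⟩ hq
    have hv : (tw (θ, β) : G → ℂ) = tw (θ', β') := congrArg (fun z : {χ : IrrCharacter G // ¬ p ∣ charDegree (χ : G → ℂ)} => (z.1 : G → ℂ)) hq
    have hθ : θ = θ' := Subtype.ext (Subtype.ext (funext fun n => by rw [← htw (θ, β) n, hv, htw]))
    subst hθ
    have hone : ((1 : N → ℂ) * (θ.1 : N → ℂ)) = (θ.1 : N → ℂ) := one_mul _
    have hbij := gallagher N isIrrCharacter_one (fun g => rfl) θ.2 (hone.symm ▸ θ.1.2) (hE θ) (hEN θ)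
    have hmem : ∀ b : (G ⧸ N) →* ℂˣ, (fun g : G => ((b (g : G ⧸ N) : ℂˣ) : ℂ)) ∈
        {β : G → ℂ | IsIrrCharacter G β ∧ classInner (indFun N (1 : N → ℂ)) β ≠ 0} := fun b =>
      ⟨isIrrCharacter_monoidHom (b.comp (QuotientGroup.mk' N)),
        mem_over_one_of_trivial N (isIrrCharacter_monoidHom (b.comp (QuotientGroup.mk' N))) fun n => by
          simp [(QuotientGroup.eq_one_iff _).2 n.2]⟩
    have hb := hbij.2.1 (hmem β) (hmem β') hv
    have hββ : β = β' := MonoidHom.ext fun z => by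
      obtain ⟨g, rfl⟩ := QuotientGroup.mk_surjective z
      exact Units.ext (congrFun hb g)
    rw [hββ]
  · rintro ⟨χ, hχ⟩
    obtain ⟨θ, hθ, hcon, -⟩ := exists_constituent (IsCharacter.restrict (IsIrrCharacter.isCharacter χ.2) N)
      (f := fun n : N => (χ : G → ℂ) n) (by
        intro h0
        have h1 := congrFun (classInner_self_eq_zero h0) 1
        exact IsIrrCharacter.apply_one_ne_zero χ.2 h1)
    obtain ⟨e, he⟩ := classInner_natCast_of_isCharacter (IsCharacter.restrict (IsIrrCharacter.isCharacter χ.2) N) (IsIrrCharacter.isCharacter hθ)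
    have h1 := restrict_degree_eq N χ.2 hθ hcon
    rw [he, natDegree χ, show θ 1 = (charDegree θ : ℂ) from natDegree (G := N) ⟨θ, hθ⟩] at h1
    have h2 : charDegree (χ : G → ℂ) = e * ((inertia N θ).index * charDegree θ) := by exact_mod_cast h1
    have hinv : ∀ g, conjChar N g θ = θ := by
      have hd := hidx ▸ Subgroup.index_dvd_of_le (le_inertia N (IsCharacter.isClassFunction (IsIrrCharacter.isCharacter hθ)))
      obtain ⟨j, -, hj⟩ := (Nat.dvd_prime_pow Fact.out).1 hd
      rcases j with _ | j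
      · rw [pow_zero, Subgroup.index_eq_one] at hj
        exact fun g => (mem_inertia N).1 (hj ▸ Subgroup.mem_top g)
      · exact absurd (h2 ▸ dvd_mul_of_dvd_right (dvd_mul_of_dvd_left (hj ▸ dvd_pow_self p j.succ_ne_zero) _) _) hχ
    have h3 := degree_eq_of_abelian_pQuotient (Fact.out : p.Prime) N hidx hN hab hθ hinv χ.2 hcon
    have h4 := restrict_eq_smul_of_inertia_top N χ.2 hθ hcon hinv
    have h5 := congrFun h4 1
    simp only [OneMemClass.coe_one, Pi.smul_apply, smul_eq_mul] at h5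
    rw [h3] at h5
    have h6 : classInner (fun n : N => (χ : G → ℂ) n) θ = 1 :=
      mul_right_cancel₀ (IsIrrCharacter.apply_one_ne_zero hθ) (h5.symm.trans (one_mul _).symm)
    rw [h6, one_smul] at h4
    obtain ⟨β, hβ, hβe⟩ := extension_eq_twist hθ (hE ⟨⟨θ, hθ⟩, hinv⟩) χ.2 (hEN ⟨⟨θ, hθ⟩, hinv⟩) (congrFun h4)
    refine ⟨(⟨⟨θ, hθ⟩, hinv⟩, QuotientGroup.lift N β fun n hn => MonoidHom.mem_ker.2 (hβ ⟨n, hn⟩)), Subtype.ext (Subtype.ext ?_)⟩
    rw [hβe]
    rfl

theorem centralizer_index_coprime {P : Sylow p G} {g : G}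
    (hg : (P : Subgroup G) ≤ Subgroup.centralizer ({g} : Set G)) :
    ¬ p ∣ (Subgroup.centralizer ({g} : Set G)).index := fun h =>
  P.not_dvd_index (h.trans (Subgroup.index_dvd_of_le hg))

theorem exists_conj_centralizes (P : Sylow p G) {g : G}
    (hg : ¬ p ∣ (Subgroup.centralizer ({g} : Set G)).index) :
    ∃ h : G, ∀ w ∈ (P : Subgroup G), w * (h * g * h⁻¹) = h * g * h⁻¹ * w := by
  let H := Subgroup.centralizer ({g} : Set G)
  obtain ⟨S⟩ := Sylow.nonempty (p := p) (G := H)
  let T : Sylow p G := Sylow.ofCard ((S : Subgroup H).map H.subtype) (by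
    rw [Subgroup.card_map_of_injective H.subtype_injective, S.card_eq_multiplicity, ← H.card_mul_index,
      Nat.factorization_mul Nat.card_pos.ne' Subgroup.index_ne_zero_of_finite, Finsupp.add_apply,
      Nat.factorization_eq_zero_of_not_dvd hg, add_zero])
  obtain ⟨h, hh⟩ := MulAction.exists_smul_eq G T P
  refine ⟨h, fun w hw => ?_⟩
  rw [← hh] at hw
  obtain ⟨v, hv, rfl⟩ := hw
  have hvH : v ∈ H := by
    obtain ⟨u, -, rfl⟩ := hv
    exact u.2
  show MulAut.conj h v * (h * g * h⁻¹) = h * g * h⁻¹ * MulAut.conj h v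
  rw [← MulAut.conj_apply, ← map_mul, ← map_mul, Subgroup.mem_centralizer_singleton_iff.1 hvH]

/-- Let p be a prime and G a finite group that is not nilpotent and has a normal p-complement (a normal subgroup of order prime to p and index a power of p). If G has exactly one irreducible complex character of degree divisible by p, then G has exactly one conjugacy class whose size is divisible by p. -/
theorem result {G : Type*} [Group G] [Finite G] (p : ℕ) [Fact p.Prime] (hnil : ¬ Group.IsNilpotent G) (N : Subgroup G) [N.Normal] (hN : (Nat.card N).Coprime p) (hidx : ∃ k : ℕ, N.index = p ^ k) (hone : Nat.card {χ : Cfsg.IrrCharacter G // p ∣ Cfsg.charDegree (χ : G → ℂ)} = 1) : Nat.card {C : ConjClasses G // p ∣ Nat.card C.carrier} = 1 := by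
  classical
  obtain ⟨k, hk⟩ := hidx
  haveI := Fintype.ofFinite G
  haveI := Fintype.ofFinite N
  have hN1 : N ≠ ⊥ := fun e => hnil (by
    rw [e, Subgroup.index_bot] at hk
    exact (IsPGroup.of_card hk).isNilpotent)
  haveI hsub : Subsingleton {χ : IrrCharacter G // p ∣ charDegree (χ : G → ℂ)} :=
    (Nat.card_eq_one_iff_unique.1 hone).1
  have hab := comm_mod N hk hN hN1 fun χ χ' h h' =>
    congrArg Subtype.val (Subsingleton.elim (⟨χ, h⟩ : {χ : IrrCharacter G // p ∣ charDegree (χ : G → ℂ)}) ⟨χ', h'⟩)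
  obtain ⟨P⟩ := Sylow.nonempty (p := p) (G := G)
  have hcardP : Nat.card (P : Subgroup G) = p ^ k := by
    rw [P.card_eq_multiplicity, ← N.card_mul_index, hk, Nat.factorization_mul Nat.card_pos.ne' (pow_ne_zero _ (Fact.out : p.Prime).ne_zero),
      Finsupp.add_apply, Nat.factorization_eq_zero_of_not_dvd fun h => (Fact.out : p.Prime).not_dvd_one (hN ▸ Nat.dvd_gcd h dvd_rfl),
      Nat.Prime.factorization_pow Fact.out, Finsupp.single_eq_same, zero_add]
  have hcompl : N.IsComplement' (P : Subgroup G) :=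
    Subgroup.isComplement'_of_coprime (by rw [hcardP, ← hk, Subgroup.card_mul_index]) (hcardP ▸ hN.pow_right k)
  have hPc : ∀ a ∈ (P : Subgroup G), ∀ b ∈ (P : Subgroup G), a * b = b * a := by
    intro a ha b hb
    have h1 : a * b * a⁻¹ * b⁻¹ ∈ N ⊓ (P : Subgroup G) :=
      ⟨hab a b, (P : Subgroup G).mul_mem ((P : Subgroup G).mul_mem ((P : Subgroup G).mul_mem ha hb) ((P : Subgroup G).inv_mem ha)) ((P : Subgroup G).inv_mem hb)⟩
    rw [hcompl.disjoint.eq_bot, Subgroup.mem_bot] at h1
    calc a * b = (a * b * a⁻¹ * b⁻¹) * (b * a) := by group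
      _ = b * a := by rw [h1, one_mul]
  haveI : Finite (P : Subgroup G) := inferInstance
  letI : MulDistribMulAction (P : Subgroup G) N :=
    MulDistribMulAction.compHom _ ((MulAut.conjNormal : G →* MulAut N).comp (P : Subgroup G).subtype)
  have hact : ∀ (s : (P : Subgroup G)) (n : N), ((s • n : N) : G) = (s : G) * n * (s : G)⁻¹ := fun s n =>
    MulAut.conjNormal_apply (s : G) n
  have hsolv : Group.IsSolvable (P : Subgroup G) := Group.isSolvable_of_comm fun a b => Subtype.ext (hPc a a.2 b b.2)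
  have hcopP : (Nat.card N).Coprime (Nat.card (P : Subgroup G)) := hcardP ▸ hN.pow_right k
  have hf1 : Nat.card {θ : IrrCharacter N // ∀ g, conjChar N g (θ : N → ℂ) = θ} =
      Nat.card {θ : IrrCharacter N // OpInv (P : Subgroup G) (θ : N → ℂ)} := by
    refine Nat.card_congr (Equiv.subtypeEquivRight fun θ => ⟨fun h s n => ?_, fun h g => ?_⟩)
    · conv_rhs => rw [← h (s : G)]
      exact (conjChar_apply N (s : G) (θ : N → ℂ) n).symm
    · have hle : (P : Subgroup G) ≤ inertia N (θ : N → ℂ) := fun w hw =>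
        (mem_inertia N).2 (funext fun n => (conjChar_apply N w (θ : N → ℂ) n).trans (h ⟨w, hw⟩ n))
      have htop : inertia N (θ : N → ℂ) = ⊤ := eq_top_iff.2 (hcompl.sup_eq_top ▸
        sup_le (le_inertia N (IsCharacter.isClassFunction (IsIrrCharacter.isCharacter θ.2))) hle)
      exact (mem_inertia N).1 (htop ▸ Subgroup.mem_top g)
  have hf2 := count_aux _ (P : Subgroup G) N rfl hsolv hcopP
  let C : Subgroup N := fixedSub (G := N) (⊤ : Subgroup (P : Subgroup G))
  have hPp : IsPGroup p (⊤ : Subgroup (P : Subgroup G)) := P.isPGroup'.to_subgroup _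
  have hpN : ¬ p ∣ Nat.card N := fun h => (Fact.out : p.Prime).not_dvd_one (hN ▸ Nat.dvd_gcd h dvd_rfl)
  have hι := fixedHom_fixedSub (G := N) (⊤ : Subgroup (P : Subgroup G))
  have hf3 : Nat.card (ConjClasses C) = Nat.card {K : ConjClasses N //
      ∀ (s : (P : Subgroup G)) (n : N), ConjClasses.mk n = K → ConjClasses.mk (s • n) = K} := by
    refine Nat.card_congr (Equiv.ofBijective (fun K : ConjClasses C => (⟨ConjClasses.map C.subtype K, fun s n hn => by
      obtain ⟨c, rfl⟩ := ConjClasses.exists_rep K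
      refine ConjClasses.mk_eq_mk_iff_isConj.2 (((MulDistribMulAction.toMonoidHom N s).map_isConj
        (ConjClasses.mk_eq_mk_iff_isConj.1 hn)).trans ?_)
      show IsConj (s • (c : N)) (c : N)
      rw [show s • (c : N) = (c : N) from c.2 ⟨s, Subgroup.mem_top s⟩]⟩ : {K : ConjClasses N //
        ∀ (s : (P : Subgroup G)) (n : N), ConjClasses.mk n = K → ConjClasses.mk (s • n) = K})) ⟨?_, ?_⟩)
    · intro K K' h
      obtain ⟨c, rfl⟩ := ConjClasses.exists_rep K
      obtain ⟨c', rfl⟩ := ConjClasses.exists_rep K'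
      exact ConjClasses.mk_eq_mk_iff_isConj.2 (isConj_fixed Fact.out hPp hι hpN
        (ConjClasses.mk_eq_mk_iff_isConj.1 (congrArg Subtype.val h)))
    · rintro ⟨K, hK⟩
      obtain ⟨n, rfl⟩ := ConjClasses.exists_rep K
      obtain ⟨c, hc⟩ := exists_fixed_isConj Fact.out (⊤ : Subgroup (P : Subgroup G)) hPp hpN n fun s =>
        (ConjClasses.mk_eq_mk_iff_isConj.1 (hK (s : (P : Subgroup G)) n rfl)).symm
      exact ⟨ConjClasses.mk c, Subtype.ext (ConjClasses.mk_eq_mk_iff_isConj.2 hc.symm)⟩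
  have hcy : ∀ (c : C) (y : (P : Subgroup G)), (y : G) * ((c : N) : G) = ((c : N) : G) * y := by
    intro c y
    have h := congrArg Subtype.val (c.2 ⟨y, Subgroup.mem_top y⟩)
    rw [hact] at h
    exact mul_inv_eq_iff_eq_mul.1 h
  have hsize : ∀ g : G, Nat.card (ConjClasses.mk g).carrier = (Subgroup.centralizer ({g} : Set G)).index := by
    intro g
    rw [← card_isConj_eq_index g]
    exact Nat.card_congr (Equiv.subtypeEquivRight fun x =>
      ConjClasses.mem_carrier_iff_mk_eq.trans (ConjClasses.mk_eq_mk_iff_isConj.trans isConj_comm))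
  have hcls : Nat.card {K : ConjClasses G // ¬ p ∣ Nat.card K.carrier} = Nat.card (ConjClasses C) * N.index := by
    rw [hk, ← hcardP, ← Nat.card_prod]
    symm
    have hwd : ∀ (y : (P : Subgroup G)) (a b : C), IsConj a b →
        ConjClasses.mk (((a : N) : G) * y) = ConjClasses.mk (((b : N) : G) * y) := by
      intro y a b hab'
      obtain ⟨c, hc⟩ := isConj_iff.1 hab'
      refine ConjClasses.mk_eq_mk_iff_isConj.2 (isConj_iff.2 ⟨((c : N) : G), ?_⟩)
      rw [← hc]
      push_cast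
      calc ((c : N) : G) * (((a : N) : G) * y) * ((c : N) : G)⁻¹
          = ((c : N) : G) * ((a : N) : G) * ((y : G) * ((c : N) : G)⁻¹) := by group
        _ = ((c : N) : G) * ((a : N) : G) * ((c : N) : G)⁻¹ * y := by
            rw [show (y : G) * ((c : N) : G)⁻¹ = ((c : N) : G)⁻¹ * y from by
              have := hcy c⁻¹ y; simpa using this]
            group
    let F : ConjClasses C × (P : Subgroup G) → ConjClasses G := fun q =>
      Quotient.liftOn q.1 (fun c : C => ConjClasses.mk (((c : N) : G) * (q.2 : G))) fun a b h => hwd q.2 a b h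
    have hF : ∀ q, ¬ p ∣ Nat.card (F q).carrier := by
      rintro ⟨K, y⟩
      obtain ⟨c, rfl⟩ := ConjClasses.exists_rep K
      show ¬ p ∣ Nat.card (ConjClasses.mk (((c : N) : G) * y)).carrier
      rw [hsize]
      refine centralizer_index_coprime (P := P) fun w hw => Subgroup.mem_centralizer_singleton_iff.2 ?_
      rw [← mul_assoc, hcy c ⟨w, hw⟩, mul_assoc, hPc w hw y y.2, mul_assoc]
    refine Nat.card_congr (Equiv.ofBijective (fun q => (⟨F q, hF q⟩ : {K : ConjClasses G // ¬ p ∣ Nat.card K.carrier})) ⟨?_, ?_⟩)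
    · rintro ⟨K, y⟩ ⟨K', y'⟩ h
      obtain ⟨c, rfl⟩ := ConjClasses.exists_rep K
      obtain ⟨c', rfl⟩ := ConjClasses.exists_rep K'
      obtain ⟨g, hg⟩ := isConj_iff.1 (ConjClasses.mk_eq_mk_iff_isConj.1 (congrArg Subtype.val h))
      have hm : ∀ (n : N) (z : G), (((n : G) * z : G) : G ⧸ N) = (z : G ⧸ N) := fun n z => by
        rw [QuotientGroup.mk_mul, (QuotientGroup.eq_one_iff _).2 n.2, one_mul]
      have hcq : ∀ a b : G, (a : G ⧸ N) * b = b * a := fun a b => by
        have := (QuotientGroup.eq_one_iff _).2 (hab a b)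
        rw [QuotientGroup.mk_mul, QuotientGroup.mk_mul, QuotientGroup.mk_mul, QuotientGroup.mk_inv, QuotientGroup.mk_inv,
          mul_inv_eq_one, mul_inv_eq_iff_eq_mul] at this
        exact this
      have hy : y = y' := by
        have e := congrArg (fun z : G => (z : G ⧸ N)) hg
        simp only [QuotientGroup.mk_mul, QuotientGroup.mk_inv] at e
        rw [(QuotientGroup.eq_one_iff ((c : N) : G)).2 (c : N).2, (QuotientGroup.eq_one_iff ((c' : N) : G)).2 (c' : N).2,
          one_mul, one_mul, hcq g y, mul_inv_cancel_right] at e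
        have h1 : ((y : G))⁻¹ * y' ∈ N ⊓ (P : Subgroup G) := ⟨QuotientGroup.eq.1 e, (P : Subgroup G).mul_mem ((P : Subgroup G).inv_mem y.2) y'.2⟩
        rw [hcompl.disjoint.eq_bot, Subgroup.mem_bot, inv_mul_eq_one] at h1
        exact Subtype.ext h1
      subst hy
      obtain ⟨⟨⟨n, hn⟩, ⟨w, hw⟩⟩, hgn⟩ := hcompl.2 g
      have hgn' : n * w = g := hgn
      have hwc : w * (((c : N) : G) * y) * w⁻¹ = ((c : N) : G) * y := by
        rw [mul_inv_eq_iff_eq_mul, ← mul_assoc, hcy c ⟨w, hw⟩, mul_assoc, hPc w hw y y.2, mul_assoc]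
      have hnc : n * (((c : N) : G) * y) * n⁻¹ = ((c' : N) : G) * y := by
        rw [← hg, ← hgn']
        conv_lhs => rw [← hwc]
        group
      -- a fixed transporter
      let X := {z : N // (z : G) * (((c : N) : G) * y) * (z : G)⁻¹ = ((c' : N) : G) * y}
      have hXs : ∀ (s : (P : Subgroup G)) (z : X), ((s • (z : N) : N) : G) * (((c : N) : G) * y) * ((s • (z : N) : N) : G)⁻¹ =
          ((c' : N) : G) * y := by
        intro s z
        have hs : ∀ d : C, (s : G) * (((d : N) : G) * y) * (s : G)⁻¹ = ((d : N) : G) * y := fun d => by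
          rw [mul_inv_eq_iff_eq_mul, ← mul_assoc, hcy d s, mul_assoc, hPc s s.2 y y.2, mul_assoc]
        rw [hact]
        calc (s : G) * ((z : N) : G) * (s : G)⁻¹ * (((c : N) : G) * y) * ((s : G) * ((z : N) : G) * (s : G)⁻¹)⁻¹
            = (s : G) * (((z : N) : G) * ((s : G)⁻¹ * (((c : N) : G) * y) * (s : G)) * ((z : N) : G)⁻¹) * (s : G)⁻¹ := by group
          _ = (s : G) * (((z : N) : G) * (((c : N) : G) * y) * ((z : N) : G)⁻¹) * (s : G)⁻¹ := by
              have e2 : (s : G)⁻¹ * (((c : N) : G) * y) * (s : G) = ((c : N) : G) * y := by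
                calc (s : G)⁻¹ * (((c : N) : G) * y) * (s : G)
                    = (s : G)⁻¹ * ((s : G) * (((c : N) : G) * y) * (s : G)⁻¹) * (s : G) := by rw [hs c]
                  _ = _ := by group
              rw [e2]
          _ = _ := by rw [z.2, hs c']
      letI : MulAction (P : Subgroup G) X :=
        { smul := fun s z => ⟨s • (z : N), hXs s z⟩
          one_smul := fun z => Subtype.ext (one_smul (P : Subgroup G) (z : N))
          mul_smul := fun s t z => Subtype.ext (mul_smul s t (z : N)) }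
      let K : Subgroup N := (Subgroup.centralizer ({((c : N) : G) * y} : Set G)).subgroupOf N
      have hX : Nat.card X = Nat.card K := by
        refine Nat.card_congr
          { toFun := fun z => ⟨(⟨n, hn⟩ : N)⁻¹ * (z : N), ?_⟩
            invFun := fun w => ⟨(⟨n, hn⟩ : N) * (w : N), ?_⟩
            left_inv := fun z => Subtype.ext (mul_inv_cancel_left _ _)
            right_inv := fun w => Subtype.ext (inv_mul_cancel_left _ _) }
        · rw [Subgroup.mem_subgroupOf, Subgroup.mem_centralizer_singleton_iff]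
          have h1 : ((z : N) : G) * (((c : N) : G) * y) * ((z : N) : G)⁻¹ = n * (((c : N) : G) * y) * n⁻¹ := z.2.trans hnc.symm
          show n⁻¹ * ((z : N) : G) * _ = _ * (n⁻¹ * ((z : N) : G))
          calc n⁻¹ * ((z : N) : G) * (((c : N) : G) * y) = n⁻¹ * (((z : N) : G) * (((c : N) : G) * y) * ((z : N) : G)⁻¹) * ((z : N) : G) := by group
            _ = _ := by rw [h1]; group
        · show n * ((w : N) : G) * _ * (n * ((w : N) : G))⁻¹ = _
          have h1 := Subgroup.mem_centralizer_singleton_iff.1 (Subgroup.mem_subgroupOf.1 w.2)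
          rw [← hnc]
          calc n * ((w : N) : G) * (((c : N) : G) * y) * (n * ((w : N) : G))⁻¹
              = n * (((w : N) : G) * (((c : N) : G) * y) * ((w : N) : G)⁻¹) * n⁻¹ := by group
            _ = _ := by rw [h1, mul_inv_cancel_right]
      obtain ⟨z, hz⟩ := P.isPGroup'.nonempty_fixed_point_of_prime_not_dvd_card X
        (fun hd => hpN ((hX ▸ hd).trans (Subgroup.card_subgroup_dvd_card K)))
      let zc : C := ⟨(z : N), fun s => congrArg Subtype.val (hz (s : (P : Subgroup G)))⟩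
      have e : IsConj c c' := isConj_iff.2 ⟨zc, Subtype.ext (Subtype.ext (by
        have h1 := z.2
        have h2 := hcy zc y
        push_cast
        refine mul_right_cancel (b := (y : G)) ?_
        rw [← h1]
        calc ((z : N) : G) * ((c : N) : G) * ((z : N) : G)⁻¹ * (y : G)
            = ((z : N) : G) * ((c : N) : G) * (((z : N) : G)⁻¹ * ((y : G) * ((z : N) : G))) * ((z : N) : G)⁻¹ := by group
          _ = ((z : N) : G) * (((c : N) : G) * y) * ((z : N) : G)⁻¹ := by
              rw [show (y : G) * ((z : N) : G) = ((z : N) : G) * y from h2]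
              group))⟩
      exact Prod.ext (ConjClasses.mk_eq_mk_iff_isConj.2 e) rfl
    · rintro ⟨K, hK⟩
      obtain ⟨g, rfl⟩ := ConjClasses.exists_rep K
      replace hK : ¬ p ∣ Nat.card (ConjClasses.mk g).carrier := hK
      rw [hsize] at hK
      obtain ⟨h, hh⟩ := exists_conj_centralizes P hK
      obtain ⟨⟨⟨n, hn⟩, ⟨y, hy⟩⟩, hny⟩ := hcompl.2 (h * g * h⁻¹)
      have hny' : n * y = h * g * h⁻¹ := hny
      have hnC : (⟨n, hn⟩ : N) ∈ C := fun s => Subtype.ext (by
        have h1 := hh _ (s : (P : Subgroup G)).2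
        rw [← hny'] at h1
        rw [hact, mul_inv_eq_iff_eq_mul]
        refine mul_right_cancel (b := y) ?_
        show ((s : (P : Subgroup G)) : G) * n * y = n * ((s : (P : Subgroup G)) : G) * y
        rw [mul_assoc, h1, mul_assoc n ((s : (P : Subgroup G)) : G), hPc _ (s : (P : Subgroup G)).2 y hy, mul_assoc])
      refine ⟨(ConjClasses.mk (⟨⟨n, hn⟩, hnC⟩ : C), ⟨y, hy⟩), Subtype.ext ?_⟩
      show ConjClasses.mk (n * y) = ConjClasses.mk g
      rw [hny']
      exact ConjClasses.mk_eq_mk_iff_isConj.2 (isConj_iff.2 ⟨h⁻¹, by group⟩)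
  have hchar := card_prime_degree N hk hN hab
  have htot : Nat.card (IrrCharacter G) = Nat.card (ConjClasses G) := card_irrCharacter
  rw [← Nat.card_congr (Equiv.sumCompl fun χ : IrrCharacter G => p ∣ charDegree (χ : G → ℂ)),
    ← Nat.card_congr (Equiv.sumCompl fun K : ConjClasses G => p ∣ Nat.card K.carrier),
    Nat.card_sum, Nat.card_sum, hone, hchar, hcls, hf1, hf2, ← hf3] at htot
  omega

end Cfsg.Agent.S4763
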