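import Cfsg.Statements.S4774
import Cfsg.Agent.Lib.GL2.DegreesPSL

set_option autoImplicit false
open Cfsg

namespace Cfsg.Agent.S4774

/-- Let F be a finite field of odd characteristic t with q > 5 elements and let S be isomorphic to PSL(2,F) or to SL(2,F). Then the vertices of the character degree graph of S are the primes dividing q(q²−1); the prime t is adjacent to no vertex; two distinct primes dividing q² − 1 are adjacent exactly when one of them is 2, or both divide q + 1, or both divide q − 1. -/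
theorem result (F : Type*) [Field F] [Fintype F] (t : ℕ) [Fact t.Prime] [CharP F t] (ht : t ≠ 2) (q : ℕ) (hq : Fintype.card F = q) (h5 : 5 < q) {S : Type*} [Group S] [Finite S] (hS : Nonempty (S ≃* Matrix.ProjectiveSpecialLinearGroup (Fin 2) F) ∨ Nonempty (S ≃* Matrix.SpecialLinearGroup (Fin 2) F)) : Cfsg.degreePrimes S = {r : ℕ | r.Prime ∧ r ∣ q * (q ^ 2 - 1)} ∧ ∀ r s : ℕ, (Cfsg.degreeGraph S).Adj r s ↔ (r ≠ s ∧ r.Prime ∧ s.Prime ∧ r ∣ q ^ 2 - 1 ∧ s ∣ q ^ 2 - 1 ∧ (r = 2 ∨ s = 2 ∨ (r ∣ q + 1 ∧ s ∣ q + 1) ∨ (r ∣ q - 1 ∧ s ∣ q - 1))) := by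
  classical
  subst hq
  obtain ⟨h1, h2⟩ := Cfsg.Agent.GL2.Degrees.degree_graph (S := S) (by omega) (by omega)
    (Fact.out : t.Prime) hS
  refine ⟨h1, fun r s => ?_⟩
  rw [h2 r s]
  have hodd : Fintype.card F % 2 = 1 := by
    obtain ⟨k, hp, hk⟩ := FiniteField.card F t
    rw [hk, Nat.pow_mod, hp.mod_two_eq_one_iff_ne_two.mpr ht, one_pow]
    rfl
  have hmul : (Fintype.card F + 1) * (Fintype.card F - 1) = Fintype.card F ^ 2 - 1 := by
    rw [← Nat.sq_sub_sq, one_pow]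
  rw [← hmul]
  have a2 : 2 ∣ Fintype.card F + 1 := by omega
  have b2 : 2 ∣ Fintype.card F - 1 := by omega
  constructor
  · rintro ⟨hne, hr, hs, ⟨a, b⟩ | ⟨a, b⟩⟩
    · exact ⟨hne, hr, hs, a.mul_right _, b.mul_right _, Or.inr (Or.inr (Or.inl ⟨a, b⟩))⟩
    · exact ⟨hne, hr, hs, a.mul_left _, b.mul_left _, Or.inr (Or.inr (Or.inr ⟨a, b⟩))⟩
  · rintro ⟨hne, hr, hs, a, b, h | h | h | h⟩
    · subst h
      exact ⟨hne, hr, hs, ((Nat.Prime.dvd_mul hs).mp b).imp (fun c => ⟨a2, c⟩) (fun c => ⟨b2, c⟩)⟩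
    · subst h
      exact ⟨hne, hr, hs, ((Nat.Prime.dvd_mul hr).mp a).imp (fun c => ⟨c, a2⟩) (fun c => ⟨c, b2⟩)⟩
    · exact ⟨hne, hr, hs, Or.inl h⟩
    · exact ⟨hne, hr, hs, Or.inr h⟩

end Cfsg.Agent.S4774
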