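import Cfsg.Statements.S4784
import Cfsg.Agent.Lib.Char.Perm
import Cfsg.Agent.Lib.Char.Schur
import Cfsg.Agent.Lib.Char.Monomial
import Cfsg.Agent.Lib.Char.PPrimeKernel
import Cfsg.Agent.Lib.Block.CentralQuotientBlock

set_option autoImplicit false
open Cfsg

namespace Cfsg.Agent.S4784

open Cfsg.Agent.Block Cfsg.Agent.Char

/-- Let H be a subgroup of the finite group G and consider the permutation character of G on the cosets of H (the function induced from the principal character of H). Then exactly one irreducible constituent of it is real-valued with Frobenius–Schur indicator +1 (namely the principal character) if and only if the normal core of H has odd index in G. -/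
theorem result {G : Type*} [Group G] [Fintype G] (H : Subgroup G) : Nat.card {χ : Cfsg.IrrCharacter G // Cfsg.classInner (Cfsg.indFun H (fun _ : H => (1 : ℂ))) (χ : G → ℂ) ≠ 0 ∧ (∀ g : G, (starRingEnd ℂ) ((χ : G → ℂ) g) = (χ : G → ℂ) g) ∧ (Nat.card G : ℂ)⁻¹ * ∑ g : G, (χ : G → ℂ) (g * g) = 1} = 1 ↔ Odd H.normalCore.index := by
  classical
  haveI := Fintype.ofFinite (IrrCharacter G)
  have hH0 : (Nat.card H : ℂ) ≠ 0 := Nat.cast_ne_zero.2 Nat.card_pos.ne'
  have hG0 : (Nat.card G : ℂ) ≠ 0 := Nat.cast_ne_zero.2 Nat.card_pos.ne'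
  have hone : IsCharacter H (fun _ : H => (1 : ℂ)) := isCharacter_one
  set π := indFun H (fun _ : H => (1 : ℂ)) with hπ
  have hπc : IsCharacter G π := isCharacter_indFun (H := H) hone
  -- the multiplicities
  have hmult : ∀ χ : IrrCharacter G, classInner π (χ : G → ℂ) =
      (Nat.card H : ℂ)⁻¹ * ∑ h : H, (χ : G → ℂ) h := by
    intro χ
    obtain ⟨k, hk⟩ := exists_classInner_nat hπc χ.2
    have h1 : classInner π (χ : G → ℂ) = classInner (fun _ : H => (1 : ℂ)) (fun h : H => (χ : G → ℂ) h) :=
      classInner_indFun H (fun _ : H => (1 : ℂ)) (IsCharacter.isClassFunction (IsIrrCharacter.isCharacter χ.2))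
    have h2 := congrArg (starRingEnd ℂ) h1
    rw [hk, map_natCast, classInner_conj_symm] at h2
    rw [hk, h2, classInner]
    simp
  let triv : IrrCharacter G := ⟨1, isIrrCharacter_one⟩
  have htriv : classInner π (1 : G → ℂ) = 1 := by
    have h : (1 : ℂ) = (Nat.card H : ℂ)⁻¹ * ∑ _h : H, (1 : ℂ) := by
      rw [Finset.sum_const, Finset.card_univ, nsmul_one, ← Nat.card_eq_fintype_card, inv_mul_cancel₀ hH0]
    rw [h]
    exact hmult triv
  let Pred : IrrCharacter G → Prop := fun χ => classInner π (χ : G → ℂ) ≠ 0 ∧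
    (∀ g : G, (starRingEnd ℂ) ((χ : G → ℂ) g) = (χ : G → ℂ) g) ∧
    (Nat.card G : ℂ)⁻¹ * ∑ g : G, (χ : G → ℂ) (g * g) = 1
  have hPtriv : Pred triv := by
    refine ⟨by show classInner π (1 : G → ℂ) ≠ 0; rw [htriv]; exact one_ne_zero, fun g => map_one _, ?_⟩
    show (Nat.card G : ℂ)⁻¹ * ∑ _g : G, (1 : ℂ) = 1
    rw [Finset.sum_const, Finset.card_univ, nsmul_one, ← Nat.card_eq_fintype_card, inv_mul_cancel₀ hG0]
  constructor
  · intro h1
    haveI : Subsingleton {χ : IrrCharacter G // Pred χ} :=
      Finite.card_le_one_iff_subsingleton.1 (le_of_eq h1)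
    have huniq : ∀ χ : IrrCharacter G, χ ≠ triv → (indicatorFS (χ : G → ℂ) * classInner π (χ : G → ℂ)).re ≤ 0 := by
      intro χ hne
      obtain ⟨k, hk⟩ := exists_classInner_nat hπc χ.2
      rw [hk]
      rcases indicatorFS_trichotomy χ.2 with ⟨hr, h | ⟨h, -⟩⟩ | ⟨-, h⟩
      · rcases Nat.eq_zero_or_pos k with rfl | hkp
        · simp
        refine absurd (congrArg Subtype.val (Subsingleton.elim (⟨χ, ?_, fun g => ?_, h⟩ : {χ : IrrCharacter G // Pred χ}) ⟨triv, hPtriv⟩)) hne
        · rw [hk]; exact_mod_cast hkp.ne'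
        · exact Complex.conj_eq_iff_im.2 (hr g)
      · rw [h]; simp
      · rw [h]; simp
    -- the square root counting function
    let r : G → ℂ := fun x => ∑ g : G, if g * g = x then 1 else 0
    have hr : IsClassFunction G r := fun x y => by
      refine Fintype.sum_equiv (MulAut.conj y⁻¹).toEquiv _ _ fun g => ?_
      simp only [MulEquiv.toEquiv_eq_coe, MulEquiv.coe_toEquiv, MulAut.conj_apply, inv_inv]
      refine if_congr ⟨fun h => ?_, fun h => ?_⟩ rfl rfl
      · calc y⁻¹ * g * y * (y⁻¹ * g * y) = y⁻¹ * (g * g) * y := by group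
          _ = x := by rw [h]; group
      · calc g * g = y * (y⁻¹ * g * y * (y⁻¹ * g * y)) * y⁻¹ := by group
          _ = _ := by rw [h]
    have hcoef : ∀ χ : IrrCharacter G, classInner r (χ : G → ℂ) = indicatorFS (χ : G → ℂ) := by
      intro χ
      have hc : classInner r (χ : G → ℂ) = (starRingEnd ℂ) (indicatorFS (χ : G → ℂ)) := by
        simp only [classInner, indicatorFS, r, map_mul, map_inv₀, map_natCast, map_sum, Finset.sum_mul]
        rw [Finset.sum_comm]
        simp [ite_mul]
      rw [hc]
      rcases indicatorFS_trichotomy χ.2 with ⟨-, h | ⟨h, -⟩⟩ | ⟨-, h⟩ <;> simp [h]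
    have hsum : ∑ h : H, r h = (Nat.card H : ℂ) *
        ∑ χ : IrrCharacter G, indicatorFS (χ : G → ℂ) * classInner π (χ : G → ℂ) := by
      conv_lhs => rw [IsClassFunction.eq_sum hr]
      simp only [Finset.sum_apply, Pi.smul_apply, smul_eq_mul, hcoef]
      rw [Finset.sum_comm, Finset.mul_sum]
      refine Finset.sum_congr rfl fun χ _ => ?_
      rw [← Finset.mul_sum, hmult]
      field_simp
    set S : Finset G := Finset.univ.filter (fun g : G => g * g ∈ H) with hS
    have hcount : ∑ h : H, r h = (S.card : ℂ) := by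
      simp only [r]
      rw [Finset.sum_comm, hS, Finset.card_filter, Nat.cast_sum]
      refine Finset.sum_congr rfl fun g _ => ?_
      by_cases hg : g * g ∈ H
      · rw [if_pos hg, Finset.sum_eq_single (⟨g * g, hg⟩ : H)]
        · simp
        · exact fun h _ hne => if_neg fun e => hne (Subtype.ext e.symm)
        · simp
      · rw [if_neg hg]
        simp only [Nat.cast_zero]
        exact Finset.sum_eq_zero fun h _ => if_neg fun e => hg (by rw [e]; exact h.2)
    have hle : S.card ≤ Nat.card H := by
      have h2 := congrArg Complex.re (hcount.symm.trans hsum)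
      simp only [Complex.natCast_re, Complex.natCast_im, Complex.mul_re, zero_mul, sub_zero, Complex.re_sum] at h2
      have h3 : ∑ χ : IrrCharacter G, (indicatorFS (χ : G → ℂ) * classInner π (χ : G → ℂ)).re ≤ 1 := by
        rw [← Finset.add_sum_erase _ _ (Finset.mem_univ triv)]
        have e1 : (indicatorFS (triv : G → ℂ) * classInner π (triv : G → ℂ)).re = 1 := by
          rw [show indicatorFS (triv : G → ℂ) = 1 from hPtriv.2.2,
            show classInner π (triv : G → ℂ) = 1 from htriv]
          simp
        have e2 := Finset.sum_nonpos (s := Finset.univ.erase triv) fun χ hχ => huniq χ (Finset.ne_of_mem_erase hχ)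
        linarith
      have h4 : (S.card : ℝ) ≤ (Nat.card H : ℝ) := by
        rw [h2]
        simp only [Complex.mul_re] at h3
        have hnn : (0 : ℝ) ≤ Nat.card H := Nat.cast_nonneg _
        nlinarith
      exact_mod_cast h4
    have hkey : ∀ g : G, g * g ∈ H → g ∈ H := by
      set T : Finset G := Finset.univ.filter (fun g : G => g ∈ H) with hT
      have hsub : T ⊆ S := fun g hg => by
        simp only [hT, hS, Finset.mem_filter, Finset.mem_univ, true_and] at hg ⊢
        exact H.mul_mem hg hg
      have hTc : T.card = Nat.card H := by rw [Nat.card_eq_fintype_card, Fintype.card_subtype]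
      have heq := Finset.eq_of_subset_of_card_le hsub (hTc ▸ hle)
      intro g hg
      have : g ∈ T := by
        rw [heq]
        simp [hS, hg]
      simpa [hT] using this
    by_contra hev
    rw [Nat.not_odd_iff_even, even_iff_two_dvd, Subgroup.index_eq_card] at hev
    haveI : Fact (Nat.Prime 2) := ⟨Nat.prime_two⟩
    obtain ⟨q, hq⟩ := exists_prime_orderOf_dvd_card' 2 hev
    obtain ⟨t, rfl⟩ := QuotientGroup.mk_surjective q
    have ht : t * t ∈ H.normalCore := by
      rw [← QuotientGroup.eq_one_iff]
      have := pow_orderOf_eq_one (t : G ⧸ H.normalCore)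
      rwa [hq, pow_two, ← QuotientGroup.mk_mul] at this
    have htc : t ∈ H.normalCore := fun x => hkey _ (by
      rw [show x * t * x⁻¹ * (x * t * x⁻¹) = x * (t * t) * x⁻¹ by group]
      exact ht x)
    rw [(QuotientGroup.eq_one_iff t).2 htc, orderOf_one] at hq
    exact absurd hq (by norm_num)
  · intro hodd
    rw [Subgroup.index_eq_card] at hodd
    haveI : Subsingleton {χ : IrrCharacter G // Pred χ} := by
      suffices h : ∀ χ, Pred χ → χ = triv from
        ⟨fun a b => Subtype.ext ((h a a.2).trans (h b b.2).symm)⟩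
      rintro χ ⟨hne, hreal, -⟩
      have hker : ∀ g ∈ H.normalCore, π g = π 1 := fun g hg => by
        simp only [hπ, indFun_apply]
        congr 1
        refine Finset.sum_congr rfl fun x _ => ?_
        have hg' : x⁻¹ * g * x ∈ H := by simpa using hg x⁻¹
        rw [extendByZero_of_mem H _ hg', extendByZero_of_mem H _ (by simp : x⁻¹ * 1 * x ∈ H)]
      obtain ⟨φ, hφ⟩ := exists_factor_quotient H.normalCore χ fun g hg y =>
        PPrime.apply_mul_of_ker (IsIrrCharacter.isCharacter χ.2) (constituent_apply_eq_one hπc χ.2 hne (hker g hg)) y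
      have h1 := real_irr_eq_one hodd φ (fun q => by
        obtain ⟨g, rfl⟩ := QuotientGroup.mk_surjective q
        rw [hφ]
        exact Complex.conj_eq_iff_im.1 (hreal g))
      exact Subtype.ext (funext fun g => by rw [← hφ g, h1]; rfl)
    haveI : Nonempty {χ : IrrCharacter G // Pred χ} := ⟨⟨triv, hPtriv⟩⟩
    exact Nat.card_of_subsingleton (⟨triv, hPtriv⟩ : {χ : IrrCharacter G // Pred χ})

end Cfsg.Agent.S4784
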