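import Cfsg.Statements.S4796
import Cfsg.Agent.Lib.Char.Extraspecial
import Cfsg.Agent.Lib.Char.Clifford
import Cfsg.Agent.Lib.Block.Regular
import Cfsg.Agent.Lib.Struct.Frobenius
import Mathlib.GroupTheory.SchurZassenhaus

set_option autoImplicit false
open Cfsg

namespace Cfsg.Agent.S4796

open Cfsg.Agent.Block Cfsg.Agent.Char

/-- Let G be a finite group with a faithful irreducible complex character χ whose codegree #G / χ(1) is a prime p (for a faithful character the kernel is trivial, so the codegree is #G / χ(1)). Then either G is cyclic of order p, or G is a Frobenius group whose Frobenius kernel has order p: some proper non-trivial subgroup H satisfies H ∩ gHg⁻¹ = 1 for every element g outside H, and the set of elements lying in no conjugate of H, together with the identity, has exactly p elements. -/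
theorem result {G : Type*} [Group G] [Finite G] (χ : Cfsg.IrrCharacter G) (hfaith : ∀ g : G, (χ : G → ℂ) g = (χ : G → ℂ) 1 → g = 1) (p : ℕ) (hp : p.Prime) (hcod : Nat.card G = p * Cfsg.charDegree (χ : G → ℂ)) : (IsCyclic G ∧ Nat.card G = p) ∨ ∃ H : Subgroup G, Cfsg.IsFrobeniusComplement H ∧ Nat.card ↥(Cfsg.frobeniusKernel H) = p := by
  classical
  haveI := Fintype.ofFinite G
  haveI := Fintype.ofFinite (IrrCharacter G)
  haveI : Fact p.Prime := ⟨hp⟩
  have hχc := IsIrrCharacter.isCharacter χ.2
  set d := charDegree (χ : G → ℂ) with hd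
  have hd1 : (χ : G → ℂ) 1 = (d : ℂ) := (charDegree_cast hχc).symm
  have hdpos : 0 < d := Nat.pos_of_ne_zero fun h => IsIrrCharacter.apply_one_ne_zero χ.2 (by rw [hd1, h, Nat.cast_zero])
  by_cases h1 : d = 1
  · rw [h1, mul_one] at hcod
    exact Or.inl ⟨isCyclic_of_prime_card hcod, hcod⟩
  right
  have hlt : d < p := by
    have hne : χ ≠ ⟨1, isIrrCharacter_one⟩ := fun h => h1 (by
      have e : (χ : G → ℂ) 1 = 1 := by rw [h]; rfl
      rw [hd1] at e
      exact_mod_cast e)
    choose dd hdd using fun φ : IrrCharacter G => IsCharacter.exists_degree (IsIrrCharacter.isCharacter φ.2)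
    have hs := sum_sq_degree (G := G)
    simp only [hdd] at hs
    have hs' : ∑ φ : IrrCharacter G, dd φ ^ 2 = Nat.card G := by exact_mod_cast hs
    have hle : ∑ φ ∈ ({χ, ⟨1, isIrrCharacter_one⟩} : Finset (IrrCharacter G)), dd φ ^ 2 ≤ Nat.card G :=
      hs' ▸ Finset.sum_le_sum_of_subset (Finset.subset_univ _)
    rw [Finset.sum_pair hne] at hle
    have e1 : dd χ = d := by
      have := hdd χ
      rw [hd1] at this
      exact_mod_cast this.symm
    have e2 : dd ⟨1, isIrrCharacter_one⟩ = 1 := by
      have := hdd ⟨1, isIrrCharacter_one⟩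
      simp only [Pi.one_apply] at this
      exact_mod_cast this.symm
    rw [e1, e2, hcod] at hle
    nlinarith
  have hndvd : ¬ p ∣ d := fun h => absurd (Nat.le_of_dvd hdpos h) (by omega)
  -- the Sylow subgroup of order p is normal
  obtain ⟨P⟩ : Nonempty (Sylow p G) := inferInstance
  set Q : Subgroup G := (P : Subgroup G) with hQ
  have hQc : Nat.card Q = p := by
    rw [hQ, P.card_eq_multiplicity, hcod, Nat.factorization_mul hp.ne_zero hdpos.ne', Finsupp.add_apply,
      hp.factorization_self, Nat.factorization_eq_zero_of_not_dvd hndvd, add_zero, pow_one]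
  have hQi : Q.index = d := Nat.eq_of_mul_eq_mul_right hp.pos (by
    calc Q.index * p = Q.index * Nat.card Q := by rw [hQc]
      _ = Nat.card G := Q.index_mul_card
      _ = d * p := by rw [hcod]; ring)
  have hn1 : Nat.card (Sylow p G) = 1 := by
    have hm : Nat.card (Sylow p G) % p = 1 := by
      have := card_sylow_modEq_one p G
      rwa [Nat.ModEq, Nat.one_mod_eq_one.2 hp.ne_one] at this
    have hle := Nat.le_of_dvd hdpos (hQi ▸ P.card_dvd_index)
    rwa [Nat.mod_eq_of_lt (by omega)] at hm
  haveI : Subsingleton (Sylow p G) := (Nat.card_eq_one_iff_unique.1 hn1).1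
  haveI hQn : Q.Normal := P.normal_of_subsingleton
  -- the centraliser of the normal Sylow subgroup
  set N := Subgroup.centralizer (Q : Set G) with hN
  haveI : N.Normal := by
    rw [hN]
    infer_instance
  haveI : IsCyclic Q := isCyclic_of_prime_card hQc
  have hQN : Q ≤ N := fun a ha => Subgroup.mem_centralizer_iff.2 fun b hb =>
    congrArg Subtype.val (letI := IsCyclic.commGroup (α := Q); mul_comm (⟨b, hb⟩ : Q) ⟨a, ha⟩)
  haveI := Fintype.ofFinite N
  have hres := IsCharacter.restrict hχc N
  have hres0 : (fun n : N => (χ : G → ℂ) n) ≠ 0 := fun h =>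
    IsIrrCharacter.apply_one_ne_zero χ.2 (congrFun h 1)
  obtain ⟨φ, hφ, hin⟩ := IsCharacter.exists_irr_constituent hres hres0
  obtain ⟨e, he⟩ := IsCharacter.exists_degree (IsIrrCharacter.isCharacter hφ)
  have hle1 : d ≤ N.index * e := by
    have hne : classInner (indFun N φ) (χ : G → ℂ) ≠ 0 := by
      rw [classInner_indFun N φ (IsCharacter.isClassFunction hχc)]
      intro h
      apply hin
      rw [← classInner_conj_symm, h, map_zero]
    obtain ⟨r, hr, heq⟩ := exists_add_of_classInner_ne_zero (isCharacter_indFun (H := N) (IsIrrCharacter.isCharacter hφ)) χ.2 hne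
    obtain ⟨c, hc⟩ := IsCharacter.exists_degree hr
    have := congrFun heq 1
    rw [indFun_one_apply, he, Pi.add_apply, hd1, hc] at this
    have h' : N.index * e = d + c := by exact_mod_cast this
    omega
  have hcen : ∀ a : N, (a : G) ∈ Q → a ∈ Subgroup.center N := fun a ha =>
    Subgroup.mem_center_iff.2 fun b => Subtype.ext ((Subgroup.mem_centralizer_iff.1 b.2 _ ha).symm)
  have hle2 : p * e ^ 2 ≤ Nat.card N := by
    have h := IsIrrCharacter.classInner_self hφ
    rw [classInner, inv_mul_eq_one₀ (Nat.cast_ne_zero.mpr Nat.card_pos.ne')] at h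
    have h' := congrArg Complex.re h
    simp only [Complex.natCast_re, Complex.re_sum, Complex.mul_conj, Complex.ofReal_re] at h'
    set S := Finset.univ.filter (fun n : N => (n : G) ∈ Q) with hS
    have hScard : S.card = p := by
      rw [hS, ← Fintype.card_subtype, ← Nat.card_eq_fintype_card, ← hQc]
      exact Nat.card_congr ⟨fun a => ⟨a.1.1, a.2⟩, fun b => ⟨⟨b.1, hQN b.2⟩, b.2⟩, fun _ => rfl, fun _ => rfl⟩
    have hge : ∀ n ∈ S, ((e : ℝ)) ^ 2 ≤ Complex.normSq (φ n) := fun n hn => by
      obtain ⟨ω, hω, hωm⟩ := IsIrrCharacter.central_apply hφ (hcen n (Finset.mem_filter.1 hn).2)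
      have h2 := hωm 1
      rw [mul_one] at h2
      rw [h2, Complex.normSq_eq_norm_sq, norm_mul, hω, one_mul, he, Complex.norm_natCast]
    have hsum : (S.card : ℝ) * (e : ℝ) ^ 2 ≤ ∑ n ∈ S, Complex.normSq (φ n) := by
      rw [← nsmul_eq_mul]
      exact Finset.card_nsmul_le_sum _ _ _ hge
    have hsub : ∑ n ∈ S, Complex.normSq (φ n) ≤ ∑ n : N, Complex.normSq (φ n) :=
      Finset.sum_le_sum_of_subset_of_nonneg (Finset.subset_univ _) fun _ _ _ => Complex.normSq_nonneg _
    rw [hScard] at hsum
    have : ((p : ℝ)) * (e : ℝ) ^ 2 ≤ (Nat.card N : ℝ) := by linarith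
    exact_mod_cast this
  have hN1 : Nat.card N = p := by
    have hmul : N.index * Nat.card N = p * d := by rw [N.index_mul_card, hcod]
    have hi0 : 0 < N.index := Nat.pos_of_ne_zero Subgroup.index_ne_zero_of_finite
    have h3 : Nat.card N ≤ p * e := Nat.le_of_mul_le_mul_left (by
      calc N.index * Nat.card N = p * d := hmul
        _ ≤ p * (N.index * e) := Nat.mul_le_mul_left _ hle1
        _ = N.index * (p * e) := by ring) hi0
    have he1 : e ≤ 1 := by
      by_contra hh
      push Not at hh
      have : p * e < p * e ^ 2 := by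
        refine Nat.mul_lt_mul_of_pos_left ?_ hp.pos
        rw [sq]
        exact lt_mul_of_one_lt_left (by omega) hh
      omega
    have h4 : p ≤ Nat.card N := hQc ▸ Subgroup.card_le_of_le hQN
    nlinarith
  have hNQ : N = Q := (Subgroup.eq_of_le_of_card_ge hQN (by omega)).symm
  -- the complement
  have hcop : (Nat.card Q).Coprime Q.index := by
    rw [hQc, hQi]
    exact hp.coprime_iff_not_dvd.2 hndvd
  obtain ⟨H, hH⟩ := Subgroup.exists_right_complement'_of_coprime hcop
  have hHi : H.index = p := by rw [hH.index_eq_card, hQc]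
  have hHc : Nat.card H = d := Nat.eq_of_mul_eq_mul_left hp.pos (by
    rw [← hcod, ← hH.card_mul_card, hQc])
  have hfro : IsFrobeniusComplement H := by
    refine ⟨fun h => h1 ?_, fun h => hp.one_lt.ne' ?_, fun g hg => ?_⟩
    · rw [← hHc, h, Subgroup.card_bot]
    · rw [← hHi, h, Subgroup.index_top]
    rw [Subgroup.eq_bot_iff_forall]
    rintro x ⟨hx, hxg⟩
    obtain ⟨⟨z, h⟩, hzh⟩ := hH.2 g
    dsimp only at hzh
    have hz1 : (z : G) ≠ 1 := fun hh => hg (by rw [← hzh, hh, one_mul]; exact h.2)
    have hxg' : g⁻¹ * x * g ∈ H := Cfsg.Agent.Struct.Frobenius.mem_conj_smul.1 hxg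
    have hzx : (z : G)⁻¹ * x * z ∈ H := by
      have : (h : G) * (g⁻¹ * x * g) * (h : G)⁻¹ ∈ H := H.mul_mem (H.mul_mem h.2 hxg') (H.inv_mem h.2)
      convert this using 1
      rw [← hzh]; group
    have hc : (z : G)⁻¹ * x * z * x⁻¹ = 1 := Subgroup.disjoint_def.1 hH.disjoint
      (by rw [show (z : G)⁻¹ * x * z * x⁻¹ = (z : G)⁻¹ * (x * z * x⁻¹) by group]
          exact mul_mem (inv_mem z.2) (hQn.conj_mem _ z.2 x))
      (H.mul_mem hzx (H.inv_mem hx))
    have hxz : x * z = z * x := by
      calc x * (z : G) = z * ((z : G)⁻¹ * x * z * x⁻¹) * x := by group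
        _ = z * x := by rw [hc, mul_one]
    have hxN : x ∈ Q := by
      rw [← hNQ]
      refine Subgroup.mem_centralizer_iff.2 fun b hb => ?_
      obtain ⟨i, hi⟩ := Subgroup.mem_zpowers_iff.1 (mem_zpowers_of_prime_card (p := p) hQc (g := z) (g' := ⟨b, hb⟩)
        (fun hh => hz1 (congrArg Subtype.val hh)))
      have hb' : (z : G) ^ i = b := by simpa using congrArg Subtype.val hi
      rw [← hb']
      exact (((show Commute x (z : G) from hxz).zpow_right i).eq).symm
    exact Subgroup.disjoint_def.1 hH.disjoint hxN hx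
  exact ⟨H, hfro, by rw [Cfsg.Agent.Struct.Frobenius.card_kernel hfro, hHi]⟩

end Cfsg.Agent.S4796
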