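import Cfsg.Statements.S4797
import Cfsg.Agent.Lib.Block.CentralQuotientBlock
import Cfsg.Agent.Lib.Char.Linear
import Cfsg.Agent.Lib.Solv.NormalPComplement
import Cfsg.Agent.Lib.Char.Integral
import Cfsg.Agent.Lib.Block.Regular

set_option autoImplicit false
open Cfsg

namespace Cfsg.Agent.S4797

open Cfsg.Agent.Block Cfsg.Agent.Char

/-- The codegree of an irreducible complex character χ of a finite group G is [G : ker χ] / χ(1), where ker χ is the set of elements at which χ takes the value χ(1). A non-trivial finite group is perfect if and only if no irreducible complex character of it has prime codegree. -/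
theorem result {G : Type*} [Group G] [Finite G] [Nontrivial G] : commutator G = ⊤ ↔ ∀ χ : Cfsg.IrrCharacter G, ¬ ((Nat.card G / (Nat.card {g : G // (χ : G → ℂ) g = (χ : G → ℂ) 1} * Cfsg.charDegree (χ : G → ℂ)))).Prime := by
  classical
  haveI := Fintype.ofFinite G
  constructor
  · intro hperf χ hpr
    have hc := IsIrrCharacter.isCharacter χ.2
    let K : Subgroup G :=
      { carrier := {g | (χ : G → ℂ) g = (χ : G → ℂ) 1}
        one_mem' := rfl
        mul_mem' := fun {a b} ha hb => by
          show (χ : G → ℂ) (a * b) = _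
          rw [(IsCharacter.apply_mul_of_eq_one hc ha b).left]; exact hb
        inv_mem' := fun {a} ha => by
          show (χ : G → ℂ) a⁻¹ = _
          rw [IsCharacter.map_inv hc, show (χ : G → ℂ) a = (χ : G → ℂ) 1 from ha, conj_irr_one] }
    haveI : K.Normal := ⟨fun g (hg : (χ : G → ℂ) g = _) a => show (χ : G → ℂ) (a * g * a⁻¹) = _ from
      (IsIrrCharacter.apply_isConj χ.2 (isConj_iff.2 ⟨a, rfl⟩ : IsConj g (a * g * a⁻¹))).symm.trans hg⟩
    haveI := Fintype.ofFinite (G ⧸ K)
    obtain ⟨φ, hφ⟩ := exists_factor_quotient K χ fun g hg y => (IsCharacter.apply_mul_of_eq_one hc hg y).left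
    set d := charDegree (χ : G → ℂ) with hd
    have hdd : d = charDegree (φ : G ⧸ K → ℂ) := by
      apply Nat.cast_injective (R := ℂ)
      rw [charDegree_cast hc, charDegree_cast (IsIrrCharacter.isCharacter φ.2), ← hφ 1]
      rfl
    obtain ⟨p, hp⟩ : ∃ p : ℕ, K.index = d * p := by
      obtain ⟨t, ht⟩ : d ∣ Nat.card (G ⧸ K) := hdd ▸ charDegree_dvd_card φ.2
      exact ⟨t, by rw [Subgroup.index_eq_card, ht]⟩
    have hval : Nat.card G / (Nat.card {g : G // (χ : G → ℂ) g = (χ : G → ℂ) 1} * d) = p := by
      rw [show Nat.card {g : G // (χ : G → ℂ) g = (χ : G → ℂ) 1} = Nat.card K from rfl, ← K.card_mul_index, hp, ← mul_assoc]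
      exact Nat.mul_div_cancel_left p (Nat.mul_pos Nat.card_pos (charDegree_pos χ.2))
    rw [hval] at hpr
    haveI : Fact p.Prime := ⟨hpr⟩
    -- the quotient
    have hQperf : commutator (G ⧸ K) = ⊤ := by
      rw [commutator_def, ← Subgroup.map_top_of_surjective _ (QuotientGroup.mk'_surjective K), ← Subgroup.map_commutator, ← commutator_def, hperf]
    have hcard : Nat.card (G ⧸ K) = d * p := by rw [← Subgroup.index_eq_card, hp]
    have hdp : d < p := by
      haveI := Fintype.ofFinite (IrrCharacter (G ⧸ K))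
      have hsum : ∑ ψ : IrrCharacter (G ⧸ K), charDegree (ψ : G ⧸ K → ℂ) ^ 2 = d * p := by
        apply Nat.cast_injective (R := ℂ)
        rw [Nat.cast_sum, ← hcard, ← sum_sq_degree]
        exact Finset.sum_congr rfl fun ψ _ => by rw [Nat.cast_pow, charDegree_cast (IsIrrCharacter.isCharacter ψ.2)]
      set one : IrrCharacter (G ⧸ K) := ⟨fun _ => 1, isIrrCharacter_one⟩ with hone
      have hd1 : charDegree (one : G ⧸ K → ℂ) = 1 := by
        apply Nat.cast_injective (R := ℂ)
        rw [charDegree_cast (IsIrrCharacter.isCharacter one.2), Nat.cast_one]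
      by_cases he : φ = one
      · rw [hdd, he, hd1]; exact hpr.one_lt
      · have h2 : 1 + d ^ 2 ≤ d * p := by
          rw [← hsum, hdd]
          refine le_of_eq_of_le ?_ (Finset.sum_le_sum_of_subset (s := {one, φ}) (Finset.subset_univ _))
          rw [Finset.sum_pair (Ne.symm he), hd1, one_pow]
        nlinarith
    obtain ⟨P⟩ := Sylow.nonempty (p := p) (G := G ⧸ K)
    have hP : Nat.card P = p := by
      rw [P.card_eq_multiplicity, hcard, Nat.factorization_mul (by rintro e; exact (charDegree_pos χ.2).ne' e) hpr.ne_zero, Finsupp.add_apply, Nat.factorization_eq_zero_of_lt hdp, hpr.factorization_self, zero_add, pow_one]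
    have hn1 : Nat.card (Sylow p (G ⧸ K)) = 1 := by
      have h1 := card_sylow_modEq_one p (G ⧸ K)
      have h2 : Nat.card (Sylow p (G ⧸ K)) ∣ d := by
        have := P.card_dvd_index
        have h3 := (P : Subgroup (G ⧸ K)).card_mul_index
        rw [hP, hcard, mul_comm d] at h3
        rwa [Nat.eq_of_mul_eq_mul_left hpr.pos h3] at this
      have h4 := (Nat.le_of_dvd (charDegree_pos χ.2) h2).trans_lt hdp
      rw [Nat.ModEq, Nat.mod_eq_of_lt h4, Nat.mod_eq_of_lt hpr.one_lt] at h1
      exact h1
    haveI : Subsingleton (Sylow p (G ⧸ K)) := (Nat.card_eq_one_iff_unique.1 hn1).1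
    haveI : (P : Subgroup (G ⧸ K)).Normal := P.normal_of_subsingleton
    haveI : IsCyclic P := isCyclic_of_prime_card hP
    let act : G ⧸ K →* MulAut P := MulAut.conjNormal
    have hact : ∀ q, act q = 1 := by
      intro q
      have : q ∈ act.ker := by
        refine (show commutator (G ⧸ K) ≤ act.ker from ?_) (hQperf ▸ Subgroup.mem_top q)
        rw [commutator_eq_closure, Subgroup.closure_le]
        rintro _ ⟨a, b, rfl⟩
        rw [SetLike.mem_coe, MonoidHom.mem_ker, map_commutatorElement, commutatorElement_eq_one_iff_mul_comm]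
        apply (IsCyclic.mulAutMulEquiv P).injective
        rw [map_mul, map_mul, mul_comm]
      exact this
    obtain ⟨Q, N, hN, hNQ⟩ := Solv.hasNormalPComplement_of_burnside P fun q _ => by
      rw [Subgroup.mem_centralizer_iff]
      intro x hx
      have h1 := congrArg Subtype.val (DFunLike.congr_fun (hact q) ⟨x, hx⟩)
      rw [MulAut.conjNormal_apply] at h1
      change q * x * q⁻¹ = x at h1
      exact (eq_mul_inv_iff_mul_eq.1 h1.symm : x * q = q * x)
    haveI := hN
    haveI : Nontrivial (Q : Subgroup (G ⧸ K)) := (Subgroup.nontrivial_iff_ne_bot _).2 (Q.ne_bot_of_dvd_card (hcard ▸ dvd_mul_left p d))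
    have hiso : IsPGroup p ((G ⧸ K) ⧸ N) := IsPGroup.of_card (n := (Nat.card (G ⧸ K)).factorization p) (by
      rw [← Subgroup.index_eq_card, hNQ.symm.index_eq_card, Q.card_eq_multiplicity])
    haveI := hiso.isNilpotent
    have hperf2 : commutator ((G ⧸ K) ⧸ N) = ⊤ := by
      rw [commutator_def, ← Subgroup.map_top_of_surjective _ (QuotientGroup.mk'_surjective N), ← Subgroup.map_commutator, ← commutator_def, hQperf]
    haveI : Nontrivial ((G ⧸ K) ⧸ N) := by
      rw [← Finite.one_lt_card_iff_nontrivial, ← Subgroup.index_eq_card, hNQ.symm.index_eq_card]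
      exact Finite.one_lt_card
    exact (Group.IsSolvable.commutator_lt_top_of_nontrivial ((G ⧸ K) ⧸ N)).ne hperf2
  · intro h
    by_contra hne
    obtain ⟨p, hp, hpd⟩ := Nat.exists_prime_and_dvd (n := (commutator G).index) (fun e => hne (Subgroup.index_eq_one.1 e))
    haveI : Fact p.Prime := ⟨hp⟩
    haveI : NeZero p := ⟨hp.ne_zero⟩
    haveI : Finite (G →* ℂˣ) := Nat.finite_of_card_ne_zero (by rw [card_monoidHom_units]; exact Subgroup.index_ne_zero_of_finite)
    obtain ⟨l, hl⟩ := exists_prime_orderOf_dvd_card' (G := G →* ℂˣ) p (by rw [card_monoidHom_units]; exact hpd)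
    have hidx : l.ker.index = p := by
      rw [Subgroup.index_ker]
      have hle : l.range ≤ rootsOfUnity p ℂ := by
        rintro _ ⟨g, rfl⟩
        rw [mem_rootsOfUnity]
        have h1 := DFunLike.congr_fun (hl ▸ pow_orderOf_eq_one l) g
        simpa using h1
      have hdvd : Nat.card l.range ∣ p := by
        have := Subgroup.card_dvd_of_le hle
        rwa [HasEnoughRootsOfUnity.natCard_rootsOfUnity ℂ p] at this
      refine ((Nat.dvd_prime hp).mp hdvd).resolve_left fun h1 => ?_
      have hl1 : l = 1 := MonoidHom.ext fun g => by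
        have : l g ∈ l.range := ⟨g, rfl⟩
        rwa [Subgroup.card_eq_one.mp h1, Subgroup.mem_bot] at this
      rw [hl1, orderOf_one] at hl
      exact hp.ne_one hl.symm
    refine h ⟨fun g => (l g : ℂ), isIrrCharacter_monoidHom l⟩ ?_
    have h1 : charDegree (fun g => (l g : ℂ)) = 1 := by
      apply Nat.cast_injective (R := ℂ)
      rw [charDegree_cast (IsIrrCharacter.isCharacter (isIrrCharacter_monoidHom l))]
      simp
    rw [h1, mul_one, show Nat.card {g : G // (l g : ℂ) = (l 1 : ℂ)} = Nat.card l.ker from Nat.card_congr (Equiv.subtypeEquivRight fun g => by simp [MonoidHom.mem_ker]), ← l.ker.card_mul_index, Nat.mul_div_cancel_left _ Nat.card_pos, hidx]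
    exact hp

end Cfsg.Agent.S4797
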