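import Cfsg.Statements.S4798
import Cfsg.Agent.Lib.Char.Clifford
import Cfsg.Agent.Lib.Char.Integral
import Cfsg.Agent.Lib.Block.Regular

set_option autoImplicit false
open Cfsg

namespace Cfsg.Agent.S4798

open Cfsg.Agent.Block Cfsg.Agent.Char

/-- Let p be a prime and χ a faithful irreducible complex character of the finite group G (χ(g) = χ(1) only for g = 1), so that its codegree is #G / χ(1). Then #G / χ(1) is a power of p if and only if χ is induced from a character of a Sylow p-subgroup of G. -/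
theorem result {G : Type*} [Group G] [Fintype G] (p : ℕ) [Fact p.Prime] (χ : Cfsg.IrrCharacter G) (hfaith : ∀ g : G, (χ : G → ℂ) g = (χ : G → ℂ) 1 → g = 1) : (∃ k : ℕ, Nat.card G = p ^ k * Cfsg.charDegree (χ : G → ℂ)) ↔ ∃ (P : Sylow p G) (θ : ↥(P : Subgroup G) → ℂ), Cfsg.IsCharacter ↥(P : Subgroup G) θ ∧ (χ : G → ℂ) = Cfsg.indFun (P : Subgroup G) θ := by
  classical
  have hp : p.Prime := Fact.out
  have hχc := IsIrrCharacter.isCharacter χ.2
  -- a character of degree zero vanishes
  have hzero : ∀ r : G → ℂ, IsCharacter G r → r 1 = 0 → r = 0 := by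
    intro r hr h1
    by_contra hne
    obtain ⟨φ, hφ, hin⟩ := IsCharacter.exists_irr_constituent hr hne
    obtain ⟨s, hs, rfl⟩ := exists_add_of_classInner_ne_zero hr hφ hin
    obtain ⟨a, ha⟩ := IsCharacter.exists_degree (IsIrrCharacter.isCharacter hφ)
    obtain ⟨b, hb⟩ := IsCharacter.exists_degree hs
    rw [Pi.add_apply, ha, hb] at h1
    norm_cast at h1
    exact IsIrrCharacter.apply_one_ne_zero hφ (by rw [ha]; exact_mod_cast (by omega : a = 0))
  constructor
  · rintro ⟨k, hk⟩
    obtain ⟨P⟩ : Nonempty (Sylow p G) := inferInstance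
    set Q : Subgroup G := (P : Subgroup G) with hQ
    obtain ⟨n, hn⟩ := IsPGroup.iff_card.1 P.isPGroup'
    have hi : ¬ p ∣ Q.index := P.not_dvd_index
    have hG : Q.index * p ^ n = Nat.card G := by rw [← hn]; exact Q.index_mul_card
    -- the degree
    obtain ⟨a, ha⟩ : ∃ a, charDegree (χ : G → ℂ) = Q.index * p ^ a := by
      have hcop : Q.index.Coprime (p ^ k) := (hp.coprime_iff_not_dvd.2 hi).symm.pow_right k
      obtain ⟨e, he⟩ : Q.index ∣ charDegree (χ : G → ℂ) :=
        hcop.dvd_of_dvd_mul_left (Dvd.intro _ (hG.trans hk))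
      rw [← hG, he] at hk
      have h2 : e ∣ p ^ n := ⟨p ^ k, Nat.eq_of_mul_eq_mul_left (Nat.pos_of_ne_zero Subgroup.index_ne_zero_of_finite) (by rw [hk]; ring)⟩
      obtain ⟨a, -, rfl⟩ := (Nat.dvd_prime_pow hp).1 h2
      exact ⟨a, he⟩
    have hres := IsCharacter.restrict hχc Q
    have hex : ∃ θ : IrrCharacter Q, ∃ b : ℕ, classInner (fun h : Q => (χ : G → ℂ) h) (θ : Q → ℂ) ≠ 0 ∧
        (θ : Q → ℂ) 1 = ((p ^ b : ℕ) : ℂ) ∧ b ≤ a := by
      by_contra hh
      push Not at hh
      haveI := Fintype.ofFinite (IrrCharacter Q)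
      choose m hm using fun θ : IrrCharacter Q =>
        classInner_natCast_of_isCharacter hres (IsIrrCharacter.isCharacter θ.2)
      choose d hd using fun θ : IrrCharacter Q => IsCharacter.exists_degree (IsIrrCharacter.isCharacter θ.2)
      have hsum := congrFun (IsClassFunction.eq_sum (IsCharacter.isClassFunction hres)) 1
      simp only [Finset.sum_apply, Pi.smul_apply, smul_eq_mul, hm, hd, OneMemClass.coe_one] at hsum
      rw [← charDegree_cast hχc, ha] at hsum
      have hnat : Q.index * p ^ a = ∑ θ : IrrCharacter Q, m θ * d θ := by exact_mod_cast hsum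
      refine hi ((Nat.mul_dvd_mul_iff_right (pow_pos hp.pos a)).1 ?_)
      rw [hnat]
      refine Finset.dvd_sum fun θ _ => ?_
      by_cases h0 : m θ = 0
      · simp [h0]
      obtain ⟨b, -, hb⟩ := (Nat.dvd_prime_pow hp).1 (hn ▸ degree_dvd_card θ.2 (d θ) (hd θ))
      have hab := hh θ b (by rw [hm]; exact_mod_cast h0) (by rw [hd, hb])
      rw [hb, ← pow_succ']
      exact Dvd.dvd.mul_left (pow_dvd_pow p (by omega)) _
    obtain ⟨θ, b, hθ, hb, hba⟩ := hex
    refine ⟨P, (θ : Q → ℂ), IsIrrCharacter.isCharacter θ.2, ?_⟩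
    have hI := isCharacter_indFun (H := Q) (IsIrrCharacter.isCharacter θ.2)
    have hne : classInner (indFun Q (θ : Q → ℂ)) (χ : G → ℂ) ≠ 0 := by
      rw [classInner_indFun Q (θ : Q → ℂ) (IsCharacter.isClassFunction hχc)]
      intro h0
      apply hθ
      rw [← classInner_conj_symm, h0, map_zero]
    obtain ⟨r, hr, he⟩ := exists_add_of_classInner_ne_zero hI χ.2 hne
    obtain ⟨c, hc⟩ := IsCharacter.exists_degree hr
    have h1 := congrFun he 1
    rw [indFun_one_apply, hb, Pi.add_apply, hc, ← charDegree_cast hχc, ha] at h1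
    have hnat : Q.index * p ^ b = Q.index * p ^ a + c := by exact_mod_cast h1
    have hle : Q.index * p ^ b ≤ Q.index * p ^ a := Nat.mul_le_mul_left _ (pow_le_pow_right₀ hp.one_lt.le hba)
    have hr0 : r = 0 := hzero r hr (by rw [hc, show c = 0 by omega, Nat.cast_zero])
    rw [he, hr0, add_zero]
  · rintro ⟨P, θ, hθ, hind⟩
    have hθ0 : θ ≠ 0 := fun h => IsIrrCharacter.apply_one_ne_zero χ.2 (by rw [hind, indFun_one_apply, h]; simp)
    obtain ⟨ψ, hψ, hin⟩ := IsCharacter.exists_irr_constituent hθ hθ0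
    obtain ⟨r, hr, he⟩ := exists_add_of_classInner_ne_zero hθ hψ hin
    have hχ : (χ : G → ℂ) = indFun (P : Subgroup G) ψ + indFun (P : Subgroup G) r := by rw [hind, he, indFun_add]
    have key : ∀ A : G → ℂ, IsCharacter G A → A ≠ 0 → (∃ B, IsCharacter G B ∧ (χ : G → ℂ) = A + B) →
        classInner A (χ : G → ℂ) ≠ 0 := by
      rintro A hA hA0 ⟨B, hB, hAB⟩
      obtain ⟨φ, hφ, hAφ⟩ := IsCharacter.exists_irr_constituent hA hA0
      have h := classInner_ne_zero_of_le hA hB hφ hAφ
      rw [← hAB] at h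
      by_cases e : (χ : G → ℂ) = φ
      · rwa [e]
      · exact absurd (IsIrrCharacter.classInner_eq_zero χ.2 hφ e) h
    have hIψ := isCharacter_indFun (H := (P : Subgroup G)) (IsIrrCharacter.isCharacter hψ)
    have hIr := isCharacter_indFun (H := (P : Subgroup G)) hr
    have hψ1 : indFun (P : Subgroup G) ψ 1 ≠ 0 := by
      rw [indFun_one_apply]
      exact mul_ne_zero (Nat.cast_ne_zero.2 Subgroup.index_ne_zero_of_finite) (IsIrrCharacter.apply_one_ne_zero hψ)
    have hr0 : indFun (P : Subgroup G) r = 0 := by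
      by_contra hne
      obtain ⟨u, hu⟩ := exists_classInner_nat hIψ χ.2
      obtain ⟨v, hv⟩ := exists_classInner_nat hIr χ.2
      have h1 := key _ hIψ (fun h => hψ1 (by rw [h]; rfl)) ⟨_, hIr, hχ⟩
      have h2 := key _ hIr hne ⟨_, hIψ, by rw [hχ, add_comm]⟩
      have hs := IsIrrCharacter.classInner_self χ.2
      nth_rewrite 1 [hχ] at hs
      rw [classInner_add_left, hu, hv] at hs
      rw [hu] at h1
      rw [hv] at h2
      norm_cast at hs h1 h2
      omega
    obtain ⟨d, hd⟩ := IsCharacter.exists_degree (IsIrrCharacter.isCharacter hψ)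
    obtain ⟨n, hn⟩ := IsPGroup.iff_card.1 P.isPGroup'
    obtain ⟨b, hbn, rfl⟩ := (Nat.dvd_prime_pow hp).1 (hn ▸ degree_dvd_card hψ d hd)
    have hdeg : charDegree (χ : G → ℂ) = (P : Subgroup G).index * p ^ b := by
      apply Nat.cast_injective (R := ℂ)
      rw [charDegree_cast hχc, hχ, hr0, add_zero, indFun_one_apply, hd, Nat.cast_mul]
    refine ⟨n - b, ?_⟩
    rw [hdeg, mul_left_comm, ← pow_add, Nat.sub_add_cancel hbn, ← hn]
    exact ((P : Subgroup G).index_mul_card).symm

end Cfsg.Agent.S4798
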