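import Cfsg.Statements.S4801
import Cfsg.Agent.Lib.Block.Regular
import Cfsg.Agent.Lib.Block.CentralQuotientBlock
import Cfsg.Agent.Lib.Block.CentralExtDefect

set_option autoImplicit false
open Cfsg

namespace Cfsg.Agent.S4801

open Cfsg.Agent.Block Cfsg.Agent.Char

theorem exists_ker {H : Type*} [Group H] [Finite H] (χ : IrrCharacter H) :
    ∃ K : Subgroup H, K.Normal ∧ (K : Set H) = {g | (χ : H → ℂ) g = (χ : H → ℂ) 1} := by
  have hm : ∀ x : H, (χ : H → ℂ) x = (χ : H → ℂ) 1 → ∀ y, (χ : H → ℂ) (x * y) = (χ : H → ℂ) y :=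
    fun x hx y => apply_mul_of_mem_kernel (IsIrrCharacter.isCharacter χ.2) hx y
  refine ⟨{ carrier := {g | (χ : H → ℂ) g = (χ : H → ℂ) 1}
            mul_mem' := fun {a b} ha hb => (hm a ha b).trans hb
            one_mem' := rfl
            inv_mem' := fun {a} ha => by
              have := hm a ha a⁻¹
              rw [mul_inv_cancel] at this
              exact this.symm }, ⟨fun n hn g => ?_⟩, rfl⟩
  show (χ : H → ℂ) (g * n * g⁻¹) = _
  rw [IsCharacter.isClassFunction (IsIrrCharacter.isCharacter χ.2) n g]; exact hn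

/-- The codegree of an irreducible complex character χ of a finite group G is [G : ker χ] / χ(1), where ker χ is the set of elements at which χ takes the value χ(1). Let S be a finite simple group and G a finite group such that every codegree of an irreducible character of S is a codegree of an irreducible character of G. Then the order of S divides the order of G. -/
theorem result {S : Type*} [Group S] [Finite S] (hS : IsSimpleGroup S) {G : Type*} [Group G] [Finite G] (hsub : ∀ χ : Cfsg.IrrCharacter S, ∃ ψ : Cfsg.IrrCharacter G, (Nat.card S / (Nat.card {g : S // (χ : S → ℂ) g = (χ : S → ℂ) 1} * Cfsg.charDegree (χ : S → ℂ))) = (Nat.card G / (Nat.card {g : G // (ψ : G → ℂ) g = (ψ : G → ℂ) 1} * Cfsg.charDegree (ψ : G → ℂ)))) : Nat.card S ∣ Nat.card G := by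
  classical
  haveI := Fintype.ofFinite S
  haveI := Fintype.ofFinite (IrrCharacter S)
  refine (Nat.factorization_le_iff_dvd Nat.card_pos.ne' Nat.card_pos.ne').1 fun p => ?_
  by_cases hp : p.Prime
  swap
  · simp [Nat.factorization_eq_zero_of_not_prime _ hp]
  by_cases hpS : p ∣ Nat.card S
  swap
  · rw [Nat.factorization_eq_zero_of_not_dvd hpS]; exact Nat.zero_le _
  obtain ⟨χ, hχ1, hχp⟩ : ∃ χ : IrrCharacter S, (χ : S → ℂ) ≠ (fun _ => 1) ∧ ¬ p ∣ charDegree (χ : S → ℂ) := by
    by_contra hno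
    simp only [not_exists, not_and, not_not] at hno
    have h := sum_sq_degree (G := S)
    rw [Finset.sum_congr rfl fun (χ : IrrCharacter S) _ => by rw [← charDegree_cast (IsIrrCharacter.isCharacter χ.2)]] at h
    norm_cast at h
    rw [← Finset.add_sum_erase _ _ (Finset.mem_univ (⟨_, isIrrCharacter_one⟩ : IrrCharacter S))] at h
    have h2 : p ∣ ∑ χ ∈ Finset.univ.erase (⟨_, isIrrCharacter_one⟩ : IrrCharacter S), charDegree (χ : S → ℂ) ^ 2 :=
      Finset.dvd_sum fun χ hχ => dvd_pow (hno χ fun e => (Finset.ne_of_mem_erase hχ) (Subtype.ext e)) two_ne_zero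
    have h3 := (Nat.dvd_add_left h2).1 (h.symm ▸ hpS)
    simp only [charDegree, Pi.one_apply, Complex.one_re, Nat.floor_one, one_pow] at h3
    exact hp.one_lt.ne' (Nat.dvd_one.1 h3)
  obtain ⟨ψ, hψ⟩ := hsub χ
  obtain ⟨K, hKn, hK⟩ := exists_ker χ
  obtain ⟨L, hLn, hL⟩ := exists_ker ψ
  have hcK : Nat.card {g : S // (χ : S → ℂ) g = (χ : S → ℂ) 1} = 1 := by
    rcases hKn.eq_bot_or_eq_top with h | h
    · rw [show {g : S // (χ : S → ℂ) g = (χ : S → ℂ) 1} = ↥({g : S | (χ : S → ℂ) g = (χ : S → ℂ) 1}) from rfl, ← hK, h]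
      exact Subgroup.card_bot
    · exfalso
      have hc : ∀ g : S, (χ : S → ℂ) g = (χ : S → ℂ) 1 := fun g => by
        have : g ∈ (K : Set S) := by rw [h]; trivial
        rwa [hK] at this
      have ho := classInner_irr χ ⟨_, isIrrCharacter_one⟩
      rw [if_neg (fun e => hχ1 (congrArg Subtype.val e)), classInner, Finset.sum_congr rfl fun g _ => by rw [hc g, show (starRingEnd ℂ) (((⟨_, isIrrCharacter_one⟩ : IrrCharacter S) : S → ℂ) g) = 1 from map_one _, mul_one], Finset.sum_const, Finset.card_univ,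
        nsmul_eq_mul, ← Nat.card_eq_fintype_card, inv_mul_cancel_left₀ (Nat.cast_ne_zero.2 Nat.card_pos.ne')] at ho
      exact IsIrrCharacter.apply_one_ne_zero χ.2 ho
  rw [hcK, one_mul] at hψ
  have hdL : charDegree (ψ : G → ℂ) * Nat.card L ∣ Nat.card G := by
    haveI := hLn
    obtain ⟨φ, hφ⟩ := exists_factor_quotient L ψ fun g hg y =>
      apply_mul_of_mem_kernel (IsIrrCharacter.isCharacter ψ.2) (by have := SetLike.mem_coe.2 hg; rwa [hL] at this) y
    have hd : charDegree (φ : G ⧸ L → ℂ) = charDegree (ψ : G → ℂ) := by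
      rw [charDegree, charDegree, ← hφ 1, QuotientGroup.mk_one]
    rw [← L.index_mul_card, Subgroup.index_eq_card, ← hd]
    exact mul_dvd_mul_right (charDegree_dvd_card φ.2) _
  have hcL : Nat.card {g : G // (ψ : G → ℂ) g = (ψ : G → ℂ) 1} = Nat.card L := by
    rw [show {g : G // (ψ : G → ℂ) g = (ψ : G → ℂ) 1} = ↥({g : G | (ψ : G → ℂ) g = (ψ : G → ℂ) 1}) from rfl, ← hL]; rfl
  rw [hcL, mul_comm (Nat.card L)] at hψ
  have hq : Nat.card S / charDegree (χ : S → ℂ) ∣ Nat.card G := hψ ▸ Nat.div_dvd_of_dvd hdL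
  have hpd : p ^ (Nat.card S).factorization p ∣ Nat.card S / charDegree (χ : S → ℂ) := by
    refine (Nat.Coprime.pow_left _ ((hp.coprime_iff_not_dvd).2 hχp)).dvd_of_dvd_mul_left ?_
    rw [Nat.mul_div_cancel' (charDegree_dvd_card χ.2)]
    exact Nat.ordProj_dvd _ _
  exact (hp.pow_dvd_iff_le_factorization Nat.card_pos.ne').1 (hpd.trans hq)

end Cfsg.Agent.S4801
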