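import Cfsg.Statements.S4802
import Cfsg.Agent.Lib.Block.Regular
import Cfsg.Agent.Lib.Block.CentralQuotientBlock
import Cfsg.Agent.Lib.Char.Zero
import Cfsg.Agent.Lib.Char.Integral
import Cfsg.Agent.Lib.Char.Orthogonality
import Cfsg.Agent.Lib.Char.Linear

set_option autoImplicit false
open Cfsg

namespace Cfsg.Agent.S4802

open Cfsg.Agent.Block Cfsg.Agent.Char

/-- Let N < M be normal subgroups of the finite group G and g ∈ M ∖ N. Then the conjugacy class of g is exactly M ∖ N if and only if every irreducible complex character of G whose kernel contains N takes the same value at all elements of M ∖ N, and every irreducible complex character of G whose kernel does not contain N vanishes at g. -/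
theorem result {G : Type*} [Group G] [Finite G] (N M : Subgroup G) [N.Normal] [M.Normal] (hNM : N < M) (g : G) (hgM : g ∈ M) (hgN : g ∉ N) : {h : G | IsConj g h} = (M : Set G) \ (N : Set G) ↔ ((∀ χ : Cfsg.IrrCharacter G, (∀ x ∈ N, (χ : G → ℂ) x = (χ : G → ℂ) 1) → ∀ x ∈ M, x ∉ N → ∀ y ∈ M, y ∉ N → (χ : G → ℂ) x = (χ : G → ℂ) y) ∧ (∀ χ : Cfsg.IrrCharacter G, (∃ x ∈ N, (χ : G → ℂ) x ≠ (χ : G → ℂ) 1) → (χ : G → ℂ) g = 0)) := by
  classical
  haveI := Fintype.ofFinite G
  haveI := Fintype.ofFinite (IrrCharacter G)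
  haveI := Fintype.ofFinite (IrrCharacter (G ⧸ N))
  haveI : ∀ a b : G, Decidable (IsConj a b) := fun a b => Classical.propDecidable _
  haveI : ∀ a b : G ⧸ N, Decidable (IsConj a b) := fun a b => Classical.propDecidable _
  have hcl : ∀ x, IsConj g x → x ∈ M ∧ x ∉ N := by
    intro x hx
    obtain ⟨c, rfl⟩ := isConj_iff.1 hx
    exact ⟨(inferInstance : M.Normal).conj_mem _ hgM c, fun h => hgN (by simpa [mul_assoc] using (inferInstance : N.Normal).conj_mem _ h c⁻¹)⟩
  have hsum : ∀ χ : IrrCharacter G, (∃ x ∈ N, (χ : G → ℂ) x ≠ (χ : G → ℂ) 1) → ∀ K : Subgroup G, ∀ [K.Normal], N ≤ K → ∑ k ∈ Finset.univ.filter (· ∈ K), (χ : G → ℂ) k = 0 := by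
    rintro χ ⟨x, hx, hxne⟩ K _ hNK
    obtain ⟨n, ρ, hρ, hρχ⟩ := χ.2
    haveI := hρ
    haveI := Fintype.ofFinite K
    have hker : ∃ h ∈ K, ρ h ≠ LinearMap.id := ⟨x, hNK hx, fun e => hxne (by rw [← hρχ, ρ.char_one]; exact (character_eq_finrank_iff ρ x).2 e)⟩
    have h := congrArg (LinearMap.trace ℂ (Fin n → ℂ)) (sum_rep_eq_zero ρ K hker)
    rw [map_sum, map_zero] at h
    rw [← hρχ, Finset.sum_subtype (p := (· ∈ K)) (F := inferInstance) _ (fun k => by simp)]
    exact h
  constructor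
  · intro h
    have hall : ∀ x ∈ M, x ∉ N → IsConj g x := fun x hxM hxN => (show x ∈ {h : G | IsConj g h} from h ▸ ⟨hxM, hxN⟩)
    refine ⟨fun χ _ x hx hx' y hy hy' => IsIrrCharacter.apply_isConj χ.2 ((hall x hx hx').symm.trans (hall y hy hy')), fun χ hχ => ?_⟩
    have h1 := hsum χ hχ M hNM.le
    rw [← Finset.sum_filter_add_sum_filter_not _ (fun k : G => k ∈ N), Finset.filter_filter, Finset.filter_filter,
      show Finset.univ.filter (fun k : G => k ∈ M ∧ k ∈ N) = Finset.univ.filter (· ∈ N) from Finset.filter_congr fun k _ => ⟨fun h => h.2, fun h => ⟨hNM.le h, h⟩⟩,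
      hsum χ hχ N le_rfl, zero_add, Finset.sum_congr rfl (g := fun _ => (χ : G → ℂ) g) (fun k hk => (IsIrrCharacter.apply_isConj χ.2 (hall k (Finset.mem_filter.1 hk).2.1 (Finset.mem_filter.1 hk).2.2)).symm),
      Finset.sum_const, nsmul_eq_mul, mul_eq_zero, Nat.cast_eq_zero, Finset.card_eq_zero] at h1
    refine h1.resolve_left (Finset.Nonempty.ne_empty ⟨g, ?_⟩)
    simp [hgM, hgN]
  · rintro ⟨hA, hB⟩
    set π := QuotientGroup.mk' N with hπ
    -- the classes in the quotient
    have hq : ∀ y, y ∈ M → y ∉ N → IsConj (π g) (π y) := by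
      intro y hy hy'
      refine (isConj_iff_irr _ _).2 fun φ => ?_
      exact hA ⟨fun t => (φ : G ⧸ N → ℂ) (π t), isIrrCharacter_comp_surjective π (QuotientGroup.mk'_surjective N) φ.2⟩
        (fun x hx => by show (φ : G ⧸ N → ℂ) (π x) = (φ : G ⧸ N → ℂ) (π 1); rw [map_one, show π x = 1 from (QuotientGroup.eq_one_iff x).2 hx]) g hgM hgN y hy hy'
    have hcent : Nat.card (Subgroup.centralizer ({g} : Set G)) = Nat.card (Subgroup.centralizer ({π g} : Set (G ⧸ N))) := by
      have h1 := second_orthogonality g g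
      have h2 := second_orthogonality (π g) (π g)
      rw [if_pos (IsConj.refl _)] at h1 h2
      apply Nat.cast_injective (R := ℂ)
      rw [← h1, ← h2, ← Finset.sum_filter_add_sum_filter_not Finset.univ (fun χ : IrrCharacter G => ∀ x ∈ N, (χ : G → ℂ) x = (χ : G → ℂ) 1)]
      rw [Finset.sum_eq_zero (s := Finset.univ.filter fun χ : IrrCharacter G => ¬ ∀ x ∈ N, (χ : G → ℂ) x = (χ : G → ℂ) 1) (fun χ hχ => by
        have h3 := (Finset.mem_filter.1 hχ).2
        push Not at h3
        rw [hB χ h3, zero_mul]), add_zero]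
      choose f hf using fun (χ : IrrCharacter G) (hχ : χ ∈ Finset.univ.filter fun χ : IrrCharacter G => ∀ x ∈ N, (χ : G → ℂ) x = (χ : G → ℂ) 1) =>
        exists_factor_quotient N χ (fun x hx y => (IsCharacter.apply_mul_of_eq_one (IsIrrCharacter.isCharacter χ.2) ((Finset.mem_filter.1 hχ).2 x hx) y).left)
      refine Finset.sum_bij f (fun a ha => Finset.mem_univ _) (fun a ha b hb e => Subtype.ext (funext fun t => by rw [← hf a ha t, e, hf b hb t])) (fun φ _ => ?_) (fun a ha => by
        show _ = (f a ha : G ⧸ N → ℂ) (QuotientGroup.mk g) * _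
        rw [show π g = (QuotientGroup.mk g : G ⧸ N) from rfl, hf a ha g])
      let ψ : IrrCharacter G := ⟨fun t => (φ : G ⧸ N → ℂ) (π t), isIrrCharacter_comp_surjective π (QuotientGroup.mk'_surjective N) φ.2⟩
      have hm : ψ ∈ Finset.univ.filter fun χ : IrrCharacter G => ∀ x ∈ N, (χ : G → ℂ) x = (χ : G → ℂ) 1 := by
        rw [Finset.mem_filter]
        refine ⟨Finset.mem_univ _, fun x hx => ?_⟩
        show (φ : G ⧸ N → ℂ) (π x) = (φ : G ⧸ N → ℂ) (π 1)
        rw [map_one, show π x = 1 from (QuotientGroup.eq_one_iff x).2 hx]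
      refine ⟨ψ, hm, Subtype.ext (funext fun q => ?_)⟩
      obtain ⟨t, rfl⟩ := QuotientGroup.mk'_surjective N q
      exact hf ψ hm t
    -- the number of elements
    have hclassQ : {q : G ⧸ N | IsConj (π g) q} = (M.map π : Set (G ⧸ N)) \ {1} := by
      ext q
      obtain ⟨t, rfl⟩ := QuotientGroup.mk'_surjective N q
      constructor
      · intro h
        obtain ⟨c, hc⟩ := isConj_iff.1 (show IsConj (π g) (π t) from h)
        obtain ⟨c, rfl⟩ := QuotientGroup.mk'_surjective N c
        rw [← map_inv, ← map_mul, ← map_mul] at hc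
        have hc1 := hcl _ (isConj_iff.2 ⟨c, rfl⟩ : IsConj g (c * g * c⁻¹))
        refine ⟨⟨_, hc1.1, hc⟩, fun h1 => hc1.2 ?_⟩
        exact (QuotientGroup.eq_one_iff _).1 (hc.trans h1)
      · rintro ⟨⟨s, hs, hst⟩, h1⟩
        rw [Set.mem_ofPred_eq, ← hst]
        exact hq s hs fun hsN => h1 (hst.symm.trans ((QuotientGroup.eq_one_iff s).2 hsN))
    have hcard : Nat.card {h : G // IsConj g h} = Nat.card N * Nat.card {q : G ⧸ N // IsConj (π g) q} := by
      rw [card_isConj_eq_index, card_isConj_eq_index]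
      have h1 := (Subgroup.centralizer ({g} : Set G)).card_mul_index
      have h2 := (Subgroup.centralizer ({π g} : Set (G ⧸ N))).card_mul_index
      rw [N.card_eq_card_quotient_mul_card_subgroup, ← h2, ← hcent, mul_assoc, mul_comm (Subgroup.centralizer ({π g} : Set (G ⧸ N))).index] at h1
      exact Nat.eq_of_mul_eq_mul_left Nat.card_pos h1
    refine Set.eq_of_subset_of_ncard_le (fun x hx => hcl x hx) ?_ (Set.toFinite _)
    rw [← Nat.card_coe_set_eq, ← Nat.card_coe_set_eq]
    refine le_of_le_of_eq ?_ hcard.symm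
    have h9 : Nat.card {q : G ⧸ N // IsConj (π g) q} = Nat.card (M.map π) - 1 := by
      change Nat.card ({q : G ⧸ N | IsConj (π g) q} : Set (G ⧸ N)) = _
      rw [hclassQ, Nat.card_coe_set_eq, Set.ncard_diff_singleton_of_mem (one_mem (M.map π)), ← Nat.card_coe_set_eq]
      rfl
    rw [h9, Nat.card_coe_set_eq, Set.ncard_sdiff hNM.le (Set.toFinite _), ← Nat.card_coe_set_eq, ← Nat.card_coe_set_eq, Nat.mul_sub, mul_one]
    refine Nat.sub_le_sub_right (le_of_eq ?_) _
    show Nat.card M = Nat.card N * Nat.card (M.map π)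
    have h10 := Subgroup.relIndex_mul_index hNM.le
    rw [← Subgroup.card_mul_index (N.subgroupOf M)]
    rw [Nat.card_congr (Subgroup.subgroupOfEquivOfLe hNM.le).toEquiv]
    congr 1
    rw [← Subgroup.relIndex_bot_left (M.map π), ← Subgroup.relIndex, ← Subgroup.relIndex_comap, MonoidHom.comap_bot, QuotientGroup.ker_mk']

end Cfsg.Agent.S4802
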