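import Cfsg.Statements.S4808
import Cfsg.Agent.Lib.Block.Regular
import Cfsg.Agent.Lib.Block.CentralQuotientBlock
import Cfsg.Agent.Lib.Block.CentralExtDefect
import Cfsg.Agent.Lib.Block.RegInner

set_option autoImplicit false
open Cfsg

namespace Cfsg.Agent.S4808

open Cfsg.Agent.Block Cfsg.Agent.Char

/-- The codegree of an irreducible complex character χ of a finite group G is [G : ker χ] / χ(1), where ker χ is the set of elements at which χ takes the value χ(1). A prime divides the order of G if and only if it divides the codegree of some irreducible complex character of G. -/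
theorem result {G : Type*} [Group G] [Finite G] (p : ℕ) (hp : p.Prime) : p ∣ Nat.card G ↔ ∃ χ : Cfsg.IrrCharacter G, p ∣ (Nat.card G / (Nat.card {g : G // (χ : G → ℂ) g = (χ : G → ℂ) 1} * Cfsg.charDegree (χ : G → ℂ))) := by
  classical
  haveI := Fintype.ofFinite G
  haveI := Fintype.ofFinite (IrrCharacter G)
  haveI : Fact p.Prime := ⟨hp⟩
  have hmul : ∀ (χ : IrrCharacter G) (x : G), (χ : G → ℂ) x = (χ : G → ℂ) 1 → ∀ y, (χ : G → ℂ) (x * y) = (χ : G → ℂ) y :=
    fun χ x hx y => apply_mul_of_mem_kernel (IsIrrCharacter.isCharacter χ.2) hx y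
  let Ker : IrrCharacter G → Subgroup G := fun χ =>
    { carrier := {g | (χ : G → ℂ) g = (χ : G → ℂ) 1}
      mul_mem' := fun {a b} ha hb => (hmul χ a ha b).trans hb
      one_mem' := rfl
      inv_mem' := fun {a} ha => by
        have := hmul χ a ha a⁻¹
        rw [mul_inv_cancel] at this
        exact this.symm }
  have hnorm : ∀ χ, (Ker χ).Normal := fun χ => ⟨fun n hn g => by
    show (χ : G → ℂ) (g * n * g⁻¹) = _
    rw [IsCharacter.isClassFunction (IsIrrCharacter.isCharacter χ.2) n g]; exact hn⟩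
  have hfac : ∀ χ : IrrCharacter G, charDegree (χ : G → ℂ) ∣ (Ker χ).index ∧
      (¬ p ∣ (Ker χ).index / charDegree (χ : G → ℂ) → ∀ x : G, (χ : G → ℂ) x ≠ (χ : G → ℂ) 1 → orderOf x = p → (χ : G → ℂ) x = 0) := by
    intro χ
    haveI := hnorm χ
    obtain ⟨φ, hφ⟩ := exists_factor_quotient (Ker χ) χ fun g hg y => hmul χ g hg y
    have hd : charDegree (φ : G ⧸ Ker χ → ℂ) = charDegree (χ : G → ℂ) := by
      rw [charDegree, charDegree, ← hφ 1, QuotientGroup.mk_one]
    rw [Subgroup.index_eq_card, ← hd]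
    refine ⟨charDegree_dvd_card φ.2, fun hnd x hx hxo => ?_⟩
    obtain ⟨M, hM⟩ := exists_isPModular hp
    haveI := prime_of_isPModular hM
    rw [← hφ x]
    refine apply_eq_zero_of_singleton hM (blockOf_eq_singleton hM φ hnd) ?_
    have h1 : orderOf (x : G ⧸ Ker χ) ∣ p := hxo ▸ orderOf_map_dvd (QuotientGroup.mk' (Ker χ)) x
    rcases (Nat.dvd_prime hp).1 h1 with h2 | h2
    · exact absurd ((QuotientGroup.eq_one_iff x).1 (orderOf_eq_one_iff.1 h2)) hx
    · rw [h2]
  have hcod : ∀ χ : IrrCharacter G, Nat.card G / (Nat.card {g : G // (χ : G → ℂ) g = (χ : G → ℂ) 1} * charDegree (χ : G → ℂ)) =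
      (Ker χ).index / charDegree (χ : G → ℂ) := by
    intro χ
    rw [← Nat.div_div_eq_div_mul]
    congr 1
    rw [show Nat.card {g : G // (χ : G → ℂ) g = (χ : G → ℂ) 1} = Nat.card (Ker χ) from rfl, ← (Ker χ).index_mul_card,
      Nat.mul_div_cancel _ Nat.card_pos]
  constructor
  · intro hdvd
    by_contra hno
    push Not at hno
    obtain ⟨x, hx⟩ := exists_prime_orderOf_dvd_card' p hdvd
    have hx1 : x ≠ 1 := fun e => by rw [e, orderOf_one] at hx; exact hp.one_lt.ne hx
    have hval : ∀ χ : IrrCharacter G, (χ : G → ℂ) 1 * (χ : G → ℂ) x =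
        ((if (χ : G → ℂ) x = (χ : G → ℂ) 1 then (charDegree (χ : G → ℂ)) ^ 2 else 0 : ℕ) : ℂ) := by
      intro χ
      split
      next h => rw [h, ← charDegree_cast (IsIrrCharacter.isCharacter χ.2)]; push_cast; ring
      next h =>
        rw [(hfac χ).2 (hcod χ ▸ hno χ) x h hx, mul_zero, Nat.cast_zero]
    have h := regular_eq x
    rw [if_neg hx1, Finset.sum_congr rfl fun χ _ => hval χ, ← Nat.cast_sum, Nat.cast_eq_zero, Finset.sum_eq_zero_iff] at h
    have h2 := h ⟨fun _ => 1, isIrrCharacter_one⟩ (Finset.mem_univ _)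
    rw [if_pos rfl] at h2
    exact (charDegree_pos (isIrrCharacter_one (G := G))).ne' (pow_eq_zero_iff two_ne_zero |>.1 h2)
  · rintro ⟨χ, hχ⟩
    rw [hcod] at hχ
    exact hχ.trans ((Nat.div_dvd_of_dvd (hfac χ).1).trans (Ker χ).index_dvd_card)

end Cfsg.Agent.S4808
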