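import Cfsg.Statements.S4814
import Cfsg.Agent.Lib.Char.Commutator

set_option autoImplicit false
open Cfsg

namespace Cfsg.Agent.S4814

open Cfsg.Agent.Char
open scoped ComplexConjugate

/-- Let G be a finite group such that the sum, over the irreducible complex characters χ of G, of 1/χ(1)² is less than 2. Then every element of G is a product of two commutators. -/
theorem result {G : Type*} [Group G] [Finite G]
    (h : ∑ᶠ χ : Cfsg.IrrCharacter G, 1 / ‖(χ : G → ℂ) 1‖ ^ 2 < (2 : ℝ)) (g : G) :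
    ∃ a b c d : G, (a * b * a⁻¹ * b⁻¹) * (c * d * c⁻¹ * d⁻¹) = g := by
  classical
  haveI := Fintype.ofFinite G
  haveI := Fintype.ofFinite (IrrCharacter G)
  rw [finsum_eq_sum_of_fintype] at h
  by_contra hno
  push Not at hno
  set one : IrrCharacter G := ⟨fun _ => 1, isIrrCharacter_one⟩ with hone
  let N : G → ℂ := fun x => ((Finset.univ.filter fun p : G × G => p.1 * p.2 * p.1⁻¹ * p.2⁻¹ = x).card : ℂ)
  have hN : ∀ x, N x = (Nat.card G : ℂ) * ∑ χ : IrrCharacter G, (χ : G → ℂ) x / (χ : G → ℂ) 1 := card_commutator_fiber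
  have hNc : IsClassFunction G N := fun x y => by
    rw [hN, hN]
    exact congrArg _ (Finset.sum_congr rfl fun χ _ => by
      rw [IsCharacter.isClassFunction (IsIrrCharacter.isCharacter χ.2) x y])
  have hk : (Nat.card G : ℂ) ≠ 0 := Nat.cast_ne_zero.mpr Nat.card_pos.ne'
  have hproj : ∀ ψ : IrrCharacter G, ∑ x, N x * conj ((ψ : G → ℂ) x) = (Nat.card G : ℂ) * (Nat.card G : ℂ) / (ψ : G → ℂ) 1 := by
    intro ψ
    have h1 : ∀ χ : IrrCharacter G, ∑ x, (χ : G → ℂ) x * conj ((ψ : G → ℂ) x) = if χ = ψ then (Nat.card G : ℂ) else 0 := by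
      intro χ
      have h2 := classInner_irr χ ψ
      rw [classInner, inv_mul_eq_iff_eq_mul₀ hk, mul_ite, mul_one, mul_zero] at h2
      exact h2
    calc ∑ x, N x * conj ((ψ : G → ℂ) x)
        = (Nat.card G : ℂ) * ∑ χ : IrrCharacter G, (∑ x, (χ : G → ℂ) x * conj ((ψ : G → ℂ) x)) / (χ : G → ℂ) 1 := by
          simp only [hN, Finset.mul_sum, Finset.sum_mul, Finset.sum_div]
          rw [Finset.sum_comm]
          exact Finset.sum_congr rfl fun χ _ => Finset.sum_congr rfl fun x _ => by ring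
      _ = _ := by
          simp only [h1, ite_div, zero_div, Finset.sum_ite_eq', Finset.mem_univ, if_true]
          ring
  have hconv : ∀ ψ : IrrCharacter G, ∑ x, N x * (ψ : G → ℂ) (x⁻¹ * g) =
      (Nat.card G : ℂ) * (Nat.card G : ℂ) / (ψ : G → ℂ) 1 / (ψ : G → ℂ) 1 * (ψ : G → ℂ) g := by
    intro ψ
    rw [← hproj ψ]
    obtain ⟨n, ρ, hρ, hψ⟩ := ψ.2
    haveI := hρ
    have hcf : IsClassFunction G (fun x => N x⁻¹) := fun x y => by
      have := hNc x⁻¹ y
      simp only [mul_inv_rev, inv_inv, mul_assoc] at this ⊢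
      exact this
    have h2 := congrArg (fun A : (Fin n → ℂ) →ₗ[ℂ] (Fin n → ℂ) => LinearMap.trace ℂ _ (A * ρ g)) (sum_smul_rep_eq_smul_id ρ hcf)
    simp only [Finset.sum_mul, smul_mul_assoc, ← map_mul, map_sum, map_smul, smul_eq_mul] at h2
    rw [show (LinearMap.id : (Fin n → ℂ) →ₗ[ℂ] (Fin n → ℂ)) * ρ g = ρ g from rfl] at h2
    have h3 : ∑ x, N x⁻¹ * (ψ : G → ℂ) (x * g) = (∑ x, N x⁻¹ * (ψ : G → ℂ) x) / (ψ : G → ℂ) 1 * (ψ : G → ℂ) g := by
      rw [← hψ, ρ.char_one]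
      exact h2
    rw [← Equiv.sum_comp (Equiv.inv G)]
    rw [← Equiv.sum_comp (Equiv.inv G) (fun x => N x * conj ((ψ : G → ℂ) x))]
    simp only [Equiv.inv_apply, inv_inv]
    rw [h3]
    congr 2
    refine Finset.sum_congr rfl fun x _ => ?_
    rw [IsCharacter.map_inv (IsIrrCharacter.isCharacter ψ.2), Complex.conj_conj]
  have hzero : ∑ x, N x * N (x⁻¹ * g) = 0 := by
    refine Finset.sum_eq_zero fun x _ => ?_
    by_contra hne
    obtain ⟨h1, h2⟩ := mul_ne_zero_iff.1 hne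
    obtain ⟨⟨a, b⟩, hab⟩ := Finset.card_ne_zero.1 (Nat.cast_ne_zero.1 h1)
    obtain ⟨⟨c, d⟩, hcd⟩ := Finset.card_ne_zero.1 (Nat.cast_ne_zero.1 h2)
    refine hno a b c d ?_
    rw [(Finset.mem_filter.1 hab).2, (Finset.mem_filter.1 hcd).2, mul_inv_cancel_left]
  have hsum : ∑ ψ : IrrCharacter G, (ψ : G → ℂ) g / (ψ : G → ℂ) 1 ^ 3 = 0 := by
    have h5 : ∑ x, N x * N (x⁻¹ * g) = (Nat.card G : ℂ) ^ 3 * ∑ ψ : IrrCharacter G, (ψ : G → ℂ) g / (ψ : G → ℂ) 1 ^ 3 := by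
      calc ∑ x, N x * N (x⁻¹ * g) = (Nat.card G : ℂ) * ∑ ψ : IrrCharacter G, (∑ x, N x * (ψ : G → ℂ) (x⁻¹ * g)) / (ψ : G → ℂ) 1 := by
            conv_lhs => enter [2, x]; rw [hN (x⁻¹ * g)]
            simp only [Finset.mul_sum, Finset.sum_div]
            rw [Finset.sum_comm]
            exact Finset.sum_congr rfl fun χ _ => Finset.sum_congr rfl fun x _ => by ring
        _ = _ := by
            rw [Finset.mul_sum, Finset.mul_sum]
            exact Finset.sum_congr rfl fun ψ _ => by rw [hconv ψ]; ring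
    rw [hzero, eq_comm, mul_eq_zero] at h5
    exact h5.resolve_left (pow_ne_zero _ hk)
  rw [← Finset.add_sum_erase _ _ (Finset.mem_univ one), add_eq_zero_iff_eq_neg] at hsum
  simp only [hone, one_pow, div_one] at hsum
  rw [← Finset.add_sum_erase _ _ (Finset.mem_univ one)] at h
  simp only [hone, norm_one, one_pow, div_one] at h
  rw [← hone] at h hsum
  have h6 : (1 : ℝ) ≤ ∑ χ ∈ Finset.univ.erase one, 1 / ‖(χ : G → ℂ) 1‖ ^ 2 := by
    calc (1 : ℝ) = ‖∑ ψ ∈ Finset.univ.erase one, (ψ : G → ℂ) g / (ψ : G → ℂ) 1 ^ 3‖ := by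
          rw [← norm_neg, ← hsum, norm_one]
      _ ≤ ∑ ψ ∈ Finset.univ.erase one, ‖(ψ : G → ℂ) g / (ψ : G → ℂ) 1 ^ 3‖ := norm_sum_le _ _
      _ ≤ _ := by
          refine Finset.sum_le_sum fun ψ _ => ?_
          have hb : ‖(ψ : G → ℂ) g‖ ≤ ‖(ψ : G → ℂ) 1‖ := IsCharacter.norm_le (IsIrrCharacter.isCharacter ψ.2) g
          have hpos : 0 < ‖(ψ : G → ℂ) 1‖ := norm_pos_iff.2 (IsIrrCharacter.apply_one_ne_zero ψ.2)
          rw [norm_div, norm_pow, div_le_div_iff₀ (by positivity) (by positivity), one_mul]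
          calc ‖(ψ : G → ℂ) g‖ * ‖(ψ : G → ℂ) 1‖ ^ 2 ≤ ‖(ψ : G → ℂ) 1‖ * ‖(ψ : G → ℂ) 1‖ ^ 2 :=
                mul_le_mul_of_nonneg_right hb (by positivity)
            _ = _ := by ring
  linarith

end Cfsg.Agent.S4814
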