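import Cfsg.Statements.S4825
import Cfsg.Agent.Lib.Block.SecondMain
import Cfsg.Agent.Lib.Block.PPart
import Cfsg.Agent.Lib.Block.Congr
import Cfsg.Agent.Lib.Block.Regular
import Cfsg.Agent.Lib.Block.Height
import Cfsg.Agent.Lib.Char.Clifford

set_option autoImplicit false
open Cfsg

namespace Cfsg.Agent.S4825

open Cfsg.Agent.Block Cfsg.Agent.Char

/-- Let p be a prime, G a finite group with Sylow p-subgroup P, M a maximal ideal of the algebraic integers containing p, and B a p-block of G with defect group P. Let N be a normal subgroup of G not containing P and θ an irreducible character of N. Then the number of irreducible characters in B of degree prime to p lying over θ (having θ as a constituent on restriction to N) is either 0 or at least 2, and when p ≤ 3 it is divisible by p. -/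
theorem result {G : Type*} [Group G] [Fintype G] (p : ℕ) [Fact p.Prime] (P : Sylow p G) (M : Ideal Cfsg.AlgInt) (hM : Cfsg.IsPModular p M) (B : Set (Cfsg.IrrCharacter G)) (hB : Cfsg.IsPBlock M B) (hBP : Cfsg.IsDefectGroup p M B P) (N : Subgroup G) [N.Normal] [Fintype N] (hPN : ¬ (P : Subgroup G) ≤ N) (θ : Cfsg.IrrCharacter N) :
    (Nat.card {χ : Cfsg.IrrCharacter G // χ ∈ B ∧ ¬ p ∣ Cfsg.charDegree (χ : G → ℂ) ∧ Cfsg.classInner (fun n : N => (χ : G → ℂ) n) (θ : N → ℂ) ≠ 0} = 0 ∨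
      2 ≤ Nat.card {χ : Cfsg.IrrCharacter G // χ ∈ B ∧ ¬ p ∣ Cfsg.charDegree (χ : G → ℂ) ∧ Cfsg.classInner (fun n : N => (χ : G → ℂ) n) (θ : N → ℂ) ≠ 0}) ∧
    (p ≤ 3 → p ∣ Nat.card {χ : Cfsg.IrrCharacter G // χ ∈ B ∧ ¬ p ∣ Cfsg.charDegree (χ : G → ℂ) ∧ Cfsg.classInner (fun n : N => (χ : G → ℂ) n) (θ : N → ℂ) ≠ 0}) := by
  classical
  haveI := Fintype.ofFinite (IrrCharacter G)
  haveI := prime_of_isPModular hM
  have hp := (Fact.out : p.Prime)
  obtain ⟨y, hyP, hyN⟩ : ∃ y ∈ (P : Subgroup G), y ∉ N := by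
    by_contra h
    push Not at h
    exact hPN h
  obtain ⟨j, hj⟩ := P.2 ⟨y, hyP⟩
  have hyp : ∃ k : ℕ, orderOf y = p ^ k := by
    have h1 : orderOf y ∣ p ^ j := orderOf_dvd_of_pow_eq_one (congrArg Subtype.val hj)
    obtain ⟨k, -, hk⟩ := (Nat.dvd_prime_pow hp).1 h1
    exact ⟨k, hk⟩
  have hypart : IsPPart p y y := ⟨1, mul_one y, Commute.one_right y, hyp, by rw [orderOf_one]; exact hp.not_dvd_one⟩
  have hker : ∀ n : N, blockKernel B (n : G) y = 0 := fun n => by
    obtain ⟨x, z, hz, hxz, hxo, hzp, hxn, -⟩ := exists_isPPart hp (n : G)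
    have hx : IsPPart p (n : G) x := ⟨z, hz, hxz, hxo, hzp⟩
    have hxN : x ∈ N := Subgroup.zpowers_le.2 n.2 hxn
    refine blockKernel_eq_zero_of_sections hM hx hypart (fun hc => hyN ?_) hB
    obtain ⟨t, rfl⟩ := isConj_iff.1 hc
    exact (inferInstance : N.Normal).conj_mem x hxN t
  choose a ha using fun χ : IrrCharacter G => classInner_natCast_of_isCharacter
    (IsCharacter.restrict (IsIrrCharacter.isCharacter χ.2) N) (IsIrrCharacter.isCharacter θ.2)
  set S := B.toFinite.toFinset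
  have hf : ∑ χ ∈ S, (a χ : ℂ) * (starRingEnd ℂ) ((χ : G → ℂ) y) = 0 := by
    simp only [← ha, classInner, mul_assoc, Finset.sum_mul, ← Finset.mul_sum]
    rw [Finset.sum_comm]
    refine mul_eq_zero_of_right _ (Finset.sum_eq_zero fun n _ => ?_)
    have h := hker n
    rw [blockKernel, finsum_mem_eq_finite_toFinset_sum _ B.toFinite] at h
    rw [Finset.sum_congr rfl (g := fun χ : IrrCharacter G => (starRingEnd ℂ) ((θ : N → ℂ) n) * ((χ : G → ℂ) n * (starRingEnd ℂ) ((χ : G → ℂ) y)))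
      (fun χ _ => by ring), ← Finset.mul_sum, h, mul_zero]
  have hdvd : p ∣ ∑ χ ∈ S, a χ * charDegree (χ : G → ℂ) := by
    rw [← memLocalIdeal_natCast_iff hp hM.2.2]
    have h2 : MemLocalIdeal M (∑ χ ∈ S, (a χ : ℂ) * ((χ : G → ℂ) (y⁻¹ * 1) - (χ : G → ℂ) 1)) :=
      memLocalIdeal_sum _ _ fun χ _ => memLocalIdeal_mul_left (natCast_mem _ _)
        (apply_mul_congr hM (IsIrrCharacter.isCharacter χ.2) (by rw [orderOf_inv]; exact hyp) (Commute.one_right _))
    have h3 := memLocalIdeal_mul_left (neg_mem (one_mem (locRing M))) h2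
    simp only [mul_one, mul_sub, Finset.sum_sub_distrib, IsCharacter.map_inv (IsIrrCharacter.isCharacter (Subtype.prop _)), hf] at h3
    convert h3 using 1
    push_cast
    simp only [charDegree_cast (IsIrrCharacter.isCharacter (Subtype.prop _)), neg_mul, one_mul, mul_zero, zero_sub, neg_neg]
  set c := (inertia N (θ : N → ℂ)).index * charDegree (θ : N → ℂ) with hc
  have hdeg : ∀ χ : IrrCharacter G, a χ ≠ 0 → charDegree (χ : G → ℂ) = a χ * c := fun χ h0 => by
    have h := restrict_degree_eq N χ.2 θ.2 (by rw [ha]; exact_mod_cast h0)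
    rw [ha, ← charDegree_cast (IsIrrCharacter.isCharacter χ.2), ← charDegree_cast (IsIrrCharacter.isCharacter θ.2)] at h
    exact_mod_cast h
  set T := S.filter (fun χ : IrrCharacter G => ¬ p ∣ charDegree (χ : G → ℂ) ∧ a χ ≠ 0) with hT
  have hcard : Nat.card {χ : IrrCharacter G // χ ∈ B ∧ ¬ p ∣ charDegree (χ : G → ℂ) ∧
      classInner (fun n : N => (χ : G → ℂ) n) (θ : N → ℂ) ≠ 0} = T.card := by
    rw [← Nat.card_eq_finsetCard]
    refine Nat.card_congr (Equiv.subtypeEquivRight fun χ => ?_)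
    simp [T, S, ha, and_assoc]
  rw [hcard]
  have hsq : p ∣ ∑ χ ∈ T, charDegree (χ : G → ℂ) ^ 2 := by
    have h1 : c * (∑ χ ∈ S, a χ * charDegree (χ : G → ℂ)) = ∑ χ ∈ S.filter (fun χ => a χ ≠ 0), charDegree (χ : G → ℂ) ^ 2 := by
      rw [Finset.mul_sum, Finset.sum_filter]
      refine Finset.sum_congr rfl fun χ _ => ?_
      by_cases h : a χ ≠ 0
      · rw [if_pos h]; conv_rhs => rw [pow_two]; arg 1; rw [hdeg χ h]
        ring
      · rw [if_neg h, not_not.1 h, zero_mul, mul_zero]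
    have h2 : p ∣ ∑ χ ∈ S.filter (fun χ => a χ ≠ 0), charDegree (χ : G → ℂ) ^ 2 := h1 ▸ hdvd.mul_left c
    rw [← Finset.sum_filter_add_sum_filter_not _ (fun χ : IrrCharacter G => ¬ p ∣ charDegree (χ : G → ℂ)), Finset.filter_filter] at h2
    have h3 : p ∣ ∑ χ ∈ (S.filter (fun χ => a χ ≠ 0)).filter (fun χ : IrrCharacter G => ¬¬ p ∣ charDegree (χ : G → ℂ)), charDegree (χ : G → ℂ) ^ 2 :=
      Finset.dvd_sum fun χ hχ => dvd_pow (not_not.1 (Finset.mem_filter.1 hχ).2) two_ne_zero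
    have h4 := (Nat.dvd_add_left h3).1 h2
    rwa [show T = S.filter (fun χ => a χ ≠ 0 ∧ ¬ p ∣ charDegree (χ : G → ℂ)) from Finset.filter_congr fun χ _ => and_comm]
  refine ⟨?_, fun hp3 => ?_⟩
  · rcases Nat.lt_or_ge T.card 2 with h | h
    · left
      rcases Nat.eq_zero_or_pos T.card with h0 | h0
      · exact h0
      · exfalso
        obtain ⟨χ, hχ⟩ := Finset.card_eq_one.1 (show T.card = 1 by omega)
        rw [hχ, Finset.sum_singleton] at hsq
        have hmem : χ ∈ T := hχ ▸ Finset.mem_singleton_self χ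
        exact (Finset.mem_filter.1 hmem).2.1 (hp.dvd_of_dvd_pow hsq)
    · exact Or.inr h
  · have hone : ∀ χ ∈ T, (charDegree (χ : G → ℂ) : ZMod p) ^ 2 = 1 := fun χ hχ => by
      have h0 : (charDegree (χ : G → ℂ) : ZMod p) ≠ 0 := by
        rw [Ne, ZMod.natCast_eq_zero_iff]; exact (Finset.mem_filter.1 hχ).2.1
      have hp' : p = 2 ∨ p = 3 := by have := hp.two_le; omega
      have hf := ZMod.pow_card_sub_one_eq_one h0
      rcases hp' with rfl | rfl
      · rw [show (2:ℕ) - 1 = 1 from rfl, pow_one] at hf; rw [hf, one_pow]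
      · exact hf
    rw [← ZMod.natCast_eq_zero_iff] at hsq ⊢
    push_cast at hsq
    rw [Finset.sum_congr rfl hone, Finset.sum_const, nsmul_eq_mul, mul_one] at hsq
    exact hsq

end Cfsg.Agent.S4825
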