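import Cfsg.Statements.S4828
import Cfsg.Agent.Lib.Block.PairCriterion

set_option autoImplicit false
open Cfsg

namespace Cfsg.Agent.S4828

open Cfsg.Agent.Block Cfsg.Agent.Char

/-- Let p be a prime, M a maximal ideal of the algebraic integers containing p, and (Q, e) a Brauer pair of the finite group G (Q a p-subgroup, e a block of C_G(Q)). Then (Q, e) is a maximal Brauer pair of some block of G if and only if e contains an irreducible character θ such that θ takes the value θ(1) at every element of Z(Q) = Q ∩ C_G(Q), the p-part of θ(1) times the p-part of the order of Z(Q) equals the p-part of the order of C_G(Q) (θ has defect zero as a character of C_G(Q)/Z(Q)), and every element of N_G(Q) of p-power order that stabilizes e lies in Q·C_G(Q) (the stabilizer of e in N_G(Q) has index prime to p over Q·C_G(Q)). -/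
theorem result {G : Type*} [Group G] [Finite G] (p : ℕ) [Fact p.Prime] (M : Ideal Cfsg.AlgInt) (hM : Cfsg.IsPModular p M) (Q : Subgroup G) (e : Set (Cfsg.IrrCharacter (Subgroup.centralizer (Q : Set G)))) (he : Cfsg.IsBrauerPair p M Q e) :
    (∃ B : Set (Cfsg.IrrCharacter G), Cfsg.IsMaximalBrauerPair p M B Q e) ↔
      ∃ θ ∈ e, (∀ z : Subgroup.centralizer (Q : Set G), (z : G) ∈ Q → (θ : Subgroup.centralizer (Q : Set G) → ℂ) z = (θ : Subgroup.centralizer (Q : Set G) → ℂ) 1) ∧
        (Cfsg.charDegree (θ : Subgroup.centralizer (Q : Set G) → ℂ)).factorization p + (Nat.card ↥(Q ⊓ Subgroup.centralizer (Q : Set G))).factorization p = (Nat.card (Subgroup.centralizer (Q : Set G))).factorization p ∧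
        (∀ g : G, g ∈ Subgroup.normalizer (Q : Set G) → Cfsg.StabilizesBlock (Subgroup.centralizer (Q : Set G)) e g → (∃ k : ℕ, orderOf g = p ^ k) → g ∈ Q ⊔ Subgroup.centralizer (Q : Set G)) := by
  haveI := prime_of_isPModular hM
  haveI := Fintype.ofFinite G
  haveI := Fintype.ofFinite (Subgroup.centralizer (Q : Set G))
  haveI := zc_normal (Q := Q)
  haveI := Fintype.ofFinite ((Q ⊓ Subgroup.centralizer (Q : Set G)).subgroupOf (Subgroup.centralizer (Q : Set G)))
  have hZp : IsPGroup p ((Q ⊓ Subgroup.centralizer (Q : Set G)).subgroupOf (Subgroup.centralizer (Q : Set G))) :=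
    (he.1.to_le inf_le_left).comap_subtype
  have hcard : Nat.card ((Q ⊓ Subgroup.centralizer (Q : Set G)).subgroupOf (Subgroup.centralizer (Q : Set G))) =
      Nat.card ↥(Q ⊓ Subgroup.centralizer (Q : Set G)) :=
    Nat.card_congr (Subgroup.subgroupOfEquivOfLe inf_le_right).toEquiv
  -- the index of the centre of Q in the centralizer
  have hidx : (Nat.card (Subgroup.centralizer (Q : Set G))).factorization p =
      ((Q ⊓ Subgroup.centralizer (Q : Set G)).subgroupOf (Subgroup.centralizer (Q : Set G))).index.factorization p +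
        (Nat.card ↥(Q ⊓ Subgroup.centralizer (Q : Set G))).factorization p := by
    rw [← ((Q ⊓ Subgroup.centralizer (Q : Set G)).subgroupOf (Subgroup.centralizer (Q : Set G))).index_mul_card,
      hcard, Nat.factorization_mul Subgroup.index_ne_zero_of_finite Nat.card_pos.ne']
    rfl
  constructor
  · rintro ⟨B, hmax⟩
    obtain ⟨D, hD⟩ := exists_isDefectGroup (p := p) he.2
    have hDZ := defectGroup_eq_of_maximal hM hmax hD
    subst hDZ
    obtain ⟨-, θ, hθ, hker⟩ := exists_mem_ker_normal hM hZp he.2
    obtain ⟨hc, -⟩ := coreChar_of_defectGroup hM hZp zc_sup_centralizer he.2 hD hθ hker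
    refine ⟨θ, hθ, fun z hz => hker z ⟨hz, z.2⟩, ?_, fun g hg hst hgp => mem_sup_of_maximal hM hmax hg hst hgp⟩
    have := hc.deg
    omega
  · rintro ⟨θ, hθ, hker, hdeg, hT⟩
    obtain ⟨ξ, hξ⟩ := isPBlock_nonempty he.2
    obtain ⟨B, ⟨hB, h1⟩, -⟩ := (isResHom_lam_centralizer hM he.1 ξ).existsUnique_block
    refine ⟨B, maximal_of_criterion hM ((isBrauerPairOf_iff hξ).2 ⟨he, hB, h1⟩)
      (isDefectGroup_of_coreChar hM hZp zc_sup_centralizer he.2 hθ
        ⟨fun z hz => hker z hz.1, by omega⟩) hT⟩

end Cfsg.Agent.S4828
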