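import Cfsg.Statements.S4835
import Cfsg.Agent.Lib.Block.TwoClass

set_option autoImplicit false
open Cfsg

namespace Cfsg.Agent.S4835

open Cfsg.Agent.Block Cfsg.Agent.Char

/-- Let G be a finite group of order greater than 2 with an irreducible character χ that is nonzero on exactly two conjugacy classes. Then G has a unique minimal normal subgroup N; N is an elementary abelian p-group for some prime p; χ is nonzero exactly at the elements of N; and any two nonidentity elements of N are conjugate in G. -/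
theorem result {G : Type*} [Group G] [Finite G] (hG : 2 < Nat.card G) (χ : Cfsg.IrrCharacter G) (hχ : Nat.card {C : ConjClasses G // ∃ g ∈ C.carrier, (χ : G → ℂ) g ≠ 0} = 2) :
    ∃ N : Subgroup G, N.Normal ∧ N ≠ ⊥ ∧ (∀ K : Subgroup G, K.Normal → K ≠ ⊥ → N ≤ K) ∧
      (∃ p : ℕ, p.Prime ∧ Cfsg.IsElementaryAbelian p N) ∧
      (∀ g : G, (χ : G → ℂ) g ≠ 0 ↔ g ∈ N) ∧
      (∀ x ∈ N, ∀ y ∈ N, x ≠ 1 → y ≠ 1 → ∃ g : G, g * x * g⁻¹ = y) := by
  classical
  obtain ⟨D⟩ := exists_twoClassData hG χ hχ
  haveI := D.support_normal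
  have hne : D.support ≠ ⊥ := fun e => D.x_ne (by simpa [e] using D.x_mem_support)
  refine ⟨D.support, D.support_normal, hne, fun K hK hK1 => @TwoClassData.support_le _ _ _ _ D K hK hK1, ?_, fun g => (D.mem_support g).symm, fun x hx y hy hx1 hy1 => isConj_iff.1 (D.isConj_of_mem hx hy hx1 hy1)⟩
  have h1 : 1 < Nat.card D.support := (Subgroup.one_lt_card_iff_ne_bot _).2 hne
  set p := (Nat.card D.support).minFac with hp'
  have hp : p.Prime := Nat.minFac_prime h1.ne'
  haveI : Fact p.Prime := ⟨hp⟩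
  obtain ⟨z, hz⟩ := exists_prime_orderOf_dvd_card' (G := D.support) p (Nat.minFac_dvd _)
  have hz1 : (z : G) ≠ 1 := fun e => hp.one_lt.ne (by rw [← hz, ← Subgroup.orderOf_coe, e, orderOf_one])
  have hord : ∀ a ∈ D.support, a ^ p = 1 := by
    intro a ha
    rcases eq_or_ne a 1 with rfl | ha1
    · exact one_pow p
    obtain ⟨c, hc⟩ := isConj_iff.1 (D.isConj_of_mem z.2 ha hz1 ha1)
    rw [← hc, conj_pow, show (z : G) ^ p = 1 from by rw [← hz, ← Subgroup.orderOf_coe]; exact pow_orderOf_eq_one _, mul_one, mul_inv_cancel]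
  refine ⟨p, hp, ?_, hord⟩
  have hP : IsPGroup p D.support := fun a => ⟨1, Subtype.ext (by rw [pow_one, SubmonoidClass.coe_pow, OneMemClass.coe_one]; exact hord a a.2)⟩
  haveI : Nontrivial D.support := (Subgroup.nontrivial_iff_ne_bot _).2 hne
  haveI := hP.center_nontrivial
  set C := (Subgroup.center D.support).map D.support.subtype with hC
  haveI : C.Normal := inferInstance
  have hC1 : C ≠ ⊥ := by
    rw [hC, ne_eq, Subgroup.map_eq_bot_iff_of_injective _ D.support.subtype_injective, ← ne_eq, ← Subgroup.nontrivial_iff_ne_bot]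
    infer_instance
  refine ⟨⟨fun a b => ?_⟩⟩
  obtain ⟨a', ha', e⟩ := D.support_le C hC1 a.2
  have : a' = a := Subtype.ext e
  rw [← this]
  exact (Subgroup.mem_center_iff.1 ha' b).symm

end Cfsg.Agent.S4835
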