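import Cfsg.Statements.S4837
import Cfsg.Agent.Lib.Block.TwoClass
import Cfsg.Agent.Lib.Char.DegreeIndex

set_option autoImplicit false
open Cfsg

namespace Cfsg.Agent.S4837

open Cfsg.Agent.Block Cfsg.Agent.Char

/-- Let G be a finite group of order greater than 2 with an irreducible character χ nonzero on exactly two conjugacy classes, and let N be the set of elements where χ is nonzero, given as a nontrivial normal p-subgroup of G for the prime p. Then for every nonidentity x in N the centralizer C_G(x) is a Sylow p-subgroup of G, and for every irreducible character λ ≠ 1 of N the stabilizer of λ in G (its inertia group) is a Sylow p-subgroup of G. -/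
theorem result {G : Type*} [Group G] [Finite G] (hG : 2 < Nat.card G) (χ : Cfsg.IrrCharacter G) (hχ : Nat.card {C : ConjClasses G // ∃ g ∈ C.carrier, (χ : G → ℂ) g ≠ 0} = 2) (p : ℕ) [Fact p.Prime] (N : Subgroup G) [N.Normal] (hN : ∀ g : G, g ∈ N ↔ (χ : G → ℂ) g ≠ 0) (hNp : IsPGroup p N) (hN1 : N ≠ ⊥) :
    (∀ x ∈ N, x ≠ 1 → ∃ P : Sylow p G, Subgroup.centralizer ({x} : Set G) = P) ∧
      (∀ μ : Cfsg.IrrCharacter N, (μ : N → ℂ) ≠ (fun _ => (1 : ℂ)) → ∃ P : Sylow p G, ∀ g : G, g ∈ (P : Subgroup G) ↔ ∀ n n' : N, (n' : G) = g * n * g⁻¹ → (μ : N → ℂ) n' = (μ : N → ℂ) n) := by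
  classical
  haveI := Fintype.ofFinite G
  haveI := Fintype.ofFinite N
  obtain ⟨D⟩ := exists_twoClassData hG χ hχ
  have hp : p.Prime := Fact.out
  have hNS : N = D.support := Subgroup.ext fun g => (hN g).trans (D.mem_support g).symm
  obtain ⟨n, hn⟩ := IsPGroup.iff_card.1 hNp
  have hk1 : p ^ n = D.k + 1 := by rw [← hn, hNS, D.card_support]
  have hn0 : 0 < n := Nat.pos_of_ne_zero fun e => by
    rw [e, pow_zero] at hk1
    have := D.k_pos; omega
  have hkp : ¬ p ∣ D.k := fun hd => hp.one_lt.ne' (Nat.dvd_one.1 ((Nat.dvd_add_right hd).1 (hk1 ▸ dvd_pow_self p hn0.ne')))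
  have hkmG : Nat.card G = D.k * (D.m ^ 2 * p ^ n) := by rw [D.card_eq, hk1]; ring
  have hm : ∃ j, D.m = p ^ j := by
    refine ⟨_, Nat.eq_prime_pow_of_unique_prime_dvd D.m_pos.ne' fun {q} hq hqm => ?_⟩
    by_contra hqp
    haveI : Fact q.Prime := ⟨hq⟩
    obtain ⟨Q⟩ := Sylow.nonempty (p := q) (G := G)
    obtain ⟨t, ht⟩ := card_dvd_degree_of_vanish (IsIrrCharacter.isCharacter χ.2) (Q : Subgroup G) (by
      intro g hg hg1
      by_contra hgne
      obtain ⟨i, hi⟩ := IsPGroup.iff_orderOf.1 Q.isPGroup' ⟨g, hg⟩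
      obtain ⟨j, hj⟩ := IsPGroup.iff_orderOf.1 hNp ⟨g, (hN g).2 hgne⟩
      rw [Subgroup.orderOf_mk] at hi hj
      have : Nat.Coprime (q ^ i) (p ^ j) := ((Nat.coprime_primes hq hp).2 hqp).pow i j
      rw [← hi, ← hj, Nat.coprime_self] at this
      exact hg1 (orderOf_eq_one_iff.1 this))
    have hdvd : Nat.card (Q : Subgroup G) ∣ D.k * D.m := ⟨t, by
      rw [← D.degree]
      exact_mod_cast (charDegree_cast (IsIrrCharacter.isCharacter χ.2)).trans ht⟩
    rw [Q.card_eq_multiplicity, hq.pow_dvd_iff_le_factorization (Nat.mul_ne_zero D.k_pos.ne' D.m_pos.ne'), hkmG,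
      Nat.factorization_mul D.k_pos.ne' (Nat.mul_ne_zero (pow_ne_zero _ D.m_pos.ne') (pow_ne_zero _ hp.ne_zero)),
      Nat.factorization_mul (pow_ne_zero _ D.m_pos.ne') (pow_ne_zero _ hp.ne_zero),
      Nat.factorization_mul D.k_pos.ne' D.m_pos.ne', Nat.factorization_pow, Nat.factorization_pow] at hdvd
    simp only [Finsupp.add_apply, Finsupp.smul_apply, smul_eq_mul, hp.factorization, Finsupp.single_apply, if_neg (Ne.symm hqp), mul_zero, add_zero] at hdvd
    have hpos := hq.factorization_pos_of_dvd D.m_pos.ne' hqm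
    omega
  obtain ⟨j, hj⟩ := hm
  have hfull : (Nat.card G).factorization p = 2 * j + n := by
    rw [hkmG, hj, ← pow_mul, ← pow_add, Nat.factorization_mul D.k_pos.ne' (pow_ne_zero _ hp.ne_zero),
      Finsupp.add_apply, Nat.factorization_eq_zero_of_not_dvd hkp, hp.factorization_pow, Finsupp.single_eq_same]
    ring
  have hsyl : ∀ H : Subgroup G, H.index = D.k → ∃ P : Sylow p G, H = (P : Subgroup G) := by
    intro H hH
    have hc : Nat.card H = p ^ (Nat.card G).factorization p := by
      have := H.card_mul_index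
      rw [hH, hkmG, hj, ← pow_mul, ← pow_add, mul_comm (Nat.card H)] at this
      rw [hfull, Nat.eq_of_mul_eq_mul_left D.k_pos this, mul_comm j 2]
    exact ⟨Sylow.ofCard H hc, (Sylow.coe_ofCard H hc).symm⟩
  constructor
  · intro x hx hx1
    refine hsyl _ ?_
    rw [← card_isConj_eq_index x, ← D.card_class]
    have hc : IsConj D.x x := ((D.ne_zero_iff x).1 ((hN x).1 hx)).resolve_left hx1
    refine Nat.card_congr (Equiv.subtypeEquivRight fun g => ⟨fun e => hc.trans e, fun e => hc.symm.trans e⟩)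
  · intro μ hμ
    have hab : ∀ a b : N, a * b = b * a := by
      haveI : Nontrivial N := (Subgroup.nontrivial_iff_ne_bot _).2 hN1
      haveI := hNp.center_nontrivial
      set C := (Subgroup.center N).map N.subtype with hC
      haveI : C.Normal := inferInstance
      have hC1 : C ≠ ⊥ := by
        rw [hC, ne_eq, Subgroup.map_eq_bot_iff_of_injective _ N.subtype_injective, ← ne_eq, ← Subgroup.nontrivial_iff_ne_bot]
        infer_instance
      intro a b
      have hmem : (a : G) ∈ D.support := by rw [← hNS]; exact a.2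
      obtain ⟨a', ha', e⟩ := D.support_le C hC1 hmem
      have : a' = a := Subtype.ext e
      rw [← this]
      exact (Subgroup.mem_center_iff.1 ha' b).symm
    have hμ1 : (μ : N → ℂ) 1 = 1 := IsIrrCharacter.degree_one_of_comm μ.2 hab
    have hsum0 : ∑ a : N, (starRingEnd ℂ) ((μ : N → ℂ) a) = 0 := by
      have h := IsIrrCharacter.classInner_eq_zero μ.2 (isIrrCharacter_one (G := N)) hμ
      rw [classInner, mul_eq_zero] at h
      have h' := h.resolve_left (inv_ne_zero (Nat.cast_ne_zero.2 Nat.card_pos.ne'))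
      simp only [Pi.one_apply, map_one, mul_one] at h'
      rw [← map_sum, h', map_zero]
    have hcon : classInner (fun a : N => (χ : G → ℂ) a) (μ : N → ℂ) = (D.m : ℂ) := by
      rw [classInner, ← Finset.add_sum_erase _ _ (Finset.mem_univ (1 : N)),
        Finset.sum_congr rfl (g := fun a : N => -(D.m : ℂ) * (starRingEnd ℂ) ((μ : N → ℂ) a)) fun a ha => by
          rw [D.value _ (((D.ne_zero_iff (a : G)).1 ((hN a).1 a.2)).resolve_left fun e => Finset.ne_of_mem_erase ha (Subtype.ext e))],
        ← Finset.mul_sum, Finset.sum_erase_eq_sub (Finset.mem_univ _), hsum0, hμ1, OneMemClass.coe_one,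
        ← charDegree_cast (IsIrrCharacter.isCharacter χ.2), D.degree, hn, hk1]
      have : ((D.k : ℂ) + 1) ≠ 0 := by exact_mod_cast (Nat.succ_ne_zero D.k)
      push_cast
      simp only [map_one]
      field_simp
      ring
    have hmne : (D.m : ℂ) ≠ 0 := Nat.cast_ne_zero.2 D.m_pos.ne'
    have hdeg := restrict_degree_eq N χ.2 μ.2 (by rw [hcon]; exact hmne)
    rw [hcon, hμ1, mul_one, ← charDegree_cast (IsIrrCharacter.isCharacter χ.2), D.degree, Nat.cast_mul, mul_comm] at hdeg
    obtain ⟨P, hP⟩ := hsyl (inertia N (μ : N → ℂ)) (by exact_mod_cast (mul_left_cancel₀ hmne hdeg).symm)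
    refine ⟨P, fun g => ?_⟩
    rw [← hP, mem_inertia, funext_iff]
    refine ⟨fun h a a' e => ?_, fun h a => h a _ rfl⟩
    rw [← h a]
    exact congrArg (μ : N → ℂ) (Subtype.ext e)

end Cfsg.Agent.S4837
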