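import Cfsg.Statements.S4838
import Cfsg.Agent.Lib.Block.TwoClass
import Cfsg.Agent.Lib.Block.CentralQuotientBlock
import Cfsg.Agent.S4837

set_option autoImplicit false
open Cfsg

namespace Cfsg.Agent.S4838

open Cfsg.Agent.Block Cfsg.Agent.Char
open scoped commutatorElement

/-- Let G be a finite group of order greater than 2 with an irreducible character χ nonzero on exactly two conjugacy classes, N the normal p-subgroup of elements where χ is nonzero, and P a Sylow p-subgroup of G. Then (a) for every x outside N the centralizer of x in G has the same order as the centralizer of xN in G/N; (b) the centre of P lies in N, and equals N exactly when P is normal in G; (c) N, viewed inside P, is a term of the upper central series of P. -/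
theorem result {G : Type*} [Group G] [Finite G] (hG : 2 < Nat.card G) (χ : Cfsg.IrrCharacter G) (hχ : Nat.card {C : ConjClasses G // ∃ g ∈ C.carrier, (χ : G → ℂ) g ≠ 0} = 2) (p : ℕ) [Fact p.Prime] (N : Subgroup G) [N.Normal] (hN : ∀ g : G, g ∈ N ↔ (χ : G → ℂ) g ≠ 0) (hNp : IsPGroup p N) (hN1 : N ≠ ⊥) (P : Sylow p G) :
    (∀ x : G, x ∉ N → Nat.card (Subgroup.centralizer ({x} : Set G)) = Nat.card (Subgroup.centralizer ({(x : G ⧸ N)} : Set (G ⧸ N)))) ∧
      ((Subgroup.center ↥(P : Subgroup G)).map (P : Subgroup G).subtype ≤ N ∧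
        ((Subgroup.center ↥(P : Subgroup G)).map (P : Subgroup G).subtype = N ↔ (P : Subgroup G).Normal)) ∧
      (∃ i : ℕ, Subgroup.upperCentralSeries ↥(P : Subgroup G) i = N.subgroupOf (P : Subgroup G)) := by
  classical
  haveI := Fintype.ofFinite G
  haveI := Fintype.ofFinite (IrrCharacter G)
  haveI := Fintype.ofFinite (IrrCharacter (G ⧸ N))
  haveI : ∀ a b : G, Decidable (IsConj a b) := fun a b => Classical.propDecidable _
  haveI : ∀ a b : G ⧸ N, Decidable (IsConj a b) := fun a b => Classical.propDecidable _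
  obtain ⟨D⟩ := exists_twoClassData hG χ hχ
  have hp : p.Prime := Fact.out
  have hNS : N = D.support := Subgroup.ext fun g => (hN g).trans (D.mem_support g).symm
  -- the centralisers outside `N`
  have part1 : ∀ x : G, x ∉ N → Nat.card (Subgroup.centralizer ({x} : Set G)) = Nat.card (Subgroup.centralizer ({(x : G ⧸ N)} : Set (G ⧸ N))) := by
    intro x hx
    have h1 := second_orthogonality x x
    have h2 := second_orthogonality (x : G ⧸ N) (x : G ⧸ N)
    rw [if_pos (IsConj.refl _)] at h1 h2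
    apply Nat.cast_injective (R := ℂ)
    rw [← h1, ← h2]
    have hχx : (χ : G → ℂ) x = 0 := by
      by_contra h
      exact hx ((hN x).2 h)
    rw [← Finset.add_sum_erase _ _ (Finset.mem_univ χ), hχx, zero_mul, zero_add]
    have hker : ∀ ψ : IrrCharacter G, ψ ≠ χ → ∀ g ∈ N, ∀ y, (ψ : G → ℂ) (g * y) = (ψ : G → ℂ) y := fun ψ hψ g hg y =>
      (IsCharacter.apply_mul_of_eq_one (IsIrrCharacter.isCharacter ψ.2) ((D.mem_iff_others g).1 ((hN g).1 hg) ψ hψ) y).left
    choose f hf using fun (ψ : IrrCharacter G) (hψ : ψ ∈ Finset.univ.erase χ) => exists_factor_quotient N ψ (hker ψ (Finset.ne_of_mem_erase hψ))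
    refine Finset.sum_bij f (fun a ha => Finset.mem_univ _) (fun a ha b hb e => Subtype.ext (funext fun g => by rw [← hf a ha g, e, hf b hb g])) (fun φ _ => ?_) (fun a ha => by rw [hf a ha x])
    let ψ : IrrCharacter G := ⟨fun g => (φ : G ⧸ N → ℂ) (QuotientGroup.mk g), isIrrCharacter_comp_surjective (QuotientGroup.mk' N) (QuotientGroup.mk'_surjective N) φ.2⟩
    have hψ : ψ ≠ χ := by
      intro e
      obtain ⟨v, hv, hv1⟩ := (Subgroup.ne_bot_iff_exists_ne_one.1 hN1).elim fun v hv => (⟨v.1, v.2, fun e => hv (Subtype.ext e)⟩ : ∃ v ∈ N, v ≠ 1)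
      refine hv1 (D.faithful v ?_)
      rw [← e]
      show (φ : G ⧸ N → ℂ) (QuotientGroup.mk v) = (φ : G ⧸ N → ℂ) (QuotientGroup.mk 1)
      rw [(QuotientGroup.eq_one_iff v).2 hv, QuotientGroup.mk_one]
    have hm : ψ ∈ Finset.univ.erase χ := Finset.mem_erase.2 ⟨hψ, Finset.mem_univ _⟩
    refine ⟨ψ, hm, Subtype.ext (funext fun q => ?_)⟩
    obtain ⟨g, rfl⟩ := QuotientGroup.mk_surjective q
    exact hf ψ hm g
  obtain ⟨n, hn⟩ := IsPGroup.iff_card.1 hNp
  have hNP : N ≤ (P : Subgroup G) := hNp.le_sylow_of_normal P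
  -- elements of `P` outside `N` have many conjugates in `P`
  have key : ∀ x ∈ (P : Subgroup G), x ∉ N → ∀ Z : Subgroup G, (∀ y ∈ (P : Subgroup G), ⁅x, y⁆ ∈ Z) → Z ≤ N → Z = N := by
    intro x hxP hx Z hZ hZN
    by_contra hne
    have hlt : Nat.card Z < Nat.card N := lt_of_le_of_ne (Subgroup.card_le_of_le hZN) fun e => hne (Subgroup.eq_of_le_of_card_ge hZN e.ge)
    set Cx := (Subgroup.centralizer ({x} : Set G)).subgroupOf (P : Subgroup G) with hCx
    have hidx : Cx.index ≤ Nat.card Z := by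
      rw [Subgroup.index_eq_card]
      refine Nat.card_le_card_of_injective (Quotient.lift (fun y : (P : Subgroup G) => (⟨⁅x, (y : G)⁆, hZ y y.2⟩ : Z)) ?_) ?_
      · intro a b hab
        refine Subtype.ext ?_
        have h := Subgroup.mem_centralizer_singleton_iff.1 (Subgroup.mem_subgroupOf.1 (QuotientGroup.leftRel_apply.1 hab))
        simp only [Subgroup.coe_mul, InvMemClass.coe_inv] at h
        show ⁅x, (a : G)⁆ = ⁅x, (b : G)⁆
        rw [commutatorElement_def, commutatorElement_def]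
        calc x * (a : G) * x⁻¹ * (a : G)⁻¹ = x * (a : G) * x⁻¹ * ((a : G)⁻¹ * (b : G)) * (b : G)⁻¹ := by group
          _ = x * (a : G) * (((a : G)⁻¹ * (b : G)) * x⁻¹) * (b : G)⁻¹ := by rw [mul_assoc (x * (a : G)), show x⁻¹ * ((a : G)⁻¹ * (b : G)) = ((a : G)⁻¹ * (b : G)) * x⁻¹ from ((Commute.inv_left (show Commute x ((a : G)⁻¹ * b) from h.symm))).eq]
          _ = x * (b : G) * x⁻¹ * (b : G)⁻¹ := by group
      · rintro ⟨a⟩ ⟨b⟩ e
        refine Quotient.sound (QuotientGroup.leftRel_apply.2 (Subgroup.mem_subgroupOf.2 (Subgroup.mem_centralizer_singleton_iff.2 ?_)))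
        have e' : x * (a : G) * x⁻¹ * (a : G)⁻¹ = x * (b : G) * x⁻¹ * (b : G)⁻¹ := congrArg Subtype.val e
        simp only [Subgroup.coe_mul, InvMemClass.coe_inv]
        have h9 : (a : G) * x⁻¹ * (a : G)⁻¹ = (b : G) * x⁻¹ * (b : G)⁻¹ := by
          simpa [mul_assoc] using e'
        calc (a : G)⁻¹ * (b : G) * x = (a : G)⁻¹ * ((b : G) * x⁻¹ * (b : G)⁻¹)⁻¹ * b := by group
          _ = (a : G)⁻¹ * ((a : G) * x⁻¹ * (a : G)⁻¹)⁻¹ * b := by rw [h9]
          _ = x * ((a : G)⁻¹ * b) := by group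
    have hsub : Nat.card Cx ∣ Nat.card (Subgroup.centralizer ({x} : Set G)) :=
      Nat.card_congr (Subgroup.equivMapOfInjective Cx _ (P : Subgroup G).subtype_injective).toEquiv ▸
        Subgroup.card_dvd_of_le (by rintro _ ⟨y, hy, rfl⟩; exact hy)
    rw [part1 x hx] at hsub
    have hsub2 : Nat.card Cx ∣ Nat.card (G ⧸ N) := hsub.trans (Subgroup.card_subgroup_dvd_card _)
    obtain ⟨i, hi⟩ := IsPGroup.iff_card.1 (P.isPGroup'.to_subgroup Cx)
    rw [hi, hp.pow_dvd_iff_le_factorization Nat.card_pos.ne', ← Subgroup.index_eq_card] at hsub2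
    have hfac : n + N.index.factorization p = (Nat.card G).factorization p := by
      rw [← N.card_mul_index, hn, Nat.factorization_mul (pow_ne_zero _ hp.ne_zero) Subgroup.index_ne_zero_of_finite,
        Finsupp.add_apply, hp.factorization_pow, Finsupp.single_eq_same]
    have hP := Cx.card_mul_index
    rw [P.card_eq_multiplicity, hi, ← hfac] at hP
    rw [hn] at hlt
    have h5 : p ^ (n + N.index.factorization p) < p ^ i * p ^ n := by
      rw [← hP]
      exact Nat.mul_lt_mul_of_pos_left (hidx.trans_lt hlt) (pow_pos hp.pos i)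
    rw [← pow_add] at h5
    have := (Nat.pow_lt_pow_iff_right hp.one_lt).1 h5
    omega
  have hZ : (Subgroup.center ↥(P : Subgroup G)).map (P : Subgroup G).subtype ≤ N := by
    rintro _ ⟨z, hz, rfl⟩
    by_contra hzN
    have := key z z.2 hzN ⊥ (fun y hy => by
      rw [Subgroup.mem_bot, commutatorElement_eq_one_iff_mul_comm]
      exact congrArg Subtype.val (Subgroup.mem_center_iff.1 hz ⟨y, hy⟩).symm) bot_le
    exact hN1 this.symm
  refine ⟨part1, ⟨hZ, ?_, ?_⟩, ?_⟩
  · intro heq
    refine ⟨fun y hy g => ?_⟩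
    obtain ⟨v, hv, hv1⟩ := (Subgroup.ne_bot_iff_exists_ne_one.1 hN1).elim fun v hv => (⟨v.1, v.2, fun e => hv (Subtype.ext e)⟩ : ∃ v ∈ N, v ≠ 1)
    have hcent : ∀ w ∈ N, w ≠ 1 → Subgroup.centralizer ({w} : Set G) = (P : Subgroup G) := by
      intro w hw hw1
      obtain ⟨Q, hQ⟩ := (Cfsg.Agent.S4837.result hG χ hχ p N hN hNp hN1).1 w hw hw1
      rw [hQ]
      refine (Subgroup.eq_of_le_of_card_ge (fun a ha => hQ ▸ Subgroup.mem_centralizer_singleton_iff.2 ?_) ?_).symm
      · rw [P.card_eq_multiplicity, Q.card_eq_multiplicity]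
      · obtain ⟨z, hz, hzw⟩ := heq.symm ▸ hw
        rw [← hzw]
        exact congrArg Subtype.val (Subgroup.mem_center_iff.1 hz ⟨a, ha⟩)
    have h1 : g * v * g⁻¹ ∈ N := (inferInstance : N.Normal).conj_mem v hv g
    have h2 := hcent _ h1 (by simpa using hv1)
    rw [← h2, Subgroup.mem_centralizer_singleton_iff]
    have h3 : y * v = v * y := Subgroup.mem_centralizer_singleton_iff.1 ((hcent v hv hv1).symm ▸ hy)
    calc g * y * g⁻¹ * (g * v * g⁻¹) = g * (y * v) * g⁻¹ := by group
      _ = g * v * g⁻¹ * (g * y * g⁻¹) := by rw [h3]; group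
  · intro hPn
    haveI := hPn
    refine le_antisymm hZ ?_
    rw [hNS]
    refine D.support_le _ ?_
    rw [ne_eq, Subgroup.map_eq_bot_iff_of_injective _ (P : Subgroup G).subtype_injective, ← ne_eq, ← Subgroup.nontrivial_iff_ne_bot]
    haveI : Nontrivial (P : Subgroup G) := (Subgroup.nontrivial_iff_ne_bot _).2 fun e => hN1 (le_bot_iff.1 (e ▸ hNP))
    exact P.isPGroup'.center_nontrivial
  · haveI : Group.IsNilpotent (P : Subgroup G) := P.isPGroup'.isNilpotent
    obtain ⟨c, hc⟩ := Group.IsNilpotent.nilpotent ↥(P : Subgroup G)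
    by_contra hne
    push Not at hne
    have hle : ∀ i, Subgroup.upperCentralSeries ↥(P : Subgroup G) i ≤ N.subgroupOf (P : Subgroup G) := by
      intro i
      induction i with
      | zero => simp
      | succ i ih =>
        intro y hy
        by_contra hyN
        have := key y y.2 (fun h => hyN (Subgroup.mem_subgroupOf.2 h)) ((Subgroup.upperCentralSeries ↥(P : Subgroup G) i).map (P : Subgroup G).subtype)
          (fun w hw => ⟨⁅y, ⟨w, hw⟩⁆, Subgroup.mem_upperCentralSeries_succ_iff.1 hy ⟨w, hw⟩, rfl⟩)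
          (by rintro _ ⟨w, hw, rfl⟩; exact ih hw)
        refine hne i ?_
        rw [← this, Subgroup.subgroupOf, Subgroup.comap_map_eq_self_of_injective (P : Subgroup G).subtype_injective]
    exact hne c (le_antisymm (hle c) (hc ▸ le_top))

end Cfsg.Agent.S4838
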