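import Cfsg.Statements.S4839
import Cfsg.Agent.Lib.Block.TwoClass
import Cfsg.Agent.Lib.Block.TwoClassFrobenius
import Cfsg.Agent.S4838

set_option autoImplicit false
open Cfsg

open scoped Pointwise

namespace Cfsg.Agent.S4839

open Cfsg.Agent.Block Cfsg.Agent.Char

/-- Let G be a finite group of order greater than 2 with an irreducible character χ nonzero on exactly two conjugacy classes, and let N be the normal p-subgroup of elements where χ is nonzero. Then N is the whole p-core O_p(G) if and only if G is a doubly transitive Frobenius group with kernel N: G has a Frobenius complement H whose Frobenius kernel is N and whose order is one less than that of N. -/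
theorem result {G : Type*} [Group G] [Finite G] (hG : 2 < Nat.card G) (χ : Cfsg.IrrCharacter G) (hχ : Nat.card {C : ConjClasses G // ∃ g ∈ C.carrier, (χ : G → ℂ) g ≠ 0} = 2) (p : ℕ) [Fact p.Prime] (N : Subgroup G) [N.Normal] (hN : ∀ g : G, g ∈ N ↔ (χ : G → ℂ) g ≠ 0) (hNp : IsPGroup p N) (hN1 : N ≠ ⊥) :
    N = Cfsg.pCore p G ↔ ∃ H : Subgroup G, Cfsg.IsFrobeniusComplement H ∧ Cfsg.frobeniusKernel H = (N : Set G) ∧ Nat.card H + 1 = Nat.card N := by
  classical
  obtain ⟨T⟩ := exists_twoClassData hG χ hχ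
  have hp : p.Prime := Fact.out
  obtain ⟨P⟩ : Nonempty (Sylow p G) := inferInstance
  have hcent := (Cfsg.Agent.S4838.result hG χ hχ p N hN hNp hN1 P).1
  have hconj : ∀ x : G, x ∉ N → ∀ n ∈ N, IsConj x (x * n) := fun x hx n hn =>
    TwoClassFrob.isConj_mul_mem hcent hx hn
  have htrans : ∀ a ∈ N, ∀ b ∈ N, a ≠ 1 → b ≠ 1 → IsConj a b := fun a ha b hb =>
    T.isConj_of_mem ((T.mem_support a).2 ((hN a).1 ha)) ((T.mem_support b).2 ((hN b).1 hb))
  have hNS : N = T.support := Subgroup.ext fun g => (hN g).trans (T.mem_support g).symm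
  have hq : Nat.card N = T.k + 1 := by rw [hNS, T.card_support]
  obtain ⟨n, hn⟩ := IsPGroup.iff_card.1 hNp
  have hn0 : n ≠ 0 := fun h => hN1 (Subgroup.card_eq_one.1 (by rw [hn, h, pow_zero]))
  constructor
  · intro hcore
    have hidx : ¬ p ∣ N.index := TwoClassFrob.not_dvd_index hNp hN1 hconj htrans hcore fun hp2 => by
      rw [T.card_eq]
      have h1 : Odd (T.k + 1) := by rw [← hq, hn]; exact (hp.odd_of_ne_two hp2).pow
      have h2 : 2 ∣ T.k := by rcases h1 with ⟨r, hr⟩; exact ⟨r, by omega⟩
      exact (h2.mul_right _).mul_right _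
    have hcop : (Nat.card N).Coprime N.index := by
      rw [hn]; exact (hp.coprime_iff_not_dvd.2 hidx).pow_left n
    obtain ⟨H, hH⟩ := Subgroup.exists_right_complement'_of_coprime hcop
    have hdisj : ∀ a, a ∈ N → a ∈ H → a = 1 := fun a ha hb => by
      have := hH.disjoint.le_bot (⟨ha, hb⟩ : a ∈ N ⊓ H)
      rwa [Subgroup.mem_bot] at this
    have hreg : ∀ h ∈ H, ¬ p ∣ orderOf h := fun h hh hd => by
      have : Nat.card N * Nat.card H = Nat.card N * N.index := by rw [hH.card_mul, N.card_mul_index]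
      exact hidx (Nat.eq_of_mul_eq_mul_left Nat.card_pos this ▸
        hd.trans (Subgroup.orderOf_dvd_natCard H hh))
    -- the centralizer of a nonidentity element of `N` is `N`
    have hCx : Subgroup.centralizer ({T.x} : Set G) = N := by
      have hxN : T.x ∈ N := by rw [hNS]; exact T.x_mem_support
      refine le_antisymm (fun c hc => ?_) fun c hc => Subgroup.mem_centralizer_singleton_iff.2
        (TwoClassFrob.commute_of_mem hNp hN1 htrans hc hxN)
      obtain ⟨a, ha⟩ := TwoClassFrob.ppower_part (p := p) c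
      have h1 : c ^ p ^ a = 1 := by
        by_contra hne
        exact T.x_ne (TwoClassFrob.eq_one_of_commute hNp hconj ha hne hxN
          ((show Commute c T.x from Subgroup.mem_centralizer_singleton_iff.1 hc).pow_left _))
      by_contra hcN
      have h2 : orderOf (c : G ⧸ N) ∣ p ^ a := orderOf_dvd_of_pow_eq_one (by
        rw [← QuotientGroup.mk_pow, h1, QuotientGroup.mk_one])
      obtain ⟨i, -, hi⟩ := (Nat.dvd_prime_pow hp).1 h2
      rcases Nat.eq_zero_or_pos i with rfl | hi0
      · rw [pow_zero, orderOf_eq_one_iff, QuotientGroup.eq_one_iff] at hi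
        exact hcN hi
      · refine hidx ?_
        rw [Subgroup.index_eq_card]
        exact (hi ▸ dvd_pow_self p hi0.ne').trans (orderOf_dvd_natCard _)
    have hcardG : Nat.card G = T.k * Nat.card N := by
      rw [← (Subgroup.centralizer ({T.x} : Set G)).index_mul_card, hCx,
        ← T.card_class, Cfsg.Agent.Char.card_isConj_eq_index, hCx]
    have hHk : Nat.card H = T.k := by
      have := hH.card_mul
      rw [hcardG, mul_comm T.k] at this
      exact Nat.eq_of_mul_eq_mul_left Nat.card_pos this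
    have hHb : H ≠ ⊥ := fun h => by
      rw [h, Subgroup.card_bot] at hHk
      rw [hcardG, hq, ← hHk] at hG
      omega
    refine ⟨H, ⟨hHb, fun h => hN1 ((Subgroup.eq_bot_iff_forall _).2 fun a ha =>
      hdisj a ha (h ▸ Subgroup.mem_top a)), fun g hg => ?_⟩, ?_, by rw [hHk, hq]⟩
    · obtain ⟨⟨⟨m, hm⟩, ⟨h0, hh0⟩⟩, hg' : m * h0 = g⟩ := hH.2 g
      refine (Subgroup.eq_bot_iff_forall _).2 fun a ⟨haH, ha⟩ => ?_
      replace ha : a ∈ MulAut.conj g • H := ha
      rw [Subgroup.mem_pointwise_smul_iff_inv_smul_mem, ← map_inv, MulAut.smul_def,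
        MulAut.conj_apply, inv_inv, ← hg'] at ha
      set b := m⁻¹ * a * m with hb
      have hbH : b ∈ H := by
        have h2 := mul_mem (mul_mem hh0 ha) (inv_mem hh0)
        rwa [show h0 * ((m * h0)⁻¹ * a * (m * h0)) * h0⁻¹ = b by rw [hb]; group] at h2
      have hab : a = b := by
        have h3 : a * b⁻¹ ∈ N := by
          rw [hb, show a * (m⁻¹ * a * m)⁻¹ = (a * m⁻¹ * a⁻¹) * m by group]
          exact mul_mem ((inferInstance : N.Normal).conj_mem _ (inv_mem hm) a) hm
        exact mul_inv_eq_one.1 (hdisj _ h3 (mul_mem haH (inv_mem hbH)))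
      by_contra ha1
      have hm1 : m = 1 := TwoClassFrob.eq_one_of_commute hNp hconj (hreg a haH) ha1 hm (by
        have : a = m⁻¹ * a * m := hab
        calc a * m = m * (m⁻¹ * a * m) := by group
          _ = m * a := by rw [← this])
      exact hg (hg' ▸ by rw [hm1, one_mul]; exact hh0)
    · ext x
      simp only [Cfsg.frobeniusKernel, Set.mem_setOf_eq, SetLike.mem_coe]
      constructor
      · rintro (rfl | hx)
        · exact one_mem N
        · by_contra hxN
          obtain ⟨⟨⟨m, hm⟩, ⟨h0, hh0⟩⟩, hx' : m * h0 = x⟩ := hH.2 x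
          have hh0N : h0 ∉ N := fun h => hxN (hx' ▸ mul_mem hm h)
          obtain ⟨g, hg⟩ := isConj_iff.1 (hconj h0 hh0N (h0⁻¹ * m * h0)
            (by simpa using (inferInstance : N.Normal).conj_mem _ hm h0⁻¹))
          refine hx g ⟨h0, hh0, ?_⟩
          simp only [MulDistribMulAction.toMonoidEnd_apply, MulDistribMulAction.toMonoidHom_apply,
            MulAut.smul_def, MulAut.conj_apply]
          rw [hg, ← hx']; group
      · intro hxN
        refine or_iff_not_imp_left.2 fun hx1 g hg => ?_
        rw [Subgroup.mem_pointwise_smul_iff_inv_smul_mem, ← map_inv, MulAut.smul_def,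
          MulAut.conj_apply, inv_inv] at hg
        have := hdisj _ (by simpa using (inferInstance : N.Normal).conj_mem _ hxN g⁻¹) hg
        exact hx1 (by
          calc x = g * (g⁻¹ * x * g) * g⁻¹ := by group
            _ = 1 := by rw [this, mul_one, mul_inv_cancel])
  · rintro ⟨H, -, hker, hcard⟩
    refine le_antisymm (le_sSup ⟨inferInstance, hNp⟩) (sSup_le fun Q hQ x hx => ?_)
    by_contra hxN
    have hxk : x ∉ Cfsg.frobeniusKernel H := by rw [hker]; exact hxN
    simp only [Cfsg.frobeniusKernel, Set.mem_setOf_eq, not_or, not_forall, not_not] at hxk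
    obtain ⟨hx1, g, hg⟩ := hxk
    rw [Subgroup.mem_pointwise_smul_iff_inv_smul_mem, ← map_inv, MulAut.smul_def,
      MulAut.conj_apply] at hg
    have hd : orderOf x ∣ Nat.card H := by
      have h := Subgroup.orderOf_dvd_natCard H hg
      rwa [← MulAut.conj_apply, MulEquiv.orderOf_eq] at h
    obtain ⟨k, hk⟩ := IsPGroup.iff_orderOf.1 hQ.2 ⟨x, hx⟩
    rw [Subgroup.orderOf_mk] at hk
    have hk0 : k ≠ 0 := fun h => hx1 (orderOf_eq_one_iff.1 (by rw [hk, h, pow_zero]))
    have h1 : p ∣ Nat.card H := (hk ▸ dvd_pow_self p hk0).trans hd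
    have h2 : p ∣ Nat.card H + 1 := hcard ▸ hn ▸ dvd_pow_self p hn0
    exact hp.one_lt.ne' (Nat.dvd_one.1 ((Nat.dvd_add_right h1).1 h2))

end Cfsg.Agent.S4839
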