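import Cfsg.Statements.S4859
import Cfsg.Agent.Lib.Block.OddIndexReal

set_option autoImplicit false
open Cfsg

namespace Cfsg.Agent.S4859

open Cfsg.Agent.Block Cfsg.Agent.Char

/-- Let p be an odd prime, G a finite group and x an element of G whose order is a power of p (possibly 1) and whose centralizer has even order. Let y be a 2-element of the centralizer of x whose order is largest among the 2-elements of that centralizer. Then x * y is not a square in G, and some non-principal real-valued irreducible character of G does not vanish at x * y. -/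
theorem result {G : Type*} [Group G] [Finite G] (p : ℕ) [Fact p.Prime] (hp : p ≠ 2) (x : G) (hx : ∃ k : ℕ, orderOf x = p ^ k) (heven : Even (Nat.card (Subgroup.centralizer ({x} : Set G)))) (y : G) (hy : y ∈ Subgroup.centralizer ({x} : Set G)) (hy2 : ∃ k : ℕ, orderOf y = 2 ^ k) (hmax : ∀ z ∈ Subgroup.centralizer ({x} : Set G), (∃ k : ℕ, orderOf z = 2 ^ k) → orderOf z ≤ orderOf y) : (¬ ∃ u : G, u * u = x * y) ∧ ∃ χ : Cfsg.IrrCharacter G, ¬ ((χ : G → ℂ) = fun _ => (1 : ℂ)) ∧ (∀ g : G, ((χ : G → ℂ) g).im = 0) ∧ (χ : G → ℂ) (x * y) ≠ 0 := by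
    classical
    haveI := Fintype.ofFinite G
    haveI := Fintype.ofFinite (IrrCharacter G)
    obtain ⟨a, ha⟩ := hx
    obtain ⟨b, hb⟩ := hy2
    have hxy : y * x = x * y := Subgroup.mem_centralizer_singleton_iff.1 hy
    have hb0 : b ≠ 0 := by
      intro hb0
      obtain ⟨w, hw⟩ := exists_prime_orderOf_dvd_card' (G := Subgroup.centralizer ({x} : Set G)) 2
        (even_iff_two_dvd.1 heven)
      have h := hmax (w : G) w.2 ⟨1, by rw [Subgroup.orderOf_coe, hw, pow_one]⟩
      rw [Subgroup.orderOf_coe, hw, hb, hb0, pow_zero] at h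
      omega
    have hcop : (p ^ a).Coprime (2 ^ b) :=
      Nat.Coprime.pow _ _ ((Nat.coprime_primes Fact.out Nat.prime_two).2 hp)
    have hns : ¬ ∃ u : G, u * u = x * y := by
      rintro ⟨u, hu⟩
      have hcomm : Commute x y := hxy.symm
      have hux : Commute u x := by
        obtain ⟨m, hm⟩ := exists_pow_eq_self_of_coprime (n := 2 ^ b) (x := x) (by rw [ha]; exact hcop.symm)
        have h1 : Commute u (x * y) := by rw [← hu]; exact (Commute.refl u).mul_right (Commute.refl u)
        have h2 : (x * y) ^ (2 ^ b) = x ^ (2 ^ b) := by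
          rw [hcomm.mul_pow, ← hb, pow_orderOf_eq_one, mul_one]
        have h3 := h1.pow_right (2 ^ b)
        rw [h2] at h3
        rw [← hm]
        exact h3.pow_right m
      have hw2 : (u ^ p ^ a) ^ 2 = y ^ p ^ a := by
        rw [← pow_mul, mul_comm, pow_mul, pow_two, hu, hcomm.mul_pow, ← ha, pow_orderOf_eq_one, one_mul]
      have hyo : orderOf (y ^ p ^ a) = 2 ^ b := by
        rw [Nat.Coprime.orderOf_pow (by rw [hb]; exact hcop.symm), hb]
      have hwo : orderOf (u ^ p ^ a) = 2 ^ (b + 1) := by
        refine orderOf_eq_prime_pow (p := 2) (fun h => ?_) ?_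
        · obtain ⟨c, rfl⟩ := Nat.exists_eq_succ_of_ne_zero hb0
          rw [pow_succ', pow_mul, hw2] at h
          have := Nat.le_of_dvd (by positivity) (orderOf_dvd_of_pow_eq_one h)
          rw [hyo, pow_succ] at this
          have : 0 < 2 ^ c := by positivity
          omega
        · rw [pow_succ', pow_mul, hw2, ← hyo, pow_orderOf_eq_one]
      have h := hmax (u ^ p ^ a) (Subgroup.mem_centralizer_singleton_iff.2 (hux.pow_left _).eq)
        ⟨b + 1, hwo⟩
      rw [hwo, hb, pow_succ] at h
      have : 0 < 2 ^ b := by positivity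
      omega
    refine ⟨hns, ?_⟩
    have hsum : ∑ χ : IrrCharacter G, indicatorFS (χ : G → ℂ) * (starRingEnd ℂ) ((χ : G → ℂ) (x * y)) = 0 := by
      simp only [indicatorFS, mul_assoc, Finset.sum_mul, ← Finset.mul_sum]
      rw [Finset.sum_comm]
      refine mul_eq_zero_of_right _ (Finset.sum_eq_zero fun s _ => ?_)
      rw [sum_irr_eq_card_conj]
      refine Finset.sum_eq_zero fun g _ => if_neg fun h => hns ⟨g * s * g⁻¹, ?_⟩
      rw [← h]; group
    by_contra hne
    simp only [not_exists, not_and, not_not] at hne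
    have h1 : ∀ χ : IrrCharacter G, (χ : G → ℂ) ≠ (fun _ => (1 : ℂ)) →
        indicatorFS (χ : G → ℂ) * (starRingEnd ℂ) ((χ : G → ℂ) (x * y)) = 0 := fun χ hχ => by
      rcases indicatorFS_trichotomy χ.2 with ⟨hr, -⟩ | ⟨-, h0⟩
      · rw [hne χ hχ hr, map_zero, mul_zero]
      · rw [h0, zero_mul]
    rw [Finset.sum_eq_single (⟨_, isIrrCharacter_one⟩ : IrrCharacter G)
      (fun χ _ hχ => h1 χ fun h => hχ (Subtype.ext h)) (fun h => absurd (Finset.mem_univ _) h)] at hsum
    revert hsum
    simp [indicatorFS]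

end Cfsg.Agent.S4859
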