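import Cfsg.Statements.S4866
import Cfsg.Agent.Lib.Char.Perm
import Cfsg.Agent.Lib.Char.Clifford
import Mathlib.GroupTheory.GroupAction.Quotient

set_option autoImplicit false
open Cfsg

namespace Cfsg.Agent.S4866

open Cfsg.Agent.Char

universe u

/-- A permutation of odd period composed with a commuting involution has only the common fixed
points. -/
theorem fixed_mul_iff {α : Type*} (a c : Equiv.Perm α) (hc : c * c = 1) (hac : Commute a c) {m : ℕ}
    (hm : Odd m) (ha : a ^ m = 1) (x : α) : (a * c) x = x ↔ c x = x ∧ a x = x := by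
  refine ⟨fun h => ?_, fun h => by rw [Equiv.Perm.mul_apply, h.1, h.2]⟩
  have h1 : ((a * c) ^ m) x = x := Function.IsFixedPt.perm_pow h m
  obtain ⟨j, rfl⟩ := hm
  rw [hac.mul_pow, ha, one_mul, pow_succ, pow_mul, pow_two, hc, one_pow, one_mul] at h1
  rw [Equiv.Perm.mul_apply, h1] at h
  exact ⟨h1, h⟩

/-- Orbit counts agree when the fixed point counts agree. -/
theorem card_orbits_eq (G : Type*) [Group G] [Finite G] (A B : Type*) [MulAction G A] [MulAction G B]
    [Finite A] [Finite B] (h : ∀ g : G, Nat.card (MulAction.fixedBy A g) = Nat.card (MulAction.fixedBy B g)) :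
    Nat.card (Quotient (MulAction.orbitRel G A)) = Nat.card (Quotient (MulAction.orbitRel G B)) := by
  classical
  haveI := Fintype.ofFinite G
  haveI := Fintype.ofFinite A
  haveI := Fintype.ofFinite B
  have hA := MulAction.sum_card_fixedBy_eq_card_orbits_mul_card_group G A
  have hB := MulAction.sum_card_fixedBy_eq_card_orbits_mul_card_group G B
  simp only [← Nat.card_eq_fintype_card, h] at hA hB
  exact Nat.eq_of_mul_eq_mul_right Nat.card_pos (hA.symm.trans hB)

variable {G : Type u} [Group G] [Finite G] (K : Subgroup G) [K.Normal]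

/-- The conjugation action on irreducible characters. -/
noncomputable def charPerm : G →* Equiv.Perm (IrrCharacter K) where
  toFun g :=
    { toFun := fun θ => ⟨conjChar K g⁻¹ (θ : K → ℂ), isIrrCharacter_conjChar K θ.2 _⟩
      invFun := fun θ => ⟨conjChar K g (θ : K → ℂ), isIrrCharacter_conjChar K θ.2 _⟩
      left_inv := fun θ => Subtype.ext (by simp [conjChar_mul, conjChar_one])
      right_inv := fun θ => Subtype.ext (by simp [conjChar_mul, conjChar_one]) }
  map_one' := Equiv.ext fun θ => Subtype.ext (by simp [conjChar_one])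
  map_mul' g h := Equiv.ext fun θ => Subtype.ext (by simp [conjChar_mul])

/-- The conjugation action on classes. -/
noncomputable def classPerm : G →* Equiv.Perm (ConjClasses K) where
  toFun g :=
    { toFun := ConjClasses.map (MulAut.conjNormal g : K ≃* K).toMonoidHom
      invFun := ConjClasses.map (MulAut.conjNormal g⁻¹ : K ≃* K).toMonoidHom
      left_inv := fun C => Quotient.inductionOn C fun k => congrArg ConjClasses.mk
        (Subtype.ext (by simp [mul_assoc]))
      right_inv := fun C => Quotient.inductionOn C fun k => congrArg ConjClasses.mk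
        (Subtype.ext (by simp [mul_assoc])) }
  map_one' := Equiv.ext fun C => Quotient.inductionOn C fun k => congrArg ConjClasses.mk
    (Subtype.ext (by simp))
  map_mul' g h := Equiv.ext fun C => Quotient.inductionOn C fun k => congrArg ConjClasses.mk
    (Subtype.ext (by simp [mul_assoc]))

theorem charPerm_of_mem {a : G} (ha : a ∈ K) : charPerm K a = 1 := Equiv.ext fun θ => Subtype.ext
  (conjChar_of_mem K (IsCharacter.isClassFunction (IsIrrCharacter.isCharacter θ.2)) (inv_mem ha))

theorem classPerm_of_mem {a : G} (ha : a ∈ K) : classPerm K a = 1 := Equiv.ext fun C =>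
  Quotient.inductionOn C fun k => ConjClasses.mk_eq_mk_iff_isConj.2
    (IsConj.symm (isConj_iff.2 ⟨⟨a, ha⟩, Subtype.ext (by simp)⟩))

theorem charPerm_comm (g : G) : Commute (charPerm K g) conjIrr := Equiv.ext fun θ => Subtype.ext (funext fun k => rfl)

theorem classPerm_comm (g : G) : Commute (classPerm K g) invClasses := Equiv.ext fun C =>
  Quotient.inductionOn C fun k => congrArg ConjClasses.mk (map_inv (MulAut.conjNormal g : K ≃* K) k)

theorem classPerm_mk (g : G) (k : K) :
    classPerm K g (ConjClasses.mk k) = ConjClasses.mk (MulAut.conjNormal g k) := rfl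

/-- The real characters. -/
abbrev RealIrr : Type u := {θ : IrrCharacter K // ∀ k : K, ((θ : K → ℂ) k).im = 0}

/-- The real classes. -/
abbrev RealCl : Type u := {C : ConjClasses K // invClasses C = C}

noncomputable instance realIrrAction : MulAction G (RealIrr K) where
  smul g θ := ⟨charPerm K g θ.1, fun _ => θ.2 _⟩
  one_smul θ := Subtype.ext (by show charPerm K 1 θ.1 = θ.1; rw [map_one]; rfl)
  mul_smul g h θ := Subtype.ext (by show charPerm K (g * h) θ.1 = _; rw [map_mul]; rfl)

noncomputable instance realClAction : MulAction G (RealCl K) where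
  smul g C := ⟨classPerm K g C.1, by
    have := congrArg (fun e : Equiv.Perm (ConjClasses K) => e C.1) (classPerm_comm K g).eq
    simp only [Equiv.Perm.mul_apply, C.2] at this
    exact this.symm⟩
  one_smul C := Subtype.ext (by show classPerm K 1 C.1 = C.1; rw [map_one]; rfl)
  mul_smul g h C := Subtype.ext (by show classPerm K (g * h) C.1 = _; rw [map_mul]; rfl)

theorem fixed_eq (hodd : Odd K.index) (g : G) :
    Nat.card (MulAction.fixedBy (RealIrr K) g) = Nat.card (MulAction.fixedBy (RealCl K) g) := by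
  have hgK : g ^ K.index ∈ K := K.pow_index_mem g
  have hc1 : (conjIrr : Equiv.Perm (IrrCharacter K)) * conjIrr = 1 :=
    Equiv.ext fun θ => Subtype.ext (funext fun k => Complex.conj_conj _)
  have hc2 : (invClasses : Equiv.Perm (ConjClasses K)) * invClasses = 1 :=
    Equiv.ext fun C => Quotient.inductionOn C fun k => congrArg ConjClasses.mk (inv_inv k)
  have h1 : (charPerm K g) ^ K.index = 1 := by rw [← map_pow, charPerm_of_mem K hgK]
  have h2 : (classPerm K g) ^ K.index = 1 := by rw [← map_pow, classPerm_of_mem K hgK]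
  have key := card_fixed_irr (charPerm K g * conjIrr : Equiv.Perm (IrrCharacter K))
    (classPerm K g * invClasses : Equiv.Perm (ConjClasses K)) fun θ k k' hk => by
      rw [Equiv.Perm.mul_apply, invClasses_mk, classPerm_mk, ConjClasses.mk_eq_mk_iff_isConj] at hk
      have := IsIrrCharacter.apply_isConj ((charPerm K g * conjIrr : Equiv.Perm (IrrCharacter K)) θ).2 hk
      rw [this]
      show (starRingEnd ℂ) ((θ : K → ℂ) _) = _
      rw [show (⟨g⁻¹ * (MulAut.conjNormal g k⁻¹ : K) * g⁻¹⁻¹, _⟩ : K) = k⁻¹ from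
        Subtype.ext (by simp [mul_assoc]), IsCharacter.map_inv (IsIrrCharacter.isCharacter θ.2), Complex.conj_conj]
  calc Nat.card (MulAction.fixedBy (RealIrr K) g)
      = Nat.card {θ : IrrCharacter K // (charPerm K g * conjIrr : Equiv.Perm (IrrCharacter K)) θ = θ} := Nat.card_congr
        { toFun := fun θ => ⟨θ.1.1, (fixed_mul_iff _ _ hc1 (charPerm_comm K g) hodd h1 _).2
            ⟨(conjIrr_eq_iff _).2 θ.1.2, congrArg Subtype.val θ.2⟩⟩
          invFun := fun θ => ⟨⟨θ.1, (conjIrr_eq_iff _).1 ((fixed_mul_iff _ _ hc1 (charPerm_comm K g) hodd h1 _).1 θ.2).1⟩,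
            Subtype.ext ((fixed_mul_iff _ _ hc1 (charPerm_comm K g) hodd h1 _).1 θ.2).2⟩
          left_inv := fun θ => rfl
          right_inv := fun θ => rfl }
    _ = Nat.card {C : ConjClasses K // (classPerm K g * invClasses : Equiv.Perm (ConjClasses K)) C = C} := key
    _ = Nat.card (MulAction.fixedBy (RealCl K) g) := Nat.card_congr
        { toFun := fun C => ⟨⟨C.1, ((fixed_mul_iff _ _ hc2 (classPerm_comm K g) hodd h2 _).1 C.2).1⟩,
            Subtype.ext ((fixed_mul_iff _ _ hc2 (classPerm_comm K g) hodd h2 _).1 C.2).2⟩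
          invFun := fun C => ⟨C.1.1, (fixed_mul_iff _ _ hc2 (classPerm_comm K g) hodd h2 _).2
            ⟨C.1.2, congrArg Subtype.val C.2⟩⟩
          left_inv := fun C => rfl
          right_inv := fun C => rfl }

theorem result {G : Type*} [Group G] [Finite G] (K : Subgroup G) [K.Normal] (hodd : Odd K.index) : Nat.card (Quot (fun θ η : {θ : Cfsg.IrrCharacter ↥K // (∀ k : ↥K, ((θ : ↥K → ℂ) k).im = 0)} => ∃ g : G, ∀ k k' : ↥K, (k' : G) = g * (k : G) * g⁻¹ → (η.1 : ↥K → ℂ) k' = (θ.1 : ↥K → ℂ) k)) = Nat.card (Quot (fun x y : {x : ↥K // IsConj x x⁻¹} => ∃ g : G, (y.1 : G) = g * x.1 * g⁻¹)) := by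
  classical
  have hAB := card_orbits_eq G (RealIrr K) (RealCl K) (fixed_eq K hodd)
  have e1 : Nat.card (Quot (fun θ η : RealIrr K => ∃ g : G, ∀ k k' : ↥K, (k' : G) = g * (k : G) * g⁻¹ →
      (η.1 : ↥K → ℂ) k' = (θ.1 : ↥K → ℂ) k)) = Nat.card (Quotient (MulAction.orbitRel G (RealIrr K))) := by
    refine Nat.card_congr (Quot.congrRight fun θ η => ?_)
    show _ ↔ θ ∈ MulAction.orbit G η
    constructor
    · rintro ⟨g, hg⟩
      refine ⟨g⁻¹, Subtype.ext (Subtype.ext (funext fun k => ?_))⟩
      show (η.1 : K → ℂ) _ = _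
      exact hg k _ (by simp)
    · rintro ⟨g, rfl⟩
      refine ⟨g⁻¹, fun k k' hk => ?_⟩
      show (η.1 : K → ℂ) k' = (η.1 : K → ℂ) _
      exact congrArg _ (Subtype.ext (by simp [hk]))
  rw [e1, hAB]
  let f : {x : ↥K // IsConj x x⁻¹} → RealCl K := fun x =>
    ⟨ConjClasses.mk x.1, by rw [invClasses_mk]; exact ConjClasses.mk_eq_mk_iff_isConj.2 x.2.symm⟩
  symm
  refine Nat.card_eq_of_bijective (Quot.lift (fun x => (Quotient.mk (MulAction.orbitRel G (RealCl K)) (f x)))
    fun x y ⟨g, hg⟩ => Quotient.sound ⟨g⁻¹, Subtype.ext ?_⟩) ⟨?_, ?_⟩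
  · show classPerm K g⁻¹ (ConjClasses.mk y.1) = ConjClasses.mk x.1
    rw [classPerm_mk]
    exact congrArg ConjClasses.mk (Subtype.ext (by simp [hg, mul_assoc]))
  · rintro ⟨x⟩ ⟨y⟩ h
    obtain ⟨g, hg⟩ := Quotient.exact h
    have hg' : classPerm K g (ConjClasses.mk y.1) = ConjClasses.mk x.1 := congrArg Subtype.val hg
    rw [classPerm_mk, ConjClasses.mk_eq_mk_iff_isConj, isConj_iff] at hg'
    obtain ⟨c, hc⟩ := hg'
    refine (Quot.sound ?_).symm
    refine ⟨(c : G) * g, ?_⟩
    rw [← hc]
    simp [mul_assoc]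
  · intro q
    refine Quotient.inductionOn q fun C => ?_
    obtain ⟨x, hx⟩ := ConjClasses.exists_rep C.1
    have hr : IsConj x x⁻¹ := by
      have := C.2
      rw [← hx, invClasses_mk, ConjClasses.mk_eq_mk_iff_isConj] at this
      exact this.symm
    exact ⟨Quot.mk _ ⟨x, hr⟩, congrArg (Quotient.mk _) (Subtype.ext hx)⟩

end Cfsg.Agent.S4866
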