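import Cfsg.Statements.S4888
import Cfsg.Agent.Lib.Block.LinearExtend
import Cfsg.Agent.Lib.Block.PrincipalKernel
import Cfsg.Agent.Lib.Block.CentralQuotientBlock

set_option autoImplicit false
open Cfsg

namespace Cfsg.Agent.S4888

open Cfsg.Agent.Block Cfsg.Agent.Char

/-- Let G be a finite group, p a prime and M a maximal ideal of the algebraic integers containing p. Then all height-zero irreducible characters of the principal p-block of G (equivalently, all its characters of degree prime to p) have the same degree if and only if G has a normal p-complement. -/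
theorem result {G : Type*} [Group G] [Finite G] (p : ℕ) [Fact p.Prime] (M : Ideal Cfsg.AlgInt) (hM : Cfsg.IsPModular p M) : (∃ d : ℕ, ∀ χ : Cfsg.IrrCharacter G, χ ∈ (Cfsg.principalBlock M G) → Cfsg.blockHeight p (Cfsg.principalBlock M G) (χ : G → ℂ) = 0 → Cfsg.charDegree (χ : G → ℂ) = d) ↔ Cfsg.HasNormalPComplement p G := by
  haveI := prime_of_isPModular hM
  classical
  haveI := Fintype.ofFinite G
  set one : IrrCharacter G := ⟨fun _ => 1, isIrrCharacter_one⟩ with hone
  have hB : IsPBlock M (principalBlock M G) := ⟨one, rfl⟩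
  have honeB : one ∈ principalBlock M G := self_mem_blockOf one
  have hd1 : charDegree (one : G → ℂ) = 1 := by
    apply Nat.cast_injective (R := ℂ)
    rw [charDegree_cast (IsIrrCharacter.isCharacter one.2), Nat.cast_one]
  have hv : minVal p (principalBlock M G) = 0 := Nat.le_zero.1 ((minVal_le honeB).trans (by rw [hd1, Nat.factorization_one]; rfl))
  have hh : ∀ χ : IrrCharacter G, blockHeight p (principalBlock M G) (χ : G → ℂ) = 0 ↔ ¬ p ∣ charDegree (χ : G → ℂ) := by
    intro χ
    have h0 : charDegree (χ : G → ℂ) ≠ 0 := fun e => IsIrrCharacter.apply_one_ne_zero χ.2 (by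
      rw [← charDegree_cast (IsIrrCharacter.isCharacter χ.2), e, Nat.cast_zero])
    rw [blockHeight_eq, hv, Nat.sub_zero, Nat.factorization_eq_zero_iff]
    refine ⟨fun h => ?_, fun h => Or.inr (Or.inl h)⟩
    rcases h with h | h | h
    · exact absurd (Fact.out : p.Prime) h
    · exact h
    · exact absurd h h0
  constructor
  · rintro ⟨d, hd⟩
    have hd' : d = 1 := (hd one honeB ((hh one).2 (by rw [hd1]; exact (Fact.out : p.Prime).not_dvd_one))).symm.trans hd1
    obtain ⟨P⟩ := Sylow.nonempty (p := p) (G := G)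
    haveI := Fintype.ofFinite (P : Subgroup G)
    obtain ⟨u, hu, hsq⟩ := sum_sq_degree_eq hM hB
    refine hasNormalPComplement_of_linear_extend P fun l => ?_
    refine exists_extension_of_sum_eq (P : Subgroup G) (principalBlock M G).toFinite.toFinset ?_ hu ?_ ?_ l
    · intro x hx hx1
      have hk : p ∣ orderOf x := by
        obtain ⟨k, hk⟩ := IsPGroup.iff_orderOf.1 P.isPGroup' ⟨x, hx⟩
        rw [Subgroup.orderOf_mk] at hk
        rcases Nat.eq_zero_or_pos k with rfl | hk0
        · exact absurd (orderOf_eq_one_iff.1 (by rw [hk, pow_zero])) hx1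
        · exact hk ▸ dvd_pow_self p hk0.ne'
      have h0 := weak_orthogonality hM hB (x := (1 : G)) (y := x⁻¹) (by rw [orderOf_one]; exact (Fact.out : p.Prime).not_dvd_one) (by rw [orderOf_inv]; exact hk)
      rw [← finsum_mem_eq_finite_toFinset_sum _ (principalBlock M G).toFinite, ← h0]
      refine finsum_congr fun χ => finsum_congr fun _ => ?_
      rw [IsCharacter.map_inv (IsIrrCharacter.isCharacter χ.2), Complex.conj_conj]
    · rw [← finsum_mem_eq_finite_toFinset_sum _ (principalBlock M G).toFinite, hsq, hv, Nat.add_zero, P.card_eq_multiplicity]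
    · intro χ hχ hp
      rw [← hd']
      exact hd χ ((principalBlock M G).toFinite.mem_toFinset.1 hχ) ((hh χ).2 hp)
  · rintro ⟨P, N, hN, hNP⟩
    refine ⟨1, fun χ hχ h0 => ?_⟩
    haveI : N.Normal := hN
    obtain ⟨-, hc, j, hj⟩ := Solv.complement_eq_pPrimeCore (N := N) (P := P) hNP
    have hNp : ¬ p ∣ Nat.card N := fun hd => (Fact.out : p.Prime).one_lt.ne' (Nat.dvd_one.1 (hc.gcd_eq_one ▸ Nat.dvd_gcd hd dvd_rfl))
    obtain ⟨φ, hφ⟩ := exists_factor_quotient N χ fun g hg y =>
      IsCharacter.apply_mul_of_eq_one (IsIrrCharacter.isCharacter χ.2) (apply_eq_one_of_mem_principal hM N hNp hχ hg) y |>.1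
    have he : charDegree (χ : G → ℂ) = charDegree (φ : G ⧸ N → ℂ) := by
      apply Nat.cast_injective (R := ℂ)
      rw [charDegree_cast (IsIrrCharacter.isCharacter χ.2), charDegree_cast (IsIrrCharacter.isCharacter φ.2), ← hφ 1]
      rfl
    have hdvd : charDegree (χ : G → ℂ) ∣ p ^ j := by
      rw [he, ← hj, Subgroup.index_eq_card]
      exact charDegree_dvd_card φ.2
    obtain ⟨i, -, hi⟩ := (Nat.dvd_prime_pow (Fact.out : p.Prime)).1 hdvd
    rcases Nat.eq_zero_or_pos i with rfl | hpos
    · rw [hi, pow_zero]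
    · exact absurd (hi ▸ dvd_pow_self p hpos.ne') ((hh χ).1 h0)

end Cfsg.Agent.S4888
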