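import Cfsg.Statements.S4911
import Cfsg.Agent.Lib.Block.Glauberman
import Cfsg.Agent.Lib.Char.Perm

set_option autoImplicit false
open Cfsg

namespace Cfsg.Agent.S4911

open Cfsg.Agent.Block Cfsg.Agent.Char

/-- Let P and K be subgroups of a finite group with P a p-group normalizing K and K of order prime to p. Then the number of P-invariant real-valued irreducible complex characters of K equals the number of conjugacy classes of K that are real (closed under inversion) and P-invariant. Moreover, if every real-valued irreducible character of K is P-invariant, then every real element of K (one conjugate in K to its inverse) is conjugate in K to an element centralized by P. -/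
theorem result {G : Type*} [Group G] [Finite G] (p : ℕ) [Fact p.Prime] (P K : Subgroup G) (hP : IsPGroup p ↥P) (hK : ¬ p ∣ Nat.card ↥K) (hPK : P ≤ Subgroup.normalizer (K : Set G)) : Nat.card {θ : Cfsg.IrrCharacter ↥K // (∀ k : ↥K, ((θ : ↥K → ℂ) k).im = 0) ∧ (∀ x ∈ P, ∀ k k' : ↥K, (k' : G) = x * (k : G) * x⁻¹ → (θ : ↥K → ℂ) k' = (θ : ↥K → ℂ) k)} = Nat.card {c : ConjClasses ↥K // (∀ k : ↥K, ConjClasses.mk k = c → IsConj k k⁻¹) ∧ ∀ k : ↥K, ConjClasses.mk k = c → ∀ x ∈ P, ∀ k' : ↥K, (k' : G) = x * (k : G) * x⁻¹ → ConjClasses.mk k' = c} ∧ ((∀ θ : Cfsg.IrrCharacter ↥K, (∀ k : ↥K, ((θ : ↥K → ℂ) k).im = 0) → (∀ x ∈ P, ∀ k k' : ↥K, (k' : G) = x * (k : G) * x⁻¹ → (θ : ↥K → ℂ) k' = (θ : ↥K → ℂ) k)) → ∀ k : ↥K, IsConj k k⁻¹ → ∃ k' : ↥K, IsConj k k' ∧ ∀ x ∈ P, x * (k' : G) * x⁻¹ = (k' : G)) := by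
    classical
    haveI := Fintype.ofFinite G
    let C := Subgroup.centralizer (P : Set G) ⊓ K
    let C' : Subgroup K := C.subgroupOf K
    haveI := Fintype.ofFinite C'
    letI : MulDistribMulAction P K :=
      { smul := fun s g => ⟨(s : G) * (g : G) * (s : G)⁻¹, (Subgroup.mem_normalizer_iff.1 (hPK s.2) g).1 g.2⟩
        one_smul := fun g => Subtype.ext (show ((1 : P) : G) * (g : G) * ((1 : P) : G)⁻¹ = g by simp)
        mul_smul := fun s t g => Subtype.ext (show ((s * t : P) : G) * (g : G) * ((s * t : P) : G)⁻¹ =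
          (s : G) * ((t : G) * (g : G) * (t : G)⁻¹) * (s : G)⁻¹ by simp [mul_assoc])
        smul_mul := fun s g h => Subtype.ext (show (s : G) * ((g * h : K) : G) * (s : G)⁻¹ =
          (s : G) * (g : G) * (s : G)⁻¹ * ((s : G) * (h : G) * (s : G)⁻¹) by simp [mul_assoc])
        smul_one := fun s => Subtype.ext (show (s : G) * ((1 : K) : G) * (s : G)⁻¹ = 1 by simp) }
    have hsm : ∀ (s : P) (g : K), ((s • g : K) : G) = (s : G) * (g : G) * (s : G)⁻¹ := fun _ _ => rfl
    have hι : FixedHom P C'.subtype := by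
      refine ⟨Subtype.val_injective, fun g => ⟨?_, fun h => ⟨⟨g, ?_⟩, rfl⟩⟩⟩
      · rintro ⟨⟨c, hc, hcK⟩, rfl⟩ s
        refine Subtype.ext ?_
        show (s : G) * (c : G) * (s : G)⁻¹ = (c : G)
        have h1 : (s : G) * (c : G) = (c : G) * (s : G) := Subgroup.mem_centralizer_iff.1 hc s s.2
        rw [h1, mul_inv_cancel_right]
      · refine Subgroup.mem_subgroupOf.2 ⟨Subgroup.mem_centralizer_iff.2 fun s hs => ?_, g.2⟩
        have := congrArg Subtype.val (h ⟨s, hs⟩)
        rw [hsm] at this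
        exact mul_inv_eq_iff_eq_mul.1 this
    have hp := (Fact.out : p.Prime)
    have hcop : (Nat.card K).Coprime (Nat.card P) := by
      obtain ⟨k, hk⟩ := IsPGroup.iff_card.1 hP
      rw [hk]
      exact Nat.Coprime.pow_right _ (hp.coprime_iff_not_dvd.2 hK).symm
    obtain ⟨hfwd, hbwd⟩ := glauberman_pgroup hp hP hcop hι
    choose F m hm hmd hu1 hu2 hoth using fun χ : {χ : IrrCharacter K // OpInv P (χ : K → ℂ)} => hfwd χ.1 χ.2
    have hconj : ∀ (χ : IrrCharacter K) (β : IrrCharacter C') (m : ℕ),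
        classInner (fun c => (χ : K → ℂ) (C'.subtype c)) (β : C' → ℂ) = (m : ℂ) →
        classInner (fun c => (conjIrr χ : K → ℂ) (C'.subtype c)) (conjIrr β : C' → ℂ) = (m : ℂ) := by
      intro χ β m h
      have := congrArg (starRingEnd ℂ) h
      rw [map_natCast] at this
      rw [← this]
      simp [classInner, conjIrr_apply, map_sum]
    have hinvc : ∀ χ : IrrCharacter K, OpInv P (χ : K → ℂ) → OpInv P (conjIrr χ : K → ℂ) :=
      fun χ h s g => by rw [conjIrr_apply, conjIrr_apply, h]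
    let Φ : {χ : IrrCharacter K // OpInv P (χ : K → ℂ) ∧ conjIrr χ = χ} → {β : IrrCharacter C' // conjIrr β = β} :=
      fun χ => ⟨F ⟨χ.1, χ.2.1⟩, by
        by_contra hne
        have h := hconj χ.1 _ _ (hm ⟨χ.1, χ.2.1⟩)
        simp only [χ.2.2] at h
        exact hmd ⟨χ.1, χ.2.1⟩ (hoth ⟨χ.1, χ.2.1⟩ _ hne _ h)⟩
    have hΦ : Function.Bijective Φ := by
      constructor
      · intro χ χ' h
        have hF : F ⟨χ.1, χ.2.1⟩ = F ⟨χ'.1, χ'.2.1⟩ := congrArg Subtype.val h
        exact Subtype.ext ((hbwd (F ⟨χ.1, χ.2.1⟩)).unique ⟨χ.2.1, _, hm ⟨χ.1, χ.2.1⟩, hmd ⟨χ.1, χ.2.1⟩⟩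
          ⟨χ'.2.1, _, hF ▸ hm ⟨χ'.1, χ'.2.1⟩, hmd ⟨χ'.1, χ'.2.1⟩⟩)
      · rintro ⟨β, hβ⟩
        obtain ⟨χ, ⟨hχ, mm, hmm, hmmd⟩, hun⟩ := hbwd β
        have hreal : conjIrr χ = χ := hun _ ⟨hinvc χ hχ, mm, hβ ▸ hconj χ β mm hmm, hmmd⟩
        refine ⟨⟨χ, hχ, hreal⟩, Subtype.ext ?_⟩
        by_contra hne
        exact hmmd (hoth ⟨χ, hχ⟩ β (fun e => hne e.symm) mm hmm)
    -- classes
    have hsmc : ∀ (s : P) (g : K) (k' : K), (k' : G) = (s : G) * (g : G) * (s : G)⁻¹ ↔ k' = s • g :=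
      fun s g k' => ⟨fun e => Subtype.ext e, fun e => e ▸ rfl⟩
    have hinv : ∀ χ : IrrCharacter K,
        ((∀ k : K, ((χ : K → ℂ) k).im = 0) ∧ (∀ x ∈ P, ∀ k k' : K, (k' : G) = x * (k : G) * x⁻¹ →
          (χ : K → ℂ) k' = (χ : K → ℂ) k)) ↔ OpInv P (χ : K → ℂ) ∧ conjIrr χ = χ := by
      intro χ
      rw [conjIrr_eq_iff, and_comm]
      refine and_congr ⟨fun h s g => h s s.2 g _ rfl, fun h x hx k k' e => ?_⟩ Iff.rfl
      rw [(hsmc ⟨x, hx⟩ k k').1 e, h]
    let Q : ConjClasses K → Prop := fun c => (∀ k : K, ConjClasses.mk k = c → IsConj k k⁻¹) ∧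
      ∀ k : K, ConjClasses.mk k = c → ∀ x ∈ P, ∀ k' : K, (k' : G) = x * (k : G) * x⁻¹ → ConjClasses.mk k' = c
    have hfix : ∀ k : K, Q (ConjClasses.mk k) → ∃ c : C', IsConj k (C'.subtype c) := by
      intro k hk
      letI : MulAction P {x : K // IsConj k x} :=
        { smul := fun s x => ⟨s • (x : K), ConjClasses.mk_eq_mk_iff_isConj.1
            (hk.2 x (ConjClasses.mk_eq_mk_iff_isConj.2 x.2.symm) s s.2 _ rfl).symm⟩
          one_smul := fun x => Subtype.ext (one_smul P (x : K))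
          mul_smul := fun s t x => Subtype.ext (mul_smul s t (x : K)) }
      have hnd : ¬ p ∣ Nat.card {x : K // IsConj k x} := by
        rw [card_isConj_eq_index]
        exact fun hd => hK (hd.trans (Subgroup.index_dvd_card _))
      obtain ⟨x, hx⟩ := hP.nonempty_fixed_point_of_prime_not_dvd_card {x : K // IsConj k x} hnd
      obtain ⟨c, hc⟩ := (hι.mem (x : K)).2 fun s => congrArg Subtype.val (hx s)
      exact ⟨c, hc ▸ x.2⟩
    let Ψ : {c : ConjClasses C' // ∀ d : C', ConjClasses.mk d = c → IsConj d d⁻¹} → {c : ConjClasses K // Q c} :=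
      fun c => ⟨ConjClasses.map C'.subtype c.1, by
        obtain ⟨c, hc⟩ := c
        obtain ⟨d, rfl⟩ := ConjClasses.exists_rep c
        refine ⟨fun k hk => ?_, fun k hk x hx k' e => ?_⟩
        · have hkd : IsConj k (C'.subtype d) := ConjClasses.mk_eq_mk_iff_isConj.1 hk
          obtain ⟨a, ha⟩ := isConj_iff.1 hkd.symm
          have hd1 : IsConj (C'.subtype d) (C'.subtype d⁻¹) := C'.subtype.map_isConj (hc d rfl)
          refine hkd.trans (hd1.trans (isConj_iff.2 ⟨a, ?_⟩))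
          rw [map_inv, ← ha]; group
        · refine (ConjClasses.mk_eq_mk_iff_isConj.2 ?_).trans hk
          rw [(hsmc ⟨x, hx⟩ k k').1 e]
          have hkd : IsConj k (C'.subtype d) := ConjClasses.mk_eq_mk_iff_isConj.1 hk
          have h2 := (MulDistribMulAction.toMonoidHom K (⟨x, hx⟩ : P)).map_isConj hkd
          rw [MulDistribMulAction.toMonoidHom_apply, MulDistribMulAction.toMonoidHom_apply,
            (hι.mem _).1 ⟨d, rfl⟩] at h2
          exact h2.trans hkd.symm⟩
    have hΨ : Function.Bijective Ψ := by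
      constructor
      · rintro ⟨c, hc⟩ ⟨c', hc'⟩ h
        obtain ⟨d, rfl⟩ := ConjClasses.exists_rep c
        obtain ⟨d', rfl⟩ := ConjClasses.exists_rep c'
        exact Subtype.ext (ConjClasses.mk_eq_mk_iff_isConj.2
          (isConj_fixed hp hP hι hK (ConjClasses.mk_eq_mk_iff_isConj.1 (congrArg Subtype.val h))))
      · rintro ⟨c, hc⟩
        obtain ⟨k, rfl⟩ := ConjClasses.exists_rep c
        obtain ⟨d, hd⟩ := hfix k hc
        refine ⟨⟨ConjClasses.mk d, fun e he => ?_⟩, Subtype.ext (ConjClasses.mk_eq_mk_iff_isConj.2 hd.symm)⟩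
        have hed : IsConj e d := ConjClasses.mk_eq_mk_iff_isConj.1 he
        refine isConj_fixed hp hP hι hK ?_
        rw [map_inv]
        have hek : IsConj (C'.subtype e) k := (C'.subtype.map_isConj hed).trans hd.symm
        obtain ⟨a, ha⟩ := isConj_iff.1 hek
        refine hek.trans ((hc.1 k rfl).trans (isConj_iff.2 ⟨a⁻¹, ?_⟩))
        rw [← ha]; group
    have hcount := (Nat.card_congr (Equiv.subtypeEquivRight hinv)).trans ((Nat.card_eq_of_bijective Φ hΦ).trans
      ((Nat.card_congr (Equiv.subtypeEquivRight conjIrr_eq_iff)).trans (card_real_irr.trans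
        (Nat.card_eq_of_bijective Ψ hΨ))))
    refine ⟨hcount, fun hall k hk => ?_⟩
    have hsub : ∀ c : ConjClasses K, (∀ g : K, ConjClasses.mk g = c → IsConj g g⁻¹) → Q c := by
      intro c hc
      have he : Nat.card {c : ConjClasses K // ∀ g : K, ConjClasses.mk g = c → IsConj g g⁻¹} =
          Nat.card {c : ConjClasses K // Q c} := by
        rw [← card_real_irr, ← hcount]
        exact Nat.card_congr (Equiv.subtypeEquivRight fun θ => ⟨fun h => ⟨h, hall θ h⟩, fun h => h.1⟩)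
      let inc : {c : ConjClasses K // Q c} → {c : ConjClasses K // ∀ g : K, ConjClasses.mk g = c → IsConj g g⁻¹} :=
        fun c => ⟨c.1, c.2.1⟩
      have hinj : Function.Injective inc := fun a b h =>
        Subtype.ext (congrArg (fun x : {c : ConjClasses K // ∀ g : K, ConjClasses.mk g = c → IsConj g g⁻¹} => x.1) h)
      obtain ⟨c', hc'⟩ := ((Nat.bijective_iff_injective_and_card inc).2 ⟨hinj, he.symm⟩).2 ⟨c, hc⟩
      have : c'.1 = c := congrArg Subtype.val hc'
      exact this ▸ c'.2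
    obtain ⟨d, hd⟩ := hfix k (hsub _ fun g hg => by
      obtain ⟨a, ha⟩ := isConj_iff.1 (ConjClasses.mk_eq_mk_iff_isConj.1 hg).symm
      refine (ConjClasses.mk_eq_mk_iff_isConj.1 hg).trans (hk.trans (isConj_iff.2 ⟨a, ?_⟩))
      rw [← ha]; group)
    refine ⟨C'.subtype d, hd, fun x hx => ?_⟩
    have := congrArg Subtype.val ((hι.mem _).1 ⟨d, rfl⟩ ⟨x, hx⟩)
    rwa [hsm] at this

end Cfsg.Agent.S4911
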