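import Cfsg.Statements.S4912
import Cfsg.Agent.Lib.Char.LinearOver

set_option autoImplicit false
open Cfsg

namespace Cfsg.Agent.S4912

open Cfsg.Agent.Char

/-- Let G be a finite group with a non-abelian minimal normal subgroup N, and let φ be an irreducible complex character of N with stabilizer I in G such that φ extends to an irreducible character of I with Frobenius–Schur indicator +1. Put d = φ(1)·[G : I]. Then the number of linear characters of G with Frobenius–Schur indicator +1 is at most [G : I] times the number of irreducible characters of G of degree d with Frobenius–Schur indicator +1. -/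
theorem result {G : Type*} [Group G] [Finite G] (N : Subgroup G) (hN : N.Normal) (hN1 : N ≠ ⊥) (hmin : ∀ M : Subgroup G, M.Normal → M ≤ N → M = ⊥ ∨ M = N) (hna : ¬ IsMulCommutative ↥N) (φ : Cfsg.IrrCharacter ↥N) (I : Subgroup G) (hI : ∀ g : G, g ∈ I ↔ ∀ n n' : ↥N, (n' : G) = g * (n : G) * g⁻¹ → (φ : ↥N → ℂ) n' = (φ : ↥N → ℂ) n) (hNI : N ≤ I) (hext : ∃ ψ : Cfsg.IrrCharacter ↥I, (Nat.card ↥I : ℂ)⁻¹ * ∑ᶠ g : ↥I, (ψ : ↥I → ℂ) (g * g) = 1 ∧ ∀ n : ↥N, (ψ : ↥I → ℂ) (Subgroup.inclusion hNI n) = (φ : ↥N → ℂ) n) : Nat.card {χ : Cfsg.IrrCharacter G // Cfsg.charDegree (χ : G → ℂ) = 1 ∧ (Nat.card G : ℂ)⁻¹ * ∑ᶠ g : G, (χ : G → ℂ) (g * g) = 1} ≤ I.index * Nat.card {χ : Cfsg.IrrCharacter G // Cfsg.charDegree (χ : G → ℂ) = Cfsg.charDegree (φ : ↥N → ℂ) * I.index ∧ (Nat.card G : ℂ)⁻¹ * ∑ᶠ g : G, (χ : G → ℂ) (g * g) = 1} := by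
  classical
  haveI := hN
  haveI := Fintype.ofFinite G
  haveI := Fintype.ofFinite N
  haveI := Fintype.ofFinite I
  have hI' : I = inertia N (φ : N → ℂ) := eq_inertia_of_forall N fun g => by
    rw [hI g]
    refine ⟨fun h n => h n _ rfl, fun h n n' e => ?_⟩
    rw [← h n]
    exact congrArg (φ : N → ℂ) (Subtype.ext e)
  obtain ⟨ψ, hν, hψ⟩ := hext
  rw [finsum_eq_sum_of_fintype] at hν
  simp only [finsum_eq_sum_of_fintype]
  refine LinearOver.card_le N hmin hna φ.2 hI' hNI ψ.2 hψ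
    (fun χ => indicatorFS χ = 1) (fun χ => indicatorFS χ = 1) (fun l hl => ?_)
  have hind := LinearOver.indicatorFS_indFun N φ.2 hI' hNI ψ.2 hψ hν
  have hsq : ∀ g, ((l (g * g) : ℂˣ) : ℂ) = 1 := by
    intro g
    rcases indicatorFS_trichotomy (isIrrCharacter_monoidHom l) with ⟨h, -⟩ | ⟨-, h⟩
    · have him := h g
      have hc : (starRingEnd ℂ) (l g : ℂ) = l g := Complex.conj_eq_iff_im.mpr him
      have hn : ‖(l g : ℂ)‖ = 1 := Complex.norm_eq_one_of_pow_eq_one (n := orderOf g)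
        (by rw [← Units.val_pow_eq_pow_val, ← map_pow, pow_orderOf_eq_one, map_one, Units.val_one]) (orderOf_pos g).ne'
      rw [map_mul, Units.val_mul]
      nth_rewrite 2 [← hc]
      rw [Complex.mul_conj, Complex.normSq_eq_norm_sq, hn]
      simp
    · rw [hl] at h; exact absurd h one_ne_zero
  have e : indFun I (fun h : I => (l h : ℂ) * (ψ : I → ℂ) h) = (fun g => (l g : ℂ)) * indFun I (ψ : I → ℂ) :=
    indFun_mul I (ψ : I → ℂ) (IsCharacter.isClassFunction (IsIrrCharacter.isCharacter (isIrrCharacter_monoidHom l)))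
  rw [e]
  simp only [indicatorFS, Pi.mul_apply, hsq, one_mul]
  exact hind

end Cfsg.Agent.S4912
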