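import Cfsg.Statements.S4914
import Cfsg.Agent.Lib.Block.GlaubermanNormalMain

set_option autoImplicit false
open Cfsg

namespace Cfsg.Agent.S4914

open Cfsg.Agent.Block Cfsg.Agent.Char

/-- Let P and K be subgroups of a finite group G with P a p-group normalizing K, and suppose K has a normal Sylow p-subgroup Q. Let C be the subgroup of those k ∈ K whose commutator with every element of P lies in Q (so that C/Q is the fixed-point subgroup of P on K/Q). Then there is a bijection f from the P-invariant irreducible complex characters of K onto the P-invariant irreducible complex characters of C such that, for every P-invariant irreducible character χ of K, the multiplicity of f(χ) in the restriction of χ to C is a natural number congruent to 1 or to −1 modulo p, every other P-invariant irreducible character of C occurs in that restriction with multiplicity divisible by p, and the degrees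 of χ and f(χ) are congruent modulo p up to sign. -/
theorem result {G : Type*} [Group G] [Finite G] (p : ℕ) [Fact p.Prime] (P K Q C : Subgroup G) (hP : IsPGroup p ↥P) (hPK : P ≤ Subgroup.normalizer (K : Set G)) (hQK : Q ≤ K) (hQn : ∀ k ∈ K, ∀ q ∈ Q, k * q * k⁻¹ ∈ Q) (hQp : ∃ a : ℕ, Nat.card ↥Q = p ^ a) (hQsyl : ¬ p ∣ Q.relIndex K) (hCK : C ≤ K) (hC : ∀ k : G, k ∈ C ↔ (k ∈ K ∧ ∀ x ∈ P, x * k * x⁻¹ * k⁻¹ ∈ Q)) : ∃ f : {χ : Cfsg.IrrCharacter ↥K // (∀ x ∈ P, ∀ k k' : ↥K, (k' : G) = x * (k : G) * x⁻¹ → (χ : ↥K → ℂ) k' = (χ : ↥K → ℂ) k)} → {ξ : Cfsg.IrrCharacter ↥C // (∀ x ∈ P, ∀ k k' : ↥C, (k' : G) = x * (k : G) * x⁻¹ → (ξ : ↥C → ℂ) k' = (ξ : ↥C → ℂ) k)}, Function.Bijective f ∧ ∀ χ, (∀ ξ : {ξ : Cfsg.IrrCharacter ↥C // (∀ x ∈ P, ∀ k k' : ↥C, (k' : G) = x * (k : G) * x⁻¹ → (ξ : ↥C → ℂ) k' = (ξ : ↥C → ℂ) k)}, ∃ m : ℕ, (Nat.card ↥C : ℂ)⁻¹ * ∑ᶠ c : ↥C, (χ.1 : ↥K → ℂ) (Subgroup.inclusion hCK c) *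 (starRingEnd ℂ) ((ξ.1 : ↥C → ℂ) c) = (m : ℂ) ∧ (ξ = f χ → ((m : ZMod p) = 1 ∨ (m : ZMod p) = -1)) ∧ (ξ ≠ f χ → p ∣ m)) ∧ ((Cfsg.charDegree ((f χ).1 : ↥C → ℂ) : ZMod p) = (Cfsg.charDegree (χ.1 : ↥K → ℂ) : ZMod p) ∨ (Cfsg.charDegree ((f χ).1 : ↥C → ℂ) : ZMod p) = -(Cfsg.charDegree (χ.1 : ↥K → ℂ) : ZMod p)) := by
  classical
  haveI := Fintype.ofFinite G
  have hp : p.Prime := Fact.out
  have hmul : ∀ (x : ↥P) (k : ↥K), (x : G) * k * (x : G)⁻¹ ∈ K := fun x k =>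
    ((Subgroup.mem_normalizer_iff.1 (hPK x.2)) k).1 k.2
  letI : MulDistribMulAction ↥P ↥K :=
    { smul := fun x k => ⟨(x : G) * k * (x : G)⁻¹, hmul x k⟩
      one_smul := fun k => Subtype.ext (show ((1 : ↥P) : G) * k * ((1 : ↥P) : G)⁻¹ = k by simp)
      mul_smul := fun x y k => Subtype.ext (show ((x * y : ↥P) : G) * k * ((x * y : ↥P) : G)⁻¹ = (x : G) * ((y : G) * k * (y : G)⁻¹) * (x : G)⁻¹ by simp [mul_assoc])
      smul_mul := fun x a b => Subtype.ext (show (x : G) * ((a * b : ↥K) : G) * (x : G)⁻¹ = ((x : G) * a * (x : G)⁻¹) * ((x : G) * b * (x : G)⁻¹) by simp [mul_assoc])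
      smul_one := fun x => Subtype.ext (show (x : G) * ((1 : ↥K) : G) * (x : G)⁻¹ = 1 by simp) }
  have hsm : ∀ (x : ↥P) (k : ↥K), ((x • k : ↥K) : G) = (x : G) * k * (x : G)⁻¹ := fun x k => rfl
  let Q' := Q.subgroupOf K
  let C' := C.subgroupOf K
  haveI : Q'.Normal := ⟨fun n hn g => hQn g g.2 n hn⟩
  have hQ' : IsPGroup p Q' := by
    obtain ⟨a, ha⟩ := hQp
    exact (IsPGroup.of_card ha).of_equiv (Subgroup.subgroupOfEquivOfLe hQK).symm
  have hidx : ¬ p ∣ Q'.index := hQsyl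
  have hQS : ∀ (x : ↥P) (q : Q'), x • (q : ↥K) ∈ Q' := fun x q => by
    obtain ⟨j, hj⟩ := hQ' q
    have h1 : (x • (q : ↥K)) ^ p ^ j = 1 := by rw [← smul_pow', ← Subgroup.coe_pow, hj, Subgroup.coe_one, smul_one]
    have h2 : orderOf (((x • (q : ↥K) : ↥K)) : ↥K ⧸ Q') ∣ p ^ j :=
      orderOf_dvd_of_pow_eq_one (by rw [← QuotientGroup.mk_pow, h1, QuotientGroup.mk_one])
    have h3 : orderOf (((x • (q : ↥K) : ↥K)) : ↥K ⧸ Q') ∣ Q'.index := by
      rw [Subgroup.index_eq_card]; exact orderOf_dvd_natCard _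
    obtain ⟨i, -, hi⟩ := (Nat.dvd_prime_pow hp).1 h2
    rcases Nat.eq_zero_or_pos i with rfl | hi0
    · rw [pow_zero, orderOf_eq_one_iff] at hi
      exact (QuotientGroup.eq_one_iff _).1 hi
    · exact absurd ((dvd_pow_self p hi0.ne').trans (hi ▸ h3)) hidx
  have hC' : ∀ k : ↥K, k ∈ C' ↔ ∀ x : ↥P, k⁻¹ * x • k ∈ Q' := fun k => by
    rw [Subgroup.mem_subgroupOf, hC]
    refine ⟨fun h x => ?_, fun h => ⟨k.2, fun x hx => ?_⟩⟩
    · have h1 := hQn _ (K.inv_mem k.2) _ (h.2 x x.2)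
      rw [Subgroup.mem_subgroupOf]
      simpa [hsm, mul_assoc] using h1
    · have h1 := hQn _ k.2 _ (Subgroup.mem_subgroupOf.1 (h ⟨x, hx⟩))
      simpa [hsm, mul_assoc] using h1
  haveI := Fintype.ofFinite C'
  obtain ⟨f, hbij, hf⟩ := glauberman_normal (S := ↥P) hp hP Q' C' hQ' hidx hQS hC'
  let eC : C' ≃* ↥C := Subgroup.subgroupOfEquivOfLe hCK
  let α : {χ : Cfsg.IrrCharacter ↥K // (∀ x ∈ P, ∀ k k' : ↥K, (k' : G) = x * (k : G) * x⁻¹ → (χ : ↥K → ℂ) k' = (χ : ↥K → ℂ) k)} ≃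
      {χ : Cfsg.IrrCharacter ↥K // OpInv ↥P (χ : ↥K → ℂ)} :=
    Equiv.subtypeEquivRight fun χ => ⟨fun h x k => h x x.2 k _ (hsm x k), fun h x hx k k' e => by
      rw [show k' = (⟨x, hx⟩ : ↥P) • k from Subtype.ext (e.trans (hsm ⟨x, hx⟩ k).symm)]
      exact h _ k⟩
  let β₀ : IrrCharacter C' ≃ IrrCharacter ↥C :=
    { toFun := fun ξ => ⟨fun c => (ξ : C' → ℂ) (eC.symm c), isIrrCharacter_comp_mulEquiv eC.symm ξ.2⟩
      invFun := fun ξ => ⟨fun c => (ξ : ↥C → ℂ) (eC c), isIrrCharacter_comp_mulEquiv eC ξ.2⟩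
      left_inv := fun ξ => Subtype.ext (funext fun c => congrArg (ξ : C' → ℂ) (eC.symm_apply_apply c))
      right_inv := fun ξ => Subtype.ext (funext fun c => congrArg (ξ : ↥C → ℂ) (eC.apply_symm_apply c)) }
  let β : {ξ : IrrCharacter C' // ∀ (s : ↥P) (c c' : C'), (c' : ↥K) = s • (c : ↥K) → (ξ : C' → ℂ) c' = (ξ : C' → ℂ) c} ≃
      {ξ : Cfsg.IrrCharacter ↥C // (∀ x ∈ P, ∀ k k' : ↥C, (k' : G) = x * (k : G) * x⁻¹ → (ξ : ↥C → ℂ) k' = (ξ : ↥C → ℂ) k)} :=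
    β₀.subtypeEquiv fun ξ => ⟨fun h x hx k k' e => h ⟨x, hx⟩ (eC.symm k) (eC.symm k') (Subtype.ext e),
      fun h s c c' e => by
        have h1 := h s s.2 (eC c) (eC c') (congrArg Subtype.val e :)
        show (ξ : C' → ℂ) c' = (ξ : C' → ℂ) c
        simpa [β₀] using h1⟩
  refine ⟨fun χ => β (f (α χ)), (β.bijective.comp hbij).comp α.bijective, fun χ => ⟨fun ξ => ?_, ?_⟩⟩
  · obtain ⟨m, hm, h1, h2⟩ := (hf (α χ)).1 (β.symm ξ)
    refine ⟨m, ?_, fun e => h1 (by rw [e, Equiv.symm_apply_apply]), fun hne => h2 fun e => hne (by show ξ = β (f (α χ)); rw [← e, Equiv.apply_symm_apply])⟩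
    rw [← hm, finsum_eq_sum_of_fintype]
    rw [← classInner_comp_mulEquiv eC.symm (fun c : C' => ((α χ).1 : ↥K → ℂ) c) ((β.symm ξ).1 : C' → ℂ)]
    simp only [classInner]
    refine congrArg _ (Finset.sum_congr rfl fun c _ => ?_)
    congr 1
  · have e : charDegree ((β (f (α χ))).1 : ↥C → ℂ) = charDegree ((f (α χ)).1 : C' → ℂ) := by
      apply Nat.cast_injective (R := ℂ)
      rw [charDegree_cast (IsIrrCharacter.isCharacter (f (α χ)).1.2), charDegree_cast (IsIrrCharacter.isCharacter (β (f (α χ))).1.2)]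
      show ((f (α χ)).1 : C' → ℂ) (eC.symm 1) = _
      rw [map_one]
    rw [e]
    exact (hf (α χ)).2

end Cfsg.Agent.S4914
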