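import Cfsg.Statements.S4916
import Cfsg.Agent.Lib.Block.Regular

set_option autoImplicit false
open Cfsg

namespace Cfsg.Agent.S4916

open Cfsg.Agent.Block Cfsg.Agent.Char

/-- Let G be a finite group, p a prime and M a maximal ideal of the algebraic integers containing p. Then the principal character is the only irreducible character of degree prime to p in the principal p-block of G if and only if p does not divide the order of G. -/
theorem result {G : Type*} [Group G] [Finite G] (p : ℕ) [Fact p.Prime] (M : Ideal Cfsg.AlgInt) (hM : Cfsg.IsPModular p M) : (∀ χ : Cfsg.IrrCharacter G, χ ∈ Cfsg.principalBlock M G → ¬ p ∣ Cfsg.charDegree (χ : G → ℂ) → (χ : G → ℂ) = fun _ => (1 : ℂ)) ↔ ¬ p ∣ Nat.card G := by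
  haveI := prime_of_isPModular hM
  classical
  haveI := Fintype.ofFinite G
  set one : IrrCharacter G := ⟨fun _ => 1, isIrrCharacter_one⟩ with hone
  have hB : IsPBlock M (principalBlock M G) := ⟨one, rfl⟩
  have honeB : one ∈ principalBlock M G := self_mem_blockOf one
  constructor
  · intro h hdvd
    obtain ⟨x, hx⟩ := exists_prime_orderOf_dvd_card' p hdvd
    have h0 := blockKernel_eq_zero hM hB (g := (1 : G)) (y := x) (fun e => by
      have h2 := e.2 (by rw [hx])
      rw [orderOf_one] at h2
      exact (Fact.out : p.Prime).one_lt.ne' (Nat.dvd_one.1 h2))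
    rw [blockKernel, finsum_mem_eq_finite_toFinset_sum _ (principalBlock M G).toFinite,
      ← Finset.add_sum_erase _ _ ((Set.Finite.mem_toFinset _).2 honeB)] at h0
    have hI : MemLocalIdeal M (∑ χ ∈ (principalBlock M G).toFinite.toFinset.erase one, (χ : G → ℂ) 1 * (starRingEnd ℂ) ((χ : G → ℂ) x)) := by
      refine memLocalIdeal_sum _ _ fun χ hχ => ?_
      rw [Finset.mem_erase, Set.Finite.mem_toFinset] at hχ
      have hp1 : p ∣ charDegree (χ : G → ℂ) := by_contra fun hn => hχ.1 (Subtype.ext (h χ hχ.2 hn))
      rw [← charDegree_cast (IsIrrCharacter.isCharacter χ.2), ← IsCharacter.map_inv (IsIrrCharacter.isCharacter χ.2)]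
      exact memLocalIdeal_mul_right (irr_mem_locRing χ _) ((memLocalIdeal_natCast_iff hM.1 hM.2.2 _).2 hp1)
    rw [show (one : G → ℂ) 1 = 1 from rfl, map_one, one_mul, add_eq_zero_iff_eq_neg] at h0
    exact not_memLocalIdeal_one (h0 ▸ memLocalIdeal_neg hI)
  · intro hdvd χ hχ _
    have h1 : blockOf M (one : G → ℂ) = {one} := blockOf_eq_singleton hM one fun hd =>
      hdvd (hd.trans (Nat.div_dvd_of_dvd (charDegree_dvd_card one.2)))
    have h2 : χ ∈ blockOf M (one : G → ℂ) := hχ
    rw [h1, Set.mem_singleton_iff] at h2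
    rw [h2]

end Cfsg.Agent.S4916
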