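import Cfsg.Statements.S4955
import Cfsg.Agent.Lib.Block.PPrimeDegrees
import Cfsg.Agent.Lib.Block.AlgNorm
import Cfsg.Agent.Lib.Block.PowCongr
import Cfsg.Agent.Lib.Block.RegInner
import Cfsg.Agent.Lib.Block.CentralQuotientBlock

set_option autoImplicit false
open Cfsg

namespace Cfsg.Agent.S4955

open Cfsg.Agent.Block Cfsg.Agent.Char

/-- Let X be a finite group with an abelian normal Sylow p-subgroup V (a normal p-subgroup of index prime to p in which any two elements commute), and let G be a complement to V in X. Then for every v in V, writing C for the centralizer of v in G, the number k(X) of conjugacy classes of X satisfies k(X) ≤ (order of C)·(order of V) − ((order of G) − k(G)); the statement is written with the subtracted term moved to the left. In particular, if some v in V is centralized by no nonidentity element of G, then k(X) is at most the order of V. -/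
theorem result {X : Type*} [Group X] [Finite X] (p : ℕ) [Fact p.Prime] (V : Subgroup X) [V.Normal] (hVp : IsPGroup p V) (hidx : ¬ p ∣ V.index) (hab : ∀ a ∈ V, ∀ b ∈ V, a * b = b * a) (G : Subgroup X) (hGV : Subgroup.IsComplement' V G) (v : X) (hv : v ∈ V) : Nat.card (ConjClasses X) + Nat.card G ≤ Nat.card ↥(G ⊓ Subgroup.centralizer ({v} : Set X)) * Nat.card V + Nat.card (ConjClasses G) := by
  classical
  haveI := Fintype.ofFinite X
  haveI := Fintype.ofFinite (IrrCharacter X)
  haveI := Fintype.ofFinite (IrrCharacter G)
  have hp : p.Prime := Fact.out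
  -- a surjection to the complement with kernel the normal subgroup
  let e : X ⧸ V ≃* G := Subgroup.IsComplement'.QuotientMulEquiv hGV.symm
  let f : X →* G := e.toMonoidHom.comp (QuotientGroup.mk' V)
  have hf : Function.Surjective f := e.surjective.comp (QuotientGroup.mk'_surjective V)
  have hfV : f v = 1 := by
    simp [f, (QuotientGroup.eq_one_iff v).2 hv]
  let infl : IrrCharacter G → IrrCharacter X := fun φ =>
    ⟨fun x => (φ : G → ℂ) (f x), isIrrCharacter_comp_surjective f hf φ.2⟩
  have hinfl : Function.Injective infl := by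
    intro a b h
    refine Subtype.ext (funext fun g => ?_)
    obtain ⟨x, rfl⟩ := hf g
    exact congrFun (congrArg Subtype.val h) x
  -- all character values at v are non-zero
  obtain ⟨n, hn⟩ := IsPGroup.iff_card.1 hVp
  let P : Sylow p X := hVp.toSylow hidx
  haveI : (P : Subgroup X).Normal := by
    show V.Normal
    infer_instance
  have hpd : PPrimeDegrees p X := pPrimeDegrees_of_normal_abelian_sylow P
    ⟨⟨fun a b => Subtype.ext (hab a a.2 b b.2)⟩⟩
  obtain ⟨M, hM⟩ := exists_isPModular hp
  haveI := prime_of_isPModular hM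
  have hne : ∀ χ : IrrCharacter X, (χ : X → ℂ) v ≠ 0 := by
    intro χ h0
    obtain ⟨a, b, ha, hb, hc⟩ := exists_apply_pow_congr_ideal hp
      (fun z => natCast_mem_iff hp hM.2.2 z) (IsIrrCharacter.isCharacter χ.2) v n
    have hv1 : v ^ p ^ n = 1 := by
      rw [← hn]
      exact congrArg Subtype.val (pow_card_eq_one' (x := (⟨v, hv⟩ : V)))
    rw [hv1, ← charDegree_cast (IsIrrCharacter.isCharacter χ.2)] at hb
    have ha0 : a = 0 := Subtype.ext (by rw [ha, h0]; rfl)
    have hbe : b = ((charDegree (χ : X → ℂ) : ℕ) : AlgInt) := Subtype.ext (by rw [hb]; simp)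
    rw [ha0, zero_pow (pow_ne_zero _ hp.ne_zero), zero_sub, neg_mem_iff, hbe,
      natCast_mem_iff hp hM.2.2] at hc
    exact hpd χ hc
  -- the second orthogonality relation at v
  have htot := second_orthogonality v v
  rw [if_pos (IsConj.refl v)] at htot
  set K : Finset (IrrCharacter X) := Finset.univ.image infl with hK
  rw [← Finset.sum_add_sum_compl K] at htot
  have hKsum : ∑ χ ∈ K, (χ : X → ℂ) v * (starRingEnd ℂ) ((χ : X → ℂ) v) = (Nat.card G : ℂ) := by
    rw [hK, Finset.sum_image fun a _ b _ h => hinfl h]
    have h1 := second_orthogonality (1 : G) 1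
    rw [if_pos (IsConj.refl 1)] at h1
    have hcen : Subgroup.centralizer ({(1 : G)} : Set G) = ⊤ :=
      top_unique fun g _ => Subgroup.mem_centralizer_singleton_iff.2 (by simp)
    rw [hcen, Subgroup.card_top] at h1
    rw [← h1]
    exact Finset.sum_congr rfl fun φ _ => by simp [infl, hfV]
  rw [hKsum] at htot
  have hle := card_le_of_sum_mul_conj (N := Nat.card X) Nat.card_pos.ne' Kᶜ
    (fun χ : IrrCharacter X => (χ : X → ℂ) v)
    (fun χ _ => character_mem_cycF (IsIrrCharacter.isCharacter χ.2) pow_card_eq_one')
    (fun χ _ => IsCharacter.isIntegral (IsIrrCharacter.isCharacter χ.2) v) (fun χ _ => hne χ)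
    (T := (Nat.card (Subgroup.centralizer ({v} : Set X)) : ℚ) - Nat.card G)
    (by push_cast; linear_combination htot)
  have hcount : Kᶜ.card + Nat.card (ConjClasses G) = Nat.card (ConjClasses X) := by
    rw [← card_irrCharacter, ← card_irrCharacter, Nat.card_eq_fintype_card, Nat.card_eq_fintype_card]
    have : K.card = Fintype.card (IrrCharacter G) := by
      rw [hK, Finset.card_image_of_injective _ hinfl, Finset.card_univ]
    rw [← this, Finset.card_compl_add_card]
  have hleN : Kᶜ.card + Nat.card G ≤ Nat.card (Subgroup.centralizer ({v} : Set X)) := by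
    rw [le_sub_iff_add_le] at hle
    exact_mod_cast hle
  -- the centraliser of v
  have hC : Nat.card (Subgroup.centralizer ({v} : Set X)) ≤
      Nat.card ↥(G ⊓ Subgroup.centralizer ({v} : Set X)) * Nat.card V := by
    rw [← Nat.card_prod]
    let m : ↥(G ⊓ Subgroup.centralizer ({v} : Set X)) × V → Subgroup.centralizer ({v} : Set X) :=
      fun q => ⟨(q.2 : X) * q.1, mul_mem (Subgroup.mem_centralizer_singleton_iff.2 (hab _ q.2.2 _ hv)) q.1.2.2⟩
    refine Nat.card_le_card_of_surjective m fun x => ?_
    obtain ⟨⟨u, g⟩, hug⟩ := hGV.2 (x : X)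
    dsimp only at hug
    have hg : (g : X) ∈ Subgroup.centralizer ({v} : Set X) := by
      rw [show (g : X) = (u : X)⁻¹ * x by rw [← hug]; group]
      exact mul_mem (inv_mem (Subgroup.mem_centralizer_singleton_iff.2 (hab _ u.2 _ hv))) x.2
    exact ⟨(⟨g, g.2, hg⟩, ⟨u, u.2⟩), Subtype.ext hug⟩
  omega

end Cfsg.Agent.S4955
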