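import Cfsg.Statements.S4956
import Mathlib.GroupTheory.OrderOfElement
import Mathlib.Tactic.Group
import Mathlib.Algebra.BigOperators.Group.Finset.Basic

set_option autoImplicit false
open Cfsg

namespace Cfsg.Agent.S4956


/-- Let X be a finite group, V an abelian normal subgroup of X (any two elements of V commute) and G a complement to V in X whose order is coprime to that of V. Let S be a set of representatives of the orbits of G on V under conjugation: S lies in V and every element of V is conjugate under G to exactly one member of S. Then the number of conjugacy classes of X equals the sum, over s in S, of the number of conjugacy classes of the centralizer of s in G. -/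
theorem result {X : Type*} [Group X] [Finite X] (V : Subgroup X) [V.Normal] (hab : ∀ a ∈ V, ∀ b ∈ V, a * b = b * a) (G : Subgroup X) (hGV : Subgroup.IsComplement' V G) (hcop : (Nat.card V).Coprime (Nat.card G)) (S : Finset X) (hSV : ∀ s ∈ S, s ∈ V) (hrep : ∀ v ∈ V, ∃! s, s ∈ S ∧ ∃ g ∈ G, g * v * g⁻¹ = s) : Nat.card (ConjClasses X) = ∑ s ∈ S, Nat.card (ConjClasses ↥(G ⊓ Subgroup.centralizer ({s} : Set X))) := by
  classical
  letI : CommGroup V := { (inferInstance : Group V) with mul_comm := fun a b => Subtype.ext (hab a a.2 b b.2) }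
  set N := Nat.card G with hN
  set W := Nat.card V with hW
  have hcard : W * N = Nat.card X := hGV.card_mul_card
  let π : X →* G := (Subgroup.IsComplement'.QuotientMulEquiv hGV.symm).toMonoidHom.comp (QuotientGroup.mk' V)
  have hπV : ∀ x ∈ V, π x = 1 := fun x hx => by
    show (Subgroup.IsComplement'.QuotientMulEquiv hGV.symm) (x : X ⧸ V) = 1
    rw [(QuotientGroup.eq_one_iff x).2 hx]
    exact map_one _
  have hπG : ∀ g : G, π (g : X) = g := fun g => by
    have h := (Subgroup.IsComplement'.QuotientMulEquiv hGV.symm).apply_symm_apply g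
    exact h
  have hπker : ∀ x, π x = 1 → x ∈ V := fun x hx => by
    have : (Subgroup.IsComplement'.QuotientMulEquiv hGV.symm) (x : X ⧸ V) = 1 := hx
    rwa [MulEquiv.map_eq_one_iff, QuotientGroup.eq_one_iff] at this
  -- the two exponents
  obtain ⟨m, hm1, hm0⟩ := Nat.chineseRemainder hcop 1 0
  obtain ⟨m', hm'0, hm'1⟩ := Nat.chineseRemainder hcop 0 1
  have hmV : ∀ c ∈ V, c ^ m = c := fun c hc => by
    have hd : orderOf c ∣ W := by
      rw [show orderOf c = orderOf (⟨c, hc⟩ : V) from (Subgroup.orderOf_coe ⟨c, hc⟩)]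
      exact orderOf_dvd_natCard _
    conv_rhs => rw [← pow_one c]
    exact pow_eq_pow_iff_modEq.2 (hm1.of_dvd hd)
  have hmG : ∀ g : G, g ^ m = 1 := fun g => orderOf_dvd_iff_pow_eq_one.1
    ((orderOf_dvd_natCard g).trans (Nat.modEq_zero_iff_dvd.1 hm0))
  -- the map
  let Cs : S → Subgroup X := fun s => G ⊓ Subgroup.centralizer ({(s : X)} : Set X)
  let Φ : (Σ s : S, ConjClasses (Cs s)) → ConjClasses X := fun q =>
    Quotient.liftOn q.2 (fun g => ConjClasses.mk ((q.1 : X) * g)) (by
      intro a b hab'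
      obtain ⟨c, hc⟩ := isConj_iff.1 hab'
      refine ConjClasses.mk_eq_mk_iff_isConj.2 (isConj_iff.2 ⟨c, ?_⟩)
      have hcs := Subgroup.mem_centralizer_singleton_iff.1 c.2.2
      rw [← hc, Subgroup.coe_mul, Subgroup.coe_mul, Subgroup.coe_inv,
        ← mul_assoc, hcs]
      group)
  have hinj : Function.Injective Φ := by
    rintro ⟨s, a⟩ ⟨t, b⟩ h
    induction a using Quotient.inductionOn with | _ a => ?_
    induction b using Quotient.inductionOn with | _ b => ?_
    have h' : ConjClasses.mk ((s : X) * a) = ConjClasses.mk ((t : X) * b) := h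
    obtain ⟨y, hy⟩ := isConj_iff.1 (ConjClasses.mk_eq_mk_iff_isConj.1 h')
    have hpow : ∀ (r : S) (g : Cs r), ((r : X) * g) ^ m = r := fun r g => by
      have hg : Commute (r : X) g := (Subgroup.mem_centralizer_singleton_iff.1 g.2.2).symm
      rw [hg.mul_pow, hmV _ (hSV _ r.2),
        show ((g : X) ^ m) = 1 from congrArg Subtype.val (hmG ⟨g, g.2.1⟩), mul_one]
    have hys : y * (s : X) * y⁻¹ = t := by
      have := congrArg (· ^ m) hy
      simp only [conj_pow, hpow] at this
      exact this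
    obtain ⟨⟨u, k⟩, huk⟩ := hGV.2 y
    dsimp only at huk
    have hks : (k : X) * s * (k : X)⁻¹ = t := by
      have h1 : (k : X) * s * (k : X)⁻¹ = (u : X)⁻¹ * (t : X) * u := by
        rw [← hys, ← huk]; group
      rw [h1, mul_assoc, ← hab _ u.2 _ (hSV _ t.2), inv_mul_cancel_left]
    obtain ⟨r, -, hu⟩ := hrep (s : X) (hSV _ s.2)
    have e1 := hu s ⟨s.2, 1, one_mem G, by simp⟩
    have e2 := hu t ⟨t.2, k, k.2, hks⟩
    have hst : s = t := Subtype.ext (e1.trans e2.symm)
    subst hst
    refine congrArg (Sigma.mk s) (Quotient.sound (isConj_iff.2 ⟨⟨k, k.2, ?_⟩, ?_⟩))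
    · refine Subgroup.mem_centralizer_singleton_iff.2 ?_
      exact mul_inv_eq_iff_eq_mul.1 hks
    · have hπs : π (s : X) = 1 := hπV _ (hSV _ s.2)
      have h2 := congrArg π hy
      rw [← huk] at h2
      simp only [map_mul, map_inv, hπs, one_mul, hπV _ u.2] at h2
      rw [show (a : X) = ((⟨a, a.2.1⟩ : G) : X) from rfl,
        show (b : X) = ((⟨b, b.2.1⟩ : G) : X) from rfl, hπG, hπG, hπG] at h2
      exact Subtype.ext (by simpa using congrArg (fun q : G => (q : X)) h2)
  have hsurj : Function.Surjective Φ := by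
    intro cl
    obtain ⟨x, rfl⟩ := ConjClasses.exists_rep cl
    have hx : ∀ k, Nat.card X ∣ k → x ^ k = 1 := fun k hk =>
      orderOf_dvd_iff_pow_eq_one.1 ((orderOf_dvd_natCard x).trans hk)
    have hc : x ^ m ∈ V := hπker _ (by rw [map_pow]; exact hmG _)
    have hsplit : x ^ m * x ^ m' = x := by
      rw [← pow_add]
      conv_rhs => rw [← pow_one x]
      have hmod : m + m' ≡ 1 [MOD W * N] := (Nat.modEq_and_modEq_iff_modEq_mul hcop).1
        ⟨hm1.add hm'0, hm0.add hm'1⟩
      rw [hcard] at hmod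
      exact pow_eq_pow_iff_modEq.2 (hmod.of_dvd (orderOf_dvd_natCard x))
    -- conjugate the part of order prime to the normal subgroup into the complement
    set g0 := x ^ m' with hg0
    have hg0N : g0 ^ N = 1 := by
      rw [hg0, ← pow_mul]
      exact hx _ (hcard ▸ Nat.mul_dvd_mul_right (Nat.modEq_zero_iff_dvd.1 hm'0) N)
    set g : G := π g0 with hg
    have hgN : (g : X) ^ N = 1 := congrArg Subtype.val (pow_card_eq_one' (x := g))
    have hu0 : g0 * (g : X)⁻¹ ∈ V := hπker _ (by rw [map_mul, map_inv, hπG]; exact mul_inv_cancel _)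
    set u : V := ⟨g0 * (g : X)⁻¹, hu0⟩ with hu
    let c : ℕ → V := fun i => ⟨(g : X) ^ i * u * ((g : X) ^ i)⁻¹, (inferInstance : V.Normal).conj_mem _ u.2 _⟩
    have hprod : ∀ n, g0 ^ n = ((∏ i ∈ Finset.range n, c i : V) : X) * (g : X) ^ n := by
      intro n
      induction n with
      | zero => simp
      | succ n ih =>
        rw [pow_succ g0, ih, Finset.prod_range_succ, Subgroup.coe_mul]
        show _ = _ * ((g : X) ^ n * (g0 * (g : X)⁻¹) * ((g : X) ^ n)⁻¹) * (g : X) ^ (n + 1)
        group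
    have hnorm : (∏ i ∈ Finset.range N, c i) = 1 := by
      have := hprod N
      rw [hg0N, hgN, mul_one] at this
      exact Subtype.ext this.symm
    have hc0 : c 0 = u := Subtype.ext (by simp [c])
    have hcN : c N = u := Subtype.ext (by simp [c, hgN])
    let z : V := ∏ i ∈ Finset.range N, c i ^ i
    let φ : V →* V := (MulAut.conjNormal (g : X)).toMonoidHom
    have hφc : ∀ i, φ (c i) = c (i + 1) := fun i => Subtype.ext (by
      show ((MulAut.conjNormal (g : X)) (c i) : X) = _
      rw [MulAut.conjNormal_apply]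
      show (g : X) * ((g : X) ^ i * u * ((g : X) ^ i)⁻¹) * (g : X)⁻¹ = (g : X) ^ (i + 1) * u * ((g : X) ^ (i + 1))⁻¹
      group)
    have hshift : ∏ i ∈ Finset.range N, c (i + 1) = 1 := by
      have h1 := Finset.prod_range_succ' c N
      rw [Finset.prod_range_succ, hnorm, hc0, hcN, one_mul] at h1
      exact mul_eq_right.1 h1.symm
    have hz : φ z = z * u ^ N := by
      have h1 := Finset.prod_range_succ' (fun i => c i ^ i) N
      rw [Finset.prod_range_succ, pow_zero, mul_one, hcN] at h1
      rw [h1]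
      simp only [pow_succ, Finset.prod_mul_distrib, hshift, mul_one]
      simp only [z, map_prod, map_pow, hφc]
    obtain ⟨a, ha0, ha1⟩ : ∃ a : ℕ, N ∣ a ∧ a ≡ 1 [MOD W] :=
      ⟨m, Nat.modEq_zero_iff_dvd.1 hm0, hm1⟩
    obtain ⟨b, rfl⟩ := ha0
    let w : V := z ^ b
    have hw : (g : X) * w * (g : X)⁻¹ = (w : X) * u := by
      have h1 : φ w = w * u ^ (N * b) := by
        show φ (z ^ b) = _
        rw [map_pow, hz, mul_pow, ← pow_mul]
      have hum : u ^ (N * b) = u := by
        conv_rhs => rw [← pow_one u]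
        exact pow_eq_pow_iff_modEq.2 (ha1.of_dvd (orderOf_dvd_natCard u))
      rw [hum] at h1
      have h2 : ((MulAut.conjNormal (g : X)) w : X) = ((w * u : V) : X) := congrArg Subtype.val h1
      rwa [MulAut.conjNormal_apply] at h2
    have hwg : (w : X) * g0 * (w : X)⁻¹ = g := by
      have hu' : (u : X) = g0 * (g : X)⁻¹ := rfl
      rw [show g0 = (u : X) * g by rw [hu']; group, ← mul_assoc, ← hw]
      group
    set v := x ^ m with hv
    have hvg : (g : X) * v = v * (g : X) := by
      have hcm : Commute v g0 := Commute.pow_pow_self x m m'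
      have hwv : (w : X) * v * (w : X)⁻¹ = v := by rw [hab _ w.2 _ hc, mul_inv_cancel_right]
      rw [← hwg]
      conv_lhs => rw [← hwv]
      conv_rhs => rw [← hwv]
      calc (w : X) * g0 * (w : X)⁻¹ * ((w : X) * v * (w : X)⁻¹) = (w : X) * (g0 * v) * (w : X)⁻¹ := by group
        _ = (w : X) * (v * g0) * (w : X)⁻¹ := by rw [hcm.eq]
        _ = _ := by group
    obtain ⟨s, ⟨hs, h, hh, hhs⟩, -⟩ := hrep v hc
    have hmem : h * (g : X) * h⁻¹ ∈ Cs ⟨s, hs⟩ := by
      refine Subgroup.mem_inf.2 ⟨G.mul_mem (G.mul_mem hh g.2) (G.inv_mem hh), Subgroup.mem_centralizer_singleton_iff.2 ?_⟩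
      show h * (g : X) * h⁻¹ * s = s * (h * (g : X) * h⁻¹)
      rw [← hhs]
      calc h * (g : X) * h⁻¹ * (h * v * h⁻¹) = h * ((g : X) * v) * h⁻¹ := by group
        _ = h * (v * (g : X)) * h⁻¹ := by rw [hvg]
        _ = _ := by group
    refine ⟨⟨⟨s, hs⟩, ConjClasses.mk ⟨_, hmem⟩⟩, ?_⟩
    show ConjClasses.mk (s * (h * (g : X) * h⁻¹)) = ConjClasses.mk x
    refine ConjClasses.mk_eq_mk_iff_isConj.2 (IsConj.symm (isConj_iff.2 ⟨h * (w : X), ?_⟩))
    have hwv : (w : X) * v * (w : X)⁻¹ = v := by rw [hab _ w.2 _ hc, mul_inv_cancel_right]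
    conv_lhs => rw [← hsplit]
    rw [← hhs, ← hwg, show h * (w : X) * (v * g0) * (h * (w : X))⁻¹ = h * ((w : X) * v * (w : X)⁻¹) * ((w : X) * g0 * (w : X)⁻¹) * h⁻¹ by group, hwv]
    group
  rw [← Nat.card_congr (Equiv.ofBijective Φ ⟨hinj, hsurj⟩), Nat.card_sigma]
  exact Finset.sum_coe_sort S (fun s => Nat.card (ConjClasses ↥(G ⊓ Subgroup.centralizer ({s} : Set X))))

end Cfsg.Agent.S4956
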