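import Cfsg.Statements.S4965
import Mathlib.Tactic.Group
import Mathlib.GroupTheory.GroupAction.CardCommute

set_option autoImplicit false
open Cfsg

namespace Cfsg.Agent.S4965

/-- A finite group with an abelian normal subgroup has at most as many commuting pairs, hence classes,
as the split extension with the same action. -/
theorem result {X : Type*} [Group X] [Finite X] (V : Subgroup X) [V.Normal] (hab : ∀ a ∈ V, ∀ b ∈ V, a * b = b * a) (φ : X ⧸ V →* MulAut ↥V) (hφ : ∀ (x : X) (v : ↥V), ((φ (QuotientGroup.mk x) v : ↥V) : X) = x * v * x⁻¹) : Nat.card (ConjClasses X) ≤ Nat.card (ConjClasses (SemidirectProduct ↥V (X ⧸ V) φ)) := by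
  classical
  let Y := SemidirectProduct ↥V (X ⧸ V) φ
  haveI : Finite Y := Finite.of_equiv _ SemidirectProduct.equivProd.symm
  let PX := {p : X × X // Commute p.1 p.2}
  let PY := {p : Y × Y // Commute p.1 p.2}
  -- choose a commuting lift of every liftable pair of the quotient
  let lift : (X ⧸ V) × (X ⧸ V) → X × X := fun q =>
    if h : ∃ p : PX, ((p.1.1 : X ⧸ V), (p.1.2 : X ⧸ V)) = q then h.choose.1 else (1, 1)
  have hlift : ∀ p : PX, Commute (lift ((p.1.1 : X ⧸ V), (p.1.2 : X ⧸ V))).1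
        (lift ((p.1.1 : X ⧸ V), (p.1.2 : X ⧸ V))).2 ∧
      ((lift ((p.1.1 : X ⧸ V), (p.1.2 : X ⧸ V))).1 : X ⧸ V) = (p.1.1 : X ⧸ V) ∧
      ((lift ((p.1.1 : X ⧸ V), (p.1.2 : X ⧸ V))).2 : X ⧸ V) = (p.1.2 : X ⧸ V) := by
    intro p
    have h : ∃ r : PX, ((r.1.1 : X ⧸ V), (r.1.2 : X ⧸ V)) =
        ((p.1.1 : X ⧸ V), (p.1.2 : X ⧸ V)) := ⟨p, rfl⟩
    simp only [lift, dif_pos h]
    have hs := Prod.mk.inj h.choose_spec
    exact ⟨h.choose.2, hs.1, hs.2⟩
  -- the `V`-parts with respect to that lift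
  let a : PX → X := fun p => p.1.1 * (lift ((p.1.1 : X ⧸ V), (p.1.2 : X ⧸ V))).1⁻¹
  let b : PX → X := fun p => p.1.2 * (lift ((p.1.1 : X ⧸ V), (p.1.2 : X ⧸ V))).2⁻¹
  have ha : ∀ p, a p ∈ V := by
    intro p
    rw [← QuotientGroup.eq_one_iff, QuotientGroup.mk_mul, QuotientGroup.mk_inv, (hlift p).2.1,
      mul_inv_cancel]
  have hb : ∀ p, b p ∈ V := by
    intro p
    rw [← QuotientGroup.eq_one_iff, QuotientGroup.mk_mul, QuotientGroup.mk_inv, (hlift p).2.2,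
      mul_inv_cancel]
  let F : PX → Y × Y := fun p =>
    (⟨⟨a p, ha p⟩, (p.1.1 : X ⧸ V)⟩, ⟨⟨b p, hb p⟩, (p.1.2 : X ⧸ V)⟩)
  have hF : ∀ p, Commute (F p).1 (F p).2 := by
    intro p
    obtain ⟨hc, h1, h2⟩ := hlift p
    have key : ((p.1.1 : X ⧸ V) * (p.1.2 : X ⧸ V)) = (p.1.2 : X ⧸ V) * (p.1.1 : X ⧸ V) :=
      congrArg (QuotientGroup.mk' V) p.2.eq
    refine SemidirectProduct.ext (Subtype.ext ?_) key
    have A := hφ (lift ((p.1.1 : X ⧸ V), (p.1.2 : X ⧸ V))).1 ⟨b p, hb p⟩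
    have B := hφ (lift ((p.1.1 : X ⧸ V), (p.1.2 : X ⧸ V))).2 ⟨a p, ha p⟩
    rw [h1] at A
    rw [h2] at B
    show a p * ((φ (p.1.1 : X ⧸ V) ⟨b p, hb p⟩ : ↥V) : X) =
      b p * ((φ (p.1.2 : X ⧸ V) ⟨a p, ha p⟩ : ↥V) : X)
    rw [A, B]
    set x0 := (lift ((p.1.1 : X ⧸ V), (p.1.2 : X ⧸ V))).1 with hx0
    set y0 := (lift ((p.1.1 : X ⧸ V), (p.1.2 : X ⧸ V))).2 with hy0
    have e1 : a p * (x0 * b p * x0⁻¹) = p.1.1 * p.1.2 * (x0 * y0)⁻¹ := by
      show p.1.1 * x0⁻¹ * (x0 * (p.1.2 * y0⁻¹) * x0⁻¹) = _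
      group
    have e2 : b p * (y0 * a p * y0⁻¹) = p.1.2 * p.1.1 * (y0 * x0)⁻¹ := by
      show p.1.2 * y0⁻¹ * (y0 * (p.1.1 * x0⁻¹) * y0⁻¹) = _
      group
    show a p * (x0 * b p * x0⁻¹) = b p * (y0 * a p * y0⁻¹)
    rw [e1, e2, p.2.eq, hc.eq]
  have hinj : Function.Injective F := by
    intro p r hpr
    have h := Prod.mk.inj hpr
    have hp1 : (p.1.1 : X ⧸ V) = (r.1.1 : X ⧸ V) := congrArg SemidirectProduct.right h.1
    have hp2 : (p.1.2 : X ⧸ V) = (r.1.2 : X ⧸ V) := congrArg SemidirectProduct.right h.2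
    have ha' : a p = a r := congrArg (fun y : Y => ((y.left : ↥V) : X)) h.1
    have hb' : b p = b r := congrArg (fun y : Y => ((y.left : ↥V) : X)) h.2
    simp only [a, b, hp1, hp2] at ha' hb'
    exact Subtype.ext (Prod.ext (mul_right_cancel ha') (mul_right_cancel hb'))
  let F' : PX → PY := fun p => ⟨F p, hF p⟩
  have hle : Nat.card PX ≤ Nat.card PY :=
    Nat.card_le_card_of_injective F' fun p r h => hinj (congrArg Subtype.val h)
  rw [card_comm_eq_card_conjClasses_mul_card, card_comm_eq_card_conjClasses_mul_card] at hle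
  have hcard : Nat.card Y = Nat.card X := by
    rw [Nat.card_congr SemidirectProduct.equivProd, Nat.card_prod, mul_comm]
    exact (Subgroup.card_eq_card_quotient_mul_card_subgroup V).symm
  rw [hcard] at hle
  exact Nat.le_of_mul_le_mul_right hle Nat.card_pos

end Cfsg.Agent.S4965
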