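import Cfsg.Statements.S4966


set_option autoImplicit false
open Cfsg

namespace Cfsg.Agent.S4966

open Submodule

variable {F : Type*} [Field F] {G : Type*} [Group G] [Finite G] {V : Type*} [AddCommGroup V] [Module F V]
  (ρ : Representation F G V)

/-- An invariant subspace. -/
def Inv (T : Submodule F V) : Prop := ∀ g : G, ∀ x ∈ T, ρ g x ∈ T

/-- The desired decomposition of an invariant subspace. -/
def Good (p : ℕ) (T : Submodule F V) : Prop :=
  ∃ U W : Submodule F V, Disjoint U W ∧ U ⊔ W = T ∧ Inv ρ U ∧ Inv ρ W ∧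
    (∃ A : LinearMap.BilinForm F V, (∀ x : V, A x x = 0) ∧ (∀ g : G, ∀ x ∈ U, ∀ y ∈ U, A (ρ g x) (ρ g y) = A x y) ∧
      (∀ x ∈ U, (∀ y ∈ U, A x y = 0) → x = 0)) ∧
    (∃ S : LinearMap.BilinForm F V, (∀ x y : V, S x y = S y x) ∧
      (∀ g : G, ∀ x ∈ W, ∀ y ∈ W, S (ρ g x) (ρ g y) = S x y) ∧ (∀ x ∈ W, (∀ y ∈ W, S x y = 0) → x = 0)) ∧
    (p = 2 → ∀ g : G, ∀ w ∈ W, ρ g w = w)

theorem inv_bot : Inv ρ ⊥ := fun g x hx => by rw [mem_bot] at hx ⊢; rw [hx, map_zero]

theorem inv_sup {T T' : Submodule F V} (h : Inv ρ T) (h' : Inv ρ T') : Inv ρ (T ⊔ T') := fun g x hx => by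
  obtain ⟨a, ha, b, hb, rfl⟩ := mem_sup.1 hx
  rw [map_add]; exact add_mem_sup (h g a ha) (h' g b hb)

theorem exists_proj {U U' : Submodule F V} (h : Disjoint U U') :
    ∃ π : V →ₗ[F] V, (∀ v, π v ∈ U) ∧ (∀ u ∈ U, π u = u) ∧ ∀ u ∈ U', π u = 0 := by
  obtain ⟨R, hR⟩ := Submodule.exists_isCompl (U ⊔ U')
  have hc : IsCompl U (U' ⊔ R) := by
    refine ⟨?_, ?_⟩
    · rw [disjoint_def]
      intro x hx hx'
      obtain ⟨a, ha, b, hb, rfl⟩ := mem_sup.1 hx'
      have hb0 : b = 0 := disjoint_def.1 hR.1 b (by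
        have := sub_mem (mem_sup_left hx : a + b ∈ U ⊔ U') (mem_sup_right ha)
        simpa using this) hb
      subst hb0
      rw [add_zero] at hx ⊢
      exact disjoint_def.1 h a hx ha
    · rw [codisjoint_iff, ← sup_assoc]; exact hR.sup_eq_top
  refine ⟨U.subtype.comp (U.linearProjOfIsCompl _ hc), fun v => coe_mem _, fun u hu => ?_, fun u hu => ?_⟩
  · exact congrArg Subtype.val (linearProjOfIsCompl_apply_left hc ⟨u, hu⟩)
  · exact congrArg Subtype.val (linearProjOfIsCompl_apply_right hc ⟨u, mem_sup_left hu⟩)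

theorem exists_inv_compl {p : ℕ} [CharP F p] (hcop : ¬ p ∣ Nat.card G) [FiniteDimensional F V] {W T : Submodule F V}
    (hW : Inv ρ W) (hT : Inv ρ T) (hWT : W ≤ T) : ∃ C, Inv ρ C ∧ C ≤ T ∧ Disjoint W C ∧ W ⊔ C = T := by
  classical
  haveI := Fintype.ofFinite G
  obtain ⟨π, h1, h2, -⟩ := exists_proj (disjoint_bot_right (a := W))
  have hN : (Nat.card G : F) ≠ 0 := fun h => hcop ((CharP.cast_eq_zero_iff F p _).1 h)
  let P : V →ₗ[F] V := (Nat.card G : F)⁻¹ • ∑ g : G, (ρ g).comp (π.comp (ρ g⁻¹))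
  have hP : ∀ v, P v = (Nat.card G : F)⁻¹ • ∑ g : G, ρ g (π (ρ g⁻¹ v)) := fun v => by simp [P]
  have hPW : ∀ v, P v ∈ W := fun v => by
    rw [hP]; exact W.smul_mem _ (sum_mem fun g _ => hW g _ (h1 _))
  have hPid : ∀ w ∈ W, P w = w := fun w hw => by
    rw [hP]
    have : ∀ g : G, ρ g (π (ρ g⁻¹ w)) = w := fun g => by
      rw [h2 _ (hW _ _ hw), ← Module.End.mul_apply, ← map_mul, mul_inv_cancel, map_one]; rfl
    simp only [this, Finset.sum_const, Finset.card_univ, ← Nat.card_eq_fintype_card, ← Nat.cast_smul_eq_nsmul F,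
      smul_smul, inv_mul_cancel₀ hN, one_smul]
  refine ⟨T ⊓ LinearMap.ker P, fun g x hx => ⟨hT g x hx.1, ?_⟩, inf_le_left, ?_, le_antisymm (sup_le hWT inf_le_left) ?_⟩
  · have hx2 : P x = 0 := hx.2
    rw [SetLike.mem_coe, LinearMap.mem_ker]
    have : P (ρ g x) = ρ g (P x) := by
      rw [hP, hP, map_smul, map_sum]
      refine congrArg _ (Fintype.sum_equiv (Equiv.mulLeft g⁻¹) _ _ fun h => ?_)
      have hρ : ∀ (a b : G) (v : V), ρ a (ρ b v) = ρ (a * b) v := fun a b v => by rw [map_mul]; rfl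
      simp only [Equiv.coe_mulLeft]
      rw [hρ g, mul_inv_cancel_left, hρ h⁻¹ g, mul_inv_rev, inv_inv]
    rw [this, hx2, map_zero]
  · rw [disjoint_def]; rintro x hx ⟨-, hx'⟩
    rw [← hPid x hx]; exact hx'
  · intro t ht
    refine mem_sup.2 ⟨P t, hPW t, t - P t, ⟨sub_mem ht (hWT (hPW t)), ?_⟩, add_sub_cancel _ _⟩
    rw [SetLike.mem_coe, LinearMap.mem_ker, map_sub, hPid _ (hPW t), sub_self]

theorem exists_min {T : Submodule F V} [FiniteDimensional F V] (hT : Inv ρ T) (h0 : T ≠ ⊥) :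
    ∃ X, Inv ρ X ∧ X ≤ T ∧ X ≠ ⊥ ∧ ∀ Y, Inv ρ Y → Y ≤ X → Y ≠ ⊥ → Y = X := by
  obtain ⟨X, ⟨h1, h2, h3⟩, hmin⟩ := exists_minimalFor_of_wellFoundedLT
    (fun X : Submodule F V => Inv ρ X ∧ X ≤ T ∧ X ≠ ⊥) (fun X => Module.finrank F X) ⟨T, hT, le_rfl, h0⟩
  exact ⟨X, h1, h2, h3, fun Y hY hYX hY0 => eq_of_le_of_finrank_le hYX
    (hmin ⟨hY, hYX.trans h2, hY0⟩ (finrank_mono hYX))⟩

theorem combine {p : ℕ} {T₁ T₂ : Submodule F V} (hd : Disjoint T₁ T₂) (h₁ : Good ρ p T₁) (h₂ : Good ρ p T₂) :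
    Good ρ p (T₁ ⊔ T₂) := by
  obtain ⟨U₁, W₁, d₁, e₁, iU₁, iW₁, ⟨A₁, a1, a2, a3⟩, ⟨S₁, s1, s2, s3⟩, t₁⟩ := h₁
  obtain ⟨U₂, W₂, d₂, e₂, iU₂, iW₂, ⟨A₂, b1, b2, b3⟩, ⟨S₂, r1, r2, r3⟩, t₂⟩ := h₂
  have dU : Disjoint U₁ U₂ := hd.mono (e₁ ▸ le_sup_left) (e₂ ▸ le_sup_left)
  have dW : Disjoint W₁ W₂ := hd.mono (e₁ ▸ le_sup_right) (e₂ ▸ le_sup_right)
  obtain ⟨π₁, p1, p2, p3⟩ := exists_proj dU
  obtain ⟨π₂, q1, q2, q3⟩ := exists_proj dU.symm
  obtain ⟨σ₁, u1, u2, u3⟩ := exists_proj dW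
  obtain ⟨σ₂, v1, v2, v3⟩ := exists_proj dW.symm
  refine ⟨U₁ ⊔ U₂, W₁ ⊔ W₂, ?_, by rw [← e₁, ← e₂, sup_sup_sup_comm], inv_sup ρ iU₁ iU₂, inv_sup ρ iW₁ iW₂,
    ⟨A₁.compl₁₂ π₁ π₁ + A₂.compl₁₂ π₂ π₂, fun x => by simp [a1, b1], ?_, ?_⟩,
    ⟨S₁.compl₁₂ σ₁ σ₁ + S₂.compl₁₂ σ₂ σ₂, fun x y => ?_, ?_, ?_⟩, ?_⟩
  · rw [disjoint_def]
    intro x hx hx'
    obtain ⟨a, ha, b, hb, rfl⟩ := mem_sup.1 hx
    obtain ⟨c, hc, d, hd', he⟩ := mem_sup.1 hx'
    have h1 : a - c = d - b := by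
      rw [sub_eq_sub_iff_add_eq_add, add_comm d c]; exact he.symm
    have h2 : a - c = 0 := disjoint_def.1 hd _
      (e₁ ▸ sub_mem (mem_sup_left ha) (mem_sup_right hc))
      (h1 ▸ e₂ ▸ sub_mem (mem_sup_right hd') (mem_sup_left hb))
    have ha0 : a = 0 := disjoint_def.1 d₁ a ha ((sub_eq_zero.1 h2).symm ▸ hc)
    have hb0 : b = 0 := disjoint_def.1 d₂ b hb ((sub_eq_zero.1 (h1 ▸ h2)) ▸ hd')
    rw [ha0, hb0, add_zero]
  · intro g x hx y hy
    obtain ⟨a, ha, b, hb, rfl⟩ := mem_sup.1 hx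
    obtain ⟨c, hc, d, hd', rfl⟩ := mem_sup.1 hy
    simp only [LinearMap.add_apply, LinearMap.compl₁₂_apply, map_add]
    simp only [p2 _ ha, p3 _ hb, p2 _ hc, p3 _ hd', q3 _ ha, q2 _ hb, q3 _ hc, q2 _ hd',
      p2 _ (iU₁ g _ ha), p3 _ (iU₂ g _ hb), p2 _ (iU₁ g _ hc), p3 _ (iU₂ g _ hd'),
      q3 _ (iU₁ g _ ha), q2 _ (iU₂ g _ hb), q3 _ (iU₁ g _ hc), q2 _ (iU₂ g _ hd'), map_zero, LinearMap.zero_apply,
      add_zero, zero_add, a2 g _ ha _ hc, b2 g _ hb _ hd']
  · intro x hx h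
    obtain ⟨a, ha, b, hb, rfl⟩ := mem_sup.1 hx
    have hz : a = 0 := a3 a ha fun y hy => by
      have := h y (mem_sup_left hy)
      simpa [p2 _ ha, p3 _ hb, p2 _ hy, q3 _ hy] using this
    have hz' : b = 0 := b3 b hb fun y hy => by
      have := h y (mem_sup_right hy)
      simpa [q3 _ ha, q2 _ hb, q2 _ hy, p3 _ hy] using this
    rw [hz, hz', add_zero]
  · simp only [LinearMap.add_apply, LinearMap.compl₁₂_apply]
    rw [s1, r1]
  · intro g x hx y hy
    obtain ⟨a, ha, b, hb, rfl⟩ := mem_sup.1 hx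
    obtain ⟨c, hc, d, hd', rfl⟩ := mem_sup.1 hy
    simp only [LinearMap.add_apply, LinearMap.compl₁₂_apply, map_add]
    simp only [u2 _ ha, u3 _ hb, u2 _ hc, u3 _ hd', v3 _ ha, v2 _ hb, v3 _ hc, v2 _ hd',
      u2 _ (iW₁ g _ ha), u3 _ (iW₂ g _ hb), u2 _ (iW₁ g _ hc), u3 _ (iW₂ g _ hd'),
      v3 _ (iW₁ g _ ha), v2 _ (iW₂ g _ hb), v3 _ (iW₁ g _ hc), v2 _ (iW₂ g _ hd'), map_zero, LinearMap.zero_apply,
      add_zero, zero_add, s2 g _ ha _ hc, r2 g _ hb _ hd']
  · intro x hx h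
    obtain ⟨a, ha, b, hb, rfl⟩ := mem_sup.1 hx
    have hz : a = 0 := s3 a ha fun y hy => by
      have := h y (mem_sup_left hy)
      simpa [u2 _ ha, u3 _ hb, u2 _ hy, v3 _ hy] using this
    have hz' : b = 0 := r3 b hb fun y hy => by
      have := h y (mem_sup_right hy)
      simpa [v3 _ ha, v2 _ hb, v2 _ hy, u3 _ hy] using this
    rw [hz, hz', add_zero]
  · intro hp g w hw
    obtain ⟨a, ha, b, hb, rfl⟩ := mem_sup.1 hw
    rw [map_add, t₁ hp g a ha, t₂ hp g b hb]

theorem good_bot (p : ℕ) : Good ρ p ⊥ :=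
  ⟨⊥, ⊥, disjoint_bot_left, bot_sup_eq _, inv_bot ρ, inv_bot ρ,
    ⟨0, fun _ => rfl, fun _ _ _ _ _ => rfl, fun x hx _ => by simpa using hx⟩,
    ⟨0, fun _ _ => rfl, fun _ _ _ _ _ => rfl, fun x hx _ => by simpa using hx⟩,
    fun _ g w hw => by rw [(mem_bot F).1 hw, map_zero]⟩

variable [FiniteDimensional F V]

theorem main {p : ℕ} [Fact p.Prime] [CharP F p] (hcop : ¬ p ∣ Nat.card G) (B : LinearMap.BilinForm F V)
    (hBinv : ∀ g : G, ∀ x y : V, B (ρ g x) (ρ g y) = B x y) :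
    ∀ (n : ℕ) (T : Submodule F V), Module.finrank F T ≤ n → Inv ρ T →
      (∀ x ∈ T, (∀ y ∈ T, B x y = 0) → x = 0) → Good ρ p T := by
  classical
  intro n
  induction n with
  | zero =>
    intro T hn _ _
    rw [finrank_eq_zero.1 (Nat.le_zero.1 hn)]
    exact good_bot ρ p
  | succ n ih =>
    intro T hn hT hnd
    by_cases h0 : T = ⊥
    · rw [h0]; exact good_bot ρ p
    have hginv : ∀ (g : G) (v : V), ρ g (ρ g⁻¹ v) = v := fun g v => by
      rw [← Module.End.mul_apply, ← map_mul, mul_inv_cancel, map_one]; rfl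
    have hBl : ∀ (g : G) (x y : V), B (ρ g x) y = B x (ρ g⁻¹ y) := fun g x y => by
      rw [← hBinv g x (ρ g⁻¹ y), hginv]
    have hBr : ∀ (g : G) (x y : V), B y (ρ g x) = B (ρ g⁻¹ y) x := fun g x y => by
      rw [← hBinv g (ρ g⁻¹ y) x, hginv]
    -- split off a non-degenerate invariant part
    have split : ∀ T₁ : Submodule F V, Inv ρ T₁ → T₁ ≤ T → T₁ ≠ ⊥ → (∀ x ∈ T₁, (∀ y ∈ T₁, B x y = 0) → x = 0) →
        Good ρ p T₁ → Good ρ p T := by
      intro T₁ i₁ l₁ n₁ nd₁ g₁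
      let T₂ : Submodule F V :=
        { carrier := {v | v ∈ T ∧ ∀ y ∈ T₁, B v y = 0}
          zero_mem' := ⟨T.zero_mem, fun y _ => by simp⟩
          add_mem' := fun {a b} ha hb => ⟨T.add_mem ha.1 hb.1, fun y hy => by simp [ha.2 y hy, hb.2 y hy]⟩
          smul_mem' := fun c a ha => ⟨T.smul_mem c ha.1, fun y hy => by simp [ha.2 y hy]⟩ }
      have hd : Disjoint T₁ T₂ := disjoint_def.2 fun x hx hx' => nd₁ x hx hx'.2
      let φ : T₁ →ₗ[F] Module.Dual F T₁ := B.compl₁₂ T₁.subtype T₁.subtype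
      have hφ : Function.Surjective φ := by
        refine (LinearMap.injective_iff_surjective_of_finrank_eq_finrank Subspace.dual_finrank_eq.symm).1 ?_
        rw [injective_iff_map_eq_zero]
        intro x hx
        exact Subtype.ext (nd₁ _ x.2 fun y hy => LinearMap.congr_fun hx ⟨y, hy⟩)
      have hsup : T₁ ⊔ T₂ = T := by
        refine le_antisymm (sup_le l₁ fun v hv => hv.1) fun v hv => ?_
        obtain ⟨x, hx⟩ := hφ ((B v).comp T₁.subtype)
        refine mem_sup.2 ⟨x, x.2, v - x, ⟨T.sub_mem hv (l₁ x.2), fun y hy => ?_⟩, add_sub_cancel _ _⟩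
        have := LinearMap.congr_fun hx ⟨y, hy⟩
        simp only [φ, LinearMap.compl₁₂_apply, Submodule.subtype_apply, LinearMap.comp_apply] at this
        rw [map_sub, LinearMap.sub_apply, this, sub_self]
      have i₂ : Inv ρ T₂ := fun g v hv => ⟨hT g v hv.1, fun y hy => by rw [hBl]; exact hv.2 _ (i₁ _ y hy)⟩
      have nd₂ : ∀ x ∈ T₂, (∀ y ∈ T₂, B x y = 0) → x = 0 := fun x hx h => hnd x hx.1 fun y hy => by
        rw [← hsup] at hy
        obtain ⟨a, ha, b, hb, rfl⟩ := mem_sup.1 hy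
        rw [map_add, hx.2 a ha, h b hb, add_zero]
      have hlt : Module.finrank F T₂ < Module.finrank F T := by
        refine finrank_lt_finrank_of_lt (lt_of_le_of_ne (fun v hv => hv.1) fun e => n₁ ?_)
        rw [eq_bot_iff]; intro x hx
        exact disjoint_def.1 hd x hx (e ▸ l₁ hx)
      rw [← hsup]
      exact combine ρ hd g₁ (ih T₂ (by omega) i₂ nd₂)
    obtain ⟨X, iX, lX, nX, mX⟩ := exists_min ρ hT h0
    -- the left radical of a pairing of an invariant subspace with a minimal one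
    have radL : ∀ (Y Z : Submodule F V) (C : LinearMap.BilinForm F V), Inv ρ Y → Inv ρ Z →
        (∀ g x y, C (ρ g x) y = C x (ρ g⁻¹ y)) → (∀ W, Inv ρ W → W ≤ Y → W ≠ ⊥ → W = Y) →
        (∃ y ∈ Y, ∃ z ∈ Z, C y z ≠ 0) → ∀ y ∈ Y, (∀ z ∈ Z, C y z = 0) → y = 0 := by
      intro Y Z C iY iZ hC mY hex y hy h
      let R : Submodule F V :=
        { carrier := {v | v ∈ Y ∧ ∀ z ∈ Z, C v z = 0}
          zero_mem' := ⟨Y.zero_mem, fun z _ => by simp⟩
          add_mem' := fun {a b} ha hb => ⟨Y.add_mem ha.1 hb.1, fun z hz => by simp [ha.2 z hz, hb.2 z hz]⟩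
          smul_mem' := fun c a ha => ⟨Y.smul_mem c ha.1, fun z hz => by simp [ha.2 z hz]⟩ }
      by_contra hy0
      have hR : R = Y := mY R (fun g v hv => ⟨iY g v hv.1, fun z hz => by rw [hC]; exact hv.2 _ (iZ _ z hz)⟩)
        (fun v hv => hv.1) (Submodule.ne_bot_iff R |>.2 ⟨y, ⟨hy, h⟩, hy0⟩)
      obtain ⟨y', hy', z, hz, hne⟩ := hex
      exact hne ((hR.ge hy' : y' ∈ R).2 z hz)
    by_cases hX : ∃ x ∈ X, ∃ y ∈ X, B x y ≠ 0
    · have ndX := radL X X B iX iX hBl mX hX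
      refine split X iX lX nX ndX ?_
      obtain ⟨π, p1, p2, -⟩ := exists_proj (disjoint_bot_right (a := X))
      have hinv : ∀ (C : LinearMap.BilinForm F V), (∀ g x y, C (ρ g x) (ρ g y) = C x y) →
          ∀ g : G, ∀ x ∈ X, ∀ y ∈ X, C.compl₁₂ π π (ρ g x) (ρ g y) = C.compl₁₂ π π x y := fun C hC g x hx y hy => by
        simp only [LinearMap.compl₁₂_apply, p2 _ hx, p2 _ hy, p2 _ (iX g _ hx), p2 _ (iX g _ hy), hC]
      have mkU : ∀ C : LinearMap.BilinForm F V, (∀ g x y, C (ρ g x) (ρ g y) = C x y) → (∀ x ∈ X, C x x = 0) →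
          (∀ x ∈ X, (∀ y ∈ X, C x y = 0) → x = 0) → Good ρ p X := fun C hC hal hn' =>
        ⟨X, ⊥, disjoint_bot_right, sup_bot_eq _, iX, inv_bot ρ,
          ⟨C.compl₁₂ π π, fun x => by simp [hal _ (p1 x)], hinv C hC, fun x hx h => hn' x hx fun y hy => by
            simpa [p2 _ hx, p2 _ hy] using h y hy⟩,
          ⟨0, fun _ _ => rfl, fun _ _ _ _ _ => rfl, fun x hx _ => by simpa using hx⟩,
          fun _ g w hw => by rw [(mem_bot F).1 hw, map_zero]⟩
      have mkW : ∀ C : LinearMap.BilinForm F V, (∀ g x y, C (ρ g x) (ρ g y) = C x y) →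
          (∀ x ∈ X, ∀ y ∈ X, C x y = C y x) →
          (∀ x ∈ X, (∀ y ∈ X, C x y = 0) → x = 0) → (p = 2 → ∀ g : G, ∀ w ∈ X, ρ g w = w) → Good ρ p X :=
        fun C hC hs hn' ht =>
        ⟨⊥, X, disjoint_bot_left, bot_sup_eq _, inv_bot ρ, iX,
          ⟨0, fun _ => rfl, fun _ _ _ _ _ => rfl, fun x hx _ => by simpa using hx⟩,
          ⟨C.compl₁₂ π π, fun x y => by simp [hs _ (p1 x) _ (p1 y)], hinv C hC, fun x hx h => hn' x hx fun y hy => by
            simpa [p2 _ hx, p2 _ hy] using h y hy⟩, ht⟩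
      have hflip : ∀ g x y, B.flip (ρ g x) (ρ g y) = B.flip x y := fun g x y => by simp [hBinv]
      by_cases hp2 : p = 2
      · subst hp2
        haveI : CharP F 2 := inferInstance
        by_cases hA : ∃ x ∈ X, ∃ y ∈ X, (B - B.flip) x y ≠ 0
        · refine mkU (B - B.flip) (fun g x y => by simp [hBinv]) (fun x _ => by simp) ?_
          exact radL X X _ iX iX (fun g x y => by simp only [LinearMap.sub_apply, LinearMap.BilinForm.flip_apply]; rw [hBl g x y, hBr g x y]) mX hA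
        · push Not at hA
          have hsym : ∀ x ∈ X, ∀ y ∈ X, B x y = B y x := fun x hx y hy => by
            have := hA x hx y hy; simpa [sub_eq_zero] using this
          by_cases hal : ∀ x ∈ X, B x x = 0
          · exact mkU B hBinv hal ndX
          · refine mkW B hBinv hsym ndX fun _ g w hw => ?_
            let R : Submodule F V :=
              { carrier := {v | v ∈ X ∧ B v v = 0}
                zero_mem' := ⟨X.zero_mem, by simp⟩
                add_mem' := fun {a b} ha hb => ⟨X.add_mem ha.1 hb.1, by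
                  simp [ha.2, hb.2, hsym b hb.1 a ha.1, CharTwo.add_self_eq_zero]⟩
                smul_mem' := fun c a ha => ⟨X.smul_mem c ha.1, by simp [ha.2]⟩ }
            have hR : R = ⊥ := by
              by_contra hne
              refine hal fun x hx => ?_
              have hRX := mX R (fun g v hv => ⟨iX g v hv.1, by rw [hBinv]; exact hv.2⟩) (fun v hv => hv.1) hne
              exact (hRX.ge hx : x ∈ R).2
            have hmem : ρ g w - w ∈ R := ⟨X.sub_mem (iX g w hw) hw, by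
              have h1 := hsym (ρ g w) (iX g w hw) w hw
              simp only [map_sub, LinearMap.sub_apply, hBinv, h1]
              rw [CharTwo.sub_eq_add, CharTwo.sub_eq_add, CharTwo.sub_eq_add]
              rw [show B w w + B w (ρ g w) + (B w (ρ g w) + B w w) = (B w w + B w w) + (B w (ρ g w) + B w (ρ g w)) by
                abel, CharTwo.add_self_eq_zero, CharTwo.add_self_eq_zero, add_zero]⟩
            rw [hR, mem_bot, sub_eq_zero] at hmem
            exact hmem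
      · have h2 : (2 : F) ≠ 0 := fun h => hp2 ((Nat.prime_dvd_prime_iff_eq Fact.out Nat.prime_two).1
          ((CharP.cast_eq_zero_iff F p 2).1 (by exact_mod_cast h)))
        by_cases hS : ∃ x ∈ X, ∃ y ∈ X, (B + B.flip) x y ≠ 0
        · refine mkW (B + B.flip) (fun g x y => by simp [hBinv]) (fun x _ y _ => by simp [add_comm]) ?_
            (fun h => absurd h hp2)
          exact radL X X _ iX iX (fun g x y => by simp only [LinearMap.add_apply, LinearMap.BilinForm.flip_apply]; rw [hBl g x y, hBr g x y]) mX hS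
        · push Not at hS
          refine mkU B hBinv (fun x hx => ?_) ndX
          have h3 := hS x hx x hx
          simp only [LinearMap.add_apply, LinearMap.BilinForm.flip_apply] at h3
          rw [← two_mul] at h3
          exact (mul_eq_zero.1 h3).resolve_left h2
    · push Not at hX
      -- an irreducible partner pairing non-trivially on both sides
      have spans : ∀ (P : Submodule F V → Prop), (∀ Y, Inv ρ Y → Y ≤ T → Y ≠ ⊥ → (∀ W, Inv ρ W → W ≤ Y → W ≠ ⊥ → W = Y) → P Y) →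
          ∀ Q : Submodule F V, (∀ Y, P Y → Y ≤ Q) → T ≤ Q := by
        intro P hP Q hQ
        let S : Submodule F V := sSup {Y | Inv ρ Y ∧ Y ≤ T ∧ Y ≤ Q}
        have iS : Inv ρ S := by
          intro g x hx
          have : S.map (ρ g : V →ₗ[F] V) ≤ S := by
            exact Submodule.map_le_iff_le_comap.2 (sSup_le fun Y hY y hy => (le_sSup hY) (hY.1 g y hy))
          exact this (mem_map_of_mem hx)
        have lS : S ≤ T ⊓ Q := sSup_le fun Y hY => le_inf hY.2.1 hY.2.2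
        obtain ⟨C, iC, lC, dC, eC⟩ := exists_inv_compl ρ hcop iS hT (lS.trans inf_le_left)
        by_contra hne
        have hC0 : C ≠ ⊥ := fun hC => hne (by rw [← eC, hC, sup_bot_eq]; exact lS.trans inf_le_right)
        obtain ⟨Y, iY, lY, nY, mY⟩ := exists_min ρ iC hC0
        exact nY (eq_bot_iff.2 fun y hy => disjoint_def.1 dC y
          ((le_sSup ⟨iY, lY.trans lC, hQ Y (hP Y iY (lY.trans lC) nY mY)⟩ : Y ≤ S) hy) (lY hy))
      let K : Submodule F V :=
        { carrier := {v | ∀ x ∈ X, B v x = 0}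
          zero_mem' := fun x _ => by simp
          add_mem' := fun {a b} ha hb x hx => by simp [ha x hx, hb x hx]
          smul_mem' := fun c a ha x hx => by simp [ha x hx] }
      let L : Submodule F V :=
        { carrier := {v | ∀ x ∈ X, B x v = 0}
          zero_mem' := fun x _ => by simp
          add_mem' := fun {a b} ha hb x hx => by simp [ha x hx, hb x hx]
          smul_mem' := fun c a ha x hx => by simp [ha x hx] }
      have hTK : ¬ T ≤ K := fun h => nX (eq_bot_iff.2 fun x hx => by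
        rw [mem_bot]
        let ψ : T →ₗ[F] Module.Dual F T := B.compl₁₂ T.subtype T.subtype
        have hψ : Function.Surjective ψ :=
          (LinearMap.injective_iff_surjective_of_finrank_eq_finrank Subspace.dual_finrank_eq.symm).1
            ((injective_iff_map_eq_zero ψ).2 fun t ht => Subtype.ext (hnd _ t.2 fun y hy => LinearMap.congr_fun ht ⟨y, hy⟩))
        have hall : ∀ f : Module.Dual F T, f ⟨x, lX hx⟩ = 0 := fun f => by
          obtain ⟨t, rfl⟩ := hψ f
          exact h t.2 x hx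
        exact congrArg Subtype.val ((Module.forall_dual_apply_eq_zero_iff F _).1 hall))
      have hTL : ¬ T ≤ L := fun h => nX (eq_bot_iff.2 fun x hx => (mem_bot F).2 (hnd x (lX hx) fun y hy => h hy x hx))
      obtain ⟨Y, iY, lY, nY, mY, hYK, hYL⟩ : ∃ Y, Inv ρ Y ∧ Y ≤ T ∧ Y ≠ ⊥ ∧
          (∀ W, Inv ρ W → W ≤ Y → W ≠ ⊥ → W = Y) ∧ ¬ Y ≤ K ∧ ¬ Y ≤ L := by
        by_contra hno
        push Not at hno
        obtain ⟨Y₁, h1⟩ : ∃ Y₁, Inv ρ Y₁ ∧ Y₁ ≤ T ∧ Y₁ ≠ ⊥ ∧ (∀ W, Inv ρ W → W ≤ Y₁ → W ≠ ⊥ → W = Y₁) ∧ ¬ Y₁ ≤ K := by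
          by_contra h; push Not at h
          exact hTK (spans _ (fun Y a b c d => h Y a b c d) K (fun Y hY => hY))
        obtain ⟨Y₂, h2⟩ : ∃ Y₂, Inv ρ Y₂ ∧ Y₂ ≤ T ∧ Y₂ ≠ ⊥ ∧ (∀ W, Inv ρ W → W ≤ Y₂ → W ≠ ⊥ → W = Y₂) ∧ ¬ Y₂ ≤ L := by
          by_contra h; push Not at h
          exact hTL (spans _ (fun Y a b c d => h Y a b c d) L (fun Y hY => hY))
        obtain ⟨i1, l1, n1, m1, k1⟩ := h1
        obtain ⟨i2, l2, n2, m2, k2⟩ := h2
        have y1L : Y₁ ≤ L := hno Y₁ i1 l1 n1 m1 k1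
        have y2K : Y₂ ≤ K := by
          by_contra h
          exact k2 (hno Y₂ i2 l2 n2 m2 h)
        obtain ⟨a, ha, haK⟩ := SetLike.not_le_iff_exists.1 k1
        obtain ⟨b, hb, hbL⟩ := SetLike.not_le_iff_exists.1 k2
        obtain ⟨x₂, hx₂, hne₂⟩ : ∃ x ∈ X, B x b ≠ 0 := by
          by_contra h; push Not at h; exact hbL h
        let η : Y₂ →ₗ[F] Module.Dual F X := (B.compl₁₂ X.subtype Y₂.subtype).flip
        have hη1 : Function.Injective η := (injective_iff_map_eq_zero η).2 fun y hy => Subtype.ext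
          (radL Y₂ X B.flip i2 iX (fun g x y => by simp only [LinearMap.BilinForm.flip_apply]; exact hBr g x y) m2 ⟨b, hb, x₂, hx₂, by simpa using hne₂⟩ _ y.2
            fun x hx => by simpa [η] using LinearMap.congr_fun hy ⟨x, hx⟩)
        have hη' : Function.Injective η.flip := (injective_iff_map_eq_zero η.flip).2 fun x hx => Subtype.ext
          (radL X Y₂ B iX i2 hBl mX ⟨x₂, hx₂, b, hb, hne₂⟩ _ x.2
            fun y hy => by simpa [η] using LinearMap.congr_fun hx ⟨y, hy⟩)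
        have hη : Function.Surjective η := by
          have e1 := LinearMap.finrank_le_finrank_of_injective hη1
          have e2 := LinearMap.finrank_le_finrank_of_injective hη'
          rw [Subspace.dual_finrank_eq] at e1 e2
          exact (LinearMap.injective_iff_surjective_of_finrank_eq_finrank
            (by rw [Subspace.dual_finrank_eq]; omega)).1 hη1
        obtain ⟨⟨y₂, hy₂⟩, hy⟩ := hη ((B a).comp X.subtype)
        let R : Submodule F V :=
          { carrier := {v | v ∈ Y₁ ⊔ Y₂ ∧ ∀ x ∈ X, B v x = B x v}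
            zero_mem' := ⟨zero_mem _, fun x _ => by simp⟩
            add_mem' := fun {a b} ha hb => ⟨add_mem ha.1 hb.1, fun x hx => by simp [ha.2 x hx, hb.2 x hx]⟩
            smul_mem' := fun c a ha => ⟨smul_mem _ c ha.1, fun x hx => by simp [ha.2 x hx]⟩ }
        have iR : Inv ρ R := fun g v hv => ⟨inv_sup ρ i1 i2 g v hv.1, fun x hx => by
          rw [hBl g v x, hBr g v x]; exact hv.2 _ (iX _ x hx)⟩
        have hmem : a + y₂ ∈ R := ⟨add_mem_sup ha hy₂, fun x hx => by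
          have := LinearMap.congr_fun hy ⟨x, hx⟩
          simp [η] at this
          simp [y2K hy₂ x hx, y1L ha x hx, this]⟩
        have hnK : a + y₂ ∉ K := fun h => haK fun x hx => by
          have := h x hx; simpa [y2K hy₂ x hx] using this
        obtain ⟨Z, iZ, lZ, nZ, mZ⟩ := exists_min ρ iR ((Submodule.ne_bot_iff R).2 ⟨_, hmem, fun h => hnK (by rw [h]; exact K.zero_mem)⟩)
        obtain ⟨z, hz, hz0⟩ := exists_mem_ne_zero_of_ne_bot nZ
        have hzR : z ∈ R := lZ hz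
        have hRT : R ≤ T := fun v hv => (sup_le l1 l2) hv.1
        have key : (∀ x ∈ X, B z x = 0) → False := fun hzK => by
          obtain ⟨u, hu, w, hw, rfl⟩ := mem_sup.1 hzR.1
          have hu0 : u = 0 := by
            refine radL Y₁ X B i1 iX hBl m1 ?_ u hu fun x hx => ?_
            · by_contra h; push Not at h; exact haK (h a ha)
            · have := hzK x hx; simpa [y2K hw x hx] using this
          subst hu0
          refine hz0 ?_
          rw [zero_add]
          refine radL Y₂ X B.flip i2 iX (fun g x y => by simp only [LinearMap.BilinForm.flip_apply]; exact hBr g x y) m2 ⟨b, hb, x₂, hx₂, by simpa using hne₂⟩ w hw fun x hx => ?_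
          have := hzR.2 x hx
          simpa [y2K hw x hx] using this.symm
        by_cases hZK : Z ≤ K
        · exact key (hZK hz)
        · have hZL := hno Z iZ (lZ.trans hRT) nZ mZ hZK
          exact key fun x hx => by rw [hzR.2 x hx]; exact hZL hz x hx
      obtain ⟨a, ha, haK⟩ := SetLike.not_le_iff_exists.1 hYK
      obtain ⟨b, hb, hbL⟩ := SetLike.not_le_iff_exists.1 hYL
      have nd1 : ∀ y ∈ Y, (∀ x ∈ X, B y x = 0) → y = 0 := radL Y X B iY iX hBl mY (by
        by_contra h; push Not at h; exact haK (h a ha))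
      have nd2 : ∀ x ∈ X, (∀ y ∈ Y, B x y = 0) → x = 0 := radL X Y B iX iY hBl mX (by
        by_contra h; push Not at h; exact hbL fun x hx => h x hx b hb)
      have nd3 : ∀ x ∈ X, (∀ y ∈ Y, B y x = 0) → x = 0 := fun x hx h =>
        radL X Y B.flip iX iY (fun g x y => by simp only [LinearMap.BilinForm.flip_apply]; exact hBr g x y) mX (by
          by_contra h'; push Not at h'; exact haK fun x hx => by simpa using h' x hx a ha) x hx (fun y hy => by simpa using h y hy)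
      have dXY : Disjoint X Y := disjoint_def.2 fun v hv hv' => nd1 v hv' fun x hx => hX v hv x hx
      refine split (X ⊔ Y) (inv_sup ρ iX iY) (sup_le lX lY) (fun h => nX (eq_bot_iff.2 (h ▸ le_sup_left))) ?_ ?_
      · intro v hv h
        obtain ⟨x, hx, y, hy, rfl⟩ := mem_sup.1 hv
        have hy0 : y = 0 := nd1 y hy fun x' hx' => by
          have := h x' (mem_sup_left hx'); simpa [hX x hx x' hx'] using this
        subst hy0
        rw [nd2 x hx fun y' hy' => by simpa using h y' (mem_sup_right hy'), add_zero]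
      · obtain ⟨π, p1, p2, p3⟩ := exists_proj dXY
        obtain ⟨σ, q1, q2, q3⟩ := exists_proj dXY.symm
        refine ⟨X ⊔ Y, ⊥, disjoint_bot_right, sup_bot_eq _, inv_sup ρ iX iY, inv_bot ρ,
          ⟨B.compl₁₂ σ π - (B.compl₁₂ σ π).flip, fun x => by simp, ?_, ?_⟩,
          ⟨0, fun _ _ => rfl, fun _ _ _ _ _ => rfl, fun x hx _ => by simpa using hx⟩,
          fun _ g w hw => by rw [(mem_bot F).1 hw, map_zero]⟩
        · intro g v hv w hw
          obtain ⟨x, hx, y, hy, rfl⟩ := mem_sup.1 hv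
          obtain ⟨x', hx', y', hy', rfl⟩ := mem_sup.1 hw
          simp [p2 _ hx, p3 _ hy, p2 _ hx', p3 _ hy', q3 _ hx, q2 _ hy, q3 _ hx', q2 _ hy',
            p2 _ (iX g _ hx), p3 _ (iY g _ hy), p2 _ (iX g _ hx'), p3 _ (iY g _ hy'),
            q3 _ (iX g _ hx), q2 _ (iY g _ hy), q3 _ (iX g _ hx'), q2 _ (iY g _ hy'), hBinv]
        · intro v hv h
          obtain ⟨x, hx, y, hy, rfl⟩ := mem_sup.1 hv
          have hy0 : y = 0 := nd1 y hy fun x' hx' => by
            have := h x' (mem_sup_left hx')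
            simpa [p2 _ hx, p3 _ hy, q3 _ hx, q2 _ hy, p2 _ hx', q3 _ hx'] using this
          have hx0 : x = 0 := nd3 x hx fun y' hy' => by
            have := h y' (mem_sup_right hy')
            simpa [p2 _ hx, p3 _ hy, q3 _ hx, q2 _ hy, p3 _ hy', q2 _ hy'] using this
          rw [hx0, hy0, add_zero]

/-- Let F be a finite field of characteristic p, G a finite group of order prime to p, and V a finite-dimensional representation of G over F carrying a nondegenerate G-invariant bilinear form (equivalently, V is self-dual). Then V is the direct sum of two G-invariant subspaces U and W such that U carries a G-invariant alternating bilinear form that is nondegenerate on U and W carries a G-invariant symmetric bilinear form that is nondegenerate on W; moreover when p = 2 the decomposition can be chosen with G acting trivially on W. -/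
theorem result {F : Type*} [Field F] [Fintype F] (p : ℕ) [Fact p.Prime] [CharP F p] {G : Type*} [Group G] [Finite G] (hcop : ¬ p ∣ Nat.card G) {V : Type*} [AddCommGroup V] [Module F V] [FiniteDimensional F V] (ρ : Representation F G V) (B : LinearMap.BilinForm F V) (hB : B.Nondegenerate) (hBinv : ∀ g : G, ∀ x y : V, B (ρ g x) (ρ g y) = B x y) : ∃ U W : Submodule F V, IsCompl U W ∧ (∀ g : G, ∀ u ∈ U, ρ g u ∈ U) ∧ (∀ g : G, ∀ w ∈ W, ρ g w ∈ W) ∧ (∃ A : LinearMap.BilinForm F V, (∀ x : V, A x x = 0) ∧ (∀ g : G, ∀ x ∈ U, ∀ y ∈ U, A (ρ g x) (ρ g y) = A x y) ∧ (∀ x ∈ U, (∀ y ∈ U, A x y = 0) → x = 0)) ∧ (∃ S : LinearMap.BilinForm F V, (∀ x y : V, S x y = S y x) ∧ (∀ g : G, ∀ x ∈ W, ∀ y ∈ W, S (ρ g x) (ρ g y) = S x y) ∧ (∀ x ∈ W, (∀ y ∈ W, S x y = 0) → x = 0)) ∧ (p = 2 → ∀ g : G, ∀ w ∈ W, ρ g w = w) := by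
  obtain ⟨U, W, hd, he, hU, hW, hA, hS, ht⟩ := main ρ hcop B hBinv (Module.finrank F (⊤ : Submodule F V)) ⊤ le_rfl
    (fun _ _ _ => Submodule.mem_top) (fun x _ h => hB.1 x fun y => h y Submodule.mem_top)
  exact ⟨U, W, ⟨hd, codisjoint_iff.2 he⟩, hU, hW, hA, hS, ht⟩

end Cfsg.Agent.S4966
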