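import Cfsg.Statements.S4969
import Cfsg.Agent.Lib.Char.Orthogonality

set_option autoImplicit false
open Cfsg

namespace Cfsg.Agent.S4969

open Cfsg.Agent.Char

/-- Let G be a finite group with k conjugacy classes, g ∈ G, and N > 0. Then the sum over the irreducible complex characters χ of G with χ(1) ≥ N of |χ(g)|/χ(1) is at most √(k · #C_G(g)) / N. -/
theorem result {G : Type*} [Group G] [Finite G] (g : G) (N : ℝ) (hN : 0 < N) :
    ∑ᶠ χ : Cfsg.IrrCharacter G, (if N ≤ ‖(χ : G → ℂ) 1‖ then ‖(χ : G → ℂ) g‖ / ‖(χ : G → ℂ) 1‖ else 0) ≤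
      Real.sqrt ((Nat.card (ConjClasses G) : ℝ) * (Nat.card ↥(Subgroup.centralizer ({g} : Set G)) : ℝ)) / N := by
  classical
  haveI := Fintype.ofFinite G
  haveI := Fintype.ofFinite (IrrCharacter G)
  rw [finsum_eq_sum_of_fintype]
  have horth := second_orthogonality g g
  rw [if_pos (IsConj.refl g)] at horth
  have hsq : ∑ χ : IrrCharacter G, ‖(χ : G → ℂ) g‖ ^ 2 = (Nat.card ↥(Subgroup.centralizer ({g} : Set G)) : ℝ) := by
    have h2 : ((∑ χ : IrrCharacter G, ‖(χ : G → ℂ) g‖ ^ 2 : ℝ) : ℂ) = (Nat.card ↥(Subgroup.centralizer ({g} : Set G)) : ℂ) := by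
      rw [← horth]
      push_cast
      exact Finset.sum_congr rfl fun χ _ => (Complex.mul_conj' _).symm
    exact_mod_cast h2
  have hk : Nat.card (IrrCharacter G) = Nat.card (ConjClasses G) := card_irrCharacter
  have hcs := Finset.sum_mul_sq_le_sq_mul_sq (Finset.univ : Finset (IrrCharacter G)) (fun χ => ‖(χ : G → ℂ) g‖) (fun _ => (1 : ℝ))
  simp only [mul_one, one_pow, Finset.sum_const, Finset.card_univ, nsmul_eq_mul, hsq, ← Nat.card_eq_fintype_card, hk] at hcs
  have hle : ∑ χ : IrrCharacter G, ‖(χ : G → ℂ) g‖ ≤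
      Real.sqrt ((Nat.card (ConjClasses G) : ℝ) * (Nat.card ↥(Subgroup.centralizer ({g} : Set G)) : ℝ)) :=
    Real.le_sqrt_of_sq_le (by linarith)
  refine le_trans ?_ ((div_le_div_iff_of_pos_right hN).2 hle)
  rw [Finset.sum_div]
  refine Finset.sum_le_sum fun χ _ => ?_
  split
  next h => exact div_le_div_of_nonneg_left (norm_nonneg _) hN h
  next h => positivity

end Cfsg.Agent.S4969
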