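import Cfsg.Statements.S4989
import Cfsg.Agent.Lib.Block.AlgNorm
import Cfsg.Agent.Lib.Block.Regular

set_option autoImplicit false
open Cfsg

namespace Cfsg.Agent.S4989

open Cfsg.Agent.Block Cfsg.Agent.Char

/-- Let H be a subgroup of the finite group G and χ an irreducible complex character of G. Then the inner product of the restriction of χ to H with itself, (1/#H)·Σ_{h ∈ H} |χ(h)|², is at most 1 + #(Z ∖ H)/#H, where Z is the set of zeros of χ in G. -/
theorem result {G : Type*} [Group G] [Finite G] (H : Subgroup G) (χ : Cfsg.IrrCharacter G) : (Nat.card ↥H : ℝ)⁻¹ * ∑ᶠ h : ↥H, ‖(χ : G → ℂ) h‖ ^ 2 ≤ 1 + (Set.ncard ({x : G | (χ : G → ℂ) x = 0} \ (H : Set G)) : ℝ) / (Nat.card ↥H : ℝ) := by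
  classical
  haveI := Fintype.ofFinite G
  haveI := Fintype.ofFinite H
  rw [finsum_eq_sum_of_fintype]
  set s := Finset.univ.filter (fun x : G => x ∉ H ∧ (χ : G → ℂ) x ≠ 0) with hs
  set Z := Finset.univ.filter (fun x : G => x ∉ H ∧ (χ : G → ℂ) x = 0) with hZdef
  have hχc := IsIrrCharacter.isCharacter χ.2
  obtain ⟨m, hm⟩ := classInner_natCast_of_isCharacter (IsCharacter.restrict hχc H) (IsCharacter.restrict hχc H)
  have hH0 : (Nat.card H : ℂ) ≠ 0 := Nat.cast_ne_zero.2 Nat.card_pos.ne'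
  rw [classInner, inv_mul_eq_iff_eq_mul₀ hH0] at hm
  have htot := IsIrrCharacter.classInner_self χ.2
  rw [classInner, inv_mul_eq_iff_eq_mul₀ (Nat.cast_ne_zero.2 Nat.card_pos.ne'), mul_one,
    ← Finset.sum_filter_add_sum_filter_not _ (fun x : G => x ∈ H)] at htot
  have e1 : ∑ x ∈ Finset.univ.filter (fun x : G => x ∈ H), (χ : G → ℂ) x * (starRingEnd ℂ) ((χ : G → ℂ) x) =
      (Nat.card H : ℂ) * m := by
    rw [← hm]; exact Finset.sum_subtype _ (fun x => by simp) _
  have e2 : ∑ x ∈ Finset.univ.filter (fun x : G => x ∉ H), (χ : G → ℂ) x * (starRingEnd ℂ) ((χ : G → ℂ) x) =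
      ∑ x ∈ s, (χ : G → ℂ) x * (starRingEnd ℂ) ((χ : G → ℂ) x) := by
    refine (Finset.sum_subset (fun x hx => ?_) fun x hx hxs => ?_).symm
    · simp only [hs, Finset.mem_filter] at hx ⊢
      exact ⟨hx.1, hx.2.1⟩
    · simp only [hs, Finset.mem_filter, Finset.mem_univ, true_and] at hx hxs
      push Not at hxs
      rw [hxs hx, zero_mul]
  rw [e1, e2] at htot
  have hle := card_le_of_sum_mul_conj (N := Nat.card G) Nat.card_pos.ne' s (χ : G → ℂ)
    (fun x _ => character_mem_cycF hχc (pow_card_eq_one' (x := x)))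
    (fun x _ => IsCharacter.isIntegral hχc x) (fun x hx => (Finset.mem_filter.1 hx).2.2)
    (T := (Nat.card G : ℚ) - (Nat.card H : ℚ) * m) (by push_cast; linear_combination htot)
  have hcard : Nat.card G = Nat.card H + (s.card + Z.card) := by
    have h1 := Finset.card_filter_add_card_filter_not (s := (Finset.univ : Finset G)) (fun x => x ∈ H)
    have h2 := Finset.card_filter_add_card_filter_not (s := Finset.univ.filter (fun x : G => x ∉ H)) (fun x => (χ : G → ℂ) x ≠ 0)
    rw [Finset.filter_filter, Finset.filter_filter] at h2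
    simp only [ne_eq, not_not] at h2
    rw [Nat.card_eq_fintype_card, Nat.card_eq_fintype_card, ← Finset.card_univ, ← h1, Fintype.card_subtype, ← h2]
  have hsum : ∑ h : H, ‖(χ : G → ℂ) h‖ ^ 2 = (Nat.card H : ℝ) * m := by
    have : ((∑ h : H, ‖(χ : G → ℂ) h‖ ^ 2 : ℝ) : ℂ) = ((Nat.card H : ℝ) * m : ℝ) := by
      push_cast
      rw [← hm]
      exact Finset.sum_congr rfl fun h _ => (Complex.mul_conj' _).symm
    exact_mod_cast this
  have hZ : Set.ncard ({x : G | (χ : G → ℂ) x = 0} \ (H : Set G)) = Z.card := by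
    rw [Set.ncard_eq_toFinset_card']
    congr 1
    ext x
    simp [hZdef, and_comm]
  have hle' : (s.card : ℝ) ≤ (Nat.card G : ℝ) - (Nat.card H : ℝ) * m := by exact_mod_cast hle
  have hG' : (Nat.card G : ℝ) = (Nat.card H : ℝ) + ((s.card : ℝ) + (Z.card : ℝ)) := by exact_mod_cast hcard
  have hH : (0 : ℝ) < Nat.card H := by exact_mod_cast Nat.card_pos
  rw [hsum, hZ, inv_mul_cancel_left₀ hH.ne', ← sub_le_iff_le_add', le_div_iff₀ hH]
  nlinarith

end Cfsg.Agent.S4989
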