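import Cfsg.Statements.S5001
import Cfsg.Agent.Lib.Block.Height
import Cfsg.Agent.Lib.Char.Extension2

set_option autoImplicit false
open Cfsg

namespace Cfsg.Agent.S5001

open Cfsg.Agent.Block Cfsg.Agent.Char

/-- Let p be a prime, G a finite group and B a p-block of G (relative to a maximal ideal M of the algebraic integers containing p) with defect group D. Let Z be a central p-subgroup of G contained in D and λ a linear character of Z (a homomorphism to the nonzero complex numbers). Say an irreducible character χ of G lies over λ when χ(z) = χ(1)λ(z) for all z ∈ Z. If some irreducible character in B lying over λ has height zero, then λ extends to a linear character of D. -/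
theorem result {G : Type*} [Group G] [Finite G] (p : ℕ) [Fact p.Prime] (M : Ideal Cfsg.AlgInt) (hM : Cfsg.IsPModular p M) (B : Set (Cfsg.IrrCharacter G)) (hB : Cfsg.IsPBlock M B) (D : Subgroup G) (hD : Cfsg.IsDefectGroup p M B D) (Z : Subgroup G) (hZc : Z ≤ Subgroup.center G) (hZp : IsPGroup p ↥Z) (hZD : Z ≤ D) (lam : ↥Z →* ℂˣ) (χ : Cfsg.IrrCharacter G) (hχ : χ ∈ B) (hover : (∀ z : ↥Z, (χ : G → ℂ) z = (χ : G → ℂ) 1 * (lam z : ℂ))) (h0 : Cfsg.blockHeight p B (χ : G → ℂ) = 0) : (∃ μ : ↥D →* ℂˣ, ∀ z : ↥Z, μ ⟨(z : G), hZD z.2⟩ = lam z) := by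
    classical
    haveI := prime_of_isPModular hM
    haveI := Fintype.ofFinite G
    have hp : p.Prime := hM.1
    obtain ⟨g, hg, S, hDS⟩ := hD
    have hDg : D ≤ Subgroup.centralizer ({g} : Set G) := hDS ▸ sylowImage_le S
    have hDp : IsPGroup p D := hDS ▸ isPGroup_sylowImage S
    -- the value at the defect element is a unit
    have hval : ¬ MemLocalIdeal M ((χ : G → ℂ) g) := by
      intro hbad
      have he := classExp_eq_minVal_of_isDefectClass hM hB hg
      have h1 := apply_congr_of_classExp_eq hM hB hχ hχ he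
      have h2 := memLocalIdeal_sub hbad h1
      rw [sub_sub_cancel] at h2
      rcases memLocalIdeal_of_mul (mul_mem (centralChar_mem_locRing χ g) (natCast_mem _ _))
        (inv_natCast_mem_locRing hp hM.2.2 (not_dvd_classCofactor hp g)) h2 with h3 | h3
      · rcases memLocalIdeal_of_mul (centralChar_mem_locRing χ g) (natCast_mem _ _) h3 with h4 | h4
        · exact hg.2.2 χ hχ h4
        · exact (not_dvd_redDegree_iff hp hχ).2 h0 ((memLocalIdeal_natCast_iff hp hM.2.2 _).1 h4)
      · have := memLocalIdeal_mul_left (natCast_mem (locRing M) (classCofactor p g)) h3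
        rw [mul_inv_cancel₀ (Nat.cast_ne_zero.2 fun h => not_dvd_classCofactor hp g
          (by rw [h]; exact dvd_zero p))] at this
        exact not_memLocalIdeal_one this
    -- multiplication by an element commuting with everything acts by a root of unity
    have scal : ∀ {X : Type _} [Group X] [Finite X] (ρn : ℕ) (ρ : Representation ℂ X (Fin ρn → ℂ)),
        ρ.IsIrreducible → ∀ x : X, (∀ y, x * y = y * x) →
          ∃ s : ℂ, ρ x = s • 1 ∧ s ^ orderOf x = 1 ∧ ∀ y, ρ.character (x * y) = s * ρ.character y := by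
      intro X _ _ n ρ hρ x hx
      haveI := hρ
      obtain ⟨s, hs⟩ := isScalar_of_commute ρ (ρ x) fun y => by rw [← map_mul, ← map_mul, hx]
      haveI : Nontrivial (Fin n → ℂ) := nontrivial_of_irreducible ρ
      refine ⟨s, hs, ?_, fun y => ?_⟩
      · have h := congrArg (fun T => T ^ orderOf x) hs
        simp only [← map_pow, pow_orderOf_eq_one, map_one, smul_pow, one_pow] at h
        obtain ⟨v, hv⟩ := exists_ne (0 : Fin n → ℂ)
        have h' := congrArg (fun T : Module.End ℂ (Fin n → ℂ) => T v) h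
        simp only [Module.End.one_apply, LinearMap.smul_apply] at h'
        have h3 : (s ^ orderOf x - 1) • v = 0 := by rw [sub_smul, one_smul, ← h', sub_self]
        exact sub_eq_zero.1 ((smul_eq_zero.1 h3).resolve_right hv)
      · simp only [Representation.character, map_mul, hs, smul_mul_assoc, one_mul, map_smul, smul_eq_mul]
    -- the scalar of Z on χ is lam
    have hχz : ∀ (z : Z) (y : G), (χ : G → ℂ) ((z : G) * y) = (lam z : ℂ) * (χ : G → ℂ) y := by
      intro z y
      obtain ⟨n, ρ, hρ, hρχ⟩ := χ.2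
      obtain ⟨s, -, -, hs⟩ := scal n ρ hρ (z : G) fun w => (Subgroup.mem_center_iff.1 (hZc z.2) w).symm
      rw [hρχ] at hs
      have h1 := hs 1
      rw [mul_one, hover z, mul_comm] at h1
      rw [hs, ← mul_right_cancel₀ (IsIrrCharacter.apply_one_ne_zero χ.2) h1]
    set H : Subgroup G := D ⊔ Subgroup.zpowers g with hH
    have hHg : H ≤ Subgroup.centralizer ({g} : Set G) :=
      sup_le hDg (Subgroup.zpowers_le.2 (mem_centralizer_singleton.2 (Commute.refl g)))
    have hgH : g ∈ H := (le_sup_right : _ ≤ H) (Subgroup.mem_zpowers g)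
    have hDH : D ≤ H := le_sup_left
    haveI := Fintype.ofFinite H
    haveI := Fintype.ofFinite (IrrCharacter H)
    set f : H → ℂ := fun h => (χ : G → ℂ) h
    have hfc : IsCharacter H f := IsCharacter.restrict (IsIrrCharacter.isCharacter χ.2) H
    have hsum := congrFun (IsClassFunction.eq_sum (IsCharacter.isClassFunction hfc)) ⟨g, hgH⟩
    simp only [Finset.sum_apply, Pi.smul_apply, smul_eq_mul] at hsum
    obtain ⟨ψ, hψ0, hψd⟩ : ∃ ψ : IrrCharacter H, classInner f (ψ : H → ℂ) ≠ 0 ∧
        ¬ p ∣ charDegree (ψ : H → ℂ) := by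
      by_contra hn
      push Not at hn
      refine hval ?_
      rw [show (χ : G → ℂ) g = f ⟨g, hgH⟩ from rfl, hsum]
      refine memLocalIdeal_sum _ _ fun ψ _ => ?_
      obtain ⟨m, hm⟩ := classInner_natCast_of_isCharacter hfc (IsIrrCharacter.isCharacter ψ.2)
      by_cases h : classInner f (ψ : H → ℂ) = 0
      · rw [h, zero_mul]; exact memLocalIdeal_zero
      rw [hm]
      refine memLocalIdeal_mul_left (natCast_mem _ _) ?_
      obtain ⟨n, ρ, hρ, hρψ⟩ := ψ.2
      obtain ⟨s, -, hs1, hs⟩ := scal n ρ hρ (⟨g, hgH⟩ : H) fun y => Subtype.ext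
        (mem_centralizer_singleton.1 (hHg y.2)).eq
      rw [hρψ] at hs
      have h1 := hs 1
      rw [mul_one, ← charDegree_cast (IsIrrCharacter.isCharacter ψ.2)] at h1
      rw [h1]
      refine memLocalIdeal_mul_left (isIntegral_mem_locRing ?_)
        ((memLocalIdeal_natCast_iff hp hM.2.2 _).2 (hn ψ h))
      exact IsIntegral.of_pow (orderOf_pos _) (hs1 ▸ isIntegral_one)
    obtain ⟨n, ρ, hρ, hρψ⟩ := ψ.2
    have hn : n = charDegree (ψ : H → ℂ) := by
      have h1 : ρ.character 1 = (n : ℂ) := by rw [ρ.char_one]; simp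
      rw [hρψ, ← charDegree_cast (IsIrrCharacter.isCharacter ψ.2)] at h1
      exact_mod_cast h1.symm
    -- the determinant on D
    have hdet : ∀ z : Z, LinearMap.det (ρ ⟨(z : G), hDH (hZD z.2)⟩) = (lam z : ℂ) ^ n := by
      intro z
      set zH : H := ⟨(z : G), hDH (hZD z.2)⟩
      obtain ⟨s, hs, hs1, hsc⟩ := scal n ρ hρ zH fun y => Subtype.ext
        (Subgroup.mem_center_iff.1 (hZc z.2) (y : G)).symm
      rw [hρψ] at hsc
      have hnorm : ‖s‖ = 1 := Complex.norm_eq_one_of_pow_eq_one hs1 (orderOf_pos zH).ne'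
      have h1 : classInner (fun h : H => f (zH * h)) (ψ : H → ℂ) =
          s * classInner f (ψ : H → ℂ) := by
        rw [classInner, classInner, mul_left_comm]
        congr 1
        rw [Finset.mul_sum]
        refine Fintype.sum_equiv (Equiv.mulLeft zH) _ _ fun h => ?_
        show f (zH * h) * _ = s * (f (zH * h) * (starRingEnd ℂ) ((ψ : H → ℂ) (zH * h)))
        rw [hsc h, map_mul]
        have : s * (starRingEnd ℂ) s = 1 := by
          rw [Complex.mul_conj, Complex.normSq_eq_norm_sq, hnorm]; simp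
        linear_combination (-(f (zH * h) * (starRingEnd ℂ) ((ψ : H → ℂ) h))) * this
      have h2 : (fun h : H => f (zH * h)) = (lam z : ℂ) • f := funext fun h => hχz z h
      rw [h2, classInner_smul_left] at h1
      rw [hs, LinearMap.det_smul, ← mul_right_cancel₀ hψ0 h1]
      simp
    obtain ⟨k, hk⟩ := IsPGroup.iff_card.1 hDp
    obtain ⟨m, hm⟩ : ∃ m : ℕ, n * m % p ^ k = 1 % p ^ k := by
      rcases eq_or_ne (p ^ k) 1 with h | h
      · exact ⟨0, by simp [h]⟩
      · have hco : Nat.Coprime n (p ^ k) :=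
          Nat.Coprime.pow_right _ ((hp.coprime_iff_not_dvd.2 (hn ▸ hψd)).symm)
        have h1 : 1 < p ^ k := lt_of_le_of_ne (Nat.one_le_pow _ _ hp.pos) (Ne.symm h)
        obtain ⟨m, -, hm⟩ := Nat.exists_mul_mod_eq_one_of_coprime hco h1
        exact ⟨m, by rw [hm, Nat.mod_eq_of_lt h1]⟩
    refine ⟨((LinearMap.det.comp ρ).comp (Subgroup.inclusion hDH)).toHomUnits ^ m, fun z => ?_⟩
    refine Units.ext ?_
    rw [MonoidHom.pow_apply, Units.val_pow_eq_pow_val, MonoidHom.coe_toHomUnits]
    show LinearMap.det (ρ ⟨(z : G), hDH (hZD z.2)⟩) ^ m = _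
    rw [hdet, ← pow_mul, ← Units.val_pow_eq_pow_val, ← map_pow]
    have hz : z ^ (p ^ k) = 1 := by
      have := pow_card_eq_one' (G := D) (x := ⟨(z : G), hZD z.2⟩)
      rw [hk] at this
      exact Subtype.ext (congrArg Subtype.val this :)
    rw [pow_eq_pow_mod _ hz, hm, ← pow_eq_pow_mod _ hz, pow_one]

end Cfsg.Agent.S5001
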