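import Cfsg.Statements.S5014
import Cfsg.Agent.Lib.RootGrp.RankOne
-- import your own Cfsg.Agent.* helpers here

set_option autoImplicit false
open Cfsg

namespace Cfsg.Agent.S5014

/-- Let X = ⟨A, B⟩ be a rank one group with unipotent subgroups A and B and let Ω be the set of conjugates of A under X. Then Ω has at least three members, X acts doubly transitively on Ω by conjugation (any two ordered pairs of distinct members are carried to one another by a single element of X), and A acts regularly on Ω with A removed: for C, D in Ω different from A there is exactly one element of A conjugating C to D. -/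
theorem result {G : Type*} [Group G] {A B : Subgroup G} (h : Cfsg.IsRankOnePair A B) :
    (∃ C₁ ∈ Cfsg.unipotentSubgroups A B, ∃ C₂ ∈ Cfsg.unipotentSubgroups A B, ∃ C₃ ∈ Cfsg.unipotentSubgroups A B,
      C₁ ≠ C₂ ∧ C₁ ≠ C₃ ∧ C₂ ≠ C₃) ∧
    (∀ C₁ ∈ Cfsg.unipotentSubgroups A B, ∀ C₂ ∈ Cfsg.unipotentSubgroups A B, ∀ D₁ ∈ Cfsg.unipotentSubgroups A B,
      ∀ D₂ ∈ Cfsg.unipotentSubgroups A B, C₁ ≠ C₂ → D₁ ≠ D₂ →
        ∃ x ∈ A ⊔ B, Cfsg.conjBy C₁ x = D₁ ∧ Cfsg.conjBy C₂ x = D₂) ∧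
    (∀ C ∈ Cfsg.unipotentSubgroups A B, ∀ D ∈ Cfsg.unipotentSubgroups A B, C ≠ A → D ≠ A →
      ∃! a : G, a ∈ A ∧ Cfsg.conjBy C a = D) := by
  refine ⟨?_, ?_, ?_⟩
  · obtain ⟨a, ha, ha1⟩ := Cfsg.Agent.RootGrp.exists_left h
    refine ⟨A, Cfsg.Agent.RootGrp.left_mem h, B, Cfsg.Agent.RootGrp.right_mem h, Cfsg.conjBy B a,
      Cfsg.Agent.RootGrp.conj_mem_unipotent h (Cfsg.Agent.RootGrp.right_mem h) (Subgroup.mem_sup_left ha),
      h.ne, ?_, ?_⟩
    · intro e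
      apply h.ne
      exact Cfsg.Agent.RootGrp.conjBy_inj (g := a) ((Cfsg.Agent.RootGrp.conjBy_of_mem ha).trans e)
    · exact fun e => ha1 (Cfsg.Agent.RootGrp.eq_one_of_normalizes h ha e.symm)
  · intro C₁ hC₁ C₂ hC₂ D₁ hD₁ D₂ hD₂ hC hD
    obtain ⟨x, hx, ex1, ex2⟩ := Cfsg.Agent.RootGrp.exists_conj_pair h hC₁ hC₂ hC
    obtain ⟨y, hy, ey1, ey2⟩ := Cfsg.Agent.RootGrp.exists_conj_pair h hD₁ hD₂ hD
    refine ⟨y * x⁻¹, mul_mem hy (inv_mem hx), ?_, ?_⟩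
    · rw [← ex1, Cfsg.Agent.RootGrp.conjBy_conjBy, inv_mul_cancel_right, ey1]
    · rw [← ex2, Cfsg.Agent.RootGrp.conjBy_conjBy, inv_mul_cancel_right, ey2]
  · intro C hC D hD hCA hDA
    rcases Cfsg.Agent.RootGrp.unipotent_cases h hC with e | ⟨a, ha, rfl⟩
    · exact absurd e hCA
    rcases Cfsg.Agent.RootGrp.unipotent_cases h hD with e | ⟨a', ha', rfl⟩
    · exact absurd e hDA
    refine ⟨a' * a⁻¹, ⟨mul_mem ha' (inv_mem ha), ?_⟩, ?_⟩
    · rw [Cfsg.Agent.RootGrp.conjBy_conjBy, inv_mul_cancel_right]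
    · rintro y ⟨hy, e⟩
      rw [Cfsg.Agent.RootGrp.conjBy_conjBy] at e
      have e2 : Cfsg.conjBy B (a'⁻¹ * (y * a)) = B := by
        rw [← Cfsg.Agent.RootGrp.conjBy_conjBy, e, Cfsg.Agent.RootGrp.conjBy_conjBy, inv_mul_cancel,
          Cfsg.Agent.RootGrp.conjBy_one]
      have h1 := Cfsg.Agent.RootGrp.eq_one_of_normalizes h (mul_mem (inv_mem ha') (mul_mem hy ha)) e2
      rw [inv_mul_eq_one] at h1
      rw [h1, mul_inv_cancel_right]

end Cfsg.Agent.S5014
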