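import Cfsg.Statements.S5015
import Cfsg.Agent.Lib.RootGrp.RankOne
-- import your own Cfsg.Agent.* helpers here

set_option autoImplicit false
open Cfsg

namespace Cfsg.Agent.S5015

/-- Let a group Y act doubly transitively on a set Ω with at least three points, and suppose that the stabilizer of a point α contains a nilpotent subgroup A, normalized by that stabilizer, which acts regularly on the points other than α. Then for any y in Y moving α, the subgroups A and y A y⁻¹ are the unipotent subgroups of a rank one group, and the normal closure of A in Y (the subgroup generated by all conjugates of A) is generated by A and y A y⁻¹ alone. -/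
theorem result {Y Ω : Type*} [Group Y] [MulAction Y Ω]
    (h2 : MulAction.IsMultiplyPretransitive Y Ω 2) (hΩ : 3 ≤ ENat.card Ω) (α : Ω) (A : Subgroup Y)
    (hA : A ≤ MulAction.stabilizer Y α) (hAn : ∀ y ∈ MulAction.stabilizer Y α, Cfsg.conjBy A y = A)
    (hnil : Group.IsNilpotent A) (hreg : ∀ β γ : Ω, β ≠ α → γ ≠ α → ∃! a : Y, a ∈ A ∧ a • β = γ)
    (y : Y) (hy : y ∉ MulAction.stabilizer Y α) :
    Cfsg.IsRankOnePair A (Cfsg.conjBy A y) ∧ Subgroup.normalClosure (A : Set Y) = A ⊔ Cfsg.conjBy A y := by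
  open Cfsg.Agent.RootGrp in
  haveI := h2
  have hgrp : ∀ g k : Y, g • α = k • α → Cfsg.conjBy A g = Cfsg.conjBy A k := by
    intro g k e
    have hs : k⁻¹ * g ∈ MulAction.stabilizer Y α := by
      rw [MulAction.mem_stabilizer_iff, mul_smul, e, inv_smul_smul]
    calc Cfsg.conjBy A g = Cfsg.conjBy (Cfsg.conjBy A (k⁻¹ * g)) k := by
          rw [conjBy_conjBy, mul_inv_cancel_left]
      _ = _ := by rw [hAn _ hs]
  have hβ : y • α ≠ α := fun e => hy (MulAction.mem_stabilizer_iff.2 e)
  -- the one-sided condition, for any point and a partner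
  have cond : ∀ g k : Y, g • α ≠ k • α → Cfsg.RankOneCondition (Cfsg.conjBy A g) (Cfsg.conjBy A k) := by
    intro g k hgk a ha ha1
    obtain ⟨a₀, ha₀, rfl⟩ := ha
    have ha01 : a₀ ≠ 1 := fun e => ha1 (by rw [e]; exact map_one _)
    set β' := (g * a₀ * g⁻¹)⁻¹ • (k • α)
    have h1 : β' ≠ k • α := by
      intro e
      have h3 : (g⁻¹ * k) • α ≠ α := by
        intro e'; rw [mul_smul, inv_smul_eq_iff] at e'; exact hgk e'.symm
      have h4 : a₀⁻¹ • ((g⁻¹ * k) • α) = (g⁻¹ * k) • α := by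
        calc a₀⁻¹ • ((g⁻¹ * k) • α) = g⁻¹ • β' := by
              simp only [β', ← mul_smul]
              congr 1
              group
          _ = _ := by rw [e, mul_smul]
      obtain ⟨u, -, huniq⟩ := hreg _ _ h3 h3
      have e1 := huniq _ ⟨inv_mem ha₀, h4⟩
      have e2 := huniq 1 ⟨one_mem _, one_smul _ _⟩
      exact ha01 (inv_eq_one.1 (e1.trans e2.symm))
    have h2' : g • α ≠ k • α := hgk
    have h5 : (k⁻¹ * g) • α ≠ α := by
      intro e'; rw [mul_smul, inv_smul_eq_iff] at e'; exact hgk e'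
    have h6 : k⁻¹ • β' ≠ α := by
      intro e'; rw [inv_smul_eq_iff] at e'; exact h1 e'
    obtain ⟨b₀, ⟨hb₀, hb⟩, -⟩ := hreg _ _ h5 h6
    refine ⟨k * b₀⁻¹ * k⁻¹, ⟨b₀⁻¹, inv_mem hb₀, rfl⟩, ?_, ?_⟩
    · intro e
      rw [conj_eq_one_iff, inv_eq_one] at e
      rw [e, one_smul] at hb
      rw [mul_smul] at hb
      have e3 : g • α = β' := MulAction.injective k⁻¹ hb
      have e4 : (g * a₀ * g⁻¹) • (g • α) = k • α := by rw [e3, smul_inv_smul]
      rw [← mul_smul, inv_mul_cancel_right, mul_smul, MulAction.mem_stabilizer_iff.1 (hA ha₀)] at e4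
      exact hgk e4
    · rw [conjBy_conjBy]
      show _ = Cfsg.conjBy (Cfsg.conjBy A k) (g * a₀ * g⁻¹)⁻¹
      rw [conjBy_conjBy]
      apply hgrp
      rw [show (k * b₀⁻¹ * k⁻¹)⁻¹ * g = k * (b₀ * (k⁻¹ * g)) by group, mul_smul, mul_smul b₀, hb, smul_inv_smul,
        mul_smul]
  have hgA : ∀ g : Y, g • α = α → Cfsg.conjBy A g = A := fun g e => hAn g (MulAction.mem_stabilizer_iff.2 e)
  constructor
  · refine ⟨?_, hnil, ?_, ?_, ?_⟩
    · intro e
      obtain ⟨γ, hγ1, hγ2⟩ : ∃ γ : Ω, γ ≠ α ∧ γ ≠ y • α := by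
        by_contra hc
        push_neg at hc
        have hsub : (Set.univ : Set Ω) ⊆ {α, y • α} := fun γ _ => by
          by_cases h : γ = α
          · exact Or.inl h
          · exact Or.inr (hc γ h)
        have h3 : ENat.card Ω ≤ 2 := by
          rw [← Set.encard_univ]
          exact (Set.encard_le_encard hsub).trans (Set.encard_pair hβ.symm).le
        exact absurd (hΩ.trans h3) (by decide)
      obtain ⟨a, ⟨ha, haγ⟩, -⟩ := hreg _ _ hβ hγ1
      obtain ⟨a', ha', rfl⟩ : a ∈ Cfsg.conjBy A y := e ▸ ha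
      apply hγ2
      rw [← haγ, show (MulAut.conj y).toMonoidHom a' = y * a' * y⁻¹ from rfl, ← mul_smul, inv_mul_cancel_right,
        mul_smul, MulAction.mem_stabilizer_iff.1 (hA ha')]
    · haveI := hnil
      exact Group.nilpotent_of_surjective _ (MonoidHom.subgroupMap_surjective (MulAut.conj y).toMonoidHom A)
    · have := cond 1 y (by rw [one_smul]; exact hβ.symm)
      rwa [conjBy_one] at this
    · have := cond y 1 (by rw [one_smul]; exact hβ)
      rwa [conjBy_one] at this
  · refine le_antisymm ?_ (sup_le Subgroup.le_normalClosure ?_)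
    · rw [Subgroup.normalClosure, Subgroup.closure_le]
      intro x hx
      obtain ⟨a, ha, hax⟩ := Group.mem_conjugatesOfSet_iff.1 hx
      obtain ⟨g, rfl⟩ := isConj_iff.1 hax
      by_cases e : g • α = α
      · exact Subgroup.mem_sup_left ((hgA g e).le ⟨a, ha, rfl⟩)
      obtain ⟨u, ⟨hu, hug⟩, -⟩ := hreg _ _ hβ e
      have hm : g * a * g⁻¹ ∈ Cfsg.conjBy A (u * y) :=
        (hgrp g (u * y) (by rw [mul_smul, hug])).le ⟨a, ha, rfl⟩
      rw [mem_conjBy] at hm
      have hB : y * ((u * y)⁻¹ * (g * a * g⁻¹) * (u * y)) * y⁻¹ ∈ Cfsg.conjBy A y := ⟨_, hm, rfl⟩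
      have := mul_mem (mul_mem (Subgroup.mem_sup_left (T := Cfsg.conjBy A y) hu) (Subgroup.mem_sup_right hB))
        (inv_mem (Subgroup.mem_sup_left (T := Cfsg.conjBy A y) hu))
      show g * a * g⁻¹ ∈ A ⊔ Cfsg.conjBy A y
      convert this using 1
      group
    · rintro _ ⟨a, ha, rfl⟩
      exact Subgroup.normalClosure_normal.conj_mem a (Subgroup.le_normalClosure ha) y

end Cfsg.Agent.S5015
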