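import Cfsg.Statements.S5016
import Cfsg.Agent.Lib.RootGrp.RankOne
-- import your own Cfsg.Agent.* helpers here

set_option autoImplicit false
open Cfsg

namespace Cfsg.Agent.S5016

/-- For any field k, the special linear group SL₂(k) is a special rank one group with abelian unipotent subgroups, the unipotent subgroups being the group of lower unitriangular matrices and the group of upper unitriangular matrices. -/
theorem result (k : Type*) [Field k] :
    Cfsg.IsRankOneGroup (Matrix.SpecialLinearGroup (Fin 2) k) (Cfsg.lowerUnipotentSL2 k) (Cfsg.upperUnipotentSL2 k) ∧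
    Cfsg.IsSpecialRankOnePair (Cfsg.lowerUnipotentSL2 k) (Cfsg.upperUnipotentSL2 k) ∧
    Cfsg.HasAbelianUnipotents (Cfsg.lowerUnipotentSL2 k) (Cfsg.upperUnipotentSL2 k) := by
  open Cfsg.Agent.RootGrp in
  set A := Cfsg.lowerUnipotentSL2 k
  set B := Cfsg.upperUnipotentSL2 k
  let L : k → Matrix.SpecialLinearGroup (Fin 2) k := fun x => ⟨!![1, 0; x, 1], by simp [Matrix.det_fin_two]⟩
  let U : k → Matrix.SpecialLinearGroup (Fin 2) k := fun x => ⟨!![1, x; 0, 1], by simp [Matrix.det_fin_two]⟩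
  have hLc : ∀ x, ((L x : Matrix.SpecialLinearGroup (Fin 2) k) : Matrix (Fin 2) (Fin 2) k) = !![1, 0; x, 1] := fun _ => rfl
  have hUc : ∀ x, ((U x : Matrix.SpecialLinearGroup (Fin 2) k) : Matrix (Fin 2) (Fin 2) k) = !![1, x; 0, 1] := fun _ => rfl
  have ext4 : ∀ g g' : Matrix.SpecialLinearGroup (Fin 2) k,
      (g : Matrix (Fin 2) (Fin 2) k) = (g' : Matrix (Fin 2) (Fin 2) k) → g = g' := fun g g' h => Subtype.ext h
  have hLmul : ∀ x y, L x * L y = L (x + y) := fun x y => ext4 _ _ (by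
    simp [Matrix.SpecialLinearGroup.coe_mul, hLc, Matrix.mul_fin_two])
  have hUmul : ∀ x y, U x * U y = U (x + y) := fun x y => ext4 _ _ (by
    simp [Matrix.SpecialLinearGroup.coe_mul, hUc, Matrix.mul_fin_two, add_comm])
  have hL0 : L 0 = 1 := ext4 _ _ (by simp [L, Matrix.one_fin_two])
  have hU0 : U 0 = 1 := ext4 _ _ (by simp [U, Matrix.one_fin_two])
  have hLinv : ∀ x, (L x)⁻¹ = L (-x) := fun x => inv_eq_of_mul_eq_one_right (by rw [hLmul, add_neg_cancel, hL0])
  have hUinv : ∀ x, (U x)⁻¹ = U (-x) := fun x => inv_eq_of_mul_eq_one_right (by rw [hUmul, add_neg_cancel, hU0])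
  have hLinj : ∀ x, L x = 1 → x = 0 := fun x h => by
    have := congrArg (fun g : Matrix.SpecialLinearGroup (Fin 2) k => (g : Matrix (Fin 2) (Fin 2) k) 1 0) h
    simpa [L] using this
  have hUinj : ∀ x, U x = 1 → x = 0 := fun x h => by
    have := congrArg (fun g : Matrix.SpecialLinearGroup (Fin 2) k => (g : Matrix (Fin 2) (Fin 2) k) 0 1) h
    simpa [U] using this
  have hA : ∀ g, g ∈ A ↔ ∃ x, g = L x := by
    intro g
    constructor
    · intro hg
      induction hg using Subgroup.closure_induction with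
      | mem y hy =>
        obtain ⟨h1, h2, h3⟩ := hy
        refine ⟨(y : Matrix (Fin 2) (Fin 2) k) 1 0, ext4 _ _ ?_⟩
        ext i j; fin_cases i <;> fin_cases j <;> simp [L, h1, h2, h3]
      | one => exact ⟨0, hL0.symm⟩
      | mul y z _ _ iy iz => obtain ⟨a, rfl⟩ := iy; obtain ⟨b, rfl⟩ := iz; exact ⟨a + b, hLmul a b⟩
      | inv y _ iy => obtain ⟨a, rfl⟩ := iy; exact ⟨-a, hLinv a⟩
    · rintro ⟨x, rfl⟩
      exact Subgroup.subset_closure ⟨by simp [L], by simp [L], by simp [L]⟩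
  have hB : ∀ g, g ∈ B ↔ ∃ x, g = U x := by
    intro g
    constructor
    · intro hg
      induction hg using Subgroup.closure_induction with
      | mem y hy =>
        obtain ⟨h1, h2, h3⟩ := hy
        refine ⟨(y : Matrix (Fin 2) (Fin 2) k) 0 1, ext4 _ _ ?_⟩
        ext i j; fin_cases i <;> fin_cases j <;> simp [U, h1, h2, h3]
      | one => exact ⟨0, hU0.symm⟩
      | mul y z _ _ iy iz => obtain ⟨a, rfl⟩ := iy; obtain ⟨b, rfl⟩ := iz; exact ⟨a + b, hUmul a b⟩
      | inv y _ iy => obtain ⟨a, rfl⟩ := iy; exact ⟨-a, hUinv a⟩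
    · rintro ⟨x, rfl⟩
      exact Subgroup.subset_closure ⟨by simp [U], by simp [U], by simp [U]⟩
  have hAc : IsMulCommutative ↥A := ⟨⟨fun a b => by
    obtain ⟨x, hx⟩ := (hA _).1 a.2
    obtain ⟨y, hy⟩ := (hA _).1 b.2
    exact Subtype.ext (show (a : Matrix.SpecialLinearGroup (Fin 2) k) * b = b * a by
      rw [hx, hy, hLmul, hLmul, add_comm])⟩⟩
  have hBc : IsMulCommutative ↥B := ⟨⟨fun a b => by
    obtain ⟨x, hx⟩ := (hB _).1 a.2
    obtain ⟨y, hy⟩ := (hB _).1 b.2
    exact Subtype.ext (show (a : Matrix.SpecialLinearGroup (Fin 2) k) * b = b * a by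
      rw [hx, hy, hUmul, hUmul, add_comm])⟩⟩
  have hnil : ∀ H : Subgroup (Matrix.SpecialLinearGroup (Fin 2) k), IsMulCommutative ↥H → Group.IsNilpotent ↥H := by
    intro H hH
    haveI := hH
    letI : CommGroup ↥H := { (inferInstance : Group ↥H) with mul_comm := hH.is_comm.comm }
    exact CommGroup.isNilpotent
  have hid : ∀ t y : k, t ≠ 0 → L (-t) * U y * L t = U (-t⁻¹) * L (-(t * t * y)) * U t⁻¹ := fun t y ht => ext4 _ _ (by
    simp only [Matrix.SpecialLinearGroup.coe_mul, hLc, hUc, Matrix.mul_fin_two]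
    ext i j
    fin_cases i <;> fin_cases j <;> simp <;> field_simp <;> ring)
  have hconj : ∀ t : k, t ≠ 0 → Cfsg.conjBy A (U t⁻¹)⁻¹ = Cfsg.conjBy B (L t)⁻¹ := by
    intro t ht
    rw [hUinv, hLinv]
    ext g
    rw [mem_conjBy, mem_conjBy, hA, hB, hUinv, hLinv, neg_neg, neg_neg]
    constructor
    · rintro ⟨x, hx⟩
      refine ⟨-(x * (t * t)⁻¹), ?_⟩
      have hg : g = U (-t⁻¹) * L x * U t⁻¹ := by
        rw [← hx]
        simp only [← mul_assoc, hUmul, neg_add_cancel, hU0, one_mul]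
        rw [mul_assoc, hUmul, neg_add_cancel, hU0, mul_one]
      have := hid t (-(x * (t * t)⁻¹)) ht
      rw [show -(t * t * -(x * (t * t)⁻¹)) = x by field_simp, ← hg] at this
      rw [← this]
      simp only [← mul_assoc, hLmul, add_neg_cancel, hL0, one_mul]
      rw [mul_assoc, hLmul, add_neg_cancel, hL0, mul_one]
    · rintro ⟨y, hy⟩
      refine ⟨-(t * t * y), ?_⟩
      have hg : g = L (-t) * U y * L t := by
        rw [← hy]
        simp only [← mul_assoc, hLmul, neg_add_cancel, hL0, one_mul]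
        rw [mul_assoc, hLmul, neg_add_cancel, hL0, mul_one]
      rw [hg, hid t y ht]
      simp only [← mul_assoc, hUmul, add_neg_cancel, hU0, one_mul]
      rw [mul_assoc, hUmul, add_neg_cancel, hU0, mul_one]
  have hpair : Cfsg.IsRankOnePair A B := by
    refine ⟨fun e => ?_, hnil A hAc, hnil B hBc, fun a ha ha1 => ?_, fun b hb hb1 => ?_⟩
    · obtain ⟨x, hx⟩ := (hB _).1 (e ▸ (hA (L 1)).2 ⟨1, rfl⟩)
      have := congrArg (fun g : Matrix.SpecialLinearGroup (Fin 2) k => (g : Matrix (Fin 2) (Fin 2) k) 1 0) hx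
      simp [L, U] at this
    · obtain ⟨t, rfl⟩ := (hA a).1 ha
      have ht : t ≠ 0 := fun e => ha1 (by rw [e, hL0])
      exact ⟨U t⁻¹, (hB _).2 ⟨_, rfl⟩, fun e => ht (inv_eq_zero.1 (hUinj _ e)), hconj t ht⟩
    · obtain ⟨s, rfl⟩ := (hB b).1 hb
      have hs : s ≠ 0 := fun e => hb1 (by rw [e, hU0])
      refine ⟨L s⁻¹, (hA _).2 ⟨_, rfl⟩, fun e => hs (inv_eq_zero.1 (hLinj _ e)), ?_⟩
      have := hconj s⁻¹ (inv_ne_zero hs)
      rw [inv_inv] at this
      exact this.symm
  have hgen : A ⊔ B = ⊤ := by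
    have hc : ∀ g : Matrix.SpecialLinearGroup (Fin 2) k, (g : Matrix (Fin 2) (Fin 2) k) 1 0 ≠ 0 → g ∈ A ⊔ B := by
      intro g hg
      set c := (g : Matrix (Fin 2) (Fin 2) k) 1 0
      have hdet : (g : Matrix (Fin 2) (Fin 2) k) 0 0 * (g : Matrix (Fin 2) (Fin 2) k) 1 1 -
          (g : Matrix (Fin 2) (Fin 2) k) 0 1 * c = 1 := by
        have := g.2
        rwa [Matrix.det_fin_two] at this
      have e : g = U (((g : Matrix (Fin 2) (Fin 2) k) 0 0 - 1) / c) * L c *
          U (((g : Matrix (Fin 2) (Fin 2) k) 1 1 - 1) / c) := ext4 _ _ (by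
        simp only [Matrix.SpecialLinearGroup.coe_mul, hLc, hUc, Matrix.mul_fin_two]
        ext i j
        fin_cases i <;> fin_cases j <;> simp <;> (try field_simp) <;> (first | ring1 | linear_combination (-1 : k) * hdet | linear_combination hdet))
      rw [e]
      exact mul_mem (mul_mem (Subgroup.mem_sup_right ((hB _).2 ⟨_, rfl⟩)) (Subgroup.mem_sup_left ((hA _).2 ⟨_, rfl⟩)))
        (Subgroup.mem_sup_right ((hB _).2 ⟨_, rfl⟩))
    rw [eq_top_iff]
    intro g _
    by_cases hg : (g : Matrix (Fin 2) (Fin 2) k) 1 0 = 0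
    · have h2 := hc (g * L 1) (by
        simp only [Matrix.SpecialLinearGroup.coe_mul, hLc, Matrix.mul_apply, Fin.sum_univ_two]
        have := g.2
        rw [Matrix.det_fin_two, hg] at this
        simp [hg]
        intro h0
        simp [h0] at this)
      have := mul_mem h2 (inv_mem (Subgroup.mem_sup_left (T := B) ((hA (L 1)).2 ⟨1, rfl⟩)))
      rwa [mul_inv_cancel_right] at this
    · exact hc g hg
  refine ⟨⟨hgen, hpair⟩, ⟨hpair, fun a ha ha1 b hb _ he => ?_⟩, hAc, hBc⟩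
  obtain ⟨t, rfl⟩ := (hA a).1 ha
  have ht : t ≠ 0 := fun e => ha1 (by rw [e, hL0])
  have hb' := unique_partner hpair hb ((hB _).2 ⟨t⁻¹, rfl⟩) (he.trans (hconj t ht).symm)
  rw [hb', hUinv, hLinv, hid t (-t⁻¹) ht, show -(t * t * -t⁻¹) = t by field_simp]

end Cfsg.Agent.S5016
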