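import Cfsg.Statements.S5017
import Cfsg.Agent.Lib.RootGrp.RankOne
-- import your own Cfsg.Agent.* helpers here

set_option autoImplicit false
open Cfsg

namespace Cfsg.Agent.S5017

/-- Let X be a rank one group with unipotent subgroups A and B and N a normal subgroup of X. Then either X = N A or N lies in the centre of X. Consequently a perfect rank one group is quasisimple. -/
theorem result {X : Type*} [Group X] {A B : Subgroup X} (h : Cfsg.IsRankOneGroup X A B) :
    (∀ N : Subgroup X, N.Normal → N ⊔ A = ⊤ ∨ N ≤ Subgroup.center X) ∧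
    (Group.IsPerfect X → Cfsg.IsQuasisimple X) := by
  open Cfsg.Agent.RootGrp in
  obtain ⟨htop, hp⟩ := h
  have main : ∀ N : Subgroup X, N.Normal → N ⊔ A = ⊤ ∨ N ≤ Subgroup.center X := by
    intro N hN
    by_cases hfix : ∀ n ∈ N, conjBy A n = A
    · right
      intro n hn
      have hB : ∀ m ∈ N, conjBy B m = B := by
        intro m hm
        obtain ⟨x, -, hx⟩ := exists_conj_right hp
        have := hfix _ (hN.conj_mem' m hm x)
        rw [← hx, conjBy_conjBy]
        rw [← conjBy_conjBy, ← conjBy_conjBy, conjBy_eq_iff, inv_inv, conjBy_conjBy] at this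
        exact this
      have key : ∀ (C D : Subgroup X), Cfsg.IsRankOnePair C D → (∀ m ∈ N, conjBy C m = C) →
          (∀ m ∈ N, conjBy D m = D) → ∀ c ∈ C, n * c = c * n := by
        intro C D hCD hC hD c hc
        have hcC : n * c * n⁻¹ ∈ C := (hC n hn).le ⟨c, hc, rfl⟩
        have h2 : conjBy D (n * c * n⁻¹ * c⁻¹) = D := hD _ (by
          have := mul_mem hn (hN.conj_mem n⁻¹ (inv_mem hn) c)
          rwa [show n * (c * n⁻¹ * c⁻¹) = n * c * n⁻¹ * c⁻¹ by group] at this)
        have h1 := eq_one_of_normalizes hCD (mul_mem hcC (inv_mem hc)) h2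
        rwa [mul_inv_eq_one, mul_inv_eq_iff_eq_mul] at h1
      rw [Subgroup.mem_center_iff]
      intro g
      have hg : g ∈ A ⊔ B := htop ▸ Subgroup.mem_top g
      have hle : A ⊔ B ≤ Subgroup.centralizer {n} := by
        refine sup_le ?_ ?_ <;> intro c hc <;> rw [Subgroup.mem_centralizer_singleton_iff]
        · exact (key A B hp hfix hB c hc).symm
        · exact (key B A (Cfsg.RankOnePair_symm hp) hB hfix c hc).symm
      exact Subgroup.mem_centralizer_singleton_iff.1 (hle hg)
    · left
      push_neg at hfix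
      obtain ⟨n, hn, hne⟩ := hfix
      have hC : conjBy A n ∈ Cfsg.unipotentSubgroups A B := ⟨n, htop ▸ Subgroup.mem_top n, rfl⟩
      obtain ⟨x, -, hx1, hx2⟩ := exists_conj_pair hp (left_mem hp) hC hne.symm
      have e : conjBy A (x⁻¹ * n * x) = B := by
        rw [← conjBy_conjBy, hx1, ← conjBy_conjBy, ← hx2, conjBy_conjBy, inv_mul_cancel, conjBy_one]
      have hB : B ≤ N ⊔ A := by
        rw [← e]
        rintro _ ⟨a, ha, rfl⟩
        have hm := hN.conj_mem' n hn x
        exact mul_mem (mul_mem (Subgroup.mem_sup_left hm) (Subgroup.mem_sup_right ha))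
          (inv_mem (Subgroup.mem_sup_left hm))
      exact eq_top_iff.2 (htop ▸ sup_le le_sup_right hB)
  refine ⟨main, fun hperf => ⟨hperf, ?_⟩⟩
  haveI := hperf
  have hZ : Subgroup.center X ≠ ⊤ := by
    intro e
    obtain ⟨x, -, hx⟩ := exists_conj_right hp
    apply hp.ne
    rw [← hx, conjBy_of_commute (fun y _ => (Subgroup.mem_center_iff.1 (e ▸ Subgroup.mem_top x) y).symm)]
  haveI : Nontrivial (X ⧸ Subgroup.center X) := QuotientGroup.nontrivial_iff.2 hZ
  refine ⟨fun M hM => ?_⟩
  haveI := hM
  rcases main _ (hM.comap (QuotientGroup.mk' (Subgroup.center X))) with e | e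
  · right
    set N := M.comap (QuotientGroup.mk' (Subgroup.center X))
    haveI : N.Normal := hM.comap _
    have hsurj : Function.Surjective ((QuotientGroup.mk' N).comp A.subtype) := by
      intro q
      obtain ⟨g, rfl⟩ := QuotientGroup.mk_surjective q
      obtain ⟨n, hn, a, ha, rfl⟩ := Subgroup.mem_sup_of_normal_left.1 (e ▸ Subgroup.mem_top g)
      refine ⟨⟨a, ha⟩, (QuotientGroup.eq.2 ?_)⟩
      have := (inferInstance : N.Normal).conj_mem' n hn a
      simpa [mul_assoc] using this
    haveI := hp.nilpotent_left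
    haveI : Group.IsNilpotent (X ⧸ N) := Group.nilpotent_of_surjective _ hsurj
    haveI : Group.IsSolvable (X ⧸ N) := inferInstance
    by_contra hne
    have hN : N ≠ ⊤ := fun e => hne (by
      rw [eq_top_iff]; intro q _
      obtain ⟨g, rfl⟩ := QuotientGroup.mk_surjective q
      exact (e ▸ Subgroup.mem_top g : g ∈ N))
    haveI : Nontrivial (X ⧸ N) := QuotientGroup.nontrivial_iff.2 hN
    have hlt := Group.IsSolvable.commutator_lt_top_of_nontrivial (X ⧸ N)
    refine hlt.ne (eq_top_iff.2 ?_)
    rw [← Subgroup.map_top_of_surjective (QuotientGroup.mk' N) (QuotientGroup.mk'_surjective N),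
      ← hperf.commutator_eq_top, commutator_def, commutator_def, Subgroup.map_commutator]
    exact Subgroup.commutator_mono le_top le_top
  · left
    rw [Subgroup.eq_bot_iff_forall]
    intro q hq
    obtain ⟨g, rfl⟩ := QuotientGroup.mk_surjective q
    exact (QuotientGroup.eq_one_iff g).2 (e hq)

end Cfsg.Agent.S5017
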