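import Cfsg.Statements.S5018
import Cfsg.Agent.Lib.RootGrp.RankOne
import Cfsg.Agent.S5017
-- import your own Cfsg.Agent.* helpers here

set_option autoImplicit false
open Cfsg

namespace Cfsg.Agent.S5018

/-- A rank one group is not nilpotent, and its second centre equals its centre. -/
theorem result {X : Type*} [Group X] {A B : Subgroup X} (h : Cfsg.IsRankOneGroup X A B) :
    Subgroup.upperCentralSeries X 2 = Subgroup.center X ∧ ¬ Group.IsNilpotent X := by
  open Cfsg.Agent.RootGrp in
  obtain ⟨htop, hp⟩ := h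
  have hZ2 : Subgroup.upperCentralSeries X 2 = Subgroup.center X := by
    refine le_antisymm ?_ ((Subgroup.upperCentralSeries_one (G := X)).symm.le.trans
      (Subgroup.upperCentralSeries_mono X one_le_two))
    rcases (Cfsg.Agent.S5017.result ⟨htop, hp⟩).1 (Subgroup.upperCentralSeries X 2) inferInstance with e | e
    · exfalso
      obtain ⟨x, -, hx⟩ := exists_conj_right hp
      obtain ⟨z, hz, a, ha, rfl⟩ := Subgroup.mem_sup_of_normal_left.1 (e ▸ Subgroup.mem_top x)
      rw [← conjBy_conjBy, conjBy_of_mem ha] at hx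
      refine left_ne_bot (Cfsg.RankOnePair_symm hp) (Subgroup.eq_bot_iff_forall _ |>.2 ?_)
      intro b hb
      obtain ⟨a', ha', rfl⟩ : b ∈ conjBy A z := hx.symm ▸ hb
      have hc : z * a' * z⁻¹ * a'⁻¹ ∈ Subgroup.center X := by
        rw [← Subgroup.upperCentralSeries_one]
        exact (Subgroup.mem_upperCentralSeries_succ_iff.1 hz) a'
      have hcc : ∀ y, y * (z * a' * z⁻¹ * a'⁻¹) = (z * a' * z⁻¹ * a'⁻¹) * y := Subgroup.mem_center_iff.1 hc
      have hn : conjBy A (z * a' * z⁻¹) = A := by
        rw [show z * a' * z⁻¹ = (z * a' * z⁻¹ * a'⁻¹) * a' by group, ← conjBy_conjBy, conjBy_of_mem ha',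
          conjBy_of_commute (fun y _ => (hcc y).symm)]
      exact eq_one_of_normalizes (Cfsg.RankOnePair_symm hp) hb hn
    · exact e
  refine ⟨hZ2, fun hnil => ?_⟩
  have hconst : ∀ n, Subgroup.upperCentralSeries X n ≤ Subgroup.center X := by
    intro n
    induction n with
    | zero => simp
    | succ n ih =>
      intro y hy
      rw [← hZ2, Subgroup.mem_upperCentralSeries_succ_iff]
      intro g
      rw [Subgroup.upperCentralSeries_one]
      exact ih (Subgroup.mem_upperCentralSeries_succ_iff.1 hy g)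
  obtain ⟨n, hn⟩ := hnil.nilpotent
  obtain ⟨x, -, hx⟩ := exists_conj_right hp
  refine hp.ne (hx ▸ (conjBy_of_commute fun y _ => ?_).symm)
  exact (Subgroup.mem_center_iff.1 (hconst n (hn ▸ Subgroup.mem_top x)) y).symm

end Cfsg.Agent.S5018
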