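import Cfsg.Statements.S5022
import Cfsg.Agent.S2426
import Cfsg.Agent.Lib.RootGrp.Special
import Cfsg.Agent.Lib.RootGrp.Lines

set_option autoImplicit false
open Cfsg

open Cfsg.Agent.RootGrp Cfsg.Agent.RootGrp.Special Cfsg.Agent.GL2.SteinbergPres Cfsg.Agent.GL2.CentralExt Cfsg.Agent.Classical

namespace Cfsg.Agent.S5022

/-- Let X be a special rank one group with abelian unipotent subgroups A and B, where A is an elementary abelian p-group for the prime p. Then for every non-identity a in A and the non-identity b in B with b⁻¹ A b = a⁻¹ B a, the subgroup generated by a and b is isomorphic to SL₂(p) or to PSL₂(p). -/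
theorem result {X : Type*} [Group X] {A B : Subgroup X} (h : Cfsg.IsRankOneGroup X A B)
    (hs : Cfsg.IsSpecialRankOnePair A B) (hab : Cfsg.HasAbelianUnipotents A B)
    {p : ℕ} [Fact p.Prime] (hA : Cfsg.IsElementaryAbelian p A)
    {a b : X} (ha : a ∈ A) (ha1 : a ≠ 1) (hb : b ∈ B) (hb1 : b ≠ 1) (hab' : Cfsg.conjBy A b⁻¹ = Cfsg.conjBy B a⁻¹) :
    Nonempty (↥(Subgroup.closure ({a, b} : Set X)) ≃* Matrix.SpecialLinearGroup (Fin 2) (ZMod p)) ∨
    Nonempty (↥(Subgroup.closure ({a, b} : Set X)) ≃* Matrix.ProjectiveSpecialLinearGroup (Fin 2) (ZMod p)) := by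
  classical
  haveI : NeZero p := ⟨(Fact.out : p.Prime).ne_zero⟩
  have hAc : ∀ u ∈ A, ∀ v ∈ A, u * v = v * u := fun u hu v hv => by
    haveI := hab.1
    exact congrArg Subtype.val (mul_comm' (⟨u, hu⟩ : A) ⟨v, hv⟩)
  have hexp : a ^ p = 1 := hA.2 a ha
  have hord : orderOf a = p := orderOf_eq_prime hexp ha1
  set c := F hs a with hcdef
  have hc : b⁻¹ = c := F_unique hs ha ha1 (inv_mem hb) hab'
  obtain ⟨hcB, hc1, -, -⟩ := F_spec hs ha ha1
  have hcord : c ^ p = 1 := by rw [hcdef, pow_eq_one_F hs ha ha1, hexp]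
  have hpm : ∀ g : X, g ^ p = 1 → ∀ m n : ℕ, (m : ZMod p) = n → g ^ m = g ^ n := fun g hg m n h => by
    rw [pow_eq_pow_iff_modEq]
    exact ((ZMod.natCast_eq_natCast_iff m n p).mp h).of_dvd (orderOf_dvd_of_pow_eq_one hg)
  let x : ZMod p → X := fun t => a ^ t.val
  let y : ZMod p → X := fun t => c ^ (-t).val
  have hax : ∀ t u, x t * x u = x (t + u) := fun t u => by
    show a ^ t.val * a ^ u.val = a ^ (t + u).val
    rw [← pow_add]; exact hpm a hexp _ _ (by simp)
  have hay : ∀ t u, y t * y u = y (t + u) := fun t u => by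
    show c ^ (-t).val * c ^ (-u).val = c ^ (-(t + u)).val
    rw [← pow_add]; exact hpm c hcord _ _ (by simp; ring)
  have hxp : ∀ (t : ZMod p) (m : ℕ), x t ^ m = x (m * t) := fun t m => by
    show (a ^ t.val) ^ m = a ^ ((m : ZMod p) * t).val
    rw [← pow_mul]; exact hpm a hexp _ _ (by simp [mul_comm])
  have hyp : ∀ (t : ZMod p) (m : ℕ), y t ^ m = y (m * t) := fun t m => by
    show (c ^ (-t).val) ^ m = c ^ (-((m : ZMod p) * t)).val
    rw [← pow_mul]; exact hpm c hcord _ _ (by simp [mul_comm])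
  have hx1 : x 1 = a := by
    show a ^ (1 : ZMod p).val = a
    conv_rhs => rw [← pow_one a]
    exact hpm a hexp _ _ (by simp)
  have hy1 : y (-1) = c := by
    show c ^ (-(-1 : ZMod p)).val = c
    conv_rhs => rw [← pow_one c]
    exact hpm c hcord _ _ (by simp)
  have hxA : ∀ t, x t ∈ A := fun t => pow_mem ha _
  have hyB : ∀ t, y t ∈ B := fun t => pow_mem hcB _
  have hx0 : ∀ t, x t = 1 → t = 0 := fun t h => by
    have := orderOf_dvd_of_pow_eq_one h
    rw [hord, ← ZMod.natCast_eq_zero_iff] at this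
    simpa using this
  have hxinj : ∀ s t, x s = x t → s = t := fun s t e => by
    have h1 : x (s + -t) = 1 := by
      rw [← hax, e, hax, add_neg_cancel]
      show a ^ (0 : ZMod p).val = 1
      rw [ZMod.val_zero, pow_zero]
    exact eq_of_sub_eq_zero (by rw [sub_eq_add_neg]; exact hx0 _ h1)
  have hy0 : ∀ t, y t = 1 → t = 0 := fun t h => by
    have h1 : orderOf c = p := orderOf_eq_prime hcord hc1
    have := orderOf_dvd_of_pow_eq_one h
    rw [h1, ← ZMod.natCast_eq_zero_iff] at this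
    simpa using this
  have hF : ∀ t : ZMod p, t ≠ 0 → F hs (x t) = y (-t⁻¹) := by
    intro t ht
    have hne : x t ≠ 1 := fun e => ht (hx0 t e)
    have hval : 1 ≤ t.val := Nat.pos_of_ne_zero fun e => ht ((ZMod.val_eq_zero t).mp e)
    have hgood : Good a (t.val - 1) := good_of_order fun l hl hd => by
      rw [hord] at hd
      rw [(Nat.prime_dvd_prime_iff_eq hl Fact.out).mp hd]
      have := ZMod.val_lt t
      omega
    have h1 : F hs (x t) ^ t.val = c := scale hs hAc t.val hval a ha ha1 hgood hne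
    have h2 : F hs (x t) ^ p = 1 := by
      rw [pow_eq_one_F hs (hxA t) hne]; exact hA.2 _ (hxA t)
    calc F hs (x t) = F hs (x t) ^ 1 := (pow_one _).symm
      _ = F hs (x t) ^ (t.val * t⁻¹.val) := hpm _ h2 _ _ (by simp [mul_inv_cancel₀ ht])
      _ = y (-t⁻¹) := by rw [pow_mul, h1]; show c ^ t⁻¹.val = c ^ (- -t⁻¹).val; rw [neg_neg]
  have hN : ∀ t : ZMod p, t ≠ 0 → x t * y (-t⁻¹) * x t = nn hs (x t) := fun t ht => by rw [nn, hF t ht]
  have hcj : ∀ t u : ZMod p, t ≠ 0 → x t * y (-t⁻¹) * x t * x u * (x t * y (-t⁻¹) * x t)⁻¹ = y (-(t⁻¹ ^ 2 * u)) := by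
    intro t u ht
    have hne : x t ≠ 1 := fun e => ht (hx0 t e)
    have hu : x u = x t ^ (u * t⁻¹).val := by
      rw [hxp, ZMod.natCast_zmod_val, mul_assoc, inv_mul_cancel₀ ht, mul_one]
    rw [hN t ht, hu, ← conj_pow, (nn_conj hs (hxA t) hne).1, hF t ht, hyp, ZMod.natCast_zmod_val]
    congr 1; ring
  have hcj' : ∀ t u : ZMod p, t ≠ 0 → y t * x (-t⁻¹) * y t * y u * (y t * x (-t⁻¹) * y t)⁻¹ = x (-(t⁻¹ ^ 2 * u)) := by
    intro t u ht
    have hs0 : -t⁻¹ ≠ 0 := neg_ne_zero.mpr (inv_ne_zero ht)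
    have hne : x (-t⁻¹) ≠ 1 := fun e => hs0 (hx0 _ e)
    have hFs : F hs (x (-t⁻¹)) = y t := by rw [hF _ hs0]; simp
    have hw : y t * x (-t⁻¹) * y t = nn hs (x (-t⁻¹)) := by
      rw [← hFs]; exact (F_spec hs (hxA _) hne).2.2.2.symm
    have hu : y u = F hs (x (-t⁻¹)) ^ (u * t⁻¹).val := by
      rw [hFs, hyp, ZMod.natCast_zmod_val, mul_assoc, inv_mul_cancel₀ ht, mul_one]
    rw [hw, hu, ← conj_pow, (nn_conj hs (hxA _) hne).2.1, hxp, ZMod.natCast_zmod_val]
    congr 1; ring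
  -- the homomorphism
  obtain ⟨E, hEu, hEl⟩ := Cfsg.Agent.S2426.result (K := ZMod p)
  let ψ₀ : PresentedGroup _ →* X := PresentedGroup.toGroup (f := fun q : Bool × ZMod p => if q.1 then x q.2 else y q.2)
    (rels := ({g : FreeGroup (Bool × ZMod p) | ∃ (b : Bool) (t u : ZMod p), g = FreeGroup.of (b, t) * FreeGroup.of (b, u) * (FreeGroup.of (b, t + u))⁻¹} ∪
      {g | ∃ (b : Bool) (t u : ZMod p), t ≠ 0 ∧
        g = (FreeGroup.of (b, t) * FreeGroup.of (!b, -t⁻¹) * FreeGroup.of (b, t)) * FreeGroup.of (b, u) *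
              (FreeGroup.of (b, t) * FreeGroup.of (!b, -t⁻¹) * FreeGroup.of (b, t))⁻¹ * (FreeGroup.of (!b, -(t⁻¹ ^ 2 * u)))⁻¹}))
    (by
      rintro r (⟨b, t, u, rfl⟩ | ⟨b, t, u, ht, rfl⟩)
      · cases b <;> simp [hax, hay]
      · cases b <;> simp only [map_mul, map_inv, FreeGroup.lift_apply_of, Bool.false_eq_true, if_false, if_true,
          Bool.not_false, Bool.not_true]
        · rw [hcj' t u ht, mul_inv_cancel]
        · rw [hcj t u ht, mul_inv_cancel])
  let ψ : Matrix.SpecialLinearGroup (Fin 2) (ZMod p) →* X := ψ₀.comp E.symm.toMonoidHom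
  have hψu : ∀ t, ψ (uS t) = x t := fun t => by
    show ψ₀ (E.symm (uS t)) = x t
    rw [show uS t = E (PresentedGroup.of (true, t)) from Subtype.ext (hEu t).symm, E.symm_apply_apply]
    exact PresentedGroup.toGroup.of _
  have hψl : ∀ t, ψ (lS t) = y t := fun t => by
    show ψ₀ (E.symm (lS t)) = y t
    rw [show lS t = E (PresentedGroup.of (false, t)) from Subtype.ext (hEl t).symm, E.symm_apply_apply]
    exact PresentedGroup.toGroup.of _
  -- the relations in the matrix group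
  have hR : Rels (uS (F := ZMod p)) lS := by
    refine ⟨uS_mul, lS_mul, fun t u ht => ?_⟩
    rw [W, mul_inv_eq_iff_eq_mul]
    apply Subtype.ext
    show (!![1, t; 0, 1] * !![1, 0; -t⁻¹, 1] * !![1, t; 0, 1] * !![1, u; 0, 1] : Matrix (Fin 2) (Fin 2) (ZMod p)) =
      !![1, 0; -(t⁻¹ ^ 2 * u), 1] * (!![1, t; 0, 1] * !![1, 0; -t⁻¹, 1] * !![1, t; 0, 1])
    apply SL2.coord <;> simp [Matrix.mul_apply, Fin.sum_univ_two, ht] <;> field_simp
  have hgen : Subgroup.closure (Set.range (uS (F := ZMod p)) ∪ Set.range lS) = ⊤ :=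
    closure_eq_top _ (fun t => Subgroup.subset_closure (Or.inl ⟨t, rfl⟩))
      (fun t => Subgroup.subset_closure (Or.inr ⟨t, rfl⟩))
  have hsep : ∀ d : ZMod p, ∀ v w : ZMod p, v ≠ 0 → x d * y v * (x d)⁻¹ = y w → x d = 1 := by
    intro d v w hv he
    by_contra hd
    have hne : conjBy B (x d) ≠ B := fun e => hd (eq_one_of_normalizes h.2 (hxA d) e)
    have hpair := members_pair h.2 (conj_mem_unipotent h.2 (right_mem h.2) (Subgroup.mem_sup_left (hxA d)))
      (right_mem h.2) hne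
    have hmem : y w ∈ conjBy B (x d) ⊓ B := ⟨he ▸ ⟨y v, hyB v, rfl⟩, hyB w⟩
    rw [inf_eq_bot hpair, Subgroup.mem_bot, ← he, conj_eq_one_iff] at hmem
    exact hv (hy0 v hmem)
  have hkerc : ψ.ker ≤ Subgroup.center _ := by
    intro g hg
    rw [MonoidHom.mem_ker] at hg
    rcases bruhat hR (MonoidHom.id _) (fun _ => rfl) (fun _ => rfl) hgen g with
      ⟨d, k, ⟨α, -, hkx, hky⟩, rfl⟩ | ⟨d, e, k, ⟨α, -, hkx, hky⟩, rfl⟩
    · have hk : ψ k = (x d)⁻¹ := by
        rw [map_mul, hψu] at hg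
        exact eq_inv_of_mul_eq_one_right hg
      have e1 := congrArg ψ (hkx 1)
      rw [map_mul, map_mul, map_inv, hψu, hψu, hk, inv_inv, (show Commute (x d) (x 1) from hAc _ (hxA _) _ (hxA _)).inv_left.eq,
        inv_mul_cancel_right] at e1
      have hα : (α : ZMod p) ^ 2 = 1 := by
        simpa using (hxinj _ _ e1).symm
      have hα' : (↑α⁻¹ : ZMod p) ^ 2 = 1 := by
        calc (↑α⁻¹ : ZMod p) ^ 2 = (↑α⁻¹ : ZMod p) ^ 2 * (α : ZMod p) ^ 2 := by rw [hα, mul_one]
          _ = 1 := by rw [← mul_pow, Units.inv_mul, one_pow]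
      have e2 := congrArg ψ (hky 1)
      rw [map_mul, map_mul, map_inv, hψl, hψl, hk, inv_inv, hα', one_mul] at e2
      have hd : x d = 1 := hsep d 1 1 one_ne_zero
        (calc x d * y 1 * (x d)⁻¹ = x d * ((x d)⁻¹ * y 1 * x d) * (x d)⁻¹ := by rw [e2]
          _ = y 1 := by group)
      have hd0 : d = 0 := hx0 d hd
      subst hd0
      rw [uS_zero, one_mul]
      have hle : (⊤ : Subgroup _) ≤ Subgroup.centralizer {k} := by
        rw [← hgen, Subgroup.closure_le]
        rintro s (⟨u, rfl⟩ | ⟨u, rfl⟩) <;> refine Subgroup.mem_centralizer_singleton_iff.mpr ?_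
        · have := hkx u; rw [hα, one_mul] at this
          exact (mul_inv_eq_iff_eq_mul.mp this).symm
        · have := hky u; rw [hα', one_mul] at this
          exact (mul_inv_eq_iff_eq_mul.mp this).symm
      exact Subgroup.mem_center_iff.mpr fun s => Subgroup.mem_centralizer_singleton_iff.mp (hle (Subgroup.mem_top s))
    · exfalso
      set w := W (uS (F := ZMod p)) lS 1 with hw
      have e1 : ψ (k * w * uS 1 * (k * w)⁻¹) = y ((↑α⁻¹ : ZMod p) ^ 2 * -1) := by
        rw [show k * w * uS 1 * (k * w)⁻¹ = k * (w * uS 1 * w⁻¹) * k⁻¹ by group, hR.conj 1 1 one_ne_zero, hky, hψl,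
          show -((1 : ZMod p)⁻¹ ^ 2 * 1) = -1 by rw [inv_one, one_pow, one_mul]]
      have hkw : ψ (k * w) = (x d)⁻¹ * (x e)⁻¹ := by
        rw [show uS d * k * w * uS e = uS d * (k * w) * uS e by group, map_mul, map_mul, hψu, hψu] at hg
        rw [← mul_one (ψ (k * w))]
        calc ψ (k * w) * 1 = (x d)⁻¹ * (x d * ψ (k * w) * x e) * (x e)⁻¹ := by group
          _ = _ := by rw [hg, mul_one]
      rw [map_mul, map_mul, map_inv, hψu, hkw,
        ((show Commute (x d) (x 1) from hAc _ (hxA _) _ (hxA _)).inv_left.mul_left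
          (show Commute (x e) (x 1) from hAc _ (hxA _) _ (hxA _)).inv_left).eq, mul_inv_cancel_right, hx1] at e1
      exact ha1 ((Subgroup.eq_bot_iff_forall _).mp (inf_eq_bot h.2) a ⟨ha, e1 ▸ hyB _⟩)
  have hrange : ψ.range = Subgroup.closure ({a, b} : Set X) := by
    rw [MonoidHom.range_eq_map, ← hgen, MonoidHom.map_closure]
    apply le_antisymm <;> rw [Subgroup.closure_le]
    · rintro _ ⟨_, (⟨t, rfl⟩ | ⟨t, rfl⟩), rfl⟩
      · rw [hψu]; exact pow_mem (Subgroup.subset_closure (by simp)) _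
      · rw [hψl]
        refine pow_mem ?_ _
        rw [← hc]; exact inv_mem (Subgroup.subset_closure (by simp))
    · have hca : a ∈ ψ '' (Set.range uS ∪ Set.range lS) := ⟨uS 1, Or.inl ⟨1, rfl⟩, by rw [hψu, hx1]⟩
      have hcc : c ∈ ψ '' (Set.range uS ∪ Set.range lS) := ⟨lS (-1), Or.inr ⟨-1, rfl⟩, by rw [hψl, hy1]⟩
      rintro z (hz | hz) <;> rw [hz]
      · exact Subgroup.subset_closure hca
      · rw [← inv_inv b, hc]; exact inv_mem (Subgroup.subset_closure hcc)
  let e₁ := (QuotientGroup.quotientKerEquivRange ψ).trans (MulEquiv.subgroupCongr hrange)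
  by_cases hbot : ψ.ker = ⊥
  · exact Or.inl ⟨(e₁.symm.trans (QuotientGroup.quotientMulEquivOfEq hbot)).trans QuotientGroup.quotientBot⟩
  · refine Or.inr ⟨e₁.symm.trans (QuotientGroup.quotientMulEquivOfEq (le_antisymm hkerc fun g hg => ?_))⟩
    rcases (SL2Two.mem_center_iff g).mp hg with rfl | rfl
    · exact one_mem _
    · obtain ⟨z, hz, hz1⟩ : ∃ z ∈ ψ.ker, z ≠ 1 := by
        by_contra hcon; push Not at hcon
        exact hbot ((Subgroup.eq_bot_iff_forall _).mpr hcon)
      rcases (SL2Two.mem_center_iff z).mp (hkerc hz) with rfl | rfl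
      · exact absurd rfl hz1
      · exact hz

end Cfsg.Agent.S5022
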