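import Cfsg.Statements.S5024
import Cfsg.Agent.Lib.RootGrp.RankOne
-- import your own Cfsg.Agent.* helpers here

set_option autoImplicit false
open Cfsg

namespace Cfsg.Agent.S5024

/-- Let S be a set of abstract root subgroups of G, A and C members of S, B a rank one partner of A in S and D a rank one partner of C in S. If the rank one group ⟨A, B⟩ is contained in ⟨C, D⟩ then the two coincide, and C and D are conjugates of A inside ⟨A, B⟩. -/
theorem result {G : Type*} [Group G] {S : Set (Subgroup G)} (hS : Cfsg.IsRootSubgroupSet S)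
    {A B C D : Subgroup G} (hA : A ∈ S) (hC : C ∈ S) (hB : B ∈ Cfsg.rankOnePartners S A) (hD : D ∈ Cfsg.rankOnePartners S C)
    (hle : A ⊔ B ≤ C ⊔ D) : A ⊔ B = C ⊔ D ∧ C ∈ Cfsg.unipotentSubgroups A B ∧ D ∈ Cfsg.unipotentSubgroups A B := by
  open Cfsg.Agent.RootGrp in
  obtain ⟨hBS, hAB⟩ := hB
  obtain ⟨hDS, hCD⟩ := hD
  -- a member of `S` inside `Y = C ⊔ D` with a rank one partner there is a unipotent subgroup of `Y`
  have key : ∀ A' B' : Subgroup G, A' ∈ S → B' ∈ S → Cfsg.IsRankOnePair A' B' → A' ≤ C ⊔ D → B' ≤ C ⊔ D →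
      A' ∈ Cfsg.unipotentSubgroups C D := by
    intro A' B' hA' hB' hp hA'le hB'le
    obtain ⟨a, ha, ha1⟩ := exists_left hp
    rcases hS.pair A' hA' C hC with hc | hr | ⟨hZS, hcen, hgenl, -⟩
    · -- `a` centralises `C`: write `a = e * h` with `h` fixing `C` and `D`, hence central
      rcases unipotent_cases hCD (conj_mem_unipotent hCD (right_mem hCD) (hA'le ha)) with e0 | ⟨e, he, e0⟩
      · exfalso
        apply hCD.ne
        have h1 : Cfsg.conjBy C a = C := conjBy_of_commute fun x hx => commute_of_bot hc ha hx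
        exact (conjBy_inj (e0.trans h1.symm)).symm
      set k := e⁻¹ * a
      have hkD : Cfsg.conjBy D k = D := by
        rw [← conjBy_conjBy, e0, conjBy_conjBy, inv_mul_cancel, conjBy_one]
      have hkC : ∀ x ∈ C, k * x = x * k := by
        intro x hx
        show e⁻¹ * a * x = x * (e⁻¹ * a)
        rw [mul_assoc, commute_of_bot hc ha hx, ← mul_assoc, mul_comm_of_mem hS hC (inv_mem he) hx, mul_assoc]
      have hkC' : Cfsg.conjBy C k = C := conjBy_of_commute hkC
      have hkDc : ∀ d ∈ D, k * d = d * k := by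
        intro d hd
        by_cases hd1 : d = 1
        · rw [hd1, one_mul, mul_one]
        obtain ⟨c, hc', -, ec⟩ := hCD.cond_right d hd hd1
        have hd' : k * d * k⁻¹ ∈ D := hkD.le ⟨d, hd, rfl⟩
        have e2 : Cfsg.conjBy C (k * d * k⁻¹)⁻¹ = Cfsg.conjBy D c⁻¹ := by
          have hk2 : Cfsg.conjBy C k⁻¹ = C := conjBy_eq_iff.2 (by rw [inv_inv, hkC'])
          have hk3 : Cfsg.conjBy (Cfsg.conjBy D c⁻¹) k = Cfsg.conjBy D c⁻¹ := by
            rw [conjBy_conjBy, show k * c⁻¹ = c⁻¹ * k from (hkC _ (inv_mem hc')), ← conjBy_conjBy, hkD]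
          rw [show (k * d * k⁻¹)⁻¹ = k * (d⁻¹ * k⁻¹) by group, ← conjBy_conjBy C (d⁻¹ * k⁻¹) k, ← conjBy_conjBy C k⁻¹ d⁻¹, hk2, ← ec, hk3]
        have := unique_partner hCD hd' hd (e2.trans ec)
        rwa [mul_inv_eq_iff_eq_mul] at this
      have hkY : ∀ y ∈ C ⊔ D, y * k = k * y := by
        intro y hy
        have hle' : C ⊔ D ≤ Subgroup.centralizer {k} := sup_le
          (fun x hx => Subgroup.mem_centralizer_singleton_iff.2 (hkC x hx).symm)
          (fun x hx => Subgroup.mem_centralizer_singleton_iff.2 (hkDc x hx).symm)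
        exact Subgroup.mem_centralizer_singleton_iff.1 (hle' hy)
      have hae : a = k * e := by
        rw [← hkY e (Subgroup.mem_sup_left he)]; show a = e * (e⁻¹ * a); group
      have he1 : e ≠ 1 := by
        intro e1
        rw [e1, mul_one] at hae
        exact ha1 (eq_one_of_centralizes hp ha fun b hb => by rw [hae]; exact (hkY b (hB'le hb)).symm)
      have hk1 : k = 1 := by
        by_contra hk
        exact central_translate hS hC hDS hCD hkY hk he he1 ⟨hae ▸ ha1, A', hA', hae ▸ ha⟩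
      rw [hk1, one_mul] at hae
      rcases inf_bot_or_eq hS (not_isolated hS hC hDS hCD) hC hA' with h0 | h0
      · exact absurd (Subgroup.mem_bot.1 (h0 ▸ ⟨he, hae ▸ ha⟩ : e ∈ (⊥ : Subgroup G))) he1
      · exact h0 ▸ left_mem hCD
    · obtain ⟨c, hc', -, e⟩ := hr.cond_left a ha ha1
      rw [conjBy_eq_iff, inv_inv, conjBy_conjBy] at e
      exact ⟨c * a⁻¹, mul_mem (Subgroup.mem_sup_left hc') (inv_mem (hA'le ha)), e⟩
    · exfalso
      have hfix : ∀ g ∈ A', ∀ x ∈ C, g * x * g⁻¹ ∈ C := by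
        intro g hg x hx
        have hcomm := conj_commutes hS hC (Z := ⁅A', C⁆) (g := g)
          (fun z hz c hc => hcen z hz c (Subgroup.mem_sup_right hc))
          (fun c hc => Subgroup.commutator_mem_commutator hg hc)
        by_cases e : Cfsg.conjBy C g = C
        · exact e.le ⟨x, hx, rfl⟩
        · exact absurd hcomm (not_commute_members hCD
            (conj_mem_unipotent hCD (left_mem hCD) (hA'le hg)) (left_mem hCD) e)
      have hZC : ⁅A', C⁆ ≤ C := Subgroup.commutator_le.2 fun g hg x hx =>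
        mul_mem (hfix g hg x hx) (inv_mem hx)
      rcases inf_bot_or_eq hS (not_isolated hS hC hDS hCD) hC hZS with h0 | h0
      · exact hS.ne_bot _ hZS (by rwa [inf_eq_right.2 hZC] at h0)
      · apply hS.ne_bot _ hZS
        rw [Subgroup.commutator_eq_bot_iff_le_centralizer]
        exact fun g hg => Subgroup.mem_centralizer_iff.2 fun x hx =>
          hcen x (h0 ▸ hx) g (Subgroup.mem_sup_left hg)
  have hAm := key A B hA hBS hAB (le_sup_left.trans hle) (le_sup_right.trans hle)
  have hBm := key B A hBS hA (Cfsg.RankOnePair_symm hAB) (le_sup_right.trans hle) (le_sup_left.trans hle)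
  obtain ⟨x, hx, rfl, rfl⟩ := exists_conj_pair hCD hAm hBm hAB.ne
  have heq : Cfsg.conjBy C x ⊔ Cfsg.conjBy D x = C ⊔ D := by
    rw [← Subgroup.map_sup]
    exact conjBy_of_mem hx
  refine ⟨heq, ⟨x⁻¹, heq ▸ inv_mem hx, by rw [conjBy_conjBy, inv_mul_cancel, conjBy_one]⟩, ?_⟩
  obtain ⟨y, hy, e⟩ := exists_conj_right hCD
  refine ⟨y * x⁻¹, heq ▸ mul_mem hy (inv_mem hx), ?_⟩
  rw [conjBy_conjBy, inv_mul_cancel_right, e]

end Cfsg.Agent.S5024
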