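import Cfsg.Statements.S5026
import Cfsg.Agent.Lib.RootGrp.RankOne
-- import your own Cfsg.Agent.* helpers here

set_option autoImplicit false
open Cfsg

namespace Cfsg.Agent.S5026

/-- Let S be a degenerate set of abstract root subgroups of G (a set of abstract transvection groups) and let a, b be commuting non-identity elements of members of S with a b ≠ 1. Then the members of S centralizing a b are exactly those centralizing both a and b. -/
theorem result {G : Type*} [Group G] {S : Set (Subgroup G)} (hS : Cfsg.IsRootSubgroupSet S) (hdeg : Cfsg.IsDegenerateRootSet S)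
    {a b : G} (ha : a ∈ Cfsg.rootElements S) (hb : b ∈ Cfsg.rootElements S) (hab : a * b = b * a) (hab1 : a * b ≠ 1) :
    Cfsg.centralizingMembers S (Subgroup.zpowers (a * b)) =
      Cfsg.centralizingMembers S (Subgroup.zpowers a) ∩ Cfsg.centralizingMembers S (Subgroup.zpowers b) := by
  open Cfsg.Agent.RootGrp in
  ext E
  simp only [Cfsg.centralizingMembers, Set.mem_setOf_eq, Set.mem_inter_iff]
  have hcz : ∀ (E : Subgroup G) (c : G), E ≤ Subgroup.centralizer (Subgroup.zpowers c : Set G) ↔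
      ∀ x ∈ E, c * x = x * c := by
    intro E c
    rw [Subgroup.zpowers_eq_closure, Subgroup.centralizer_closure]
    exact ⟨fun h x hx => (Subgroup.mem_centralizer_singleton_iff.1 (h hx)).symm,
      fun h x hx => Subgroup.mem_centralizer_singleton_iff.2 (h x hx).symm⟩
  simp only [hcz]
  constructor
  · rintro ⟨hE, hc⟩
    obtain ⟨ha1, A, hA, haA⟩ := ha
    obtain ⟨hb1, B, hB, hbB⟩ := hb
    suffices hs : (∀ x ∈ E, a * x = x * a) ∧ ∀ x ∈ E, b * x = x * b from ⟨⟨hE, hs.1⟩, hE, hs.2⟩
    have fromA : (∀ x ∈ E, a * x = x * a) → ∀ x ∈ E, b * x = x * b := fun h x hx =>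
      mul_left_cancel (a := a) (by rw [← mul_assoc, hc x hx, ← mul_assoc, ← h x hx, mul_assoc])
    have fromB : (∀ x ∈ E, b * x = x * b) → ∀ x ∈ E, a * x = x * a := fun h x hx =>
      mul_right_cancel (b := b) (by rw [mul_assoc, ← h x hx, ← mul_assoc, hc x hx, mul_assoc])
    rcases hS.pair A hA E hE with h1 | hr | h1
    · exact ⟨fun x hx => commute_of_bot h1 haA hx, fromA fun x hx => commute_of_bot h1 haA hx⟩
    rotate_left
    · exact absurd h1 (hdeg A hA E hE)
    rcases hS.pair B hB E hE with h2 | hs2 | h2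
    · exact ⟨fromB fun x hx => commute_of_bot h2 hbB hx, fun x hx => commute_of_bot h2 hbB hx⟩
    rotate_left
    · exact absurd h2 (hdeg B hB E hE)
    exfalso
    have hE2 : Cfsg.conjBy E (a * b) = E := conjBy_of_commute hc
    obtain ⟨e, he, -, ee⟩ := hr.cond_left a haA ha1
    obtain ⟨e', he', -, ee'⟩ := hs2.cond_left b⁻¹ (inv_mem hbB) (inv_ne_one.2 hb1)
    rw [inv_inv] at ee'
    rw [← conjBy_conjBy, conjBy_eq_iff, ← ee', ← ee, conjBy_eq_iff, inv_inv, conjBy_conjBy] at hE2
    by_cases hd : e' * e⁻¹ = 1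
    · rw [hd, conjBy_one] at hE2
      exact hab1 (eq_one_of_centralizes hr (mul_mem haA (hE2 ▸ hbB)) hc)
    have hne : A ≠ B := fun e0 => hd (eq_one_of_normalizes (Cfsg.RankOnePair_symm hr)
      (mul_mem he' (inv_mem he)) (hE2.symm.trans e0.symm))
    have hBm : B ∈ Cfsg.unipotentSubgroups A E :=
      ⟨e' * e⁻¹, Subgroup.mem_sup_right (mul_mem he' (inv_mem he)), hE2⟩
    -- `b` moves `A` to a unipotent subgroup containing `a`
    have hbmem : b ∈ A ⊔ E := unipotent_le hr hBm hbB
    have hAb : Cfsg.conjBy A b ≠ A := fun e0 =>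
      hb1 (eq_one_of_normalizes' hr hBm (left_mem hr) hne.symm hbB e0)
    refine ha1 (eq_one_of_normalizes' hr (left_mem hr) (conj_mem_unipotent hr (left_mem hr) hbmem)
      hAb.symm haA (conjBy_of_mem ?_))
    exact ⟨a, haA, show b * a * b⁻¹ = a by rw [← hab, mul_inv_cancel_right]⟩
  · rintro ⟨⟨hE, h1⟩, -, h2⟩
    exact ⟨hE, fun x hx => by rw [mul_assoc, h2 x hx, ← mul_assoc, h1 x hx, mul_assoc]⟩

end Cfsg.Agent.S5026
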