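import Cfsg.Statements.S5027
import Cfsg.Agent.Lib.RootGrp.RankOne
-- import your own Cfsg.Agent.* helpers here

set_option autoImplicit false
open Cfsg

namespace Cfsg.Agent.S5027

/-- Let S be a set of abstract root subgroups of G such that every member of S has a rank one partner in S (the graph of rank one pairs on S has no isolated vertex). Then the second centre of G equals its centre. -/
theorem result {G : Type*} [Group G] {S : Set (Subgroup G)} (hS : Cfsg.IsRootSubgroupSet S)
    (hF : ∀ A ∈ S, ¬ Cfsg.IsIsolatedIn (Cfsg.FAdj S) S A) : Subgroup.upperCentralSeries G 2 = Subgroup.center G := by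
  open Cfsg.Agent.RootGrp in
  refine le_antisymm (fun z hz => ?_) ((Subgroup.upperCentralSeries_one (G := G)).symm.le.trans
      (Subgroup.upperCentralSeries_mono G one_le_two))
  rw [Subgroup.mem_center_iff]
  intro g
  have hg : g ∈ ⨆ A ∈ S, A := hS.generates ▸ Subgroup.mem_top g
  have hle : (⨆ A ∈ S, A) ≤ Subgroup.centralizer {z} := by
    refine iSup₂_le fun A hA a ha => ?_
    rw [Subgroup.mem_centralizer_singleton_iff]
    by_cases ha1 : a = 1
    · rw [ha1, one_mul, mul_one]
    obtain ⟨B, hB, hAB⟩ := partner_of_not_isolated hS (hF A hA) hA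
    have hc : z * a * z⁻¹ * a⁻¹ ∈ Subgroup.center G := by
      rw [← Subgroup.upperCentralSeries_one]
      exact (Subgroup.mem_upperCentralSeries_succ_iff.1 hz) a
    by_contra hne
    refine central_translate hS hA hB hAB (z := z * a * z⁻¹ * a⁻¹)
      (fun y _ => Subgroup.mem_center_iff.1 hc y) ?_ ha ha1 ?_
    · intro e
      rw [mul_inv_eq_one, mul_inv_eq_iff_eq_mul] at e
      exact hne e.symm
    · rw [inv_mul_cancel_right]
      refine ⟨fun e => ha1 (conj_eq_one_iff.1 e), Cfsg.conjBy A z, hS.conj_mem A hA z, ?_⟩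
      exact ⟨a, ha, rfl⟩
  exact Subgroup.mem_centralizer_singleton_iff.1 (hle hg)

end Cfsg.Agent.S5027
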