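import Cfsg.Statements.S5029
import Cfsg.Agent.Lib.RootGrp.RankOne
import Cfsg.Agent.Lib.RootGrp.Lines
-- import your own Cfsg.Agent.* helpers here

set_option autoImplicit false
open Cfsg

namespace Cfsg.Agent.S5029

/-- Let S be a set of abstract root subgroups of G, A ∈ S having a rank one partner in S, and B ∈ S with C = ⁅A, B⁆ ∈ S. Then the members of S contained in AC are the conjugates of A by elements of B together with C, they partition AC, the members of S inside AC partition AC so that A is a line partner of C, and for every non-identity a ∈ A the map b ↦ a⁻¹ b⁻¹ a b is an isomorphism from B onto C. -/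
theorem result {G : Type*} [Group G] {S : Set (Subgroup G)} (hS : Cfsg.IsRootSubgroupSet S)
    {A B : Subgroup G} (hA : ¬ Cfsg.IsIsolatedIn (Cfsg.FAdj S) S A) (hAS : A ∈ S) (hB : B ∈ S) (hC : ⁅A, B⁆ ∈ S) :
    Cfsg.membersIn S (A ⊔ ⁅A, B⁆) = (fun b : G => Cfsg.conjBy A b) '' (B : Set G) ∪ {⁅A, B⁆} ∧
    Cfsg.IsSubgroupPartition (A ⊔ ⁅A, B⁆) (Cfsg.membersIn S (A ⊔ ⁅A, B⁆)) ∧
    A ∈ Cfsg.linePartners S ⁅A, B⁆ ∧
    ∀ a ∈ A, a ≠ 1 → ∃ φ : ↥B ≃* ↥⁅A, B⁆, ∀ b : ↥B, (φ b : G) = a⁻¹ * (b : G)⁻¹ * a * b := by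
  open Cfsg.Agent.RootGrp in
  open scoped commutatorElement in
  obtain ⟨P, hP, hAP⟩ := partner_of_not_isolated hS hA hAS
  obtain ⟨-, hcen, hgl, -⟩ : Cfsg.RootCommutatorCase S A B := by
    rcases hS.pair A hAS B hB with h | h | h
    · exact absurd h (hS.ne_bot _ hC)
    rotate_left
    · exact h
    exfalso
    -- in a rank one group the subgroup `[A, B]` would be central
    have key : ∀ X Y : Subgroup G, X ∈ S → Y ∈ S → ⁅X, Y⁆ ∈ S → Cfsg.IsRankOnePair X Y →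
        ∀ z ∈ ⁅X, Y⁆, ∀ x ∈ X, z * x = x * z := by
      intro X Y hX hY hZ hXY
      have hle : ∀ x ∈ X, ∀ y ∈ Y, ∀ z ∈ ⁅X, Y⁆, x * z * x⁻¹ ∈ ⁅X, Y⁆ := by
        intro x hx y _ z hz
        induction hz using Subgroup.closure_induction with
        | mem g hg =>
          obtain ⟨u, hu, v, hv, rfl⟩ := hg
          have e1 : x * ⁅u, v⁆ * x⁻¹ = ⁅x * u, v⁆ * ⁅x, v⁆⁻¹ := by simp only [commutatorElement_def]; group
          rw [e1]
          exact mul_mem (Subgroup.commutator_mem_commutator (mul_mem hx hu) hv)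
            (inv_mem (Subgroup.commutator_mem_commutator hx hv))
        | one => simp
        | mul p q _ _ ihp ihq =>
          rw [show x * (p * q) * x⁻¹ = (x * p * x⁻¹) * (x * q * x⁻¹) by group]; exact mul_mem ihp ihq
        | inv p _ ih => rw [show x * p⁻¹ * x⁻¹ = (x * p * x⁻¹)⁻¹ by group]; exact inv_mem ih
      have hnorm : ∀ x ∈ X, Cfsg.conjBy ⁅X, Y⁆ x = ⁅X, Y⁆ := by
        intro x hx
        ext z
        rw [mem_conjBy]
        constructor
        · intro hz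
          have := hle x hx 1 (one_mem _) _ hz
          rwa [show x * (x⁻¹ * z * x) * x⁻¹ = z by group] at this
        · intro hz
          have := hle x⁻¹ (inv_mem hx) 1 (one_mem _) z hz
          rwa [inv_inv] at this
      rcases hS.pair ⁅X, Y⁆ hZ X hX with h1 | h1 | ⟨-, hc, -, -⟩
      · exact fun z hz x hx => commute_of_bot h1 hz hx
      · obtain ⟨x, hx, hx1⟩ := exists_left hXY
        exact absurd (eq_one_of_normalizes (Cfsg.RankOnePair_symm h1) hx (hnorm x hx)) hx1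
      · -- every conjugate of `X` lies in `X [X, Y]`
        have hT : ⁅X, Y⁆ ≤ ⁅⁅X, Y⁆, X⁆ := by
          obtain ⟨g, hg, eg⟩ := exists_conj_right hXY
          refine Subgroup.commutator_le.2 fun x hx v hv => ?_
          obtain ⟨g', hg', hgv⟩ : ∃ g' ∈ X, g'⁻¹ * v ∈ ⁅X, Y⁆ := by
            have hin : ∀ q ∈ X ⊔ Y, ∀ x₀ ∈ X, ∃ g' ∈ X, g'⁻¹ * (q * x₀ * q⁻¹) ∈ ⁅X, Y⁆ := by
              intro q hq
              rw [Subgroup.sup_eq_closure] at hq
              induction hq using Subgroup.closure_induction'' with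
              | one => intro x₀ hx₀; exact ⟨x₀, hx₀, by simp⟩
              | mem q hq =>
                intro x₀ hx₀
                rcases hq with hq | hq
                · exact ⟨q * x₀ * q⁻¹, mul_mem (mul_mem hq hx₀) (inv_mem hq), by rw [inv_mul_cancel]; exact one_mem _⟩
                · refine ⟨x₀, hx₀, ?_⟩
                  have e1 : x₀⁻¹ * (q * x₀ * q⁻¹) = ⁅x₀⁻¹, q⁆ := by rw [commutatorElement_def]; group
                  rw [e1]; exact Subgroup.commutator_mem_commutator (inv_mem hx₀) hq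
              | inv_mem q hq =>
                intro x₀ hx₀
                rcases hq with hq | hq
                · exact ⟨q⁻¹ * x₀ * q⁻¹⁻¹, mul_mem (mul_mem (inv_mem hq) hx₀) (inv_mem (inv_mem hq)), by rw [inv_mul_cancel]; exact one_mem _⟩
                · refine ⟨x₀, hx₀, ?_⟩
                  have e1 : x₀⁻¹ * (q⁻¹ * x₀ * q⁻¹⁻¹) = ⁅x₀⁻¹, q⁻¹⁆ := by rw [commutatorElement_def]; group
                  rw [e1]; exact Subgroup.commutator_mem_commutator (inv_mem hx₀) (inv_mem hq)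
              | mul p q hp hq ihp ihq =>
                intro x₀ hx₀
                obtain ⟨g1, hg1, h1'⟩ := ihq x₀ hx₀
                obtain ⟨g2, hg2, h2'⟩ := ihp g1 hg1
                refine ⟨g2, hg2, ?_⟩
                have e1 : g2⁻¹ * (p * q * x₀ * (p * q)⁻¹) =
                    (g2⁻¹ * (p * g1 * p⁻¹)) * (p * (g1⁻¹ * (q * x₀ * q⁻¹)) * p⁻¹) := by group
                rw [e1]
                refine mul_mem h2' ?_
                have hp' : p ∈ X ⊔ Y := by rw [Subgroup.sup_eq_closure]; exact hp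
                have hnle : X ⊔ Y ≤ Subgroup.normalizer ((⁅X, Y⁆ : Subgroup G) : Set G) := by
                  refine sup_le (fun r hr => mem_normalizer_iff_conjBy.2 (hnorm r hr)) fun r hr => ?_
                  rw [Subgroup.mem_normalizer_iff]
                  have hr1 : ∀ r ∈ Y, ∀ z ∈ ⁅X, Y⁆, r * z * r⁻¹ ∈ ⁅X, Y⁆ := by
                    intro r hr z hz
                    induction hz using Subgroup.closure_induction with
                    | mem g hg =>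
                      obtain ⟨u, hu, w, hw, rfl⟩ := hg
                      have e1 : r * ⁅u, w⁆ * r⁻¹ = ⁅u, r⁆⁻¹ * ⁅u, r * w⁆ := by simp only [commutatorElement_def]; group
                      rw [e1]
                      exact mul_mem (inv_mem (Subgroup.commutator_mem_commutator hu hr))
                        (Subgroup.commutator_mem_commutator hu (mul_mem hr hw))
                    | one => simp
                    | mul a b _ _ iha ihb =>
                      rw [show r * (a * b) * r⁻¹ = (r * a * r⁻¹) * (r * b * r⁻¹) by group]; exact mul_mem iha ihb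
                    | inv a _ ih => rw [show r * a⁻¹ * r⁻¹ = (r * a * r⁻¹)⁻¹ by group]; exact inv_mem ih
                  refine fun z => ⟨hr1 r hr z, fun hz => ?_⟩
                  have := hr1 r⁻¹ (inv_mem hr) _ hz
                  rwa [show r⁻¹ * (r * z * r⁻¹) * r⁻¹⁻¹ = z by group] at this
                exact (Subgroup.mem_normalizer_iff.1 (hnle hp') _).1 h1'
            obtain ⟨x₀, hx₀, rfl⟩ : v ∈ Cfsg.conjBy X g := eg.symm ▸ hv
            exact hin g hg x₀ hx₀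
          have e1 : ⁅x, v⁆ = g' * ⁅x, g'⁻¹ * v⁆ * g'⁻¹ := by
            have hxg : x * g' = g' * x := mul_comm_of_mem hS hX hx hg'
            simp only [commutatorElement_def]
            calc x * v * x⁻¹ * v⁻¹ = (x * g') * (g'⁻¹ * v) * x⁻¹ * v⁻¹ := by group
              _ = (g' * x) * (g'⁻¹ * v) * x⁻¹ * v⁻¹ := by rw [hxg]
              _ = g' * (x * (g'⁻¹ * v) * x⁻¹ * (g'⁻¹ * v)⁻¹) * g'⁻¹ := by group
          have hm : ⁅x, g'⁻¹ * v⁆ ∈ ⁅⁅X, Y⁆, X⁆ := by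
            rw [Subgroup.commutator_comm]; exact Subgroup.commutator_mem_commutator hx hgv
          rw [e1, ← hc _ hm g' (Subgroup.mem_sup_right hg'), mul_inv_cancel_right]
          exact hm
        exact fun z hz x hx => hc z (hT hz) x (Subgroup.mem_sup_right hx)
    obtain ⟨a, ha, ha1⟩ := exists_left h
    have hcomm := conj_commutes hS hB (Z := ⁅A, B⁆) (g := a) (fun z hz b hb =>
      key B A hB hAS (Subgroup.commutator_comm A B ▸ hC) (Cfsg.RankOnePair_symm h) z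
        (Subgroup.commutator_comm A B ▸ hz) b hb)
      (fun b hb => Subgroup.commutator_mem_commutator ha hb)
    by_cases en : Cfsg.conjBy B a = B
    · exact ha1 (eq_one_of_normalizes h ha en)
    · exact not_commute_members h (conj_mem_unipotent h (right_mem h) (Subgroup.mem_sup_left ha))
        (right_mem h) en hcomm
  have hcA : ∀ c ∈ ⁅A, B⁆, ∀ a ∈ A, c * a = a * c := fun c hc a ha => hcen c hc a (Subgroup.mem_sup_left ha)
  have hcB : ∀ c ∈ ⁅A, B⁆, ∀ b ∈ B, c * b = b * c := fun c hc b hb => hcen c hc b (Subgroup.mem_sup_right hb)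
  have hAC : A ≠ ⁅A, B⁆ := by
    intro e
    apply hS.ne_bot _ hC
    rw [Subgroup.eq_bot_iff_forall]
    have h0 : ⁅A, B⁆ ≤ ⊥ := Subgroup.commutator_le.2 fun x hx y hy =>
      Subgroup.mem_bot.2 (commutatorElement_eq_one_iff_mul_comm.2 (hcB x (e ▸ hx) y hy))
    exact fun z hz => Subgroup.mem_bot.1 (h0 hz)
  have hinf : A ⊓ ⁅A, B⁆ = ⊥ := (inf_bot_or_eq hS hA hAS hC).resolve_right hAC
  have hcm : ∀ a ∈ A, ∀ b ∈ B, b * a * b⁻¹ * a⁻¹ ∈ ⁅A, B⁆ := fun a ha b hb => by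
    have := inv_mem (Subgroup.commutator_mem_commutator ha hb)
    rwa [commutatorElement_inv, commutatorElement_def] at this
  have hker : ∀ a ∈ A, a ≠ 1 → ∀ b ∈ B, a * b = b * a → b = 1 := by
    intro a ha ha1 b hb hab
    by_contra hb1
    have hfix : Cfsg.conjBy A b = A := by
      refine ((inf_bot_or_eq hS hA hAS (hS.conj_mem A hAS b)).resolve_left fun h => ha1 ?_).symm
      exact Subgroup.mem_bot.1 (h ▸ (⟨ha, a, ha, show b * a * b⁻¹ = a by rw [← hab, mul_inv_cancel_right]⟩ :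
        a ∈ A ⊓ Cfsg.conjBy A b))
    apply hS.ne_bot _ hC
    rw [Subgroup.eq_bot_iff_forall]
    have h0 : Subgroup.closure ((fun u : G => u * b * u⁻¹ * b⁻¹) '' (A : Set G)) ≤ ⊥ := by
      rw [Subgroup.closure_le]
      rintro _ ⟨u, hu, rfl⟩
      have h1 : b * u * b⁻¹ * u⁻¹ ∈ A ⊓ ⁅A, B⁆ :=
        Subgroup.mem_inf.2 ⟨mul_mem (hfix.le ⟨u, hu, rfl⟩) (inv_mem hu), hcm u hu b hb⟩
      rw [hinf, Subgroup.mem_bot] at h1
      have h2 : u * b * u⁻¹ * b⁻¹ = 1 := by rw [← inv_eq_one, ← h1]; group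
      exact Subgroup.mem_bot.2 h2
    obtain ⟨a', ha', ha1'⟩ := exists_left hAP
    rcases hS.pair A hAS B hB with e | e | ⟨-, -, -, hgr⟩
    · exact fun z hz => Subgroup.mem_bot.1 (e ▸ hz)
    · exact absurd (eq_one_of_normalizes (Cfsg.RankOnePair_symm e) hb hfix) hb1
    · intro z hz
      exact Subgroup.mem_bot.1 (h0 (by rw [hgr b hb hb1]; exact hz))
  have hψ : ∀ a ∈ A, a ≠ 1 → ∃ φ : ↥B ≃* ↥⁅A, B⁆, ∀ b : ↥B, (φ b : G) = a⁻¹ * (b : G)⁻¹ * a * b := by
    intro a ha ha1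
    have hm : ∀ b ∈ B, a⁻¹ * b⁻¹ * a * b ∈ ⁅A, B⁆ := fun b hb => by
      have := Subgroup.commutator_mem_commutator (inv_mem ha) (inv_mem hb)
      rwa [commutatorElement_def, inv_inv, inv_inv] at this
    let ψ : ↥B →* ↥⁅A, B⁆ := MonoidHom.mk' (fun b => ⟨a⁻¹ * (b : G)⁻¹ * a * b, hm b b.2⟩) (by
      rintro ⟨u, hu⟩ ⟨v, hv⟩
      apply Subtype.ext
      show a⁻¹ * (u * v)⁻¹ * a * (u * v) = (a⁻¹ * u⁻¹ * a * u) * (a⁻¹ * v⁻¹ * a * v)
      have e1 : (a⁻¹ * u⁻¹ * a * u) * v = v * (a⁻¹ * u⁻¹ * a * u) := hcB _ (hm u hu) v hv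
      have e2 : (a⁻¹ * u⁻¹ * a * u) * (a⁻¹ * v⁻¹ * a * v) = (a⁻¹ * v⁻¹ * a * v) * (a⁻¹ * u⁻¹ * a * u) :=
        mul_comm_of_mem hS hC (hm u hu) (hm v hv)
      rw [e2]
      calc a⁻¹ * (u * v)⁻¹ * a * (u * v) = (a⁻¹ * v⁻¹ * a) * ((a⁻¹ * u⁻¹ * a * u) * v) := by group
        _ = _ := by rw [e1, ← mul_assoc])
    refine ⟨MulEquiv.ofBijective ψ ⟨?_, ?_⟩, fun b => rfl⟩
    · rw [injective_iff_map_eq_one]
      rintro ⟨b, hb⟩ e
      have e' : a⁻¹ * b⁻¹ * a * b = 1 := congrArg Subtype.val e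
      apply Subtype.ext
      refine hker a ha ha1 b hb ?_
      calc a * b = b * a * (a⁻¹ * b⁻¹ * a * b) := by group
        _ = b * a := by rw [e', mul_one]
    · intro c
      have hle : ⁅A, B⁆ ≤ ψ.range.map (⁅A, B⁆).subtype := by
        conv_lhs => rw [← hgl a⁻¹ (inv_mem ha) (inv_ne_one.2 ha1)]
        rw [Subgroup.closure_le]
        rintro _ ⟨b, hb, rfl⟩
        exact ⟨_, ⟨⟨b⁻¹, inv_mem hb⟩, rfl⟩, by
          show a⁻¹ * b⁻¹⁻¹ * a * b⁻¹ = a⁻¹ * b * a⁻¹⁻¹ * b⁻¹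
          rw [inv_inv, inv_inv]⟩
      obtain ⟨_, ⟨b, rfl⟩, e⟩ := hle c.2
      exact ⟨b, Subtype.ext e⟩
  have hsplit : ∀ x ∈ A ⊔ ⁅A, B⁆, ∃ a ∈ A, ∃ c ∈ ⁅A, B⁆, x = a * c := by
    intro x hx
    rw [Subgroup.sup_eq_closure] at hx
    induction hx using Subgroup.closure_induction with
    | mem y hy =>
      rcases hy with hy | hy
      · exact ⟨y, hy, 1, one_mem _, (mul_one y).symm⟩
      · exact ⟨1, one_mem _, y, hy, (one_mul y).symm⟩
    | one => exact ⟨1, one_mem _, 1, one_mem _, (mul_one 1).symm⟩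
    | mul y z _ _ ihy ihz =>
      obtain ⟨a1, ha1, c1, hc1, rfl⟩ := ihy
      obtain ⟨a2, ha2, c2, hc2, rfl⟩ := ihz
      exact ⟨a1 * a2, mul_mem ha1 ha2, c1 * c2, mul_mem hc1 hc2, by
        rw [mul_assoc a1 c1, ← mul_assoc c1 a2, hcA c1 hc1 a2 ha2]; group⟩
    | inv y _ ih =>
      obtain ⟨a1, ha1, c1, hc1, rfl⟩ := ih
      exact ⟨a1⁻¹, inv_mem ha1, c1⁻¹, inv_mem hc1, by
        rw [mul_inv_rev, hcA _ (inv_mem hc1) _ (inv_mem ha1)]⟩
  have hbC : ∀ b ∈ B, Cfsg.conjBy ⁅A, B⁆ b = ⁅A, B⁆ := fun b hb =>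
    conjBy_of_commute fun c hc => (hcB c hc b hb).symm
  have hle : ∀ b ∈ B, Cfsg.conjBy A b ≤ A ⊔ ⁅A, B⁆ := by
    rintro b hb _ ⟨a, ha, rfl⟩
    show b * a * b⁻¹ ∈ _
    rw [show b * a * b⁻¹ = (b * a * b⁻¹ * a⁻¹) * a by group]
    exact mul_mem (Subgroup.mem_sup_right (hcm a ha b hb)) (Subgroup.mem_sup_left ha)
  have hcover : ∀ x ∈ A ⊔ ⁅A, B⁆, x ∉ ⁅A, B⁆ → ∃ b ∈ B, x ∈ Cfsg.conjBy A b := by
    intro x hx hxC
    obtain ⟨a, ha, c, hc, rfl⟩ := hsplit x hx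
    have ha1 : a ≠ 1 := by rintro rfl; exact hxC (by rwa [one_mul])
    obtain ⟨φ, hφ⟩ := hψ a ha ha1
    obtain ⟨b, hb⟩ := φ.surjective ⟨c, hc⟩
    refine ⟨(b : G)⁻¹, inv_mem b.2, a, ha, ?_⟩
    have e : c = a⁻¹ * (b : G)⁻¹ * a * b := by rw [← hφ b, hb]
    show (b : G)⁻¹ * a * (b : G)⁻¹⁻¹ = a * c
    rw [e]; group
  have hniso : ∀ b : G, ¬ Cfsg.IsIsolatedIn (Cfsg.FAdj S) S (Cfsg.conjBy A b) := fun b =>
    not_isolated hS (hS.conj_mem A hAS b) (hS.conj_mem P hP b) (pair_conj hAP b)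
  have hEC : ∀ E ∈ S, E ≤ ⁅A, B⁆ → E = ⁅A, B⁆ := by
    intro E hE hEle
    have hnc : ∀ D ∈ S, D ≤ ⁅A, B⁆ → ⁅D, P⁆ ≠ ⊥ := by
      intro D hD hDle hbot
      obtain ⟨d, hd, hd1⟩ : ∃ d ∈ D, d ≠ 1 := by
        by_contra hc
        push_neg at hc
        exact hS.ne_bot _ hD (Subgroup.eq_bot_iff_forall _ |>.2 hc)
      obtain ⟨a, ha, ha1⟩ := exists_left hAP
      obtain ⟨φ, hφ⟩ := hψ a ha ha1
      obtain ⟨b, hb⟩ := φ.surjective ⟨d, hDle hd⟩
      have hda : d * a = (b : G)⁻¹ * a * b := by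
        rw [hcA d (hDle hd) a ha]
        rw [show d = a⁻¹ * (b : G)⁻¹ * a * b by rw [← hφ b, hb]]; group
      refine central_translate hS hAS hP hAP (z := d) (fun y hy => ?_) hd1 ha ha1
        ⟨?_, Cfsg.conjBy A (b : G)⁻¹, hS.conj_mem A hAS _, a, ha, ?_⟩
      · exact Subgroup.mem_centralizer_singleton_iff.1 ((sup_le
          (fun v hv => Subgroup.mem_centralizer_singleton_iff.2 (hcA d (hDle hd) v hv).symm)
          (fun v hv => Subgroup.mem_centralizer_singleton_iff.2 (commute_of_bot hbot hd hv).symm) :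
          A ⊔ P ≤ Subgroup.centralizer {d}) hy)
      · intro e
        rw [hda] at e
        apply ha1
        calc a = (b : G) * ((b : G)⁻¹ * a * b) * (b : G)⁻¹ := by group
          _ = 1 := by rw [e]; group
      · show (b : G)⁻¹ * a * (b : G)⁻¹⁻¹ = d * a
        rw [inv_inv, hda]
    rcases hS.pair E hE P hP with h | h | ⟨-, -, hg1, hg3⟩
    · exact absurd h (hnc E hE hEle)
    · refine (inf_bot_or_eq hS (not_isolated hS hE hP h) hE hC).resolve_left fun h0 => hS.ne_bot _ hE ?_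
      rwa [inf_eq_left.2 hEle] at h0
    rcases hS.pair ⁅A, B⁆ hC P hP with h' | h' | ⟨hZS, hc2, hg2, -⟩
    · exact absurd h' (hnc _ hC le_rfl)
    · refine ((inf_bot_or_eq hS (not_isolated hS hC hP h') hC hE).resolve_left fun h0 => hS.ne_bot _ hE ?_).symm
      rwa [inf_eq_right.2 hEle] at h0
    refine le_antisymm hEle fun c hc => ?_
    obtain ⟨p, hp, hp1⟩ := exists_left (Cfsg.RankOnePair_symm hAP)
    set Z := ⁅⁅A, B⁆, P⁆
    have hm : ∀ c ∈ ⁅A, B⁆, c * p * c⁻¹ * p⁻¹ ∈ Z := fun c hc => Subgroup.commutator_mem_commutator hc hp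
    let ψ : ↥⁅A, B⁆ →* G := MonoidHom.mk' (fun c => (c : G) * p * (c : G)⁻¹ * p⁻¹) (by
      rintro ⟨u, hu⟩ ⟨v, hv⟩
      show u * v * p * (u * v)⁻¹ * p⁻¹ = (u * p * u⁻¹ * p⁻¹) * (v * p * v⁻¹ * p⁻¹)
      have e1 : (v * p * v⁻¹ * p⁻¹) * u = u * (v * p * v⁻¹ * p⁻¹) := hc2 _ (hm v hv) u (Subgroup.mem_sup_left hu)
      have e2 : (u * p * u⁻¹ * p⁻¹) * (v * p * v⁻¹ * p⁻¹) = (v * p * v⁻¹ * p⁻¹) * (u * p * u⁻¹ * p⁻¹) :=
        mul_comm_of_mem hS hZS (hm u hu) (hm v hv)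
      rw [e2]
      calc u * v * p * (u * v)⁻¹ * p⁻¹ = (u * (v * p * v⁻¹ * p⁻¹)) * (p * u⁻¹ * p⁻¹) := by group
        _ = _ := by rw [← e1]; group)
    have hZle : Z ≤ (E.subgroupOf ⁅A, B⁆).map ψ := by
      obtain ⟨e₁, he₁, he₁1⟩ : ∃ e₁ ∈ E, e₁ ≠ 1 := by
        by_contra hc
        push_neg at hc
        exact hS.ne_bot _ hE (Subgroup.eq_bot_iff_forall _ |>.2 hc)
      have hEZ : ⁅E, P⁆ = Z := by rw [← hg1 e₁ he₁ he₁1, hg2 e₁ (hEle he₁) he₁1]
      rw [← hEZ, ← hg3 p hp hp1, Subgroup.closure_le]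
      rintro _ ⟨e, he, rfl⟩
      exact ⟨⟨e, hEle he⟩, he, rfl⟩
    obtain ⟨⟨e, heC⟩, heE, hee⟩ := hZle (hm c hc)
    change e * p * e⁻¹ * p⁻¹ = c * p * c⁻¹ * p⁻¹ at hee
    set c' := e⁻¹ * c
    have hc' : c' ∈ ⁅A, B⁆ := mul_mem (inv_mem heC) hc
    have hc'p : c' * p * c'⁻¹ = p := by
      have := mul_right_cancel hee
      calc c' * p * c'⁻¹ = e⁻¹ * (c * p * c⁻¹) * e := by simp only [c']; group
        _ = p := by rw [← this]; group
    by_cases hc'1 : c' = 1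
    · rw [inv_mul_eq_one] at hc'1; exact hc'1 ▸ heE
    exfalso
    have hPiso := not_isolated hS hP hAS (Cfsg.RankOnePair_symm hAP)
    have hfix : Cfsg.conjBy P c' = P := by
      refine ((inf_bot_or_eq hS hPiso hP (hS.conj_mem P hP c')).resolve_left fun h => hp1 ?_).symm
      exact Subgroup.mem_bot.1 (h ▸ (⟨hp, p, hp, hc'p⟩ : p ∈ P ⊓ Cfsg.conjBy P c'))
    have hPZ : P ⊓ Z = ⊥ := (inf_bot_or_eq hS hPiso hP hZS).resolve_right fun h0 => by
      apply hnc _ hC le_rfl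
      rw [← le_bot_iff, Subgroup.commutator_le]
      exact fun u hu v hv => Subgroup.mem_bot.2 (commutatorElement_eq_one_iff_mul_comm.2
        (hc2 v (h0 ▸ hv) u (Subgroup.mem_sup_left hu)).symm)
    apply hnc _ hC le_rfl
    show Z = ⊥
    rw [← le_bot_iff, ← hg2 c' hc' hc'1, Subgroup.closure_le]
    rintro _ ⟨v, hv, rfl⟩
    show c' * v * c'⁻¹ * v⁻¹ ∈ (⊥ : Subgroup G)
    have h2 : c' * v * c'⁻¹ * v⁻¹ ∈ P ⊓ Z :=
      Subgroup.mem_inf.2 ⟨mul_mem (hfix.le ⟨v, hv, rfl⟩) (inv_mem hv), Subgroup.commutator_mem_commutator hc' hv⟩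
    rwa [hPZ] at h2
  set F := (fun b : G => Cfsg.conjBy A b) '' (B : Set G) ∪ {⁅A, B⁆}
  have hmem : Cfsg.membersIn S (A ⊔ ⁅A, B⁆) = F := by
    ext E
    constructor
    · rintro ⟨hE, hEle⟩
      by_cases hEC' : E ≤ ⁅A, B⁆
      · exact Or.inr (hEC E hE hEC')
      left
      obtain ⟨e, he, heC⟩ := SetLike.not_le_iff_exists.1 hEC'
      obtain ⟨b, hb, heb⟩ := hcover e (hEle he) heC
      refine ⟨b, hb, ((inf_bot_or_eq hS (hniso b) (hS.conj_mem A hAS b) hE).resolve_left fun h => ?_)⟩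
      have h1 : e ∈ Cfsg.conjBy A b ⊓ E := ⟨heb, he⟩
      rw [h, Subgroup.mem_bot] at h1
      exact heC (h1 ▸ one_mem _)
    · rintro (⟨b, hb, rfl⟩ | rfl)
      · exact ⟨hS.conj_mem A hAS b, hle b hb⟩
      · exact ⟨hC, le_sup_right⟩
  have hpart : Cfsg.IsSubgroupPartition (A ⊔ ⁅A, B⁆) F := by
    refine ⟨fun E hE => ((hmem.symm ▸ hE : E ∈ Cfsg.membersIn S (A ⊔ ⁅A, B⁆))).2, fun x hx _ => ?_, ?_⟩
    · by_cases hxC : x ∈ ⁅A, B⁆
      · exact ⟨_, Or.inr rfl, hxC⟩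
      · obtain ⟨b, hb, h⟩ := hcover x hx hxC
        exact ⟨_, Or.inl ⟨b, hb, rfl⟩, h⟩
    · rintro E (⟨b, hb, rfl⟩ | rfl) E' (⟨b', hb', rfl⟩ | rfl) hne
      · exact (inf_bot_or_eq hS (hniso b) (hS.conj_mem A hAS b) (hS.conj_mem A hAS b')).resolve_right hne
      · exact (inf_bot_or_eq hS (hniso b) (hS.conj_mem A hAS b) hC).resolve_right hne
      · rw [inf_comm]
        exact (inf_bot_or_eq hS (hniso b') (hS.conj_mem A hAS b') hC).resolve_right hne.symm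
      · exact absurd rfl hne
  refine ⟨hmem, hmem.symm ▸ hpart, ⟨⟨hAS, hAC, ?_⟩, ?_⟩, hψ⟩
  · rw [← le_bot_iff, Subgroup.commutator_le]
    exact fun c hc a ha => Subgroup.mem_bot.2 (commutatorElement_eq_one_iff_mul_comm.2 (hcA c hc a ha))
  · rw [sup_comm, hmem]; exact hpart

end Cfsg.Agent.S5029
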