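import Cfsg.Statements.S5030
import Cfsg.Agent.Lib.RootGrp.RankOne
-- import your own Cfsg.Agent.* helpers here

set_option autoImplicit false
open Cfsg

namespace Cfsg.Agent.S5030

open Cfsg.Agent.RootGrp
open scoped commutatorElement

section
variable {G : Type*} [Group G] {S : Set (Subgroup G)}

/-- A member containing a commutator subgroup of two members gives the commutator case. -/
theorem comm_case (hS : Cfsg.IsRootSubgroupSet S) {A B : Subgroup G} (hA : A ∈ S) (hB : B ∈ S)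
    (hZ : ⁅A, B⁆ ∈ S) : Cfsg.RootCommutatorCase S A B := by
  rcases hS.pair A hA B hB with h | h | h
  · exact absurd h (hS.ne_bot _ hZ)
  rotate_left
  · exact h
  exfalso
  set Z := ⁅A, B⁆ with hZd
  have hnormA : ∀ x ∈ A, ∀ z ∈ Z, x * z * x⁻¹ ∈ Z := by
    intro x hx z hz
    induction hz using Subgroup.closure_induction with
    | mem g hg =>
      obtain ⟨u, hu, v, hv, rfl⟩ := hg
      rw [show x * ⁅u, v⁆ * x⁻¹ = ⁅x * u, v⁆ * ⁅x, v⁆⁻¹ by simp only [_root_.commutatorElement_def]; group]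
      exact mul_mem (Subgroup.commutator_mem_commutator (mul_mem hx hu) hv)
        (inv_mem (Subgroup.commutator_mem_commutator hx hv))
    | one => simp
    | mul p q _ _ ihp ihq =>
      rw [show x * (p * q) * x⁻¹ = (x * p * x⁻¹) * (x * q * x⁻¹) by group]; exact mul_mem ihp ihq
    | inv p _ ih => rw [show x * p⁻¹ * x⁻¹ = (x * p * x⁻¹)⁻¹ by group]; exact inv_mem ih
  have hnormB : ∀ x ∈ B, ∀ z ∈ Z, x * z * x⁻¹ ∈ Z := by
    intro x hx z hz
    induction hz using Subgroup.closure_induction with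
    | mem g hg =>
      obtain ⟨u, hu, v, hv, rfl⟩ := hg
      rw [show x * ⁅u, v⁆ * x⁻¹ = ⁅u, x⁆⁻¹ * ⁅u, x * v⁆ by simp only [_root_.commutatorElement_def]; group]
      exact mul_mem (inv_mem (Subgroup.commutator_mem_commutator hu hx))
        (Subgroup.commutator_mem_commutator hu (mul_mem hx hv))
    | one => simp
    | mul p q _ _ ihp ihq =>
      rw [show x * (p * q) * x⁻¹ = (x * p * x⁻¹) * (x * q * x⁻¹) by group]; exact mul_mem ihp ihq
    | inv p _ ih => rw [show x * p⁻¹ * x⁻¹ = (x * p * x⁻¹)⁻¹ by group]; exact inv_mem ih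
  -- commutators of `B` with `Z` centralise `B`
  have hK : ∀ z ∈ Z, ∀ y ∈ B, ∀ y' ∈ B, Commute (z * y * z⁻¹ * y⁻¹) y' := by
    intro z hz y hy y' hy'
    have hm : z * y * z⁻¹ * y⁻¹ ∈ ⁅Z, B⁆ := Subgroup.commutator_mem_commutator hz hy
    rcases hS.pair Z hZ B hB with e | e | ⟨-, hc, -, -⟩
    · rw [e, Subgroup.mem_bot] at hm
      rw [hm]; exact Commute.one_left _
    · obtain ⟨b, hb, hb1⟩ := exists_left (Cfsg.RankOnePair_symm e)
      refine absurd (eq_one_of_normalizes (Cfsg.RankOnePair_symm e) hb ?_) hb1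
      ext w
      rw [mem_conjBy]
      constructor
      · intro hw
        have := hnormB b hb _ hw
        rwa [show b * (b⁻¹ * w * b) * b⁻¹ = w by group] at this
      · intro hw
        have := hnormB b⁻¹ (inv_mem hb) w hw
        rwa [inv_inv] at this
    · exact hc _ hm y' (Subgroup.mem_sup_right hy')
  obtain ⟨a, ha, ha1⟩ := exists_left h
  obtain ⟨b, hb, -, e⟩ := h.cond_left a ha ha1
  have hx : b⁻¹ * a * b ∈ Cfsg.conjBy B a⁻¹ := e ▸ (mem_conjBy.2 (by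
    rwa [show (b⁻¹)⁻¹ * (b⁻¹ * a * b) * b⁻¹ = a by group]))
  obtain ⟨β, hβ, eβ⟩ := hx
  change a⁻¹ * β * a⁻¹⁻¹ = b⁻¹ * a * b at eβ
  have hz : a⁻¹ * β ∈ Z := by
    have h1 : ⁅a⁻¹, b⁻¹⁆ ∈ Z := Subgroup.commutator_mem_commutator (inv_mem ha) (inv_mem hb)
    have h2 : a⁻¹ * β = a * ⁅a⁻¹, b⁻¹⁆ * a⁻¹ := by
      rw [_root_.commutatorElement_def]
      calc a⁻¹ * β = (a⁻¹ * β * a⁻¹⁻¹) * a⁻¹ := by group
        _ = (b⁻¹ * a * b) * a⁻¹ := by rw [eβ]
        _ = _ := by group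
    rw [h2]; exact hnormA a ha _ h1
  refine not_commute_members h (left_mem h) (right_mem h) h.ne fun c hc d hd => ?_
  have hc' : c ∈ A := hc
  rw [conjBy_eq_iff, inv_inv] at e
  rw [e] at hc'
  obtain ⟨w, ⟨y, hy, rfl⟩, rfl⟩ := hc'
  show (b * (a⁻¹ * y * a⁻¹⁻¹) * b⁻¹) * d = d * (b * (a⁻¹ * y * a⁻¹⁻¹) * b⁻¹)
  set z := a⁻¹ * β with hzd
  have e1 : a⁻¹ * y * a⁻¹⁻¹ = (z * y * z⁻¹ * y⁻¹) * y := by
    have hyy : β * y = y * β := mul_comm_of_mem hS hB hβ hy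
    calc a⁻¹ * y * a⁻¹⁻¹ = z * (β⁻¹ * (y * β)) * z⁻¹ := by rw [hzd]; group
      _ = z * y * z⁻¹ := by rw [← hyy, inv_mul_cancel_left]
      _ = _ := by group
  rw [e1]
  set k := z * y * z⁻¹ * y⁻¹
  have hk1 : Commute k b := hK z hz y hy b hb
  have hy1 : Commute y b := mul_comm_of_mem hS hB hy hb
  have hk2 : Commute k d := hK z hz y hy d hd
  have hy2 : Commute y d := mul_comm_of_mem hS hB hy hd
  rw [← (hk1.mul_left hy1).eq, mul_inv_cancel_right]
  exact (hk2.mul_left hy2).eq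

variable (hS : Cfsg.IsRootSubgroupSet S) {A B C : Subgroup G} (hA : A ∈ S) (hB : B ∈ S) (hC : C ∈ S)
  (hAB : ⁅A, B⁆ ∈ S) (hBC : ⁅B, C⁆ ∈ S) (hac : ⁅A, C⁆ = ⊥) {b : G} (hb : b ∈ B) (hb1 : b ≠ 1)

include hS hA hB hAB hb in
theorem conj_le : Cfsg.conjBy A b⁻¹ ≤ A ⊔ ⁅A, B⁆ := by
  rintro _ ⟨a, ha, rfl⟩
  show b⁻¹ * a * b⁻¹⁻¹ ∈ _
  rw [show b⁻¹ * a * b⁻¹⁻¹ = a * ⁅a⁻¹, b⁻¹⁆ by rw [_root_.commutatorElement_def]; group]
  exact mul_mem (Subgroup.mem_sup_left ha)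
    (Subgroup.mem_sup_right (Subgroup.commutator_mem_commutator (inv_mem ha) (inv_mem hb)))

include hS hA hB hAB hb hb1 in
theorem comm_le : ⁅A, B⁆ ≤ A ⊔ Cfsg.conjBy A b⁻¹ := by
  obtain ⟨-, -, -, hg⟩ := comm_case hS hA hB hAB
  conv_lhs => rw [← hg b⁻¹ (inv_mem hb) (inv_ne_one.2 hb1)]
  rw [Subgroup.closure_le]
  rintro _ ⟨a, ha, rfl⟩
  show a * b⁻¹ * a⁻¹ * b⁻¹⁻¹ ∈ _
  rw [show a * b⁻¹ * a⁻¹ * b⁻¹⁻¹ = a * (b⁻¹ * a⁻¹ * b) by group]
  exact mul_mem (Subgroup.mem_sup_left ha) (Subgroup.mem_sup_right (mem_conjBy.2 (by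
    rw [show (b⁻¹)⁻¹ * (b⁻¹ * a⁻¹ * b) * b⁻¹ = a⁻¹ by group]; exact inv_mem ha)))

include hS hA hB hC hAB hBC hac hb in
/-- The two subgroups commute elementwise. -/
theorem cross : ∀ x ∈ A ⊔ Cfsg.conjBy C b⁻¹, ∀ y ∈ Cfsg.conjBy A b⁻¹ ⊔ C, x * y = y * x := by
  obtain ⟨-, hcA, -, -⟩ := comm_case hS hA hB hAB
  obtain ⟨-, hcC, -, -⟩ := comm_case hS hC hB (Subgroup.commutator_comm B C ▸ hBC)
  have h1 : ∀ a ∈ A, ∀ a' ∈ Cfsg.conjBy A b⁻¹, a * a' = a' * a := by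
    intro a ha a' ha'
    have hle : A ⊔ ⁅A, B⁆ ≤ Subgroup.centralizer {a} := sup_le
      (fun v hv => Subgroup.mem_centralizer_singleton_iff.2 (mul_comm_of_mem hS hA hv ha))
      (fun v hv => Subgroup.mem_centralizer_singleton_iff.2 (hcA v hv a (Subgroup.mem_sup_left ha)))
    exact (Subgroup.mem_centralizer_singleton_iff.1 (hle (conj_le hS hA hB hAB hb ha'))).symm
  have h2 : ∀ c ∈ C, ∀ c' ∈ Cfsg.conjBy C b⁻¹, c' * c = c * c' := by
    intro c hc c' hc'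
    have hle : C ⊔ ⁅C, B⁆ ≤ Subgroup.centralizer {c} := sup_le
      (fun v hv => Subgroup.mem_centralizer_singleton_iff.2 (mul_comm_of_mem hS hC hv hc))
      (fun v hv => Subgroup.mem_centralizer_singleton_iff.2 (hcC v hv c (Subgroup.mem_sup_left hc)))
    exact Subgroup.mem_centralizer_singleton_iff.1
      (hle (conj_le hS hC hB (Subgroup.commutator_comm B C ▸ hBC) hb hc'))
  have h3 : ∀ c' ∈ Cfsg.conjBy C b⁻¹, ∀ a' ∈ Cfsg.conjBy A b⁻¹, c' * a' = a' * c' := by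
    rintro _ ⟨c, hc, rfl⟩ _ ⟨a, ha, rfl⟩
    rw [← map_mul, ← map_mul, commute_of_bot hac ha hc]
  intro x hx y hy
  have hx' : A ⊔ Cfsg.conjBy C b⁻¹ ≤ Subgroup.centralizer ((Cfsg.conjBy A b⁻¹ ⊔ C : Subgroup G) : Set G) := by
    rw [Subgroup.le_centralizer_iff]
    refine sup_le (fun v hv => ?_) fun v hv => ?_
    · rw [Subgroup.mem_centralizer_iff]
      intro u hu
      exact (Subgroup.mem_centralizer_singleton_iff.1 ((sup_le
        (fun w hw => Subgroup.mem_centralizer_singleton_iff.2 (h1 w hw v hv))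
        (fun w hw => Subgroup.mem_centralizer_singleton_iff.2 (h3 w hw v hv)) :
        A ⊔ Cfsg.conjBy C b⁻¹ ≤ Subgroup.centralizer {v}) hu))
    · rw [Subgroup.mem_centralizer_iff]
      intro u hu
      exact (Subgroup.mem_centralizer_singleton_iff.1 ((sup_le
        (fun w hw => Subgroup.mem_centralizer_singleton_iff.2 (commute_of_bot hac hw hv))
        (fun w hw => Subgroup.mem_centralizer_singleton_iff.2 (h2 v hv w hw)) :
        A ⊔ Cfsg.conjBy C b⁻¹ ≤ Subgroup.centralizer {v}) hu))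
  exact ((Subgroup.mem_centralizer_iff.1 (hx' hx)) y hy).symm

include hS hA hB hC hAB hBC hac hb hb1 in
theorem comm_iff : (∀ a' ∈ Cfsg.conjBy A b⁻¹, ∀ c ∈ C, a' * c = c * a') ↔
    ∀ z ∈ ⁅A, B⁆, ∀ c ∈ C, z * c = c * z := by
  constructor
  · intro h z hz c hc
    have hle : A ⊔ Cfsg.conjBy A b⁻¹ ≤ Subgroup.centralizer {c} := sup_le
      (fun v hv => Subgroup.mem_centralizer_singleton_iff.2 (commute_of_bot hac hv hc))
      (fun v hv => Subgroup.mem_centralizer_singleton_iff.2 (h v hv c hc))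
    exact Subgroup.mem_centralizer_singleton_iff.1 (hle (comm_le hS hA hB hAB hb hb1 hz))
  · intro h a' ha' c hc
    have hle : A ⊔ ⁅A, B⁆ ≤ Subgroup.centralizer {c} := sup_le
      (fun v hv => Subgroup.mem_centralizer_singleton_iff.2 (commute_of_bot hac hv hc))
      (fun v hv => Subgroup.mem_centralizer_singleton_iff.2 (h v hv c hc))
    exact Subgroup.mem_centralizer_singleton_iff.1 (hle (conj_le hS hA hB hAB hb ha'))

include hS hA hB hC hAB hBC hac hb hb1 in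
theorem not_rankOne : ¬ Cfsg.IsRankOnePair (Cfsg.conjBy A b⁻¹) C := by
  intro hr
  have hcr := cross hS hA hB hC hAB hBC hac hb
  set Y := Cfsg.conjBy A b⁻¹ ⊔ C with hY
  rcases hS.pair ⁅A, B⁆ hAB C hC with h | h | ⟨-, hc, -, -⟩
  · refine not_commute_members hr (left_mem hr) (right_mem hr) hr.ne ?_
    exact (comm_iff hS hA hB hC hAB hBC hac hb hb1).2 fun z hz c hc => commute_of_bot h hz hc
  · obtain ⟨z, hz, hz1⟩ := exists_left h
    obtain ⟨c', hc', -, e⟩ := h.cond_left z hz hz1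
    have hnY : A ⊔ Cfsg.conjBy A b⁻¹ ≤ Subgroup.normalizer (Y : Set G) := by
      refine sup_le (fun v hv => ?_) fun v hv => Subgroup.le_normalizer (Subgroup.mem_sup_left hv)
      refine mem_normalizer_iff_conjBy.2 (conjBy_of_commute fun x hx => ?_)
      exact hcr v (Subgroup.mem_sup_left hv) x hx
    have hZY : ⁅A, B⁆ ≤ Y := by
      intro w hw
      have hm : c'⁻¹ * w * c'⁻¹⁻¹ ∈ Cfsg.conjBy C z⁻¹ := e ▸ ⟨w, hw, rfl⟩
      obtain ⟨c, hc, ec⟩ := hm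
      change z⁻¹ * c * z⁻¹⁻¹ = c'⁻¹ * w * c'⁻¹⁻¹ at ec
      have h1 : z⁻¹ * c * z⁻¹⁻¹ ∈ Y :=
        (Subgroup.mem_normalizer_iff.1 (hnY (comm_le hS hA hB hAB hb hb1 (inv_mem hz))) c).1
          (Subgroup.mem_sup_right hc)
      rw [ec] at h1
      have := mul_mem (mul_mem (Subgroup.mem_sup_right hc' : c' ∈ Y) h1) (inv_mem (Subgroup.mem_sup_right hc'))
      rwa [show c' * (c'⁻¹ * w * c'⁻¹⁻¹) * c'⁻¹ = w by group] at this
    have hAY : A ≤ Y := by
      intro a ha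
      have h1 : ⁅a⁻¹, b⁻¹⁆ ∈ Y := hZY (Subgroup.commutator_mem_commutator (inv_mem ha) (inv_mem hb))
      have h2 : b⁻¹ * a * b⁻¹⁻¹ ∈ Y := Subgroup.mem_sup_left ⟨a, ha, rfl⟩
      have := mul_mem h2 (inv_mem h1)
      rwa [show b⁻¹ * a * b⁻¹⁻¹ * ⁅a⁻¹, b⁻¹⁆⁻¹ = a by rw [_root_.commutatorElement_def]; group] at this
    refine not_commute_members h (left_mem h) (right_mem h) h.ne ?_
    refine (comm_iff hS hA hB hC hAB hBC hac (inv_mem hb) (inv_ne_one.2 hb1)).1 ?_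
    rintro _ ⟨a, ha, rfl⟩ c hc
    show b⁻¹⁻¹ * a * b⁻¹⁻¹⁻¹ * c = c * (b⁻¹⁻¹ * a * b⁻¹⁻¹⁻¹)
    have h1 := hcr (b⁻¹ * c * b⁻¹⁻¹) (Subgroup.mem_sup_right ⟨c, hc, rfl⟩) a (hAY ha)
    calc b⁻¹⁻¹ * a * b⁻¹⁻¹⁻¹ * c = b * (a * (b⁻¹ * c * b⁻¹⁻¹)) * b⁻¹ := by group
      _ = b * ((b⁻¹ * c * b⁻¹⁻¹) * a) * b⁻¹ := by rw [h1]
      _ = _ := by group
  · obtain ⟨a', ha', ha1'⟩ := exists_left hr
    obtain ⟨a, ha, rfl⟩ := ha'
    have ha' : (MulAut.conj b⁻¹).toMonoidHom a ∈ Cfsg.conjBy A b⁻¹ := ⟨a, ha, rfl⟩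
    set a' := (MulAut.conj b⁻¹).toMonoidHom a with ha'd
    have hcomm := conj_commutes hS hC (Z := Subgroup.centralizer (C : Set G)) (g := a')
      (fun v hv c hc => ((Subgroup.mem_centralizer_iff.1 hv) c hc).symm) (fun c hc' => by
        rw [Subgroup.mem_centralizer_iff]
        intro d hd
        have hz : a⁻¹ * a' ∈ ⁅A, B⁆ := by
          rw [show a⁻¹ * a' = ⁅a⁻¹, b⁻¹⁆ by
            rw [ha'd, _root_.commutatorElement_def]; show a⁻¹ * (b⁻¹ * a * b⁻¹⁻¹) = _; group]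
          exact Subgroup.commutator_mem_commutator (inv_mem ha) (inv_mem hb)
        have hk : ⁅a⁻¹ * a', c⁆ = a' * c * a'⁻¹ * c⁻¹ := by
          have h1 : Commute a (a' * c * a'⁻¹) := hcr a (Subgroup.mem_sup_left ha) _
            (mul_mem (mul_mem (Subgroup.mem_sup_left ha') (Subgroup.mem_sup_right hc')) (inv_mem (Subgroup.mem_sup_left ha')))
          rw [_root_.commutatorElement_def]
          calc a⁻¹ * a' * c * (a⁻¹ * a')⁻¹ * c⁻¹ = a⁻¹ * ((a' * c * a'⁻¹) * a) * c⁻¹ := by group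
            _ = _ := by rw [← h1.eq, inv_mul_cancel_left]
        have := hc _ (Subgroup.commutator_mem_commutator hz hc') d (Subgroup.mem_sup_right hd)
        rw [hk] at this
        exact this.symm)
    by_cases en : Cfsg.conjBy C a' = C
    · exact ha1' (eq_one_of_normalizes hr ha' en)
    · exact not_commute_members hr (conj_mem_unipotent hr (right_mem hr) (Subgroup.mem_sup_left ha'))
        (right_mem hr) en hcomm

/-- Commutators of generators that are central make all commutators central. -/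
theorem central_comm {T : Set G} (hT : ∀ t ∈ T, ∀ u ∈ T, ∀ v ∈ T, Commute ⁅t, u⁆ v) :
    ∀ x ∈ Subgroup.closure T, ∀ y ∈ Subgroup.closure T, ∀ v ∈ Subgroup.closure T, Commute ⁅x, y⁆ v := by
  set H := Subgroup.closure T
  have key : ∀ t ∈ T, ∀ u ∈ T, ∀ v ∈ H, Commute ⁅t, u⁆ v := by
    intro t ht u hu v hv
    induction hv using Subgroup.closure_induction with
    | mem v hv => exact hT t ht u hu v hv
    | one => exact Commute.one_right _
    | mul p q _ _ hp hq => exact hp.mul_right hq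
    | inv p _ hp => exact hp.inv_right
  have key2 : ∀ t ∈ T, ∀ y ∈ H, ∀ v ∈ H, Commute ⁅t, y⁆ v := by
    intro t ht y hy
    induction hy using Subgroup.closure_induction with
    | mem u hu => exact key t ht u hu
    | one => intro v _; rw [commutatorElement_one_right]; exact Commute.one_left _
    | mul p q hp hq ihp ihq =>
      intro v hv
      have e : ⁅t, p * q⁆ = ⁅t, p⁆ * ⁅t, q⁆ := by
        rw [show ⁅t, p * q⁆ = ⁅t, p⁆ * (p * ⁅t, q⁆ * p⁻¹) by simp only [_root_.commutatorElement_def]; group,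
          ← (ihq p hp).eq, mul_inv_cancel_right]
      rw [e]; exact (ihp v hv).mul_left (ihq v hv)
    | inv p hp ih =>
      intro v hv
      have e : ⁅t, p⁻¹⁆ = ⁅t, p⁆⁻¹ := by
        rw [show ⁅t, p⁻¹⁆ = p⁻¹ * ⁅t, p⁆⁻¹ * p by simp only [_root_.commutatorElement_def]; group,
          mul_assoc, (ih p hp).inv_left.eq, inv_mul_cancel_left]
      rw [e]; exact (ih v hv).inv_left
  intro x hx
  induction hx using Subgroup.closure_induction with
  | mem t ht => exact key2 t ht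
  | one => intro y _ v _; rw [commutatorElement_one_left]; exact Commute.one_left _
  | mul p q hp hq ihp ihq =>
    intro y hy v hv
    have e : ⁅p * q, y⁆ = ⁅q, y⁆ * ⁅p, y⁆ := by
      rw [show ⁅p * q, y⁆ = (p * ⁅q, y⁆ * p⁻¹) * ⁅p, y⁆ by simp only [_root_.commutatorElement_def]; group,
        ← (ihq y hy p hp).eq, mul_inv_cancel_right]
    rw [e]; exact (ihq y hy v hv).mul_left (ihp y hy v hv)
  | inv p hp ih =>
    intro y hy v hv
    have e : ⁅p⁻¹, y⁆ = ⁅p, y⁆⁻¹ := by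
      rw [show ⁅p⁻¹, y⁆ = p⁻¹ * ⁅p, y⁆⁻¹ * p by simp only [_root_.commutatorElement_def]; group,
        mul_assoc, (ih y hy p hp).inv_left.eq, inv_mul_cancel_left]
    rw [e]; exact (ih y hy v hv).inv_left

theorem class_two (hS : Cfsg.IsRootSubgroupSet S) {P Q : Subgroup G} (hP : P ∈ S) (hQ : Q ∈ S) (hn : ¬ Cfsg.IsRankOnePair P Q) :
    ∀ t ∈ (P : Set G) ∪ Q, ∀ u ∈ (P : Set G) ∪ Q, ∀ v ∈ (P : Set G) ∪ Q, Commute ⁅t, u⁆ v := by
  have hc : ∀ w ∈ ⁅P, Q⁆, ∀ v ∈ (P : Set G) ∪ Q, Commute w v := by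
    intro w hw v hv
    rcases hS.pair P hP Q hQ with h | h | ⟨-, hc, -, -⟩
    · rw [h, Subgroup.mem_bot] at hw; rw [hw]; exact Commute.one_left _
    · exact absurd h hn
    · exact hc w hw v (hv.elim Subgroup.mem_sup_left Subgroup.mem_sup_right)
  intro t ht u hu v hv
  rcases ht with ht | ht <;> rcases hu with hu | hu
  · rw [commutatorElement_eq_one_iff_mul_comm.2 (mul_comm_of_mem hS hP ht hu)]; exact Commute.one_left _
  · exact hc _ (Subgroup.commutator_mem_commutator ht hu) v hv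
  · rw [← commutatorElement_inv]
    exact (hc _ (Subgroup.commutator_mem_commutator hu ht) v hv).inv_left
  · rw [commutatorElement_eq_one_iff_mul_comm.2 (mul_comm_of_mem hS hQ ht hu)]; exact Commute.one_left _

theorem comm_sup_of (hS : Cfsg.IsRootSubgroupSet S) {P Q : Subgroup G} (hP : P ∈ S) (hQ : Q ∈ S)
    (h : ∀ p ∈ P, ∀ q ∈ Q, p * q = q * p) : IsMulCommutative ↥(P ⊔ Q) := by
  have hle : ∀ x ∈ P ⊔ Q, P ⊔ Q ≤ Subgroup.centralizer {x} := by
    intro x hx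
    have h1 : ∀ v ∈ P, v * x = x * v := fun v hv => (Subgroup.mem_centralizer_singleton_iff.1 ((sup_le
      (fun w hw => Subgroup.mem_centralizer_singleton_iff.2 (mul_comm_of_mem hS hP hw hv))
      (fun w hw => Subgroup.mem_centralizer_singleton_iff.2 (h v hv w hw).symm) :
      P ⊔ Q ≤ Subgroup.centralizer {v}) hx)).symm
    have h2 : ∀ v ∈ Q, v * x = x * v := fun v hv => (Subgroup.mem_centralizer_singleton_iff.1 ((sup_le
      (fun w hw => Subgroup.mem_centralizer_singleton_iff.2 (h w hw v hv))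
      (fun w hw => Subgroup.mem_centralizer_singleton_iff.2 (mul_comm_of_mem hS hQ hw hv)) :
      P ⊔ Q ≤ Subgroup.centralizer {v}) hx)).symm
    exact sup_le (fun v hv => Subgroup.mem_centralizer_singleton_iff.2 (h1 v hv))
      (fun v hv => Subgroup.mem_centralizer_singleton_iff.2 (h2 v hv))
  exact ⟨⟨fun x y => Subtype.ext (Subgroup.mem_centralizer_singleton_iff.1 (hle y.1 y.2 x.2))⟩⟩

theorem triple_bot {P Q : Subgroup G} (hT : ∀ t ∈ (P : Set G) ∪ Q, ∀ u ∈ (P : Set G) ∪ Q, ∀ v ∈ (P : Set G) ∪ Q,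
    Commute ⁅t, u⁆ v) : ⁅⁅P ⊔ Q, P ⊔ Q⁆, P ⊔ Q⁆ = ⊥ := by
  rw [Subgroup.commutator_eq_bot_iff_le_centralizer, Subgroup.commutator_le]
  intro x hx y hy
  rw [Subgroup.mem_centralizer_iff]
  intro v hv
  rw [SetLike.mem_coe, Subgroup.sup_eq_closure] at hv
  rw [Subgroup.sup_eq_closure] at hx hy
  exact (central_comm hT x hx y hy v hv).symm.eq

end

/-- Let S be a set of abstract root subgroups of G and A, B, C ∈ S with ⁅A, B⁆ ∈ S and ⁅B, C⁆ ∈ S, where A and C are different and commute. For a non-identity b ∈ B put X = ⟨A, b⁻¹ C b⟩ and Y = ⟨b⁻¹ A b, C⟩ and R = ⟨A, B, C⟩. Then X and Y are either both abelian or both nilpotent of class exactly two; X and Y commute elementwise; XY is normal in R with R = (XY) B; and R is nilpotent. -/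
theorem result {G : Type*} [Group G] {S : Set (Subgroup G)} (hS : Cfsg.IsRootSubgroupSet S)
    {A B C : Subgroup G} (hA : A ∈ S) (hB : B ∈ S) (hC : C ∈ S) (hAB : ⁅A, B⁆ ∈ S) (hBC : ⁅B, C⁆ ∈ S)
    (hAC : C ∈ Cfsg.commutingPartners S A)
    {b : G} (hb : b ∈ B) (hb1 : b ≠ 1) :
    ((IsMulCommutative ↥(A ⊔ Cfsg.conjBy C b⁻¹) ∧ IsMulCommutative ↥(Cfsg.conjBy A b⁻¹ ⊔ C)) ∨
      ((¬ IsMulCommutative ↥(A ⊔ Cfsg.conjBy C b⁻¹) ∧
          ⁅⁅A ⊔ Cfsg.conjBy C b⁻¹, A ⊔ Cfsg.conjBy C b⁻¹⁆, A ⊔ Cfsg.conjBy C b⁻¹⁆ = ⊥) ∧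
        (¬ IsMulCommutative ↥(Cfsg.conjBy A b⁻¹ ⊔ C) ∧
          ⁅⁅Cfsg.conjBy A b⁻¹ ⊔ C, Cfsg.conjBy A b⁻¹ ⊔ C⁆, Cfsg.conjBy A b⁻¹ ⊔ C⁆ = ⊥))) ∧
    ⁅A ⊔ Cfsg.conjBy C b⁻¹, Cfsg.conjBy A b⁻¹ ⊔ C⁆ = ⊥ ∧
    (∀ r ∈ A ⊔ B ⊔ C, Cfsg.conjBy ((A ⊔ Cfsg.conjBy C b⁻¹) ⊔ (Cfsg.conjBy A b⁻¹ ⊔ C)) r =
      (A ⊔ Cfsg.conjBy C b⁻¹) ⊔ (Cfsg.conjBy A b⁻¹ ⊔ C)) ∧
    ((A ⊔ Cfsg.conjBy C b⁻¹) ⊔ (Cfsg.conjBy A b⁻¹ ⊔ C)) ⊔ B = A ⊔ B ⊔ C ∧
    Group.IsNilpotent ↥(A ⊔ B ⊔ C) := by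
  obtain ⟨-, -, hac⟩ := hAC
  have hCB : ⁅C, B⁆ ∈ S := Subgroup.commutator_comm B C ▸ hBC
  have hBA : ⁅B, A⁆ ∈ S := Subgroup.commutator_comm A B ▸ hAB
  have hca : ⁅C, A⁆ = ⊥ := Subgroup.commutator_comm A C ▸ hac
  set Q := Cfsg.conjBy C b⁻¹ with hQd
  set A' := Cfsg.conjBy A b⁻¹ with hA'd
  set Z1 := ⁅A, B⁆ with hZ1d
  set Z2 := ⁅C, B⁆ with hZ2d
  have hQS : Q ∈ S := hS.conj_mem C hC _
  have hA'S : A' ∈ S := hS.conj_mem A hA _
  have hcr := cross hS hA hB hC hAB hBC hac hb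
  have hnY : ¬ Cfsg.IsRankOnePair A' C := not_rankOne hS hA hB hC hAB hBC hac hb hb1
  have hnX : ¬ Cfsg.IsRankOnePair A Q := fun h =>
    not_rankOne hS hC hB hA hCB hBA hca hb hb1 (Cfsg.RankOnePair_symm h)
  have hiff : (∀ a ∈ A, ∀ q ∈ Q, a * q = q * a) ↔ ∀ a' ∈ A', ∀ c ∈ C, a' * c = c * a' := by
    rw [hA'd, comm_iff hS hA hB hC hAB hBC hac hb hb1,
      ← comm_iff hS hA hB hC hAB hBC hac (inv_mem hb) (inv_ne_one.2 hb1)]
    constructor
    · rintro h _ ⟨a, ha, rfl⟩ c hc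
      have h1 := h a ha (b⁻¹ * c * b⁻¹⁻¹) ⟨c, hc, rfl⟩
      show b⁻¹⁻¹ * a * b⁻¹⁻¹⁻¹ * c = c * (b⁻¹⁻¹ * a * b⁻¹⁻¹⁻¹)
      calc b⁻¹⁻¹ * a * b⁻¹⁻¹⁻¹ * c = b * (a * (b⁻¹ * c * b⁻¹⁻¹)) * b⁻¹ := by group
        _ = b * ((b⁻¹ * c * b⁻¹⁻¹) * a) * b⁻¹ := by rw [h1]
        _ = _ := by group
    · rintro h a ha _ ⟨c, hc, rfl⟩
      have h1 := h (b⁻¹⁻¹ * a * b⁻¹⁻¹⁻¹) ⟨a, ha, rfl⟩ c hc
      show a * (b⁻¹ * c * b⁻¹⁻¹) = (b⁻¹ * c * b⁻¹⁻¹) * a
      calc a * (b⁻¹ * c * b⁻¹⁻¹) = b⁻¹ * ((b⁻¹⁻¹ * a * b⁻¹⁻¹⁻¹) * c) * b := by group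
        _ = b⁻¹ * (c * (b⁻¹⁻¹ * a * b⁻¹⁻¹⁻¹)) * b := by rw [h1]
        _ = _ := by group
  have hXT := class_two hS hA hQS hnX
  have hYT := class_two hS hA'S hC hnY
  -- the subgroup `XY`
  set N := A ⊔ Q ⊔ (A' ⊔ C) with hNd
  have hZ1N : Z1 ≤ N := (comm_le hS hA hB hAB hb hb1).trans
    (sup_le (le_sup_of_le_left le_sup_left) (le_sup_of_le_right le_sup_left))
  have hZ2N : Z2 ≤ N := (comm_le hS hC hB hCB hb hb1).trans
    (sup_le (le_sup_of_le_right le_sup_right) (le_sup_of_le_left le_sup_right))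
  have hAN : A ≤ N := le_sup_of_le_left le_sup_left
  have hCN : C ≤ N := le_sup_of_le_right le_sup_right
  have hNeq : N = (A ⊔ Z1) ⊔ (C ⊔ Z2) := by
    apply le_antisymm
    · refine sup_le (sup_le (le_sup_of_le_left le_sup_left) ?_) (sup_le ?_ (le_sup_of_le_right le_sup_left))
      · exact (conj_le hS hC hB hCB hb).trans le_sup_right
      · exact (conj_le hS hA hB hAB hb).trans le_sup_left
    · exact sup_le (sup_le hAN hZ1N) (sup_le hCN hZ2N)
  obtain ⟨-, hcenA, -, -⟩ := comm_case hS hA hB hAB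
  obtain ⟨-, hcenC, -, -⟩ := comm_case hS hC hB hCB
  have hmA : ∀ a ∈ A, ∀ b' ∈ B, ⁅a, b'⁆ ∈ Z1 := fun a ha b' hb' => Subgroup.commutator_mem_commutator ha hb'
  have hmC : ∀ c ∈ C, ∀ b' ∈ B, ⁅c, b'⁆ ∈ Z2 := fun c hc b' hb' => Subgroup.commutator_mem_commutator hc hb'
  have hnorm : A ⊔ B ⊔ C ≤ Subgroup.normalizer (N : Set G) := by
    refine sup_le (sup_le (hAN.trans Subgroup.le_normalizer) ?_) (hCN.trans Subgroup.le_normalizer)
    have hconj : ∀ g ∈ B, ∀ x ∈ N, g * x * g⁻¹ ∈ N := by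
      intro g hg x hx
      have hle : N ≤ N.comap (MulAut.conj g).toMonoidHom := by
        conv_lhs => rw [hNeq]
        refine sup_le (sup_le (fun a ha => ?_) fun z hz => ?_) (sup_le (fun c hc => ?_) fun z hz => ?_)
        · show g * a * g⁻¹ ∈ N
          rw [show g * a * g⁻¹ = ⁅a, g⁆⁻¹ * a by rw [_root_.commutatorElement_def]; group]
          exact mul_mem (inv_mem (hZ1N (hmA a ha g hg))) (hAN ha)
        · show g * z * g⁻¹ ∈ N
          rw [← hcenA z hz g (Subgroup.mem_sup_right hg), mul_inv_cancel_right]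
          exact hZ1N hz
        · show g * c * g⁻¹ ∈ N
          rw [show g * c * g⁻¹ = ⁅c, g⁆⁻¹ * c by rw [_root_.commutatorElement_def]; group]
          exact mul_mem (inv_mem (hZ2N (hmC c hc g hg))) (hCN hc)
        · show g * z * g⁻¹ ∈ N
          rw [← hcenC z hz g (Subgroup.mem_sup_right hg), mul_inv_cancel_right]
          exact hZ2N hz
      exact hle hx
    intro g hg
    rw [Subgroup.mem_normalizer_iff]
    refine fun x => ⟨hconj g hg x, fun hx => ?_⟩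
    have := hconj g⁻¹ (inv_mem hg) _ hx
    rwa [show g⁻¹ * (g * x * g⁻¹) * g⁻¹⁻¹ = x by group] at this
  have hZ1R : Z1 ≤ A ⊔ B ⊔ C := Subgroup.commutator_le.2 fun x hx y hy => by
    rw [_root_.commutatorElement_def]
    exact mul_mem (mul_mem (mul_mem (Subgroup.mem_sup_left (Subgroup.mem_sup_left hx))
      (Subgroup.mem_sup_left (Subgroup.mem_sup_right hy))) (inv_mem (Subgroup.mem_sup_left (Subgroup.mem_sup_left hx))))
      (inv_mem (Subgroup.mem_sup_left (Subgroup.mem_sup_right hy)))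
  have hZ2R : Z2 ≤ A ⊔ B ⊔ C := Subgroup.commutator_le.2 fun x hx y hy => by
    rw [_root_.commutatorElement_def]
    exact mul_mem (mul_mem (mul_mem (Subgroup.mem_sup_right hx)
      (Subgroup.mem_sup_left (Subgroup.mem_sup_right hy))) (inv_mem (Subgroup.mem_sup_right hx)))
      (inv_mem (Subgroup.mem_sup_left (Subgroup.mem_sup_right hy)))
  refine ⟨?_, ?_, fun r hr => mem_normalizer_iff_conjBy.1 (hnorm hr), ?_, ?_⟩
  · by_cases h : ∀ a ∈ A, ∀ q ∈ Q, a * q = q * a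
    · exact Or.inl ⟨comm_sup_of hS hA hQS h, comm_sup_of hS hA'S hC (hiff.1 h)⟩
    · refine Or.inr ⟨⟨fun hc => h fun a ha q hq => ?_, triple_bot hXT⟩,
        ⟨fun hc => h (hiff.2 fun a' ha' c hc' => ?_), triple_bot hYT⟩⟩
      · exact congrArg Subtype.val (hc.is_comm.comm (⟨a, Subgroup.mem_sup_left ha⟩ : ↥(A ⊔ Q)) ⟨q, Subgroup.mem_sup_right hq⟩)
      · exact congrArg Subtype.val (hc.is_comm.comm (⟨a', Subgroup.mem_sup_left ha'⟩ : ↥(A' ⊔ C)) ⟨c, Subgroup.mem_sup_right hc'⟩)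
  · rw [eq_bot_iff, Subgroup.commutator_le]
    exact fun x hx y hy => Subgroup.mem_bot.2 (commutatorElement_eq_one_iff_mul_comm.2 (hcr x hx y hy))
  · apply le_antisymm
    · refine sup_le ?_ (le_sup_of_le_left le_sup_right)
      show N ≤ _
      rw [hNeq]
      exact sup_le (sup_le (le_sup_of_le_left le_sup_left) hZ1R) (sup_le le_sup_right hZ2R)
    · exact sup_le (sup_le (hAN.trans le_sup_left) le_sup_right) (hCN.trans le_sup_left)
  · -- nilpotency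
    set T : Set G := ((A : Set G) ∪ Q) ∪ ((A' : Set G) ∪ C) with hTd
    have hNT : N = Subgroup.closure T := by
      rw [hTd, Subgroup.closure_union, ← Subgroup.sup_eq_closure, ← Subgroup.sup_eq_closure]
    have hT : ∀ t ∈ T, ∀ u ∈ T, ∀ v ∈ T, Commute ⁅t, u⁆ v := by
      have hmX : ∀ t ∈ (A : Set G) ∪ Q, t ∈ A ⊔ Q := fun t ht => ht.elim Subgroup.mem_sup_left Subgroup.mem_sup_right
      have hmY : ∀ t ∈ (A' : Set G) ∪ C, t ∈ A' ⊔ C := fun t ht => ht.elim Subgroup.mem_sup_left Subgroup.mem_sup_right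
      intro t ht u hu v hv
      rcases ht with ht | ht <;> rcases hu with hu | hu
      · rcases hv with hv | hv
        · exact hXT t ht u hu v hv
        · exact hcr _ (mul_mem (mul_mem (mul_mem (hmX t ht) (hmX u hu)) (inv_mem (hmX t ht))) (inv_mem (hmX u hu))) v (hmY v hv)
      · rw [commutatorElement_eq_one_iff_mul_comm.2 (hcr t (hmX t ht) u (hmY u hu))]; exact Commute.one_left _
      · rw [commutatorElement_eq_one_iff_mul_comm.2 (hcr u (hmX u hu) t (hmY t ht)).symm]; exact Commute.one_left _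
      · rcases hv with hv | hv
        · exact (hcr v (hmX v hv) _ (mul_mem (mul_mem (mul_mem (hmY t ht) (hmY u hu)) (inv_mem (hmY t ht))) (inv_mem (hmY u hu)))).symm
        · exact hYT t ht u hu v hv
    have hNc : ∀ x ∈ N, ∀ y ∈ N, ∀ v ∈ N, Commute ⁅x, y⁆ v := by
      rw [hNT]; exact central_comm hT
    set R := A ⊔ B ⊔ C with hRd
    have hAR : A ≤ R := le_sup_of_le_left le_sup_left
    have hBR : B ≤ R := le_sup_of_le_left le_sup_right
    have hCR : C ≤ R := le_sup_right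
    let Zs : ℕ → Subgroup G := fun k => (Subgroup.upperCentralSeries ↥R k).map R.subtype
    have step : ∀ k x, x ∈ R → (∀ a ∈ A, ⁅x, a⁆ ∈ Zs k) → (∀ b' ∈ B, ⁅x, b'⁆ ∈ Zs k) →
        (∀ c ∈ C, ⁅x, c⁆ ∈ Zs k) → x ∈ Zs (k + 1) := by
      intro k x hx h1 h2 h3
      refine ⟨⟨x, hx⟩, ?_, rfl⟩
      rw [SetLike.mem_coe, Subgroup.mem_upperCentralSeries_succ_iff]
      intro y
      let π := QuotientGroup.mk' (Subgroup.upperCentralSeries ↥R k)
      let K : Subgroup ↥R := (Subgroup.centralizer {π ⟨x, hx⟩}).comap π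
      have hK : ∀ t (ht : t ∈ R), ⁅x, t⁆ ∈ Zs k → t ∈ K.map R.subtype := by
        intro t ht hm
        refine ⟨⟨t, ht⟩, ?_, rfl⟩
        rw [SetLike.mem_coe, Subgroup.mem_comap, Subgroup.mem_centralizer_singleton_iff]
        obtain ⟨w, hw, e⟩ := hm
        have hw' : ⁅(⟨x, hx⟩ : ↥R), ⟨t, ht⟩⁆ ∈ Subgroup.upperCentralSeries ↥R k := by
          have : ⁅(⟨x, hx⟩ : ↥R), ⟨t, ht⟩⁆ = w := Subtype.ext e.symm
          rw [this]; exact hw
        have h4 := (QuotientGroup.eq_one_iff _).2 hw'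
        have h5 : ⁅π ⟨x, hx⟩, π ⟨t, ht⟩⁆ = 1 := by rw [← map_commutatorElement]; exact h4
        exact (commutatorElement_eq_one_iff_mul_comm.1 h5).symm
      have hle : R ≤ K.map R.subtype := sup_le (sup_le (fun t ht => hK t (hAR ht) (h1 t ht))
        (fun t ht => hK t (hBR ht) (h2 t ht))) (fun t ht => hK t (hCR ht) (h3 t ht))
      obtain ⟨y', hy', e⟩ := hle y.2
      have ey : y' = y := Subtype.ext e
      rw [ey, SetLike.mem_coe, Subgroup.mem_comap, Subgroup.mem_centralizer_singleton_iff] at hy'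
      refine (QuotientGroup.eq_one_iff _).1 ?_
      show π _ = 1
      simp only [map_mul, map_inv, commutatorElement_def]
      rw [← hy']; group
    have mono : ∀ k, Zs k ≤ Zs (k + 1) := fun k => Subgroup.map_mono (Subgroup.upperCentralSeries_mono _ (Nat.le_succ k))
    have one_of : ∀ k (x y : G), x * y = y * x → ⁅x, y⁆ ∈ Zs k := fun k x y h => by
      rw [commutatorElement_eq_one_iff_mul_comm.2 h]; exact one_mem _
    have commR : ∀ {x y : G}, x ∈ R → y ∈ R → ⁅x, y⁆ ∈ R := fun hx hy => by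
      rw [_root_.commutatorElement_def]; exact mul_mem (mul_mem (mul_mem hx hy) (inv_mem hx)) (inv_mem hy)
    -- first term
    have hW : ∀ z₁ ∈ Z1, ∀ z₂ ∈ Z2, ⁅z₁, z₂⁆ ∈ Zs 1 := by
      intro z₁ h1 z₂ h2
      refine step 0 _ (commR (hZ1R h1) (hZ2R h2)) (fun a ha => one_of 0 _ _ (hNc _ (hZ1N h1) _ (hZ2N h2) a (hAN ha)))
        (fun b' hb' => one_of 0 _ _ ?_) (fun c hc => one_of 0 _ _ (hNc _ (hZ1N h1) _ (hZ2N h2) c (hCN hc)))
      have c1 : Commute z₁ b' := hcenA z₁ h1 b' (Subgroup.mem_sup_right hb')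
      have c2 : Commute z₂ b' := hcenC z₂ h2 b' (Subgroup.mem_sup_right hb')
      exact (((c1.mul_left c2).mul_left c1.inv_left).mul_left c2.inv_left)
    -- second term
    have hAZ : ∀ a ∈ A, ∀ z₂ ∈ Z2, ⁅a, z₂⁆ ∈ Zs 2 := by
      intro a ha z₂ h2
      have hk := hNc _ (hAN ha) _ (hZ2N h2)
      refine step 1 _ (commR (hAR ha) (hZ2R h2)) (fun a' ha' => one_of 1 _ _ (hk a' (hAN ha')))
        (fun b' hb' => ?_) (fun c hc => one_of 1 _ _ (hk c (hCN hc)))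
      set k := ⁅a, z₂⁆ with hkd
      set z₁ := ⁅a, b'⁆⁻¹ with hz1
      have hz1m : z₁ ∈ Z1 := inv_mem (hmA a ha b' hb')
      set w := ⁅z₁, z₂⁆ with hwd
      have e1 : b' * a * b'⁻¹ = z₁ * a := by rw [hz1, _root_.commutatorElement_def]; group
      have e2 : b' * z₂ * b'⁻¹ = z₂ := by
        rw [← hcenC z₂ h2 b' (Subgroup.mem_sup_right hb'), mul_inv_cancel_right]
      have e3 : b' * k * b'⁻¹ = k * w := by
        calc b' * k * b'⁻¹ = ⁅b' * a * b'⁻¹, b' * z₂ * b'⁻¹⁆ := by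
              rw [hkd]; simp only [_root_.commutatorElement_def]; group
          _ = ⁅z₁ * a, z₂⁆ := by rw [e1, e2]
          _ = (z₁ * k * z₁⁻¹) * w := by rw [hkd, hwd]; simp only [_root_.commutatorElement_def]; group
          _ = k * w := by rw [← (hk z₁ (hZ1N hz1m)).eq, mul_inv_cancel_right]
      have hwk : Commute w k := (hk w (by
        rw [hwd, _root_.commutatorElement_def]
        exact mul_mem (mul_mem (mul_mem (hZ1N hz1m) (hZ2N h2)) (inv_mem (hZ1N hz1m))) (inv_mem (hZ2N h2)))).symm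
      have e4 : ⁅k, b'⁆ = w⁻¹ := by
        rw [show ⁅k, b'⁆ = k * (b' * k * b'⁻¹)⁻¹ by rw [_root_.commutatorElement_def]; group, e3, mul_inv_rev,
          ← mul_assoc, ← hwk.inv_left.eq, mul_inv_cancel_right]
      rw [e4]
      exact inv_mem (hW z₁ hz1m z₂ h2)
    have hZC : ∀ z₁ ∈ Z1, ∀ c ∈ C, ⁅z₁, c⁆ ∈ Zs 2 := by
      intro z₁ h1 c hc
      have hk := hNc _ (hZ1N h1) _ (hCN hc)
      refine step 1 _ (commR (hZ1R h1) (hCR hc)) (fun a ha => one_of 1 _ _ (hk a (hAN ha)))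
        (fun b' hb' => ?_) (fun c' hc' => one_of 1 _ _ (hk c' (hCN hc')))
      set k := ⁅z₁, c⁆ with hkd
      set z₂ := ⁅c, b'⁆⁻¹ with hz2
      have hz2m : z₂ ∈ Z2 := inv_mem (hmC c hc b' hb')
      set w := ⁅z₁, z₂⁆ with hwd
      have e1 : b' * c * b'⁻¹ = z₂ * c := by rw [hz2, _root_.commutatorElement_def]; group
      have e2 : b' * z₁ * b'⁻¹ = z₁ := by
        rw [← hcenA z₁ h1 b' (Subgroup.mem_sup_right hb'), mul_inv_cancel_right]
      have e3 : b' * k * b'⁻¹ = w * k := by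
        calc b' * k * b'⁻¹ = ⁅b' * z₁ * b'⁻¹, b' * c * b'⁻¹⁆ := by
              rw [hkd]; simp only [_root_.commutatorElement_def]; group
          _ = ⁅z₁, z₂ * c⁆ := by rw [e1, e2]
          _ = w * (z₂ * k * z₂⁻¹) := by rw [hkd, hwd]; simp only [_root_.commutatorElement_def]; group
          _ = w * k := by rw [← (hk z₂ (hZ2N hz2m)).eq, mul_inv_cancel_right]
      have e4 : ⁅k, b'⁆ = w⁻¹ := by
        rw [show ⁅k, b'⁆ = k * (b' * k * b'⁻¹)⁻¹ by rw [_root_.commutatorElement_def]; group, e3, mul_inv_rev,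
          mul_inv_cancel_left]
      rw [e4]
      exact inv_mem (hW z₁ h1 z₂ hz2m)
    have h3A : Z1 ≤ Zs 3 := fun z hz => step 2 z (hZ1R hz)
      (fun a ha => one_of 2 _ _ (hcenA z hz a (Subgroup.mem_sup_left ha)))
      (fun b' hb' => one_of 2 _ _ (hcenA z hz b' (Subgroup.mem_sup_right hb'))) (fun c hc => hZC z hz c hc)
    have h3C : Z2 ≤ Zs 3 := fun z hz => step 2 z (hZ2R hz)
      (fun a ha => by rw [← commutatorElement_inv]; exact inv_mem (hAZ a ha z hz))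
      (fun b' hb' => one_of 2 _ _ (hcenC z hz b' (Subgroup.mem_sup_right hb')))
      (fun c hc => one_of 2 _ _ (hcenC z hz c (Subgroup.mem_sup_left hc)))
    have h4A : A ≤ Zs 4 := fun a ha => step 3 a (hAR ha)
      (fun a' ha' => one_of 3 _ _ (mul_comm_of_mem hS hA ha ha')) (fun b' hb' => h3A (hmA a ha b' hb'))
      (fun c hc => one_of 3 _ _ (commute_of_bot hac ha hc))
    have h4C : C ≤ Zs 4 := fun c hc => step 3 c (hCR hc)
      (fun a ha => one_of 3 _ _ (commute_of_bot hca hc ha)) (fun b' hb' => h3C (hmC c hc b' hb'))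
      (fun c' hc' => one_of 3 _ _ (mul_comm_of_mem hS hC hc hc'))
    have h5B : B ≤ Zs 5 := fun y hy => step 4 y (hBR hy)
      (fun a ha => by rw [← commutatorElement_inv]; exact inv_mem (mono 3 (h3A (hmA a ha y hy))))
      (fun b' hb' => one_of 4 _ _ (mul_comm_of_mem hS hB hy hb'))
      (fun c hc => by rw [← commutatorElement_inv]; exact inv_mem (mono 3 (h3C (hmC c hc y hy))))
    have htop : R ≤ Zs 5 := sup_le (sup_le (h4A.trans (mono 4)) h5B) (h4C.trans (mono 4))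
    refine ⟨⟨5, ?_⟩⟩
    rw [eq_top_iff]
    intro x _
    obtain ⟨x', hx', e⟩ := htop x.2
    rwa [← show x' = x from Subtype.ext e]

end Cfsg.Agent.S5030
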