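import Cfsg.Statements.S5031
import Cfsg.Agent.Lib.RootGrp.RankOne
import Cfsg.Agent.Lib.RootGrp.Lines
-- import your own Cfsg.Agent.* helpers here

set_option autoImplicit false
open Cfsg

namespace Cfsg.Agent.S5031

/-- Let S be a set of abstract root subgroups of G and let A, B ∈ S lie in different connected components of the graph of rank one pairs on S, each component having more than one member. Then B is not a line partner of A. -/
theorem result {G : Type*} [Group G] {S : Set (Subgroup G)} (hS : Cfsg.IsRootSubgroupSet S)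
    {A B : Subgroup G} (hA : A ∈ S) (hB : B ∈ S)
    (hne : Cfsg.componentOf (Cfsg.FAdj S) S A ≠ Cfsg.componentOf (Cfsg.FAdj S) S B)
    (hA2 : ∃ A' ∈ Cfsg.componentOf (Cfsg.FAdj S) S A, A' ≠ A) (hB2 : ∃ B' ∈ Cfsg.componentOf (Cfsg.FAdj S) S B, B' ≠ B) :
    B ∉ Cfsg.linePartners S A := by
  open Cfsg.Agent.RootGrp in
  intro hmem
  obtain ⟨⟨-, hBA, hcom⟩, hpart⟩ := hmem
  have step : ∀ X Y : Subgroup G, X ∈ S → Y ∈ S → Cfsg.IsRankOnePair X Y →
      Cfsg.componentOf (Cfsg.FAdj S) S X = Cfsg.componentOf (Cfsg.FAdj S) S Y := by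
    intro X Y hX hY h
    have f1 : Cfsg.FAdj S X Y := ⟨hX, hY, h⟩
    have f2 : Cfsg.FAdj S Y X := ⟨hY, hX, Cfsg.RankOnePair_symm h⟩
    ext Z
    exact ⟨fun hz => ⟨hz.1, Relation.ReflTransGen.head f2 hz.2⟩,
      fun hz => ⟨hz.1, Relation.ReflTransGen.head f1 hz.2⟩⟩
  have part : ∀ X : Subgroup G, (∃ X' ∈ Cfsg.componentOf (Cfsg.FAdj S) S X, X' ≠ X) → X ∈ S →
      ∃ P ∈ S, Cfsg.IsRankOnePair X P := by
    rintro X ⟨X', hX', hne'⟩ _
    rcases Relation.ReflTransGen.cases_head hX'.2 with e | ⟨Z, hZ, -⟩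
    · exact absurd e.symm hne'
    · exact ⟨Z, hZ.2.1, hZ.2.2⟩
  obtain ⟨P, hP, hAP⟩ := part A hA2 hA
  obtain ⟨Q, hQ, hBQ⟩ := part B hB2 hB
  have hAB : A ⊓ B = ⊥ := (inf_bot_or_eq hS (not_isolated hS hA hP hAP) hA hB).resolve_right hBA.symm
  obtain ⟨a, ha, ha1⟩ := exists_left hAP
  obtain ⟨b, hb, hb1⟩ := exists_left hBQ
  have hne1 : b⁻¹ * a ≠ 1 := by
    intro e
    rw [inv_mul_eq_one] at e
    exact ha1 (Subgroup.mem_bot.1 (hAB ▸ (⟨ha, e ▸ hb⟩ : a ∈ A ⊓ B)))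
  obtain ⟨C, hC, hxC⟩ := hpart.2.1 (b⁻¹ * a)
    (mul_mem (Subgroup.mem_sup_right (inv_mem hb)) (Subgroup.mem_sup_left ha)) hne1
  have h1 : Cfsg.IsRankOnePair C P := by
    by_contra hn
    exact line_avoid hS hA hP hB hC.1 hAP (fun h => hne ((step A P hA hP hAP).trans (step B P hB hP h).symm))
      hn ha ha1 hb hxC (by group)
  have h2 : Cfsg.IsRankOnePair C Q := by
    by_contra hn
    refine line_avoid hS hB hQ hA hC.1 hBQ (fun h => hne ((step A Q hA hQ h).trans (step B Q hB hQ hBQ).symm))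
      hn hb hb1 ha (inv_mem hxC) ?_
    rw [mul_inv_rev, inv_inv, ← mul_assoc, mul_inv_cancel, one_mul]
  exact hne (((step A P hA hP hAP).trans (step C P hC.1 hP h1).symm).trans
    ((step C Q hC.1 hQ h2).trans (step B Q hB hQ hBQ).symm))

end Cfsg.Agent.S5031
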