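import Cfsg.Statements.S5032
import Cfsg.Agent.Lib.RootGrp.RankOne
import Cfsg.Agent.Lib.RootGrp.Lines
-- import your own Cfsg.Agent.* helpers here

set_option autoImplicit false
open Cfsg

namespace Cfsg.Agent.S5032

/-- Let S be a set of abstract root subgroups of G with more than one member. Then the graph of rank one pairs on S is connected if and only if S is a single conjugacy class of G and some member of S has a rank one partner in S. -/
theorem result {G : Type*} [Group G] {S : Set (Subgroup G)} (hS : Cfsg.IsRootSubgroupSet S) (h2 : ∃ A ∈ S, ∃ B ∈ S, A ≠ B) :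
    Cfsg.IsConnectedFamily (Cfsg.FAdj S) S ↔
      (Cfsg.IsConjClassOfSubgroups S ∧ ∃ A ∈ S, ¬ Cfsg.IsIsolatedIn (Cfsg.FAdj S) S A) := by
  open Cfsg.Agent.RootGrp in
  have hsymm : ∀ X Y : Subgroup G, Relation.ReflTransGen (Cfsg.FAdj S) X Y →
      Relation.ReflTransGen (Cfsg.FAdj S) Y X := by
    intro X Y h
    induction h with
    | refl => exact Relation.ReflTransGen.refl
    | tail _ h1 ih => exact Relation.ReflTransGen.head ⟨h1.2.1, h1.1, Cfsg.RankOnePair_symm h1.2.2⟩ ih
  have hmap : ∀ (g : G) (X Y : Subgroup G), Relation.ReflTransGen (Cfsg.FAdj S) X Y →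
      Relation.ReflTransGen (Cfsg.FAdj S) (Cfsg.conjBy X g) (Cfsg.conjBy Y g) := fun g X Y h =>
    Relation.ReflTransGen.lift (fun Z => Cfsg.conjBy Z g)
      (fun a b hab => ⟨hS.conj_mem a hab.1 g, hS.conj_mem b hab.2.1 g, pair_conj hab.2.2 g⟩) _ _ h
  obtain ⟨A₀, hA₀, B₀, hB₀, hne⟩ := h2
  constructor
  · intro hc
    have hconj : ∀ X Y : Subgroup G, Relation.ReflTransGen (Cfsg.FAdj S) X Y →
        ∃ g : G, Y = Cfsg.conjBy X g := by
      intro X Y h
      induction h with
      | refl => exact ⟨1, (conjBy_one X).symm⟩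
      | tail _ h1 ih =>
        obtain ⟨g, rfl⟩ := ih
        obtain ⟨x, -, e⟩ := exists_conj_right h1.2.2
        exact ⟨x * g, by rw [← e, conjBy_conjBy]⟩
    refine ⟨⟨⟨A₀, hA₀⟩, fun A hA B hB => hconj A B (hc A hA B hB)⟩, A₀, hA₀, fun hi => ?_⟩
    rcases Relation.ReflTransGen.cases_head (hc A₀ hA₀ B₀ hB₀) with e | ⟨C, hC, -⟩
    · exact hne e
    · exact (hi.2 C).1 hC
  · rintro ⟨hcls, A₁, hA₁, hiso⟩
    obtain ⟨P₁, hP₁, hAP⟩ := partner_of_not_isolated hS hiso hA₁
    have part : ∀ D ∈ S, ∃ P ∈ S, Cfsg.IsRankOnePair D P := by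
      intro D hD
      obtain ⟨g, rfl⟩ := hcls.2 A₁ hA₁ D hD
      exact ⟨Cfsg.conjBy P₁ g, hS.conj_mem _ hP₁ g, pair_conj hAP g⟩
    -- an element of a member moves every member inside its component
    have move : ∀ E ∈ S, ∀ e ∈ E, ∀ D ∈ S, Relation.ReflTransGen (Cfsg.FAdj S) D (Cfsg.conjBy D e) := by
      intro E hE e he D hD
      have he' : Cfsg.conjBy E e = E := conjBy_of_mem he
      rcases hS.pair E hE D hD with hc | hr | ⟨hZ, hcen, -, -⟩
      · rw [conjBy_of_commute fun x hx => commute_of_bot hc he hx]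
      · exact .head ⟨hD, hE, Cfsg.RankOnePair_symm hr⟩ (.head (b := Cfsg.conjBy D e)
          ⟨hE, hS.conj_mem D hD e, he' ▸ pair_conj hr e⟩ .refl)
      · obtain ⟨P, hP, hDP⟩ := part D hD
        have viaP : Relation.ReflTransGen (Cfsg.FAdj S) P (Cfsg.conjBy P e) →
            Relation.ReflTransGen (Cfsg.FAdj S) D (Cfsg.conjBy D e) := fun h =>
          (Relation.ReflTransGen.head ⟨hD, hP, hDP⟩ h).tail
            ⟨hS.conj_mem P hP e, hS.conj_mem D hD e, pair_conj (Cfsg.RankOnePair_symm hDP) e⟩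
        by_cases h1 : Cfsg.IsRankOnePair (Cfsg.conjBy D e) P
        · exact .head ⟨hD, hP, hDP⟩ (.head ⟨hP, hS.conj_mem D hD e, Cfsg.RankOnePair_symm h1⟩ .refl)
        by_cases h2 : Cfsg.IsRankOnePair ⁅E, D⁆ P
        · refine viaP ?_
          have hfix : Cfsg.conjBy ⁅E, D⁆ e = ⁅E, D⁆ :=
            conjBy_of_commute fun z hz => (hcen z hz e (Subgroup.mem_sup_left he)).symm
          exact .head ⟨hP, hZ, Cfsg.RankOnePair_symm h2⟩ (.head (b := Cfsg.conjBy P e)
            ⟨hZ, hS.conj_mem P hP e, hfix ▸ pair_conj h2 e⟩ .refl)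
        exfalso
        obtain ⟨d, hd, hd1⟩ := exists_left hDP
        exact line_avoid hS hD hP hZ (hS.conj_mem D hD e) hDP h2 h1 hd hd1
          (inv_mem (Subgroup.commutator_mem_commutator he hd)) ⟨d, hd, rfl⟩
          (by rw [commutatorElement_def]; show d = (e * d * e⁻¹ * d⁻¹)⁻¹ * (e * d * e⁻¹); group)
    intro A hA B hB
    obtain ⟨g, rfl⟩ := hcls.2 A hA B hB
    have hg : g ∈ ⨆ C ∈ S, C := hS.generates ▸ Subgroup.mem_top g
    have hle : ∀ x ∈ ⨆ C ∈ S, C, Relation.ReflTransGen (Cfsg.FAdj S) A (Cfsg.conjBy A x) := by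
      intro x hx
      rw [iSup_subtype'] at hx
      refine Subgroup.iSup_induction (fun C : S => (C : Subgroup G))
        (C := fun x => Relation.ReflTransGen (Cfsg.FAdj S) A (Cfsg.conjBy A x)) hx ?_ ?_ ?_
      · exact fun C y hy => move C C.2 y hy A hA
      · rw [conjBy_one]
      · intro x y hx hy
        rw [← conjBy_conjBy]
        exact hx.trans (hmap x _ _ hy)
    exact hle g hg

end Cfsg.Agent.S5032
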