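import Cfsg.Statements.S5036
import Cfsg.Agent.Lib.RootGrp.RankOne
import Cfsg.Agent.S5030
-- import your own Cfsg.Agent.* helpers here

set_option autoImplicit false
open Cfsg

namespace Cfsg.Agent.S5036

open Cfsg.Agent.RootGrp
open scoped commutatorElement

section
variable {G : Type*} [Group G] {S : Set (Subgroup G)}

theorem conjBy_sup (U V : Subgroup G) (g : G) : Cfsg.conjBy (U ⊔ V) g = Cfsg.conjBy U g ⊔ Cfsg.conjBy V g :=
  Subgroup.map_sup U V _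

/-- The data of two opposite commutator pairs. -/
structure Data (S : Set (Subgroup G)) (A B C D : Subgroup G) : Prop where
  hA : A ∈ S
  hB : B ∈ S
  hC : C ∈ S
  hD : D ∈ S
  eC : ⁅A, B⁆ = C
  eA : ⁅D, C⁆ = A
  c1 : Cfsg.RootCommutatorCase S A B
  c2 : Cfsg.RootCommutatorCase S D C

theorem Data.symm (hS : Cfsg.IsRootSubgroupSet S) {A B C D : Subgroup G} (h : Data S A B C D) : Data S C D A B := by
  have sy : ∀ {P Q : Subgroup G}, Cfsg.RootCommutatorCase S P Q → Cfsg.RootCommutatorCase S Q P := by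
    intro P Q ⟨hm, hc, h1, h2⟩
    have e : ⁅Q, P⁆ = ⁅P, Q⁆ := Subgroup.commutator_comm Q P
    refine ⟨e ▸ hm, fun z hz x hx => hc z (e ▸ hz) x (sup_comm Q P ▸ hx), fun q hq hq1 => ?_, fun p hp hp1 => ?_⟩
    · rw [e, ← h2 q hq hq1]
      apply le_antisymm <;> rw [Subgroup.closure_le] <;> rintro _ ⟨p, hp, rfl⟩
      · have := inv_mem (Subgroup.subset_closure (k := (fun a : G => a * q * a⁻¹ * q⁻¹) '' (P : Set G)) ⟨p, hp, rfl⟩)
        rwa [show (p * q * p⁻¹ * q⁻¹)⁻¹ = q * p * q⁻¹ * p⁻¹ by group] at this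
      · have := inv_mem (Subgroup.subset_closure (k := (fun b : G => q * b * q⁻¹ * b⁻¹) '' (P : Set G)) ⟨p, hp, rfl⟩)
        rwa [show (q * p * q⁻¹ * p⁻¹)⁻¹ = p * q * p⁻¹ * q⁻¹ by group] at this
    · rw [e, ← h1 p hp hp1]
      apply le_antisymm <;> rw [Subgroup.closure_le] <;> rintro _ ⟨q, hq, rfl⟩
      · have := inv_mem (Subgroup.subset_closure (k := (fun b : G => p * b * p⁻¹ * b⁻¹) '' (Q : Set G)) ⟨q, hq, rfl⟩)
        rwa [show (p * q * p⁻¹ * q⁻¹)⁻¹ = q * p * q⁻¹ * p⁻¹ by group] at this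
      · have := inv_mem (Subgroup.subset_closure (k := (fun a : G => a * p * a⁻¹ * p⁻¹) '' (Q : Set G)) ⟨q, hq, rfl⟩)
        rwa [show (q * p * q⁻¹ * p⁻¹)⁻¹ = p * q * p⁻¹ * q⁻¹ by group] at this
  exact ⟨h.hC, h.hD, h.hA, h.hB, by rw [Subgroup.commutator_comm]; exact h.eA,
    by rw [Subgroup.commutator_comm]; exact h.eC, sy h.c2, sy h.c1⟩

variable (hS : Cfsg.IsRootSubgroupSet S) {A B C D : Subgroup G} (h : Data S A B C D)
include hS h

theorem bC : ∀ b ∈ B, ∀ c ∈ C, b * c = c * b := fun b hb c hc =>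
  (h.c1.2.1 c (h.eC.symm ▸ hc) b (Subgroup.mem_sup_right hb)).symm

theorem aC : ∀ a ∈ A, ∀ c ∈ C, a * c = c * a := fun a ha c hc =>
  (h.c1.2.1 c (h.eC.symm ▸ hc) a (Subgroup.mem_sup_left ha)).symm

theorem dA : ∀ d ∈ D, ∀ a ∈ A, d * a = a * d := fun d hd a ha =>
  (h.c2.2.1 a (h.eA.symm ▸ ha) d (Subgroup.mem_sup_left hd)).symm

theorem bcomm : ∀ b ∈ B, ∀ a ∈ A, b * a * b⁻¹ * a⁻¹ ∈ C := fun b hb a ha => by
  rw [← h.eC, Subgroup.commutator_comm]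
  exact Subgroup.commutator_mem_commutator hb ha

/-- Only the identity of `A` centralises `B`. -/
theorem cent_one : ∀ a ∈ A, (∀ b ∈ B, a * b = b * a) → a = 1 := by
  intro a ha hc
  by_contra ha1
  apply hS.ne_bot _ h.hC
  rw [← h.eC, ← h.c1.2.2.1 a ha ha1, eq_bot_iff, Subgroup.closure_le]
  rintro _ ⟨b, hb, rfl⟩
  show a * b * a⁻¹ * b⁻¹ ∈ (⊥ : Subgroup G)
  rw [Subgroup.mem_bot, hc b hb]; group

theorem rankOne : Cfsg.IsRankOnePair B D := by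
  rcases hS.pair B h.hB D h.hD with e | e | ⟨hm, hc, -, -⟩
  rotate_left
  · exact e
  all_goals exfalso
  rotate_left
  · -- commuting
    obtain ⟨b, hb, hb1⟩ := (Subgroup.bot_or_exists_ne_one B).resolve_left (hS.ne_bot B h.hB)
    apply hS.ne_bot _ h.hA
    have hCD : ∀ c ∈ C, ∀ d ∈ D, c * d = d * c := by
      intro c hc d hd
      have hle : Subgroup.closure ((fun a : G => a * b * a⁻¹ * b⁻¹) '' (A : Set G)) ≤ Subgroup.centralizer {d} := by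
        rw [Subgroup.closure_le]
        rintro _ ⟨a, ha, rfl⟩
        rw [SetLike.mem_coe, Subgroup.mem_centralizer_singleton_iff]
        have c1 : Commute a d := (dA hS h d hd a ha).symm
        have c2 : Commute b d := commute_of_bot e hb hd
        exact (((c1.mul_left c2).mul_left c1.inv_left).mul_left c2.inv_left).eq
      rw [h.c1.2.2.2 b hb hb1, h.eC] at hle
      exact Subgroup.mem_centralizer_singleton_iff.1 (hle hc)
    rw [← h.eA, eq_bot_iff, Subgroup.commutator_le]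
    exact fun d hd c hc => Subgroup.mem_bot.2 (commutatorElement_eq_one_iff_mul_comm.2 (hCD c hc d hd).symm)
  · -- commutator case
    obtain ⟨b, hb, hb1⟩ := (Subgroup.bot_or_exists_ne_one B).resolve_left (hS.ne_bot B h.hB)
    obtain ⟨d, hd, hd1⟩ := (Subgroup.bot_or_exists_ne_one D).resolve_left (hS.ne_bot D h.hD)
    set e := b * d * b⁻¹ * d⁻¹ with hed
    have heD : Commute e d := hc e (Subgroup.commutator_mem_commutator hb hd) d (Subgroup.mem_sup_right hd)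
    -- `d` fixes the `C`-part of the image of `a`
    have key : ∀ a ∈ A, Commute d (b * (d * (b⁻¹ * a * b) * d⁻¹ * (b⁻¹ * a * b)⁻¹) * b⁻¹ *
        (d * (b⁻¹ * a * b) * d⁻¹ * (b⁻¹ * a * b)⁻¹)⁻¹) := by
      intro a ha
      set c := a⁻¹ * (b⁻¹ * a * b) with hcdef
      have hcC : c ∈ C := by
        have := bcomm hS h b⁻¹ (inv_mem hb) a ha
        rw [inv_inv] at this
        have e2 : c = a⁻¹ * (b⁻¹ * a * b * a⁻¹) * a := by rw [hcdef]; group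
        rw [e2, mul_assoc, ← aC hS h a ha _ this, inv_mul_cancel_left]
        exact this
      have e3 : b⁻¹ * a * b = a * c := by rw [hcdef]; group
      set a1 := d * c * d⁻¹ * c⁻¹ with ha1
      have ha1A : a1 ∈ A := h.eA ▸ Subgroup.commutator_mem_commutator hd hcC
      have e4 : d * (b⁻¹ * a * b) * d⁻¹ = a * (a1 * c) := by
        rw [e3, ← mul_assoc, dA hS h d hd a ha, ha1]; group
      have e5 : d * (b⁻¹ * a * b) * d⁻¹ * (b⁻¹ * a * b)⁻¹ = a1 := by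
        rw [e4, e3, mul_inv_rev, show a * (a1 * c) * (c⁻¹ * a⁻¹) = (a * a1) * a⁻¹ by group,
          mul_comm_of_mem hS h.hA ha ha1A, mul_inv_cancel_right]
      rw [e5]
      have cda : Commute d a := dA hS h d hd a ha
      have hea : e * a * e⁻¹ = a * a1 * (a1⁻¹ * (b * a1 * b⁻¹)) := by
        calc e * a * e⁻¹ = b * d * b⁻¹ * (d⁻¹ * a * d) * b * d⁻¹ * b⁻¹ := by rw [hed]; group
          _ = b * d * b⁻¹ * a * b * d⁻¹ * b⁻¹ := by rw [mul_assoc d⁻¹ a d, ← cda.eq, inv_mul_cancel_left]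
          _ = b * (d * (b⁻¹ * a * b) * d⁻¹) * b⁻¹ := by group
          _ = b * (a * c * a1) * b⁻¹ := by
            rw [e4, show a1 * c = c * a1 from aC hS h a1 ha1A c hcC]; group
          _ = b * (b⁻¹ * a * b * a1) * b⁻¹ := by rw [e3]
          _ = _ := by group
      have h1 : Commute d (e * a * e⁻¹) := (heD.symm.mul_right cda).mul_right heD.symm.inv_right
      rw [hea] at h1
      have h2 : Commute d (a * a1) := cda.mul_right (dA hS h d hd a1 ha1A)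
      have h3 := h2.inv_right.mul_right h1
      rw [inv_mul_cancel_left] at h3
      have h4 : a1⁻¹ * (b * a1 * b⁻¹) = b * a1 * b⁻¹ * a1⁻¹ := by
        have hh := aC hS h a1⁻¹ (inv_mem ha1A) _ (bcomm hS h b hb a1 ha1A)
        calc a1⁻¹ * (b * a1 * b⁻¹) = (a1⁻¹ * (b * a1 * b⁻¹ * a1⁻¹)) * a1 := by group
          _ = (b * a1 * b⁻¹ * a1⁻¹) * a1⁻¹ * a1 := by rw [hh]
          _ = _ := by group
      rwa [h4] at h3
    -- hence `d` centralises `C`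
    let T : Subgroup G :=
      { carrier := {x | x ∈ A ∧ Commute d (b * x * b⁻¹ * x⁻¹)}
        one_mem' := ⟨one_mem _, by simp⟩
        mul_mem' := by
          rintro x y ⟨hx, hx'⟩ ⟨hy, hy'⟩
          refine ⟨mul_mem hx hy, ?_⟩
          have hh := aC hS h x hx _ (bcomm hS h b hb y hy)
          rw [show b * (x * y) * b⁻¹ * (x * y)⁻¹ = (b * x * b⁻¹) * (b * y * b⁻¹ * y⁻¹) * x⁻¹ by group,
            show (b * x * b⁻¹) * (b * y * b⁻¹ * y⁻¹) * x⁻¹ = (b * x * b⁻¹ * x⁻¹) * (x * (b * y * b⁻¹ * y⁻¹)) * x⁻¹ by group,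
            hh, show (b * x * b⁻¹ * x⁻¹) * ((b * y * b⁻¹ * y⁻¹) * x) * x⁻¹ = (b * x * b⁻¹ * x⁻¹) * (b * y * b⁻¹ * y⁻¹) by group]
          exact hx'.mul_right hy'
        inv_mem' := by
          rintro x ⟨hx, hx'⟩
          refine ⟨inv_mem hx, ?_⟩
          have hh := aC hS h x⁻¹ (inv_mem hx) _ (inv_mem (bcomm hS h b hb x hx))
          rw [show b * x⁻¹ * b⁻¹ * x⁻¹⁻¹ = x⁻¹ * (b * x * b⁻¹ * x⁻¹)⁻¹ * x by group, hh, inv_mul_cancel_right]
          exact hx'.inv_right }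
    let T2 : Subgroup G :=
      { carrier := {c | c ∈ C ∧ d * c * d⁻¹ * c⁻¹ ∈ T}
        one_mem' := ⟨one_mem _, by simp⟩
        mul_mem' := by
          rintro x y ⟨hx, hx'⟩ ⟨hy, hy'⟩
          refine ⟨mul_mem hx hy, ?_⟩
          have hh := aC hS h _ hy'.1 x hx
          rw [show d * (x * y) * d⁻¹ * (x * y)⁻¹ = (d * x * d⁻¹ * x⁻¹) * (x * (d * y * d⁻¹ * y⁻¹)) * x⁻¹ by group,
            ← hh, show (d * x * d⁻¹ * x⁻¹) * ((d * y * d⁻¹ * y⁻¹) * x) * x⁻¹ = (d * x * d⁻¹ * x⁻¹) * (d * y * d⁻¹ * y⁻¹) by group]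
          exact mul_mem hx' hy'
        inv_mem' := by
          rintro x ⟨hx, hx'⟩
          refine ⟨inv_mem hx, ?_⟩
          have hh := aC hS h _ (inv_mem hx'.1) x⁻¹ (inv_mem hx)
          rw [show d * x⁻¹ * d⁻¹ * x⁻¹⁻¹ = x⁻¹ * (d * x * d⁻¹ * x⁻¹)⁻¹ * x by group, ← hh, inv_mul_cancel_right]
          exact inv_mem hx' }
    have hT2 : C ≤ T2 := by
      conv_lhs => rw [← h.eC, ← h.c1.2.2.2 b⁻¹ (inv_mem hb) (inv_ne_one.2 hb1)]
      rw [Subgroup.closure_le]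
      rintro _ ⟨a, ha, rfl⟩
      have hm : a * b⁻¹ * a⁻¹ * b⁻¹⁻¹ ∈ C := h.eC ▸ Subgroup.commutator_mem_commutator ha (inv_mem hb)
      have h1 := key a⁻¹ (inv_mem ha)
      have h2 : d * (b⁻¹ * a⁻¹ * b) * d⁻¹ * (b⁻¹ * a⁻¹ * b)⁻¹ = d * (a * b⁻¹ * a⁻¹ * b⁻¹⁻¹) * d⁻¹ * (a * b⁻¹ * a⁻¹ * b⁻¹⁻¹)⁻¹ := by
        have cda : Commute d a := dA hS h d hd a ha
        have hmA : d * (a * b⁻¹ * a⁻¹ * b⁻¹⁻¹) * d⁻¹ * (a * b⁻¹ * a⁻¹ * b⁻¹⁻¹)⁻¹ ∈ A :=
          h.eA ▸ Subgroup.commutator_mem_commutator hd hm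
        have hh := mul_comm_of_mem hS h.hA (inv_mem ha) hmA
        calc d * (b⁻¹ * a⁻¹ * b) * d⁻¹ * (b⁻¹ * a⁻¹ * b)⁻¹
            = (d * a⁻¹) * (a * b⁻¹ * a⁻¹ * b⁻¹⁻¹) * d⁻¹ * (b⁻¹ * a⁻¹ * b)⁻¹ := by group
          _ = (a⁻¹ * d) * (a * b⁻¹ * a⁻¹ * b⁻¹⁻¹) * d⁻¹ * (b⁻¹ * a⁻¹ * b)⁻¹ := by rw [cda.inv_right.eq]
          _ = (a⁻¹ * (d * (a * b⁻¹ * a⁻¹ * b⁻¹⁻¹) * d⁻¹ * (a * b⁻¹ * a⁻¹ * b⁻¹⁻¹)⁻¹)) * a := by group
          _ = _ := by rw [hh, inv_mul_cancel_right]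
      rw [h2] at h1
      exact ⟨hm, h.eA ▸ Subgroup.commutator_mem_commutator hd hm, h1⟩
    have hAT : A ≤ T := by
      conv_lhs => rw [← h.eA, ← h.c2.2.2.1 d hd hd1]
      rw [Subgroup.closure_le]
      rintro _ ⟨c, hc', rfl⟩
      exact (hT2 hc').2
    have hCd : ∀ c ∈ C, Commute d c := by
      intro c hc'
      have hle : Subgroup.closure ((fun a : G => a * b * a⁻¹ * b⁻¹) '' (A : Set G)) ≤ Subgroup.centralizer {d} := by
        rw [Subgroup.closure_le]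
        rintro _ ⟨a, ha, rfl⟩
        rw [SetLike.mem_coe, Subgroup.mem_centralizer_singleton_iff]
        have := (hAT ha).2.inv_right
        rw [show (b * a * b⁻¹ * a⁻¹)⁻¹ = a * b * a⁻¹ * b⁻¹ by group] at this
        exact this.eq.symm
      rw [h.c1.2.2.2 b hb hb1, h.eC] at hle
      exact (Subgroup.mem_centralizer_singleton_iff.1 (hle hc')).symm
    apply hS.ne_bot _ h.hA
    rw [← h.eA, ← h.c2.2.2.1 d hd hd1, eq_bot_iff, Subgroup.closure_le]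
    rintro _ ⟨c, hc', rfl⟩
    show d * c * d⁻¹ * c⁻¹ ∈ (⊥ : Subgroup G)
    rw [Subgroup.mem_bot, (hCd c hc').eq]; group

theorem fix_b : ∀ b ∈ B, b ≠ 1 → ∀ a ∈ A, b * a = a * b → a = 1 := by
  intro b hb hb1 a ha e
  obtain ⟨d, hd, -, ed⟩ := (rankOne hS h).cond_left b hb hb1
  refine cent_one hS h a ha fun b' hb' => ?_
  obtain ⟨d', hd', e'⟩ : d⁻¹ * b' * d⁻¹⁻¹ ∈ Cfsg.conjBy D b⁻¹ := ed ▸ ⟨b', hb', rfl⟩
  change b⁻¹ * d' * b⁻¹⁻¹ = d⁻¹ * b' * d⁻¹⁻¹ at e'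
  have c1 : Commute a d := (dA hS h d hd a ha).symm
  have c2 : Commute a d' := (dA hS h d' hd' a ha).symm
  have c3 : Commute a b := (show b * a = a * b from e).symm
  have c4 : Commute a (b⁻¹ * d' * b⁻¹⁻¹) := (c3.inv_right.mul_right c2).mul_right c3.inv_right.inv_right
  rw [e'] at c4
  have c5 := (c1.mul_right c4).mul_right c1.inv_right
  rw [show d * (d⁻¹ * b' * d⁻¹⁻¹) * d⁻¹ = b' by group] at c5
  exact c5.eq

theorem decomp : ∀ x ∈ A ⊔ C, ∃ a ∈ A, ∃ c ∈ C, x = a * c := by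
  intro x hx
  rw [Subgroup.sup_eq_closure] at hx
  induction hx using Subgroup.closure_induction with
  | mem y hy =>
    rcases hy with hy | hy
    · exact ⟨y, hy, 1, one_mem _, (mul_one y).symm⟩
    · exact ⟨1, one_mem _, y, hy, (one_mul y).symm⟩
  | one => exact ⟨1, one_mem _, 1, one_mem _, (mul_one 1).symm⟩
  | mul y z _ _ ihy ihz =>
    obtain ⟨u1, hu1, c1, hc1, rfl⟩ := ihy
    obtain ⟨u2, hu2, c2, hc2, rfl⟩ := ihz
    exact ⟨u1 * u2, mul_mem hu1 hu2, c1 * c2, mul_mem hc1 hc2, by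
      rw [mul_assoc u1 c1, ← mul_assoc c1 u2, ← aC hS h u2 hu2 c1 hc1]; group⟩
  | inv y _ ih =>
    obtain ⟨u1, hu1, c1, hc1, rfl⟩ := ih
    exact ⟨u1⁻¹, inv_mem hu1, c1⁻¹, inv_mem hc1, by rw [mul_inv_rev, aC hS h _ (inv_mem hu1) _ (inv_mem hc1)]⟩

theorem inf_bot : ∀ x ∈ A, x ∈ C → x = 1 := fun x hxA hxC =>
  cent_one hS h x hxA fun b hb => (bC hS h b hb x hxC).symm

theorem fix_set : ∀ x ∈ A ⊔ C, (∀ d ∈ D, d * x = x * d) → x ∈ A := by
  intro x hx hfix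
  obtain ⟨a, ha, c, hc, rfl⟩ := decomp hS h x hx
  have : c = 1 := cent_one hS (h.symm hS) c hc fun d hd => by
    have c1 : Commute d a := dA hS h d hd a ha
    have := c1.inv_right.mul_right (hfix d hd : Commute d (a * c))
    rw [inv_mul_cancel_left] at this
    exact this.eq.symm
  rw [this, mul_one]; exact ha

theorem norm_N : ∀ g ∈ B ⊔ D, Cfsg.conjBy (A ⊔ C) g = A ⊔ C := by
  have hb : ∀ b ∈ B, Cfsg.conjBy (A ⊔ C) b ≤ A ⊔ C := by
    intro b hb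
    rw [conjBy_sup, conjBy_of_commute (A := C) (fun c hc => bC hS h b hb c hc)]
    refine sup_le ?_ le_sup_right
    rintro _ ⟨a, ha, rfl⟩
    show b * a * b⁻¹ ∈ _
    rw [show b * a * b⁻¹ = (b * a * b⁻¹ * a⁻¹) * a by group]
    exact mul_mem (Subgroup.mem_sup_right (bcomm hS h b hb a ha)) (Subgroup.mem_sup_left ha)
  have hd : ∀ d ∈ D, Cfsg.conjBy (A ⊔ C) d ≤ A ⊔ C := by
    intro d hd
    rw [conjBy_sup, conjBy_of_commute (A := A) (fun a ha => dA hS h d hd a ha)]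
    refine sup_le le_sup_left ?_
    rintro _ ⟨c, hc, rfl⟩
    show d * c * d⁻¹ ∈ _
    rw [show d * c * d⁻¹ = (d * c * d⁻¹ * c⁻¹) * c by group]
    exact mul_mem (Subgroup.mem_sup_left (h.eA ▸ Subgroup.commutator_mem_commutator hd hc)) (Subgroup.mem_sup_right hc)
  have hle : B ⊔ D ≤ Subgroup.normalizer ((A ⊔ C : Subgroup G) : Set G) := by
    refine sup_le (fun g hg => ?_) fun g hg => ?_
    all_goals rw [mem_normalizer_iff_conjBy]
    · refine le_antisymm (hb g hg) fun x hx => mem_conjBy.2 (hb g⁻¹ (inv_mem hg) ⟨x, hx, ?_⟩)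
      show g⁻¹ * x * g⁻¹⁻¹ = _; rw [inv_inv]
    · refine le_antisymm (hd g hg) fun x hx => mem_conjBy.2 (hd g⁻¹ (inv_mem hg) ⟨x, hx, ?_⟩)
      show g⁻¹ * x * g⁻¹⁻¹ = _; rw [inv_inv]
  exact fun g hg => mem_normalizer_iff_conjBy.1 (hle hg)

/-- The fixed points of a conjugate of `D`. -/
theorem fix_conj (g : G) (hg : g ∈ B ⊔ D) (x : G) :
    x ∈ Cfsg.conjBy A g ↔ x ∈ A ⊔ C ∧ ∀ u ∈ Cfsg.conjBy D g, u * x = x * u := by
  constructor
  · rintro ⟨a, ha, rfl⟩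
    refine ⟨norm_N hS h g hg ▸ ⟨a, Subgroup.mem_sup_left ha, rfl⟩, ?_⟩
    rintro _ ⟨d, hd, rfl⟩
    rw [← map_mul, ← map_mul, dA hS h d hd a ha]
  · rintro ⟨hx, hfix⟩
    rw [← norm_N hS h g hg] at hx
    obtain ⟨y, hy, rfl⟩ := hx
    refine ⟨y, fix_set hS h y hy fun d hd => ?_, rfl⟩
    apply (MulAut.conj g).injective
    rw [map_mul, map_mul]
    exact hfix _ ⟨d, hd, rfl⟩

omit h in
theorem conj_eq_of (h : Data S A B C D) {g k : G} (hg : g ∈ B ⊔ D) (hk : k ∈ B ⊔ D)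
    (e : Cfsg.conjBy D g = Cfsg.conjBy D k) : Cfsg.conjBy A g = Cfsg.conjBy A k := by
  ext x
  rw [fix_conj hS h g hg, fix_conj hS h k hk, e]

theorem orbit : ∀ x ∈ B ⊔ D, (Cfsg.conjBy D x = B ∧ Cfsg.conjBy A x = C) ∨
    ∃ b ∈ B, Cfsg.conjBy D x = Cfsg.conjBy D b ∧ Cfsg.conjBy A x = Cfsg.conjBy A b := by
  intro x hx
  have hr := rankOne hS h
  rcases unipotent_cases hr (conj_mem_unipotent hr (right_mem hr) hx) with e | ⟨b, hb, e⟩
  · refine Or.inl ⟨e, ?_⟩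
    ext y
    rw [fix_conj hS h x hx, e]
    constructor
    · rintro ⟨hy, hfix⟩
      exact fix_set hS (h.symm hS) y (sup_comm A C ▸ hy) hfix
    · exact fun hy => ⟨Subgroup.mem_sup_right hy, fun u hu => bC hS h u hu y hy⟩
  · exact Or.inr ⟨b, hb, e, conj_eq_of hS h hx (Subgroup.mem_sup_left hb) e⟩

theorem orbit_eq : {E | ∃ x ∈ B ⊔ D, E = Cfsg.conjBy A x} = (fun b : G => Cfsg.conjBy A b) '' (B : Set G) ∪ {C} := by
  ext E
  constructor
  · rintro ⟨x, hx, rfl⟩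
    rcases orbit hS h x hx with ⟨-, e⟩ | ⟨b, hb, -, e⟩
    · exact Or.inr e
    · exact Or.inl ⟨b, hb, e.symm⟩
  · rintro (⟨b, hb, rfl⟩ | rfl)
    · exact ⟨b, Subgroup.mem_sup_left hb, rfl⟩
    · have hr := Cfsg.RankOnePair_symm (rankOne hS h)
      obtain ⟨x, hx, e⟩ := exists_conj_right hr
      rw [sup_comm] at hx
      rcases orbit hS h x hx with ⟨-, e'⟩ | ⟨b, hb, e', -⟩
      · exact ⟨x, hx, e'.symm⟩
      · rw [e, eq_comm, conjBy_eq_iff] at e'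
        rw [conjBy_of_mem (inv_mem hb)] at e'
        exact absurd e' hr.ne

theorem A_ne_C : A ≠ C := fun e => hS.ne_bot _ h.hA ((Subgroup.eq_bot_iff_forall _).2
  fun x hx => inf_bot hS h x hx (e ▸ hx))

theorem conj_ne : ∀ b ∈ B, Cfsg.conjBy A b = A → b = 1 := by
  intro b hb e
  by_contra hb1
  obtain ⟨a, ha, ha1⟩ := (Subgroup.bot_or_exists_ne_one A).resolve_left (hS.ne_bot A h.hA)
  refine ha1 (fix_b hS h b hb hb1 a ha ?_)
  have h1 : b * a * b⁻¹ ∈ A := e.le ⟨a, ha, rfl⟩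
  have h2 := inf_bot hS h _ (mul_mem h1 (inv_mem ha)) (bcomm hS h b hb a ha)
  calc b * a = (b * a * b⁻¹ * a⁻¹) * (a * b) := by group
    _ = a * b := by rw [h2, one_mul]

theorem partition : Cfsg.IsSubgroupPartition (A ⊔ C) {E | ∃ x ∈ B ⊔ D, E = Cfsg.conjBy A x} := by
  rw [orbit_eq hS h]
  refine ⟨?_, ?_, ?_⟩
  · rintro E (⟨b, hb, rfl⟩ | rfl)
    · exact le_of_le_of_eq (Subgroup.map_mono le_sup_left) (norm_N hS h b (Subgroup.mem_sup_left hb))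
    · exact le_sup_right
  · intro x hx _
    obtain ⟨a, ha, c, hc, rfl⟩ := decomp hS h x hx
    by_cases ha1 : a = 1
    · exact ⟨C, Or.inr rfl, by rw [ha1, one_mul]; exact hc⟩
    let T : Subgroup G :=
      { carrier := {y | y ∈ C ∧ ∃ b ∈ B, b * a * b⁻¹ = y * a}
        one_mem' := ⟨one_mem _, 1, one_mem _, by simp⟩
        mul_mem' := by
          rintro y z ⟨hy, b, hb, eb⟩ ⟨hz, b', hb', eb'⟩
          refine ⟨mul_mem hy hz, b * b', mul_mem hb hb', ?_⟩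
          calc b * b' * a * (b * b')⁻¹ = b * (b' * a * b'⁻¹) * b⁻¹ := by group
            _ = (b * z) * a * b⁻¹ := by rw [eb']; group
            _ = z * (b * a * b⁻¹) := by rw [bC hS h b hb z hz]; group
            _ = (y * z) * a := by rw [eb, ← mul_assoc, mul_comm_of_mem hS h.hC hz hy]
        inv_mem' := by
          rintro y ⟨hy, b, hb, eb⟩
          refine ⟨inv_mem hy, b⁻¹, inv_mem hb, ?_⟩
          have h1 := bC hS h b⁻¹ (inv_mem hb) y⁻¹ (inv_mem hy)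
          calc b⁻¹ * a * b⁻¹⁻¹ = b⁻¹ * (y⁻¹ * (y * a)) * b := by group
            _ = (b⁻¹ * y⁻¹) * (b * a * b⁻¹) * b := by rw [eb]; group
            _ = (y⁻¹ * b⁻¹) * (b * a * b⁻¹) * b := by rw [h1]
            _ = y⁻¹ * a := by group }
    have hCT : C ≤ T := by
      conv_lhs => rw [← h.eC, ← h.c1.2.2.1 a ha ha1]
      rw [Subgroup.closure_le]
      rintro _ ⟨b, hb, rfl⟩
      have hm : b * a * b⁻¹ * a⁻¹ ∈ T := ⟨bcomm hS h b hb a ha, b, hb, by group⟩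
      have := inv_mem hm
      rwa [show (b * a * b⁻¹ * a⁻¹)⁻¹ = a * b * a⁻¹ * b⁻¹ by group] at this
    obtain ⟨-, b, hb, eb⟩ := hCT hc
    exact ⟨_, Or.inl ⟨b, hb, rfl⟩, a, ha, eb.trans (aC hS h a ha c hc).symm⟩
  · have hbC : ∀ b ∈ B, Cfsg.conjBy A b ⊓ C = ⊥ := fun b hb => (Subgroup.eq_bot_iff_forall _).2 fun x hx => by
      obtain ⟨⟨a, ha, rfl⟩, hxC⟩ := hx
      have hxC' : b * a * b⁻¹ ∈ C := hxC
      have h1 := bC hS h b⁻¹ (inv_mem hb) _ hxC'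
      have h2 : b * a * b⁻¹ = a := by
        calc b * a * b⁻¹ = (b * a * b⁻¹) * b⁻¹ * b := by group
          _ = b⁻¹ * (b * a * b⁻¹) * b := by rw [← h1]
          _ = a := by group
      show b * a * b⁻¹ = 1
      rw [h2]; exact inf_bot hS h a ha (h2 ▸ hxC')
    rintro E (⟨b, hb, rfl⟩ | rfl) E' (⟨b', hb', rfl⟩ | rfl) hne
    · rw [Subgroup.eq_bot_iff_forall]
      rintro x ⟨⟨a, ha, rfl⟩, ⟨a', ha', e⟩⟩
      change b' * a' * b'⁻¹ = b * a * b⁻¹ at e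
      show b * a * b⁻¹ = 1
      have hbb : b'⁻¹ * b ∈ B := mul_mem (inv_mem hb') hb
      have e1 : (b'⁻¹ * b) * a * (b'⁻¹ * b)⁻¹ = a' := by
        calc _ = b'⁻¹ * (b * a * b⁻¹) * b' := by group
          _ = a' := by rw [← e]; group
      have h2 := inf_bot hS h _ (mul_mem ha' (inv_mem ha)) (e1 ▸ bcomm hS h _ hbb a ha)
      have hne' : b'⁻¹ * b ≠ 1 := fun e2 => hne (by rw [inv_mul_eq_one.1 e2])
      have : a = 1 := fix_b hS h _ hbb hne' a ha (by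
        calc b'⁻¹ * b * a = ((b'⁻¹ * b) * a * (b'⁻¹ * b)⁻¹) * (b'⁻¹ * b) := by group
          _ = a * (b'⁻¹ * b) := by rw [e1, mul_inv_eq_one.1 h2])
      rw [this]; group
    · exact hbC b hb
    · rw [inf_comm]; exact hbC b' hb'
    · exact absurd rfl hne

theorem kernel : ∀ x ∈ B ⊔ D, (∀ n ∈ A ⊔ C, x * n = n * x) → ∀ b ∈ B, x * b = b * x := by
  intro x hx hfix b hb
  have e1 : Cfsg.conjBy C x = C := conjBy_of_commute fun c hc => hfix c (Subgroup.mem_sup_right hc)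
  rcases orbit hS (h.symm hS) x (sup_comm B D ▸ hx) with ⟨-, e2⟩ | ⟨d, hd, e2, e3⟩
  · exact absurd (e2.symm.trans e1) (A_ne_C hS h)
  · rw [e1] at e3
    have hd1 := conj_ne hS (h.symm hS) d hd e3.symm
    rw [hd1, conjBy_one] at e2
    have hb' : x * b * x⁻¹ ∈ B := e2.le ⟨b, hb, rfl⟩
    by_contra hne
    obtain ⟨a, ha, ha1⟩ := (Subgroup.bot_or_exists_ne_one A).resolve_left (hS.ne_bot A h.hA)
    refine ha1 (fix_b hS h (b⁻¹ * (x * b * x⁻¹)) (mul_mem (inv_mem hb) hb') (fun e => hne ?_) a ha ?_)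
    · calc x * b = b * (b⁻¹ * (x * b * x⁻¹)) * x := by group
        _ = b * x := by rw [e, mul_one]
    · have c1 : Commute x a := hfix a (Subgroup.mem_sup_left ha)
      have c2 : Commute x (b * a * b⁻¹) := hfix _ (by
        rw [show b * a * b⁻¹ = (b * a * b⁻¹ * a⁻¹) * a by group]
        exact mul_mem (Subgroup.mem_sup_right (bcomm hS h b hb a ha)) (Subgroup.mem_sup_left ha))
      calc b⁻¹ * (x * b * x⁻¹) * a = b⁻¹ * x * b * (x⁻¹ * a) := by group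
        _ = b⁻¹ * (x * (b * a * b⁻¹)) * b * x⁻¹ := by rw [c1.inv_left.eq]; group
        _ = b⁻¹ * ((b * a * b⁻¹) * x) * b * x⁻¹ := by rw [c2.eq]
        _ = a * (b⁻¹ * (x * b * x⁻¹)) := by group

end

/-- Let S be a set of abstract root subgroups of G, A, B ∈ S with C = ⁅A, B⁆ ∈ S, and D ∈ S with ⁅D, C⁆ = A. Put X = ⟨B, D⟩ and N = AC. Then B, D form a rank one pair; the conjugates of A under X are the conjugates of C under X, namely the conjugates of A by elements of B together with C, equally the conjugates of C by elements of D together with A, and they partition N; and the centralizer of N in X is central in X. -/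
theorem result {G : Type*} [Group G] {S : Set (Subgroup G)} (hS : Cfsg.IsRootSubgroupSet S)
    {A B D : Subgroup G} (hA : A ∈ S) (hB : B ∈ S) (hC : ⁅A, B⁆ ∈ S) (hD : D ∈ S) (hDC : ⁅D, ⁅A, B⁆⁆ = A) :
    Cfsg.IsRankOnePair B D ∧
    {E | ∃ x ∈ B ⊔ D, E = Cfsg.conjBy A x} = {E | ∃ x ∈ B ⊔ D, E = Cfsg.conjBy ⁅A, B⁆ x} ∧
    {E | ∃ x ∈ B ⊔ D, E = Cfsg.conjBy A x} = (fun b : G => Cfsg.conjBy A b) '' (B : Set G) ∪ {⁅A, B⁆} ∧
    {E | ∃ x ∈ B ⊔ D, E = Cfsg.conjBy A x} = (fun d : G => Cfsg.conjBy ⁅A, B⁆ d) '' (D : Set G) ∪ {A} ∧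
    Cfsg.IsSubgroupPartition (A ⊔ ⁅A, B⁆) {E | ∃ x ∈ B ⊔ D, E = Cfsg.conjBy A x} ∧
    ∀ x ∈ (B ⊔ D) ⊓ Subgroup.centralizer ((A ⊔ ⁅A, B⁆ : Subgroup G) : Set G), ∀ y ∈ B ⊔ D, x * y = y * x := by
  have hcase : ∀ P Q : Subgroup G, P ∈ S → Q ∈ S → ⁅P, Q⁆ ∈ S → Cfsg.RootCommutatorCase S P Q :=
    fun P Q hP hQ hZ => S5030.comm_case hS hP hQ hZ
  have hd : Data S A B ⁅A, B⁆ D := ⟨hA, hB, hC, hD, rfl, hDC, hcase A B hA hB hC, hcase D _ hD hC (hDC.symm ▸ hA)⟩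
  have h1 := orbit_eq hS hd
  have h2 := orbit_eq hS (hd.symm hS)
  rw [sup_comm D B] at h2
  have hAC : ∃ x ∈ B ⊔ D, Cfsg.conjBy A x = ⁅A, B⁆ := by
    have : ⁅A, B⁆ ∈ {E | ∃ x ∈ B ⊔ D, E = Cfsg.conjBy A x} := h1 ▸ Or.inr rfl
    obtain ⟨x, hx, e⟩ := this
    exact ⟨x, hx, e.symm⟩
  obtain ⟨g, hg, eg⟩ := hAC
  have heq : {E | ∃ x ∈ B ⊔ D, E = Cfsg.conjBy A x} = {E | ∃ x ∈ B ⊔ D, E = Cfsg.conjBy ⁅A, B⁆ x} := by
    ext E
    constructor
    · rintro ⟨x, hx, rfl⟩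
      exact ⟨x * g⁻¹, mul_mem hx (inv_mem hg), by rw [← eg, conjBy_conjBy, inv_mul_cancel_right]⟩
    · rintro ⟨x, hx, rfl⟩
      exact ⟨x * g, mul_mem hx hg, by rw [← eg, conjBy_conjBy]⟩
  refine ⟨rankOne hS hd, heq, h1, heq.trans h2, partition hS hd, ?_⟩
  intro x hx y hy
  obtain ⟨hxX, hxc⟩ := hx
  have hfix : ∀ n ∈ A ⊔ ⁅A, B⁆, x * n = n * x := fun n hn => ((Subgroup.mem_centralizer_iff.1 hxc) n hn).symm
  have k1 := kernel hS hd x hxX hfix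
  have k2 := kernel hS (hd.symm hS) x (sup_comm B D ▸ hxX) (fun n hn => hfix n (sup_comm ⁅A, B⁆ A ▸ hn))
  exact (Subgroup.mem_centralizer_singleton_iff.1 ((sup_le
    (fun w hw => Subgroup.mem_centralizer_singleton_iff.2 (k1 w hw).symm)
    (fun w hw => Subgroup.mem_centralizer_singleton_iff.2 (k2 w hw).symm) :
    B ⊔ D ≤ Subgroup.centralizer {x}) hy)).symm

end Cfsg.Agent.S5036
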