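import Cfsg.Statements.S5038
import Cfsg.Agent.Lib.RootGrp.RankOne
import Cfsg.Agent.Lib.RootGrp.Lines
-- import your own Cfsg.Agent.* helpers here

set_option autoImplicit false
open Cfsg

namespace Cfsg.Agent.S5038

open Cfsg.Agent.RootGrp
open scoped commutatorElement

section
variable {G : Type*} [Group G] {S : Set (Subgroup G)}

theorem comm_decomp {U C : Subgroup G} (hc : ∀ u ∈ U, ∀ c ∈ C, u * c = c * u) :
    ∀ x ∈ U ⊔ C, ∃ u ∈ U, ∃ c ∈ C, x = u * c := by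
  intro x hx
  rw [Subgroup.sup_eq_closure] at hx
  induction hx using Subgroup.closure_induction with
  | mem y hy =>
    rcases hy with hy | hy
    · exact ⟨y, hy, 1, one_mem _, (mul_one y).symm⟩
    · exact ⟨1, one_mem _, y, hy, (one_mul y).symm⟩
  | one => exact ⟨1, one_mem _, 1, one_mem _, (mul_one 1).symm⟩
  | mul y z _ _ ihy ihz =>
    obtain ⟨u1, hu1, c1, hc1, rfl⟩ := ihy
    obtain ⟨u2, hu2, c2, hc2, rfl⟩ := ihz
    exact ⟨u1 * u2, mul_mem hu1 hu2, c1 * c2, mul_mem hc1 hc2, by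
      rw [mul_assoc u1 c1, ← mul_assoc c1 u2, ← hc u2 hu2 c1 hc1]; group⟩
  | inv y _ ih =>
    obtain ⟨u1, hu1, c1, hc1, rfl⟩ := ih
    exact ⟨u1⁻¹, inv_mem hu1, c1⁻¹, inv_mem hc1, by rw [mul_inv_rev, hc _ (inv_mem hu1) _ (inv_mem hc1)]⟩

/-- For two generating members of a line, a member of `S` fixing one member and transitive on the others. -/
theorem mover (hS : Cfsg.IsRootSubgroupSet S) (hF : ∀ A ∈ S, ¬ Cfsg.IsIsolatedIn (Cfsg.FAdj S) S A)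
    {L : Subgroup G} (hLc : ∀ x ∈ L, ∀ y ∈ L, x * y = y * x)
    (hcov : ∀ x ∈ L, x ≠ 1 → ∃ M ∈ S, M ≤ L ∧ x ∈ M)
    {U V : Subgroup G} (hU : U ∈ S) (hV : V ∈ S) (hUV : U ≠ V) (hgen : U ⊔ V = L) :
    ∃ C ∈ S, ∃ D ∈ S, C ≠ U ∧ U ⊔ C = L ∧ D ≤ Subgroup.normalizer (L : Set G) ∧
      (∀ d ∈ D, Cfsg.conjBy C d = C) ∧
      ∀ M ∈ S, M ≤ L → M ≠ C → ∃ d ∈ D, Cfsg.conjBy U d = M := by
  have hUL : U ≤ L := hgen ▸ le_sup_left
  have hVL : V ≤ L := hgen ▸ le_sup_right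
  have huniq : ∀ {M N : Subgroup G}, M ∈ S → N ∈ S → ∀ {x : G}, x ∈ M → x ∈ N → x ≠ 1 → M = N := by
    intro M N hM hN x hxM hxN hx
    refine (inf_bot_or_eq hS (hF M hM) hM hN).resolve_left fun h => hx ?_
    exact Subgroup.mem_bot.1 (h ▸ (⟨hxM, hxN⟩ : x ∈ M ⊓ N))
  obtain ⟨P, hP, hUP⟩ := partner_of_not_isolated hS (hF U hU) hU
  have hroot : ∀ x ∈ L, x ≠ 1 → x ∈ Cfsg.rootElements S := fun x hx hx1 => by
    obtain ⟨M, hM, -, hxM⟩ := hcov x hx hx1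
    exact ⟨hx1, M, hM, hxM⟩
  -- a member not opposite to `P`
  obtain ⟨C, hC, hCL, hCU, hCP, v, hv, hv1, hvd⟩ : ∃ C ∈ S, C ≤ L ∧ C ≠ U ∧ ¬ Cfsg.IsRankOnePair C P ∧
      ∃ v ∈ V, v ≠ 1 ∧ v ∈ U ⊔ C := by
    obtain ⟨v, hv, hv1⟩ : ∃ v ∈ V, v ≠ 1 := (Subgroup.bot_or_exists_ne_one V).resolve_left (hS.ne_bot V hV)
    by_cases hVP : Cfsg.IsRankOnePair V P
    swap
    · exact ⟨V, hV, hVL, hUV.symm, hVP, v, hv, hv1, Subgroup.mem_sup_right hv⟩
    obtain ⟨p, hp, hp1, e1⟩ := hVP.cond_left v hv hv1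
    obtain ⟨u, hu, hu1, e2⟩ := hUP.cond_right p hp hp1
    have hx1 : v * u⁻¹ ≠ 1 := fun e => hUV (huniq hU hV hu (mul_inv_eq_one.1 e ▸ hv) hu1)
    obtain ⟨C, hC, hCL, hxC⟩ := hcov _ (mul_mem (hVL hv) (inv_mem (hUL hu))) hx1
    refine ⟨C, hC, hCL, fun e => ?_, fun hr => ?_, v, hv, hv1, ?_⟩
    · have h1 : v ∈ U := by
        have := mul_mem (e ▸ hxC : v * u⁻¹ ∈ U) hu
        rwa [inv_mul_cancel_right] at this
      exact hUV (huniq hU hV h1 hv hv1)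
    · by_cases en : Cfsg.conjBy P (v * u⁻¹) = P
      · exact hx1 (eq_one_of_normalizes hr hxC en)
      · refine not_commute_members hr (conj_mem_unipotent hr (right_mem hr) (Subgroup.mem_sup_left hxC))
          (right_mem hr) en ?_
        have hcomm : ∀ s ∈ Cfsg.conjBy U p⁻¹, ∀ t ∈ Cfsg.conjBy V p⁻¹, s * t = t * s := by
          rintro _ ⟨s, hs, rfl⟩ _ ⟨t, ht, rfl⟩
          rw [← map_mul, ← map_mul, hLc s (hUL hs) t (hVL ht)]
        rw [← e2, e1] at hcomm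
        rintro s hs d hd
        have h1 : v⁻¹ * s * v ∈ Cfsg.conjBy P u⁻¹ := by
          rw [mem_conjBy] at hs ⊢
          rwa [show (u⁻¹)⁻¹ * (v⁻¹ * s * v) * u⁻¹ = (v * u⁻¹)⁻¹ * s * (v * u⁻¹) by group]
        have h2 : v⁻¹ * d * v ∈ Cfsg.conjBy P v⁻¹ := by
          rw [mem_conjBy, show (v⁻¹)⁻¹ * (v⁻¹ * d * v) * v⁻¹ = d by group]; exact hd
        have := hcomm _ h1 _ h2
        calc s * d = v * ((v⁻¹ * s * v) * (v⁻¹ * d * v)) * v⁻¹ := by group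
          _ = v * ((v⁻¹ * d * v) * (v⁻¹ * s * v)) * v⁻¹ := by rw [this]
          _ = d * s := by group
    · have : v = (v * u⁻¹) * u := by group
      rw [this]
      exact mul_mem (Subgroup.mem_sup_right hxC) (Subgroup.mem_sup_left hu)
  have hUC : ∀ u ∈ U, ∀ c ∈ C, u * c = c * u := fun u hu c hc => hLc u (hUL hu) c (hCL hc)
  obtain ⟨u₀, hu₀, hu₀1⟩ := exists_left hUP
  obtain ⟨c₀, hc₀, hc₀1⟩ : ∃ c ∈ C, c ≠ 1 := (Subgroup.bot_or_exists_ne_one C).resolve_left (hS.ne_bot C hC)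
  have hnorc : ∀ u ∈ U, ∀ c ∈ C, c ≠ 1 → u * c ≠ 1 := fun u hu c hc hc1 e => by
    have h1 : c ∈ U := by rw [eq_inv_of_mul_eq_one_right e]; exact inv_mem hu
    exact hCU (huniq hC hU hc h1 hc1)
  -- commutator case with `P`
  obtain ⟨hDS, hcD, -, -⟩ : Cfsg.RootCommutatorCase S C P := by
    rcases hS.pair C hC P hP with h | h | h
    · exfalso
      refine central_translate hS hU hP hUP (z := c₀) (fun y hy => ?_) hc₀1 hu₀ hu₀1
        (hroot _ (mul_mem (hCL hc₀) (hUL hu₀)) ?_)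
      · exact Subgroup.mem_centralizer_singleton_iff.1 ((sup_le
          (fun w hw => Subgroup.mem_centralizer_singleton_iff.2 (hUC w hw c₀ hc₀))
          (fun w hw => Subgroup.mem_centralizer_singleton_iff.2 (commute_of_bot h hc₀ hw).symm) :
          U ⊔ P ≤ Subgroup.centralizer {c₀}) hy)
      · rw [← hUC u₀ hu₀ c₀ hc₀]; exact hnorc u₀ hu₀ c₀ hc₀ hc₀1
    · exact absurd h hCP
    · exact h
  set D := ⁅C, P⁆ with hDd
  have hDC : ∀ d ∈ D, ∀ c ∈ C, d * c = c * d := fun d hd c hc => hcD d hd c (Subgroup.mem_sup_left hc)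
  have hDP : ∀ d ∈ D, ∀ p ∈ P, d * p = p * d := fun d hd p hp => hcD d hd p (Subgroup.mem_sup_right hp)
  have hnDU : ¬ Cfsg.IsRankOnePair U D := fun h => by
    refine central_translate hS hU hDS h (z := c₀) (fun y hy => ?_) hc₀1 hu₀ hu₀1
      (hroot _ (mul_mem (hCL hc₀) (hUL hu₀)) ?_)
    · exact Subgroup.mem_centralizer_singleton_iff.1 ((sup_le
        (fun w hw => Subgroup.mem_centralizer_singleton_iff.2 (hUC w hw c₀ hc₀))
        (fun w hw => Subgroup.mem_centralizer_singleton_iff.2 (hDC w hw c₀ hc₀)) :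
        U ⊔ D ≤ Subgroup.centralizer {c₀}) hy)
    · rw [← hUC u₀ hu₀ c₀ hc₀]; exact hnorc u₀ hu₀ c₀ hc₀ hc₀1
  set E := ⁅D, U⁆ with hEd
  obtain ⟨hEU, hEcase⟩ := commutator_comm hS hDS hU (fun h => hnDU (Cfsg.RankOnePair_symm h))
  obtain ⟨hED, -⟩ := commutator_comm hS hU hDS hnDU
  replace hED : ∀ e ∈ E, ∀ d ∈ D, e * d = d * e := fun e he d hd =>
    hED e (Subgroup.commutator_comm D U ▸ he) d hd
  have hEc : ∀ d ∈ D, ∀ u ∈ U, d * u * d⁻¹ * u⁻¹ ∈ E := fun d hd u hu => Subgroup.commutator_mem_commutator hd hu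
  have hcl : ∀ d ∈ D, Cfsg.conjBy U d ≤ U ⊔ E := by
    rintro d hd _ ⟨u, hu, rfl⟩
    show d * u * d⁻¹ ∈ _
    rw [show d * u * d⁻¹ = (d * u * d⁻¹ * u⁻¹) * u by group]
    exact mul_mem (Subgroup.mem_sup_right (hEc d hd u hu)) (Subgroup.mem_sup_left hu)
  have hclc : ∀ d ∈ D, ∀ w ∈ Cfsg.conjBy U d, ∀ u ∈ U, w * u = u * w := fun d hd w hw u hu =>
    Subgroup.mem_centralizer_singleton_iff.1 ((sup_le
      (fun s hs => Subgroup.mem_centralizer_singleton_iff.2 (mul_comm_of_mem hS hU hs hu))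
      (fun s hs => Subgroup.mem_centralizer_singleton_iff.2 (hEU s hs u hu)) :
      U ⊔ E ≤ Subgroup.centralizer {u}) (hcl d hd hw))
  -- members through `U C`
  have claim : ∀ u ∈ U, u ≠ 1 → ∀ c ∈ C, c ≠ 1 → ∀ M ∈ S, M ≤ L → u * c ∈ M → ∃ d ∈ D, Cfsg.conjBy U d = M := by
    intro u hu hu1 c hc hc1 M hM hML hxM
    have hMP : Cfsg.IsRankOnePair M P := by
      by_contra hn
      exact line_avoid hS hU hP hM hC hUP hn hCP hu hu1 hxM (inv_mem hc) (by group)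
    obtain ⟨p1, hp1, -, e1⟩ := hUP.cond_left u hu hu1
    obtain ⟨p2, hp2, -, e2⟩ := hMP.cond_left _ hxM (hnorc u hu c hc hc1)
    set k := p1 * c⁻¹ * p1⁻¹ * c with hk
    have hkD : k ∈ D := by
      have := Subgroup.commutator_mem_commutator (inv_mem hc) hp1
      have h2 := inv_mem this
      rw [commutatorElement_inv, commutatorElement_def, inv_inv] at h2
      exact h2
    have e3 : Cfsg.conjBy M p2⁻¹ = Cfsg.conjBy U (p1⁻¹ * k) := by
      rw [e2, show (u * c)⁻¹ = c⁻¹ * u⁻¹ by group, ← conjBy_conjBy, ← e1, conjBy_conjBy,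
        show c⁻¹ * p1⁻¹ = p1⁻¹ * k * c⁻¹ by rw [hk]; group, ← conjBy_conjBy]
      rw [conjBy_of_commute (g := c⁻¹) fun w hw => ((show Commute w c from hUC w hw c hc).inv_right).eq.symm]
    rw [conjBy_eq_iff, inv_inv, conjBy_conjBy] at e3
    set q := p2 * p1⁻¹ with hq
    have hqP : q ∈ P := mul_mem hp2 (inv_mem hp1)
    rw [show p2 * (p1⁻¹ * k) = k * q by
      rw [hq, ← mul_assoc, ← hq]; exact (hDP k hkD q hqP).symm] at e3
    clear_value k q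
    refine ⟨k, hkD, ?_⟩
    by_cases en : Cfsg.conjBy U q = U
    · rw [e3, ← conjBy_conjBy, en]
    exfalso
    have hq' := conj_mem_unipotent hUP (left_mem hUP) (Subgroup.mem_sup_right hqP)
    -- `U` and its conjugate generate the rank one group
    have hPle : P ≤ U ⊔ Cfsg.conjBy U q := by
      obtain ⟨y, hy, hy1, hy2⟩ := exists_conj_pair hUP (left_mem hUP) hq' (Ne.symm en)
      intro p hp
      have h1 : y⁻¹ * p * y ∈ U ⊔ P := mul_mem (mul_mem (inv_mem hy) (Subgroup.mem_sup_right hp)) hy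
      have h2 : p ∈ Cfsg.conjBy (U ⊔ P) y := mem_conjBy.2 h1
      rw [Cfsg.conjBy, Subgroup.map_sup] at h2
      change p ∈ Cfsg.conjBy U y ⊔ Cfsg.conjBy P y at h2
      rwa [hy1, hy2] at h2
    have hcen : ∀ w ∈ Cfsg.conjBy U k⁻¹, ∀ p ∈ P, p * w = w * p := by
      intro w hw p hp
      refine Subgroup.mem_centralizer_singleton_iff.1 ((sup_le
        (fun s hs => Subgroup.mem_centralizer_singleton_iff.2 (hclc k⁻¹ (inv_mem hkD) w hw s hs).symm)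
        (fun s hs => Subgroup.mem_centralizer_singleton_iff.2 ?_) :
        U ⊔ Cfsg.conjBy U q ≤ Subgroup.centralizer {w}) (hPle hp))
      have hsM : k * s * k⁻¹ ∈ M := by
        rw [e3, ← conjBy_conjBy]
        exact ⟨s, hs, rfl⟩
      obtain ⟨u', hu', rfl⟩ := hw
      show s * (k⁻¹ * u' * k⁻¹⁻¹) = (k⁻¹ * u' * k⁻¹⁻¹) * s
      have := hLc _ (hML hsM) _ (hUL hu')
      calc s * (k⁻¹ * u' * k⁻¹⁻¹) = k⁻¹ * ((k * s * k⁻¹) * u') * k := by group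
        _ = k⁻¹ * (u' * (k * s * k⁻¹)) * k := by rw [this]
        _ = _ := by group
    refine not_commute_members hUP (left_mem hUP) (right_mem hUP) hUP.ne fun w hw p hp => ?_
    have := hcen (k⁻¹ * w * k⁻¹⁻¹) ⟨w, hw, rfl⟩ p hp
    have hkp : Commute k p := hDP k hkD p hp
    calc w * p = k * ((k⁻¹ * w * k⁻¹⁻¹) * (k⁻¹ * p * k)) * k⁻¹ := by group
      _ = k * ((k⁻¹ * w * k⁻¹⁻¹) * p) * k⁻¹ := by rw [mul_assoc k⁻¹ p k, ← hkp.eq, inv_mul_cancel_left]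
      _ = k * (p * (k⁻¹ * w * k⁻¹⁻¹)) * k⁻¹ := by rw [this]
      _ = (k * p * k⁻¹) * w := by group
      _ = p * w := by rw [hkp.eq, mul_inv_cancel_right]
  -- `E = C`
  have hEC : E = C := by
    obtain ⟨M, hM, hML, hxM⟩ := hcov _ (mul_mem (hUL hu₀) (hCL hc₀)) (hnorc u₀ hu₀ c₀ hc₀ hc₀1)
    obtain ⟨d, hd, rfl⟩ := claim u₀ hu₀ hu₀1 c₀ hc₀ hc₀1 M hM hML hxM
    obtain ⟨w, hw, ew⟩ := hxM
    change d * w * d⁻¹ = u₀ * c₀ at ew
    set e := d * w * d⁻¹ * w⁻¹ with he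
    have heE : e ∈ E := hEc d hd w hw
    have hee : e = (u₀ * w⁻¹) * c₀ := by
      rw [he, ew, mul_assoc u₀ c₀, ← hUC _ (inv_mem hw) c₀ hc₀, ← mul_assoc]
    have he1 : e ≠ 1 := hee ▸ hnorc _ (mul_mem hu₀ (inv_mem hw)) c₀ hc₀ hc₀1
    have hES : E ∈ S := hEcase.resolve_left (fun h => he1 (Subgroup.mem_bot.1 (h ▸ heE : e ∈ (⊥ : Subgroup G)))) |>.1
    have heL : e ∈ L := hee ▸ mul_mem (hUL (mul_mem hu₀ (inv_mem hw))) (hCL hc₀)
    obtain ⟨M', hM', hML', heM⟩ := hcov e heL he1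
    have hEM : E = M' := huniq hES hM' heE heM he1
    by_cases hu'' : u₀ * w⁻¹ = 1
    · refine huniq hES hC heE ?_ he1
      rw [hee, hu'', one_mul]; exact hc₀
    exfalso
    obtain ⟨d', hd', ed'⟩ := claim _ (mul_mem hu₀ (inv_mem hw)) hu'' c₀ hc₀ hc₀1 M' hM' hML' (hee ▸ heM)
    have hUE : U = E := by
      have h1 : Cfsg.conjBy E d'⁻¹ = E := conjBy_of_commute fun s hs => (hED s hs d'⁻¹ (inv_mem hd')).symm
      rw [hEM, ← ed'] at h1
      rw [conjBy_conjBy, inv_mul_cancel, conjBy_one] at h1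
      rw [h1, ed', hEM]
    apply hS.ne_bot _ hES
    rw [Subgroup.eq_bot_iff_forall]
    have h0 : E ≤ ⊥ := Subgroup.commutator_le.2 fun s hs r hr => Subgroup.mem_bot.2
      (commutatorElement_eq_one_iff_mul_comm.2 (hED r (hUE ▸ hr) s hs).symm)
    exact fun z hz => Subgroup.mem_bot.1 (h0 hz)
  -- the line is `U C`
  have hVUC : V ≤ U ⊔ C := by
    obtain ⟨u, hu, c, hc, e⟩ := comm_decomp hUC v hvd
    by_cases hc1 : c = 1
    · exact absurd (huniq hU hV (by rw [e, hc1, mul_one]; exact hu) hv hv1) hUV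
    by_cases hu1 : u = 1
    · exact (huniq hV hC hv (by rw [e, hu1, one_mul]; exact hc) hv1).le.trans le_sup_right
    obtain ⟨d, hd, rfl⟩ := claim u hu hu1 c hc hc1 V hV hVL (e ▸ hv)
    exact hEC ▸ hcl d hd
  have hUCL : U ⊔ C = L := le_antisymm (sup_le hUL hCL) (hgen ▸ sup_le le_sup_left hVUC)
  refine ⟨C, hC, D, hDS, hCU, hUCL, fun d hd => ?_, fun d hd => conjBy_of_commute (hDC d hd), fun M hM hML hMC => ?_⟩
  · have hle : ∀ d ∈ D, Cfsg.conjBy L d ≤ L := by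
      intro d hd
      rw [← hUCL, Cfsg.conjBy, Subgroup.map_sup]
      exact sup_le (hEC ▸ hcl d hd) ((conjBy_of_commute (hDC d hd)).le.trans le_sup_right)
    rw [mem_normalizer_iff_conjBy]
    refine le_antisymm (hle d hd) ?_
    intro x hx
    rw [mem_conjBy]
    exact hle d⁻¹ (inv_mem hd) ⟨x, hx, by show d⁻¹ * x * d⁻¹⁻¹ = _; rw [inv_inv]⟩
  · obtain ⟨x, hx, hx1⟩ : ∃ x ∈ M, x ≠ 1 := (Subgroup.bot_or_exists_ne_one M).resolve_left (hS.ne_bot M hM)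
    obtain ⟨u, hu, c, hc, rfl⟩ := comm_decomp hUC x (hUCL.symm ▸ hML hx)
    by_cases hu1 : u = 1
    · exact absurd (huniq hM hC hx (by rw [hu1, one_mul]; exact hc) hx1) hMC
    by_cases hc1 : c = 1
    · refine ⟨1, one_mem _, ?_⟩
      rw [conjBy_one]
      exact huniq hU hM hu (by simpa [hc1] using hx) hu1
    exact claim u hu hu1 c hc hc1 M hM hML hx

end

/-- Let S be a set of abstract root subgroups of G in which every member has a rank one partner, A ∈ S and B a line partner of A. Then the subgroup generated by the members of S normalizing AB permutes the members of S inside AB doubly transitively by conjugation. -/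
theorem result {G : Type*} [Group G] {S : Set (Subgroup G)} (hS : Cfsg.IsRootSubgroupSet S)
    (hF : ∀ A ∈ S, ¬ Cfsg.IsIsolatedIn (Cfsg.FAdj S) S A) {A B : Subgroup G} (hA : A ∈ S) (hB : B ∈ Cfsg.linePartners S A) :
    ∀ C₁ ∈ Cfsg.membersIn S (A ⊔ B), ∀ C₂ ∈ Cfsg.membersIn S (A ⊔ B), ∀ D₁ ∈ Cfsg.membersIn S (A ⊔ B),
      ∀ D₂ ∈ Cfsg.membersIn S (A ⊔ B), C₁ ≠ C₂ → D₁ ≠ D₂ →
        ∃ x ∈ ⨆ E ∈ Cfsg.normalizingMembers S (A ⊔ B), E, Cfsg.conjBy C₁ x = D₁ ∧ Cfsg.conjBy C₂ x = D₂ := by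
  obtain ⟨⟨hBS, hBA, hcomm⟩, hpart1, hpart2, -⟩ := hB
  set L := A ⊔ B with hL
  set W := ⨆ E ∈ Cfsg.normalizingMembers S L, E with hW
  have hLc : ∀ x ∈ L, ∀ y ∈ L, x * y = y * x := by
    have hAB : ∀ a ∈ A, ∀ b ∈ B, a * b = b * a := fun a ha b hb => commute_of_bot hcomm ha hb
    intro x hx y hy
    obtain ⟨a, ha, b, hb, rfl⟩ := comm_decomp hAB x hx
    obtain ⟨a', ha', b', hb', rfl⟩ := comm_decomp hAB y hy
    exact (((show Commute a a' from mul_comm_of_mem hS hA ha ha').mul_right (hAB a ha b' hb')).mul_left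
      ((show Commute a' b from hAB a' ha' b hb).symm.mul_right (mul_comm_of_mem hS hBS hb hb'))).eq
  have hcov : ∀ x ∈ L, x ≠ 1 → ∃ M ∈ S, M ≤ L ∧ x ∈ M := fun x hx hx1 => by
    obtain ⟨M, ⟨hM, hML⟩, hxM⟩ := hpart2 x hx hx1
    exact ⟨M, hM, hML, hxM⟩
  obtain ⟨C, hC, D, hD, hCA, hAC, hDn, hDC, hDt⟩ := mover hS hF hLc hcov hA hBS (Ne.symm hBA) hL.symm
  have hCL : C ≤ L := hAC ▸ le_sup_right
  obtain ⟨C', hC', D', hD', hC'C, hCC', hD'n, hD'C, hD't⟩ :=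
    mover hS hF hLc hcov hC hA hCA (by rw [sup_comm]; exact hAC)
  have hC'L : C' ≤ L := hCC' ▸ le_sup_right
  have hDW : D ≤ W := le_iSup₂_of_le D ⟨hD, hDn⟩ le_rfl
  have hD'W : D' ≤ W := le_iSup₂_of_le D' ⟨hD', hD'n⟩ le_rfl
  -- transitivity
  have htr : ∀ M ∈ S, M ≤ L → ∃ g ∈ W, Cfsg.conjBy M g = C := by
    have h1 : ∀ M ∈ S, M ≤ L → M ≠ C' → ∃ g ∈ W, Cfsg.conjBy M g = C := fun M hM hML hne => by
      obtain ⟨d, hd, rfl⟩ := hD't M hM hML hne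
      exact ⟨d⁻¹, inv_mem (hD'W hd), by rw [conjBy_conjBy, inv_mul_cancel, conjBy_one]⟩
    intro M hM hML
    by_cases hne : M = C'
    swap
    · exact h1 M hM hML hne
    subst hne
    obtain ⟨c, hc, hc1⟩ := (Subgroup.bot_or_exists_ne_one C).resolve_left (hS.ne_bot C hC)
    obtain ⟨m, hm, hm1⟩ := (Subgroup.bot_or_exists_ne_one M).resolve_left (hS.ne_bot M hM)
    have hbot : C ⊓ M = ⊥ := (inf_bot_or_eq hS (hF C hC) hC hM).resolve_right (Ne.symm hC'C)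
    have hcm : c * m ≠ 1 := fun e => hc1 (Subgroup.mem_bot.1 (hbot ▸
      (⟨hc, (show c ∈ M by rw [eq_inv_of_mul_eq_one_left e]; exact inv_mem hm)⟩ : c ∈ C ⊓ M)))
    obtain ⟨N, hN, hNL, hxN⟩ := hcov _ (mul_mem (hCL hc) (hC'L hm)) hcm
    have hNC : N ≠ C := by
      rintro rfl
      refine hm1 (Subgroup.mem_bot.1 (hbot ▸ (⟨?_, hm⟩ : m ∈ N ⊓ M)))
      have := mul_mem (inv_mem hc) hxN
      rwa [inv_mul_cancel_left] at this
    have hNM : N ≠ M := by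
      rintro rfl
      refine hc1 (Subgroup.mem_bot.1 (hbot ▸ (⟨hc, ?_⟩ : c ∈ C ⊓ N)))
      have := mul_mem hxN (inv_mem hm)
      rwa [mul_inv_cancel_right] at this
    obtain ⟨g, hg, eg⟩ := h1 N hN hNL hNM
    obtain ⟨d1, hd1, e1⟩ := hDt N hN hNL hNC
    obtain ⟨d2, hd2, e2⟩ := hDt M hM hML hC'C
    refine ⟨g * (d1 * d2⁻¹), mul_mem hg (mul_mem (hDW hd1) (inv_mem (hDW hd2))), ?_⟩
    have e3 : Cfsg.conjBy M (d1 * d2⁻¹) = N := by
      rw [← e2, conjBy_conjBy, inv_mul_cancel_right, e1]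
    rw [← conjBy_conjBy M, e3, eg]
  have hWn : W ≤ Subgroup.normalizer (L : Set G) := iSup₂_le fun E hE => hE.2
  have hmem : ∀ g ∈ W, ∀ M, M ∈ Cfsg.membersIn S L → Cfsg.conjBy M g ∈ Cfsg.membersIn S L := by
    intro g hg M hM
    refine ⟨hS.conj_mem M hM.1 g, ?_⟩
    rw [← mem_normalizer_iff_conjBy.1 (hWn hg)]
    exact Subgroup.map_mono hM.2
  intro C₁ hC₁ C₂ hC₂ D₁ hD₁ D₂ hD₂ hne hne'
  obtain ⟨g, hg, eg⟩ := htr C₁ hC₁.1 hC₁.2
  obtain ⟨h, hh, eh⟩ := htr D₁ hD₁.1 hD₁.2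
  obtain ⟨hM1, hM2⟩ := hmem g hg C₂ hC₂
  obtain ⟨hN1, hN2⟩ := hmem h hh D₂ hD₂
  obtain ⟨d1, hd1, e1⟩ := hDt _ hM1 hM2 (fun e => hne (conjBy_inj (eg.trans e.symm)))
  obtain ⟨d2, hd2, e2⟩ := hDt _ hN1 hN2 (fun e => hne' (conjBy_inj (eh.trans e.symm)))
  refine ⟨h⁻¹ * ((d2 * d1⁻¹) * g), mul_mem (inv_mem hh) (mul_mem (mul_mem (hDW hd2) (inv_mem (hDW hd1))) hg), ?_, ?_⟩
  · rw [← conjBy_conjBy _ _ h⁻¹, ← conjBy_conjBy _ g, eg, ← conjBy_conjBy _ d1⁻¹, hDC _ (inv_mem hd1), hDC _ hd2,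
      ← eh, conjBy_conjBy, inv_mul_cancel, conjBy_one]
  · rw [← conjBy_conjBy _ _ h⁻¹, ← conjBy_conjBy _ g, ← e1, conjBy_conjBy A d1, inv_mul_cancel_right, e2,
      conjBy_conjBy, inv_mul_cancel, conjBy_one]

end Cfsg.Agent.S5038
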