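import Cfsg.Statements.S5034
import Cfsg.Agent.Lib.RootGrp.RankOne
import Cfsg.Agent.Lib.RootGrp.Lines
import Cfsg.Agent.S5029
import Cfsg.Agent.S5036
import Cfsg.Agent.S5038
-- import your own Cfsg.Agent.* helpers here

set_option autoImplicit false
open Cfsg

namespace Cfsg.Agent.S5034

open Cfsg.Agent.RootGrp
open Cfsg.Agent.S5038 (comm_decomp)
open scoped commutatorElement

section
variable {G : Type*} [Group G] {S : Set (Subgroup G)}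

/-- For two generating members of a line, a member of `S` fixing one member and transitive on the others. -/
theorem exceptional (hS : Cfsg.IsRootSubgroupSet S) (hF : ∀ A ∈ S, ¬ Cfsg.IsIsolatedIn (Cfsg.FAdj S) S A)
    {L : Subgroup G} (hLc : ∀ x ∈ L, ∀ y ∈ L, x * y = y * x)
    (hcov : ∀ x ∈ L, x ≠ 1 → ∃ M ∈ S, M ≤ L ∧ x ∈ M)
    {U V P : Subgroup G} (hU : U ∈ S) (hV : V ∈ S) (hUV : U ≠ V) (hgen : U ⊔ V = L) (hP : P ∈ S)
    (hUP : Cfsg.IsRankOnePair U P) :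
    ∃ C ∈ S, C ≠ U ∧ U ⊔ C = L ∧ ⁅C, P⁆ ∈ S ∧ ⁅U, ⁅C, P⁆⁆ = C := by
  have hUL : U ≤ L := hgen ▸ le_sup_left
  have hVL : V ≤ L := hgen ▸ le_sup_right
  have huniq : ∀ {M N : Subgroup G}, M ∈ S → N ∈ S → ∀ {x : G}, x ∈ M → x ∈ N → x ≠ 1 → M = N := by
    intro M N hM hN x hxM hxN hx
    refine (inf_bot_or_eq hS (hF M hM) hM hN).resolve_left fun h => hx ?_
    exact Subgroup.mem_bot.1 (h ▸ (⟨hxM, hxN⟩ : x ∈ M ⊓ N))
  have hroot : ∀ x ∈ L, x ≠ 1 → x ∈ Cfsg.rootElements S := fun x hx hx1 => by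
    obtain ⟨M, hM, -, hxM⟩ := hcov x hx hx1
    exact ⟨hx1, M, hM, hxM⟩
  -- a member not opposite to `P`
  obtain ⟨C, hC, hCL, hCU, hCP, v, hv, hv1, hvd⟩ : ∃ C ∈ S, C ≤ L ∧ C ≠ U ∧ ¬ Cfsg.IsRankOnePair C P ∧
      ∃ v ∈ V, v ≠ 1 ∧ v ∈ U ⊔ C := by
    obtain ⟨v, hv, hv1⟩ : ∃ v ∈ V, v ≠ 1 := (Subgroup.bot_or_exists_ne_one V).resolve_left (hS.ne_bot V hV)
    by_cases hVP : Cfsg.IsRankOnePair V P
    swap
    · exact ⟨V, hV, hVL, hUV.symm, hVP, v, hv, hv1, Subgroup.mem_sup_right hv⟩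
    obtain ⟨p, hp, hp1, e1⟩ := hVP.cond_left v hv hv1
    obtain ⟨u, hu, hu1, e2⟩ := hUP.cond_right p hp hp1
    have hx1 : v * u⁻¹ ≠ 1 := fun e => hUV (huniq hU hV hu (mul_inv_eq_one.1 e ▸ hv) hu1)
    obtain ⟨C, hC, hCL, hxC⟩ := hcov _ (mul_mem (hVL hv) (inv_mem (hUL hu))) hx1
    refine ⟨C, hC, hCL, fun e => ?_, fun hr => ?_, v, hv, hv1, ?_⟩
    · have h1 : v ∈ U := by
        have := mul_mem (e ▸ hxC : v * u⁻¹ ∈ U) hu
        rwa [inv_mul_cancel_right] at this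
      exact hUV (huniq hU hV h1 hv hv1)
    · by_cases en : Cfsg.conjBy P (v * u⁻¹) = P
      · exact hx1 (eq_one_of_normalizes hr hxC en)
      · refine not_commute_members hr (conj_mem_unipotent hr (right_mem hr) (Subgroup.mem_sup_left hxC))
          (right_mem hr) en ?_
        have hcomm : ∀ s ∈ Cfsg.conjBy U p⁻¹, ∀ t ∈ Cfsg.conjBy V p⁻¹, s * t = t * s := by
          rintro _ ⟨s, hs, rfl⟩ _ ⟨t, ht, rfl⟩
          rw [← map_mul, ← map_mul, hLc s (hUL hs) t (hVL ht)]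
        rw [← e2, e1] at hcomm
        rintro s hs d hd
        have h1 : v⁻¹ * s * v ∈ Cfsg.conjBy P u⁻¹ := by
          rw [mem_conjBy] at hs ⊢
          rwa [show (u⁻¹)⁻¹ * (v⁻¹ * s * v) * u⁻¹ = (v * u⁻¹)⁻¹ * s * (v * u⁻¹) by group]
        have h2 : v⁻¹ * d * v ∈ Cfsg.conjBy P v⁻¹ := by
          rw [mem_conjBy, show (v⁻¹)⁻¹ * (v⁻¹ * d * v) * v⁻¹ = d by group]; exact hd
        have := hcomm _ h1 _ h2
        calc s * d = v * ((v⁻¹ * s * v) * (v⁻¹ * d * v)) * v⁻¹ := by group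
          _ = v * ((v⁻¹ * d * v) * (v⁻¹ * s * v)) * v⁻¹ := by rw [this]
          _ = d * s := by group
    · have : v = (v * u⁻¹) * u := by group
      rw [this]
      exact mul_mem (Subgroup.mem_sup_right hxC) (Subgroup.mem_sup_left hu)
  have hUC : ∀ u ∈ U, ∀ c ∈ C, u * c = c * u := fun u hu c hc => hLc u (hUL hu) c (hCL hc)
  obtain ⟨u₀, hu₀, hu₀1⟩ := exists_left hUP
  obtain ⟨c₀, hc₀, hc₀1⟩ : ∃ c ∈ C, c ≠ 1 := (Subgroup.bot_or_exists_ne_one C).resolve_left (hS.ne_bot C hC)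
  have hnorc : ∀ u ∈ U, ∀ c ∈ C, c ≠ 1 → u * c ≠ 1 := fun u hu c hc hc1 e => by
    have h1 : c ∈ U := by rw [eq_inv_of_mul_eq_one_right e]; exact inv_mem hu
    exact hCU (huniq hC hU hc h1 hc1)
  -- commutator case with `P`
  obtain ⟨hDS, hcD, -, -⟩ : Cfsg.RootCommutatorCase S C P := by
    rcases hS.pair C hC P hP with h | h | h
    · exfalso
      refine central_translate hS hU hP hUP (z := c₀) (fun y hy => ?_) hc₀1 hu₀ hu₀1
        (hroot _ (mul_mem (hCL hc₀) (hUL hu₀)) ?_)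
      · exact Subgroup.mem_centralizer_singleton_iff.1 ((sup_le
          (fun w hw => Subgroup.mem_centralizer_singleton_iff.2 (hUC w hw c₀ hc₀))
          (fun w hw => Subgroup.mem_centralizer_singleton_iff.2 (commute_of_bot h hc₀ hw).symm) :
          U ⊔ P ≤ Subgroup.centralizer {c₀}) hy)
      · rw [← hUC u₀ hu₀ c₀ hc₀]; exact hnorc u₀ hu₀ c₀ hc₀ hc₀1
    · exact absurd h hCP
    · exact h
  set D := ⁅C, P⁆ with hDd
  have hDC : ∀ d ∈ D, ∀ c ∈ C, d * c = c * d := fun d hd c hc => hcD d hd c (Subgroup.mem_sup_left hc)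
  have hDP : ∀ d ∈ D, ∀ p ∈ P, d * p = p * d := fun d hd p hp => hcD d hd p (Subgroup.mem_sup_right hp)
  have hnDU : ¬ Cfsg.IsRankOnePair U D := fun h => by
    refine central_translate hS hU hDS h (z := c₀) (fun y hy => ?_) hc₀1 hu₀ hu₀1
      (hroot _ (mul_mem (hCL hc₀) (hUL hu₀)) ?_)
    · exact Subgroup.mem_centralizer_singleton_iff.1 ((sup_le
        (fun w hw => Subgroup.mem_centralizer_singleton_iff.2 (hUC w hw c₀ hc₀))
        (fun w hw => Subgroup.mem_centralizer_singleton_iff.2 (hDC w hw c₀ hc₀)) :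
        U ⊔ D ≤ Subgroup.centralizer {c₀}) hy)
    · rw [← hUC u₀ hu₀ c₀ hc₀]; exact hnorc u₀ hu₀ c₀ hc₀ hc₀1
  set E := ⁅D, U⁆ with hEd
  obtain ⟨hEU, hEcase⟩ := commutator_comm hS hDS hU (fun h => hnDU (Cfsg.RankOnePair_symm h))
  obtain ⟨hED, -⟩ := commutator_comm hS hU hDS hnDU
  replace hED : ∀ e ∈ E, ∀ d ∈ D, e * d = d * e := fun e he d hd =>
    hED e (Subgroup.commutator_comm D U ▸ he) d hd
  have hEc : ∀ d ∈ D, ∀ u ∈ U, d * u * d⁻¹ * u⁻¹ ∈ E := fun d hd u hu => Subgroup.commutator_mem_commutator hd hu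
  have hcl : ∀ d ∈ D, Cfsg.conjBy U d ≤ U ⊔ E := by
    rintro d hd _ ⟨u, hu, rfl⟩
    show d * u * d⁻¹ ∈ _
    rw [show d * u * d⁻¹ = (d * u * d⁻¹ * u⁻¹) * u by group]
    exact mul_mem (Subgroup.mem_sup_right (hEc d hd u hu)) (Subgroup.mem_sup_left hu)
  have hclc : ∀ d ∈ D, ∀ w ∈ Cfsg.conjBy U d, ∀ u ∈ U, w * u = u * w := fun d hd w hw u hu =>
    Subgroup.mem_centralizer_singleton_iff.1 ((sup_le
      (fun s hs => Subgroup.mem_centralizer_singleton_iff.2 (mul_comm_of_mem hS hU hs hu))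
      (fun s hs => Subgroup.mem_centralizer_singleton_iff.2 (hEU s hs u hu)) :
      U ⊔ E ≤ Subgroup.centralizer {u}) (hcl d hd hw))
  -- members through `U C`
  have claim : ∀ u ∈ U, u ≠ 1 → ∀ c ∈ C, c ≠ 1 → ∀ M ∈ S, M ≤ L → u * c ∈ M → ∃ d ∈ D, Cfsg.conjBy U d = M := by
    intro u hu hu1 c hc hc1 M hM hML hxM
    have hMP : Cfsg.IsRankOnePair M P := by
      by_contra hn
      exact line_avoid hS hU hP hM hC hUP hn hCP hu hu1 hxM (inv_mem hc) (by group)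
    obtain ⟨p1, hp1, -, e1⟩ := hUP.cond_left u hu hu1
    obtain ⟨p2, hp2, -, e2⟩ := hMP.cond_left _ hxM (hnorc u hu c hc hc1)
    set k := p1 * c⁻¹ * p1⁻¹ * c with hk
    have hkD : k ∈ D := by
      have := Subgroup.commutator_mem_commutator (inv_mem hc) hp1
      have h2 := inv_mem this
      rw [commutatorElement_inv, commutatorElement_def, inv_inv] at h2
      exact h2
    have e3 : Cfsg.conjBy M p2⁻¹ = Cfsg.conjBy U (p1⁻¹ * k) := by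
      rw [e2, show (u * c)⁻¹ = c⁻¹ * u⁻¹ by group, ← conjBy_conjBy, ← e1, conjBy_conjBy,
        show c⁻¹ * p1⁻¹ = p1⁻¹ * k * c⁻¹ by rw [hk]; group, ← conjBy_conjBy]
      rw [conjBy_of_commute (g := c⁻¹) fun w hw => ((show Commute w c from hUC w hw c hc).inv_right).eq.symm]
    rw [conjBy_eq_iff, inv_inv, conjBy_conjBy] at e3
    set q := p2 * p1⁻¹ with hq
    have hqP : q ∈ P := mul_mem hp2 (inv_mem hp1)
    rw [show p2 * (p1⁻¹ * k) = k * q by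
      rw [hq, ← mul_assoc, ← hq]; exact (hDP k hkD q hqP).symm] at e3
    clear_value k q
    refine ⟨k, hkD, ?_⟩
    by_cases en : Cfsg.conjBy U q = U
    · rw [e3, ← conjBy_conjBy, en]
    exfalso
    have hq' := conj_mem_unipotent hUP (left_mem hUP) (Subgroup.mem_sup_right hqP)
    -- `U` and its conjugate generate the rank one group
    have hPle : P ≤ U ⊔ Cfsg.conjBy U q := by
      obtain ⟨y, hy, hy1, hy2⟩ := exists_conj_pair hUP (left_mem hUP) hq' (Ne.symm en)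
      intro p hp
      have h1 : y⁻¹ * p * y ∈ U ⊔ P := mul_mem (mul_mem (inv_mem hy) (Subgroup.mem_sup_right hp)) hy
      have h2 : p ∈ Cfsg.conjBy (U ⊔ P) y := mem_conjBy.2 h1
      rw [Cfsg.conjBy, Subgroup.map_sup] at h2
      change p ∈ Cfsg.conjBy U y ⊔ Cfsg.conjBy P y at h2
      rwa [hy1, hy2] at h2
    have hcen : ∀ w ∈ Cfsg.conjBy U k⁻¹, ∀ p ∈ P, p * w = w * p := by
      intro w hw p hp
      refine Subgroup.mem_centralizer_singleton_iff.1 ((sup_le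
        (fun s hs => Subgroup.mem_centralizer_singleton_iff.2 (hclc k⁻¹ (inv_mem hkD) w hw s hs).symm)
        (fun s hs => Subgroup.mem_centralizer_singleton_iff.2 ?_) :
        U ⊔ Cfsg.conjBy U q ≤ Subgroup.centralizer {w}) (hPle hp))
      have hsM : k * s * k⁻¹ ∈ M := by
        rw [e3, ← conjBy_conjBy]
        exact ⟨s, hs, rfl⟩
      obtain ⟨u', hu', rfl⟩ := hw
      show s * (k⁻¹ * u' * k⁻¹⁻¹) = (k⁻¹ * u' * k⁻¹⁻¹) * s
      have := hLc _ (hML hsM) _ (hUL hu')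
      calc s * (k⁻¹ * u' * k⁻¹⁻¹) = k⁻¹ * ((k * s * k⁻¹) * u') * k := by group
        _ = k⁻¹ * (u' * (k * s * k⁻¹)) * k := by rw [this]
        _ = _ := by group
    refine not_commute_members hUP (left_mem hUP) (right_mem hUP) hUP.ne fun w hw p hp => ?_
    have := hcen (k⁻¹ * w * k⁻¹⁻¹) ⟨w, hw, rfl⟩ p hp
    have hkp : Commute k p := hDP k hkD p hp
    calc w * p = k * ((k⁻¹ * w * k⁻¹⁻¹) * (k⁻¹ * p * k)) * k⁻¹ := by group
      _ = k * ((k⁻¹ * w * k⁻¹⁻¹) * p) * k⁻¹ := by rw [mul_assoc k⁻¹ p k, ← hkp.eq, inv_mul_cancel_left]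
      _ = k * (p * (k⁻¹ * w * k⁻¹⁻¹)) * k⁻¹ := by rw [this]
      _ = (k * p * k⁻¹) * w := by group
      _ = p * w := by rw [hkp.eq, mul_inv_cancel_right]
  -- `E = C`
  have hEC : E = C := by
    obtain ⟨M, hM, hML, hxM⟩ := hcov _ (mul_mem (hUL hu₀) (hCL hc₀)) (hnorc u₀ hu₀ c₀ hc₀ hc₀1)
    obtain ⟨d, hd, rfl⟩ := claim u₀ hu₀ hu₀1 c₀ hc₀ hc₀1 M hM hML hxM
    obtain ⟨w, hw, ew⟩ := hxM
    change d * w * d⁻¹ = u₀ * c₀ at ew
    set e := d * w * d⁻¹ * w⁻¹ with he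
    have heE : e ∈ E := hEc d hd w hw
    have hee : e = (u₀ * w⁻¹) * c₀ := by
      rw [he, ew, mul_assoc u₀ c₀, ← hUC _ (inv_mem hw) c₀ hc₀, ← mul_assoc]
    have he1 : e ≠ 1 := hee ▸ hnorc _ (mul_mem hu₀ (inv_mem hw)) c₀ hc₀ hc₀1
    have hES : E ∈ S := hEcase.resolve_left (fun h => he1 (Subgroup.mem_bot.1 (h ▸ heE : e ∈ (⊥ : Subgroup G)))) |>.1
    have heL : e ∈ L := hee ▸ mul_mem (hUL (mul_mem hu₀ (inv_mem hw))) (hCL hc₀)
    obtain ⟨M', hM', hML', heM⟩ := hcov e heL he1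
    have hEM : E = M' := huniq hES hM' heE heM he1
    by_cases hu'' : u₀ * w⁻¹ = 1
    · refine huniq hES hC heE ?_ he1
      rw [hee, hu'', one_mul]; exact hc₀
    exfalso
    obtain ⟨d', hd', ed'⟩ := claim _ (mul_mem hu₀ (inv_mem hw)) hu'' c₀ hc₀ hc₀1 M' hM' hML' (hee ▸ heM)
    have hUE : U = E := by
      have h1 : Cfsg.conjBy E d'⁻¹ = E := conjBy_of_commute fun s hs => (hED s hs d'⁻¹ (inv_mem hd')).symm
      rw [hEM, ← ed'] at h1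
      rw [conjBy_conjBy, inv_mul_cancel, conjBy_one] at h1
      rw [h1, ed', hEM]
    apply hS.ne_bot _ hES
    rw [Subgroup.eq_bot_iff_forall]
    have h0 : E ≤ ⊥ := Subgroup.commutator_le.2 fun s hs r hr => Subgroup.mem_bot.2
      (commutatorElement_eq_one_iff_mul_comm.2 (hED r (hUE ▸ hr) s hs).symm)
    exact fun z hz => Subgroup.mem_bot.1 (h0 hz)
  -- the line is `U C`
  have hVUC : V ≤ U ⊔ C := by
    obtain ⟨u, hu, c, hc, e⟩ := comm_decomp hUC v hvd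
    by_cases hc1 : c = 1
    · exact absurd (huniq hU hV (by rw [e, hc1, mul_one]; exact hu) hv hv1) hUV
    by_cases hu1 : u = 1
    · exact (huniq hV hC hv (by rw [e, hu1, one_mul]; exact hc) hv1).le.trans le_sup_right
    obtain ⟨d, hd, rfl⟩ := claim u hu hu1 c hc hc1 V hV hVL (e ▸ hv)
    exact hEC ▸ hcl d hd
  have hUCL : U ⊔ C = L := le_antisymm (sup_le hUL hCL) (hgen ▸ sup_le le_sup_left hVUC)
  exact ⟨C, hC, hCU, hUCL, hDS, by rw [Subgroup.commutator_comm]; exact hEC⟩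

theorem cj_mul (g x y : G) : g * (x * y) * g⁻¹ = (g * x * g⁻¹) * (g * y * g⁻¹) := by group

end

/-- Let S be a non-degenerate class of abstract root subgroups of G, A ∈ S and B a rank one partner of A. Then some line partner C of A has ⁅B, C⁆ ∈ S, and the rank one pair A, B is special. -/
theorem result {G : Type*} [Group G] {S : Set (Subgroup G)} (hS : Cfsg.IsRootSubgroupClass S) (hnd : Cfsg.IsNondegenerateRootSet S)
    {A B : Subgroup G} (hA : A ∈ S) (hB : B ∈ Cfsg.rankOnePartners S A) :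
    (∃ C ∈ Cfsg.linePartners S A, C ∈ Cfsg.commutatorPartners S B) ∧ Cfsg.IsSpecialRankOnePair A B := by
  obtain ⟨hBS, hAB⟩ := hB
  have hset := hS.1
  -- a pair in the commutator case gives a line partner
  obtain ⟨A₀, hA₀, B₀, hB₀, hc₀⟩ := hnd.2.2
  obtain ⟨P₁, hP₁, Q₁, hQ₁, hr₁⟩ := hnd.2.1
  have hF : ∀ X ∈ S, ¬ Cfsg.IsIsolatedIn (Cfsg.FAdj S) S X := by
    intro X hX
    obtain ⟨g, rfl⟩ := hS.2.2 P₁ hP₁ X hX
    exact not_isolated hset (hset.conj_mem P₁ hP₁ g) (hset.conj_mem Q₁ hQ₁ g) (pair_conj hr₁ g)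
  obtain ⟨-, -, hline, -⟩ := S5029.result hset (hF A₀ hA₀) hA₀ hB₀ hc₀.1
  obtain ⟨⟨-, hA₀C, hbot⟩, -, hpcov, -⟩ := hline
  obtain ⟨g, eg⟩ := hS.2.2 _ hc₀.1 A hA
  set V := Cfsg.conjBy A₀ g with hVd
  set L := A ⊔ V with hL
  have hLeq : L = Cfsg.conjBy (⁅A₀, B₀⁆ ⊔ A₀) g := by
    rw [hL, eg, hVd]; exact (S5036.conjBy_sup _ _ g).symm
  have hVS : V ∈ S := hset.conj_mem A₀ hA₀ g
  have hAV : A ≠ V := fun e => hA₀C (conjBy_inj (g := g) (e.symm.trans eg : Cfsg.conjBy A₀ g = _))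
  have hcov : ∀ x ∈ L, x ≠ 1 → ∃ M ∈ S, M ≤ L ∧ x ∈ M := by
    intro x hx hx1
    rw [hLeq] at hx
    obtain ⟨y, hy, rfl⟩ := hx
    obtain ⟨M, ⟨hM, hMle⟩, hyM⟩ := hpcov y hy (fun e => hx1 (by rw [e]; exact map_one _))
    exact ⟨_, hset.conj_mem M hM g, hLeq ▸ Subgroup.map_mono hMle, ⟨y, hyM, rfl⟩⟩
  have hLc : ∀ x ∈ L, ∀ y ∈ L, x * y = y * x := by
    have h0 : ∀ u ∈ ⁅A₀, B₀⁆, ∀ v ∈ A₀, u * v = v * u := fun u hu v hv => commute_of_bot hbot hu hv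
    rw [hLeq]
    rintro _ ⟨x, hx, rfl⟩ _ ⟨y, hy, rfl⟩
    rw [← map_mul, ← map_mul]
    congr 1
    obtain ⟨a, ha, b, hb, rfl⟩ := comm_decomp h0 x hx
    obtain ⟨a', ha', b', hb', rfl⟩ := comm_decomp h0 y hy
    exact (((show Commute a a' from mul_comm_of_mem hset hc₀.1 ha ha').mul_right (h0 a ha b' hb')).mul_left
      ((show Commute a' b from h0 a' ha' b hb).symm.mul_right (mul_comm_of_mem hset hA₀ hb hb'))).eq
  obtain ⟨C, hC, hCA, hACL, hDS, hE⟩ := exceptional hset hF hLc hcov hA hVS hAV hL.symm hBS hAB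
  have hCL : C ≤ L := hACL ▸ le_sup_right
  have hAL : A ≤ L := hACL ▸ le_sup_left
  have hACbot : ⁅A, C⁆ = ⊥ := by
    rw [eq_bot_iff, Subgroup.commutator_le]
    exact fun u hu c hc => Subgroup.mem_bot.2 (commutatorElement_eq_one_iff_mul_comm.2 (hLc u (hAL hu) c (hCL hc)))
  refine ⟨⟨C, ⟨⟨hC, hCA, hACbot⟩, ?_⟩, hC, by rw [Subgroup.commutator_comm]; exact hDS⟩, hAB, ?_⟩
  · rw [hACL]
    refine ⟨fun M hM => hM.2, fun x hx hx1 => ?_, fun M hM N hN hne => ?_⟩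
    · obtain ⟨M, hM, hML, hxM⟩ := hcov x hx hx1
      exact ⟨M, ⟨hM, hML⟩, hxM⟩
    · exact (inf_bot_or_eq hset (hF M hM.1) hM.1 hN.1).resolve_right hne
  intro a ha ha1 b hb hb1 hab
  set D := ⁅C, B⁆ with hDd
  have hd : S5036.Data S C B D A := ⟨hC, hBS, hDS, hA, rfl, hE, S5030.comm_case hset hC hBS hDS,
    S5030.comm_case hset hA hDS (hE.symm ▸ hC)⟩
  have hd' := hd.symm hset
  have haX : a ∈ B ⊔ A := Subgroup.mem_sup_right ha
  have hbX : b ∈ B ⊔ A := Subgroup.mem_sup_left hb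
  -- the condition on fixed points
  have hcd : Cfsg.conjBy C b⁻¹ = Cfsg.conjBy D a⁻¹ := by
    ext y
    rw [S5036.fix_conj hset hd b⁻¹ (inv_mem hbX), S5036.fix_conj hset hd' a⁻¹ (sup_comm B A ▸ inv_mem haX), hab,
      sup_comm C D]
  have cCD : ∀ c ∈ C, ∀ d ∈ D, c * d = d * c := S5036.aC hset hd
  have cBD : ∀ d ∈ D, b * d * b⁻¹ = d := fun d hdD => by rw [S5036.bC hset hd b hb d hdD, mul_inv_cancel_right]
  have cBD' : ∀ d ∈ D, b⁻¹ * d * b = d := fun d hdD => by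
    rw [S5036.bC hset hd b⁻¹ (inv_mem hb) d hdD, inv_mul_cancel_right]
  have cAC : ∀ c ∈ C, a * c * a⁻¹ = c := fun c hc => by rw [S5036.dA hset hd a ha c hc, mul_inv_cancel_right]
  have cAC' : ∀ c ∈ C, a⁻¹ * c * a = c := fun c hc => by
    rw [S5036.dA hset hd a⁻¹ (inv_mem ha) c hc, inv_mul_cancel_right]
  have huniq : ∀ c ∈ C, ∀ c' ∈ C, ∀ d ∈ D, ∀ d' ∈ D, c * d = c' * d' → c = c' ∧ d = d' := by
    intro c hc c' hc' d hd0 d' hd0' e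
    have e2 : c'⁻¹ * c = d' * d⁻¹ := by
      calc c'⁻¹ * c = c'⁻¹ * (c * d) * d⁻¹ := by group
        _ = d' * d⁻¹ := by rw [e]; group
    have h1 := S5036.inf_bot hset hd _ (mul_mem (inv_mem hc') hc) (e2 ▸ mul_mem hd0' (inv_mem hd0))
    have e3 : c = c' := (inv_mul_eq_one.1 h1).symm
    exact ⟨e3, mul_left_cancel (e3 ▸ e)⟩
  have hδ : ∀ c ∈ C, b * c * b⁻¹ * c⁻¹ ∈ D := fun c hc => S5036.bcomm hset hd b hb c hc
  have hα : ∀ d ∈ D, a * d * a⁻¹ * d⁻¹ ∈ C := fun d hdD => hE ▸ Subgroup.commutator_mem_commutator ha hdD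
  have mixed : ∀ c ∈ C, ∀ d ∈ D, b⁻¹ * c * b = a⁻¹ * d * a →
      a * d⁻¹ * a⁻¹ * d = c ∧ b * c⁻¹ * b⁻¹ * c = d := by
    intro c hc d hdD e
    have l1 : b⁻¹ * c * b = c * (b * c * b⁻¹ * c⁻¹)⁻¹ := by
      have h1 := cBD' _ (hδ c hc)
      have h2 := cCD c hc _ (inv_mem (hδ c hc))
      calc b⁻¹ * c * b = b⁻¹ * ((b * c * b⁻¹ * c⁻¹)⁻¹ * (b * c * b⁻¹)) * b := by group
        _ = (b⁻¹ * (b * c * b⁻¹ * c⁻¹) * b)⁻¹ * c := by group
        _ = _ := by rw [h1, h2]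
    have l2 : a⁻¹ * d * a = (a * d * a⁻¹ * d⁻¹)⁻¹ * d := by
      have h1 := cAC' _ (hα d hdD)
      calc a⁻¹ * d * a = (a⁻¹ * (a * d * a⁻¹ * d⁻¹) * a)⁻¹ * d := by group
        _ = _ := by rw [h1]
    rw [l1, l2] at e
    obtain ⟨e1, e2⟩ := huniq c hc _ (inv_mem (hα d hdD)) _ (inv_mem (hδ c hc)) d hdD e
    have hcomm1 := cCD _ (hα d hdD) d hdD
    constructor
    · calc a * d⁻¹ * a⁻¹ * d = d⁻¹ * (a * d * a⁻¹ * d⁻¹)⁻¹ * d := by group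
        _ = (a * d * a⁻¹ * d⁻¹)⁻¹ * d⁻¹ * d := by rw [← cCD _ (inv_mem (hα d hdD)) d⁻¹ (inv_mem hdD)]
        _ = c := by rw [inv_mul_cancel_right, ← e1]
    · calc b * c⁻¹ * b⁻¹ * c = c⁻¹ * ((b * c * b⁻¹ * c⁻¹)⁻¹ * c) := by group
        _ = c⁻¹ * (c * (b * c * b⁻¹ * c⁻¹)⁻¹) := by rw [cCD c hc _ (inv_mem (hδ c hc))]
        _ = d := by rw [inv_mul_cancel_left, e2]
  have H1 : ∀ c ∈ C, a * (b * c * b⁻¹ * c⁻¹) * a⁻¹ = (b * c * b⁻¹ * c⁻¹) * c := by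
    intro c hc
    obtain ⟨d, hdD, e⟩ : b⁻¹ * c * b⁻¹⁻¹ ∈ Cfsg.conjBy D a⁻¹ := hcd ▸ ⟨c, hc, rfl⟩
    change a⁻¹ * d * a⁻¹⁻¹ = b⁻¹ * c * b⁻¹⁻¹ at e
    rw [inv_inv, inv_inv] at e
    obtain ⟨e1, e2⟩ := mixed c hc d hdD e.symm
    have e3 : (b * c * b⁻¹ * c⁻¹) = d⁻¹ := by
      have h2 := cCD c⁻¹ (inv_mem hc) _ (hδ c hc)
      calc b * c * b⁻¹ * c⁻¹ = ((b * c⁻¹ * b⁻¹ * c))⁻¹ := by
            rw [show (b * c⁻¹ * b⁻¹ * c)⁻¹ = c⁻¹ * (b * c * b⁻¹ * c⁻¹) * c by group, h2, inv_mul_cancel_right]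
        _ = d⁻¹ := by rw [e2]
    rw [e3]
    calc a * d⁻¹ * a⁻¹ = (a * d⁻¹ * a⁻¹ * d) * d⁻¹ := by group
      _ = c * d⁻¹ := by rw [e1]
      _ = d⁻¹ * c := cCD c hc _ (inv_mem hdD)
  have H2 : ∀ d ∈ D, b * (a * d * a⁻¹ * d⁻¹) * b⁻¹ = (a * d * a⁻¹ * d⁻¹) * d := by
    intro d hdD
    obtain ⟨c, hc, e⟩ : a⁻¹ * d * a⁻¹⁻¹ ∈ Cfsg.conjBy C b⁻¹ := hcd.symm ▸ ⟨d, hdD, rfl⟩
    change b⁻¹ * c * b⁻¹⁻¹ = a⁻¹ * d * a⁻¹⁻¹ at e
    rw [inv_inv, inv_inv] at e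
    obtain ⟨e1, e2⟩ := mixed c hc d hdD e
    have e3 : a * d * a⁻¹ * d⁻¹ = c⁻¹ := by
      have h2 := cCD _ (hα d hdD) d hdD
      calc a * d * a⁻¹ * d⁻¹ = (a * d⁻¹ * a⁻¹ * d)⁻¹ := by
            rw [show (a * d⁻¹ * a⁻¹ * d)⁻¹ = d⁻¹ * ((a * d * a⁻¹ * d⁻¹) * d) by group, h2, inv_mul_cancel_left]
        _ = c⁻¹ := by rw [e1]
    rw [e3]
    calc b * c⁻¹ * b⁻¹ = (b * c⁻¹ * b⁻¹ * c) * c⁻¹ := by group
      _ = d * c⁻¹ := by rw [e2]
      _ = c⁻¹ * d := (cCD _ (inv_mem hc) d hdD).symm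
  set x := b⁻¹ * a * b with hx
  set y := a⁻¹ * b⁻¹ * a with hy
  set z := y⁻¹ * x with hz
  have hzX : z ∈ B ⊔ A := mul_mem (inv_mem (mul_mem (mul_mem (inv_mem haX) (inv_mem hbX)) haX))
    (mul_mem (mul_mem (inv_mem hbX) haX) hbX)
  have hagree : ∀ n ∈ C ⊔ D, x * n * x⁻¹ = y * n * y⁻¹ := by
    have hC' : ∀ c ∈ C, x * c * x⁻¹ = y * c * y⁻¹ := by
      intro c hc
      set δ := b * c * b⁻¹ * c⁻¹ with hδd
      have hδD : δ ∈ D := hδ c hc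
      have l1 : b * c * b⁻¹ = c * δ := by
        rw [cCD c hc δ hδD, hδd, inv_mul_cancel_right]
      have l2 : b⁻¹ * c * b = c * δ⁻¹ := by
        calc b⁻¹ * c * b = b⁻¹ * ((b * c * b⁻¹) * δ⁻¹) * b := by rw [l1, mul_inv_cancel_right]
          _ = c * (b⁻¹ * δ⁻¹ * b) := by group
          _ = c * δ⁻¹ := by rw [cBD' _ (inv_mem hδD)]
      have l3 : a⁻¹ * δ⁻¹ * a = δ⁻¹ * c := by
        have h1 : a⁻¹ * δ * a = δ * c⁻¹ := by
          calc a⁻¹ * δ * a = a⁻¹ * ((δ * c) * c⁻¹) * a := by group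
            _ = a⁻¹ * ((a * δ * a⁻¹) * c⁻¹) * a := by rw [H1 c hc]
            _ = δ * (a⁻¹ * c⁻¹ * a) := by group
            _ = δ * c⁻¹ := by rw [cAC' _ (inv_mem hc)]
        calc a⁻¹ * δ⁻¹ * a = (a⁻¹ * δ * a)⁻¹ := by group
          _ = c * δ⁻¹ := by rw [h1]; group
          _ = δ⁻¹ * c := cCD c hc _ (inv_mem hδD)
      calc x * c * x⁻¹ = b⁻¹ * ((a * (b * c * b⁻¹) * a⁻¹)) * b := by rw [hx]; group
        _ = b⁻¹ * ((a * c * a⁻¹) * (a * δ * a⁻¹)) * b := by rw [l1]; group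
        _ = b⁻¹ * (c * (δ * c)) * b := by rw [cAC c hc, H1 c hc]
        _ = (b⁻¹ * c * b) * ((b⁻¹ * δ * b) * (b⁻¹ * c * b)) := by group
        _ = c * δ⁻¹ * (δ * (c * δ⁻¹)) := by rw [l2, cBD' δ hδD]
        _ = c * (c * δ⁻¹) := by group
        _ = c * (δ⁻¹ * c) := by rw [cCD c hc _ (inv_mem hδD)]
        _ = (a⁻¹ * c * a) * (a⁻¹ * δ⁻¹ * a) := by rw [cAC' c hc, l3]
        _ = a⁻¹ * (b⁻¹ * c * b) * a := by rw [l2]; group
        _ = y * c * y⁻¹ := by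
          conv_lhs => rw [← cAC c hc]
          rw [hy]; group
    have hD' : ∀ d ∈ D, x * d * x⁻¹ = y * d * y⁻¹ := by
      intro d hdD
      set α := a * d * a⁻¹ * d⁻¹ with hαd
      have hαC : α ∈ C := hα d hdD
      have l1 : a * d * a⁻¹ = α * d := by rw [hαd, inv_mul_cancel_right]
      have l2 : b⁻¹ * α * b = α * d⁻¹ := by
        calc b⁻¹ * α * b = b⁻¹ * ((α * d) * d⁻¹) * b := by group
          _ = b⁻¹ * ((b * α * b⁻¹) * d⁻¹) * b := by rw [H2 d hdD]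
          _ = α * (b⁻¹ * d⁻¹ * b) := by group
          _ = α * d⁻¹ := by rw [cBD' _ (inv_mem hdD)]
      calc x * d * x⁻¹ = b⁻¹ * (a * (b * d * b⁻¹) * a⁻¹) * b := by rw [hx]; group
        _ = b⁻¹ * (α * d) * b := by rw [cBD d hdD, l1]
        _ = (b⁻¹ * α * b) * (b⁻¹ * d * b) := by group
        _ = α := by rw [l2, cBD' d hdD, inv_mul_cancel_right]
        _ = a⁻¹ * α * a := (cAC' α hαC).symm
        _ = a⁻¹ * ((b⁻¹ * α * b) * (b⁻¹ * d * b)) * a := by rw [l2, cBD' d hdD, inv_mul_cancel_right]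
        _ = a⁻¹ * (b⁻¹ * (α * d) * b) * a := by group
        _ = a⁻¹ * (b⁻¹ * (a * d * a⁻¹) * b) * a := by rw [l1]
        _ = y * d * y⁻¹ := by rw [hy]; group
    intro n hn
    obtain ⟨c, hc, d, hdD, rfl⟩ := S5036.decomp hset hd n hn
    rw [cj_mul, cj_mul y, hC' c hc, hD' d hdD]
  have hzfix : ∀ n ∈ C ⊔ D, z * n = n * z := fun n hn => by
    have := hagree n hn
    calc z * n = y⁻¹ * (x * n * x⁻¹) * x := by rw [hz]; group
      _ = n * z := by rw [this, hz]; group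
  have k1 := S5036.kernel hset hd z hzX hzfix
  -- a central element of a unipotent subgroup is trivial
  have hxA : x ∈ Cfsg.conjBy A b⁻¹ := mem_conjBy.2 (by
    rw [hx, show (b⁻¹)⁻¹ * (b⁻¹ * a * b) * b⁻¹ = a by group]; exact ha)
  rw [hab] at hxA
  obtain ⟨β, hβ, eβ⟩ := hxA
  change a⁻¹ * β * a⁻¹⁻¹ = x at eβ
  have k1' := S5036.kernel hset hd' z (sup_comm B A ▸ hzX) (fun n hn => hzfix n (sup_comm D C ▸ hn))
  have hw : a * z * a⁻¹ = z := by rw [← k1' a ha, mul_inv_cancel_right]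
  have hzB : z ∈ B := by
    have e : z = b * β := by
      calc z = a * z * a⁻¹ := hw.symm
        _ = a * (y⁻¹ * (a⁻¹ * β * a⁻¹⁻¹)) * a⁻¹ := by rw [eβ, ← hz]
        _ = b * β := by rw [hy]; group
    rw [e]; exact mul_mem hb hβ
  have hz1 : z = 1 := eq_one_of_centralizes (Cfsg.RankOnePair_symm hAB) hzB fun u hu => k1' u hu
  exact (inv_mul_eq_one.1 (hz ▸ hz1)).symm

end Cfsg.Agent.S5034
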