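import Cfsg.Statements.S5035
import Cfsg.Agent.Lib.RootGrp.RankOne
-- import your own Cfsg.Agent.* helpers here

set_option autoImplicit false
open Cfsg

namespace Cfsg.Agent.S5035

/-- Let S be a set of abstract root subgroups of G whose graph of rank one pairs is connected, and f a homomorphism from G onto a group H. Then either the images of the members of S form a set of abstract root subgroups of H whose graph of rank one pairs is again connected, or H equals the image of a member of S. -/
theorem result {G H : Type*} [Group G] [Group H] {S : Set (Subgroup G)} (hS : Cfsg.IsRootSubgroupSet S)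
    (hc : Cfsg.IsConnectedFamily (Cfsg.FAdj S) S) (f : G →* H) (hf : Function.Surjective f) :
    (Cfsg.IsRootSubgroupSet ((fun A : Subgroup G => A.map f) '' S) ∧
      Cfsg.IsConnectedFamily (Cfsg.FAdj ((fun A : Subgroup G => A.map f) '' S)) ((fun A : Subgroup G => A.map f) '' S)) ∨
    ∃ A ∈ S, A.map f = ⊤ := by
  open Cfsg.Agent.RootGrp in
  by_cases htop : ∃ A ∈ S, A.map f = ⊤
  · exact Or.inr htop
  left
  set S' := (fun A : Subgroup G => A.map f) '' S
  have hgen : (⨆ A ∈ S', A) = ⊤ := by
    rw [iSup_image, ← Subgroup.map_top_of_surjective f hf, ← hS.generates]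
    simp only [Subgroup.map_iSup]
  have hbot_adj : ∀ A B : Subgroup G, Cfsg.FAdj S A B → A.map f = ⊥ → B.map f = ⊥ := by
    intro A B h hA
    obtain ⟨x, -, e⟩ := exists_conj_right h.2.2
    rw [← e, Subgroup.eq_bot_iff_forall]
    rintro _ ⟨_, ⟨a, ha, rfl⟩, rfl⟩
    have : f a ∈ A.map f := Subgroup.mem_map_of_mem f ha
    rw [hA, Subgroup.mem_bot] at this
    show f (x * a * x⁻¹) = 1
    simp [this]
  have hne : ∀ A ∈ S, A.map f ≠ ⊥ := by
    intro A hA hA0
    apply htop
    refine ⟨A, hA, ?_⟩
    have hall : ∀ B, Relation.ReflTransGen (Cfsg.FAdj S) A B → B.map f = ⊥ := by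
      intro B h
      induction h with
      | refl => exact hA0
      | tail _ h1 ih => exact hbot_adj _ _ h1 ih
    rw [hA0, eq_comm, eq_bot_iff, ← hgen]
    exact iSup₂_le fun B ⟨C, hC, e⟩ => by rw [← e]; exact (hall C (hc A hA C hC)).le
  have hcond : ∀ A B : Subgroup G, Cfsg.IsRankOnePair A B → A.map f ≠ B.map f →
      Cfsg.RankOneCondition (A.map f) (B.map f) := by
    rintro A B h hne' _ ⟨a, ha, rfl⟩ ha1
    obtain ⟨b, hb, -, e⟩ := h.cond_left a ha (fun e => ha1 (by rw [e, map_one]))
    have hcomm : ∀ (C : Subgroup G) (x : G), (Cfsg.conjBy C x).map f = Cfsg.conjBy (C.map f) (f x) := by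
      intro C x
      rw [Subgroup.map_map, show Cfsg.conjBy (C.map f) (f x) =
        C.map ((MulAut.conj (f x)).toMonoidHom.comp f) from Subgroup.map_map _ _ _]
      congr 1
      ext y
      simp
    have e' := congrArg (fun C : Subgroup G => C.map f) e
    simp only [hcomm, map_inv] at e'
    refine ⟨f b, Subgroup.mem_map_of_mem f hb, fun hb1 => hne' ?_, e'⟩
    rw [hb1, inv_one, conjBy_one, eq_comm, conjBy_eq_iff, inv_inv,
      conjBy_of_mem (Subgroup.mem_map_of_mem f ha)] at e'
    exact e'.symm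
  have hpair : ∀ A B : Subgroup G, Cfsg.IsRankOnePair A B → A.map f ≠ B.map f →
      Cfsg.IsRankOnePair (A.map f) (B.map f) := by
    intro A B h hne'
    haveI := h.nilpotent_left
    haveI := h.nilpotent_right
    exact ⟨hne', Group.nilpotent_of_surjective _ (f.subgroupMap_surjective A),
      Group.nilpotent_of_surjective _ (f.subgroupMap_surjective B), hcond A B h hne',
      hcond B A (Cfsg.RankOnePair_symm h) hne'.symm⟩
  have hab : ∀ A ∈ S, ⁅A.map f, A.map f⁆ = ⊥ := by
    intro A hA
    rw [← Subgroup.map_commutator, Subgroup.eq_bot_iff_forall]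
    rintro _ ⟨y, hy, rfl⟩
    have h0 : ⁅A, A⁆ ≤ ⊥ := Subgroup.commutator_le.2 fun a ha b hb =>
      Subgroup.mem_bot.2 (commutatorElement_eq_one_iff_mul_comm.2 (mul_comm_of_mem hS hA ha hb))
    rw [Subgroup.mem_bot.1 (h0 hy), map_one]
  refine ⟨⟨?_, ?_, hgen, ?_, ?_⟩, ?_⟩
  · rintro _ ⟨A, hA, rfl⟩
    haveI := hS.commutative A hA
    exact Subgroup.map_isMulCommutative A f
  · rintro _ ⟨A, hA, rfl⟩
    exact hne A hA
  · rintro _ ⟨A, hA, rfl⟩ h
    obtain ⟨g, rfl⟩ := hf h
    refine ⟨Cfsg.conjBy A g, hS.conj_mem A hA g, ?_⟩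
    show (Cfsg.conjBy A g).map f = Cfsg.conjBy (A.map f) (f g)
    rw [Subgroup.map_map, show Cfsg.conjBy (A.map f) (f g) =
      A.map ((MulAut.conj (f g)).toMonoidHom.comp f) from Subgroup.map_map _ _ _]
    congr 1
    ext y
    simp
  · rintro _ ⟨A, hA, rfl⟩ _ ⟨B, hB, rfl⟩
    by_cases he : A.map f = B.map f
    · left
      show ⁅A.map f, B.map f⁆ = ⊥
      rw [← he]; exact hab A hA
    rcases hS.pair A hA B hB with h | h | ⟨hm, hc', hg1, hg2⟩
    · left; show ⁅A.map f, B.map f⁆ = ⊥
      rw [← Subgroup.map_commutator, h, Subgroup.map_bot]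
    · exact Or.inr (Or.inl (hpair A B h he))
    · refine Or.inr (Or.inr ⟨⟨⁅A, B⁆, hm, Subgroup.map_commutator _ _ _⟩, ?_, ?_, ?_⟩)
      · intro c hc'' x hx
        rw [← Subgroup.map_commutator] at hc''
        rw [← Subgroup.map_sup] at hx
        obtain ⟨c', hc1, rfl⟩ := hc''
        obtain ⟨x', hx1, rfl⟩ := hx
        rw [← map_mul, hc' c' hc1 x' hx1, map_mul]
      · rintro _ ⟨a, ha, rfl⟩ ha1
        rw [← Subgroup.map_commutator, ← hg1 a ha (fun e => ha1 (by rw [e, map_one])), MonoidHom.map_closure,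
          Subgroup.coe_map, Set.image_image, Set.image_image]
        congr 1
        ext y; simp
      · rintro _ ⟨b, hb, rfl⟩ hb1
        rw [← Subgroup.map_commutator, ← hg2 b hb (fun e => hb1 (by rw [e, map_one])), MonoidHom.map_closure,
          Subgroup.coe_map, Set.image_image, Set.image_image]
        congr 1
        ext y; simp
  · rintro _ ⟨A, hA, rfl⟩ _ ⟨B, hB, rfl⟩
    have key : ∀ C, Relation.ReflTransGen (Cfsg.FAdj S) A C →
        Relation.ReflTransGen (Cfsg.FAdj S') (A.map f) (C.map f) := by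
      intro C h
      induction h with
      | refl => exact Relation.ReflTransGen.refl
      | @tail C D hAC h1 ih =>
        by_cases he : C.map f = D.map f
        · rw [← he]; exact ih
        · exact ih.tail ⟨⟨C, h1.1, rfl⟩, ⟨D, h1.2.1, rfl⟩, hpair C D h1.2.2 he⟩
    exact key B (hc A hA B hB)

end Cfsg.Agent.S5035
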