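import Cfsg.Statements.S5041
import Cfsg.Agent.Lib.RootGrp.RankOne
import Cfsg.Agent.Lib.RootGrp.Lines
import Cfsg.Agent.S5029
import Cfsg.Agent.S5036
import Cfsg.Agent.S5034
-- import your own Cfsg.Agent.* helpers here

set_option autoImplicit false
open Cfsg

namespace Cfsg.Agent.S5041

/-- Let S be a non-degenerate class of abstract root subgroups of G. Then the graph on S joining A to its line partners, and the commuting graph on S, are both connected. -/
theorem result {G : Type*} [Group G] {S : Set (Subgroup G)} (hS : Cfsg.IsRootSubgroupClass S) (hnd : Cfsg.IsNondegenerateRootSet S) :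
    Cfsg.IsConnectedFamily (Cfsg.EAdj S S) S ∧ Cfsg.IsConnectedFamily (Cfsg.DAdj S) S := by
  open Cfsg.Agent.RootGrp in
  open scoped commutatorElement in
  obtain ⟨hset, -, hconj⟩ := hS
  obtain ⟨P₁, hP₁, Q₁, hQ₁, hr₁⟩ := hnd.2.1
  have hF : ∀ X ∈ S, ¬ Cfsg.IsIsolatedIn (Cfsg.FAdj S) S X := by
    intro X hX
    obtain ⟨g, rfl⟩ := hconj P₁ hP₁ X hX
    exact not_isolated hset (hset.conj_mem P₁ hP₁ g) (hset.conj_mem Q₁ hQ₁ g) (pair_conj hr₁ g)
  have hsymm : ∀ X Y, Cfsg.EAdj S S X Y → Cfsg.EAdj S S Y X := by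
    rintro X Y ⟨hX, hY, ⟨-, hne, hb⟩, hp⟩
    exact ⟨hY, hX, ⟨hX, hne.symm, by rw [Subgroup.commutator_comm]; exact hb⟩, sup_comm X Y ▸ hp⟩
  let Γ : Subgroup G → Subgroup G → Prop := Relation.ReflTransGen (Cfsg.EAdj S S)
  have hback : ∀ X Y, Γ X Y → Γ Y X := by
    intro X Y h
    induction h with
    | refl => exact Relation.ReflTransGen.refl
    | tail _ h' ih => exact Relation.ReflTransGen.head (hsymm _ _ h') ih
  have hcc : ∀ X ∈ S, ∀ Y ∈ S, ⁅X, Y⁆ ∈ S → Γ ⁅X, Y⁆ X := by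
    intro X hX Y hY hZ
    exact Relation.ReflTransGen.single ⟨hZ, hX, (S5029.result hset (hF X hX) hX hY hZ).2.2.1⟩
  have hnoncomm : ∀ X ∈ S, ∀ Y ∈ S, ⁅X, Y⁆ = ⊥ ∨ Γ X Y := by
    intro X hX Y hY
    rcases hset.pair X hX Y hY with h | h | ⟨hZ, -⟩
    · exact Or.inl h
    · right
      obtain ⟨⟨C, hC1, hCS, hYC⟩, -⟩ := S5034.result ⟨hset, ⟨⟨X, hX⟩, hconj⟩⟩ hnd hX ⟨hY, h⟩
      have h1 : Γ X C := Relation.ReflTransGen.single ⟨hX, hCS, hC1⟩
      have h2 : Γ ⁅Y, C⁆ Y := hcc Y hY C hCS hYC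
      have h3 : Γ ⁅C, Y⁆ C := hcc C hCS Y hY (Subgroup.commutator_comm Y C ▸ hYC)
      rw [Subgroup.commutator_comm C Y] at h3
      exact (h1.trans (hback _ _ h3)).trans h2
    · right
      have h2 : Γ ⁅Y, X⁆ Y := hcc Y hY X hX (Subgroup.commutator_comm X Y ▸ hZ)
      rw [Subgroup.commutator_comm Y X] at h2
      exact (hback _ _ (hcc X hX Y hY hZ)).trans h2
  have hEconj : ∀ X Y, ∀ g : G, Cfsg.EAdj S S X Y → Cfsg.EAdj S S (Cfsg.conjBy X g) (Cfsg.conjBy Y g) := by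
    rintro X Y g ⟨hX, hY, ⟨-, hne, hb⟩, hp1, hp2, hp3⟩
    have hX' := hset.conj_mem X hX g
    have hY' := hset.conj_mem Y hY g
    refine ⟨hX', hY', ⟨hY', fun e => hne (conjBy_inj e), ?_⟩, fun M hM => hM.2, fun x hx hx1 => ?_, fun M hM N hN hne' => ?_⟩
    · rw [Cfsg.conjBy, Cfsg.conjBy, ← Subgroup.map_commutator, hb, Subgroup.map_bot]
    · rw [← S5036.conjBy_sup] at hx
      obtain ⟨y, hy, rfl⟩ := hx
      obtain ⟨M, ⟨hM, hMle⟩, hyM⟩ := hp2 y hy (fun e => hx1 (by rw [e]; exact map_one _))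
      exact ⟨_, ⟨hset.conj_mem M hM g, (Subgroup.map_mono hMle).trans (le_of_eq (S5036.conjBy_sup X Y g))⟩, ⟨y, hyM, rfl⟩⟩
    · exact (inf_bot_or_eq hset (hF M hM.1) hM.1 hN.1).resolve_right hne'
  -- conjugation by elements preserves the components
  have hstep : ∀ g : G, ∀ X ∈ S, Γ X (Cfsg.conjBy X g) := by
    intro g
    have hg : g ∈ (⨆ M ∈ S, M) := hset.generates ▸ Subgroup.mem_top g
    rw [iSup_subtype', Subgroup.iSup_eq_closure] at hg
    induction hg using Subgroup.closure_induction with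
    | mem m hm =>
      obtain ⟨⟨M, hM⟩, hmM⟩ := Set.mem_iUnion.1 hm
      intro X hX
      rcases hnoncomm X hX M hM with h | h
      · rw [conjBy_of_commute fun x hx => (commute_of_bot h hx hmM).symm]
      · have h' : Γ (Cfsg.conjBy X m) (Cfsg.conjBy M m) :=
          Relation.ReflTransGen.lift (fun Z => Cfsg.conjBy Z m) (fun a b hab => hEconj a b m hab) X M h
        rw [conjBy_of_mem (A := M) hmM] at h'
        exact h.trans (hback _ _ h')
    | one => intro X _; rw [conjBy_one]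
    | mul p q _ _ hp hq =>
      intro X hX
      rw [← conjBy_conjBy]
      exact (hq X hX).trans (hp _ (hset.conj_mem X hX q))
    | inv p _ hp =>
      intro X hX
      have := hp _ (hset.conj_mem X hX p⁻¹)
      rw [conjBy_conjBy, mul_inv_cancel, conjBy_one] at this
      exact hback _ _ this
  have hE : Cfsg.IsConnectedFamily (Cfsg.EAdj S S) S := by
    intro X hX Y hY
    obtain ⟨g, rfl⟩ := hconj X hX Y hY
    exact hstep g X hX
  refine ⟨hE, fun X hX Y hY => Relation.ReflTransGen.mono ?_ X Y (hE X hX Y hY)⟩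
  rintro U V ⟨hU, hV, ⟨-, hne, hb⟩, -⟩
  exact ⟨hU, hV, hne.symm, hb⟩

end Cfsg.Agent.S5041
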