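import Cfsg.Statements.S5042
import Cfsg.Agent.Lib.RootGrp.RankOne
import Cfsg.Agent.Lib.RootGrp.Lines
import Cfsg.Agent.S5029
import Cfsg.Agent.S5030
import Cfsg.Agent.S5036
import Cfsg.Agent.S5038
import Cfsg.Agent.S5034
import Cfsg.Agent.S5041
-- import your own Cfsg.Agent.* helpers here

set_option autoImplicit false
open Cfsg

namespace Cfsg.Agent.S5042

/-- Let S be a non-degenerate class of abstract root subgroups of G, A ∈ S and B a rank one partner of A. Then G is generated by the line partners of A together with B. -/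
theorem result {G : Type*} [Group G] {S : Set (Subgroup G)} (hS : Cfsg.IsRootSubgroupClass S) (hnd : Cfsg.IsNondegenerateRootSet S)
    {A B : Subgroup G} (hA : A ∈ S) (hB : B ∈ Cfsg.rankOnePartners S A) :
    (⨆ C ∈ Cfsg.linePartners S A, C) ⊔ B = ⊤ := by
  open Cfsg.Agent.RootGrp in
  open scoped commutatorElement in
  obtain ⟨hBS, hAB⟩ := hB
  have hset := hS.1
  obtain ⟨P₁, hP₁, Q₁, hQ₁, hr₁⟩ := hnd.2.1
  have hF : ∀ X ∈ S, ¬ Cfsg.IsIsolatedIn (Cfsg.FAdj S) S X := by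
    intro X hX
    obtain ⟨g, rfl⟩ := hS.2.2 P₁ hP₁ X hX
    exact not_isolated hset (hset.conj_mem P₁ hP₁ g) (hset.conj_mem Q₁ hQ₁ g) (pair_conj hr₁ g)
  set H := (⨆ C ∈ Cfsg.linePartners S A, C) ⊔ B with hH
  have hBH : B ≤ H := le_sup_right
  have hΛ : ∀ C ∈ Cfsg.linePartners S A, C ≤ H := fun C hC =>
    le_sup_of_le_left (le_iSup₂_of_le C hC le_rfl)
  have hlp : ∀ U ∈ S, ∀ V ∈ Cfsg.linePartners S U, ∀ g : G, Cfsg.conjBy V g ∈ Cfsg.linePartners S (Cfsg.conjBy U g) := by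
    rintro U hU V ⟨⟨hV, hne, hb⟩, -, hp2, -⟩ g
    refine ⟨⟨hset.conj_mem V hV g, fun e => hne (conjBy_inj e), ?_⟩, fun M hM => hM.2, fun x hx hx1 => ?_, fun M hM N hN hne' => ?_⟩
    · rw [Cfsg.conjBy, Cfsg.conjBy, ← Subgroup.map_commutator, hb, Subgroup.map_bot]
    · rw [← S5036.conjBy_sup] at hx
      obtain ⟨y, hy, rfl⟩ := hx
      obtain ⟨M, ⟨hM, hMle⟩, hyM⟩ := hp2 y hy (fun e => hx1 (by rw [e]; exact map_one _))
      exact ⟨_, ⟨hset.conj_mem M hM g, (Subgroup.map_mono hMle).trans (le_of_eq (S5036.conjBy_sup U V g))⟩, ⟨y, hyM, rfl⟩⟩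
    · exact (inf_bot_or_eq hset (hF M hM.1) hM.1 hN.1).resolve_right hne'
  have hsymm : ∀ U ∈ S, ∀ V ∈ Cfsg.linePartners S U, U ∈ Cfsg.linePartners S V := by
    rintro U hU V ⟨⟨hV, hne, hb⟩, hp⟩
    exact ⟨⟨hU, hne.symm, by rw [Subgroup.commutator_comm]; exact hb⟩, sup_comm U V ▸ hp⟩
  -- commutator pairs
  have hcase : ∀ U ∈ S, ∀ V ∈ S, ∀ W ∈ S, ⁅U, V⁆ = W →
      U ∈ Cfsg.linePartners S W ∧ Cfsg.membersIn S (U ⊔ W) = (fun b : G => Cfsg.conjBy U b) '' (V : Set G) ∪ {W} := by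
    intro U hU V hV W hW e
    subst e
    obtain ⟨h1, -, h3, -⟩ := S5029.result hset (hF U hU) hU hV hW
    exact ⟨h3, h1⟩
  -- `A` lies in `H`
  have third : ∀ U ∈ S, ∀ V ∈ Cfsg.linePartners S U, ∀ u ∈ U, u ≠ 1 → ∀ v ∈ V, v ≠ 1 →
      ∃ M ∈ Cfsg.membersIn S (U ⊔ V), u * v ∈ M ∧ M ≠ U ∧ M ≠ V := by
    rintro U hU V ⟨⟨hV, hne, -⟩, -, hcov, -⟩ u hu hu1 v hv hv1
    have hbot : U ⊓ V = ⊥ := (inf_bot_or_eq hset (hF U hU) hU hV).resolve_right hne.symm
    have h1 : u * v ≠ 1 := fun e => hu1 (Subgroup.mem_bot.1 (hbot ▸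
      (⟨hu, (show u ∈ V by rw [eq_inv_of_mul_eq_one_left e]; exact inv_mem hv)⟩ : u ∈ U ⊓ V)))
    obtain ⟨M, hM, hx⟩ := hcov _ (mul_mem (Subgroup.mem_sup_left hu) (Subgroup.mem_sup_right hv)) h1
    refine ⟨M, hM, hx, fun e => hv1 (Subgroup.mem_bot.1 (hbot ▸ (⟨?_, hv⟩ : v ∈ U ⊓ V))),
      fun e => hu1 (Subgroup.mem_bot.1 (hbot ▸ (⟨hu, ?_⟩ : u ∈ U ⊓ V)))⟩
    · subst e
      have := mul_mem (inv_mem hu) hx
      rwa [inv_mul_cancel_left] at this
    · subst e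
      have := mul_mem hx (inv_mem hv)
      rwa [mul_inv_cancel_right] at this
  obtain ⟨⟨C₀, hC₀, -, -⟩, -⟩ := S5034.result hS hnd hA ⟨hBS, hAB⟩
  obtain ⟨a₀, ha₀, ha₀1⟩ := exists_left hAB
  obtain ⟨c₀, hc₀, hc₀1⟩ := (Subgroup.bot_or_exists_ne_one C₀).resolve_left (hset.ne_bot C₀ hC₀.1.1)
  have hAH : A ≤ H := by
    intro a ha
    by_cases ha1 : a = 1
    · rw [ha1]; exact one_mem _
    obtain ⟨M, ⟨hM, hML⟩, hx, hMA, hMC⟩ := third A hA C₀ hC₀ a ha ha1 c₀ hc₀ hc₀1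
    have hMp : M ∈ Cfsg.linePartners S A := by
      obtain ⟨⟨hC₀S, hne, hb⟩, hpart⟩ := hC₀
      have hAMc : ⁅A, M⁆ = ⊥ := by
        rw [eq_bot_iff, Subgroup.commutator_le]
        intro u hu w hw
        refine Subgroup.mem_bot.2 (commutatorElement_eq_one_iff_mul_comm.2 ?_)
        exact (Subgroup.mem_centralizer_singleton_iff.1 ((sup_le
          (fun v hv => Subgroup.mem_centralizer_singleton_iff.2 (mul_comm_of_mem hset hA hv hu))
          (fun v hv => Subgroup.mem_centralizer_singleton_iff.2 (commute_of_bot hb hu hv).symm) :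
          A ⊔ C₀ ≤ Subgroup.centralizer {u}) (hML hw))).symm
      refine ⟨⟨hM, hMA, hAMc⟩, fun N hN => hN.2, fun x hx' hx1 => ?_, fun N hN N' hN' hne' => ?_⟩
      · obtain ⟨N, ⟨hN, hNle⟩, hxN⟩ := hpart.2.1 x (sup_le le_sup_left hML hx') hx1
        refine ⟨N, ⟨hN, hNle.trans (sup_le le_sup_left ?_)⟩, hxN⟩
        have hc : c₀ ∈ A ⊔ M := by
          have := mul_mem (Subgroup.mem_sup_left (inv_mem ha) : a⁻¹ ∈ A ⊔ M) (Subgroup.mem_sup_right hx)
          rwa [inv_mul_cancel_left] at this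
        -- the exceptional member generates the line with `A`
        have hLc : ∀ u ∈ A ⊔ C₀, ∀ v ∈ A ⊔ C₀, u * v = v * u := by
          intro u hu v hv
          have h0 : ∀ p ∈ A, ∀ r ∈ C₀, p * r = r * p := fun p hp r hr => commute_of_bot hb hp hr
          obtain ⟨p, hp, r, hr, rfl⟩ := S5038.comm_decomp h0 u hu
          obtain ⟨p', hp', r', hr', rfl⟩ := S5038.comm_decomp h0 v hv
          exact (((show Commute p p' from mul_comm_of_mem hset hA hp hp').mul_right (h0 p hp r' hr')).mul_left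
            ((show Commute p' r from h0 p' hp' r hr).symm.mul_right (mul_comm_of_mem hset hC₀S hr hr'))).eq
        obtain ⟨E, hE, hEA, hAE, hES, hEE⟩ := S5034.exceptional hset hF hLc
          (fun y hy hy1 => by obtain ⟨W, ⟨hW, hWle⟩, hyW⟩ := hpart.2.1 y hy hy1; exact ⟨W, hW, hWle, hyW⟩)
          hA hC₀S hne.symm rfl hBS hAB
        obtain ⟨-, hmemE⟩ := hcase A hA _ hES E hE hEE
        rw [hAE] at hmemE
        -- members generate the line together with `A`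
        have hle : ∀ W ∈ Cfsg.membersIn S (A ⊔ C₀), W ≠ A → C₀ ≤ A ⊔ W := by
          intro W hW hWA
          rw [hmemE] at hW
          rcases hW with ⟨d, hd, rfl⟩ | hW
          · have hcl : ∀ u ∈ A, d * u * d⁻¹ * u⁻¹ ∈ A ⊔ Cfsg.conjBy A d := fun u hu =>
              mul_mem (Subgroup.mem_sup_right ⟨u, hu, rfl⟩) (inv_mem (Subgroup.mem_sup_left hu))
            have hd1 : d ≠ 1 := fun e => hWA (by show Cfsg.conjBy A d = A; rw [e, conjBy_one])
            have hEle : E ≤ A ⊔ Cfsg.conjBy A d := by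
              obtain ⟨-, -, -, hg⟩ := S5030.comm_case hset hA hES (hEE.symm ▸ hE)
              conv_lhs => rw [← hEE, ← hg d hd hd1]
              rw [Subgroup.closure_le]
              rintro _ ⟨u, hu, rfl⟩
              have := inv_mem (hcl u hu)
              rwa [show (d * u * d⁻¹ * u⁻¹)⁻¹ = u * d * u⁻¹ * d⁻¹ by group] at this
            exact (hAE ▸ le_sup_right : C₀ ≤ A ⊔ E).trans (sup_le le_sup_left hEle)
          · rw [Set.mem_singleton_iff.1 hW, hAE]; exact le_sup_right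
        exact hle M ⟨hM, hML⟩ hMA
      · exact (inf_bot_or_eq hset (hF N hN.1) hN.1 hN'.1).resolve_right hne'
    have := mul_mem (hΛ M hMp hx) (inv_mem (hΛ C₀ hC₀ hc₀))
    rwa [mul_inv_cancel_right] at this
  have hXH : A ⊔ B ≤ H := sup_le hAH hBH
  have hHn : ∀ h ∈ H, ∀ U, U ≤ H → Cfsg.conjBy U h ≤ H := by
    rintro h hh U hU _ ⟨u, hu, rfl⟩
    exact mul_mem (mul_mem hh (hU hu)) (inv_mem hh)
  have hΛB : ∀ D ∈ Cfsg.linePartners S B, D ≤ H := by
    intro D hD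
    obtain ⟨x, hx, ex⟩ := exists_conj_right hAB
    have h1 := hlp B hBS D hD x⁻¹
    rw [← ex, conjBy_conjBy, inv_mul_cancel, conjBy_one] at h1
    have h2 := hHn x (hXH hx) _ (hΛ _ h1)
    rwa [conjBy_conjBy, mul_inv_cancel, conjBy_one] at h2
  -- every line partner of `A` is a conjugate of `A` under `H`
  have hnext : ∀ C ∈ Cfsg.linePartners S A, ∃ h ∈ H, C = Cfsg.conjBy A h := by
    intro C hC
    obtain ⟨⟨hCS, hne, hb⟩, hpart⟩ := id hC
    have hLc : ∀ u ∈ A ⊔ C, ∀ v ∈ A ⊔ C, u * v = v * u := by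
      intro u hu v hv
      have h0 : ∀ p ∈ A, ∀ r ∈ C, p * r = r * p := fun p hp r hr => commute_of_bot hb hp hr
      obtain ⟨p, hp, r, hr, rfl⟩ := S5038.comm_decomp h0 u hu
      obtain ⟨p', hp', r', hr', rfl⟩ := S5038.comm_decomp h0 v hv
      exact (((show Commute p p' from mul_comm_of_mem hset hA hp hp').mul_right (h0 p hp r' hr')).mul_left
        ((show Commute p' r from h0 p' hp' r hr).symm.mul_right (mul_comm_of_mem hset hCS hr hr'))).eq
    obtain ⟨E, hE, hEA, hAE, hDS, hED⟩ := S5034.exceptional hset hF hLc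
      (fun y hy hy1 => by obtain ⟨W, ⟨hW, hWle⟩, hyW⟩ := hpart.2.1 y hy hy1; exact ⟨W, hW, hWle, hyW⟩)
      hA hCS hne.symm rfl hBS hAB
    obtain ⟨hAEp, hmem1⟩ := hcase A hA _ hDS E hE hED
    set D := ⁅E, B⁆ with hDd
    have hDH : D ≤ H := by
      have := (hcase B hBS E hE D hDS (by rw [hDd, Subgroup.commutator_comm])).1
      exact hΛB D (hsymm D hDS B this)
    by_cases hCE : C = E
    swap
    · have : C ∈ Cfsg.membersIn S (A ⊔ E) := ⟨hCS, hAE ▸ le_sup_right⟩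
      rw [hmem1] at this
      rcases this with ⟨d, hd, e⟩ | e
      · exact ⟨d, hDH hd, e.symm⟩
      · exact absurd e hCE
    subst hCE
    have hAl : A ∈ Cfsg.membersIn S (A ⊔ C) := ⟨hA, le_sup_left⟩
    have hCl : C ∈ Cfsg.membersIn S (A ⊔ C) := ⟨hCS, le_sup_right⟩
    obtain ⟨g, -, g1, g2⟩ := S5038.result hset hF hA hC A hAl C hCl C hCl A hAl hne.symm hne
    set D2 := Cfsg.conjBy D g with hD2
    have hD2S : D2 ∈ S := hset.conj_mem D hDS g
    have h2e : ⁅C, D2⁆ = A := by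
      rw [← g2, hD2]
      conv_lhs => rw [← g1, Cfsg.conjBy, Cfsg.conjBy, ← Subgroup.map_commutator, hED]
    obtain ⟨-, hmem2⟩ := hcase C hCS D2 hD2S A hA h2e
    have hD2H : D2 ≤ H := by
      have := (hcase D2 hD2S C hCS A hA (by rw [Subgroup.commutator_comm]; exact h2e)).1
      exact hΛ D2 this
    obtain ⟨a, ha, ha1⟩ := exists_left hAB
    obtain ⟨c, hc, hc1⟩ := (Subgroup.bot_or_exists_ne_one C).resolve_left (hset.ne_bot C hCS)
    obtain ⟨M, hM, -, hMA, hMC⟩ := third A hA C hC a ha ha1 c hc hc1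
    have h1 : M ∈ (fun b : G => Cfsg.conjBy A b) '' (D : Set G) ∪ {C} := hmem1 ▸ hM
    have h2 : M ∈ (fun b : G => Cfsg.conjBy C b) '' (D2 : Set G) ∪ {A} := hmem2 ▸ (sup_comm A C ▸ hM)
    rcases h1 with ⟨d, hd, e1⟩ | e1
    swap
    · exact absurd e1 hMC
    rcases h2 with ⟨d2, hd2, e2⟩ | e2
    swap
    · exact absurd e2 hMA
    refine ⟨d2⁻¹ * d, mul_mem (inv_mem (hD2H hd2)) (hDH hd), ?_⟩
    change Cfsg.conjBy A d = M at e1
    change Cfsg.conjBy C d2 = M at e2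
    rw [← conjBy_conjBy, e1, ← e2, conjBy_conjBy, inv_mul_cancel, conjBy_one]
  have hall : ∀ M ∈ S, ∃ h ∈ H, M = Cfsg.conjBy A h := by
    intro M hM
    have hpath := (S5041.result hS hnd).1 A hA M hM
    induction hpath with
    | refl => exact ⟨1, one_mem _, (conjBy_one A).symm⟩
    | tail _ hlast ih =>
      obtain ⟨hU, hV, hUV⟩ := hlast
      obtain ⟨h, hh, rfl⟩ := ih hU
      have h1 := hlp _ hU _ hUV h⁻¹
      rw [conjBy_conjBy, inv_mul_cancel, conjBy_one] at h1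
      obtain ⟨k, hk, e⟩ := hnext _ h1
      refine ⟨h * k, mul_mem hh hk, ?_⟩
      rw [← conjBy_conjBy, ← e, conjBy_conjBy, mul_inv_cancel, conjBy_one]
  rw [← top_le_iff, ← hset.generates]
  refine iSup₂_le fun M hM => ?_
  obtain ⟨h, hh, rfl⟩ := hall M hM
  exact hHn h hh A hAH

end Cfsg.Agent.S5042
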