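import Cfsg.Statements.S5040
import Cfsg.Agent.Lib.RootGrp.RankOne
import Cfsg.Agent.Lib.RootGrp.Lines
import Cfsg.Agent.S5029
import Cfsg.Agent.S5030
import Cfsg.Agent.S5036
import Cfsg.Agent.S5038
import Cfsg.Agent.S5042
-- import your own Cfsg.Agent.* helpers here

set_option autoImplicit false
open Cfsg

namespace Cfsg.Agent.S5040

/-- Let S be a non-degenerate class of abstract root subgroups of G and Δ a weak TI-subset of S. Then the members of Δ commute with one another elementwise. -/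
theorem result {G : Type*} [Group G] {S : Set (Subgroup G)} (hS : Cfsg.IsRootSubgroupClass S) (hnd : Cfsg.IsNondegenerateRootSet S)
    {Δ : Set (Subgroup G)} (hΔ : Cfsg.IsWeakTISubset S Δ) : Cfsg.IsAbelianFamily Δ := by
  open Cfsg.Agent.RootGrp in
  open scoped commutatorElement in
  obtain ⟨hΔS, -, hΔne, hTI⟩ := hΔ
  have hset := hS.1
  obtain ⟨P₁, hP₁, Q₁, hQ₁, hr₁⟩ := hnd.2.1
  have hF : ∀ X ∈ S, ¬ Cfsg.IsIsolatedIn (Cfsg.FAdj S) S X := by
    intro X hX
    obtain ⟨g, rfl⟩ := hS.2.2 P₁ hP₁ X hX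
    exact not_isolated hset (hset.conj_mem P₁ hP₁ g) (hset.conj_mem Q₁ hQ₁ g) (pair_conj hr₁ g)
  let N : Subgroup G :=
    { carrier := {g | ∀ X, X ∈ Δ ↔ Cfsg.conjBy X g ∈ Δ}
      one_mem' := fun X => by rw [conjBy_one]
      mul_mem' := fun {p q} hp hq X => by
        rw [← conjBy_conjBy]; exact (hq X).trans (hp _)
      inv_mem' := fun {p} hp X => by
        have := hp (Cfsg.conjBy X p⁻¹)
        rw [conjBy_conjBy, mul_inv_cancel, conjBy_one] at this
        exact this.symm }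
  -- members commuting with a member of the subset
  have hN : ∀ U ∈ Δ, ∀ M ∈ S, (∀ u ∈ U, ∀ m ∈ M, m * u = u * m) → M ≤ N := by
    intro U hU M hM hc m hm X
    by_cases hm1 : m = 1
    · rw [hm1, conjBy_one]
    rcases hTI m ⟨hm1, M, hM, hm⟩ with h | h
    · constructor
      · intro hX
        rw [← h]; exact ⟨X, hX, rfl⟩
      · intro hX
        rw [← h] at hX
        obtain ⟨Y, hY, e⟩ := hX
        exact conjBy_inj e ▸ hY
    · exfalso
      refine Set.disjoint_left.1 h ⟨U, hU, ?_⟩ hU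
      exact conjBy_of_commute fun u hu => hc u hu m hm
  have hself : ∀ U ∈ Δ, U ≤ N := fun U hU =>
    hN U hU U (hΔS hU) fun u hu m hm => mul_comm_of_mem hset (hΔS hU) hm hu
  have hnoR : ∀ U ∈ Δ, ∀ V ∈ Δ, ¬ Cfsg.IsRankOnePair U V := by
    intro U hU V hV hr
    have htop : N = ⊤ := by
      rw [← top_le_iff, ← S5042.result hS hnd (hΔS hU) ⟨hΔS hV, hr⟩]
      refine sup_le (iSup₂_le fun C hC => ?_) (hself V hV)
      obtain ⟨⟨hCS, -, hb⟩, -⟩ := hC
      exact hN U hU C hCS fun u hu c hc => (commute_of_bot hb hu hc).symm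
    apply hΔne
    refine Set.Subset.antisymm hΔS fun M hM => ?_
    obtain ⟨g, rfl⟩ := hS.2.2 U (hΔS hU) M hM
    exact ((htop ▸ Subgroup.mem_top g : g ∈ N) U).1 hU
  intro A hA B hB a ha b hb
  rcases hset.pair A (hΔS hA) B (hΔS hB) with h | h | ⟨hZ, -⟩
  · exact commute_of_bot h ha hb
  · exact absurd h (hnoR A hA B hB)
  exfalso
  set Z := ⁅A, B⁆ with hZd
  have hAS := hΔS hA
  have hBS := hΔS hB
  have hBA : ⁅B, A⁆ = Z := Subgroup.commutator_comm B A
  obtain ⟨hmem, -, hline, -⟩ := S5029.result hset (hF B hBS) hBS hAS (hBA ▸ hZ)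
  rw [hBA] at hmem hline
  have hne : B ≠ Z := hline.1.2.1
  have hl : B ∈ Cfsg.membersIn S (B ⊔ Z) := ⟨hBS, le_sup_left⟩
  have hz : Z ∈ Cfsg.membersIn S (B ⊔ Z) := ⟨hZ, le_sup_right⟩
  have hZlp : Z ∈ Cfsg.linePartners S B := by
    obtain ⟨⟨-, hn, hb'⟩, hp⟩ := hline
    exact ⟨⟨hZ, hn.symm, by rw [Subgroup.commutator_comm]; exact hb'⟩, sup_comm Z B ▸ hp⟩
  obtain ⟨g, -, g1, g2⟩ := S5038.result hset hF hBS hZlp B hl Z hz Z hz B hl hne hne.symm
  set P := Cfsg.conjBy A g with hP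
  have hPS : P ∈ S := hset.conj_mem A hAS g
  have hPZ : ⁅P, Z⁆ = B := by
    conv_lhs => rw [hP, ← g1, Cfsg.conjBy, Cfsg.conjBy, ← Subgroup.map_commutator, Subgroup.commutator_comm A B, hBA]
    exact g2
  have hr : Cfsg.IsRankOnePair A P := (S5036.result hset hBS hAS (hBA ▸ hZ) hPS (hBA.symm ▸ hPZ)).1
  have hPN : P ≤ N := hN B hB P hPS fun u hu p hp =>
    ((S5030.comm_case hset hPS hZ (hPZ.symm ▸ hBS)).2.1 u (hPZ.symm ▸ hu) p (Subgroup.mem_sup_left hp)).symm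
  obtain ⟨x, hx, ex⟩ := exists_conj_right hr
  have hxN : x ∈ N := (sup_le (hself A hA) hPN) hx
  exact hnoR A hA P (ex ▸ (hxN A).1 hA) hr

end Cfsg.Agent.S5040
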