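import Cfsg.Statements.S5043
import Cfsg.Agent.Lib.Classical.TransvGroup
import Cfsg.Agent.Lib.Classical.Linear
-- import your own Cfsg.Agent.* helpers here

set_option autoImplicit false
open Matrix
open Cfsg

namespace Cfsg.Agent.S5043

open Matrix
open Cfsg.Agent.TransvGroup

section
variable {F : Type*} [Field F] {n : ℕ}

local notation "SL" => Matrix.SpecialLinearGroup (Fin (n + 3)) F
local notation "Fl" => TransvGroup.Flag F (Fin (n + 3))

theorem conj_tv (g : SL) {v φ v' φ' : Fin (n + 3) → F} (h : φ ⬝ᵥ v = 0) (h' : φ' ⬝ᵥ v' = 0)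
    (hv : (g : Matrix (Fin (n + 3)) (Fin (n + 3)) F) *ᵥ v = v')
    (hφ : φ' ᵥ* (g : Matrix (Fin (n + 3)) (Fin (n + 3)) F) = φ) :
    g * tv v φ h * g⁻¹ = tv v' φ' h' := by
  rw [mul_inv_eq_iff_eq_mul]
  refine Subtype.ext ?_
  rw [Matrix.SpecialLinearGroup.coe_mul, Matrix.SpecialLinearGroup.coe_mul, tv_coe, tv_coe, tvM, tvM,
    mul_add, add_mul, mul_one, one_mul, mul_vecMulVec, vecMulVec_mul, hv, hφ]

/-- Root elements. -/
def eS (a : Fl) (c : F) : SL := tv (c • a.v) a.φ (a.h_smul c)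

theorem eS_add (a : Fl) (c d : F) : eS a (c + d) = eS a c * eS a d := by
  refine Subtype.ext ?_
  rw [eS, eS, eS, Matrix.SpecialLinearGroup.coe_mul, tv_coe, tv_coe, tv_coe, tvM_add_left (a.h_smul d), add_smul]

theorem eS_zero (a : Fl) : eS a 0 = 1 := Subtype.ext (by simp [eS, tv, tvM])

theorem eS_neg (a : Fl) (c : F) : eS a (-c) = (eS a c)⁻¹ :=
  eq_inv_of_mul_eq_one_left (by rw [← eS_add, neg_add_cancel, eS_zero])

theorem eS_eq_one (a : Fl) {c : F} (h : eS a c = 1) : c = 0 := by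
  have h' : tvM (c • a.v) a.φ = 1 := congrArg Subtype.val h
  obtain ⟨x, hx⟩ := exists_dot_one a.hφ
  have := congrArg (· *ᵥ x) h'
  simp only [tvM_mulVec, one_mulVec, hx, one_smul, add_eq_left] at this
  exact (smul_eq_zero.mp this).resolve_right a.hv

/-- Root subgroups. -/
def R (a : Fl) : Subgroup SL where
  carrier := Set.range (eS a)
  one_mem' := ⟨0, eS_zero a⟩
  mul_mem' := by rintro _ _ ⟨c, rfl⟩ ⟨d, rfl⟩; exact ⟨c + d, eS_add a c d⟩
  inv_mem' := by rintro _ ⟨c, rfl⟩; exact ⟨-c, eS_neg a c⟩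

theorem R_eq_of_smul {a b : Fl} (s t : F) (hs : s ≠ 0) (ht : t ≠ 0) (hv : b.v = s • a.v) (hφ : b.φ = t • a.φ) :
    R b = R a := by
  have key : ∀ c, eS b c = eS a (c * s * t) := fun c => Subtype.ext (by
    rw [eS, eS, tv_coe, tv_coe, hv, hφ, smul_smul, ← tvM_smul, smul_smul, mul_comm t (c * s)])
  ext x
  constructor
  · rintro ⟨c, rfl⟩; exact ⟨_, (key c).symm⟩
  · rintro ⟨c, rfl⟩
    exact ⟨c / (s * t), by rw [key, mul_assoc, div_mul_cancel₀ _ (mul_ne_zero hs ht)]⟩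

/-- The image of a flag. -/
def gF (g : SL) (a : Fl) : Fl where
  v := (g : Matrix (Fin (n + 3)) (Fin (n + 3)) F) *ᵥ a.v
  φ := a.φ ᵥ* ((g⁻¹ : SL) : Matrix (Fin (n + 3)) (Fin (n + 3)) F)
  hv := fun e => a.hv (by
    have := congrArg (((g⁻¹ : SL) : Matrix (Fin (n + 3)) (Fin (n + 3)) F) *ᵥ ·) e
    simp only [mulVec_mulVec, mulVec_zero] at this
    rwa [← Matrix.SpecialLinearGroup.coe_mul, inv_mul_cancel, Matrix.SpecialLinearGroup.coe_one, one_mulVec] at this)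
  hφ := fun e => a.hφ (by
    have := congrArg (· ᵥ* (g : Matrix (Fin (n + 3)) (Fin (n + 3)) F)) e
    simp only [vecMul_vecMul, zero_vecMul] at this
    rwa [← Matrix.SpecialLinearGroup.coe_mul, inv_mul_cancel, Matrix.SpecialLinearGroup.coe_one, vecMul_one] at this)
  h := by
    rw [dotProduct_mulVec, vecMul_vecMul, ← Matrix.SpecialLinearGroup.coe_mul, inv_mul_cancel,
      Matrix.SpecialLinearGroup.coe_one, vecMul_one]
    exact a.h

theorem conj_eS (g : SL) (a : Fl) (c : F) : g * eS a c * g⁻¹ = eS (gF g a) c := by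
  refine conj_tv g _ _ ?_ ?_
  · rw [mulVec_smul]; rfl
  · show (a.φ ᵥ* _) ᵥ* _ = a.φ
    rw [vecMul_vecMul, ← Matrix.SpecialLinearGroup.coe_mul, inv_mul_cancel, Matrix.SpecialLinearGroup.coe_one, vecMul_one]

theorem conjBy_R (g : SL) (a : Fl) : Cfsg.conjBy (R a) g = R (gF g a) := by
  ext x
  constructor
  · rintro ⟨_, ⟨c, rfl⟩, rfl⟩; exact ⟨c, (conj_eS g a c).symm⟩
  · rintro ⟨c, rfl⟩; exact ⟨_, ⟨c, rfl⟩, conj_eS g a c⟩

theorem mk_flag_eq {v φ : Fin (n + 3) → F} (a : Fl) (h1 : v = a.v) (h2 : φ = a.φ) (hv hφ h) :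
    (⟨v, φ, hv, hφ, h⟩ : Fl) = a := by
  subst h1 h2; rfl

def eb (i : Fin (n + 3)) : Fin (n + 3) → F := Pi.single i 1

theorem eb_ne (i : Fin (n + 3)) : (eb i : Fin (n + 3) → F) ≠ 0 := fun e => by
  have := congrFun e i
  simp [eb] at this

/-- The flag of the elementary transvection group at `(i, j)`. -/
def ef (i j : Fin (n + 3)) (h : i ≠ j) : Fl where
  v := eb i
  φ := eb j
  hv := eb_ne i
  hφ := eb_ne j
  h := by simp [eb, single_dotProduct, h.symm]

def f01 : Fl := ef 0 1 (Fin.zero_ne_one (n := n + 1))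

/-- Every flag is a translate of the standard one, up to scalars. -/
theorem exists_conj (a : Fl) : ∃ g : SL, Cfsg.conjBy (R a) g = R f01 := by
  -- first move the point to `e₀`
  obtain ⟨g, hg⟩ : ∃ g : SL, (g : Matrix (Fin (n + 3)) (Fin (n + 3)) F) *ᵥ a.v = eb 0 := by
    have key : ∀ v : Fin (n + 3) → F, ∀ j, j ≠ 0 → v j ≠ 0 →
        ∃ g : SL, (g : Matrix (Fin (n + 3)) (Fin (n + 3)) F) *ᵥ v = eb 0 := by
      intro v j hj hvj
      have h1 : ((v j)⁻¹ • eb j : Fin (n + 3) → F) ⬝ᵥ ((1 - v 0) • eb 0) = 0 := by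
        simp [eb, single_dotProduct, hj]
      set v' := v + (1 - v 0) • eb 0 with hv'
      have h2 : (eb 0 : Fin (n + 3) → F) ⬝ᵥ (eb 0 - v') = 0 := by simp [hv', eb, single_dotProduct]
      refine ⟨tv (eb 0 - v') (eb 0) h2 * tv _ _ h1, ?_⟩
      have hfirst : ((tv _ _ h1 : SL) : Matrix (Fin (n + 3)) (Fin (n + 3)) F) *ᵥ v = v' := by
        rw [tv_coe, tvM_mulVec,
          show ((v j)⁻¹ • eb j : Fin (n + 3) → F) ⬝ᵥ v = 1 by simp [eb, single_dotProduct, hvj], one_smul]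
      rw [Matrix.SpecialLinearGroup.coe_mul, ← mulVec_mulVec, hfirst, tv_coe, tvM_mulVec, show (eb 0 : Fin (n + 3) → F) ⬝ᵥ v' = 1 by simp [hv', eb, single_dotProduct], one_smul,
        add_sub_cancel]
    by_cases h : ∃ j, j ≠ 0 ∧ a.v j ≠ 0
    · obtain ⟨j, hj, hvj⟩ := h; exact key _ j hj hvj
    · push_neg at h
      have h0 : a.v 0 ≠ 0 := fun e => a.hv (funext fun i => by
        by_cases hi : i = 0
        · subst hi; exact e
        · exact h i hi)
      have h10 : (1 : Fin (n + 3)) ≠ 0 := Ne.symm (Fin.zero_ne_one (n := n + 1))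
      have h1 : (eb 0 : Fin (n + 3) → F) ⬝ᵥ eb 1 = 0 := by simp [eb, single_dotProduct, h10.symm]
      obtain ⟨g, hg⟩ := key ((tv (eb 1) (eb 0) h1 : SL) *ᵥ a.v) 1 h10 (by
        rw [tv_coe, tvM_mulVec]
        simp [eb, single_dotProduct, h 1 h10, h0])
      exact ⟨g * tv (eb 1) (eb 0) h1, by rw [Matrix.SpecialLinearGroup.coe_mul, ← mulVec_mulVec, hg]⟩
  -- then the hyperplane
  set b := gF g a with hb
  have hbv : b.v = eb 0 := hg
  have hψ0 : b.φ 0 = 0 := by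
    have := b.h
    rw [hbv] at this
    simpa [eb, dotProduct_single] using this
  obtain ⟨g₁, h1v, h1φ⟩ : ∃ g₁ : SL, (g₁ : Matrix (Fin (n + 3)) (Fin (n + 3)) F) *ᵥ eb 0 = eb 0 ∧
      (b.φ ᵥ* ((g₁⁻¹ : SL) : Matrix (Fin (n + 3)) (Fin (n + 3)) F)) 1 ≠ 0 := by
    by_cases h1 : b.φ 1 = 0
    · obtain ⟨j, hj⟩ := Function.ne_iff.mp b.hφ
      have hj0 : j ≠ 0 := fun e => hj (by rw [e]; exact hψ0)
      have hj1 : j ≠ 1 := fun e => hj (by rw [e]; exact h1)
      have hd : (eb 1 : Fin (n + 3) → F) ⬝ᵥ eb j = 0 := by simp [eb, single_dotProduct, hj1.symm]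
      refine ⟨(tv (eb j) (eb 1) hd)⁻¹, ?_, ?_⟩
      · have e : ((tv (eb j) (eb 1) hd : SL) : Matrix (Fin (n + 3)) (Fin (n + 3)) F) *ᵥ eb 0 = eb 0 := by
          rw [tv_coe, tvM_mulVec]; simp [eb, single_dotProduct]
        conv_lhs => rw [← e]
        rw [mulVec_mulVec, ← Matrix.SpecialLinearGroup.coe_mul, inv_mul_cancel, Matrix.SpecialLinearGroup.coe_one, one_mulVec]
      · rw [inv_inv, tv_coe, tvM, vecMul_add, vecMul_one, vecMul_vecMulVec]
        have hj' : b.φ j ≠ 0 := hj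
        simp [eb, dotProduct_single, h1, hj']
    · refine ⟨1, by rw [Matrix.SpecialLinearGroup.coe_one, one_mulVec], ?_⟩
      rw [inv_one, Matrix.SpecialLinearGroup.coe_one, vecMul_one]
      exact h1
  set c := gF g₁ b with hc
  have hcv : c.v = eb 0 := by show _ *ᵥ b.v = _; rw [hbv, h1v]
  have hc1 : c.φ 1 ≠ 0 := h1φ
  have hc0 : c.φ 0 = 0 := by
    have := c.h
    rw [hcv] at this
    simpa [eb, dotProduct_single] using this
  let r : Fin (n + 3) → F := (c.φ 1)⁻¹ • c.φ - eb 1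
  have hr : r ⬝ᵥ eb 1 = 0 := by simp [eb, r, dotProduct_single, hc1]
  let g₂ : SL := tv (eb 1) r hr
  have h2v : (g₂ : Matrix (Fin (n + 3)) (Fin (n + 3)) F) *ᵥ eb 0 = eb 0 := by
    rw [tv_coe, tvM_mulVec]
    simp [eb, r, dotProduct_single, hc0]
  have h2φ : (eb 1) ᵥ* (g₂ : Matrix (Fin (n + 3)) (Fin (n + 3)) F) = (c.φ 1)⁻¹ • c.φ := by
    rw [tv_coe, tvM, vecMul_add, vecMul_one, vecMul_vecMulVec]
    simp [eb, r, dotProduct_single]
  refine ⟨g₂ * (g₁ * g), ?_⟩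
  have hcomp : ∀ (A : Subgroup SL) (x y : SL), Cfsg.conjBy A (x * y) = Cfsg.conjBy (Cfsg.conjBy A y) x := by
    intro A x y
    rw [Cfsg.conjBy, Cfsg.conjBy, Cfsg.conjBy, Subgroup.map_map]
    congr 1; ext z; simp [mul_assoc]
  rw [hcomp, hcomp, conjBy_R, conjBy_R, conjBy_R]
  show R (gF g₂ c) = R f01
  refine R_eq_of_smul 1 (c.φ 1) one_ne_zero hc1 ?_ ?_
  · show _ *ᵥ c.v = _
    rw [hcv, h2v, one_smul]; rfl
  · show c.φ ᵥ* _ = _
    have : c.φ = c.φ 1 • ((eb 1) ᵥ* (g₂ : Matrix (Fin (n + 3)) (Fin (n + 3)) F)) := by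
      rw [h2φ, smul_smul, mul_inv_cancel₀ hc1, one_smul]
    conv_lhs => rw [this]
    rw [smul_vecMul, vecMul_vecMul, ← Matrix.SpecialLinearGroup.coe_mul, mul_inv_cancel,
      Matrix.SpecialLinearGroup.coe_one, vecMul_one]
    rfl

/-- Products of root elements. -/
theorem eS_comm {a b : Fl} (h1 : a.φ ⬝ᵥ b.v = 0) (h2 : b.φ ⬝ᵥ a.v = 0) (c d : F) :
    eS a c * eS b d = eS b d * eS a c := by
  refine Subtype.ext ?_
  rw [Matrix.SpecialLinearGroup.coe_mul, Matrix.SpecialLinearGroup.coe_mul, eS, eS, tv_coe, tv_coe,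
    tvM_mul_tvM, tvM_mul_tvM, dotProduct_smul, dotProduct_smul, h1, h2, smul_zero, smul_zero, zero_smul, zero_smul]
  abel

theorem eS_commutator {a b : Fl} (h2 : b.φ ⬝ᵥ a.v = 0) (c d : F) :
    eS a c * eS b d * (eS a c)⁻¹ * (eS b d)⁻¹ = eS ⟨a.v, b.φ, a.hv, b.hφ, h2⟩ (c * d * (a.φ ⬝ᵥ b.v)) := by
  rw [mul_inv_eq_iff_eq_mul, mul_inv_eq_iff_eq_mul]
  refine Subtype.ext ?_
  simp only [Matrix.SpecialLinearGroup.coe_mul, eS, tv_coe, tvM, smul_vecMulVec, mul_add, add_mul, mul_one,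
    one_mul, smul_mul_assoc, mul_smul_comm, vecMulVec_mul_vecMulVec, vecMulVec_smul,
    smul_smul, dotProduct_smul, smul_eq_mul, h2, a.h, b.h, zero_smul, smul_zero, mul_zero, zero_mul, add_zero, vecMulVec_zero,
    zero_dotProduct]
  module

/-- The commutator case. -/
theorem commutator_case {a b : Fl} (h1 : a.φ ⬝ᵥ b.v ≠ 0) (h2 : b.φ ⬝ᵥ a.v = 0) :
    ⁅R a, R b⁆ = R (⟨a.v, b.φ, a.hv, b.hφ, h2⟩ : Fl) ∧
    (∀ x ∈ R (⟨a.v, b.φ, a.hv, b.hφ, h2⟩ : Fl), ∀ y ∈ R a ⊔ R b, x * y = y * x) ∧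
    (∀ u ∈ R a, u ≠ 1 → Subgroup.closure ((fun w : SL => u * w * u⁻¹ * w⁻¹) '' (R b : Set SL)) =
      R (⟨a.v, b.φ, a.hv, b.hφ, h2⟩ : Fl)) ∧
    (∀ w ∈ R b, w ≠ 1 → Subgroup.closure ((fun u : SL => u * w * u⁻¹ * w⁻¹) '' (R a : Set SL)) =
      R (⟨a.v, b.φ, a.hv, b.hφ, h2⟩ : Fl)) := by
  set e : Fl := ⟨a.v, b.φ, a.hv, b.hφ, h2⟩ with he
  refine ⟨le_antisymm ?_ ?_, ?_, ?_, ?_⟩
  · rw [Subgroup.commutator_le]
    rintro _ ⟨c, rfl⟩ _ ⟨d, rfl⟩
    rw [_root_.commutatorElement_def, eS_commutator h2]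
    exact ⟨_, rfl⟩
  · rintro _ ⟨c, rfl⟩
    have := Subgroup.commutator_mem_commutator (H₁ := R a) (H₂ := R b)
      (g₁ := eS a (c / (a.φ ⬝ᵥ b.v))) (g₂ := eS b 1) ⟨_, rfl⟩ ⟨_, rfl⟩
    rwa [_root_.commutatorElement_def, eS_commutator h2, mul_one, div_mul_cancel₀ _ h1] at this
  · rintro _ ⟨c, rfl⟩ y hy
    have hle : R a ⊔ R b ≤ Subgroup.centralizer {eS e c} := by
      refine sup_le ?_ ?_
      · rintro _ ⟨d, rfl⟩
        rw [Subgroup.mem_centralizer_singleton_iff]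
        exact eS_comm (a := a) (b := e) a.h h2 d c
      · rintro _ ⟨d, rfl⟩
        rw [Subgroup.mem_centralizer_singleton_iff]
        exact eS_comm (a := b) (b := e) h2 b.h d c
    exact (Subgroup.mem_centralizer_singleton_iff.mp (hle hy)).symm
  · rintro _ ⟨c, rfl⟩ hu
    have hc : c ≠ 0 := fun h => hu (by rw [h, eS_zero])
    apply le_antisymm
    · rw [Subgroup.closure_le]
      rintro _ ⟨_, ⟨d, rfl⟩, rfl⟩
      exact ⟨_, (eS_commutator h2 c d).symm⟩
    · rintro _ ⟨d, rfl⟩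
      refine Subgroup.subset_closure ⟨eS b (d / (c * (a.φ ⬝ᵥ b.v))), ⟨_, rfl⟩, ?_⟩
      show eS a c * _ * _ * _ = _
      rw [eS_commutator h2]
      congr 1
      field_simp
  · rintro _ ⟨d, rfl⟩ hu
    have hd : d ≠ 0 := fun h => hu (by rw [h, eS_zero])
    apply le_antisymm
    · rw [Subgroup.closure_le]
      rintro _ ⟨_, ⟨c, rfl⟩, rfl⟩
      exact ⟨_, (eS_commutator h2 c d).symm⟩
    · rintro _ ⟨c, rfl⟩
      refine Subgroup.subset_closure ⟨eS a (c / (d * (a.φ ⬝ᵥ b.v))), ⟨_, rfl⟩, ?_⟩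
      show _ * eS b d * _ * _ = _
      rw [eS_commutator h2]
      congr 1
      field_simp

theorem R_abelian (a : Fl) : IsMulCommutative ↥(R a) :=
  ⟨⟨by rintro ⟨_, c, rfl⟩ ⟨_, d, rfl⟩; exact Subtype.ext (by
    show eS a c * eS a d = eS a d * eS a c
    rw [← eS_add, ← eS_add]; exact congrArg (eS a) (add_comm c d))⟩⟩

theorem rankOne_cond {a b : Fl} (h1 : a.φ ⬝ᵥ b.v ≠ 0) (h2 : b.φ ⬝ᵥ a.v ≠ 0) :
    Cfsg.RankOneCondition (R a) (R b) := by
  rintro _ ⟨c, rfl⟩ hu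
  have hc : c ≠ 0 := fun h => hu (by rw [h, eS_zero])
  set x := a.φ ⬝ᵥ b.v with hx
  set y := b.φ ⬝ᵥ a.v with hy
  refine ⟨eS b (1 / (c * x * y)), ⟨_, rfl⟩, fun e => ?_, ?_⟩
  · have := eS_eq_one b e
    simp [hc, h1, h2] at this
  · rw [conjBy_R, conjBy_R]
    refine R_eq_of_smul (-(1 / (c * x))) (1 / (c * y)) (by simp [hc, h1]) (by simp [hc, h2]) ?_ ?_
    · show ((eS b _)⁻¹ : SL).1 *ᵥ a.v = _ • (((eS a c)⁻¹ : SL).1 *ᵥ b.v)
      rw [← eS_neg, ← eS_neg, eS, eS, tv_coe, tv_coe, tvM_mulVec, tvM_mulVec, ← hx, ← hy]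
      match_scalars <;> field_simp
    · show a.φ ᵥ* (((eS b _)⁻¹)⁻¹ : SL).1 = _ • (b.φ ᵥ* (((eS a c)⁻¹)⁻¹ : SL).1)
      rw [inv_inv, inv_inv, eS, eS, tv_coe, tv_coe, tvM, tvM, vecMul_add, vecMul_add, vecMul_one, vecMul_one,
        vecMul_vecMulVec, vecMul_vecMulVec, dotProduct_smul, dotProduct_smul, ← hx, ← hy, smul_eq_mul, smul_eq_mul]
      match_scalars <;> field_simp

theorem rankOne {a b : Fl} (h1 : a.φ ⬝ᵥ b.v ≠ 0) (h2 : b.φ ⬝ᵥ a.v ≠ 0) :
    Cfsg.IsRankOnePair (R a) (R b) := by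
  refine ⟨fun e => ?_, ?_, ?_, rankOne_cond h1 h2, rankOne_cond h2 h1⟩
  · have hb : eS b 1 ∈ R a := e ▸ ⟨1, rfl⟩
    obtain ⟨c, hc⟩ := hb
    have h' : tvM (c • a.v) a.φ = tvM ((1 : F) • b.v) b.φ := congrArg Subtype.val hc
    have := congrArg (· *ᵥ a.v) h'
    simp only [tvM_mulVec, a.h, zero_smul, one_smul, add_zero, left_eq_add] at this
    exact b.hv ((smul_eq_zero.mp this).resolve_left h2)
  · letI : CommGroup ↥(R a) := { (inferInstance : Group ↥(R a)) with mul_comm := (R_abelian a).is_comm.comm }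
    exact CommGroup.isNilpotent
  · letI : CommGroup ↥(R b) := { (inferInstance : Group ↥(R b)) with mul_comm := (R_abelian b).is_comm.comm }
    exact CommGroup.isNilpotent

theorem pair (a b : Fl) : ⁅R a, R b⁆ = ⊥ ∧ a.φ ⬝ᵥ b.v = 0 ∧ b.φ ⬝ᵥ a.v = 0 ∨
    (a.φ ⬝ᵥ b.v ≠ 0 ∧ b.φ ⬝ᵥ a.v ≠ 0) ∨ (a.φ ⬝ᵥ b.v ≠ 0 ∧ b.φ ⬝ᵥ a.v = 0) ∨
    (a.φ ⬝ᵥ b.v = 0 ∧ b.φ ⬝ᵥ a.v ≠ 0) := by
  by_cases h1 : a.φ ⬝ᵥ b.v = 0 <;> by_cases h2 : b.φ ⬝ᵥ a.v = 0
  · left
    refine ⟨eq_bot_iff.mpr ?_, h1, h2⟩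
    rw [Subgroup.commutator_le]
    rintro _ ⟨c, rfl⟩ _ ⟨d, rfl⟩
    rw [Subgroup.mem_bot, _root_.commutatorElement_def, eS_comm h1 h2]
    group
  all_goals tauto

theorem R_point {p q : Fl} (h : R p = R q) : ∃ s : F, p.v = s • q.v := by
  have hx : eS p 1 ∈ R q := h ▸ ⟨1, rfl⟩
  obtain ⟨c, hc⟩ := hx
  obtain ⟨x, hx1⟩ := exists_dot_one p.hφ
  have h2 := congrArg (fun M : SL => (M : Matrix (Fin (n + 3)) (Fin (n + 3)) F) *ᵥ x) hc
  simp only [eS, tv_coe, tvM_mulVec, hx1, one_smul, add_right_inj, smul_smul] at h2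
  exact ⟨_, h2.symm⟩

theorem dot_gF (g : SL) (a b : Fl) : (gF g a).φ ⬝ᵥ (gF g b).v = a.φ ⬝ᵥ b.v := by
  show (a.φ ᵥ* _) ⬝ᵥ (_ *ᵥ b.v) = _
  rw [dotProduct_mulVec, vecMul_vecMul, ← Matrix.SpecialLinearGroup.coe_mul, inv_mul_cancel,
    Matrix.SpecialLinearGroup.coe_one, vecMul_one]

theorem not_half {a b : Fl} (hp : Cfsg.IsRankOnePair (R a) (R b)) (h2 : b.φ ⬝ᵥ a.v = 0) :
    a.φ ⬝ᵥ b.v = 0 := by
  obtain ⟨_, ⟨d, rfl⟩, -, hu⟩ := hp.cond_left (eS a 1) ⟨1, rfl⟩ (fun h => one_ne_zero (eS_eq_one a h))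
  rw [conjBy_R, conjBy_R, ← eS_neg, ← eS_neg] at hu
  obtain ⟨s, hs⟩ := R_point hu
  have e1 : (gF (eS b (-d)) a).v = a.v := by
    show (eS b (-d)).1 *ᵥ a.v = a.v
    rw [eS, tv_coe, tvM_mulVec, h2, zero_smul, add_zero]
  have e2 : (gF (eS a (-1)) b).v = b.v + (-(a.φ ⬝ᵥ b.v)) • a.v := by
    show (eS a (-1)).1 *ᵥ b.v = _
    rw [eS, tv_coe, tvM_mulVec, smul_smul, mul_neg_one]
  rw [e1, e2] at hs
  have hs0 : s ≠ 0 := fun h0 => a.hv (by rw [hs, h0, zero_smul])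
  have h4 := congrArg (fun v => s⁻¹ • v) hs
  simp only [smul_smul, inv_mul_cancel₀ hs0, one_smul] at h4
  have h5 : b.v = (s⁻¹ + a.φ ⬝ᵥ b.v) • a.v := by
    rw [add_smul, h4]; module
  rw [h5, dotProduct_smul, a.h, smul_zero]

/-- Rank one pairs are exactly the opposite pairs. -/
theorem rankOne_dots {a b : Fl} (hp : Cfsg.IsRankOnePair (R a) (R b)) :
    a.φ ⬝ᵥ b.v ≠ 0 ∧ b.φ ⬝ᵥ a.v ≠ 0 := by
  have main : ¬ (a.φ ⬝ᵥ b.v = 0 ∧ b.φ ⬝ᵥ a.v = 0) := by
    rintro ⟨h1, h2⟩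
    obtain ⟨_, ⟨d, rfl⟩, -, hu⟩ := hp.cond_left (eS a 1) ⟨1, rfl⟩ (fun h => one_ne_zero (eS_eq_one a h))
    rw [conjBy_R, conjBy_R, ← eS_neg, ← eS_neg] at hu
    have e1 : R (gF (eS b (-d)) a) = R a := by
      refine R_eq_of_smul 1 1 one_ne_zero one_ne_zero ?_ ?_
      · show (eS b (-d)).1 *ᵥ a.v = (1 : F) • a.v
        rw [eS, tv_coe, tvM_mulVec, h2, zero_smul, add_zero, one_smul]
      · show a.φ ᵥ* ((eS b (-d))⁻¹ : SL).1 = (1 : F) • a.φ
        rw [← eS_neg, eS, tv_coe, tvM, vecMul_add, vecMul_one, vecMul_vecMulVec, dotProduct_smul, h1,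
          smul_zero, zero_smul, add_zero, one_smul]
    have e2 : R (gF (eS a (-1)) b) = R b := by
      refine R_eq_of_smul 1 1 one_ne_zero one_ne_zero ?_ ?_
      · show (eS a (-1)).1 *ᵥ b.v = (1 : F) • b.v
        rw [eS, tv_coe, tvM_mulVec, h1, zero_smul, add_zero, one_smul]
      · show b.φ ᵥ* ((eS a (-1))⁻¹ : SL).1 = (1 : F) • b.φ
        rw [← eS_neg, eS, tv_coe, tvM, vecMul_add, vecMul_one, vecMul_vecMulVec, dotProduct_smul, h2,
          smul_zero, zero_smul, add_zero, one_smul]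
    exact hp.ne (e1.symm.trans (hu.trans e2))
  refine ⟨fun h1 => main ⟨h1, not_half (Cfsg.RankOnePair_symm hp) h1⟩, fun h2 => main ⟨not_half hp h2, h2⟩⟩

/-- The embedding of `SL₂` attached to an opposite pair. -/
theorem psl2 {a b : Fl} (h1 : a.φ ⬝ᵥ b.v ≠ 0) (h2 : b.φ ⬝ᵥ a.v ≠ 0) :
    Cfsg.IsPSL2PairOver F (R a) (R b) := by
  let V : Matrix (Fin (n + 3)) (Fin 2) F := Matrix.of fun i k => if k = 0 then a.v i else (a.φ ⬝ᵥ b.v)⁻¹ * b.v i
  let P : Matrix (Fin 2) (Fin (n + 3)) F := Matrix.of fun k j => if k = 0 then (b.φ ⬝ᵥ a.v)⁻¹ * b.φ j else a.φ j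
  have hPV : P * V = 1 := by
    ext i j
    simp only [Matrix.mul_apply, P, V, Matrix.of_apply]
    fin_cases i <;> fin_cases j <;>
      simp only [Fin.zero_eta, Fin.mk_one, if_true, Fin.one_eq_zero_iff, OfNat.ofNat_ne_one, if_false, one_ne_zero,
        Matrix.one_apply_eq, ne_eq, zero_ne_one, not_false_eq_true, Matrix.one_apply_ne]
    · simp only [mul_assoc, ← Finset.mul_sum]
      exact inv_mul_cancel₀ h2
    · have : ∀ k, (b.φ ⬝ᵥ a.v)⁻¹ * b.φ k * ((a.φ ⬝ᵥ b.v)⁻¹ * b.v k) =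
          ((b.φ ⬝ᵥ a.v)⁻¹ * (a.φ ⬝ᵥ b.v)⁻¹) * (b.φ k * b.v k) := fun k => by ring
      simp only [this, ← Finset.mul_sum]
      rw [show ∑ k, b.φ k * b.v k = 0 from b.h, mul_zero]
    · exact a.h
    · simp only [mul_left_comm (a.φ _), ← Finset.mul_sum]
      exact inv_mul_cancel₀ h1
  let fM : Matrix (Fin 2) (Fin 2) F → Matrix (Fin (n + 3)) (Fin (n + 3)) F := fun M => 1 + V * (M - 1) * P
  have hdet : ∀ M : Matrix.SpecialLinearGroup (Fin 2) F, (fM M.1).det = 1 := fun M => by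
    show (1 + V * (M.1 - 1) * P).det = 1
    rw [Matrix.mul_assoc, det_one_add_mul_comm, Matrix.mul_assoc, hPV, mul_one, add_sub_cancel]
    exact M.2
  let f : Matrix.SpecialLinearGroup (Fin 2) F →* SL :=
    { toFun := fun M => ⟨fM M.1, hdet M⟩
      map_one' := Subtype.ext (by simp [fM])
      map_mul' := fun M N => Subtype.ext (by
        show fM ((M * N : Matrix.SpecialLinearGroup (Fin 2) F) : Matrix (Fin 2) (Fin 2) F) = fM M.1 * fM N.1
        simp only [fM, Matrix.SpecialLinearGroup.coe_mul, Matrix.mul_add, Matrix.add_mul, Matrix.mul_one, Matrix.one_mul]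
        rw [show V * (M.1 - 1) * P * (V * (N.1 - 1) * P) = V * (M.1 - 1) * (P * V) * (N.1 - 1) * P by
          simp only [Matrix.mul_assoc], hPV, Matrix.mul_one]
        simp only [Matrix.mul_sub, Matrix.sub_mul, Matrix.mul_one, Matrix.mul_assoc]
        abel) }
  have hval : ∀ M : Matrix.SpecialLinearGroup (Fin 2) F, (f M).1 = fM M.1 := fun _ => rfl
  have hup : ∀ M : Matrix.SpecialLinearGroup (Fin 2) F, M.1 1 0 = 0 → M.1 0 0 = 1 → M.1 1 1 = 1 →
      f M = eS a (M.1 0 1) := by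
    intro M e1 e2 e3
    refine Subtype.ext ?_
    rw [hval, eS, tv_coe, tvM]
    ext i j
    simp [fM, Matrix.mul_apply, Fin.sum_univ_two, Matrix.sub_apply, vecMulVec_apply, V, P, e1, e2, e3]
    ring
  have hlo : ∀ M : Matrix.SpecialLinearGroup (Fin 2) F, M.1 0 1 = 0 → M.1 0 0 = 1 → M.1 1 1 = 1 →
      f M = eS b (M.1 1 0 / ((a.φ ⬝ᵥ b.v) * (b.φ ⬝ᵥ a.v))) := by
    intro M e1 e2 e3
    refine Subtype.ext ?_
    rw [hval, eS, tv_coe, tvM]
    ext i j
    simp [fM, Matrix.mul_apply, Fin.sum_univ_two, Matrix.sub_apply, vecMulVec_apply, V, P, e1, e2, e3]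
    field_simp
  have h01 : (0 : Fin 2) ≠ 1 := by decide
  have hmapU : (Cfsg.upperUnipotentSL2 F).map f = R a := by
    apply le_antisymm
    · rw [Cfsg.upperUnipotentSL2, MonoidHom.map_closure, Subgroup.closure_le]
      rintro _ ⟨M, ⟨e1, e2, e3⟩, rfl⟩
      exact ⟨_, (hup M e1 e2 e3).symm⟩
    · rintro _ ⟨c, rfl⟩
      refine ⟨Matrix.SpecialLinearGroup.transvection h01 c, Subgroup.subset_closure ?_, ?_⟩
      · simp [Matrix.SpecialLinearGroup.transvection_coe, Matrix.add_apply]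
      · rw [hup _ (by simp [Matrix.SpecialLinearGroup.transvection_coe, Matrix.add_apply])
          (by simp [Matrix.SpecialLinearGroup.transvection_coe, Matrix.add_apply])
          (by simp [Matrix.SpecialLinearGroup.transvection_coe, Matrix.add_apply])]
        congr 1
        simp [Matrix.SpecialLinearGroup.transvection_coe, Matrix.add_apply]
  have hmapL : (Cfsg.lowerUnipotentSL2 F).map f = R b := by
    apply le_antisymm
    · rw [Cfsg.lowerUnipotentSL2, MonoidHom.map_closure, Subgroup.closure_le]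
      rintro _ ⟨M, ⟨e1, e2, e3⟩, rfl⟩
      exact ⟨_, (hlo M e1 e2 e3).symm⟩
    · rintro _ ⟨c, rfl⟩
      refine ⟨Matrix.SpecialLinearGroup.transvection h01.symm (c * ((a.φ ⬝ᵥ b.v) * (b.φ ⬝ᵥ a.v))), Subgroup.subset_closure ?_, ?_⟩
      · simp [Matrix.SpecialLinearGroup.transvection_coe, Matrix.add_apply]
      · rw [hlo _ (by simp [Matrix.SpecialLinearGroup.transvection_coe, Matrix.add_apply])
          (by simp [Matrix.SpecialLinearGroup.transvection_coe, Matrix.add_apply])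
          (by simp [Matrix.SpecialLinearGroup.transvection_coe, Matrix.add_apply])]
        congr 1
        simp [Matrix.SpecialLinearGroup.transvection_coe, Matrix.add_apply, h1, h2]
  have hgen : Cfsg.upperUnipotentSL2 F ⊔ Cfsg.lowerUnipotentSL2 F = ⊤ := by
    rw [← top_le_iff, ← Classical.closure_transvection_eq_top (ι := Fin 2), Subgroup.closure_le]
    rintro _ ⟨i, j, hij, c, rfl⟩
    fin_cases i <;> fin_cases j <;> first | exact absurd rfl hij | skip
    · exact Subgroup.mem_sup_left (Subgroup.subset_closure (by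
        simp [Matrix.SpecialLinearGroup.transvection_coe, Matrix.add_apply]))
    · exact Subgroup.mem_sup_right (Subgroup.subset_closure (by
        simp [Matrix.SpecialLinearGroup.transvection_coe, Matrix.add_apply]))
  refine ⟨f, ?_, ?_, hmapU, hmapL⟩
  · rw [MonoidHom.range_eq_map, ← hgen, Subgroup.map_sup, hmapU, hmapL]
  · intro M hM
    have e : fM M.1 = 1 := congrArg Subtype.val hM
    have h3 : P * (fM M.1 - 1) * V = P * ((1 : Matrix (Fin (n + 3)) (Fin (n + 3)) F) - 1) * V := by rw [e]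
    simp only [fM, add_sub_cancel_left, sub_self, Matrix.mul_zero, Matrix.zero_mul, ← Matrix.mul_assoc, hPV,
      Matrix.one_mul] at h3
    rw [Matrix.mul_assoc, hPV, Matrix.mul_one, sub_eq_zero] at h3
    rw [show M = 1 from Subtype.ext h3]
    exact one_mem _

end

/-- Let k be a field and n a natural number. In SL_{n+3}(k) (so in every dimension at least 3) the conjugates of the root subgroup of elementary transvections 1 + c E₁₂ (c ∈ k) — that is, the groups of transvections attached to an incident point–hyperplane pair — form a non-degenerate class of abstract k-root subgroups of SL_{n+3}(k) whose graph of rank one pairs is connected. -/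
theorem result (k : Type*) [Field k] (n : ℕ) :
    Cfsg.IsRootSubgroupClass {A : Subgroup (Matrix.SpecialLinearGroup (Fin (n + 3)) k) |
        ∃ g : Matrix.SpecialLinearGroup (Fin (n + 3)) k,
          A = Cfsg.conjBy (Subgroup.closure {t : Matrix.SpecialLinearGroup (Fin (n + 3)) k |
            ∃ c : k, (t : Matrix (Fin (n + 3)) (Fin (n + 3)) k) = Matrix.transvection 0 1 c}) g} ∧
    Cfsg.IsNondegenerateRootSet {A : Subgroup (Matrix.SpecialLinearGroup (Fin (n + 3)) k) |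
        ∃ g : Matrix.SpecialLinearGroup (Fin (n + 3)) k,
          A = Cfsg.conjBy (Subgroup.closure {t : Matrix.SpecialLinearGroup (Fin (n + 3)) k |
            ∃ c : k, (t : Matrix (Fin (n + 3)) (Fin (n + 3)) k) = Matrix.transvection 0 1 c}) g} ∧
    Cfsg.IsKRootSubgroupSet k {A : Subgroup (Matrix.SpecialLinearGroup (Fin (n + 3)) k) |
        ∃ g : Matrix.SpecialLinearGroup (Fin (n + 3)) k,
          A = Cfsg.conjBy (Subgroup.closure {t : Matrix.SpecialLinearGroup (Fin (n + 3)) k |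
            ∃ c : k, (t : Matrix (Fin (n + 3)) (Fin (n + 3)) k) = Matrix.transvection 0 1 c}) g} ∧
    Cfsg.IsConnectedFamily (Cfsg.FAdj {A : Subgroup (Matrix.SpecialLinearGroup (Fin (n + 3)) k) |
        ∃ g : Matrix.SpecialLinearGroup (Fin (n + 3)) k,
          A = Cfsg.conjBy (Subgroup.closure {t : Matrix.SpecialLinearGroup (Fin (n + 3)) k |
            ∃ c : k, (t : Matrix (Fin (n + 3)) (Fin (n + 3)) k) = Matrix.transvection 0 1 c}) g})
      {A : Subgroup (Matrix.SpecialLinearGroup (Fin (n + 3)) k) |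
        ∃ g : Matrix.SpecialLinearGroup (Fin (n + 3)) k,
          A = Cfsg.conjBy (Subgroup.closure {t : Matrix.SpecialLinearGroup (Fin (n + 3)) k |
            ∃ c : k, (t : Matrix (Fin (n + 3)) (Fin (n + 3)) k) = Matrix.transvection 0 1 c}) g} := by
  classical
  set S := {A : Subgroup (Matrix.SpecialLinearGroup (Fin (n + 3)) k) |
        ∃ g : Matrix.SpecialLinearGroup (Fin (n + 3)) k,
          A = Cfsg.conjBy (Subgroup.closure {t : Matrix.SpecialLinearGroup (Fin (n + 3)) k |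
            ∃ c : k, (t : Matrix (Fin (n + 3)) (Fin (n + 3)) k) = Matrix.transvection 0 1 c}) g} with hSdef
  have hsvv : ∀ (i j : Fin (n + 3)) (c : k),
      vecMulVec (c • eb i) (eb j) = Matrix.single i j c := by
    intro i j c
    ext a b
    by_cases ha : i = a <;> by_cases hb : j = b <;>
      simp [eb, vecMulVec_apply, Matrix.single_apply, Pi.single_apply, ha, hb, eq_comm]
  have hefc : ∀ (i j : Fin (n + 3)) (h : i ≠ j) (c : k),
      eS (ef i j h) c = Matrix.SpecialLinearGroup.transvection h c := by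
    intro i j h c
    refine Subtype.ext ?_
    rw [eS, TransvGroup.tv_coe, TransvGroup.tvM, Matrix.SpecialLinearGroup.transvection_coe]
    show 1 + vecMulVec (c • eb i) (eb j) = _
    rw [hsvv]
  have hcl : Subgroup.closure {t : Matrix.SpecialLinearGroup (Fin (n + 3)) k |
      ∃ c : k, (t : Matrix (Fin (n + 3)) (Fin (n + 3)) k) = Matrix.transvection 0 1 c} = R f01 := by
    convert Subgroup.closure_eq (R f01 : Subgroup (Matrix.SpecialLinearGroup (Fin (n + 3)) k)) using 2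
    ext t
    constructor
    · rintro ⟨c, hc⟩
      refine ⟨c, Subtype.ext ?_⟩
      rw [f01, hefc, Matrix.SpecialLinearGroup.transvection_coe, hc]
      rfl
    · rintro ⟨c, rfl⟩
      refine ⟨c, ?_⟩
      rw [f01, hefc, Matrix.SpecialLinearGroup.transvection_coe]
      rfl
  have hcomp : ∀ (A : Subgroup (Matrix.SpecialLinearGroup (Fin (n + 3)) k)) (x y : Matrix.SpecialLinearGroup (Fin (n + 3)) k),
      Cfsg.conjBy A (x * y) = Cfsg.conjBy (Cfsg.conjBy A y) x := by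
    intro A x y
    rw [Cfsg.conjBy, Cfsg.conjBy, Cfsg.conjBy, Subgroup.map_map]
    congr 1; ext z; simp [mul_assoc]
  have hone : ∀ A : Subgroup (Matrix.SpecialLinearGroup (Fin (n + 3)) k), Cfsg.conjBy A 1 = A := by
    intro A; ext z; simp [Cfsg.conjBy]
  have hmem : ∀ A, A ∈ S ↔ ∃ a : TransvGroup.Flag k (Fin (n + 3)), A = R a := by
    intro A
    rw [hSdef, Set.mem_setOf_eq, hcl]
    constructor
    · rintro ⟨g, rfl⟩; exact ⟨_, conjBy_R g f01⟩
    · rintro ⟨a, rfl⟩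
      obtain ⟨g, hg⟩ := exists_conj a
      exact ⟨g⁻¹, by rw [← hg, ← hcomp, inv_mul_cancel, hone]⟩
  have hin : ∀ a : TransvGroup.Flag k (Fin (n + 3)), R a ∈ S := fun a => (hmem _).mpr ⟨a, rfl⟩
  have hroot : Cfsg.IsRootSubgroupSet S := by
    refine ⟨fun A hA => ?_, fun A hA => ?_, ?_, fun A hA g => ?_, fun A hA B hB => ?_⟩
    · obtain ⟨a, rfl⟩ := (hmem A).mp hA; exact R_abelian a
    · obtain ⟨a, rfl⟩ := (hmem A).mp hA
      intro h
      have : eS a 1 ∈ R a := ⟨1, rfl⟩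
      rw [h, Subgroup.mem_bot] at this
      exact one_ne_zero (eS_eq_one a this)
    · rw [← top_le_iff, ← Classical.closure_transvection_eq_top, Subgroup.closure_le]
      rintro _ ⟨i, j, hij, c, rfl⟩
      exact Subgroup.mem_iSup_of_mem (R (ef i j hij)) (Subgroup.mem_iSup_of_mem (hin _) ⟨c, hefc i j hij c⟩)
    · obtain ⟨a, rfl⟩ := (hmem A).mp hA; rw [conjBy_R]; exact hin _
    · obtain ⟨a, rfl⟩ := (hmem A).mp hA
      obtain ⟨b, rfl⟩ := (hmem B).mp hB
      rcases pair a b with ⟨h, -, -⟩ | ⟨h1, h2⟩ | ⟨h1, h2⟩ | ⟨h1, h2⟩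
      · exact Or.inl h
      · exact Or.inr (Or.inl (rankOne h1 h2))
      · obtain ⟨e1, e2, e3, e4⟩ := commutator_case h1 h2
        refine Or.inr (Or.inr ⟨?_, ?_, ?_, ?_⟩)
        · rw [e1]; exact hin _
        · rw [e1]; exact e2
        · rw [e1]; exact e3
        · rw [e1]; exact e4
      · obtain ⟨e1, e2, e3, e4⟩ := commutator_case h2 h1
        rw [Subgroup.commutator_comm] at e1
        refine Or.inr (Or.inr ⟨?_, ?_, ?_, ?_⟩)
        · rw [e1]; exact hin _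
        · rw [e1]; intro x hx y hy
          exact e2 x hx y (sup_comm (R a) (R b) ▸ hy)
        · rw [e1]
          intro u hu hu1
          rw [← e4 u hu hu1, ← Subgroup.closure_inv ((fun w => w * u * w⁻¹ * u⁻¹) '' _)]
          congr 1
          ext z
          simp only [Set.mem_inv, Set.mem_image, SetLike.mem_coe]
          constructor
          · rintro ⟨w, hw, rfl⟩; exact ⟨w, hw, by group⟩
          · rintro ⟨w, hw, h⟩; exact ⟨w, hw, by rw [← inv_inv z, ← h]; group⟩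
        · rw [e1]
          intro w hw hw1
          rw [← e3 w hw hw1, ← Subgroup.closure_inv ((fun u => w * u * w⁻¹ * u⁻¹) '' _)]
          congr 1
          ext z
          simp only [Set.mem_inv, Set.mem_image, SetLike.mem_coe]
          constructor
          · rintro ⟨u, hu, rfl⟩; exact ⟨u, hu, by group⟩
          · rintro ⟨u, hu, h⟩; exact ⟨u, hu, by rw [← inv_inv z, ← h]; group⟩
  have h01 : (0 : Fin (n + 3)) ≠ 1 := Fin.zero_ne_one (n := n + 1)
  have h02 : (0 : Fin (n + 3)) ≠ 2 := by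
    intro h; have := congrArg Fin.val h; rw [Fin.val_two] at this; simp at this
  have h12 : (1 : Fin (n + 3)) ≠ 2 := by
    intro h; have := congrArg Fin.val h; rw [Fin.val_two] at this; simp at this
  refine ⟨⟨hroot, ⟨⟨_, hin f01⟩, ?_⟩⟩, ⟨?_, ?_, ?_⟩, ⟨hroot, ?_⟩, ?_⟩
  · rintro A ⟨g, rfl⟩ B ⟨h, rfl⟩
    exact ⟨h * g⁻¹, by rw [← hcomp, inv_mul_cancel_right]⟩
  · refine ⟨_, hin (ef 0 1 h01), _, hin (ef 0 2 h02), fun e => ?_, ?_⟩
    · have h1 : eS (ef 0 2 h02) (1 : k) ∈ R (ef 0 1 h01) := e ▸ ⟨1, rfl⟩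
      obtain ⟨c, hc⟩ := h1
      rw [hefc, hefc] at hc
      have := congrFun (congrFun (congrArg Subtype.val hc) 0) 2
      simp [Matrix.SpecialLinearGroup.transvection_coe, Matrix.add_apply, h12] at this
    · rcases pair (ef 0 1 h01 : TransvGroup.Flag k (Fin (n + 3))) (ef 0 2 h02) with ⟨h, -, -⟩ | h | h | h
      · exact h
      all_goals exact absurd h (by simp [ef, eb, single_dotProduct, h01.symm, h02.symm])
  · exact ⟨_, hin (ef 0 1 h01), _, hin (ef 1 0 h01.symm), rankOne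
      (by simp [ef, eb, single_dotProduct]) (by simp [ef, eb, single_dotProduct])⟩
  · obtain ⟨e1, e2, e3, e4⟩ := commutator_case (a := (ef 0 1 h01 : TransvGroup.Flag k (Fin (n + 3))))
      (b := ef 1 2 h12) (by simp [ef, eb, single_dotProduct]) (by simp [ef, eb, single_dotProduct, h02.symm])
    exact ⟨_, hin _, _, hin _, e1.symm ▸ hin _, e1.symm ▸ e2, e1.symm ▸ e3, e1.symm ▸ e4⟩
  · intro A hA B hB hAB
    obtain ⟨a, rfl⟩ := (hmem A).mp hA
    obtain ⟨b, rfl⟩ := (hmem B).mp hB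
    obtain ⟨h1, h2⟩ := rankOne_dots hAB
    exact psl2 h1 h2
  · -- connectedness
    have hstep : ∀ (g : Matrix.SpecialLinearGroup (Fin (n + 3)) k) (A B : Subgroup (Matrix.SpecialLinearGroup (Fin (n + 3)) k)),
        Relation.ReflTransGen (Cfsg.FAdj S) A B →
        Relation.ReflTransGen (Cfsg.FAdj S) (Cfsg.conjBy A g) (Cfsg.conjBy B g) := by
      intro g A B hh
      induction hh with
      | refl => exact Relation.ReflTransGen.refl
      | tail _ hab ih =>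
        refine ih.tail ?_
        obtain ⟨hX, hY, hXY⟩ := hab
        obtain ⟨x, rfl⟩ := (hmem _).mp hX
        obtain ⟨y, rfl⟩ := (hmem _).mp hY
        obtain ⟨h1, h2⟩ := rankOne_dots hXY
        rw [conjBy_R, conjBy_R]
        exact ⟨hin _, hin _, rankOne (by rwa [dot_gF]) (by rwa [dot_gF])⟩
    have hbase : ∀ g : Matrix.SpecialLinearGroup (Fin (n + 3)) k,
        Relation.ReflTransGen (Cfsg.FAdj S) (R f01) (Cfsg.conjBy (R f01) g) := by
      refine fun g => Classical.SL_transvection_induction (fun g =>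
        Relation.ReflTransGen (Cfsg.FAdj S) (R f01) (Cfsg.conjBy (R f01) g)) ?_ ?_ g
      · intro i j hij c
        rw [conjBy_R]
        refine (Relation.ReflTransGen.single (b := R (ef 1 0 h01.symm)) ⟨hin _, hin _, rankOne ?_ ?_⟩).tail
          ⟨hin _, hin _, rankOne ?_ ?_⟩
        · show eb (0 : Fin (n + 3)) ⬝ᵥ ((Matrix.SpecialLinearGroup.transvection hij c).1 *ᵥ eb 0) ≠ (0 : k)
          rw [Matrix.SpecialLinearGroup.transvection_coe]
          by_cases hi : i = 0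
          · subst hi
            simp [eb, single_dotProduct, Matrix.add_mulVec, Matrix.single_mulVec, Pi.single_apply, Ne.symm hij, hij]
          · simp [eb, single_dotProduct, Matrix.add_mulVec, Matrix.single_mulVec, Pi.single_apply, Ne.symm hi, hi]
        · show (eb (1 : Fin (n + 3)) ᵥ* ((Matrix.SpecialLinearGroup.transvection hij c)⁻¹ :
            Matrix.SpecialLinearGroup (Fin (n + 3)) k).1) ⬝ᵥ eb 1 ≠ (0 : k)
          rw [Matrix.SpecialLinearGroup.transvection_inv, Matrix.SpecialLinearGroup.transvection_coe]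
          by_cases hi : i = 1
          · subst hi
            simp [eb, Matrix.vecMul_add, dotProduct_single, Matrix.vecMul, single_dotProduct, Matrix.single_apply, Ne.symm hij, hij]
          · simp [eb, Matrix.vecMul_add, dotProduct_single, Matrix.vecMul, single_dotProduct, Matrix.single_apply, hi]
        · simp [f01, ef, eb, single_dotProduct]
        · simp [ef, f01, eb, single_dotProduct]
      · intro g h hg hh
        rw [hcomp]
        exact hg.trans (hstep g _ _ hh)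
    intro A hA B hB
    rw [hSdef, Set.mem_setOf_eq, hcl] at hA hB
    obtain ⟨g, rfl⟩ := hA
    obtain ⟨h, rfl⟩ := hB
    have := hstep g _ _ (hbase (g⁻¹ * h))
    rwa [← hcomp, mul_inv_cancel_left] at this

end Cfsg.Agent.S5043
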