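import Cfsg.Statements.S5045
import Cfsg.Agent.Lib.RootInv.Basic
-- import your own Cfsg.Agent.* helpers here

set_option autoImplicit false
open Cfsg

namespace Cfsg.Agent.S5045
open Cfsg.Agent.RootInv
open scoped Pointwise

/-- Let G be a finite group generated by a set D of root involutions, and W the set of members of D whose product with every other member of D has even order or is trivial (the isolated vertices of the odd-order-product graph on D). Then W is conjugation-invariant and generates a normal 2-subgroup of G meeting D in exactly W; the commutator of two members of D lying in different connected components of that graph, each with more than one member, lies in the subgroup generated by W; and for a in such a component, every member of D commuting with a, different from a and with product with a in D, lies in that component or in W. -/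
theorem result {G : Type*} [Group G] [Finite G] {D : Set G} (hD : Cfsg.IsRootInvolutionSet D) :
    (∀ w ∈ {w | Cfsg.IsIsolatedElem (Cfsg.OddAdj D) D w}, ∀ g : G, g * w * g⁻¹ ∈ {w | Cfsg.IsIsolatedElem (Cfsg.OddAdj D) D w}) ∧
    (Subgroup.closure {w | Cfsg.IsIsolatedElem (Cfsg.OddAdj D) D w}).Normal ∧
    IsPGroup 2 ↥(Subgroup.closure {w | Cfsg.IsIsolatedElem (Cfsg.OddAdj D) D w}) ∧
    (Subgroup.closure {w | Cfsg.IsIsolatedElem (Cfsg.OddAdj D) D w} : Set G) ∩ D = {w | Cfsg.IsIsolatedElem (Cfsg.OddAdj D) D w} ∧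
    (∀ a ∈ D, ∀ b ∈ D, (∃ a' ∈ Cfsg.elemComponentOf (Cfsg.OddAdj D) D a, a' ≠ a) →
      (∃ b' ∈ Cfsg.elemComponentOf (Cfsg.OddAdj D) D b, b' ≠ b) →
      Cfsg.elemComponentOf (Cfsg.OddAdj D) D a ≠ Cfsg.elemComponentOf (Cfsg.OddAdj D) D b →
        a * b * a⁻¹ * b⁻¹ ∈ Subgroup.closure {w | Cfsg.IsIsolatedElem (Cfsg.OddAdj D) D w}) ∧
    (∀ a ∈ D, (∃ a' ∈ Cfsg.elemComponentOf (Cfsg.OddAdj D) D a, a' ≠ a) →
      Cfsg.productPartners D a ⊆ Cfsg.elemComponentOf (Cfsg.OddAdj D) D a ∪ {w | Cfsg.IsIsolatedElem (Cfsg.OddAdj D) D w}) := by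
  skip
  classical
  set I : Set G := {w | Cfsg.IsIsolatedElem (Cfsg.OddAdj D) D w} with hI
  have symAdj : ∀ a b, Cfsg.OddAdj D a b → Cfsg.OddAdj D b a := by
    rintro a b ⟨ha, hb, hne, ho⟩
    refine ⟨hb, ha, hne.symm, ?_⟩
    rwa [show b * a = (a * b)⁻¹ by
      rw [mul_inv_rev, inv_self hD ha, inv_self hD hb], orderOf_inv]
  have symR : ∀ a b, Relation.ReflTransGen (Cfsg.OddAdj D) a b → Relation.ReflTransGen (Cfsg.OddAdj D) b a := by
    intro a b h
    induction h with
    | refl => exact Relation.ReflTransGen.refl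
    | tail _ h ih => exact ih.head (symAdj _ _ h)
  have conjAdj : ∀ g a b, Cfsg.OddAdj D a b → Cfsg.OddAdj D (g * a * g⁻¹) (g * b * g⁻¹) := by
    rintro g a b ⟨ha, hb, hne, ho⟩
    refine ⟨hD.conj_mem a ha g, hD.conj_mem b hb g, fun h => hne ((MulAut.conj g).injective h), ?_⟩
    rwa [conj_mul, ← MulAut.conj_apply, MulEquiv.orderOf_eq]
  have conjR : ∀ g a b, Relation.ReflTransGen (Cfsg.OddAdj D) a b →
      Relation.ReflTransGen (Cfsg.OddAdj D) (g * a * g⁻¹) (g * b * g⁻¹) := by
    intro g a b h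
    induction h with
    | refl => exact Relation.ReflTransGen.refl
    | tail _ h ih => exact ih.tail (conjAdj g _ _ h)
  have adjR : ∀ a ∈ D, ∀ b ∈ D, (a * b) ^ 4 ≠ 1 → Relation.ReflTransGen (Cfsg.OddAdj D) a b :=
    fun a ha b hb h => Relation.ReflTransGen.single ⟨ha, hb, (odd_of hD ha hb h).2, (odd_of hD ha hb h).1⟩
  have four_of : ∀ w ∈ I, ∀ b ∈ D, (w * b) ^ 4 = 1 := by
    intro w hw b hb
    by_contra h
    exact (hw.2 b).1 ⟨hw.1, hb, (odd_of hD hw.1 hb h).2, (odd_of hD hw.1 hb h).1⟩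
  have notI : ∀ a ∈ D, a ∉ I → ∃ u ∈ D, (a * u) ^ 4 ≠ 1 := by
    intro a ha h
    by_contra hcon
    push Not at hcon
    refine h ⟨ha, fun b => ?_⟩
    have key : ∀ b, ¬ Cfsg.OddAdj D a b := by
      rintro b ⟨-, hb, hne, k, hk⟩
      have h1 : orderOf (a * b) ∣ 4 := orderOf_dvd_of_pow_eq_one (hcon b hb)
      have h2 : orderOf (a * b) = 1 := by
        have h3 : orderOf (a * b) ≤ 4 := Nat.le_of_dvd (by norm_num) h1
        rw [hk] at h1 h3 ⊢
        have : k = 0 ∨ k = 1 := by omega
        rcases this with rfl | rfl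
        · rfl
        · exact absurd h1 (by norm_num)
      rw [orderOf_eq_one_iff] at h2
      exact hne (by rw [eq_inv_of_mul_eq_one_left h2, inv_self hD hb])
    exact ⟨key b, fun h' => key b (symAdj _ _ h')⟩
  have hIconj : ∀ w ∈ I, ∀ g : G, g * w * g⁻¹ ∈ I := by
    intro w hw g
    refine ⟨hD.conj_mem w hw.1 g, fun b => ?_⟩
    have e1 : g⁻¹ * (g * w * g⁻¹) * g⁻¹⁻¹ = w := by group
    exact ⟨fun h => (hw.2 _).1 (by have := conjAdj g⁻¹ _ _ h; rwa [e1] at this),
      fun h => (hw.2 _).2 (by have := conjAdj g⁻¹ _ _ h; rwa [e1] at this)⟩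
  have hN : (Subgroup.closure I).Normal := by
    refine ⟨fun n hn g => ?_⟩
    induction hn using Subgroup.closure_induction with
    | mem w hw => exact Subgroup.subset_closure (hIconj w hw g)
    | one => simp
    | mul v w _ _ h1 h2 => rw [← conj_mul]; exact mul_mem h1 h2
    | inv v _ h1 => rw [← conj_inv]; exact inv_mem h1
  haveI : Fact (Nat.Prime 2) := ⟨Nat.prime_two⟩
  obtain ⟨P⟩ := (inferInstance : Nonempty (Sylow 2 G))
  have hP : ∀ f ∈ I, f ∈ (P : Subgroup G) := by
    intro f hf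
    have hz2 : ∀ g ∈ I, IsPGroup 2 (Subgroup.zpowers g) := by
      intro g hg
      apply IsPGroup.of_card (n := 1)
      rw [Nat.card_zpowers, pow_one]
      exact hD.orderOf_eq _ hg.1
    obtain ⟨N, hN', hN2, hfN⟩ := Cfsg.Agent.Inv.baerSuzuki (p := 2) (Subgroup.zpowers f) (hz2 f hf) fun g => by
      have eg : MulAut.conj g • Subgroup.zpowers f = Subgroup.zpowers (g * f * g⁻¹) := by
        show (Subgroup.zpowers f).map _ = _
        exact MonoidHom.map_zpowers _ f
      rw [eg]
      set f' := g * f * g⁻¹ with hf'def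
      have hf' : f' ∈ I := hIconj f hf g
      set ρ := f * f' with hρ
      have hρ4 : ρ ^ 4 = 1 := four_of f hf f' hf'.1
      have hfi : f⁻¹ = f := inv_self hD hf.1
      have hf'i : f'⁻¹ = f' := inv_self hD hf'.1
      have hρp : IsPGroup 2 (Subgroup.zpowers ρ) := by
        obtain ⟨j, -, hj⟩ := (Nat.dvd_prime_pow Nat.prime_two).1
          (show orderOf ρ ∣ 2 ^ 2 by simpa using orderOf_dvd_of_pow_eq_one hρ4)
        exact IsPGroup.of_card (n := j) (by rw [Nat.card_zpowers, hj])
      have hle : Subgroup.zpowers f ⊔ Subgroup.zpowers f' ≤ Subgroup.zpowers ρ ⊔ Subgroup.zpowers f := by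
        refine sup_le le_sup_right (Subgroup.zpowers_le.2 ?_)
        have : f' = f⁻¹ * ρ := by rw [hρ]; group
        rw [this]
        exact mul_mem (inv_mem (Subgroup.mem_sup_right (Subgroup.mem_zpowers f)))
          (Subgroup.mem_sup_left (Subgroup.mem_zpowers ρ))
      refine (IsPGroup.to_sup_of_normal_left' hρp (hz2 f hf) ?_).to_le hle
      rw [Subgroup.zpowers_le, Subgroup.mem_normalizer_iff]
      have hc1 : f * ρ * f⁻¹ = ρ⁻¹ := by
        calc f * ρ * f⁻¹ = (f * f) * f' * f⁻¹ := by rw [hρ]; group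
          _ = ρ⁻¹ := by rw [hfi, sq_one hD hf.1, one_mul, hρ, mul_inv_rev, hfi, hf'i]
      intro h
      constructor
      · rintro ⟨i, rfl⟩
        exact ⟨-i, by rw [← MulAut.conj_apply, map_zpow, MulAut.conj_apply, hc1, inv_zpow']⟩
      · rintro ⟨i, hi⟩
        refine ⟨-i, ?_⟩
        apply (MulAut.conj f).injective
        rw [map_zpow, MulAut.conj_apply, MulAut.conj_apply, hc1, inv_zpow', neg_neg]
        exact hi
    exact P.is_maximal' (IsPGroup.to_sup_of_normal_left hN2 P.isPGroup') le_sup_right ▸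
      Subgroup.mem_sup_left (hfN (Subgroup.mem_zpowers f))
  have hp : IsPGroup 2 (Subgroup.closure I) := P.isPGroup'.to_le (Subgroup.closure_le _ |>.2 hP)
  refine ⟨hIconj, hN, hp, ?_, ?_, ?_⟩
  · refine Set.Subset.antisymm ?_ (fun w hw => ⟨Subgroup.subset_closure hw, hw.1⟩)
    rintro d ⟨hdK, hd⟩
    by_contra hdI
    obtain ⟨u, hu, hdu⟩ := notI d hd hdI
    have h1 : (d * u) ^ 2 ∈ Subgroup.closure I := by
      rw [pow_two, show d * u * (d * u) = d * (u * d * u) by group]
      refine mul_mem hdK ?_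
      have := hN.conj_mem d hdK u
      rwa [inv_self hD hu] at this
    obtain ⟨k, hk⟩ := hp ⟨_, h1⟩
    have hk' : ((d * u) ^ 2) ^ (2 ^ k) = 1 := congrArg Subtype.val hk
    rw [← pow_mul, ← pow_succ'] at hk'
    obtain ⟨j, -, hj⟩ := (Nat.dvd_prime_pow Nat.prime_two).1 (orderOf_dvd_of_pow_eq_one hk')
    obtain ⟨ho, hne⟩ := odd_of hD hd hu hdu
    rcases j with _ | j
    · rw [pow_zero, orderOf_eq_one_iff] at hj
      exact hdu (by rw [hj, one_pow])
    · rw [hj] at ho
      exact absurd ho (by simp [Nat.not_odd_iff_even, Nat.even_pow])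
  · intro a ha b hb _ _ hne
    have hnR : ¬ Relation.ReflTransGen (Cfsg.OddAdj D) a b := fun h => hne (by
      ext c
      exact ⟨fun hc => ⟨hc.1, (symR _ _ h).trans hc.2⟩, fun hc => ⟨hc.1, h.trans hc.2⟩⟩)
    have h4 : (a * b) ^ 4 = 1 := by
      by_contra h
      exact hnR (adjR a ha b hb h)
    rw [inv_self hD ha, inv_self hD hb, show a * b * a * b = (a * b) ^ 2 by rw [pow_two]; group]
    rcases sq_mem hD ha hb h4 with h1 | h1
    · rw [h1]; exact one_mem _
    refine Subgroup.subset_closure ?_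
    by_contra hzI
    obtain ⟨u, hu, hzu⟩ := notI _ h1 hzI
    obtain ⟨-, caz, cbz, haba, hbab, -⟩ := four_facts (sq_one hD ha) (sq_one hD hb) h4
    set z := (a * b) ^ 2 with hz
    have key : ∀ p ∈ D, ∀ q ∈ D, q * z = z * q → p * z = z * p → q * p * q = p * z →
        Relation.ReflTransGen (Cfsg.OddAdj D) z p := by
      intro p hp q hq cq cp hqpq
      have hpz : p * z ∈ D := hqpq ▸ conj_self hD hq hp
      rcases line_odd hD hp h1 hu hpz cp hzu with h2 | h2
      · exact (adjR z h1 u hu hzu).trans (symR _ _ (adjR p hp u hu h2))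
      · have h3 : Relation.ReflTransGen (Cfsg.OddAdj D) z (q * p * q⁻¹) := by
          rw [inv_self hD hq, hqpq]
          exact (adjR z h1 u hu hzu).trans (symR _ _ (adjR _ hpz u hu h2))
        have := conjR q⁻¹ _ _ h3
        rwa [inv_inv, show q⁻¹ * (q * p * q⁻¹) * q = p by group,
          show q⁻¹ * z * q = z by rw [mul_assoc, ← cq, ← mul_assoc, inv_mul_cancel, one_mul]] at this
    exact hnR ((symR _ _ (key a ha b hb cbz caz hbab)).trans (key b hb a ha caz cbz haba))
  · intro a ha ha2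
    rintro e ⟨⟨he, hea, -⟩, hmem⟩
    by_cases heI : e ∈ I
    · exact Or.inr heI
    left
    refine ⟨he, ?_⟩
    have haI : a ∉ I := by
      intro haI
      obtain ⟨a', ⟨-, h1⟩, hne⟩ := ha2
      rcases Relation.ReflTransGen.cases_head h1 with h2 | ⟨c, h2, -⟩
      · exact hne h2.symm
      · exact (haI.2 c).1 h2
    by_contra hnR
    obtain ⟨u, hu, heu⟩ := notI e he heI
    obtain ⟨v, hv, hav⟩ := notI a ha haI
    have h1 : Relation.ReflTransGen (Cfsg.OddAdj D) e (e * a) := by
      have hmem' : a * e ∈ D := hea ▸ hmem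
      rcases line_odd hD ha he hu hmem' hea.symm heu with h | h
      · exact absurd ((adjR a ha u hu h).trans (symR _ _ (adjR e he u hu heu))) hnR
      · rw [hea]
        exact (adjR e he u hu heu).trans (symR _ _ (adjR _ hmem' u hu h))
    rcases line_odd hD he ha hv hmem hea hav with h | h
    · exact hnR ((adjR a ha v hv hav).trans (symR _ _ (adjR e he v hv h)))
    · exact hnR (((adjR a ha v hv hav).trans (symR _ _ (adjR _ hmem v hv h))).trans (symR _ _ h1))

end Cfsg.Agent.S5045
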