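import Cfsg.Statements.S5047
import Cfsg.Agent.Lib.RootInv.Three
-- import your own Cfsg.Agent.* helpers here

set_option autoImplicit false
open Cfsg

namespace Cfsg.Agent.S5047

/-- Let G be a finite group generated by a set D of root involutions whose odd-order-product graph is connected, a ∈ D, and b a member of D different from a, commuting with a, with ab ∈ D, but not having the same commuting members as a. Then some member x of D with bx of order 4 has ax of order 3. -/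
theorem result {G : Type*} [Group G] [Finite G] {D : Set G} (hD : Cfsg.IsRootInvolutionSet D)
    (hc : Cfsg.IsConnectedSet (Cfsg.OddAdj D) D) {a b : G} (ha : a ∈ D) (hb : b ∈ Cfsg.productPartners D a)
    (hbE : b ∉ Cfsg.sameCommutingClass D a) : ∃ x ∈ Cfsg.fourPartners D b, orderOf (a * x) = 3 := by
  skip
  classical
  obtain ⟨⟨hbD, hba, hne⟩, habD⟩ := hb
  have cab : a * b = b * a := hba.symm
  have habD : a * b ∈ D := cab ▸ habD
  have hAne : Cfsg.Agent.RootInv.As D a ≠ Cfsg.Agent.RootInv.As D b := fun h =>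
    hbE ⟨hbD, (Cfsg.Agent.RootInv.commutingMembers_eq_iff hD hc ha hbD).2 h⟩
  have hnsub : ∀ p ∈ D, ∀ q ∈ D, Cfsg.Agent.RootInv.As D p ≠ Cfsg.Agent.RootInv.As D q →
      ∃ u ∈ D, (p * u) ^ 4 ≠ 1 ∧ (q * u) ^ 4 = 1 := by
    intro p hp q hq h
    by_contra hcon
    push Not at hcon
    refine h (Set.eq_of_subset_of_ncard_le (fun u hu => ⟨hu.1, hcon u hu.1 hu.2⟩) ?_ (Set.toFinite _))
    obtain ⟨g, rfl⟩ := Cfsg.Agent.RootInv.conjugate hD hc hp hq
    rw [Cfsg.Agent.RootInv.As_conj hD, Set.ncard_image_of_injective _ (MulAut.conj g).injective]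
  obtain ⟨u, hu, hau, hbu⟩ := hnsub a ha b hbD hAne
  obtain ⟨t, ht, hatb, cbt⟩ := Cfsg.Agent.RootInv.line_root hD ha hbD hu cab habD hau hbu
  have hat4 : (a * t) ^ 4 = 1 := by
    rw [show (a * t) ^ 4 = ((a * t) ^ 2) ^ 2 by rw [← pow_mul], hatb, pow_two,
      Cfsg.Agent.RootInv.sq_one hD hbD]
  obtain ⟨-, -, -, hata, htat, -⟩ := Cfsg.Agent.RootInv.four_facts
    (Cfsg.Agent.RootInv.sq_one hD ha) (Cfsg.Agent.RootInv.sq_one hD ht) hat4
  rw [hatb] at hata htat
  have hbtD : b * t ∈ D := by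
    rw [cbt, ← hata]; exact Cfsg.Agent.RootInv.conj_self hD ha ht
  have hAbt : Cfsg.Agent.RootInv.As D b ≠ Cfsg.Agent.RootInv.As D t := fun h => by
    have h1 : a ∈ Cfsg.commutingMembers D b := ⟨ha, cab⟩
    rw [(Cfsg.Agent.RootInv.commutingMembers_eq_iff hD hc hbD ht).2 h] at h1
    have h2 : (a * t) ^ 2 = 1 := by
      rw [Commute.mul_pow h1.2, pow_two, pow_two, Cfsg.Agent.RootInv.sq_one hD ha,
        Cfsg.Agent.RootInv.sq_one hD ht, one_mul]
    exact Cfsg.Agent.RootInv.ne_one hD hbD (hatb ▸ h2)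
  obtain ⟨u2, hu2, hbu2, htu2⟩ := hnsub b hbD t ht hAbt
  obtain ⟨x, hx, hbxt, ctx⟩ := Cfsg.Agent.RootInv.line_root hD hbD ht hu2 cbt hbtD hbu2 htu2
  have hbx4 : (b * x) ^ 4 = 1 := by
    rw [show (b * x) ^ 4 = ((b * x) ^ 2) ^ 2 by rw [← pow_mul], hbxt, pow_two,
      Cfsg.Agent.RootInv.sq_one hD ht]
  obtain ⟨-, -, -, hbxb, hxbx, -⟩ := Cfsg.Agent.RootInv.four_facts
    (Cfsg.Agent.RootInv.sq_one hD hbD) (Cfsg.Agent.RootInv.sq_one hD hx) hbx4
  rw [hbxt] at hbxb hxbx
  have hai := Cfsg.Agent.RootInv.inv_self hD ha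
  have hxi := Cfsg.Agent.RootInv.inv_self hD hx
  have hA : ∀ g : G, MulAut.conj a g = a * g * a := fun g => by rw [MulAut.conj_apply, hai]
  have hX : ∀ g : G, MulAut.conj x g = x * g * x := fun g => by rw [MulAut.conj_apply, hxi]
  have cAb : MulAut.conj a b = b := by
    rw [hA, cab, mul_assoc, Cfsg.Agent.RootInv.sq_one hD ha, mul_one]
  have cAt : MulAut.conj a t = t * b := by rw [hA, hata]
  have cXt : MulAut.conj x t = t := by
    rw [hX, ← ctx, mul_assoc, Cfsg.Agent.RootInv.sq_one hD hx, mul_one]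
  have cXb : MulAut.conj x b = b * t := by rw [hX, hxbx]
  have e1 : MulAut.conj a (b * t) = t := by
    rw [map_mul, cAb, cAt, ← mul_assoc, cbt, mul_assoc, Cfsg.Agent.RootInv.sq_one hD hbD, mul_one]
  have e2 : MulAut.conj x (t * b) = b := by
    rw [map_mul, cXb, cXt, ← mul_assoc, ← cbt, mul_assoc, Cfsg.Agent.RootInv.sq_one hD ht, mul_one]
  have hne4 : (a * x) ^ 4 ≠ 1 := fun h => by
    have h1 : MulAut.conj ((a * x) ^ 4) b = b := by rw [h, map_one]; rfl
    rw [show (a * x) ^ 4 = a * (x * (a * (x * (a * (x * (a * x)))))) by simp [pow_succ, mul_assoc]] at h1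
    simp only [map_mul MulAut.conj, MulAut.mul_apply, cXb, cXt, cAb, cAt, e1, e2] at h1
    apply Cfsg.Agent.RootInv.ne_one hD hbD
    rw [← hatb, h1, Commute.mul_pow (show Commute a b from cab), pow_two, pow_two,
      Cfsg.Agent.RootInv.sq_one hD ha, Cfsg.Agent.RootInv.sq_one hD hbD, one_mul]
  set a' := x * a * (x * a * x) with ha'
  have ha'D : a' ∈ D := by
    have := hD.conj_mem x hx (x * a)
    rwa [mul_inv_rev, hai, hxi, show x * a * x * (a * x) = x * a * (x * a * x) by group] at this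
  have hbt2 : b * (t * b) = t := by rw [← mul_assoc, cbt, mul_assoc, Cfsg.Agent.RootInv.sq_one hD hbD, mul_one]
  have cab' : b * a' = a' * b := by
    have h1 : MulAut.conj a' b = b := by
      simp only [ha', map_mul MulAut.conj, MulAut.mul_apply, cXb, cXt, cAb, cAt, e1, e2]
    rw [MulAut.conj_apply] at h1
    exact (mul_inv_eq_iff_eq_mul.1 h1).symm
  have h12 : (a * a') ^ 4 = 1 := by
    by_contra h
    exact Cfsg.Agent.RootInv.ne_one hD hbD (Cfsg.Agent.RootInv.commuting_odd hD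
      (Cfsg.Agent.RootInv.sq_one hD hbD) ha ha'D (cab ▸ habD) hba cab' h)
  have h12' : (a * x) ^ 12 = 1 := by
    rw [show (12 : ℕ) = 3 * 4 from rfl, pow_mul, ← h12]
    congr 1
    rw [ha']
    simp only [pow_succ, pow_zero, one_mul]
    group
  obtain ⟨ho, -⟩ := Cfsg.Agent.RootInv.odd_of hD ha hx hne4
  have h3 : orderOf (a * x) ∣ 3 := by
    have h4 : Nat.Coprime (orderOf (a * x)) 4 :=
      (Nat.coprime_two_right.2 ho).pow_right 2
    exact h4.dvd_of_dvd_mul_left (show orderOf (a * x) ∣ 4 * 3 from orderOf_dvd_of_pow_eq_one h12')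
  refine ⟨x, ⟨hx, ?_⟩, ?_⟩
  · have h2 : ¬(b * x) ^ 2 ^ 1 = 1 := by
      rw [pow_one, hbxt]; exact Cfsg.Agent.RootInv.ne_one hD ht
    exact orderOf_eq_prime_pow (p := 2) (n := 1) h2 hbx4
  · rcases (Nat.dvd_prime Nat.prime_three).1 h3 with h | h
    · exact absurd (by rw [orderOf_eq_one_iff.1 h, one_pow]) hne4
    · exact h

end Cfsg.Agent.S5047
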