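import Cfsg.Statements.S5048
import Cfsg.Agent.Lib.RootInv.Basic
import Cfsg.Agent.Lib.Solv.Basic
-- import your own Cfsg.Agent.* helpers here

set_option autoImplicit false
open Cfsg

namespace Cfsg.Agent.S5048
open Cfsg.Agent.RootInv
open scoped Pointwise

/-- Let G be a finite group generated by a set D of root involutions whose odd-order-product graph is connected, with some product of two different commuting members of D again in D. Then the largest solvable normal subgroup of G is the preimage of the centre of G/O₂(G), and the quotient of G by it is a simple group. -/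
theorem result {G : Type*} [Group G] [Finite G] {D : Set G} (hD : Cfsg.IsRootInvolutionSet D)
    (hc : Cfsg.IsConnectedSet (Cfsg.OddAdj D) D) (hDD : (D ∩ Cfsg.commutingProducts D).Nonempty) :
    Cfsg.solvableRadical G = Cfsg.twoZCore G ∧ IsSimpleGroup (G ⧸ Cfsg.twoZCore G) := by
  skip
  classical
  haveI : Fact (Nat.Prime 2) := ⟨Nat.prime_two⟩
  obtain ⟨w, hwD, a, ha, b, hb, cab, -, rfl⟩ := hDD
  -- a normal subgroup that is proper meets D trivially
  have hND : ∀ N : Subgroup G, N.Normal → N ≠ ⊤ → ∀ d ∈ D, d ∉ N := by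
    intro N hN hne d hd hdN
    apply hne
    rw [eq_top_iff, ← hD.generates, Subgroup.closure_le]
    intro e he
    obtain ⟨g, rfl⟩ := conjugate hD hc hd he
    exact hN.conj_mem d hdN g
  have hodd : ∀ N : Subgroup G, N.Normal → N ≠ ⊤ → ∀ q ∈ D, ∀ y ∈ D, q * y ∈ N → (q * y) ^ 4 = 1 := by
    intro N hN hne q hq y hy hqy
    by_contra h4
    obtain ⟨g, hg⟩ := conjugate hD hc hb hq
    set p := g * a * g⁻¹ with hp
    have hpD : p ∈ D := hD.conj_mem a ha g
    have hpq : p * q ∈ D := by
      rw [hg, hp, conj_mul]; exact hD.conj_mem _ hwD g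
    have cpq : p * q = q * p := by
      rw [hg, hp, conj_mul, conj_mul, cab]
    have key : ∀ r ∈ D, ∀ r' ∈ D, (r * y) ^ 4 ≠ 1 → r * q = q * r → r * q = r' → r' ∈ N := by
      intro r hr r' _ hry crq e
      subst e
      rw [← QuotientGroup.eq_one_iff (N := N)]
      have hqy1 : (q : G ⧸ N) = (y : G ⧸ N) := by
        have h1 : ((q * y : G) : G ⧸ N) = 1 := (QuotientGroup.eq_one_iff _).2 hqy
        rw [QuotientGroup.mk_mul] at h1
        rw [eq_inv_of_mul_eq_one_left h1, ← QuotientGroup.mk_inv, inv_self hD hy]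
      have h2 : ((r * q : G) : G ⧸ N) = ((r * y : G) : G ⧸ N) := by
        rw [QuotientGroup.mk_mul, QuotientGroup.mk_mul, hqy1]
      have h3 : ((r * q : G) : G ⧸ N) ^ 2 = 1 := by
        rw [← QuotientGroup.mk_pow, Commute.mul_pow crq, pow_two, pow_two, sq_one hD hr, sq_one hD hq,
          one_mul, QuotientGroup.mk_one]
      obtain ⟨k, hk⟩ := (odd_of hD hr hy hry).1
      have h5 : ((r * q : G) : G ⧸ N) ^ (2 * k + 1) = 1 := by
        rw [h2, ← QuotientGroup.mk_pow, ← hk, pow_orderOf_eq_one, QuotientGroup.mk_one]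
      rwa [pow_succ, pow_mul, h3, one_pow, one_mul] at h5
    rcases line_odd hD hpD hq hy hpq cpq h4 with h | h
    · exact hND N hN hne _ hpq (key p hpD _ hpq h cpq rfl)
    · refine hND N hN hne p hpD (key _ hpq p hpD h ?_ ?_)
      · rw [mul_assoc, sq_one hD hq, mul_one, ← mul_assoc, ← cpq, mul_assoc, sq_one hD hq, mul_one]
      · rw [mul_assoc, sq_one hD hq, mul_one]
  -- a proper normal subgroup is central modulo the 2-core
  have hle : ∀ N : Subgroup G, N.Normal → N ≠ ⊤ → N ≤ Cfsg.twoZCore G := by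
    intro N hN hne n hn
    haveI := hN
    have hcomm : ∀ d ∈ D, ∀ n ∈ N, n * d * n⁻¹ * d⁻¹ ∈ Cfsg.pCore 2 G := by
      intro d hd n hn
      set M := N ⊔ Subgroup.zpowers d with hM
      have hdM : d ∈ M := Subgroup.mem_sup_right (Subgroup.mem_zpowers d)
      have hnM : n ∈ M := Subgroup.mem_sup_left hn
      let f : M := ⟨d, hdM⟩
      have hz2 : ∀ g : M, (g : G) ∈ D → IsPGroup 2 (Subgroup.zpowers g) := by
        intro g hg
        apply IsPGroup.of_card (n := 1)
        rw [Nat.card_zpowers, pow_one, ← orderOf_injective M.subtype M.subtype_injective g]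
        exact hD.orderOf_eq _ hg
      obtain ⟨K, hK, hK2, hfK⟩ := Cfsg.Agent.Inv.baerSuzuki (p := 2) (Subgroup.zpowers f) (hz2 f hd) fun g => by
        have eg : MulAut.conj g • Subgroup.zpowers f = Subgroup.zpowers (g * f * g⁻¹) := by
          show (Subgroup.zpowers f).map _ = _
          exact MonoidHom.map_zpowers _ f
        rw [eg]
        set f' := g * f * g⁻¹ with hf'def
        have hf' : (f' : G) ∈ D := by
          simpa [hf'def] using hD.conj_mem d hd (g : G)
        set ρ := f * f' with hρ
        have hρN : d * ((g : G) * d * (g : G)⁻¹) ∈ N := by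
          obtain ⟨m, hm, z, hz, e⟩ := Subgroup.mem_sup_of_normal_left.1 (show (g : G) ∈ M from g.2)
          obtain ⟨i, rfl⟩ := Subgroup.mem_zpowers_iff.1 hz
          rw [← e, show d * (m * d ^ i * d * (m * d ^ i)⁻¹) = (d * m * d⁻¹) * (d * d) * m⁻¹ by group,
            sq_one hD hd, mul_one]
          exact mul_mem (hN.conj_mem m hm d) (inv_mem hm)
        have hρ4 : ρ ^ 4 = 1 := Subtype.ext (by
          have := hodd N hN hne d hd _ (hD.conj_mem d hd g) hρN
          simpa [hρ, hf'def, f] using this)
        have hfi : f⁻¹ = f := Subtype.ext (by simpa [f] using inv_self hD hd)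
        have hf'i : f'⁻¹ = f' := Subtype.ext (by simpa using inv_self hD hf')
        have hρp : IsPGroup 2 (Subgroup.zpowers ρ) := by
          obtain ⟨j, -, hj⟩ := (Nat.dvd_prime_pow Nat.prime_two).1
            (show orderOf ρ ∣ 2 ^ 2 by simpa using orderOf_dvd_of_pow_eq_one hρ4)
          exact IsPGroup.of_card (n := j) (by rw [Nat.card_zpowers, hj])
        have hle : Subgroup.zpowers f ⊔ Subgroup.zpowers f' ≤ Subgroup.zpowers ρ ⊔ Subgroup.zpowers f := by
          refine sup_le le_sup_right (Subgroup.zpowers_le.2 ?_)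
          have : f' = f⁻¹ * ρ := by rw [hρ]; group
          rw [this]
          exact mul_mem (inv_mem (Subgroup.mem_sup_right (Subgroup.mem_zpowers f)))
            (Subgroup.mem_sup_left (Subgroup.mem_zpowers ρ))
        refine (IsPGroup.to_sup_of_normal_left' hρp (hz2 f hd) ?_).to_le hle
        rw [Subgroup.zpowers_le, Subgroup.mem_normalizer_iff]
        have hc1 : f * ρ * f⁻¹ = ρ⁻¹ := by
          calc f * ρ * f⁻¹ = (f * f) * f' * f⁻¹ := by rw [hρ]; group
            _ = ρ⁻¹ := by
              rw [hfi, show f * f = 1 by nth_rw 1 [← hfi]; group, one_mul, hρ, mul_inv_rev, hfi, hf'i]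
        intro h
        constructor
        · rintro ⟨i, rfl⟩
          exact ⟨-i, by rw [← MulAut.conj_apply, map_zpow, MulAut.conj_apply, hc1, inv_zpow']⟩
        · rintro ⟨i, hi⟩
          refine ⟨-i, ?_⟩
          apply (MulAut.conj f).injective
          rw [map_zpow, MulAut.conj_apply, MulAut.conj_apply, hc1, inv_zpow', neg_neg]
          exact hi
      -- the element lies in a normal 2-subgroup of N
      set c := n * d * n⁻¹ * d⁻¹ with hc'
      have hcN : c ∈ N := by
        rw [hc', show n * d * n⁻¹ * d⁻¹ = n * (d * n⁻¹ * d⁻¹) by group]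
        exact mul_mem hn (hN.conj_mem _ (inv_mem hn) d)
      let j : ↥N →* ↥M := Subgroup.inclusion le_sup_left
      have hjN : (K.comap j).Normal := hK.comap j
      have hj2 : IsPGroup 2 ↥(K.comap j) := hK2.comap_of_injective j (Subgroup.inclusion_injective _)
      have hcK : (⟨c, hcN⟩ : N) ∈ K.comap j := by
        have hfK' : f ∈ K := hfK (Subgroup.mem_zpowers f)
        have := mul_mem (hK.conj_mem f hfK' ⟨n, hnM⟩) (inv_mem hfK')
        exact this
      have h1 : (⟨c, hcN⟩ : N) ∈ Cfsg.pCore 2 N := Cfsg.Agent.Solv.le_pCore hj2 hcK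
      have h2 : ((Cfsg.pCore 2 N).map N.subtype).Normal :=
        ConjAct.normal_of_characteristic_of_normal
      exact Cfsg.Agent.Solv.le_pCore ((Cfsg.Agent.Solv.isPGroup_pCore 2 N).map N.subtype)
        (Subgroup.mem_map_of_mem N.subtype h1)
    show QuotientGroup.mk' (Cfsg.pCore 2 G) n ∈ Subgroup.center _
    rw [Subgroup.mem_center_iff]
    intro x
    obtain ⟨x, rfl⟩ := QuotientGroup.mk'_surjective (Cfsg.pCore 2 G) x
    have hx : x ∈ Subgroup.closure D := hD.generates ▸ Subgroup.mem_top x
    induction hx using Subgroup.closure_induction with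
    | mem d hd =>
      have h1 := hcomm d hd n hn
      rw [← QuotientGroup.eq_one_iff, QuotientGroup.mk_mul, QuotientGroup.mk_mul, QuotientGroup.mk_mul,
        QuotientGroup.mk_inv, QuotientGroup.mk_inv, mul_inv_eq_one, mul_inv_eq_iff_eq_mul] at h1
      exact h1.symm
    | one => simp
    | mul v w _ _ h1 h2 => rw [map_mul, mul_assoc, h2, ← mul_assoc, h1, mul_assoc]
    | inv v _ h1 => rw [map_inv]; exact (Commute.inv_left h1).eq
  have hab : a ≠ b := fun h => ne_one hD hwD (by rw [h, sq_one hD hb])
  have hnt : Nontrivial G := ⟨⟨a, b, hab⟩⟩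
  have hnsol : ¬ Group.IsSolvable G := by
    intro hs
    have hlt : commutator G ≠ ⊤ := (Group.IsSolvable.commutator_lt_top_of_nontrivial G).ne
    apply hND (commutator G) inferInstance hlt a ha
    rw [← Abelianization.ker_of, MonoidHom.mem_ker]
    have e : ∀ d ∈ D, Abelianization.of d = Abelianization.of a := by
      intro d hd
      obtain ⟨g, rfl⟩ := conjugate hD hc ha hd
      rw [map_mul, map_mul, map_inv, mul_comm (Abelianization.of g), mul_inv_cancel_right]
    have h1 := e _ hwD
    rw [map_mul, e b hb] at h1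
    simpa using h1
  haveI hZn : (Cfsg.twoZCore G).Normal := inferInstance
  have hZsol : Group.IsSolvable ↥(Cfsg.twoZCore G) := by
    haveI : Group.IsNilpotent ↥(Cfsg.pCore 2 G) := (Cfsg.Agent.Solv.isPGroup_pCore 2 G).isNilpotent
    haveI : Group.IsSolvable ↥(Subgroup.center (G ⧸ Cfsg.pCore 2 G)) :=
      Group.isSolvable_of_comm fun u v => Subtype.ext (Subgroup.mem_center_iff.1 v.2 u)
    let f := (QuotientGroup.mk' (Cfsg.pCore 2 G)).subgroupComap (Subgroup.center (G ⧸ Cfsg.pCore 2 G))
    refine Group.isSolvable_of_ker_le_range (Subgroup.inclusion (show Cfsg.pCore 2 G ≤ Cfsg.twoZCore G from fun x hx => ?_)) f ?_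
    · show QuotientGroup.mk' (Cfsg.pCore 2 G) x ∈ Subgroup.center _
      rw [(QuotientGroup.eq_one_iff x).2 hx |> fun h => (show QuotientGroup.mk' (Cfsg.pCore 2 G) x = 1 from h)]
      exact one_mem _
    · intro x hx
      exact ⟨⟨(x : G), (QuotientGroup.eq_one_iff _).1 (congrArg Subtype.val hx)⟩, rfl⟩
  have hne : Cfsg.twoZCore G ≠ ⊤ := fun h => hnsol (by
    rw [h] at hZsol
    exact Group.isSolvable_of_surjective (f := (Subgroup.topEquiv (G := G)).toMonoidHom) Subgroup.topEquiv.surjective)
  refine ⟨le_antisymm (sSup_le ?_) (le_sSup ⟨hZn, hZsol⟩), ?_⟩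
  · rintro N ⟨hN, hNs⟩
    exact hle N hN fun h => hnsol (by
      rw [h] at hNs
      exact Group.isSolvable_of_surjective (f := (Subgroup.topEquiv (G := G)).toMonoidHom) Subgroup.topEquiv.surjective)
  · haveI : Nontrivial (G ⧸ Cfsg.twoZCore G) := QuotientGroup.nontrivial_iff.2 hne
    refine ⟨fun H hH => ?_⟩
    have hC : (H.comap (QuotientGroup.mk' (Cfsg.twoZCore G))).Normal := hH.comap _
    by_cases h : H.comap (QuotientGroup.mk' (Cfsg.twoZCore G)) = ⊤
    · right
      rw [← Subgroup.map_comap_eq_self_of_surjective (QuotientGroup.mk'_surjective _) H, h]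
      exact Subgroup.map_top_of_surjective _ (QuotientGroup.mk'_surjective _)
    · left
      rw [eq_bot_iff, ← Subgroup.map_comap_eq_self_of_surjective (QuotientGroup.mk'_surjective _) H]
      refine (Subgroup.map_mono (hle _ hC h)).trans ?_
      rw [QuotientGroup.map_mk'_self]

end Cfsg.Agent.S5048
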