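import Cfsg.Statements.S5049
import Cfsg.Agent.Lib.Solv.Basic
-- import your own Cfsg.Agent.* helpers here

set_option autoImplicit false
open Cfsg

namespace Cfsg.Agent.S5049

/-- Let G be a finite group generated by a set D of odd transpositions (root involutions with no product of order 4), Q = O₂(G), and for a ∈ D let Q_a be the commutator subgroup of Q with a. Then every member of D commuting with a centralizes Q_a; and for b ∈ D with ab of odd order greater than 1, the centralizer of ab in Q is the intersection of the centralizers of a and b in Q. -/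
theorem result {G : Type*} [Group G] [Finite G] {D : Set G} (hD : Cfsg.IsOddTranspositionSet D) {a : G} (ha : a ∈ D) :
    (∀ e ∈ Cfsg.commutingMembers D a, ∀ q ∈ ⁅Cfsg.pCore 2 G, Subgroup.zpowers a⁆, e * q = q * e) ∧
    (∀ b ∈ Cfsg.oddPartners D a,
      Cfsg.pCore 2 G ⊓ Subgroup.centralizer {a * b} = Cfsg.pCore 2 G ⊓ Subgroup.centralizer {a} ⊓ Subgroup.centralizer {b}) := by
  obtain ⟨⟨hord, -, hconj, hpair⟩, h4⟩ := hD
  have hsq : ∀ d ∈ D, d * d = 1 := fun d hd => by rw [← pow_two, ← hord d hd, pow_orderOf_eq_one]
  have hQn : (Cfsg.pCore 2 G).Normal := Subgroup.sSup_normal _ (fun _ h => h.1)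
  have hQp : IsPGroup 2 ↥(Cfsg.pCore 2 G) := by
    haveI : Fact (Nat.Prime 2) := ⟨Nat.prime_two⟩
    exact Cfsg.Agent.Solv.isPGroup_pCore 2 G
  -- two members whose product is congruent to a commuting pair modulo `O₂` commute
  have key : ∀ u ∈ D, ∀ v ∈ D, (u * v) * (u * v) ∈ Cfsg.pCore 2 G → u * v = v * u := by
    intro u hu v hv hm
    rcases hpair u hu v hv with h | h | h
    · exact h
    · obtain ⟨n, hn⟩ := hQp ⟨_, hm⟩
      have hn' : ((u * v) * (u * v)) ^ 2 ^ n = 1 := congrArg Subtype.val hn
      rw [← pow_two, ← pow_mul, ← pow_succ'] at hn'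
      have h1 : orderOf (u * v) = 1 := by
        obtain ⟨m, -, hm'⟩ := (Nat.dvd_prime_pow Nat.prime_two).1 (orderOf_dvd_of_pow_eq_one hn')
        rw [hm'] at h ⊢
        rcases Nat.eq_zero_or_pos m with rfl | hpos
        · rfl
        · exact absurd h (Nat.not_odd_iff_even.2 (Nat.even_pow.2 ⟨even_two, hpos.ne'⟩))
      rw [orderOf_eq_one_iff] at h1
      have : v = u := by
        calc v = (u * u) * v := by rw [hsq u hu, one_mul]
          _ = u * (u * v) := mul_assoc _ _ _
          _ = u := by rw [h1, mul_one]
      rw [this]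
    · exact absurd h.1 (h4 u hu v hv)
  -- a member commutes with its conjugates under `O₂`, with every member commuting with it
  have hconjQ : ∀ c ∈ D, ∀ e ∈ D, e * c = c * e → ∀ q ∈ Cfsg.pCore 2 G, e * (q * c * q⁻¹) = (q * c * q⁻¹) * e := by
    intro c hc e he hec q hq
    refine key e he _ (hconj c hc q) ?_
    have hr : c * (q * c * q⁻¹) ∈ Cfsg.pCore 2 G := by
      have := mul_mem (hQn.conj_mem q hq c) (inv_mem hq)
      have hci : c⁻¹ = c := inv_eq_of_mul_eq_one_right (hsq c hc)
      rw [hci] at this
      rwa [show c * (q * c * q⁻¹) = c * q * c * q⁻¹ by group]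
    have hx : e * (q * c * q⁻¹) = (e * c) * (c * (q * c * q⁻¹)) := by
      rw [mul_assoc e c, ← mul_assoc c c, hsq c hc, one_mul]
    have hec2 : (e * c) * (e * c) = 1 := by
      rw [mul_assoc, ← mul_assoc c e c, ← hec, mul_assoc e c c, hsq c hc, mul_one, hsq e he]
    rw [hx]
    have h2 := hQn.conj_mem _ hr (e * c)
    rw [show (e * c) * (c * (q * c * q⁻¹)) * ((e * c) * (c * (q * c * q⁻¹))) =
      ((e * c) * (c * (q * c * q⁻¹)) * (e * c)⁻¹) * ((e * c) * (e * c)) * (c * (q * c * q⁻¹)) by group,
      hec2, mul_one]
    exact mul_mem h2 hr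
  refine ⟨fun e he q hq => ?_, fun b hb => ?_⟩
  · have hle : ⁅Cfsg.pCore 2 G, Subgroup.zpowers a⁆ ≤ Subgroup.centralizer {e} := by
      rw [Subgroup.commutator_le]
      intro u hu v hv
      obtain ⟨k, rfl⟩ := Subgroup.mem_zpowers_iff.1 hv
      rw [Subgroup.mem_centralizer_singleton_iff, commutatorElement_def]
      have c1 : Commute e (u * a * u⁻¹) := hconjQ a ha e he.1 he.2 u hu
      have c2 : Commute e a := he.2
      have := (c1.zpow_right k).mul_right (c2.zpow_right k).inv_right
      rw [conj_zpow] at this
      exact this.eq.symm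
    exact (Subgroup.mem_centralizer_singleton_iff.1 (hle hq)).symm
  · obtain ⟨hbD, hne, hodd⟩ := hb
    ext q
    simp only [Subgroup.mem_inf, Subgroup.mem_centralizer_singleton_iff]
    constructor
    · rintro ⟨hq, hqab⟩
      obtain ⟨m, hm⟩ := hodd
      set n := a * b with hn
      have hai : a⁻¹ = a := inv_eq_of_mul_eq_one_right (hsq a ha)
      have hbi : b⁻¹ = b := inv_eq_of_mul_eq_one_right (hsq b hbD)
      set r := n ^ m with hr
      have han : a * n = n⁻¹ * a := by
        rw [hn, mul_inv_rev, hai, hbi, ← mul_assoc, hsq a ha, one_mul, mul_assoc, hsq a ha, mul_one]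
      have hpow : ∀ j : ℕ, a * n ^ j = (n ^ j)⁻¹ * a := by
        intro j
        induction j with
        | zero => simp
        | succ j ih => rw [pow_succ, ← mul_assoc, ih, mul_assoc, han, ← mul_assoc, ← mul_inv_rev,
            (Commute.self_pow n j).eq]
      have hnm : n⁻¹ = n ^ m * n ^ m := inv_eq_of_mul_eq_one_left (by
        rw [← pow_add, ← pow_succ, ← two_mul, ← hm, pow_orderOf_eq_one])
      have hb'' : b = r * a * r⁻¹ := by
        have hflip : n ^ m * a = a * (n ^ m)⁻¹ := by
          calc n ^ m * a = n ^ m * (a * n ^ m) * (n ^ m)⁻¹ := by group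
            _ = a * (n ^ m)⁻¹ := by rw [hpow m, mul_inv_cancel_left]
        calc b = a * n := by rw [hn, ← mul_assoc, hsq a ha, one_mul]
          _ = n⁻¹ * a := han
          _ = n ^ m * (n ^ m * a) := by rw [hnm, mul_assoc]
          _ = r * a * r⁻¹ := by conv_lhs => rw [hflip, ← mul_assoc]
      have hcr : Commute q r := (show Commute q n from hqab).pow_right m
      set y := q * a * q⁻¹ * a with hy
      have hya : y * a = q * a * q⁻¹ := by rw [hy, mul_assoc, hsq a ha, mul_one]
      have cay : Commute a y := by
        have := (show Commute a (q * a * q⁻¹) from hconjQ a ha a ha rfl q hq).mul_right (Commute.refl a)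
        exact this
      have hy2 : y * y = 1 := by
        calc y * y = (q * a * q⁻¹) * (a * y) := by rw [hy]; group
          _ = (q * a * q⁻¹) * (y * a) := by rw [cay.eq]
          _ = q * (a * a) * q⁻¹ := by rw [hya]; group
          _ = 1 := by rw [hsq a ha]; group
      have hyb : q * b * q⁻¹ = (r * y * r⁻¹) * b := by
        rw [hb'', show r * y * r⁻¹ * (r * a * r⁻¹) = r * (y * a) * r⁻¹ by group, hya]
        calc q * (r * a * r⁻¹) * q⁻¹ = (q * r) * a * (q * r)⁻¹ := by group
          _ = (r * q) * a * (r * q)⁻¹ := by rw [hcr.eq]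
          _ = r * (q * a * q⁻¹) * r⁻¹ := by group
      set y' := r * y * r⁻¹
      have h1 : (y * a) * (y' * b) = a * b := by
        rw [hya, ← hyb]
        calc (q * a * q⁻¹) * (q * b * q⁻¹) = q * n * q⁻¹ := by rw [hn]; group
          _ = n := by rw [(show q * n = n * q from hqab), mul_inv_cancel_right]
      have h2 : y * (a * y') = a := by
        apply mul_right_cancel (b := b)
        rw [← h1]; group
      have hy' : y' = y := by
        calc y' = a * ((y * y) * (a * y')) := by rw [hy2, one_mul, ← mul_assoc, hsq a ha, one_mul]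
          _ = a * (y * a) := by rw [mul_assoc y y, h2]
          _ = y := by rw [← mul_assoc, cay.eq, mul_assoc, hsq a ha, mul_one]
      have cry : Commute r y := by
        show r * y = y * r
        calc r * y = y' * r := by simp only [y', inv_mul_cancel_right]
          _ = y * r := by rw [hy']
      have cyb : Commute y b := by
        rw [hb'']
        exact ((cry.symm).mul_right cay.symm).mul_right cry.symm.inv_right
      have cyn : Commute y n := cay.symm.mul_right cyb
      have hy1 : y = 1 := by
        by_contra hy0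
        have hyo : orderOf y = 2 := orderOf_eq_prime (by rw [pow_two]; exact hy2) hy0
        have ho : orderOf (y * n) = 2 * orderOf n := by
          rw [cyn.orderOf_mul_eq_mul_orderOf_of_coprime
            (by rw [hyo]; exact (Nat.prime_two.coprime_iff_not_dvd).2 (by omega)), hyo]
        have hnn : n ≠ 1 := fun e => hne (by
          calc b = (a * a) * b := by rw [hsq a ha, one_mul]
            _ = a := by rw [mul_assoc, ← hn, e, mul_one])
        have hn1 : orderOf n ≠ 1 := fun e => hnn (orderOf_eq_one_iff.1 e)
        have hprod : (q * a * q⁻¹) * b = y * n := by rw [← hya, hn, mul_assoc]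
        rcases hpair _ (hconj a ha q) b hbD with h | h | h
        · have h2 : (q * a * q⁻¹ * b) ^ 2 = 1 := by
            rw [(show Commute (q * a * q⁻¹) b from h).mul_pow, pow_two, pow_two, hsq _ (hconj a ha q), hsq b hbD,
              one_mul]
          rw [hprod] at h2
          have := Nat.le_of_dvd (by norm_num) (orderOf_dvd_of_pow_eq_one h2)
          omega
        · rw [hprod, ho] at h
          exact (Nat.not_odd_iff_even.2 (even_two_mul _)) h
        · exact h4 _ (hconj a ha q) b hbD h.1
      rw [hy1, one_mul] at hya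
      have hqa : q * a = a * q := by
        nth_rewrite 2 [hya]
        rw [inv_mul_cancel_right]
      refine ⟨⟨hq, hqa⟩, ?_⟩
      rw [hb'']
      exact ((hcr.mul_right hqa).mul_right hcr.inv_right).eq
    · rintro ⟨⟨hq, h1⟩, h2⟩
      exact ⟨hq, ((show Commute q a from h1).mul_right h2).eq⟩

end Cfsg.Agent.S5049
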