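import Cfsg.Statements.S5057
-- import your own Cfsg.Agent.* helpers here

set_option autoImplicit false
open Cfsg

namespace Cfsg.Agent.S5057

/-- The involutions of the alternating group of degree 6 form a class of root involutions (a single conjugacy class of involutions generating the group, any two of which commute, have product of odd order, or have product of order 4 whose square is again an involution of the class), and the product of any two of them has order at most 5. -/
theorem result :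
    Cfsg.IsRootInvolutionClass {g : ↥(alternatingGroup (Fin 6)) | orderOf g = 2} ∧
    ∀ d ∈ {g : ↥(alternatingGroup (Fin 6)) | orderOf g = 2}, ∀ e ∈ {g : ↥(alternatingGroup (Fin 6)) | orderOf g = 2},
      orderOf (d * e) ≤ 5 := by
  have hpow : ∀ d : ↥(alternatingGroup (Fin 6)), orderOf d = 2 ↔ d * d = 1 ∧ d ≠ 1 := by
    intro d
    constructor
    · intro h
      exact ⟨by rw [← pow_two, ← h, pow_orderOf_eq_one], fun e => by rw [e, orderOf_one] at h; omega⟩
    · rintro ⟨h, h1⟩
      exact orderOf_eq_prime (by rw [pow_two]; exact h) h1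
  let σ : Equiv.Perm (Fin 6) := Equiv.swap 0 1 * Equiv.swap 2 3
  let d₀ : ↥(alternatingGroup (Fin 6)) := ⟨σ, Equiv.Perm.mem_alternatingGroup.2 (by decide +kernel)⟩
  have htype : ∀ d : ↥(alternatingGroup (Fin 6)), d * d = 1 → d ≠ 1 →
      (d : Equiv.Perm (Fin 6)).support.card + 2 ≤ 6 ∧ (d : Equiv.Perm (Fin 6)).cycleType = σ.cycleType := by
    intro d h h1
    have hs : Equiv.Perm.sign (d : Equiv.Perm (Fin 6)) = 1 := d.2
    have h' : (d : Equiv.Perm (Fin 6)) ^ 2 = 1 := by rw [pow_two]; exact congrArg Subtype.val h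
    have hd1 : (d : Equiv.Perm (Fin 6)) ≠ 1 := fun e => h1 (Subtype.ext e)
    haveI : Fact (Nat.Prime 2) := ⟨Nat.prime_two⟩
    obtain ⟨n, hn⟩ := Equiv.Perm.cycleType_prime_order (orderOf_eq_prime h' hd1 ▸ Nat.prime_two)
    rw [orderOf_eq_prime h' hd1] at hn
    have hsum : (d : Equiv.Perm (Fin 6)).cycleType.sum ≤ 6 := by
      rw [Equiv.Perm.sum_cycleType]
      exact (Finset.card_le_univ _).trans (by simp)
    rw [hn, Multiset.sum_replicate, smul_eq_mul] at hsum
    rw [Equiv.Perm.sign_of_cycleType, hn, Multiset.sum_replicate, Multiset.card_replicate, smul_eq_mul] at hs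
    have hn1 : n = 1 := by
      have : n < 3 := by omega
      interval_cases n
      · exact absurd hs (by decide)
      · rfl
      · exact absurd hs (by decide)
    subst hn1
    refine ⟨?_, ?_⟩
    · rw [← Equiv.Perm.sum_cycleType, hn, Multiset.sum_replicate]; simp
    · rw [hn]; decide +kernel
  have hclass : ∀ d : ↥(alternatingGroup (Fin 6)), orderOf d = 2 → IsConj d₀ d := by
    intro d hd
    obtain ⟨h, h1⟩ := (hpow d).1 hd
    refine alternatingGroup.isConj_of ?_ ?_
    · exact Equiv.Perm.isConj_iff_cycleType_eq.2 (htype d h h1).2.symm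
    · simp only [Nat.card_eq_fintype_card, Fintype.card_fin]; decide +kernel
  have base : ∀ e : ↥(alternatingGroup (Fin 6)), e * e = 1 → e ≠ 1 →
      (d₀ * e = e * d₀) ∨ (d₀ * e) ^ 3 = 1 ∨ (d₀ * e) ^ 5 = 1 ∨
      ((d₀ * e) ^ 4 = 1 ∧ (d₀ * e) ^ 2 * (d₀ * e) ^ 2 = 1 ∧ (d₀ * e) ^ 2 ≠ 1) := by
    decide +kernel
  have key : ∀ d e : ↥(alternatingGroup (Fin 6)), orderOf d = 2 → orderOf e = 2 →
      (d * e = e * d ∧ orderOf (d * e) ≤ 2) ∨ orderOf (d * e) = 3 ∨ orderOf (d * e) = 5 ∨
        (orderOf (d * e) = 4 ∧ orderOf ((d * e) ^ 2) = 2) := by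
    intro d e hd he
    obtain ⟨g, hg⟩ := isConj_iff.1 (hclass d hd)
    set f := (MulAut.conj g) with hf
    have hd' : f d₀ = d := hg
    obtain ⟨e', rfl⟩ := f.surjective e
    rw [f.orderOf_eq] at he
    obtain ⟨h1, h2⟩ := (hpow e').1 he
    rw [← hd', ← map_mul, f.orderOf_eq, ← map_mul f e' d₀, f.injective.eq_iff, ← map_pow, f.orderOf_eq]
    haveI : Fact (Nat.Prime 3) := ⟨Nat.prime_three⟩
    haveI : Fact (Nat.Prime 5) := ⟨by norm_num⟩
    by_cases hc : d₀ * e' = e' * d₀
    · left
      refine ⟨hc, Nat.le_of_dvd two_pos (orderOf_dvd_of_pow_eq_one ?_)⟩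
      rw [(show Commute d₀ e' from hc).mul_pow, pow_two, pow_two, h1, mul_one]
      exact Subtype.ext (by decide +kernel)
    have hne : d₀ * e' ≠ 1 := fun h => hc (by
      rw [eq_inv_of_mul_eq_one_left h, inv_mul_cancel, mul_inv_cancel])
    rcases base e' h1 h2 with h | h | h | ⟨h, h', h''⟩
    · exact absurd h hc
    · exact Or.inr (Or.inl (orderOf_eq_prime h hne))
    · exact Or.inr (Or.inr (Or.inl (orderOf_eq_prime h hne)))
    · refine Or.inr (Or.inr (Or.inr ⟨?_, orderOf_eq_prime (by rw [pow_two]; exact h') h''⟩))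
      haveI : Fact (Nat.Prime 2) := ⟨Nat.prime_two⟩
      exact orderOf_eq_prime_pow (p := 2) (n := 1) (by simpa using h'') (by simpa using h)
  refine ⟨⟨⟨fun d hd => hd, ?_, ?_, ?_⟩, ?_, ?_⟩, ?_⟩
  · haveI : IsSimpleGroup ↥(alternatingGroup (Fin 6)) := alternatingGroup.isSimpleGroup (by simp)
    set D := {g : ↥(alternatingGroup (Fin 6)) | orderOf g = 2}
    have hn : (Subgroup.closure D).Normal := by
      refine ⟨fun x hx g => ?_⟩
      induction hx using Subgroup.closure_induction with
      | mem y hy => exact Subgroup.subset_closure (((MulAut.conj g).orderOf_eq y).trans hy)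
      | one => simp
      | mul y z _ _ ihy ihz =>
        rw [show g * (y * z) * g⁻¹ = (g * y * g⁻¹) * (g * z * g⁻¹) by group]; exact mul_mem ihy ihz
      | inv y _ ih => rw [show g * y⁻¹ * g⁻¹ = (g * y * g⁻¹)⁻¹ by group]; exact inv_mem ih
    refine hn.eq_bot_or_eq_top.resolve_left fun h => ?_
    have hm : d₀ ∈ Subgroup.closure D :=
      Subgroup.subset_closure ((hpow d₀).2 ⟨Subtype.ext (by decide +kernel), fun e => absurd (congrArg Subtype.val e) (by decide +kernel)⟩)
    rw [h, Subgroup.mem_bot] at hm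
    exact absurd (congrArg Subtype.val hm) (by decide +kernel)
  · intro d hd g
    exact ((MulAut.conj g).orderOf_eq d).trans hd
  · intro a ha b hb
    rcases key a b ha hb with h | h | h | h
    · exact Or.inl h.1
    · exact Or.inr (Or.inl (h ▸ by decide))
    · exact Or.inr (Or.inl (h ▸ by decide))
    · exact Or.inr (Or.inr h)
  · exact ⟨d₀, (hpow d₀).2 ⟨Subtype.ext (by decide +kernel), fun e => absurd (congrArg Subtype.val e) (by decide +kernel)⟩⟩
  · intro a ha b hb
    obtain ⟨g, hg⟩ := isConj_iff.1 ((hclass a ha).symm.trans (hclass b hb))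
    exact ⟨g, hg.symm⟩
  · intro d hd e he
    rcases key d e hd he with h | h | h | h <;> omega

end Cfsg.Agent.S5057
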