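import Cfsg.Statements.S5058
import Cfsg.Agent.Lib.Classical.TransvGroup
import Cfsg.Agent.Lib.Classical.Linear
-- import your own Cfsg.Agent.* helpers here

set_option autoImplicit false
open Matrix
open Cfsg

namespace Cfsg.Agent.S5058

open Matrix Polynomial
open Cfsg.Agent.TransvGroup

section
variable {F : Type*} [Field F] {n : ℕ}

local notation "SL" => Matrix.SpecialLinearGroup (Fin (n + 3)) F

/-- Conjugation of a transvection, without inverses. -/
theorem conj_tv (g : SL) {v φ v' φ' : Fin (n + 3) → F} (h : φ ⬝ᵥ v = 0) (h' : φ' ⬝ᵥ v' = 0)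
    (hv : (g : Matrix (Fin (n + 3)) (Fin (n + 3)) F) *ᵥ v = v')
    (hφ : φ' ᵥ* (g : Matrix (Fin (n + 3)) (Fin (n + 3)) F) = φ) :
    g * tv v φ h * g⁻¹ = tv v' φ' h' := by
  rw [mul_inv_eq_iff_eq_mul]
  refine Subtype.ext ?_
  rw [Matrix.SpecialLinearGroup.coe_mul, Matrix.SpecialLinearGroup.coe_mul, tv_coe, tv_coe, tvM, tvM,
    mul_add, add_mul, mul_one, one_mul, mul_vecMulVec, vecMulVec_mul, hv, hφ]

/-- The standard vectors. -/
def eb (i : Fin (n + 3)) : Fin (n + 3) → F := Pi.single i 1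

theorem eb_dot (i j : Fin (n + 3)) (c : F) (h : j ≠ i) : (eb j : Fin (n + 3) → F) ⬝ᵥ (c • eb i) = 0 := by
  simp [eb, single_dotProduct, h]

theorem one_ne_zero' : (1 : Fin (n + 3)) ≠ 0 := Ne.symm Fin.zero_ne_one

theorem svv (i j : Fin (n + 3)) (c : F) :
    vecMulVec (Pi.single i c) (Pi.single j 1) = Matrix.single i j c := by
  ext a b
  by_cases ha : i = a <;> by_cases hb : j = b <;> simp [vecMulVec_apply, Matrix.single_apply, Pi.single_apply, ha, hb, eq_comm]

/-- The transvection `1 + c E₀₁`. -/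
def t01 (c : F) : SL := tv (c • eb 0) (eb 1) (eb_dot 0 1 c one_ne_zero')

theorem coe_t01 (c : F) :
    ((t01 c : SL) : Matrix (Fin (n + 3)) (Fin (n + 3)) F) = Matrix.transvection 0 1 c := by
  rw [t01, tv_coe, tvM, eb, eb, ← Pi.single_smul, smul_eq_mul, mul_one, svv]
  rfl

/-- The class of transvections. -/
def IsT (x : SL) : Prop := ∃ c : F, c ≠ 0 ∧ ∃ g : SL, x = g * t01 c * g⁻¹

theorem isT_iff (t : SL) : (∃ c : F, c ≠ 0 ∧ ∃ g : SL, ((g⁻¹ * t * g : SL) :
    Matrix (Fin (n + 3)) (Fin (n + 3)) F) = Matrix.transvection 0 1 c) ↔ IsT t := by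
  constructor
  · rintro ⟨c, hc, g, hg⟩
    refine ⟨c, hc, g, ?_⟩
    rw [← coe_t01] at hg
    rw [← (Subtype.ext hg : g⁻¹ * t * g = t01 c)]
    group
  · rintro ⟨c, hc, g, rfl⟩
    refine ⟨c, hc, g, ?_⟩
    rw [← coe_t01, show g⁻¹ * (g * t01 c * g⁻¹) * g = t01 c by group]

theorem IsT.conj {x : SL} (hx : IsT x) (h : SL) : IsT (h * x * h⁻¹) := by
  obtain ⟨c, hc, g, rfl⟩ := hx
  exact ⟨c, hc, h * g, by group⟩

theorem IsT.of_conj {x : SL} (h : SL) (hx : IsT (h * x * h⁻¹)) : IsT x := by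
  have := hx.conj h⁻¹
  rwa [show h⁻¹ * (h * x * h⁻¹) * h⁻¹⁻¹ = x by group] at this

variable [CharP F 2]

/-- Permutation matrices in characteristic two. -/
def permSL (σ : Equiv.Perm (Fin (n + 3))) : SL := ⟨σ.permMatrix F, by
  rw [Matrix.det_permutation]
  rcases Int.units_eq_one_or (Equiv.Perm.sign σ) with h | h <;> rw [h] <;> simp [CharTwo.neg_eq]⟩

theorem conj_swap (a b : Fin (n + 3)) {v φ : Fin (n + 3) → F} (h : φ ⬝ᵥ v = 0)
    (h' : (φ ∘ Equiv.swap a b) ⬝ᵥ (v ∘ Equiv.swap a b) = 0) :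
    permSL (Equiv.swap a b) * tv v φ h * (permSL (Equiv.swap a b))⁻¹ =
      tv (v ∘ Equiv.swap a b) (φ ∘ Equiv.swap a b) h' := by
  refine conj_tv _ h h' ?_ ?_
  · show (Equiv.swap a b).permMatrix F *ᵥ v = _
    rw [permMatrix_mulVec]
  · show (φ ∘ Equiv.swap a b) ᵥ* (Equiv.swap a b).permMatrix F = _
    rw [vecMul_permMatrix]
    funext x; simp

theorem swap_dot (σ : Equiv.Perm (Fin (n + 3))) {v φ : Fin (n + 3) → F} (h : φ ⬝ᵥ v = 0) :
    (φ ∘ σ) ⬝ᵥ (v ∘ σ) = 0 := by
  rw [comp_equiv_dotProduct_comp_equiv]; exact h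

theorem tv_congr {v φ v' φ' : Fin (n + 3) → F} {h : φ ⬝ᵥ v = 0} {h' : φ' ⬝ᵥ v' = 0}
    (e1 : v = v') (e2 : φ = φ') : tv v φ h = tv v' φ' h' := by
  subst e1; subst e2; rfl

/-- A transvection with centre `e₀`. -/
theorem isT_row (c : F) (hc : c ≠ 0) (ψ : Fin (n + 3) → F) (hψ : ψ ≠ 0)
    (h : ψ ⬝ᵥ (c • eb 0) = 0) : IsT (tv (c • eb 0) ψ h) := by
  have h0 : ψ 0 = 0 := by simpa [eb, dotProduct_single, hc] using h
  obtain ⟨j, hj⟩ := Function.ne_iff.mp hψ
  have hj0 : j ≠ 0 := fun e => hj (by rw [e]; exact h0)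
  apply IsT.of_conj (permSL (Equiv.swap j 1))
  rw [conj_swap j 1 h (swap_dot _ h)]
  set φ := ψ ∘ Equiv.swap j 1 with hφ
  have hφ1 : φ 1 ≠ 0 := by simpa [hφ] using hj
  have hφ0 : φ 0 = 0 := by
    simp [hφ, Equiv.swap_apply_of_ne_of_ne hj0.symm (Fin.zero_ne_one (n := n + 1)), h0]
  have hv : (c • eb 0 : Fin (n + 3) → F) ∘ Equiv.swap j 1 = c • eb 0 := by
    funext x
    simp only [Function.comp_apply, Pi.smul_apply, eb, Pi.single_apply]
    congr 1
    refine if_congr ?_ rfl rfl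
    rw [Equiv.apply_eq_iff_eq_symm_apply, Equiv.symm_swap,
      Equiv.swap_apply_of_ne_of_ne hj0.symm (Fin.zero_ne_one (n := n + 1))]
  -- shear away the remaining entries
  let r : Fin (n + 3) → F := eb 1 + (φ 1)⁻¹ • φ
  have hr : r ⬝ᵥ (eb 1) = 0 := by
    simp [eb, r, dotProduct_single, hφ1, CharTwo.add_self_eq_zero]
  have hr0 : r ⬝ᵥ ((c * φ 1) • eb 0) = 0 := by
    simp [eb, r, dotProduct_single, hφ0]
  refine ⟨c * φ 1, mul_ne_zero hc hφ1, tv (eb 1) r hr, ?_⟩
  have h' : ((φ 1)⁻¹ • φ) ⬝ᵥ ((c * φ 1) • eb 0) = 0 := by simp [eb, dotProduct_single, hφ0]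
  refine Eq.trans (Subtype.ext ?_) (conj_tv (tv (eb 1) r hr) (eb_dot 0 1 (c * φ 1) one_ne_zero') h' ?_ ?_).symm
  · rw [tv_coe, tv_coe, hv, tvM_smul, tvM_smul, smul_smul, mul_assoc, mul_inv_cancel₀ hφ1, mul_one]
  · rw [tv_coe, tvM_mulVec, hr0, zero_smul, add_zero]
  · rw [tv_coe, tvM, vecMul_add, vecMul_one, vecMul_vecMulVec]
    have : ((φ 1)⁻¹ • φ) ⬝ᵥ eb 1 = 1 := by simp [eb, dotProduct_single, hφ1]
    rw [this, one_smul]
    funext x
    simp only [r, Pi.add_apply]
    rw [add_comm, add_assoc, CharTwo.add_self_eq_zero, add_zero]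

/-- A transvection with axis `e₁^⊥`. -/
theorem isT_col (w : Fin (n + 3) → F) (hw : w ≠ 0) (h : eb 1 ⬝ᵥ w = 0) : IsT (tv w (eb 1) h) := by
  have h1 : w 1 = 0 := by simpa [eb, single_dotProduct] using h
  obtain ⟨j, hj⟩ := Function.ne_iff.mp hw
  have hj1 : j ≠ 1 := fun e => hj (by rw [e]; exact h1)
  apply IsT.of_conj (permSL (Equiv.swap j 0))
  rw [conj_swap j 0 h (swap_dot _ h)]
  set u := w ∘ Equiv.swap j 0 with hu
  have hu0 : u 0 ≠ 0 := by simpa [hu] using hj
  have hs1 : Equiv.swap j 0 (1 : Fin (n + 3)) = 1 :=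
    Equiv.swap_apply_of_ne_of_ne hj1.symm one_ne_zero'
  have hu1 : u 1 = 0 := by simp [hu, hs1, h1]
  have hv : (eb 1 : Fin (n + 3) → F) ∘ Equiv.swap j 0 = eb 1 := by
    funext x
    simp only [Function.comp_apply, eb, Pi.single_apply]
    refine if_congr ?_ rfl rfl
    rw [Equiv.apply_eq_iff_eq_symm_apply, Equiv.symm_swap, hs1]
  let r : Fin (n + 3) → F := eb 0 + (u 0)⁻¹ • u
  have hr : eb 0 ⬝ᵥ r = 0 := by
    simp [eb, r, single_dotProduct, hu0, CharTwo.add_self_eq_zero]
  have hr1 : (eb 1 : Fin (n + 3) → F) ⬝ᵥ r = 0 := by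
    simp [eb, r, single_dotProduct, hu1]
  refine ⟨u 0, hu0, tv r (eb 0) hr, ?_⟩
  refine Eq.trans (tv_congr rfl hv) (conj_tv (tv r (eb 0) hr) (eb_dot 0 1 (u 0) one_ne_zero')
    (by simp [eb, single_dotProduct, hu, hs1, h1]) ?_ ?_).symm
  · rw [tv_coe, tvM_mulVec]
    funext x
    simp only [r, eb, single_dotProduct, Pi.add_apply, Pi.smul_apply, smul_eq_mul, Pi.single_eq_same, mul_one, one_mul]
    rw [mul_add, ← mul_assoc, mul_inv_cancel₀ hu0, one_mul, ← add_assoc, CharTwo.add_self_eq_zero, zero_add]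
  · rw [tv_coe, tvM, vecMul_add, vecMul_one, vecMul_vecMulVec, hr1, zero_smul, add_zero]

/-- Elementary transvections are in the class. -/
theorem isT_elem (i j : Fin (n + 3)) (hij : i ≠ j) (c : F) (hc : c ≠ 0) :
    IsT (Matrix.SpecialLinearGroup.transvection hij c) := by
  have h : eb j ⬝ᵥ (c • eb i) = (0 : F) := eb_dot i j c hij.symm
  have e : (Matrix.SpecialLinearGroup.transvection hij c : SL) = tv (c • eb i) (eb j) h := by
    refine Subtype.ext ?_
    rw [Matrix.SpecialLinearGroup.transvection_coe, tv_coe, tvM, eb, eb, ← Pi.single_smul, smul_eq_mul,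
      mul_one, svv]
  rw [e]
  apply IsT.of_conj (permSL (Equiv.swap i 0))
  rw [conj_swap i 0 h (swap_dot _ h)]
  have hv : (c • eb i : Fin (n + 3) → F) ∘ Equiv.swap i 0 = c • eb 0 := by
    funext x
    simp only [Function.comp_apply, Pi.smul_apply, eb, Pi.single_apply]
    congr 1
    refine if_congr ?_ rfl rfl
    rw [Equiv.apply_eq_iff_eq_symm_apply, Equiv.symm_swap, Equiv.swap_apply_left]
  have h' : (eb j ∘ Equiv.swap i 0) ⬝ᵥ (c • eb 0) = (0 : F) := hv ▸ swap_dot (Equiv.swap i 0) h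
  rw [tv_congr (h' := h') hv rfl]
  refine isT_row c hc _ (fun e0 => ?_) _
  have := congrFun e0 (Equiv.swap i 0 j)
  simp [eb] at this

omit [CharP F 2] in
theorem tvM_eq_one {v φ : Fin (n + 3) → F} (h : tvM v φ = 1) (hφ : φ ≠ 0) : v = 0 := by
  obtain ⟨x, hx⟩ := exists_dot_one hφ
  have := congrArg (· *ᵥ x) h
  simp only [tvM_mulVec, one_mulVec, hx, one_smul, add_eq_left] at this
  exact this

/-- The order of a nondegenerate product. -/
theorem pow_odd {m : SL} (x : F) (hx : x ≠ 0)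
    (hm : ((m : Matrix (Fin (n + 3)) (Fin (n + 3)) F) * m + x • (m : Matrix (Fin (n + 3)) (Fin (n + 3)) F) + 1) *
      ((m : Matrix (Fin (n + 3)) (Fin (n + 3)) F) + 1) = 0) [Finite F] :
    Odd (orderOf m) ∧ (x = 1 → m ^ 3 = 1) := by
  set M := (m : Matrix (Fin (n + 3)) (Fin (n + 3)) F) with hM
  set P : F[X] := (X ^ 2 + C x * X + 1) * (X + 1) with hP
  have hdvd : minpoly F M ∣ P := by
    refine minpoly.dvd F M ?_
    simp only [hP, map_mul, map_add, map_pow, map_one, aeval_X, aeval_C, ← Algebra.smul_def, pow_two]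
    exact hm
  have h2 : (2 : F[X]) = 0 := CharTwo.two_eq_zero
  have hsep : P.Separable := by
    refine Separable.mul ?_ ?_ ⟨C x⁻¹, C x⁻¹ * (X + 1 + C x), ?_⟩
    · rw [separable_def']
      refine ⟨0, C x⁻¹, ?_⟩
      simp only [derivative_add, derivative_X_pow, derivative_mul, derivative_C, derivative_X, derivative_one]
      have hxx : C x⁻¹ * C x = (1 : F[X]) := by rw [← C_mul, inv_mul_cancel₀ hx, C_1]
      have : (C ((2 : ℕ) : F)) = (0 : F[X]) := by
        rw [Nat.cast_ofNat, CharTwo.two_eq_zero, C_0]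
      rw [this]
      linear_combination hxx
    · rw [separable_def']
      exact ⟨0, 1, by simp⟩
    · have hxx : C x⁻¹ * C x = (1 : F[X]) := by rw [← C_mul, inv_mul_cancel₀ hx, C_1]
      linear_combination hxx + (C x⁻¹ * (X ^ 2 + C x * X + X + 1)) * h2
  refine ⟨?_, fun hx1 => ?_⟩
  · rw [← Nat.not_even_iff_odd]
    rintro ⟨k, hk⟩
    have hpos := orderOf_pos m
    have h1 : M ^ k * M ^ k = 1 := by
      rw [← pow_add, ← hk, hM, ← Matrix.SpecialLinearGroup.coe_pow, pow_orderOf_eq_one,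
        Matrix.SpecialLinearGroup.coe_one]
    have h2 : aeval M ((X ^ k + 1 : F[X]) ^ 2) = 0 := by
      rw [map_pow, map_add, map_one, map_pow, aeval_X, pow_two]
      simp only [add_mul, mul_add, mul_one, one_mul, h1]
      rw [show (1 : Matrix (Fin (n + 3)) (Fin (n + 3)) F) + M ^ k + (M ^ k + 1) = 0 by
        ext i j
        simp only [Matrix.add_apply, Matrix.zero_apply]
        linear_combination ((1 : Matrix (Fin (n + 3)) (Fin (n + 3)) F) i j + (M ^ k) i j) * (CharTwo.two_eq_zero : (2 : F) = 0)]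
    have h3 : minpoly F M ∣ X ^ k + 1 :=
      ((hsep.squarefree).squarefree_of_dvd hdvd).dvd_pow_iff_dvd two_ne_zero |>.mp (minpoly.dvd F M h2)
    obtain ⟨Q, hQ⟩ := h3
    have h4 : M ^ k + 1 = 0 := by
      have := congrArg (aeval M) hQ
      simpa using this
    have h5 : m ^ k = 1 := by
      refine Subtype.ext ?_
      rw [Matrix.SpecialLinearGroup.coe_pow, Matrix.SpecialLinearGroup.coe_one, ← hM]
      ext i j
      have h6 := congrFun (congrFun h4 i) j
      simp only [Matrix.add_apply, Matrix.zero_apply] at h6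
      exact CharTwo.add_eq_zero.mp h6
    have := Nat.le_of_dvd (by omega) (orderOf_dvd_of_pow_eq_one h5)
    omega
  · subst hx1
    refine Subtype.ext ?_
    rw [Matrix.SpecialLinearGroup.coe_pow, Matrix.SpecialLinearGroup.coe_one, ← hM]
    rw [one_smul] at hm
    ext i j
    have h6 := congrFun (congrFun hm i) j
    simp only [mul_add, add_mul, mul_one, one_mul, Matrix.add_apply, Matrix.zero_apply] at h6
    rw [pow_succ, pow_two]
    linear_combination h6 - (((M * M) i j) + M i j + (1 : Matrix (Fin (n + 3)) (Fin (n + 3)) F) i j) * (CharTwo.two_eq_zero : (2 : F) = 0)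

/-- Products of two transvections, one in normal form. -/
theorem pair_t01 [Finite F] (c : F) (hc : c ≠ 0) {b : SL} (hb : IsT b) :
    t01 c * b = b * t01 c ∨
    (Odd (orderOf (t01 c * b)) ∧ (Nat.card F = 2 → (t01 c * b) ^ 3 = 1)) ∨
    (orderOf (t01 c * b) = 4 ∧ IsT ((t01 c * b) ^ 2)) := by
  obtain ⟨d, hd, k, rfl⟩ := hb
  set w : Fin (n + 3) → F := (k : Matrix (Fin (n + 3)) (Fin (n + 3)) F) *ᵥ (d • eb 0) with hw
  set ψ : Fin (n + 3) → F := eb 1 ᵥ* ((k⁻¹ : SL) : Matrix (Fin (n + 3)) (Fin (n + 3)) F) with hψ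
  have hkk : ((k⁻¹ : SL) : Matrix (Fin (n + 3)) (Fin (n + 3)) F) * k = 1 := by
    rw [← Matrix.SpecialLinearGroup.coe_mul, inv_mul_cancel, Matrix.SpecialLinearGroup.coe_one]
  have hψk : ψ ᵥ* (k : Matrix (Fin (n + 3)) (Fin (n + 3)) F) = eb 1 := by
    rw [hψ, vecMul_vecMul, hkk, vecMul_one]
  have hψw : ψ ⬝ᵥ w = 0 := by
    rw [hw, dotProduct_mulVec, hψk]; exact eb_dot 0 1 d one_ne_zero'
  have hb' : k * t01 d * k⁻¹ = tv w ψ hψw := conj_tv k _ hψw rfl hψk
  rw [hb']
  set v : Fin (n + 3) → F := c • eb 0 with hv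
  set φ : Fin (n + 3) → F := eb 1 with hφ
  have hφv : φ ⬝ᵥ v = 0 := eb_dot 0 1 c one_ne_zero'
  have hv0 : v ≠ 0 := fun e => hc (by simpa [hv, eb] using congrFun e 0)
  have hφ0 : φ ≠ 0 := fun e => one_ne_zero (α := F) (by simpa [hφ, eb] using congrFun e 1)
  have hψ0 : ψ ≠ 0 := fun e => hφ0 (by rw [← hψk, e, zero_vecMul])
  have hw0 : w ≠ 0 := by
    intro e
    have : ((k⁻¹ : SL) : Matrix (Fin (n + 3)) (Fin (n + 3)) F) *ᵥ w = d • eb 0 := by
      rw [hw, mulVec_mulVec, hkk, one_mulVec]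
    rw [e, mulVec_zero] at this
    exact hd (by simpa [eb] using (congrFun this 0).symm)
  have ht : (t01 c : SL) = tv v φ hφv := rfl
  rw [ht]
  have hneg : ∀ M : Matrix (Fin (n + 3)) (Fin (n + 3)) F, M + M = 0 := fun M => by
    ext i j; simp [CharTwo.add_self_eq_zero]
  set A := vecMulVec v φ with hA
  set B := vecMulVec w ψ with hB
  have hAA : A * A = 0 := vecMulVec_sq_zero hφv
  have hBB : B * B = 0 := vecMulVec_sq_zero hψw
  have hab : ((tv v φ hφv * tv w ψ hψw : SL) : Matrix (Fin (n + 3)) (Fin (n + 3)) F) = 1 + A + B + A * B := by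
    rw [Matrix.SpecialLinearGroup.coe_mul, tv_coe, tv_coe, tvM, tvM]; noncomm_ring
  have hba : ((tv w ψ hψw * tv v φ hφv : SL) : Matrix (Fin (n + 3)) (Fin (n + 3)) F) = 1 + A + B + B * A := by
    rw [Matrix.SpecialLinearGroup.coe_mul, tv_coe, tv_coe, tvM, tvM]; noncomm_ring
  have hAB : A * B = (φ ⬝ᵥ w) • vecMulVec v ψ := by
    rw [hA, hB, vecMulVec_mul_vecMulVec, vecMulVec_smul]
  have hBA : B * A = (ψ ⬝ᵥ v) • vecMulVec w φ := by
    rw [hA, hB, vecMulVec_mul_vecMulVec, vecMulVec_smul]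
  set m := tv v φ hφv * tv w ψ hψw with hm
  -- the square of the product
  have hsq : (m : Matrix (Fin (n + 3)) (Fin (n + 3)) F) * m =
      1 + A * B + B * A + A * B * A + B * A * B + A * B * A * B := by
    rw [hab]
    have e : (1 + A + B + A * B) * (1 + A + B + A * B) = 1 + A * B + B * A + A * B * A + B * A * B + A * B * A * B
        + A * A + B * B + A * A * B + A * B * B + (A + A) + (B + B) + (A * B + A * B) := by noncomm_ring
    rw [e, hneg, hneg, hneg, hAA, hBB, mul_assoc A B B, hBB]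
    simp
  by_cases h1 : φ ⬝ᵥ w = 0
  · by_cases h2 : ψ ⬝ᵥ v = 0
    · left
      refine Subtype.ext ?_
      rw [hab, hba, hAB, hBA, h1, h2, zero_smul, zero_smul]
    · right; right
      have hAB0 : A * B = 0 := by rw [hAB, h1, zero_smul]
      rw [hAB0] at hsq
      simp only [mul_assoc B A B, hAB0, zero_mul, mul_zero, add_zero] at hsq
      have hdot : φ ⬝ᵥ ((ψ ⬝ᵥ v) • w) = 0 := by rw [dotProduct_smul, h1, smul_zero]
      have hm2 : m ^ 2 = tv ((ψ ⬝ᵥ v) • w) φ hdot := by
        refine Subtype.ext ?_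
        rw [Matrix.SpecialLinearGroup.coe_pow, pow_two, hsq, tv_coe, tvM, hBA, smul_vecMulVec]
      have hwne : (ψ ⬝ᵥ v) • w ≠ 0 := smul_ne_zero h2 hw0
      refine ⟨?_, hm2 ▸ isT_col _ hwne hdot⟩
      refine orderOf_eq_prime_pow (p := 2) (n := 1) ?_ ?_
      · intro e
        rw [pow_one, hm2] at e
        exact hwne (tvM_eq_one (congrArg Subtype.val e) hφ0)
      · rw [show (2 : ℕ) ^ (1 + 1) = 2 * 2 from rfl, pow_mul, hm2]
        refine Subtype.ext ?_
        rw [Matrix.SpecialLinearGroup.coe_pow, pow_two, tv_coe, tvM_add_left hdot]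
        rw [show (ψ ⬝ᵥ v) • w + (ψ ⬝ᵥ v) • w = 0 from funext fun i => CharTwo.add_self_eq_zero _]
        simp [tvM]
  · by_cases h2 : ψ ⬝ᵥ v = 0
    · right; right
      have hBA0 : B * A = 0 := by rw [hBA, h2, zero_smul]
      simp only [mul_assoc A B A, hBA0, zero_mul, mul_zero, add_zero] at hsq
      have hdot : ψ ⬝ᵥ ((φ ⬝ᵥ w) • v) = 0 := by rw [dotProduct_smul, h2, smul_zero]
      have hm2 : m ^ 2 = tv ((φ ⬝ᵥ w) • v) ψ hdot := by
        refine Subtype.ext ?_
        rw [Matrix.SpecialLinearGroup.coe_pow, pow_two, hsq, tv_coe, tvM, hAB, ← smul_vecMulVec]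
      have hvne : (φ ⬝ᵥ w) • v ≠ 0 := smul_ne_zero h1 hv0
      refine ⟨?_, ?_⟩
      · refine orderOf_eq_prime_pow (p := 2) (n := 1) ?_ ?_
        · intro e
          rw [pow_one, hm2] at e
          exact hvne (tvM_eq_one (congrArg Subtype.val e) hψ0)
        · rw [show (2 : ℕ) ^ (1 + 1) = 2 * 2 from rfl, pow_mul, hm2]
          refine Subtype.ext ?_
          rw [Matrix.SpecialLinearGroup.coe_pow, pow_two, tv_coe, tvM_add_left hdot]
          rw [show (φ ⬝ᵥ w) • v + (φ ⬝ᵥ w) • v = 0 from funext fun i => CharTwo.add_self_eq_zero _]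
          simp [tvM]
      · rw [hm2]
        have h' : ψ ⬝ᵥ (((φ ⬝ᵥ w) * c) • eb 0) = 0 := by rw [← smul_smul]; exact hdot
        rw [tv_congr (h' := h') (show (φ ⬝ᵥ w) • v = ((φ ⬝ᵥ w) * c) • eb 0 by rw [hv, smul_smul]) rfl]
        exact isT_row _ (mul_ne_zero h1 hc) ψ hψ0 h'
    · right; left
      set x := (φ ⬝ᵥ w) * (ψ ⬝ᵥ v) with hx
      have hABA : A * B * A = x • A := by
        rw [hAB, hA, smul_mul_assoc, vecMulVec_mul_vecMulVec, vecMulVec_smul, smul_smul]
      have hBAB : B * A * B = x • B := by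
        rw [hBA, hB, smul_mul_assoc, vecMulVec_mul_vecMulVec, vecMulVec_smul, smul_smul, mul_comm (ψ ⬝ᵥ v)]
      have hx0 : x ≠ 0 := mul_ne_zero h1 h2
      have key : ((m : Matrix (Fin (n + 3)) (Fin (n + 3)) F) * m + x • (m : Matrix (Fin (n + 3)) (Fin (n + 3)) F) + 1) *
          ((m : Matrix (Fin (n + 3)) (Fin (n + 3)) F) + 1) = 0 := by
        have q1 : (m : Matrix (Fin (n + 3)) (Fin (n + 3)) F) + 1 = A + B + A * B := by
          rw [hab]
          calc 1 + A + B + A * B + 1 = A + B + A * B + (1 + 1) := by abel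
            _ = _ := by rw [hneg, add_zero]
        have q2 : (m : Matrix (Fin (n + 3)) (Fin (n + 3)) F) * m + x • (m : Matrix (Fin (n + 3)) (Fin (n + 3)) F) + 1 =
            A * B + B * A + x • (1 : Matrix (Fin (n + 3)) (Fin (n + 3)) F) := by
          rw [hsq, hab, hABA, hBAB, smul_mul_assoc, smul_add, smul_add, smul_add]
          calc 1 + A * B + B * A + x • A + x • B + x • (A * B) +
              (x • (1 : Matrix (Fin (n + 3)) (Fin (n + 3)) F) + x • A + x • B + x • (A * B)) + 1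
              = A * B + B * A + x • 1 + ((1 + 1) + (x • A + x • A) + (x • B + x • B) + (x • (A * B) + x • (A * B))) := by abel
            _ = _ := by simp only [hneg, add_zero]
        rw [q1, q2]
        have e : (A * B + B * A + x • (1 : Matrix (Fin (n + 3)) (Fin (n + 3)) F)) * (A + B + A * B) =
            A * B * A + B * A * B + (A * B * A) * B + A * (B * B) + B * (A * A) + B * (A * A) * B + x • (A + B + A * B) := by
          simp only [add_mul, smul_mul_assoc, one_mul]
          noncomm_ring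
        rw [e, hAA, hBB, hABA, hBAB, smul_mul_assoc, smul_add, smul_add]
        simp only [mul_zero, zero_mul, add_zero]
        exact hneg _
      have := pow_odd x hx0 key
      refine ⟨this.1, fun h2F => this.2 ?_⟩
      haveI := Fintype.ofFinite F
      rw [Nat.card_eq_fintype_card] at h2F
      have h := FiniteField.pow_card_sub_one_eq_one x hx0
      rw [h2F] at h
      simpa using h

end

/-- Let F be a finite field of characteristic 2 and n a natural number. Then the transvections of SL_{n+3}(F) (so in every dimension at least 3) (the conjugates of the elementary matrices 1 + c E₁₂, c ≠ 0) form a class of root involutions of SL_{n+3}(F); when F has two elements they form a class of {3,4}⁺-transpositions (every product of odd order has order 1 or 3). -/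
theorem result (F : Type*) [Field F] [Fintype F] [CharP F 2] (n : ℕ) :
    Cfsg.IsRootInvolutionClass {t : Matrix.SpecialLinearGroup (Fin (n + 3)) F | ∃ c : F, c ≠ 0 ∧
        ∃ g : Matrix.SpecialLinearGroup (Fin (n + 3)) F, ((g⁻¹ * t * g : Matrix.SpecialLinearGroup (Fin (n + 3)) F) :
          Matrix (Fin (n + 3)) (Fin (n + 3)) F) = Matrix.transvection 0 1 c} ∧
    (Fintype.card F = 2 → Cfsg.IsThreeFourPlusTranspositionSet {t : Matrix.SpecialLinearGroup (Fin (n + 3)) F | ∃ c : F, c ≠ 0 ∧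
        ∃ g : Matrix.SpecialLinearGroup (Fin (n + 3)) F, ((g⁻¹ * t * g : Matrix.SpecialLinearGroup (Fin (n + 3)) F) :
          Matrix (Fin (n + 3)) (Fin (n + 3)) F) = Matrix.transvection 0 1 c}) := by
  classical
  have hset : {t : Matrix.SpecialLinearGroup (Fin (n + 3)) F | ∃ c : F, c ≠ 0 ∧
      ∃ g : Matrix.SpecialLinearGroup (Fin (n + 3)) F, ((g⁻¹ * t * g : Matrix.SpecialLinearGroup (Fin (n + 3)) F) :
        Matrix (Fin (n + 3)) (Fin (n + 3)) F) = Matrix.transvection 0 1 c} = {t | IsT t} :=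
    Set.ext fun t => isT_iff t
  rw [hset]
  have h01 : IsT (t01 (1 : F) : Matrix.SpecialLinearGroup (Fin (n + 3)) F) := ⟨1, one_ne_zero, 1, by group⟩
  -- every pair reduces to a pair in normal form
  have hred : ∀ a b : Matrix.SpecialLinearGroup (Fin (n + 3)) F, IsT a → IsT b →
      a * b = b * a ∨ (Odd (orderOf (a * b)) ∧ (Nat.card F = 2 → (a * b) ^ 3 = 1)) ∨
      (orderOf (a * b) = 4 ∧ IsT ((a * b) ^ 2)) := by
    intro a b ha hb
    obtain ⟨c, hc, g, rfl⟩ := ha
    have hb' : IsT (g⁻¹ * b * g⁻¹⁻¹) := hb.conj g⁻¹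
    have e : g * t01 c * g⁻¹ * b = g * (t01 c * (g⁻¹ * b * g⁻¹⁻¹)) * g⁻¹ := by group
    have e' : b * (g * t01 c * g⁻¹) = g * (g⁻¹ * b * g⁻¹⁻¹ * t01 c) * g⁻¹ := by group
    have hord : ∀ y : Matrix.SpecialLinearGroup (Fin (n + 3)) F, orderOf (g * y * g⁻¹) = orderOf y := fun y => by
      rw [← MulAut.conj_apply]; exact MulEquiv.orderOf_eq _ _
    rcases pair_t01 c hc hb' with h | ⟨h, h3⟩ | ⟨h, h4⟩
    · left; rw [e, e', h]
    · right; left
      rw [e, hord, conj_pow]
      exact ⟨h, fun h2 => by rw [h3 h2]; group⟩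
    · right; right
      rw [e, hord, conj_pow]
      exact ⟨h, h4.conj g⟩
  have hroot : Cfsg.IsRootInvolutionSet {t : Matrix.SpecialLinearGroup (Fin (n + 3)) F | IsT t} := by
    refine ⟨?_, ?_, fun d hd g => IsT.conj hd g, fun a ha b hb => ?_⟩
    · rintro d ⟨c, hc, g, rfl⟩
      rw [← MulAut.conj_apply, MulEquiv.orderOf_eq]
      refine orderOf_eq_prime ?_ ?_
      · refine Subtype.ext ?_
        rw [Matrix.SpecialLinearGroup.coe_pow, pow_two, coe_t01,
          Matrix.transvection_mul_transvection_same (h := (Fin.zero_ne_one (n := n + 1))), CharTwo.add_self_eq_zero,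
          Matrix.transvection_zero, Matrix.SpecialLinearGroup.coe_one]
      · intro e
        have := congrFun (congrFun ((coe_t01 c).symm.trans (congrArg Subtype.val e)) 0) 1
        simp [Matrix.transvection, hc] at this
    · rw [← top_le_iff, ← Classical.closure_transvection_eq_top, Subgroup.closure_le]
      rintro _ ⟨i, j, hij, c, rfl⟩
      by_cases hc : c = 0
      · subst hc
        have : (Matrix.SpecialLinearGroup.transvection hij (0 : F)) = 1 := by
          refine Subtype.ext ?_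
          rw [Matrix.SpecialLinearGroup.transvection_coe]
          simp
        rw [this]; exact one_mem _
      · exact Subgroup.subset_closure (isT_elem i j hij c hc)
    · rcases hred a b ha hb with h | h | h
      · exact Or.inl h
      · exact Or.inr (Or.inl h.1)
      · exact Or.inr (Or.inr h)
  refine ⟨⟨hroot, ⟨_, h01⟩, ?_⟩, fun hF => ⟨hroot, fun a ha b hb hodd => ?_⟩⟩
  · -- all transvections are conjugate
    have hconj : ∀ c : F, c ≠ 0 → ∃ g : Matrix.SpecialLinearGroup (Fin (n + 3)) F, t01 c = g * t01 1 * g⁻¹ := by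
      intro c hc
      have h02 : (0 : Fin (n + 3)) ≠ 2 := by
        intro h
        have := congrArg Fin.val h
        rw [Fin.val_two] at this
        simp at this
      refine ⟨Matrix.SpecialLinearGroup.diag2n h02 c hc, ?_⟩
      refine (conj_tv _ _ _ ?_ ?_).symm
      · rw [Matrix.SpecialLinearGroup.diag2n_coe]
        funext k
        rw [mulVec_diagonal]
        by_cases hk : k = 0
        · subst hk; simp [eb]
        · simp [eb, hk]
      · rw [Matrix.SpecialLinearGroup.diag2n_coe]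
        funext k
        rw [vecMul_diagonal]
        by_cases hk : k = 1
        · subst hk
          have h12 : (1 : Fin (n + 3)) ≠ 2 := by
            intro h
            have := congrArg Fin.val h
            rw [Fin.val_two] at this
            simp at this
          simp [eb, one_ne_zero', h12]
        · simp [eb, hk]
    rintro a ⟨c, hc, g, rfl⟩ b ⟨d, hd, h, rfl⟩
    obtain ⟨u, hu⟩ := hconj c hc
    obtain ⟨u', hu'⟩ := hconj d hd
    exact ⟨h * u' * u⁻¹ * g⁻¹, by rw [hu, hu']; group⟩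
  · rcases hred a b ha hb with h | ⟨-, h⟩ | ⟨h, -⟩
    · left
      have h2 : (a * b) ^ 2 = 1 := by
        rw [Commute.mul_pow h, ← hroot.orderOf_eq a ha]
        rw [pow_orderOf_eq_one, one_mul, hroot.orderOf_eq a ha, ← hroot.orderOf_eq b hb, pow_orderOf_eq_one]
      obtain ⟨k, hk⟩ := hodd
      rcases (Nat.dvd_prime Nat.prime_two).mp (orderOf_dvd_of_pow_eq_one h2) with h' | h' <;> omega
    · exact (Nat.dvd_prime Nat.prime_three).mp (orderOf_dvd_of_pow_eq_one (h (by rw [Nat.card_eq_fintype_card, hF])))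
    · rw [h] at hodd
      exact absurd hodd (by decide)

end Cfsg.Agent.S5058
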