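import Cfsg.Statements.S5061
import Mathlib
-- import your own Cfsg.Agent.* helpers here

set_option autoImplicit false
open Cfsg

namespace Cfsg.Agent.S5061
section
variable {k : Type*} [Field k] {M : Type*} [AddCommGroup M] [Module k M]

local notation "GLM" => LinearMap.GeneralLinearGroup k M

/-- The span of the endomorphisms `g - 1`, `g ∈ H`. -/
def span1 (H : Subgroup GLM) : Submodule k (M →ₗ[k] M) :=
  Submodule.span k ((fun g : GLM => (g : M →ₗ[k] M) - 1) '' (H : Set GLM))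

theorem mem_span1 {H : Subgroup GLM} {g : GLM} (h : g ∈ H) : (g : M →ₗ[k] M) - 1 ∈ span1 H :=
  Submodule.subset_span ⟨g, h, rfl⟩

theorem span1_mono {H K : Subgroup GLM} (h : H ≤ K) : span1 H ≤ span1 K :=
  Submodule.span_mono (Set.image_mono h)

/-- The product of the endomorphisms `g - 1` along a list. -/
def Pl (l : List GLM) : M →ₗ[k] M := (l.map fun g : GLM => g.val - 1).prod

theorem unip_iff {H : Subgroup GLM} : Cfsg.IsUnipotentOn H ↔
    ∃ n, ∀ l : List GLM, (∀ g ∈ l, g ∈ H) → l.length = n → Pl l = 0 := by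
  have e : ∀ l : List GLM, (l.map fun g => (g : M →ₗ[k] M) - 1).prod = Pl l := by
    intro l
    simp [Pl, ← List.map_eq_flatMap, List.map_map, Function.comp_def]
  unfold Cfsg.IsUnipotentOn
  simp only [e]

theorem span1_mul (H : Subgroup GLM) : span1 H * span1 H ≤ span1 H := by
  rw [span1, Submodule.span_mul_span, Submodule.span_le]
  rintro _ ⟨_, ⟨g, hg, rfl⟩, _, ⟨h, hh, rfl⟩, rfl⟩
  have e : ((g : M →ₗ[k] M) - 1) * ((h : M →ₗ[k] M) - 1) =
      (((g * h : GLM) : M →ₗ[k] M) - 1) - ((g : M →ₗ[k] M) - 1) - ((h : M →ₗ[k] M) - 1) := by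
    rw [Units.val_mul, sub_mul, mul_sub, mul_sub, one_mul, mul_one, one_mul]; abel
  show ((g : M →ₗ[k] M) - 1) * ((h : M →ₗ[k] M) - 1) ∈ Submodule.span k _
  rw [e]
  exact Submodule.sub_mem _ (Submodule.sub_mem _ (mem_span1 (mul_mem hg hh)) (mem_span1 hg)) (mem_span1 hh)

theorem span1_succ_le (H : Subgroup GLM) (j : ℕ) : span1 H ^ (j + 2) ≤ span1 H ^ (j + 1) := by
  rw [show j + 2 = j + 1 + 1 from rfl, pow_succ _ (j + 1), pow_succ _ j, mul_assoc]
  exact mul_le_mul' le_rfl (span1_mul H)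

theorem span1_nilpotent {H : Subgroup GLM} (h : Cfsg.IsUnipotentOn H) :
    ∃ n, span1 H ^ n = ⊥ := by
  obtain ⟨n, hn⟩ := unip_iff.1 h
  refine ⟨n, ?_⟩
  rw [span1, Submodule.span_pow, Submodule.span_eq_bot]
  intro x hx
  obtain ⟨f, rfl⟩ := Set.mem_pow.1 hx
  have hf : ∀ i, ∃ g ∈ H, (g : M →ₗ[k] M) - 1 = f i := fun i => (f i).2
  choose g hg hge using hf
  have := hn (List.ofFn g) (fun x hx => by obtain ⟨i, rfl⟩ := List.mem_ofFn.1 hx; exact hg i)
    (List.length_ofFn)
  rw [Pl, List.map_ofFn] at this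
  rw [← this]
  congr 2
  funext i
  exact (hge i).symm

theorem unipotent_of_span {H K : Subgroup GLM} (hK : Cfsg.IsUnipotentOn K)
    (h : ∀ g ∈ H, (g : M →ₗ[k] M) - 1 ∈ span1 K) : Cfsg.IsUnipotentOn H := by
  obtain ⟨n, hn⟩ := span1_nilpotent hK
  refine unip_iff.2 ⟨n, fun l hl hlen => ?_⟩
  have key : ∀ l : List GLM, (∀ g ∈ l, g ∈ H) → Pl l ∈ span1 K ^ l.length := by
    intro l
    induction l with
    | nil => intro _; simp only [Pl, List.map_nil, List.prod_nil, List.length_nil, pow_zero]; exact Submodule.one_le.1 le_rfl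
    | cons a l ih =>
      intro hl
      rw [Pl, List.map_cons, List.prod_cons, List.length_cons, pow_succ']
      exact Submodule.mul_mem_mul (h a (hl a (List.mem_cons_self ..)))
        (ih fun g hg => hl g (List.mem_cons_of_mem _ hg))
  have := key l hl
  rw [hlen, hn, Submodule.mem_bot] at this
  exact this

/-- A unipotent group has the normalizer condition. -/
theorem normalizer_step {H E : Subgroup GLM} (hH : Cfsg.IsUnipotentOn H) (hE : E ≤ H) (hne : E ≠ H) :
    ∃ g ∈ H, g ∉ E ∧ ∀ e ∈ E, g * e * g⁻¹ ∈ E ∧ g⁻¹ * e * g ∈ E := by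
  classical
  obtain ⟨n, hn⟩ := span1_nilpotent hH
  have hex : ∃ j, ∀ g ∈ H, (g : M →ₗ[k] M) - 1 ∈ span1 H ^ (j + 1) → g ∈ E := by
    refine ⟨n, fun g _ hg => ?_⟩
    rw [pow_succ, hn, Submodule.bot_mul, Submodule.mem_bot, sub_eq_zero] at hg
    rw [show g = 1 from Units.ext hg]
    exact one_mem _
  set j := Nat.find hex with hj
  rcases Nat.eq_zero_or_pos j with h0 | h0
  · exfalso
    refine hne (le_antisymm hE fun g hg => Nat.find_spec hex g hg ?_)
    rw [← hj, h0, zero_add, pow_one]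
    exact mem_span1 hg
  obtain ⟨i, hi⟩ : ∃ i, j = i + 1 := ⟨j - 1, by omega⟩
  have hmin := Nat.find_min hex (show i < j by omega)
  push Not at hmin
  obtain ⟨g, hg, hgi, hgE⟩ := hmin
  have key : ∀ g ∈ H, (g : M →ₗ[k] M) - 1 ∈ span1 H ^ (i + 1) → ∀ e ∈ E, g * e * g⁻¹ ∈ E := by
    intro g hg hgi e he
    have hc : g * e * g⁻¹ * e⁻¹ ∈ E := by
      refine Nat.find_spec hex _ (mul_mem (mul_mem (mul_mem hg (hE he)) (inv_mem hg)) (inv_mem (hE he))) ?_
      rw [← hj, hi]
      set X : M →ₗ[k] M := ((g : M →ₗ[k] M) - 1) * ((e : M →ₗ[k] M) - 1) -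
        ((e : M →ₗ[k] M) - 1) * ((g : M →ₗ[k] M) - 1) with hX
      have e1 : X = ((g * e : GLM) : M →ₗ[k] M) - ((e * g : GLM) : M →ₗ[k] M) := by
        simp only [hX, Units.val_mul, sub_mul, mul_sub, one_mul, mul_one]; abel
      have hXm : X ∈ span1 H ^ (i + 2) := by
        refine Submodule.sub_mem _ ?_ ?_
        · rw [pow_succ]; exact Submodule.mul_mem_mul hgi (mem_span1 (hE he))
        · rw [pow_succ']; exact Submodule.mul_mem_mul (mem_span1 (hE he)) hgi
      have e2 : ((g * e * g⁻¹ * e⁻¹ : GLM) : M →ₗ[k] M) - 1 = X * ((g⁻¹ * e⁻¹ : GLM) : M →ₗ[k] M) := by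
        rw [e1, sub_mul, ← Units.val_mul, ← Units.val_mul,
          show e * g * (g⁻¹ * e⁻¹) = 1 by group, Units.val_one, ← mul_assoc]
      rw [e2, show X * ((g⁻¹ * e⁻¹ : GLM) : M →ₗ[k] M) =
        X + X * (((g⁻¹ * e⁻¹ : GLM) : M →ₗ[k] M) - 1) by rw [mul_sub, mul_one, add_sub_cancel]]
      refine Submodule.add_mem _ hXm (span1_succ_le H (i + 1) ?_)
      rw [show i + 1 + 2 = (i + 2) + 1 by ring, pow_succ]
      exact Submodule.mul_mem_mul hXm (mem_span1 (mul_mem (inv_mem hg) (inv_mem (hE he))))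
    have := mul_mem hc he
    rwa [inv_mul_cancel_right] at this
  refine ⟨g, hg, hgE, fun e he => ⟨key g hg hgi e he, ?_⟩⟩
  have hgi' : ((g⁻¹ : GLM) : M →ₗ[k] M) - 1 ∈ span1 H ^ (i + 1) := by
    have e1 : ((g⁻¹ : GLM) : M →ₗ[k] M) - 1 = -(((g : M →ₗ[k] M) - 1) +
        ((g : M →ₗ[k] M) - 1) * (((g⁻¹ : GLM) : M →ₗ[k] M) - 1)) := by
      rw [mul_sub, mul_one, add_sub_cancel, sub_mul, one_mul, Units.mul_inv, neg_sub]
    rw [e1]
    refine Submodule.neg_mem _ (Submodule.add_mem _ hgi (span1_succ_le H i ?_))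
    rw [pow_succ]
    exact Submodule.mul_mem_mul hgi (mem_span1 (inv_mem hg))
  simpa using key g⁻¹ (inv_mem hg) hgi' e he

/-- A unipotent group extended by a unipotent group normalizing it is unipotent. -/
theorem unipotent_sup {E F : Subgroup GLM} (hE : Cfsg.IsUnipotentOn E) (hF : Cfsg.IsUnipotentOn F)
    (hn : F ≤ Subgroup.normalizer (E : Set GLM)) : Cfsg.IsUnipotentOn (E ⊔ F) := by
  classical
  obtain ⟨n, hn'⟩ := unip_iff.1 hE
  obtain ⟨m, hm⟩ := unip_iff.1 hF
  rw [unip_iff]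
  let P : List GLM → (M →ₗ[k] M) := fun l => Pl l
  let W : ℕ → Submodule k M := fun i =>
    ⨅ l ∈ {l : List GLM | (∀ g ∈ l, g ∈ E) ∧ l.length = i}, LinearMap.ker (P l)
  have hW : ∀ i x, x ∈ W i ↔ ∀ l : List GLM, (∀ g ∈ l, g ∈ E) → l.length = i → P l x = 0 := by
    intro i x
    simp only [W, Submodule.mem_iInf, Set.mem_ofPred_eq, LinearMap.mem_ker, and_imp]
  have hWe : ∀ i x, x ∈ W (i + 1) → ∀ e ∈ E, (e : M →ₗ[k] M) x - x ∈ W i := by
    intro i x hx e he
    rw [hW]
    intro l hl hlen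
    have h1 := (hW _ x).1 hx (l ++ [e]) (by simpa [or_imp, forall_and] using And.intro hl he) (by simp [hlen])
    simpa [P, Pl] using h1
  have hWf : ∀ i, ∀ f ∈ Subgroup.normalizer (E : Set GLM), ∀ x ∈ W i, (f : M →ₗ[k] M) x ∈ W i := by
    intro i f hf x hx
    rw [hW]
    intro l hl hlen
    have h1 := (hW _ x).1 hx (l.map fun g => f⁻¹ * g * f) (by
      intro g hg
      obtain ⟨g', hg', rfl⟩ := List.mem_map.1 hg
      have := (Subgroup.mem_normalizer_iff.1 (inv_mem hf) g').1 (hl g' hg')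
      simpa using this) (by simp [hlen])
    have key : ∀ l : List GLM, P l * (f : M →ₗ[k] M) = (f : M →ₗ[k] M) * P (l.map fun g => f⁻¹ * g * f) := by
      intro l
      induction l with
      | nil => simp [P, Pl]
      | cons a l ih =>
        simp only [P, Pl, List.map_cons, List.prod_cons] at ih ⊢
        rw [mul_assoc, ih, ← mul_assoc, ← mul_assoc]
        congr 1
        rw [mul_sub, sub_mul, one_mul, mul_one, ← Units.val_mul, ← Units.val_mul]
        congr 2
        group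
    rw [← Module.End.mul_apply, key, Module.End.mul_apply, h1, map_zero]
  have hsup : ∀ g ∈ E ⊔ F, ∃ e ∈ E, ∃ f ∈ F, g = e * f := by
    intro g hg
    rw [← SetLike.mem_coe, Subgroup.coe_mul_of_right_le_normalizer_left E F hn] at hg
    obtain ⟨e, he, f, hf, rfl⟩ := hg
    exact ⟨e, he, f, hf, rfl⟩
  have step : ∀ i, ∀ l : List GLM, (∀ g ∈ l, g ∈ E ⊔ F) → ∃ l' : List GLM, (∀ g ∈ l', g ∈ F) ∧
      l'.length = l.length ∧ ∀ x ∈ W (i + 1), P l x - P l' x ∈ W i ∧ P l x ∈ W (i + 1) := by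
    intro i l
    induction l with
    | nil => intro _; exact ⟨[], by simp, rfl, fun x hx => ⟨by simp, by simpa [P, Pl] using hx⟩⟩
    | cons a l ih =>
      intro hl
      obtain ⟨l', hl', hlen, hx'⟩ := ih fun g hg => hl g (List.mem_cons_of_mem _ hg)
      obtain ⟨e, he, f, hf, rfl⟩ := hsup a (hl a (List.mem_cons_self ..))
      refine ⟨f :: l', by simpa [hf] using hl', by simp [hlen], fun x hx => ?_⟩
      obtain ⟨h1, h2⟩ := hx' x hx
      have hef : e * f ∈ Subgroup.normalizer (E : Set GLM) := mul_mem (Subgroup.le_normalizer he) (hn hf)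
      simp only [P, Pl, List.map_cons, List.prod_cons, Module.End.mul_apply, LinearMap.sub_apply,
        Module.End.one_apply] at h1 h2 ⊢
      set y := (l.map fun g : GLM => g.val - 1).prod x
      set y' := (l'.map fun g : GLM => g.val - 1).prod x
      refine ⟨?_, Submodule.sub_mem _ (hWf _ _ hef y h2) h2⟩
      have h3 := hWe i _ (hWf _ f (hn hf) y h2) e he
      have h4 : (f : M →ₗ[k] M) (y - y') - (y - y') ∈ W i := Submodule.sub_mem _ (hWf _ f (hn hf) _ h1) h1
      rw [map_sub] at h4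
      rw [Units.val_mul, Module.End.mul_apply]
      have := Submodule.add_mem _ h3 h4
      convert this using 1
      abel
  have hdrop : ∀ i, ∀ x ∈ W i, ∀ l : List GLM, (∀ g ∈ l, g ∈ E ⊔ F) → l.length = i * m → P l x = 0 := by
    intro i
    induction i with
    | zero =>
      intro x hx l _ hlen
      have := (hW 0 x).1 hx [] (by simp) rfl
      rw [zero_mul, List.length_eq_zero_iff] at hlen
      subst hlen
      exact this
    | succ i ih =>
      intro x hx l hl hlen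
      have e : l = l.take (i * m) ++ l.drop (i * m) := (List.take_append_drop _ _).symm
      obtain ⟨l', hl', hlen', hx'⟩ := step i (l.drop (i * m)) fun g hg => hl g (List.mem_of_mem_drop hg)
      have h1 : P (l.drop (i * m)) x ∈ W i := by
        have h2 := (hx' x hx).1
        have h3 : P l' = 0 := hm l' hl' (by rw [hlen', List.length_drop, hlen, Nat.succ_mul]; omega)
        rwa [h3, LinearMap.zero_apply, sub_zero] at h2
      have h4 := ih _ h1 (l.take (i * m)) (fun g hg => hl g (List.mem_of_mem_take hg))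
        (by rw [List.length_take, hlen, Nat.succ_mul]; omega)
      rw [e]
      simp only [P, Pl, List.map_append, List.prod_append, Module.End.mul_apply] at h4 ⊢
      exact h4
  refine ⟨n * m, fun l hl hlen => LinearMap.ext fun x => hdrop n x ?_ l hl hlen⟩
  rw [hW]
  intro l' hl' hlen'
  show P l' x = 0
  rw [show P l' = 0 from hn' l' hl' hlen', LinearMap.zero_apply]

end

/-- Let M be a finite-dimensional vector space over a field k, G ≤ GL(M), and 𝒲 a set of subgroups of G, invariant under conjugation by G, such that any two members of 𝒲 generate a subgroup acting unipotently on M (for some n all products of n endomorphisms g − 1 from it vanish). Then the subgroup generated by all members of 𝒲 acts unipotently on M and is normal in G. -/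
theorem result {k : Type*} [Field k] {M : Type*} [AddCommGroup M] [Module k M] [FiniteDimensional k M]
    {G : Subgroup (LinearMap.GeneralLinearGroup k M)} {W : Set (Subgroup (LinearMap.GeneralLinearGroup k M))} (hWG : ∀ A ∈ W, A ≤ G)
    (hWW : ∀ A ∈ W, ∀ B ∈ W, Cfsg.IsUnipotentOn (A ⊔ B)) (hWconj : ∀ A ∈ W, ∀ g ∈ G, Cfsg.conjBy A g ∈ W) :
    Cfsg.IsUnipotentOn (⨆ A ∈ W, A) ∧ ∀ g ∈ G, Cfsg.conjBy (⨆ A ∈ W, A) g = ⨆ A ∈ W, A := by
  skip
  classical
  set GLM := LinearMap.GeneralLinearGroup k M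
  let J : Set (Subgroup GLM) → Subgroup GLM := fun X => ⨆ A ∈ X, A
  have hJle : ∀ {X : Set (Subgroup GLM)} {A}, A ∈ X → A ≤ J X := fun {X} {A} hA => le_iSup₂_of_le A hA le_rfl
  have hJmono : ∀ {X Y : Set (Subgroup GLM)}, X ⊆ Y → J X ≤ J Y := fun {X} {Y} h => iSup₂_le fun A hA => hJle (h hA)
  let Ok : Set (Subgroup GLM) → Prop := fun X => X ⊆ W ∧ Cfsg.IsUnipotentOn (J X)
  let cl : Set (Subgroup GLM) → Set (Subgroup GLM) :=
    fun X => {A | A ∈ W ∧ ∀ a ∈ A, (a : M →ₗ[k] M) - 1 ∈ span1 (J X)}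
  have hclspan : ∀ X, ∀ g ∈ J (cl X), (g : M →ₗ[k] M) - 1 ∈ span1 (J X) := by
    intro X g hg
    induction hg using Subgroup.iSup_induction' with
    | hp A g hg =>
      induction hg using Subgroup.iSup_induction' with
      | hp hA g hg => exact hA.2 g hg
      | h1 => rw [Units.val_one, sub_self]; exact Submodule.zero_mem _
      | hmul a b _ _ ha hb =>
        have e : (((a * b : GLM)) : M →ₗ[k] M) - 1 = ((a : M →ₗ[k] M) - 1) * ((b : M →ₗ[k] M) - 1)
            + ((a : M →ₗ[k] M) - 1) + ((b : M →ₗ[k] M) - 1) := by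
          rw [Units.val_mul, sub_mul, mul_sub, mul_sub, one_mul, mul_one, one_mul]; abel
        rw [e]
        exact Submodule.add_mem _ (Submodule.add_mem _ (span1_mul _ (Submodule.mul_mem_mul ha hb)) ha) hb
    | h1 => rw [Units.val_one, sub_self]; exact Submodule.zero_mem _
    | hmul a b _ _ ha hb =>
      have e : (((a * b : GLM)) : M →ₗ[k] M) - 1 = ((a : M →ₗ[k] M) - 1) * ((b : M →ₗ[k] M) - 1)
          + ((a : M →ₗ[k] M) - 1) + ((b : M →ₗ[k] M) - 1) := by
        rw [Units.val_mul, sub_mul, mul_sub, mul_sub, one_mul, mul_one, one_mul]; abel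
      rw [e]
      exact Submodule.add_mem _ (Submodule.add_mem _ (span1_mul _ (Submodule.mul_mem_mul ha hb)) ha) hb
  have hext : ∀ Y, Ok Y → ∃ X, Ok X ∧ Y ⊆ X ∧ cl X = X ∧ ∀ X', Ok X' → X ⊆ X' → X' = X := by
    intro Y hY
    let P : ℕ → Prop := fun d => ∃ Z, Ok Z ∧ Y ⊆ Z ∧ Module.finrank k (span1 (J Z)) = d
    have hbd : ∀ d, P d → d ≤ Module.finrank k (M →ₗ[k] M) := by
      rintro d ⟨Z, -, -, rfl⟩; exact Submodule.finrank_le _
    have hP0 : P (Module.finrank k (span1 (J Y))) := ⟨Y, hY, subset_rfl, rfl⟩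
    obtain ⟨Z, hZ, hYZ, hd⟩ := Nat.findGreatest_spec (P := P) (hbd _ hP0) hP0
    have hZcl : Z ⊆ cl Z := fun A hA => ⟨hZ.1 hA, fun a ha => mem_span1 (hJle hA ha)⟩
    have hclOk : Ok (cl Z) := ⟨fun A hA => hA.1, unipotent_of_span hZ.2 (hclspan Z)⟩
    have hspan : span1 (J (cl Z)) = span1 (J Z) := by
      refine le_antisymm ?_ (span1_mono (hJmono hZcl))
      rw [span1, Submodule.span_le]
      rintro _ ⟨g, hg, rfl⟩
      exact hclspan Z g hg
    refine ⟨cl Z, hclOk, hYZ.trans hZcl, ?_, fun X' hX' hsub => ?_⟩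
    · show {A | A ∈ W ∧ ∀ a ∈ A, _} = cl Z
      rw [hspan]
    · refine Set.Subset.antisymm (fun A hA => ⟨hX'.1 hA, fun a ha => ?_⟩) hsub
      have h1 : span1 (J Z) = span1 (J X') := by
        refine Submodule.eq_of_le_of_finrank_le (span1_mono (hJmono (hZcl.trans hsub))) ?_
        rw [hd]
        have hP : P (Module.finrank k (span1 (J X'))) := ⟨X', hX', (hYZ.trans hZcl).trans hsub, rfl⟩
        exact Nat.le_findGreatest (hbd _ hP) hP
      rw [h1]
      exact mem_span1 (hJle hA ha)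
  have hconjG : ∀ g ∈ G, Cfsg.conjBy (J W) g = J W := by
    have hle : ∀ g ∈ G, Cfsg.conjBy (J W) g ≤ J W := by
      intro g hg
      rw [Cfsg.conjBy, Subgroup.map_le_iff_le_comap]
      exact iSup₂_le fun A hA => Subgroup.map_le_iff_le_comap.1 (hJle (hWconj A hA g hg))
    intro g hg
    refine le_antisymm (hle g hg) fun x hx => ?_
    exact ⟨g⁻¹ * x * g, hle g⁻¹ (inv_mem hg) ⟨x, hx, by simp⟩, show g * (g⁻¹ * x * g) * g⁻¹ = x by group⟩
  refine ⟨?_, hconjG⟩
  by_contra hW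
  have hOk1 : ∀ A ∈ W, Ok {A} := fun A hA => ⟨Set.singleton_subset_iff.2 hA, by
    have := hWW A hA A hA
    rw [sup_idem] at this
    simpa [J] using this⟩
  let Pair : Set (Subgroup GLM) → Prop := fun X => Ok X ∧ cl X = X ∧ ∀ X', Ok X' → X ⊆ X' → X' = X
  let Q : ℕ → Prop := fun d => ∃ X Y, Pair X ∧ Pair Y ∧ X ≠ Y ∧ Module.finrank k (span1 (J (X ∩ Y))) = d
  have hQb : ∀ d, Q d → d ≤ Module.finrank k (M →ₗ[k] M) := by
    rintro d ⟨X, Y, -, -, -, rfl⟩; exact Submodule.finrank_le _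
  obtain ⟨d0, hQ0⟩ : ∃ d, Q d := by
    obtain ⟨A, hA⟩ : W.Nonempty := by
      by_contra h
      rw [Set.not_nonempty_iff_eq_empty] at h
      exact hW (unip_iff.2 ⟨1, fun l hl hlen => by
        obtain ⟨a, rfl⟩ := List.length_eq_one_iff.1 hlen
        have ha : a ∈ (⊥ : Subgroup GLM) := by simpa [h] using hl a (by simp)
        rw [Subgroup.mem_bot] at ha
        simp [Pl, ha]⟩)
    obtain ⟨X, hX1, hX2, hX3, hX4⟩ := hext _ (hOk1 A hA)
    obtain ⟨B, hB, hBX⟩ : ∃ B ∈ W, B ∉ X := by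
      by_contra h
      push Not at h
      exact hW (by rw [show W = X from Set.Subset.antisymm h hX1.1]; exact hX1.2)
    obtain ⟨Y, hY1, hY2, hY3, hY4⟩ := hext _ (hOk1 B hB)
    exact ⟨_, X, Y, ⟨hX1, hX3, hX4⟩, ⟨hY1, hY3, hY4⟩, fun e => hBX (e ▸ hY2 rfl), rfl⟩
  obtain ⟨X, Y, hX, hY, hXY, hd⟩ := Nat.findGreatest_spec (P := Q) (hQb _ hQ0) hQ0
  have key : ∀ P R, Pair P → Pair R → P ≠ R →
      Module.finrank k (span1 (J (P ∩ R))) = Nat.findGreatest Q (Module.finrank k (M →ₗ[k] M)) →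
      ∀ Z, Pair Z → P ∩ R ⊆ Z → ∀ A ∈ P, A ∉ R → A ∈ Z → Z = P := by
    intro P R hP hR _ hd Z hZ hsub A hA hAR hAZ
    by_contra hne
    have hQ : Q (Module.finrank k (span1 (J (Z ∩ P)))) := by
      exact ⟨Z, P, hZ, hP, hne, rfl⟩
    have h1 : span1 (J (P ∩ R)) = span1 (J (Z ∩ P)) := by
      refine Submodule.eq_of_le_of_finrank_le
        (span1_mono (hJmono fun B hB => ⟨hsub hB, hB.1⟩)) ?_
      rw [hd]
      exact Nat.le_findGreatest (hQb _ hQ) hQ
    apply hAR
    rw [← hR.2.1]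
    refine ⟨hZ.1.1 hAZ, fun a ha => span1_mono (hJmono (Set.inter_subset_right (s := P) (t := R))) ?_⟩
    rw [h1]
    exact mem_span1 (hJle (show A ∈ Z ∩ P from ⟨hAZ, hA⟩) ha)
  have step : ∀ P R, Pair P → Pair R → P ≠ R →
      ∃ A ∈ P, A ∉ R ∧ A ≤ Subgroup.normalizer ((J (P ∩ R) : Subgroup GLM) : Set GLM) := by
    intro P R hP hR hne
    set E := J (P ∩ R) with hE
    by_contra hcon
    push Not at hcon
    set N := Subgroup.normalizer (E : Set GLM) ⊓ J P with hN
    have hEN : E ≤ N := le_inf Subgroup.le_normalizer (hJmono Set.inter_subset_left)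
    have hNne : N ≠ J P := by
      intro h
      obtain ⟨A, hA, hAR⟩ : ∃ A ∈ P, A ∉ R := by
        by_contra h'
        push Not at h'
        exact hne (hP.2.2 R hR.1 h').symm
      exact hcon A hA hAR ((hJle hA).trans (h ▸ inf_le_left))
    obtain ⟨g, hg, hgN, hgc⟩ := normalizer_step hP.1.2 inf_le_right hNne
    have hJG : J P ≤ G := iSup₂_le fun A hA => hWG A (hP.1.1 hA)
    have hmove : ∀ g ∈ J P, (∀ e ∈ N, g * e * g⁻¹ ∈ N) → ∀ e ∈ E, g * e * g⁻¹ ∈ E := by
      intro g hg hgN e he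
      induction he using Subgroup.iSup_induction' with
      | hp A e he =>
        induction he using Subgroup.iSup_induction' with
        | hp hA e he =>
          set A' := Cfsg.conjBy A g with hA'
          have hA'N : A' ≤ N := by
            rintro _ ⟨a, ha, rfl⟩
            exact hgN a (hEN (hJle hA ha))
          have hA'P : A' ∈ P := by
            rw [← hP.2.1]
            exact ⟨hWconj A (hP.1.1 hA.1) g (hJG hg), fun a ha => mem_span1 (hA'N ha).2⟩
          have hA'R : A' ∈ R := by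
            by_contra h
            exact hcon A' hA'P h (hA'N.trans inf_le_left)
          exact hJle (show A' ∈ P ∩ R from ⟨hA'P, hA'R⟩) ⟨e, he, rfl⟩
        | h1 => rw [mul_one, mul_inv_cancel]; exact one_mem E
        | hmul a b _ _ ha hb => rw [← conj_mul]; exact mul_mem ha hb
      | h1 => rw [mul_one, mul_inv_cancel]; exact one_mem E
      | hmul a b _ _ ha hb => rw [← conj_mul]; exact mul_mem ha hb
    apply hgN
    refine ⟨Subgroup.mem_normalizer_iff.2 fun e => ⟨hmove g hg (fun e he => (hgc e he).1) e, fun he => ?_⟩, hg⟩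
    have := hmove g⁻¹ (inv_mem hg) (fun e he => by rw [inv_inv]; exact (hgc e he).2) _ he
    rwa [inv_inv, show g⁻¹ * (g * e * g⁻¹) * g = e by group] at this
  obtain ⟨A, hA, hAY, hAn⟩ := step X Y hX hY hXY
  obtain ⟨B, hB, hBX, hBn⟩ := step Y X hY hX hXY.symm
  rw [Set.inter_comm] at hBn
  have hE : Cfsg.IsUnipotentOn (J (X ∩ Y)) :=
    unipotent_of_span hX.1.2 fun g hg => mem_span1 (hJmono Set.inter_subset_left hg)
  have hU := unipotent_sup hE (hWW A (hX.1.1 hA) B (hY.1.1 hB)) (sup_le hAn hBn)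
  have hJins : J (X ∩ Y ∪ {A, B}) ≤ J (X ∩ Y) ⊔ (A ⊔ B) := by
    refine iSup₂_le fun C hC => ?_
    rcases hC with hC | rfl | rfl
    · exact (hJle hC).trans le_sup_left
    · exact le_sup_left.trans le_sup_right
    · exact le_sup_right.trans le_sup_right
  obtain ⟨Z, hZ1, hZ2, hZ3, hZ4⟩ := hext (X ∩ Y ∪ {A, B}) ⟨by
    rintro C (hC | rfl | rfl)
    · exact hX.1.1 hC.1
    · exact hX.1.1 hA
    · exact hY.1.1 hB, unipotent_of_span hU fun g hg => mem_span1 (hJins hg)⟩
  have hZ : Pair Z := ⟨hZ1, hZ3, hZ4⟩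
  have e1 := key X Y hX hY hXY hd Z hZ (fun C hC => hZ2 (Or.inl hC)) A hA hAY (hZ2 (Or.inr (Or.inl rfl)))
  have e2 := key Y X hY hX hXY.symm (by rw [Set.inter_comm]; exact hd) Z hZ
    (fun C hC => hZ2 (Or.inl ⟨hC.2, hC.1⟩)) B hB hBX (hZ2 (Or.inr (Or.inr rfl)))
  exact hXY (e1.symm.trans e2)

end Cfsg.Agent.S5061
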