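import Cfsg.Statements.S5067
-- import your own Cfsg.Agent.* helpers here

set_option autoImplicit false
open Cfsg

namespace Cfsg.Agent.S5067

/-- Let P be a non-abelian nilpotent p-group (every element of p-power order; P possibly infinite) generated by two abelian subgroups E and F. Then the normal closure of E in P, and likewise that of F, has nilpotency class strictly smaller than that of P. -/
theorem result {P : Type*} [Group P] {p : ℕ} [Fact p.Prime] (hP : IsPGroup p P) [Group.IsNilpotent P]
    (hna : ¬ IsMulCommutative P) {E F : Subgroup P} (hE : IsMulCommutative ↥E) (hF : IsMulCommutative ↥F) (hgen : E ⊔ F = ⊤) :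
    Group.nilpotencyClass ↥(Subgroup.normalClosure (E : Set P)) < Group.nilpotencyClass P ∧
    Group.nilpotencyClass ↥(Subgroup.normalClosure (F : Set P)) < Group.nilpotencyClass P := by
  open scoped commutatorElement in
  have main : ∀ E F : Subgroup P, IsMulCommutative ↥E → E ⊔ F = ⊤ →
      Group.nilpotencyClass ↥(Subgroup.normalClosure (E : Set P)) < Group.nilpotencyClass P := by
    intro E F hE hgen
    set N := Subgroup.normalClosure (E : Set P)
    set γ := (⊤ : Subgroup P).lowerCentralSeries
    have hN : N ≤ E ⊔ γ 1 := by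
      have hmem : ∀ g : P, ∀ e ∈ E, g * e * g⁻¹ ∈ E ⊔ γ 1 := by
        intro g e he
        have : g * e * g⁻¹ * e⁻¹ ∈ γ 1 := Subgroup.commutator_mem_commutator (Subgroup.mem_top g) (Subgroup.mem_top e)
        have h2 := mul_mem (Subgroup.mem_sup_right (S := E) this) (Subgroup.mem_sup_left (T := γ 1) he)
        rwa [inv_mul_cancel_right] at h2
      refine (Subgroup.closure_le _).2 fun x hx => ?_
      obtain ⟨e, he, hex⟩ := Group.mem_conjugatesOfSet_iff.1 hx
      obtain ⟨g, rfl⟩ := isConj_iff.1 hex
      exact hmem g e he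
    have h1 : N.lowerCentralSeries 1 ≤ γ 2 := by
      haveI : (γ 2).Normal := inferInstance
      let π := QuotientGroup.mk' (γ 2)
      have hcen : (γ 1).map π ≤ Subgroup.center (P ⧸ γ 2) := by
        rintro _ ⟨z, hz, rfl⟩
        rw [Subgroup.mem_center_iff]
        intro q
        obtain ⟨g, rfl⟩ := QuotientGroup.mk_surjective q
        symm
        rw [← commutatorElement_eq_one_iff_mul_comm]
        show ⁅π z, π g⁆ = 1
        rw [← map_commutatorElement, QuotientGroup.mk'_apply, QuotientGroup.eq_one_iff]
        exact Subgroup.commutator_mem_commutator hz (Subgroup.mem_top g)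
      haveI := hE
      have hEm : IsMulCommutative ↥(E.map π) := Subgroup.map_isMulCommutative E π
      have hab : ∀ u ∈ N, ∀ v ∈ N, Commute (π u) (π v) := by
        intro u hu v hv
        have hu' : π u ∈ E.map π ⊔ Subgroup.center (P ⧸ γ 2) := by
          have : π u ∈ (E ⊔ γ 1).map π := Subgroup.mem_map_of_mem π (hN hu)
          rw [Subgroup.map_sup] at this
          exact sup_le_sup_left hcen _ this
        have hv' : π v ∈ E.map π ⊔ Subgroup.center (P ⧸ γ 2) := by
          have : π v ∈ (E ⊔ γ 1).map π := Subgroup.mem_map_of_mem π (hN hv)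
          rw [Subgroup.map_sup] at this
          exact sup_le_sup_left hcen _ this
        obtain ⟨e1, he1, z1, hz1, eu⟩ := Subgroup.mem_sup_of_normal_right.1 hu'
        obtain ⟨e2, he2, z2, hz2, ev⟩ := Subgroup.mem_sup_of_normal_right.1 hv'
        rw [← eu, ← ev]
        have c12 : Commute e1 e2 := congrArg Subtype.val (hEm.is_comm.comm ⟨e1, he1⟩ ⟨e2, he2⟩)
        have cz1 : ∀ q, Commute z1 q := fun q => (Subgroup.mem_center_iff.1 hz1 q).symm
        have cz2 : ∀ q, Commute q z2 := fun q => Subgroup.mem_center_iff.1 hz2 q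
        exact (c12.mul_right (cz2 e1)).mul_left (cz1 _)
      rw [Subgroup.lowerCentralSeries_succ, Subgroup.lowerCentralSeries_zero, Subgroup.commutator_le]
      intro u hu v hv
      rw [← QuotientGroup.eq_one_iff]
      show π ⁅u, v⁆ = 1
      rw [map_commutatorElement, commutatorElement_eq_one_iff_mul_comm]
      exact hab u hu v hv
    have hstep : ∀ i, N.lowerCentralSeries (i + 1) ≤ γ (i + 2) := by
      intro i
      induction i with
      | zero => exact h1
      | succ i ih => exact Subgroup.commutator_mono ih le_top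
    set c := Group.nilpotencyClass P with hc
    have hbot : γ c = ⊥ := Subgroup.lowerCentralSeries_nilpotencyClass
    have hc2 : 2 ≤ c := by
      by_contra h
      apply hna
      have hb : γ 1 = ⊥ := le_bot_iff.1 (hbot ▸ (Subgroup.lowerCentralSeries_antitone (S := (⊤ : Subgroup P)) (by omega : c ≤ 1)))
      refine ⟨⟨fun u v => ?_⟩⟩
      have := Subgroup.commutator_mem_commutator (Subgroup.mem_top u) (Subgroup.mem_top v)
      change ⁅u, v⁆ ∈ γ 1 at this
      rwa [hb, Subgroup.mem_bot, commutatorElement_eq_one_iff_mul_comm] at this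
    obtain ⟨d, hd⟩ : ∃ d, c = d + 2 := ⟨c - 2, by omega⟩
    have hN0 : (⊤ : Subgroup ↥N).lowerCentralSeries (d + 1) = ⊥ := by
      rw [← Subgroup.map_subtype_inj, Subgroup.map_bot, Subgroup.top_subtype_lowerCentralSeries, ← le_bot_iff,
        ← hbot, hd]
      exact hstep d
    have hle : Group.nilpotencyClass ↥N ≤ d + 1 := by
      classical
      rw [← Subgroup.lowerCentralSeries_length_eq_nilpotencyClass]
      exact Nat.find_le hN0
    omega
  exact ⟨main E F hE hgen, main F E hF (by rw [sup_comm]; exact hgen)⟩

end Cfsg.Agent.S5067
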