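import Cfsg.Statements.S5070
import Cfsg.Agent.Lib.Classical.SymplecticMatrix
import Cfsg.Agent.Lib.Classical.Linear
-- import your own Cfsg.Agent.* helpers here

set_option autoImplicit false
open Matrix
open Cfsg

namespace Cfsg.Agent.S5070

open Matrix
open scoped commutatorElement
open Cfsg.Agent.Classical.Sp

section
variable {F : Type*} [Field F] {m : ℕ}

local notation "VV" => (Fin (m + 1) ⊕ Fin (m + 1) → F)
set_option quotPrecheck false in
local notation "SM" => ↥(Matrix.symplecticGroup (Fin (m + 1)) F)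
local notation "Bf" => sympB F (m + 1)
local notation "hAl" => sympB_isAlt (F := F) (m + 1)

/-- Root elements. -/
noncomputable def x (p : VV) (c : F) : SM := (spEquiv (m + 1)).symm (T Bf hAl p c)

theorem x_apply (p : VV) (c : F) (v : VV) : (x p c).1 *ᵥ v = v + (c * Bf v p) • p := by
  rw [x, spEquiv_symm_mulVec, T_apply]

theorem sm_ext {g h : SM} (e : ∀ v : VV, g.1 *ᵥ v = h.1 *ᵥ v) : g = h := Subtype.ext (matrix_ext _ e)

theorem sm_mul (g h : SM) (v : VV) : (g * h).1 *ᵥ v = g.1 *ᵥ (h.1 *ᵥ v) := (mulVec_mulVec v g.1 h.1).symm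

theorem x_add (p : VV) (c d : F) : x p (c + d) = x p c * x p d := by
  rw [x, x, x, ← map_mul, T_add]

theorem x_zero (p : VV) : x p (0 : F) = 1 := by rw [x, T_zero, map_one]

theorem x_inv (p : VV) (c : F) : (x p c)⁻¹ = x p (-c) := by rw [x, x, ← map_inv, T_inv]

theorem x_smul (p : VV) (a c : F) : x (a • p) c = x p (a * a * c) := by rw [x, x, T_smul]

theorem x_conj (g : SM) (p : VV) (c : F) : g * x p c * g⁻¹ = x (g.1 *ᵥ p) c := by
  apply (spEquiv (m + 1)).injective
  rw [map_mul, map_mul, map_inv, x, x, MulEquiv.apply_symm_apply, MulEquiv.apply_symm_apply, conj_T,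
    spEquiv_apply]

theorem exists_nonorth {p : VV} (hp : p ≠ 0) : ∃ u, Bf u p ≠ 0 := by
  obtain ⟨u, hu⟩ := sympB_nondeg (F := F) (m + 1) p hp
  exact ⟨u, by rw [alt_neg Bf hAl p u]; exact neg_ne_zero.2 hu⟩

theorem x_eq_one {p : VV} (hp : p ≠ 0) {c : F} (h : x p c = 1) : c = 0 := by
  obtain ⟨u, hu⟩ := exists_nonorth hp
  have h1 := x_apply p c u
  rw [h] at h1
  simp only [OneMemClass.coe_one, one_mulVec, left_eq_add, smul_eq_zero, mul_eq_zero] at h1
  exact (h1.resolve_right hp).resolve_right hu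

/-- Root groups. -/
noncomputable def R (p : VV) : Subgroup SM where
  carrier := Set.range (x p)
  one_mem' := ⟨0, x_zero p⟩
  mul_mem' := by rintro _ _ ⟨c, rfl⟩ ⟨d, rfl⟩; exact ⟨c + d, x_add p c d⟩
  inv_mem' := by rintro _ ⟨c, rfl⟩; exact ⟨-c, (x_inv p c).symm⟩

theorem R_smul (p : VV) {a : F} (ha : a ≠ 0) : R (a • p) = R p := by
  ext g
  constructor
  · rintro ⟨c, rfl⟩; exact ⟨_, (x_smul p a c).symm⟩
  · rintro ⟨c, rfl⟩
    exact ⟨c / (a * a), by rw [x_smul, mul_div_cancel₀ _ (mul_ne_zero ha ha)]⟩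

theorem conjBy_R (g : SM) (p : VV) : Cfsg.conjBy (R p) g = R (g.1 *ᵥ p) := by
  ext z
  constructor
  · rintro ⟨_, ⟨c, rfl⟩, rfl⟩; exact ⟨c, (x_conj g p c).symm⟩
  · rintro ⟨c, rfl⟩; exact ⟨_, ⟨c, rfl⟩, x_conj g p c⟩

theorem R_abelian (p : VV) : IsMulCommutative ↥(R p) :=
  ⟨⟨by rintro ⟨_, c, rfl⟩ ⟨_, d, rfl⟩; exact Subtype.ext (by
    show x p c * x p d = x p d * x p c
    rw [← x_add, ← x_add]; exact congrArg (x p) (add_comm c d))⟩⟩

theorem comm_of_orth {p q : VV} (h : Bf p q = 0) (c d : F) : x p c * x q d = x q d * x p c := by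
  have h' : Bf q p = 0 := by rw [alt_neg Bf hAl p q, h, neg_zero]
  refine sm_ext fun v => ?_
  simp only [sm_mul, x_apply, map_add, map_smul, LinearMap.add_apply, LinearMap.smul_apply, smul_eq_mul, h, h',
    mul_zero, add_zero]
  match_scalars <;> ring

theorem orth_of_comm {p q : VV} (hp : p ≠ 0) (hq : q ≠ 0)
    (h : x p (1 : F) * x q 1 = x q 1 * x p 1) : Bf p q = 0 := by
  by_contra hw
  obtain ⟨u, hu⟩ := exists_nonorth hq
  have h1 : (x p (1 : F) * x q 1).1 *ᵥ u = (x q (1 : F) * x p 1).1 *ᵥ u := by rw [h]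
  simp only [sm_mul, x_apply, map_add, map_smul, LinearMap.add_apply, LinearMap.smul_apply, smul_eq_mul,
    one_mul, alt_neg Bf hAl p q] at h1
  have h2 : (Bf u q * -Bf p q) • p = (Bf u p * Bf p q) • q := by
    rw [← sub_eq_zero] at h1 ⊢
    rw [← h1]; module
  have h3 := congrArg (fun v => Bf v q) h2
  simp only [map_smul, LinearMap.smul_apply, smul_eq_mul, (hAl).self_eq_zero, mul_zero, mul_eq_zero,
    neg_eq_zero] at h3
  rcases h3 with (h3 | h3) | h3
  · exact hu h3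
  · exact hw h3
  · exact hw h3

theorem rankOne_cond {p q : VV} (h : Bf p q ≠ 0) : Cfsg.RankOneCondition (R p) (R q) := by
  rintro _ ⟨c, rfl⟩ hu
  have hc : c ≠ 0 := fun e => hu (by rw [e, x_zero])
  have hq : q ≠ 0 := fun e => h (by rw [e, map_zero])
  set z := Bf p q with hz
  refine ⟨x q (-(1 / (c * (z * z)))), ⟨_, rfl⟩, fun e => ?_, ?_⟩
  · have := x_eq_one hq e
    simp [hc, h] at this
  · rw [conjBy_R, conjBy_R, x_inv, x_inv, x_apply, x_apply, ← hz,
      show p + (-(-(1 / (c * (z * z)))) * z) • q = (1 / (c * z)) • (q + (-c * Bf q p) • p) by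
        rw [show Bf q p = -z from alt_neg Bf hAl p q]
        match_scalars <;> field_simp]
    exact R_smul _ (by simp [hc, h])

theorem rankOne {p q : VV} (h : Bf p q ≠ 0) : Cfsg.IsRankOnePair (R p) (R q) := by
  have h' : Bf q p ≠ 0 := by rw [alt_neg Bf hAl p q]; exact neg_ne_zero.2 h
  have hp : p ≠ 0 := fun e => h' (by rw [e, map_zero])
  have hq : q ≠ 0 := fun e => h (by rw [e, map_zero])
  refine ⟨fun e => h (orth_of_comm hp hq ?_), ?_, ?_, rankOne_cond h, rankOne_cond h'⟩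
  · have hb : x q (1 : F) ∈ R p := e ▸ ⟨1, rfl⟩
    obtain ⟨c, hc⟩ := hb
    rw [← hc, ← x_add, ← x_add]
    exact congrArg (x p) (add_comm _ _)
  · letI : CommGroup ↥(R p) := { (inferInstance : Group ↥(R p)) with mul_comm := (R_abelian p).is_comm.comm }
    exact CommGroup.isNilpotent
  · letI : CommGroup ↥(R q) := { (inferInstance : Group ↥(R q)) with mul_comm := (R_abelian q).is_comm.comm }
    exact CommGroup.isNilpotent

theorem commutator_bot {p q : VV} (h : Bf p q = 0) : ⁅R p, R q⁆ = ⊥ := by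
  rw [eq_bot_iff, Subgroup.commutator_le]
  rintro _ ⟨c, rfl⟩ _ ⟨d, rfl⟩
  rw [Subgroup.mem_bot, _root_.commutatorElement_def, comm_of_orth h]
  group

/-- The embedding of `SL₂` of a hyperbolic pair. -/
theorem psl2 {p q : VV} (h : Bf p q ≠ 0) : Cfsg.IsPSL2PairOver F (R p) (R q) := by
  set z := Bf p q with hz
  set q' : VV := z⁻¹ • q with hq'
  have hpq : Bf p q' = 1 := by rw [hq', map_smul, smul_eq_mul, ← hz, inv_mul_cancel₀ h]
  have hqp : Bf q' p = -1 := by rw [alt_neg Bf hAl p q', hpq]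
  let L : Matrix (Fin 2) (Fin 2) F → (VV →ₗ[F] VV) := fun M =>
    LinearMap.id +
      LinearMap.smulRight ((M 0 0 - 1) • (LinearMap.flip Bf q') + M 0 1 • (Bf p)) p +
      LinearMap.smulRight (M 1 0 • (LinearMap.flip Bf q') + (M 1 1 - 1) • (Bf p)) q'
  have hL : ∀ M v, L M v = v + ((M 0 0 - 1) * Bf v q' + M 0 1 * Bf p v) • p +
      (M 1 0 * Bf v q' + (M 1 1 - 1) * Bf p v) • q' := fun M v => by simp [L]
  have hmul : ∀ M N v, L M (L N v) = L (M * N) v := by
    intro M N v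
    rw [hL N, hL, hL]
    simp only [map_add, map_smul, LinearMap.add_apply, LinearMap.smul_apply, smul_eq_mul, hpq,
      (hAl).self_eq_zero, Matrix.mul_apply, Fin.sum_univ_two]
    module
  have h1 : ∀ v, L 1 v = v := fun v => by simp [hL]
  let mk : Matrix.SpecialLinearGroup (Fin 2) F → Grp Bf := fun M =>
    ⟨LinearEquiv.ofLinear (L M.1) (L (M⁻¹).1)
      (LinearMap.ext fun v => by
        show L M.1 (L (M⁻¹).1 v) = v
        rw [hmul, ← Matrix.SpecialLinearGroup.coe_mul, mul_inv_cancel, Matrix.SpecialLinearGroup.coe_one, h1])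
      (LinearMap.ext fun v => by
        show L (M⁻¹).1 (L M.1 v) = v
        rw [hmul, ← Matrix.SpecialLinearGroup.coe_mul, inv_mul_cancel, Matrix.SpecialLinearGroup.coe_one, h1]),
      fun v w => by
        show Bf (L M.1 v) (L M.1 w) = Bf v w
        have hd := M.2
        rw [Matrix.det_fin_two] at hd
        simp only [hL, map_add, map_smul, LinearMap.add_apply, LinearMap.smul_apply, smul_eq_mul, hpq, hqp,
          (hAl).self_eq_zero, alt_neg Bf hAl p v, alt_neg Bf hAl w q']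
        linear_combination (Bf v q' * Bf p w - Bf p v * Bf w q') * hd⟩
  let f : Matrix.SpecialLinearGroup (Fin 2) F →* SM :=
    { toFun := fun M => (spEquiv (m + 1)).symm (mk M)
      map_one' := by
        rw [show mk 1 = 1 from Grp.ext' Bf fun v => h1 v, map_one]
      map_mul' := fun M N => by
        rw [← map_mul]
        exact congrArg _ (Grp.ext' Bf fun v => (hmul M.1 N.1 v).symm) }
  have hf : ∀ M v, (f M).1 *ᵥ v = L M.1 v := fun M v => by
    show ((spEquiv (m + 1)).symm (mk M)).1 *ᵥ v = _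
    rw [spEquiv_symm_mulVec]; rfl
  have hup : ∀ M : Matrix.SpecialLinearGroup (Fin 2) F, M.1 1 0 = 0 → M.1 0 0 = 1 → M.1 1 1 = 1 →
      f M = x p (-(M.1 0 1)) := by
    intro M e1 e2 e3
    refine sm_ext fun v => ?_
    rw [hf, hL, x_apply, e1, e2, e3, alt_neg Bf hAl p v]
    module
  have hlo : ∀ M : Matrix.SpecialLinearGroup (Fin 2) F, M.1 0 1 = 0 → M.1 0 0 = 1 → M.1 1 1 = 1 →
      f M = x q (M.1 1 0 * (z⁻¹ * z⁻¹)) := by
    intro M e1 e2 e3
    refine sm_ext fun v => ?_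
    rw [hf, hL, x_apply, e1, e2, e3, hq']
    simp only [map_smul, smul_eq_mul]
    module
  have h01 : (0 : Fin 2) ≠ 1 := by decide
  have hmapU : (Cfsg.upperUnipotentSL2 F).map f = R p := by
    apply le_antisymm
    · rw [Cfsg.upperUnipotentSL2, MonoidHom.map_closure, Subgroup.closure_le]
      rintro _ ⟨M, ⟨e1, e2, e3⟩, rfl⟩
      exact ⟨_, (hup M e1 e2 e3).symm⟩
    · rintro _ ⟨c, rfl⟩
      refine ⟨Matrix.SpecialLinearGroup.transvection h01 (-c), Subgroup.subset_closure ?_, ?_⟩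
      · simp [Matrix.SpecialLinearGroup.transvection_coe, Matrix.add_apply]
      · rw [hup _ (by simp [Matrix.SpecialLinearGroup.transvection_coe, Matrix.add_apply])
          (by simp [Matrix.SpecialLinearGroup.transvection_coe, Matrix.add_apply])
          (by simp [Matrix.SpecialLinearGroup.transvection_coe, Matrix.add_apply])]
        congr 1
        simp [Matrix.SpecialLinearGroup.transvection_coe, Matrix.add_apply]
  have hmapL : (Cfsg.lowerUnipotentSL2 F).map f = R q := by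
    apply le_antisymm
    · rw [Cfsg.lowerUnipotentSL2, MonoidHom.map_closure, Subgroup.closure_le]
      rintro _ ⟨M, ⟨e1, e2, e3⟩, rfl⟩
      exact ⟨_, (hlo M e1 e2 e3).symm⟩
    · rintro _ ⟨c, rfl⟩
      refine ⟨Matrix.SpecialLinearGroup.transvection h01.symm (c * (z * z)), Subgroup.subset_closure ?_, ?_⟩
      · simp [Matrix.SpecialLinearGroup.transvection_coe, Matrix.add_apply]
      · rw [hlo _ (by simp [Matrix.SpecialLinearGroup.transvection_coe, Matrix.add_apply])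
          (by simp [Matrix.SpecialLinearGroup.transvection_coe, Matrix.add_apply])
          (by simp [Matrix.SpecialLinearGroup.transvection_coe, Matrix.add_apply])]
        congr 1
        simp [Matrix.SpecialLinearGroup.transvection_coe, Matrix.add_apply]
        field_simp
  have hgen : Cfsg.upperUnipotentSL2 F ⊔ Cfsg.lowerUnipotentSL2 F = ⊤ := by
    rw [← top_le_iff, ← Classical.closure_transvection_eq_top (ι := Fin 2), Subgroup.closure_le]
    rintro _ ⟨i, j, hij, c, rfl⟩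
    fin_cases i <;> fin_cases j <;> first | exact absurd rfl hij | skip
    · exact Subgroup.mem_sup_left (Subgroup.subset_closure (by
        simp [Matrix.SpecialLinearGroup.transvection_coe, Matrix.add_apply]))
    · exact Subgroup.mem_sup_right (Subgroup.subset_closure (by
        simp [Matrix.SpecialLinearGroup.transvection_coe, Matrix.add_apply]))
  refine ⟨f, ?_, ?_, hmapU, hmapL⟩
  · rw [MonoidHom.range_eq_map, ← hgen, Subgroup.map_sup, hmapU, hmapL]
  · intro M hM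
    have hv : ∀ v, L M.1 v = v := fun v => by
      rw [← hf, show f M = 1 from hM, OneMemClass.coe_one, one_mulVec]
    have a1 := congrArg (fun v => Bf v q') (hv p)
    have a2 := congrArg (fun v => Bf v q') (hv q')
    have a3 := congrArg (fun v => Bf p v) (hv p)
    have a4 := congrArg (fun v => Bf p v) (hv q')
    simp [hL, hpq, (hAl).self_eq_zero, sub_eq_zero] at a1 a2 a3 a4
    have : M = 1 := by
      refine Subtype.ext (Matrix.ext fun i j => ?_)
      fin_cases i <;> fin_cases j <;> simp [a1, a2, a3, a4]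
    rw [this]; exact one_mem _

end

set_option maxHeartbeats 1600000 in
/-- Let F be a field, m a natural number and V = F^{2(m+1)} with the standard non-degenerate alternating form f(u, v) = uᵀ J v. For a non-zero vector p let T(p) be the group of symplectic transvections v ↦ v + c f(v, p) p, c ∈ F. Then the subgroups T(p), p ≠ 0, generate the symplectic group Sp_{2(m+1)}(F) and form a degenerate class of abstract F-root subgroups of it (any two of them either commute elementwise or are the unipotent subgroups of a rank one group that is an image of SL₂(F) with central kernel, never the commutator case), and their graph of rank one pairs is connected. -/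
theorem result (F : Type*) [Field F] (m : ℕ) :
    Cfsg.IsRootSubgroupClass {A : Subgroup ↥(Matrix.symplecticGroup (Fin (m + 1)) F) | ∃ p : Fin (m + 1) ⊕ Fin (m + 1) → F, p ≠ 0 ∧
        A = Subgroup.closure {g : ↥(Matrix.symplecticGroup (Fin (m + 1)) F) | ∃ c : F, ∀ v : Fin (m + 1) ⊕ Fin (m + 1) → F,
          (g : Matrix (Fin (m + 1) ⊕ Fin (m + 1)) (Fin (m + 1) ⊕ Fin (m + 1)) F) *ᵥ v =
            v + (c * (v ⬝ᵥ (Matrix.J (Fin (m + 1)) F *ᵥ p))) • p}} ∧
    Cfsg.IsDegenerateRootSet {A : Subgroup ↥(Matrix.symplecticGroup (Fin (m + 1)) F) | ∃ p : Fin (m + 1) ⊕ Fin (m + 1) → F, p ≠ 0 ∧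
        A = Subgroup.closure {g : ↥(Matrix.symplecticGroup (Fin (m + 1)) F) | ∃ c : F, ∀ v : Fin (m + 1) ⊕ Fin (m + 1) → F,
          (g : Matrix (Fin (m + 1) ⊕ Fin (m + 1)) (Fin (m + 1) ⊕ Fin (m + 1)) F) *ᵥ v =
            v + (c * (v ⬝ᵥ (Matrix.J (Fin (m + 1)) F *ᵥ p))) • p}} ∧
    Cfsg.IsKRootSubgroupSet F {A : Subgroup ↥(Matrix.symplecticGroup (Fin (m + 1)) F) | ∃ p : Fin (m + 1) ⊕ Fin (m + 1) → F, p ≠ 0 ∧
        A = Subgroup.closure {g : ↥(Matrix.symplecticGroup (Fin (m + 1)) F) | ∃ c : F, ∀ v : Fin (m + 1) ⊕ Fin (m + 1) → F,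
          (g : Matrix (Fin (m + 1) ⊕ Fin (m + 1)) (Fin (m + 1) ⊕ Fin (m + 1)) F) *ᵥ v =
            v + (c * (v ⬝ᵥ (Matrix.J (Fin (m + 1)) F *ᵥ p))) • p}} ∧
    Cfsg.IsConnectedFamily (Cfsg.FAdj {A : Subgroup ↥(Matrix.symplecticGroup (Fin (m + 1)) F) | ∃ p : Fin (m + 1) ⊕ Fin (m + 1) → F, p ≠ 0 ∧
        A = Subgroup.closure {g : ↥(Matrix.symplecticGroup (Fin (m + 1)) F) | ∃ c : F, ∀ v : Fin (m + 1) ⊕ Fin (m + 1) → F,
          (g : Matrix (Fin (m + 1) ⊕ Fin (m + 1)) (Fin (m + 1) ⊕ Fin (m + 1)) F) *ᵥ v =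
            v + (c * (v ⬝ᵥ (Matrix.J (Fin (m + 1)) F *ᵥ p))) • p}})
      {A : Subgroup ↥(Matrix.symplecticGroup (Fin (m + 1)) F) | ∃ p : Fin (m + 1) ⊕ Fin (m + 1) → F, p ≠ 0 ∧
        A = Subgroup.closure {g : ↥(Matrix.symplecticGroup (Fin (m + 1)) F) | ∃ c : F, ∀ v : Fin (m + 1) ⊕ Fin (m + 1) → F,
          (g : Matrix (Fin (m + 1) ⊕ Fin (m + 1)) (Fin (m + 1) ⊕ Fin (m + 1)) F) *ᵥ v =
            v + (c * (v ⬝ᵥ (Matrix.J (Fin (m + 1)) F *ᵥ p))) • p}} := by
  classical
  set S := {A : Subgroup ↥(Matrix.symplecticGroup (Fin (m + 1)) F) | ∃ p : Fin (m + 1) ⊕ Fin (m + 1) → F, p ≠ 0 ∧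
        A = Subgroup.closure {g : ↥(Matrix.symplecticGroup (Fin (m + 1)) F) | ∃ c : F, ∀ v : Fin (m + 1) ⊕ Fin (m + 1) → F,
          (g : Matrix (Fin (m + 1) ⊕ Fin (m + 1)) (Fin (m + 1) ⊕ Fin (m + 1)) F) *ᵥ v =
            v + (c * (v ⬝ᵥ (Matrix.J (Fin (m + 1)) F *ᵥ p))) • p}} with hSdef
  have hB : ∀ u v : Fin (m + 1) ⊕ Fin (m + 1) → F, u ⬝ᵥ (Matrix.J (Fin (m + 1)) F *ᵥ v) = sympB F (m + 1) u v :=
    fun u v => (Matrix.toBilin'_apply' _ _ _).symm
  have hset : ∀ p : Fin (m + 1) ⊕ Fin (m + 1) → F,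
      Subgroup.closure {g : ↥(Matrix.symplecticGroup (Fin (m + 1)) F) | ∃ c : F, ∀ v : Fin (m + 1) ⊕ Fin (m + 1) → F,
        (g : Matrix (Fin (m + 1) ⊕ Fin (m + 1)) (Fin (m + 1) ⊕ Fin (m + 1)) F) *ᵥ v =
          v + (c * (v ⬝ᵥ (Matrix.J (Fin (m + 1)) F *ᵥ p))) • p} = R p := by
    intro p
    convert Subgroup.closure_eq (R p) using 2
    ext g
    constructor
    · rintro ⟨c, hc⟩
      exact ⟨c, sm_ext fun v => by rw [x_apply, hc v, hB]⟩
    · rintro ⟨c, rfl⟩
      exact ⟨c, fun v => by rw [x_apply, hB]⟩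
  have hmem : ∀ A, A ∈ S ↔ ∃ p, p ≠ 0 ∧ A = R p := by
    intro A
    simp only [hSdef, Set.mem_setOf_eq, hset]
  have hin : ∀ p, p ≠ 0 → R p ∈ S := fun p hp => (hmem _).mpr ⟨p, hp, rfl⟩
  have hne : ∀ (g : ↥(Matrix.symplecticGroup (Fin (m + 1)) F)) (p : Fin (m + 1) ⊕ Fin (m + 1) → F), p ≠ 0 →
      g.1 *ᵥ p ≠ 0 := by
    intro g p hp h
    apply hp
    rw [← spEquiv_apply] at h
    exact (LinearEquiv.map_eq_zero_iff _).mp h
  have hroot : Cfsg.IsRootSubgroupSet S := by
    refine ⟨fun A hA => ?_, fun A hA => ?_, ?_, fun A hA g => ?_, fun A hA B hB' => ?_⟩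
    · obtain ⟨p, -, rfl⟩ := (hmem A).mp hA; exact R_abelian p
    · obtain ⟨p, hp, rfl⟩ := (hmem A).mp hA
      intro h
      have : x p (1 : F) ∈ R p := ⟨1, rfl⟩
      rw [h, Subgroup.mem_bot] at this
      exact one_ne_zero (x_eq_one hp this)
    · rw [← top_le_iff]
      intro g _
      have hg : spEquiv (m + 1) g ∈ Subgroup.closure (tSet (sympB F (m + 1)) (sympB_isAlt (m + 1)) ⊤) := by
        rw [closure_tSet _ _ (sympB_nondeg (F := F) (m + 1))]; exact Subgroup.mem_top _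
      have hle : Subgroup.closure (tSet (sympB F (m + 1)) (sympB_isAlt (m + 1)) ⊤) ≤
          (⨆ A ∈ S, A).comap (spEquiv (m + 1)).symm.toMonoidHom := by
        rw [Subgroup.closure_le]
        rintro _ ⟨v, -, c, rfl⟩
        rw [Subgroup.coe_comap, Set.mem_preimage, SetLike.mem_coe]
        show (spEquiv (F := F) (m + 1)).symm (T (sympB F (m + 1)) (sympB_isAlt (m + 1)) v c) ∈ (⨆ A ∈ S, A)
        by_cases hv : v = 0
        · subst hv
          rw [T_zero_vec, map_one]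
          exact one_mem _
        · exact Subgroup.mem_iSup_of_mem (R v) (Subgroup.mem_iSup_of_mem (hin v hv) ⟨c, rfl⟩)
      have := hle hg
      simpa using this
    · obtain ⟨p, hp, rfl⟩ := (hmem A).mp hA
      rw [conjBy_R]; exact hin _ (hne g p hp)
    · obtain ⟨p, hp, rfl⟩ := (hmem A).mp hA
      obtain ⟨q, hq, rfl⟩ := (hmem B).mp hB'
      by_cases h : sympB F (m + 1) p q = 0
      · exact Or.inl (commutator_bot h)
      · exact Or.inr (Or.inl (rankOne h))
  refine ⟨⟨hroot, ⟨?_, ?_⟩⟩, ?_, ⟨hroot, ?_⟩, ?_⟩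
  · exact ⟨_, hin (Pi.single (Sum.inl 0) 1) (fun h => by simpa using congrFun h (Sum.inl 0))⟩
  · intro A hA B hB'
    obtain ⟨p, hp, rfl⟩ := (hmem A).mp hA
    obtain ⟨q, hq, rfl⟩ := (hmem B).mp hB'
    obtain ⟨g, -, hg⟩ := move_top _ (sympB_isAlt (m + 1)) (sympB_nondeg (F := F) (m + 1)) hp hq
    exact ⟨(spEquiv (m + 1)).symm g, by rw [conjBy_R, spEquiv_symm_mulVec, hg]⟩
  · -- no commutator case
    intro A hA B hB' hc
    obtain ⟨p, hp, rfl⟩ := (hmem A).mp hA
    obtain ⟨q, hq, rfl⟩ := (hmem B).mp hB'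
    obtain ⟨hS, hcen, -, -⟩ := hc
    by_cases hz : sympB F (m + 1) p q = 0
    · rw [commutator_bot hz] at hS
      exact hroot.ne_bot _ hS rfl
    obtain ⟨r, hr, hR⟩ := (hmem _).mp hS
    rw [hR] at hcen
    have hrp : sympB F (m + 1) r p = 0 :=
      orth_of_comm hr hp (hcen _ ⟨1, rfl⟩ _ (Subgroup.mem_sup_left ⟨1, rfl⟩))
    have hrq : sympB F (m + 1) r q = 0 :=
      orth_of_comm hr hq (hcen _ ⟨1, rfl⟩ _ (Subgroup.mem_sup_right ⟨1, rfl⟩))
    have hpr : sympB F (m + 1) p r = 0 := by rw [alt_neg _ (sympB_isAlt (m + 1)) r p, hrp, neg_zero]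
    have hmemc : ⁅x p (1 : F), x q 1⁆ ∈ R r :=
      hR ▸ Subgroup.commutator_mem_commutator (show x p (1 : F) ∈ R p from ⟨1, rfl⟩) (show x q (1 : F) ∈ R q from ⟨1, rfl⟩)
    obtain ⟨e, he⟩ := hmemc
    have he' : x p (1 : F) * x q 1 * (x p 1)⁻¹ = x r e * x q 1 := by
      rw [he, _root_.commutatorElement_def, inv_mul_cancel_right]
    rw [x_conj] at he'
    have h1 : (x ((x p (1 : F)).1 *ᵥ q) (1 : F)).1 *ᵥ p = (x r e * x q 1).1 *ᵥ p := by rw [he']
    simp only [sm_mul, x_apply, map_add, map_smul, LinearMap.add_apply, LinearMap.smul_apply, smul_eq_mul,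
      one_mul, (sympB_isAlt (m + 1)).self_eq_zero, hpr, mul_zero, add_zero,
      show sympB F (m + 1) q r = 0 by rw [alt_neg _ (sympB_isAlt (m + 1)) r q, hrq, neg_zero], zero_smul] at h1
    rw [smul_add, smul_smul, ← add_assoc, add_eq_left, smul_eq_zero, mul_eq_zero] at h1
    rcases h1 with (h1 | h1) | h1
    · exact hz h1
    · exact hz (by rw [alt_neg _ (sympB_isAlt (m + 1)) q p, h1, neg_zero])
    · exact hp h1
  · intro A hA B hB' hAB
    obtain ⟨p, hp, rfl⟩ := (hmem A).mp hA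
    obtain ⟨q, hq, rfl⟩ := (hmem B).mp hB'
    refine psl2 fun hz => ?_
    -- commuting root groups do not form a rank one pair
    obtain ⟨_, ⟨d, rfl⟩, -, hu⟩ := hAB.cond_left (x p 1) ⟨1, rfl⟩ (fun h => one_ne_zero (x_eq_one hp h))
    rw [conjBy_R, conjBy_R, x_inv, x_inv, x_apply, x_apply, hz,
      show sympB F (m + 1) q p = 0 by rw [alt_neg _ (sympB_isAlt (m + 1)) p q, hz, neg_zero],
      mul_zero, mul_zero, zero_smul, zero_smul, add_zero, add_zero] at hu
    exact hAB.ne hu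
  · intro A hA B hB'
    obtain ⟨p, hp, rfl⟩ := (hmem A).mp hA
    obtain ⟨q, hq, rfl⟩ := (hmem B).mp hB'
    obtain ⟨u, -, h1, h2⟩ := exists_both (sympB F (m + 1)) (U := ⊤)
      ((sympB_nondeg (F := F) (m + 1) p hp).elim fun y hy => ⟨y, Submodule.mem_top, hy⟩)
      ((sympB_nondeg (F := F) (m + 1) q hq).elim fun y hy => ⟨y, Submodule.mem_top, hy⟩)
    have hu0 : u ≠ 0 := fun e => h1 (by rw [e, map_zero])
    refine (Relation.ReflTransGen.single (b := R u) ⟨hin p hp, hin u hu0, rankOne h1⟩).tail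
      ⟨hin u hu0, hin q hq, rankOne ?_⟩
    rw [alt_neg _ (sympB_isAlt (m + 1)) q u]
    exact neg_ne_zero.2 h2

end Cfsg.Agent.S5070
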