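import Cfsg.Statements.S5071
import Cfsg.Agent.Lib.Classical.Unitary
import Cfsg.Agent.Lib.Classical.WittHerm
import Cfsg.Agent.Lib.Classical.Linear
-- import your own Cfsg.Agent.* helpers here

set_option autoImplicit false
open Matrix
open Cfsg

namespace Cfsg.Agent.S5071

open Matrix
open scoped commutatorElement

/-- The involution. -/
structure Fr (F : Type*) [Field F] (q : ℕ) where
  σ : F →+* F
  hσ : ∀ a, σ a = a ^ q
  hσ2 : ∀ a, σ (σ a) = a

section
variable {F : Type*} [Field F] {n q : ℕ}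

local notation "hm" => Cfsg.hermForm n F q

theorem add_left (u u' v : Fin n → F) : hm (u + u') v = hm u v + hm u' v := by
  simp [Cfsg.hermForm, add_mul, Finset.sum_add_distrib]

theorem smul_left (a : F) (u v : Fin n → F) : hm (a • u) v = a * hm u v := by
  simp [Cfsg.hermForm, Finset.mul_sum, mul_assoc]

theorem zero_left (v : Fin n → F) : hm 0 v = 0 := by simp [Cfsg.hermForm]

theorem smul_right (K : Fr F q) (a : F) (u v : Fin n → F) : hm u (a • v) = K.σ a * hm u v := by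
  rw [K.hσ]; simp [Cfsg.hermForm, Finset.mul_sum, mul_pow, mul_left_comm]

theorem add_right (K : Fr F q) (u v v' : Fin n → F) : hm u (v + v') = hm u v + hm u v' := by
  simp [Cfsg.hermForm, ← K.hσ, mul_add, Finset.sum_add_distrib]

theorem conj_symm (K : Fr F q) (u v : Fin n → F) : K.σ (hm u v) = hm v u := by
  simp only [Cfsg.hermForm, ← K.hσ, map_sum, map_mul, K.hσ2]
  exact Finset.sum_congr rfl fun i _ => mul_comm _ _

theorem orth_symm (K : Fr F q) {u v : Fin n → F} (h : hm u v = 0) : hm v u = 0 := by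
  rw [← conj_symm K u v, h, map_zero]

theorem dot_conj (K : Fr F q) (v p : Fin n → F) : (fun i => K.σ (p i)) ⬝ᵥ v = hm v p := by
  simp [dotProduct, Cfsg.hermForm, K.hσ, mul_comm]

theorem exists_pair_one (K : Fr F q) {p : Fin n → F} (hp : p ≠ 0) : ∃ y, hm y p ≠ 0 := by
  obtain ⟨i, hi⟩ := Function.ne_iff.1 hp
  refine ⟨Pi.single i 1, ?_⟩
  rw [← dot_conj K, dotProduct_single, mul_one]
  exact fun e => hi (K.σ.injective (e.trans (map_zero _).symm))

theorem mat_ext {M N : Matrix (Fin n) (Fin n) F} (h : ∀ x, M *ᵥ x = N *ᵥ x) : M = N :=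
  Matrix.toLin'.injective (LinearMap.ext h)

/-- Isotropic points. -/
abbrev Pt (F : Type*) [Field F] (n q : ℕ) : Type _ := {p : Fin n → F // p ≠ 0 ∧ Cfsg.hermForm n F q p p = 0}

/-- Skew scalars. -/
abbrev Sk (K : Fr F q) : Type _ := {c : F // c + K.σ c = 0}

/-- The matrix of a root element. -/
def xM (K : Fr F q) (p : Fin n → F) (c : F) : Matrix (Fin n) (Fin n) F :=
  1 + vecMulVec (c • p) fun i => K.σ (p i)

theorem xM_apply (K : Fr F q) (p : Fin n → F) (c : F) (v : Fin n → F) :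
    xM K p c *ᵥ v = v + (c * hm v p) • p := by
  rw [xM, add_mulVec, one_mulVec, vecMulVec_mulVec, op_smul_eq_smul, dot_conj K, smul_smul, mul_comm]

/-- The matrix of an element. -/
abbrev mt (g : Cfsg.SU n F q) : Matrix (Fin n) (Fin n) F := (g : Matrix.SpecialLinearGroup (Fin n) F)

theorem su_ext {g h : Cfsg.SU n F q} (e : ∀ v, mt g *ᵥ v = mt h *ᵥ v) : g = h :=
  Subtype.ext (Subtype.ext (mat_ext e))

theorem mt_mul (g h : Cfsg.SU n F q) (v : Fin n → F) : mt (g * h) *ᵥ v = mt g *ᵥ (mt h *ᵥ v) :=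
  (mulVec_mulVec v _ _).symm

theorem mt_one (v : Fin n → F) : mt (1 : Cfsg.SU n F q) *ᵥ v = v := one_mulVec v

theorem mt_pres (g : Cfsg.SU n F q) (u v : Fin n → F) : hm (mt g *ᵥ u) (mt g *ᵥ v) = hm u v := g.2 u v

/-- Root elements of the special unitary group. -/
def xs (K : Fr F q) (p : Pt F n q) (c : Sk K) : Cfsg.SU n F q :=
  ⟨⟨xM K p.1 c.1, by
      rw [xM, vecMulVec_eq Unit, det_one_add_replicateCol_mul_replicateRow, dot_conj K, smul_left, p.2.2, mul_zero,
        add_zero]⟩,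
    fun u v => by
      show hm (xM K p.1 c.1 *ᵥ u) (xM K p.1 c.1 *ᵥ v) = hm u v
      simp only [xM_apply, add_left, add_right K, smul_left, smul_right K, p.2.2, map_mul, conj_symm K]
      linear_combination (hm u p.1 * hm p.1 v) * c.2⟩

theorem xs_apply (K : Fr F q) (p : Pt F n q) (c : Sk K) (v : Fin n → F) :
    mt (xs K p c) *ᵥ v = v + (c.1 * hm v p.1) • p.1 := xM_apply K p.1 c.1 v

theorem add_sk (K : Fr F q) (c d : Sk K) : c.1 + d.1 + K.σ (c.1 + d.1) = 0 := by
  rw [map_add]; linear_combination c.2 + d.2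

theorem neg_sk (K : Fr F q) (c : Sk K) : -c.1 + K.σ (-c.1) = 0 := by
  rw [map_neg]; linear_combination -c.2

theorem xs_add (K : Fr F q) (p : Pt F n q) (c d : Sk K) :
    xs K p ⟨c.1 + d.1, add_sk K c d⟩ = xs K p c * xs K p d := by
  refine su_ext fun v => ?_
  rw [mt_mul, xs_apply, xs_apply, xs_apply, add_left, smul_left, p.2.2]
  module

theorem xs_zero (K : Fr F q) (p : Pt F n q) : xs K p ⟨0, by simp⟩ = 1 :=
  su_ext fun v => by rw [xs_apply, mt_one]; simp

theorem xs_inv (K : Fr F q) (p : Pt F n q) (c : Sk K) : (xs K p c)⁻¹ = xs K p ⟨-c.1, neg_sk K c⟩ := by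
  refine inv_eq_of_mul_eq_one_right ?_
  rw [← xs_add, ← xs_zero K p]
  congr 1
  exact Subtype.ext (add_neg_cancel _)

theorem xs_eq_one (K : Fr F q) (p : Pt F n q) {c : Sk K} (h : xs K p c = 1) : c.1 = 0 := by
  obtain ⟨y, hy⟩ := exists_pair_one K p.2.1
  have h1 := xs_apply K p c y
  rw [h, mt_one, left_eq_add, smul_eq_zero] at h1
  exact (mul_eq_zero.1 (h1.resolve_right p.2.1)).resolve_right hy

/-- Root groups of the special unitary group. -/
def R0 (K : Fr F q) (p : Pt F n q) : Subgroup (Cfsg.SU n F q) where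
  carrier := Set.range (xs K p)
  one_mem' := ⟨_, xs_zero K p⟩
  mul_mem' := by rintro _ _ ⟨c, rfl⟩ ⟨d, rfl⟩; exact ⟨_, xs_add K p c d⟩
  inv_mem' := by rintro _ ⟨c, rfl⟩; exact ⟨_, (xs_inv K p c).symm⟩

theorem R0_smul (K : Fr F q) (p p' : Pt F n q) {a : F} (ha : a ≠ 0) (h : p'.1 = a • p.1) : R0 K p' = R0 K p := by
  have key : ∀ (c d : Sk K), d.1 = c.1 * (K.σ a * a) → xs K p' c = xs K p d := fun c d e => by
    refine su_ext fun v => ?_
    rw [xs_apply, xs_apply, h, smul_right K, smul_smul, e]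
    congr 2; ring
  have hn : K.σ (K.σ a * a) = K.σ a * a := by rw [map_mul, K.hσ2]; ring
  have hn0 : K.σ a * a ≠ 0 := mul_ne_zero (fun e => ha (K.σ.injective (e.trans (map_zero _).symm))) ha
  ext g
  constructor
  · rintro ⟨c, rfl⟩
    exact ⟨⟨c.1 * (K.σ a * a), by rw [map_mul, hn]; linear_combination (K.σ a * a) * c.2⟩, (key _ _ rfl).symm⟩
  · rintro ⟨c, rfl⟩
    refine ⟨⟨c.1 * (K.σ a * a)⁻¹, by rw [map_mul, map_inv₀, hn]; linear_combination (K.σ a * a)⁻¹ * c.2⟩, key _ _ ?_⟩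
    rw [mul_assoc, inv_mul_cancel₀ hn0, mul_one]

/-- The image of a point. -/
def gp (g : Cfsg.SU n F q) (p : Pt F n q) : Pt F n q :=
  ⟨mt g *ᵥ p.1, fun h => p.2.1 (by
      have := congrArg (fun v => mt g⁻¹ *ᵥ v) h
      simp only [mulVec_zero] at this
      rwa [← mt_mul, inv_mul_cancel, mt_one] at this),
    by rw [mt_pres]; exact p.2.2⟩

theorem conj_xs (K : Fr F q) (g : Cfsg.SU n F q) (p : Pt F n q) (c : Sk K) :
    g * xs K p c * g⁻¹ = xs K (gp g p) c := by
  refine su_ext fun v => ?_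
  rw [mt_mul, mt_mul, xs_apply, xs_apply, mulVec_add, mulVec_smul, ← mt_mul g g⁻¹, mul_inv_cancel, mt_one,
    ← mt_pres g (mt g⁻¹ *ᵥ v) p.1, ← mt_mul g g⁻¹, mul_inv_cancel, mt_one]
  rfl

theorem commute0 (K : Fr F q) {p r : Pt F n q} (h : hm p.1 r.1 = 0) (c d : Sk K) :
    xs K p c * xs K r d = xs K r d * xs K p c := by
  refine su_ext fun v => ?_
  simp only [mt_mul, xs_apply, add_left, smul_left, h, orth_symm K h, mul_zero, add_zero]
  abel

theorem orth_of_commute0 (K : Fr F q) {p r : Pt F n q} {c d : Sk K} (hc : c.1 ≠ 0) (hd : d.1 ≠ 0)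
    (h : xs K p c * xs K r d = xs K r d * xs K p c) : hm p.1 r.1 = 0 := by
  by_contra hz
  have hz' : hm r.1 p.1 ≠ 0 := fun e => hz (orth_symm K e)
  have h1 := congrArg (fun g => mt g *ᵥ p.1) h
  simp only [mt_mul, xs_apply, add_left, smul_left, p.2.2, mul_zero, zero_smul, add_zero, zero_add,
    add_eq_left, smul_eq_zero, mul_eq_zero, hc, hd, hz, hz', p.2.1, or_self] at h1

variable (K : Fr F q) (H : Subgroup (Cfsg.SU n F q))

/-- Root groups inside `H`. -/
abbrev R (p : Pt F n q) : Subgroup ↥H := (R0 K p).subgroupOf H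

variable (hH : ∀ p, R0 K p ≤ H)

/-- Root elements inside `H`. -/
abbrev x (p : Pt F n q) (c : Sk K) : ↥H := ⟨xs K p c, hH p ⟨c, rfl⟩⟩

include hH

theorem x_mem (p : Pt F n q) (c : Sk K) : x K H hH p c ∈ R K H p := Subgroup.mem_subgroupOf.2 ⟨c, rfl⟩

theorem mem_R {p : Pt F n q} {g : ↥H} (h : g ∈ R K H p) : ∃ c, g = x K H hH p c := by
  obtain ⟨c, hc⟩ := Subgroup.mem_subgroupOf.1 h
  exact ⟨c, Subtype.ext hc.symm⟩

theorem conjBy_R (g : ↥H) (p : Pt F n q) : Cfsg.conjBy (R K H p) g = R K H (gp g.1 p) := by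
  ext z
  constructor
  · rintro ⟨w, hw, rfl⟩
    obtain ⟨c, rfl⟩ := mem_R K H hH hw
    exact Subgroup.mem_subgroupOf.2 ⟨c, (conj_xs K g.1 p c).symm⟩
  · intro hz
    obtain ⟨c, rfl⟩ := mem_R K H hH hz
    exact ⟨_, x_mem K H hH p c, Subtype.ext (conj_xs K g.1 p c)⟩

theorem R_abelian (p : Pt F n q) : IsMulCommutative ↥(R K H p) :=
  ⟨⟨fun a b => by
    obtain ⟨c, hc⟩ := mem_R K H hH a.2
    obtain ⟨d, hd⟩ := mem_R K H hH b.2
    refine Subtype.ext (Subtype.ext ?_)
    show a.1.1 * b.1.1 = b.1.1 * a.1.1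
    rw [hc, hd]
    exact commute0 K p.2.2 c d⟩⟩

theorem R_ne_bot {k : Sk K} (hk : k.1 ≠ 0) (p : Pt F n q) : R K H p ≠ ⊥ := fun h => by
  have := x_mem K H hH p k
  rw [h, Subgroup.mem_bot] at this
  exact hk (xs_eq_one K p (congrArg Subtype.val this))

theorem commutator_bot {p r : Pt F n q} (h : hm p.1 r.1 = 0) : ⁅R K H p, R K H r⁆ = ⊥ := by
  rw [eq_bot_iff, Subgroup.commutator_le]
  intro a ha b hb
  obtain ⟨c, rfl⟩ := mem_R K H hH ha
  obtain ⟨d, rfl⟩ := mem_R K H hH hb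
  rw [Subgroup.mem_bot, _root_.commutatorElement_def,
    show x K H hH p c * x K H hH r d = x K H hH r d * x K H hH p c from Subtype.ext (commute0 K h c d)]
  group

theorem rankOne_cond {p r : Pt F n q} (h : hm p.1 r.1 ≠ 0) : Cfsg.RankOneCondition (R K H p) (R K H r) := by
  intro a ha hu
  obtain ⟨c, rfl⟩ := mem_R K H hH ha
  have hc : c.1 ≠ 0 := fun e => hu (Subtype.ext (by
    show xs K p c = 1
    rw [← xs_zero K p]
    exact congrArg (xs K p) (Subtype.ext e)))
  set z := hm p.1 r.1 with hz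
  have hz' : hm r.1 p.1 = K.σ z := (conj_symm K p.1 r.1).symm
  have hz0 : K.σ z ≠ 0 := fun e => h (K.σ.injective (e.trans (map_zero _).symm))
  have hskew : (1 / (c.1 * (z * K.σ z))) + K.σ (1 / (c.1 * (z * K.σ z))) = 0 := by
    rw [map_div₀, map_one, map_mul, map_mul, K.hσ2, eq_neg_of_add_eq_zero_right c.2]
    field_simp
    ring
  refine ⟨x K H hH r ⟨_, hskew⟩, x_mem K H hH r _, fun e => ?_, ?_⟩
  · have := xs_eq_one K r (congrArg Subtype.val e)
    simp [hc, h, hz0] at this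
  · rw [conjBy_R K H hH, conjBy_R K H hH]
    refine congrArg (fun A => A.subgroupOf H) (R0_smul K _ _ (a := -(1 / (c.1 * K.σ z))) (by simp [hc, hz0]) ?_)
    show mt (xs K r ⟨_, hskew⟩)⁻¹ *ᵥ p.1 = _ • (mt (xs K p c)⁻¹ *ᵥ r.1)
    rw [xs_inv, xs_inv, xs_apply, xs_apply, ← hz, hz']
    match_scalars <;> field_simp

theorem rankOne {k : Sk K} (hk : k.1 ≠ 0) {p r : Pt F n q} (h : hm p.1 r.1 ≠ 0) :
    Cfsg.IsRankOnePair (R K H p) (R K H r) := by
  have h' : hm r.1 p.1 ≠ 0 := fun e => h (orth_symm K e)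
  refine ⟨fun e => h ?_, ?_, ?_, rankOne_cond K H hH h, rankOne_cond K H hH h'⟩
  · have hb : x K H hH r k ∈ R K H p := e ▸ x_mem K H hH r k
    obtain ⟨c, hc⟩ := mem_R K H hH hb
    have hc' : xs K r k = xs K p c := congrArg Subtype.val hc
    exact orth_of_commute0 K hk hk (by rw [hc']; exact commute0 K p.2.2 k c)
  · letI : CommGroup ↥(R K H p) :=
      { (inferInstance : Group ↥(R K H p)) with mul_comm := (R_abelian K H hH p).is_comm.comm }
    exact CommGroup.isNilpotent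
  · letI : CommGroup ↥(R K H r) :=
      { (inferInstance : Group ↥(R K H r)) with mul_comm := (R_abelian K H hH r).is_comm.comm }
    exact CommGroup.isNilpotent

theorem ne_orth {k : Sk K} (hk : k.1 ≠ 0) {p r : Pt F n q} (hp : Cfsg.IsRankOnePair (R K H p) (R K H r)) :
    hm p.1 r.1 ≠ 0 := by
  intro hz
  obtain ⟨b, hb, -, hu⟩ := hp.cond_left (x K H hH p k) (x_mem K H hH p k)
    (fun e => hk (xs_eq_one K p (congrArg Subtype.val e)))
  obtain ⟨d, rfl⟩ := mem_R K H hH hb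
  rw [conjBy_R K H hH, conjBy_R K H hH] at hu
  refine hp.ne (Eq.trans ?_ (hu.trans ?_))
  · refine congrArg (R K H) (Subtype.ext ?_)
    show p.1 = mt (xs K r d)⁻¹ *ᵥ p.1
    rw [xs_inv, xs_apply, hz, mul_zero, zero_smul, add_zero]
  · refine congrArg (R K H) (Subtype.ext ?_)
    show mt (xs K p k)⁻¹ *ᵥ r.1 = r.1
    rw [xs_inv, xs_apply, orth_symm K hz, mul_zero, zero_smul, add_zero]

theorem not_commutator_case {k : Sk K} (hk : k.1 ≠ 0) {S : Set (Subgroup ↥H)}
    (hS : ∀ A ∈ S, ∃ t, A = R K H t) (p r : Pt F n q) :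
    ¬ Cfsg.RootCommutatorCase S (R K H p) (R K H r) := by
  rintro ⟨hcS, hcen, -, -⟩
  obtain ⟨t, ht⟩ := hS _ hcS
  by_cases hz : hm p.1 r.1 = 0
  · rw [commutator_bot K H hH hz] at ht
    exact R_ne_bot K H hH hk t ht.symm
  rw [ht] at hcen
  have htp : hm t.1 p.1 = 0 := orth_of_commute0 K hk hk (congrArg Subtype.val
    (hcen _ (x_mem K H hH t k) _ (Subgroup.mem_sup_left (x_mem K H hH p k))))
  have htr : hm t.1 r.1 = 0 := orth_of_commute0 K hk hk (congrArg Subtype.val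
    (hcen _ (x_mem K H hH t k) _ (Subgroup.mem_sup_right (x_mem K H hH r k))))
  have hmemc : ⁅x K H hH p k, x K H hH r k⁆ ∈ R K H t :=
    ht ▸ Subgroup.commutator_mem_commutator (x_mem K H hH p k) (x_mem K H hH r k)
  obtain ⟨e, he⟩ := mem_R K H hH hmemc
  have he' : xs K (gp (xs K p k) r) k = xs K t e * xs K r k := by
    rw [← conj_xs, ← show ((⁅x K H hH p k, x K H hH r k⁆ : ↥H) : Cfsg.SU n F q) = xs K t e from congrArg Subtype.val he,
      _root_.commutatorElement_def]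
    simp [mul_assoc]
  have h1 := congrArg (fun g => mt g *ᵥ p.1) he'
  simp only [mt_mul, xs_apply, gp, add_left, add_right K, smul_left, smul_right K, map_mul, p.2.2, orth_symm K htp, orth_symm K htr,
    mul_zero, add_zero, zero_smul, smul_add, smul_smul, ← add_assoc, add_eq_left, smul_eq_zero, mul_eq_zero] at h1
  have hz' : hm r.1 p.1 ≠ 0 := fun e => hz (orth_symm K e)
  simp [hk, hz, hz', p.2.1] at h1

theorem psl2 {k : Sk K} (hk : k.1 ≠ 0) {L : Type} [Field L] (ι : L →+* F) (hι : ∀ a, K.σ (ι a) = ι a)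
    (hsurj : ∀ a, K.σ a = a → ∃ l, ι l = a) {p r : Pt F n q} (h : hm p.1 r.1 ≠ 0) :
    Cfsg.IsPSL2PairOver L (R K H p) (R K H r) := by
  set k0 := k.1 with hk0
  set s : F := (K.σ (hm p.1 r.1))⁻¹ with hs
  have hσz : K.σ (hm p.1 r.1) ≠ 0 := fun e => h (K.σ.injective (e.trans (map_zero _).symm))
  have hs0 : s ≠ 0 := inv_ne_zero hσz
  have hsσ : K.σ s ≠ 0 := fun e => hs0 (K.σ.injective (e.trans (map_zero _).symm))
  set e : Fin n → F := p.1 with he
  set f : Fin n → F := s • r.1 with hf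
  have hee : hm e e = 0 := p.2.2
  have hff : hm f f = 0 := by rw [hf, smul_left, smul_right K, r.2.2]; ring
  have hef : hm e f = 1 := by rw [hf, smul_right K, hs, map_inv₀, K.hσ2, inv_mul_cancel₀ h]
  have hfe : hm f e = 1 := by rw [← conj_symm K e f, hef, map_one]
  have hskk : K.σ k0 = -k0 := eq_neg_of_add_eq_zero_right k.2
  let U : Matrix (Fin n) (Fin 2) F := Matrix.of fun i j => if j = 0 then e i else f i
  let W : Matrix (Fin 2) (Fin n) F := Matrix.of fun j i => if j = 0 then K.σ (f i) else K.σ (e i)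
  have hW : ∀ v, W *ᵥ v = ![hm v f, hm v e] := fun v => by
    ext j; fin_cases j <;> simp [W, mulVec, ← dot_conj K, dotProduct]
  have hU : ∀ w : Fin 2 → F, U *ᵥ w = w 0 • e + w 1 • f := fun w => by
    ext i; simp [U, mulVec, dotProduct, Fin.sum_univ_two, mul_comm]
  have hWU : W * U = 1 := by
    refine Matrix.toLin'.injective (LinearMap.ext fun w => ?_)
    show (W * U) *ᵥ w = (1 : Matrix (Fin 2) (Fin 2) F) *ᵥ w
    rw [← mulVec_mulVec, hU, hW, one_mulVec]
    ext j; fin_cases j <;> simp [add_left, smul_left, hee, hff, hef, hfe]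
  let D : Matrix (Fin 2) (Fin 2) L → Matrix (Fin 2) (Fin 2) F := fun M =>
    !![ι (M 0 0), k0 * ι (M 0 1); ι (M 1 0) / k0, ι (M 1 1)]
  let T : Matrix (Fin 2) (Fin 2) L → Matrix (Fin n) (Fin n) F := fun M => 1 + U * (D M - 1) * W
  have hD1 : D 1 = 1 := by ext i j; fin_cases i <;> fin_cases j <;> simp [D]
  have hDm : ∀ M M', D (M * M') = D M * D M' := fun M M' => by
    ext i j
    fin_cases i <;> fin_cases j <;> simp [D, Matrix.mul_apply, Fin.sum_univ_two] <;> field_simp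
  have hT : ∀ M v, T M *ᵥ v = v + ((ι (M 0 0) - 1) * hm v f + k0 * ι (M 0 1) * hm v e) • e +
      (ι (M 1 0) / k0 * hm v f + (ι (M 1 1) - 1) * hm v e) • f := fun M v => by
    simp only [T, add_mulVec, one_mulVec, ← mulVec_mulVec, hW, hU]
    simp [D, mulVec, dotProduct, Fin.sum_univ_two, Matrix.one_apply, add_assoc]
  have hmul : ∀ M M', T (M * M') = T M * T M' := fun M M' => by
    have : D M * D M' - 1 = (D M - 1) + (D M' - 1) + (D M - 1) * (D M' - 1) := by noncomm_ring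
    simp only [T, hDm, this, Matrix.mul_add, Matrix.add_mul, Matrix.one_mul, Matrix.mul_one]
    rw [show U * (D M - 1) * W * (U * (D M' - 1) * W) = U * ((D M - 1) * (D M' - 1)) * W by
      rw [← Matrix.mul_assoc (U * (D M - 1) * W), ← Matrix.mul_assoc (U * (D M - 1) * W),
        Matrix.mul_assoc (U * (D M - 1)) W U, hWU, Matrix.mul_one, Matrix.mul_assoc U]]
    abel
  have hdet : ∀ M : Matrix (Fin 2) (Fin 2) L, (T M).det = ι M.det := fun M => by
    show (1 + U * (D M - 1) * W).det = _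
    rw [det_one_add_mul_comm, ← Matrix.mul_assoc, hWU, Matrix.one_mul, add_sub_cancel, det_fin_two, det_fin_two]
    simp [D]
    field_simp
  have hpres : ∀ (M : Matrix.SpecialLinearGroup (Fin 2) L) u v, hm (T M.1 *ᵥ u) (T M.1 *ᵥ v) = hm u v := by
    intro M u v
    have hd := congrArg ι M.2
    rw [det_fin_two, map_sub, map_mul, map_mul, map_one] at hd
    simp only [hT, add_left, add_right K, smul_left, smul_right K, hee, hff, hef, hfe, map_add, map_mul, map_sub,
      map_one, map_div₀, hι, hskk, conj_symm K]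
    linear_combination (norm := skip) (hm u f * hm e v + hm u e * hm f v) * hd
    field_simp
    ring
  let φ0 : Matrix.SpecialLinearGroup (Fin 2) L →* Cfsg.SU n F q :=
    { toFun := fun M => ⟨⟨T M.1, by rw [hdet, M.2, map_one]⟩, hpres M⟩
      map_one' := by
        refine Subtype.ext (Subtype.ext ?_)
        show T 1 = 1
        simp [T, hD1]
      map_mul' := fun M M' => Subtype.ext (Subtype.ext (hmul M.1 M'.1)) }
  have hφ : ∀ M v, mt (φ0 M) *ᵥ v = T M.1 *ᵥ v := fun _ _ => rfl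
  set N := s * K.σ s with hN
  have hN' : K.σ N = N := by rw [hN, map_mul, K.hσ2, mul_comm]
  have hN0 : N ≠ 0 := mul_ne_zero hs0 hsσ
  have hupS : ∀ l : L, k0 * ι l + K.σ (k0 * ι l) = 0 := fun l => by rw [map_mul, hskk, hι]; ring
  have hloS : ∀ l : L, ι l / k0 * N + K.σ (ι l / k0 * N) = 0 := fun l => by
    rw [map_mul, map_div₀, hskk, hι, hN']; ring
  have hup : ∀ M : Matrix.SpecialLinearGroup (Fin 2) L, M.1 1 0 = 0 → M.1 0 0 = 1 → M.1 1 1 = 1 →
      φ0 M = xs K p ⟨_, hupS (M.1 0 1)⟩ := by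
    intro M e1 e2 e3
    refine su_ext fun v => ?_
    rw [hφ, hT, xs_apply, e1, e2, e3]
    simp [he]
  have hlo : ∀ M : Matrix.SpecialLinearGroup (Fin 2) L, M.1 0 1 = 0 → M.1 0 0 = 1 → M.1 1 1 = 1 →
      φ0 M = xs K r ⟨_, hloS (M.1 1 0)⟩ := by
    intro M e1 e2 e3
    refine su_ext fun v => ?_
    rw [hφ, hT, xs_apply, e1, e2, e3]
    simp [hf, hN, smul_right K, smul_smul]
    congr 1; ring
  have h01 : (0 : Fin 2) ≠ 1 := by decide
  have hgen : Cfsg.upperUnipotentSL2 L ⊔ Cfsg.lowerUnipotentSL2 L = ⊤ := by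
    rw [← top_le_iff, ← Classical.closure_transvection_eq_top (ι := Fin 2), Subgroup.closure_le]
    rintro _ ⟨i, j, hij, c, rfl⟩
    fin_cases i <;> fin_cases j <;> first | exact absurd rfl hij | skip
    · exact Subgroup.mem_sup_left (Subgroup.subset_closure (by
        simp [Matrix.SpecialLinearGroup.transvection_coe, Matrix.add_apply]))
    · exact Subgroup.mem_sup_right (Subgroup.subset_closure (by
        simp [Matrix.SpecialLinearGroup.transvection_coe, Matrix.add_apply]))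
  have hU0 : (Cfsg.upperUnipotentSL2 L).map φ0 = R0 K p := by
    apply le_antisymm
    · rw [Cfsg.upperUnipotentSL2, MonoidHom.map_closure, Subgroup.closure_le]
      rintro _ ⟨M, ⟨e1, e2, e3⟩, rfl⟩
      exact ⟨_, (hup M e1 e2 e3).symm⟩
    · rintro _ ⟨c, rfl⟩
      obtain ⟨l, hl⟩ := hsurj (c.1 / k0) (by rw [map_div₀, hskk, eq_neg_of_add_eq_zero_right c.2, neg_div_neg_eq])
      refine ⟨Matrix.SpecialLinearGroup.transvection h01 l, Subgroup.subset_closure ?_, ?_⟩
      · simp [Matrix.SpecialLinearGroup.transvection_coe, Matrix.add_apply]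
      · rw [hup _ (by simp [Matrix.SpecialLinearGroup.transvection_coe, Matrix.add_apply])
          (by simp [Matrix.SpecialLinearGroup.transvection_coe, Matrix.add_apply])
          (by simp [Matrix.SpecialLinearGroup.transvection_coe, Matrix.add_apply])]
        refine congrArg (xs K p) (Subtype.ext ?_)
        simp [Matrix.SpecialLinearGroup.transvection_coe, Matrix.add_apply, hl]
        field_simp
  have hL0 : (Cfsg.lowerUnipotentSL2 L).map φ0 = R0 K r := by
    apply le_antisymm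
    · rw [Cfsg.lowerUnipotentSL2, MonoidHom.map_closure, Subgroup.closure_le]
      rintro _ ⟨M, ⟨e1, e2, e3⟩, rfl⟩
      exact ⟨_, (hlo M e1 e2 e3).symm⟩
    · rintro _ ⟨c, rfl⟩
      obtain ⟨l, hl⟩ := hsurj (c.1 * k0 / N) (by
        rw [map_div₀, map_mul, hskk, hN', eq_neg_of_add_eq_zero_right c.2, neg_mul_neg])
      refine ⟨Matrix.SpecialLinearGroup.transvection h01.symm l, Subgroup.subset_closure ?_, ?_⟩
      · simp [Matrix.SpecialLinearGroup.transvection_coe, Matrix.add_apply]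
      · rw [hlo _ (by simp [Matrix.SpecialLinearGroup.transvection_coe, Matrix.add_apply])
          (by simp [Matrix.SpecialLinearGroup.transvection_coe, Matrix.add_apply])
          (by simp [Matrix.SpecialLinearGroup.transvection_coe, Matrix.add_apply])]
        refine congrArg (xs K r) (Subtype.ext ?_)
        simp [Matrix.SpecialLinearGroup.transvection_coe, Matrix.add_apply, hl]
        field_simp
  have hrange : φ0.range = R0 K p ⊔ R0 K r := by
    rw [MonoidHom.range_eq_map, ← hgen, Subgroup.map_sup, hU0, hL0]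
  let φ : Matrix.SpecialLinearGroup (Fin 2) L →* ↥H :=
    φ0.codRestrict H fun M => (sup_le (hH p) (hH r)) (hrange ▸ ⟨M, rfl⟩)
  have hmap : ∀ A : Subgroup (Matrix.SpecialLinearGroup (Fin 2) L), A.map φ = (A.map φ0).subgroupOf H := fun A => by
    ext g
    constructor
    · rintro ⟨M, hM, rfl⟩; exact Subgroup.mem_subgroupOf.2 ⟨M, hM, rfl⟩
    · intro hg
      obtain ⟨M, hM, e⟩ := Subgroup.mem_subgroupOf.1 hg
      exact ⟨M, hM, Subtype.ext e⟩
  refine ⟨φ, ?_, ?_, by rw [hmap, hU0], by rw [hmap, hL0]⟩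
  · rw [MonoidHom.range_eq_map, ← hgen, Subgroup.map_sup, hmap, hmap, hU0, hL0]
  · intro M hM
    have hM' : φ0 M = 1 := congrArg Subtype.val hM
    have h1 : T M.1 = 1 := congrArg (fun g : Cfsg.SU n F q => mt g) hM'
    have h2 : D M.1 - 1 = 0 := by
      have h3 := congrArg (fun X => W * X * U) h1
      simp only [T, Matrix.mul_add, Matrix.add_mul, Matrix.mul_one, ← Matrix.mul_assoc, hWU, Matrix.one_mul,
        add_eq_left] at h3
      rwa [Matrix.mul_assoc, hWU, Matrix.mul_one] at h3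
    rw [sub_eq_zero] at h2
    have hinj := ι.injective
    have a1 := congrFun (congrFun h2 0) 0
    have a2 := congrFun (congrFun h2 0) 1
    have a3 := congrFun (congrFun h2 1) 0
    have a4 := congrFun (congrFun h2 1) 1
    simp [D, hk, ← hk0] at a1 a2 a3 a4
    have : M = 1 := by
      refine Subtype.ext (Matrix.ext fun i j => hinj ?_)
      fin_cases i <;> fin_cases j <;> simp [a1, a2, a3, a4]
    rw [this]; exact one_mem _

end

set_option maxHeartbeats 1600000 in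
/-- Let F be a finite field with q² elements, n a natural number, and h the Hermitian form Σ uᵢ vᵢ^q on F^{n+2}. For a non-zero isotropic vector p let T(p) be the group of unitary transvections with centre ⟨p⟩: the elements of SU_{n+2}(q) moving every vector by a multiple of p and fixing every vector perpendicular to p. Let Σ be the set of these T(p) and G₀ the subgroup they generate. Then, viewed inside G₀, the members of Σ form a degenerate class of abstract k-root subgroups of G₀ for some field k with q elements (any two commute or are the unipotent subgroups of a rank one group that is an image of SL₂(k) with central kernel, never the commutator case), and their graph of rank one pairs is connected. -/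
theorem result (F : Type*) [Field F] [Fintype F] (q n : ℕ) (hF : Fintype.card F = q ^ 2) :
    Cfsg.IsRootSubgroupClass ((fun A : Subgroup ↥(Cfsg.SU (n + 2) F q) => A.subgroupOf (⨆ B ∈ {A : Subgroup ↥(Cfsg.SU (n + 2) F q) | ∃ p : Fin (n + 2) → F, p ≠ 0 ∧ Cfsg.hermForm (n + 2) F q p p = 0 ∧
          A = Subgroup.closure {g : ↥(Cfsg.SU (n + 2) F q) |
            (∀ v : Fin (n + 2) → F, ∃ c : F, ((g : Matrix.SpecialLinearGroup (Fin (n + 2)) F) : Matrix (Fin (n + 2)) (Fin (n + 2)) F) *ᵥ v = v + c • p) ∧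
            ∀ v : Fin (n + 2) → F, Cfsg.hermForm (n + 2) F q v p = 0 →
              ((g : Matrix.SpecialLinearGroup (Fin (n + 2)) F) : Matrix (Fin (n + 2)) (Fin (n + 2)) F) *ᵥ v = v}}, B)) ''
      {A : Subgroup ↥(Cfsg.SU (n + 2) F q) | ∃ p : Fin (n + 2) → F, p ≠ 0 ∧ Cfsg.hermForm (n + 2) F q p p = 0 ∧
          A = Subgroup.closure {g : ↥(Cfsg.SU (n + 2) F q) |
            (∀ v : Fin (n + 2) → F, ∃ c : F, ((g : Matrix.SpecialLinearGroup (Fin (n + 2)) F) : Matrix (Fin (n + 2)) (Fin (n + 2)) F) *ᵥ v = v + c • p) ∧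
            ∀ v : Fin (n + 2) → F, Cfsg.hermForm (n + 2) F q v p = 0 →
              ((g : Matrix.SpecialLinearGroup (Fin (n + 2)) F) : Matrix (Fin (n + 2)) (Fin (n + 2)) F) *ᵥ v = v}}) ∧
    Cfsg.IsDegenerateRootSet ((fun A : Subgroup ↥(Cfsg.SU (n + 2) F q) => A.subgroupOf (⨆ B ∈ {A : Subgroup ↥(Cfsg.SU (n + 2) F q) | ∃ p : Fin (n + 2) → F, p ≠ 0 ∧ Cfsg.hermForm (n + 2) F q p p = 0 ∧
          A = Subgroup.closure {g : ↥(Cfsg.SU (n + 2) F q) |
            (∀ v : Fin (n + 2) → F, ∃ c : F, ((g : Matrix.SpecialLinearGroup (Fin (n + 2)) F) : Matrix (Fin (n + 2)) (Fin (n + 2)) F) *ᵥ v = v + c • p) ∧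
            ∀ v : Fin (n + 2) → F, Cfsg.hermForm (n + 2) F q v p = 0 →
              ((g : Matrix.SpecialLinearGroup (Fin (n + 2)) F) : Matrix (Fin (n + 2)) (Fin (n + 2)) F) *ᵥ v = v}}, B)) ''
      {A : Subgroup ↥(Cfsg.SU (n + 2) F q) | ∃ p : Fin (n + 2) → F, p ≠ 0 ∧ Cfsg.hermForm (n + 2) F q p p = 0 ∧
          A = Subgroup.closure {g : ↥(Cfsg.SU (n + 2) F q) |
            (∀ v : Fin (n + 2) → F, ∃ c : F, ((g : Matrix.SpecialLinearGroup (Fin (n + 2)) F) : Matrix (Fin (n + 2)) (Fin (n + 2)) F) *ᵥ v = v + c • p) ∧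
            ∀ v : Fin (n + 2) → F, Cfsg.hermForm (n + 2) F q v p = 0 →
              ((g : Matrix.SpecialLinearGroup (Fin (n + 2)) F) : Matrix (Fin (n + 2)) (Fin (n + 2)) F) *ᵥ v = v}}) ∧
    (∃ (L : Type) (_ : Field L) (_ : Fintype L), Fintype.card L = q ∧ Cfsg.IsKRootSubgroupSet L ((fun A : Subgroup ↥(Cfsg.SU (n + 2) F q) => A.subgroupOf (⨆ B ∈ {A : Subgroup ↥(Cfsg.SU (n + 2) F q) | ∃ p : Fin (n + 2) → F, p ≠ 0 ∧ Cfsg.hermForm (n + 2) F q p p = 0 ∧
          A = Subgroup.closure {g : ↥(Cfsg.SU (n + 2) F q) |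
            (∀ v : Fin (n + 2) → F, ∃ c : F, ((g : Matrix.SpecialLinearGroup (Fin (n + 2)) F) : Matrix (Fin (n + 2)) (Fin (n + 2)) F) *ᵥ v = v + c • p) ∧
            ∀ v : Fin (n + 2) → F, Cfsg.hermForm (n + 2) F q v p = 0 →
              ((g : Matrix.SpecialLinearGroup (Fin (n + 2)) F) : Matrix (Fin (n + 2)) (Fin (n + 2)) F) *ᵥ v = v}}, B)) ''
      {A : Subgroup ↥(Cfsg.SU (n + 2) F q) | ∃ p : Fin (n + 2) → F, p ≠ 0 ∧ Cfsg.hermForm (n + 2) F q p p = 0 ∧
          A = Subgroup.closure {g : ↥(Cfsg.SU (n + 2) F q) |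
            (∀ v : Fin (n + 2) → F, ∃ c : F, ((g : Matrix.SpecialLinearGroup (Fin (n + 2)) F) : Matrix (Fin (n + 2)) (Fin (n + 2)) F) *ᵥ v = v + c • p) ∧
            ∀ v : Fin (n + 2) → F, Cfsg.hermForm (n + 2) F q v p = 0 →
              ((g : Matrix.SpecialLinearGroup (Fin (n + 2)) F) : Matrix (Fin (n + 2)) (Fin (n + 2)) F) *ᵥ v = v}})) ∧
    Cfsg.IsConnectedFamily (Cfsg.FAdj ((fun A : Subgroup ↥(Cfsg.SU (n + 2) F q) => A.subgroupOf (⨆ B ∈ {A : Subgroup ↥(Cfsg.SU (n + 2) F q) | ∃ p : Fin (n + 2) → F, p ≠ 0 ∧ Cfsg.hermForm (n + 2) F q p p = 0 ∧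
          A = Subgroup.closure {g : ↥(Cfsg.SU (n + 2) F q) |
            (∀ v : Fin (n + 2) → F, ∃ c : F, ((g : Matrix.SpecialLinearGroup (Fin (n + 2)) F) : Matrix (Fin (n + 2)) (Fin (n + 2)) F) *ᵥ v = v + c • p) ∧
            ∀ v : Fin (n + 2) → F, Cfsg.hermForm (n + 2) F q v p = 0 →
              ((g : Matrix.SpecialLinearGroup (Fin (n + 2)) F) : Matrix (Fin (n + 2)) (Fin (n + 2)) F) *ᵥ v = v}}, B)) ''
      {A : Subgroup ↥(Cfsg.SU (n + 2) F q) | ∃ p : Fin (n + 2) → F, p ≠ 0 ∧ Cfsg.hermForm (n + 2) F q p p = 0 ∧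
          A = Subgroup.closure {g : ↥(Cfsg.SU (n + 2) F q) |
            (∀ v : Fin (n + 2) → F, ∃ c : F, ((g : Matrix.SpecialLinearGroup (Fin (n + 2)) F) : Matrix (Fin (n + 2)) (Fin (n + 2)) F) *ᵥ v = v + c • p) ∧
            ∀ v : Fin (n + 2) → F, Cfsg.hermForm (n + 2) F q v p = 0 →
              ((g : Matrix.SpecialLinearGroup (Fin (n + 2)) F) : Matrix (Fin (n + 2)) (Fin (n + 2)) F) *ᵥ v = v}})) ((fun A : Subgroup ↥(Cfsg.SU (n + 2) F q) => A.subgroupOf (⨆ B ∈ {A : Subgroup ↥(Cfsg.SU (n + 2) F q) | ∃ p : Fin (n + 2) → F, p ≠ 0 ∧ Cfsg.hermForm (n + 2) F q p p = 0 ∧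
          A = Subgroup.closure {g : ↥(Cfsg.SU (n + 2) F q) |
            (∀ v : Fin (n + 2) → F, ∃ c : F, ((g : Matrix.SpecialLinearGroup (Fin (n + 2)) F) : Matrix (Fin (n + 2)) (Fin (n + 2)) F) *ᵥ v = v + c • p) ∧
            ∀ v : Fin (n + 2) → F, Cfsg.hermForm (n + 2) F q v p = 0 →
              ((g : Matrix.SpecialLinearGroup (Fin (n + 2)) F) : Matrix (Fin (n + 2)) (Fin (n + 2)) F) *ᵥ v = v}}, B)) ''
      {A : Subgroup ↥(Cfsg.SU (n + 2) F q) | ∃ p : Fin (n + 2) → F, p ≠ 0 ∧ Cfsg.hermForm (n + 2) F q p p = 0 ∧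
          A = Subgroup.closure {g : ↥(Cfsg.SU (n + 2) F q) |
            (∀ v : Fin (n + 2) → F, ∃ c : F, ((g : Matrix.SpecialLinearGroup (Fin (n + 2)) F) : Matrix (Fin (n + 2)) (Fin (n + 2)) F) *ᵥ v = v + c • p) ∧
            ∀ v : Fin (n + 2) → F, Cfsg.hermForm (n + 2) F q v p = 0 →
              ((g : Matrix.SpecialLinearGroup (Fin (n + 2)) F) : Matrix (Fin (n + 2)) (Fin (n + 2)) F) *ᵥ v = v}}) := by
  classical
  obtain ⟨σ, hσ, hσ1, hσ2⟩ := Classical.Unitary.exists_frob hF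
  let K : Fr F q := ⟨σ, hσ, hσ2⟩
  obtain ⟨a0, ha0⟩ : ∃ a, σ a ≠ a := by
    by_contra hc
    push Not at hc
    exact hσ1 (RingHom.ext hc)
  let k : Sk K := ⟨a0 - σ a0, by show _ + σ _ = 0; rw [map_sub, hσ2]; ring⟩
  have hk : k.1 ≠ 0 := sub_ne_zero.2 (Ne.symm ha0)
  set S0 := {A : Subgroup ↥(Cfsg.SU (n + 2) F q) | ∃ p : Fin (n + 2) → F, p ≠ 0 ∧ Cfsg.hermForm (n + 2) F q p p = 0 ∧
          A = Subgroup.closure {g : ↥(Cfsg.SU (n + 2) F q) |
            (∀ v : Fin (n + 2) → F, ∃ c : F, ((g : Matrix.SpecialLinearGroup (Fin (n + 2)) F) : Matrix (Fin (n + 2)) (Fin (n + 2)) F) *ᵥ v = v + c • p) ∧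
            ∀ v : Fin (n + 2) → F, Cfsg.hermForm (n + 2) F q v p = 0 →
              ((g : Matrix.SpecialLinearGroup (Fin (n + 2)) F) : Matrix (Fin (n + 2)) (Fin (n + 2)) F) *ᵥ v = v}} with hS0
  have hset : ∀ p : Pt F (n + 2) q, Subgroup.closure {g : ↥(Cfsg.SU (n + 2) F q) |
            (∀ v : Fin (n + 2) → F, ∃ c : F, ((g : Matrix.SpecialLinearGroup (Fin (n + 2)) F) : Matrix (Fin (n + 2)) (Fin (n + 2)) F) *ᵥ v = v + c • p.1) ∧
            ∀ v : Fin (n + 2) → F, Cfsg.hermForm (n + 2) F q v p.1 = 0 →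
              ((g : Matrix.SpecialLinearGroup (Fin (n + 2)) F) : Matrix (Fin (n + 2)) (Fin (n + 2)) F) *ᵥ v = v} = R0 K p := by
    intro p
    convert Subgroup.closure_eq (R0 K p) using 2
    ext g
    constructor
    · rintro ⟨h1, h2⟩
      obtain ⟨y, hy⟩ := exists_pair_one K p.2.1
      obtain ⟨a, ha⟩ := h1 y
      have hform : ∀ v, mt g *ᵥ v = v + (a / hermForm (n + 2) F q y p.1 * hermForm (n + 2) F q v p.1) • p.1 := by
        intro v
        have h3 := h2 (v - (hermForm (n + 2) F q v p.1 / hermForm (n + 2) F q y p.1) • y) (by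
          rw [sub_eq_add_neg, ← neg_smul, add_left, smul_left, neg_mul, div_mul_cancel₀ _ hy, add_neg_cancel])
        rw [mulVec_sub, mulVec_smul, ha] at h3
        rw [show mt g *ᵥ v = _ from sub_eq_iff_eq_add.1 h3]
        match_scalars <;> field_simp <;> ring
      have hsk : a / hermForm (n + 2) F q y p.1 + K.σ (a / hermForm (n + 2) F q y p.1) = 0 := by
        have h4 := mt_pres g y y
        simp only [hform, add_left, add_right K, smul_left, smul_right K, p.2.2, map_mul, conj_symm K] at h4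
        have hy' : hermForm (n + 2) F q p.1 y ≠ 0 := fun e => hy (orth_symm K e)
        refine mul_right_cancel₀ (mul_ne_zero hy hy') ?_
        linear_combination h4
      exact ⟨⟨_, hsk⟩, su_ext fun v => by rw [xs_apply, hform]⟩
    · rintro ⟨c, rfl⟩
      exact ⟨fun v => ⟨_, xs_apply K p c v⟩, fun v hv => by
        show mt (xs K p c) *ᵥ v = v
        rw [xs_apply, hv, mul_zero, zero_smul, add_zero]⟩
  have hmem : ∀ A, A ∈ S0 ↔ ∃ p : Pt F (n + 2) q, A = R0 K p := by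
    intro A
    simp only [hS0, Set.mem_setOf_eq]
    constructor
    · rintro ⟨p, hp, hpp, rfl⟩; exact ⟨⟨p, hp, hpp⟩, hset ⟨p, hp, hpp⟩⟩
    · rintro ⟨p, rfl⟩; exact ⟨p.1, p.2.1, p.2.2, (hset p).symm⟩
  have hH : ∀ p, R0 K p ≤ ⨆ B ∈ S0, B := fun p => le_biSup (fun B => B) ((hmem _).2 ⟨p, rfl⟩)
  have hgenH : ∀ g ∈ (⨆ B ∈ S0, B), ∀ Q : Subgroup ↥(Cfsg.SU (n + 2) F q), (∀ p, R0 K p ≤ Q) → g ∈ Q :=
    fun g hg Q hQ => (iSup₂_le fun B hB => by obtain ⟨p, rfl⟩ := (hmem B).1 hB; exact hQ p :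
      (⨆ B ∈ S0, B) ≤ Q) hg
  generalize (⨆ B ∈ S0, B) = H at hH hgenH ⊢
  set S := (fun A : Subgroup ↥(Cfsg.SU (n + 2) F q) => A.subgroupOf H) '' S0 with hS
  have hmemS : ∀ A, A ∈ S ↔ ∃ p, A = R K H p := fun A => by
    constructor
    · rintro ⟨B, hB, rfl⟩; obtain ⟨p, rfl⟩ := (hmem B).1 hB; exact ⟨p, rfl⟩
    · rintro ⟨p, rfl⟩; exact ⟨_, (hmem _).2 ⟨p, rfl⟩, rfl⟩
  have hroot : Cfsg.IsRootSubgroupSet S := by
    refine ⟨fun A hA => ?_, fun A hA => ?_, ?_, fun A hA g => ?_, fun A hA B hB => ?_⟩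
    · obtain ⟨p, rfl⟩ := (hmemS A).1 hA; exact R_abelian K H hH p
    · obtain ⟨p, rfl⟩ := (hmemS A).1 hA; exact R_ne_bot K H hH hk p
    · rw [← top_le_iff]
      intro g _
      have := hgenH g.1 g.2 ((⨆ A ∈ S, A).map H.subtype) fun p w hw =>
        ⟨⟨w, hH p hw⟩, le_biSup (fun B => B) ((hmemS _).2 ⟨p, rfl⟩) (Subgroup.mem_subgroupOf.2 hw), rfl⟩
      obtain ⟨g', hg', e⟩ := this
      rwa [← Subtype.ext (show g'.1 = g.1 from e)]
    · obtain ⟨p, rfl⟩ := (hmemS A).1 hA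
      exact (hmemS _).2 ⟨_, conjBy_R K H hH g p⟩
    · obtain ⟨p, rfl⟩ := (hmemS A).1 hA
      obtain ⟨r, rfl⟩ := (hmemS B).1 hB
      by_cases h : hermForm (n + 2) F q p.1 r.1 = 0
      · exact Or.inl (commutator_bot K H hH h)
      · exact Or.inr (Or.inl (rankOne K H hH hk h))
  have hconn : Cfsg.IsConnectedFamily (Cfsg.FAdj S) S := by
    intro A hA B hB
    obtain ⟨p, rfl⟩ := (hmemS A).1 hA
    obtain ⟨r, rfl⟩ := (hmemS B).1 hB
    by_cases h : hermForm (n + 2) F q p.1 r.1 = 0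
    swap
    · exact Relation.ReflTransGen.single ⟨hA, hB, rankOne K H hH hk h⟩
    obtain ⟨y, hyp, hyr⟩ : ∃ y, hermForm (n + 2) F q y p.1 ≠ 0 ∧ hermForm (n + 2) F q y r.1 ≠ 0 := by
      obtain ⟨y1, h1⟩ := exists_pair_one K p.2.1
      obtain ⟨y2, h2⟩ := exists_pair_one K r.2.1
      by_cases h12 : hermForm (n + 2) F q y1 r.1 = 0
      · by_cases h21 : hermForm (n + 2) F q y2 p.1 = 0
        · exact ⟨y1 + y2, by rw [add_left, h21, add_zero]; exact h1, by rw [add_left, h12, zero_add]; exact h2⟩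
        · exact ⟨y2, h21, h2⟩
      · exact ⟨y1, h1, h12⟩
    obtain ⟨s, hs⟩ := Classical.WittHerm.exists_trace hσ1 hσ2 (c := -hermForm (n + 2) F q y y)
      (by rw [map_neg]; exact congrArg Neg.neg (conj_symm K y y))
    set t := s / hermForm (n + 2) F q p.1 y with ht
    have hpy : hermForm (n + 2) F q p.1 y ≠ 0 := fun e => hyp (orth_symm K e)
    have hu1 : hermForm (n + 2) F q (y + t • p.1) p.1 = hermForm (n + 2) F q y p.1 := by
      rw [add_left, smul_left, p.2.2, mul_zero, add_zero]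
    have hu2 : hermForm (n + 2) F q (y + t • p.1) r.1 = hermForm (n + 2) F q y r.1 := by
      rw [add_left, smul_left, h, mul_zero, add_zero]
    have huu : hermForm (n + 2) F q (y + t • p.1) (y + t • p.1) = 0 := by
      simp only [add_left, add_right K, smul_left, smul_right K, p.2.2, ← conj_symm K p.1 y, mul_zero, add_zero]
      rw [ht, map_div₀]
      have : K.σ (hermForm (n + 2) F q p.1 y) ≠ 0 := fun e => hpy (K.σ.injective (e.trans (map_zero _).symm))
      field_simp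
      linear_combination hs
    let u : Pt F (n + 2) q := ⟨y + t • p.1, fun e => hyp (by rw [← hu1, e, zero_left]), huu⟩
    have huin : R K H u ∈ S := (hmemS _).2 ⟨u, rfl⟩
    refine (Relation.ReflTransGen.single (b := R K H u) ⟨hA, huin, rankOne K H hH hk ?_⟩).tail
      ⟨huin, hB, rankOne K H hH hk ?_⟩
    all_goals intro e
    all_goals first
      | exact hyp (hu1 ▸ orth_symm K e)
      | exact hyr (hu2 ▸ e)
  have hconj : ∀ A ∈ S, ∀ B ∈ S, ∃ g : ↥H, B = Cfsg.conjBy A g := by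
    intro A hA B hB
    have hcomp : ∀ (A : Subgroup ↥H) (a b : ↥H), Cfsg.conjBy (Cfsg.conjBy A b) a = Cfsg.conjBy A (a * b) := by
      intro A a b
      rw [Cfsg.conjBy, Cfsg.conjBy, Cfsg.conjBy, Subgroup.map_map]
      congr 1; ext z; simp [mul_assoc]
    have hone : ∀ A : Subgroup ↥H, Cfsg.conjBy A 1 = A := fun A => by
      ext z; simp [Cfsg.conjBy]
    induction hconn A hA B hB with
    | refl => exact ⟨1, (hone A).symm⟩
    | @tail b c _ hbc ih =>
      obtain ⟨g, hg⟩ := ih hbc.1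
      obtain ⟨a, ha, ha1⟩ : ∃ a ∈ b, a ≠ 1 :=
        (Subgroup.bot_or_exists_ne_one b).resolve_left (hroot.ne_bot b hbc.1)
      obtain ⟨w, -, -, hw⟩ := hbc.2.2.cond_left a ha ha1
      refine ⟨a * (w⁻¹ * g), ?_⟩
      rw [← hcomp A a, ← hcomp A w⁻¹ g, ← hg, hw, hcomp, mul_inv_cancel, hone]
  refine ⟨⟨hroot, ⟨?_, hconj⟩⟩, ?_, ?_, hconn⟩
  · obtain ⟨c, hc⟩ := Classical.Unitary.exists_scale hF (a := (-1 : F)) (by norm_num) (by
      rw [← hσ, map_neg, map_one])
    refine ⟨_, (hmemS _).2 ⟨⟨Pi.single 0 1 + c • Pi.single 1 1, fun e => ?_, ?_⟩, rfl⟩⟩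
    · have := congrFun e 0
      simp at this
    · have h01 : (0 : Fin (n + 2)) ≠ 1 := Fin.zero_ne_one (n := n)
      have hq0 : q ≠ 0 := by have := Classical.Unitary.one_lt_q hF; omega
      simp only [add_left, add_right K, smul_left, smul_right K]
      simp [Cfsg.hermForm, Pi.single_apply, h01, h01.symm, hq0]
      rw [show K.σ c = c ^ q from hσ c]
      linear_combination hc
  · intro A hA B hB
    obtain ⟨p, rfl⟩ := (hmemS A).1 hA
    obtain ⟨r, rfl⟩ := (hmemS B).1 hB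
    exact not_commutator_case K H hH hk (fun A hA => (hmemS A).1 hA) p r
  · let E : Subfield F := RingHom.eqLocusField σ (RingHom.id F)
    let eS : Shrink.{0} ↥E ≃ ↥E := (equivShrink.{0} ↥E).symm
    letI : Field (Shrink.{0} ↥E) := eS.field
    let ev : Shrink.{0} ↥E ≃+* ↥E := eS.ringEquiv
    let ι : Shrink.{0} ↥E →+* F := E.subtype.comp ev.toRingHom
    have hι : ∀ a, K.σ (ι a) = ι a := fun a => (ev a).2
    have hsurj : ∀ a, K.σ a = a → ∃ l, ι l = a := fun a ha => ⟨ev.symm ⟨a, ha⟩, by simp [ι]⟩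
    have hcard : Nat.card ↥E = q := by
      have h1 : {a : F | σ a = a} = insert 0 {a : F | a ≠ 0 ∧ a ^ q = a} := by
        ext a
        rcases eq_or_ne a 0 with rfl | ha
        · simp
        · simp [ha, hσ]
      have h2 : Nat.card ↥E = ({a : F | σ a = a}).ncard := rfl
      rw [h2, h1, Set.ncard_insert_of_notMem (by simp) (Set.toFinite _), ← Nat.card_coe_set_eq]
      show Nat.card {a : F // a ≠ 0 ∧ a ^ q = a} + 1 = q
      rw [Classical.Unitary.card_fixed_nonzero hF]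
      have := Classical.Unitary.one_lt_q hF
      omega
    letI : Fintype (Shrink.{0} ↥E) := Fintype.ofFinite _
    refine ⟨Shrink.{0} ↥E, inferInstance, inferInstance, ?_, hroot, ?_⟩
    · rw [← Nat.card_eq_fintype_card, Nat.card_congr eS, hcard]
    · intro A hA B hB hAB
      obtain ⟨p, rfl⟩ := (hmemS A).1 hA
      obtain ⟨r, rfl⟩ := (hmemS B).1 hB
      exact psl2 K H hH hk ι hι hsurj (ne_orth K H hH hk hAB)

end Cfsg.Agent.S5071
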