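import Cfsg.Statements.S5072
import Cfsg.Agent.Lib.Classical.Linear
-- import your own Cfsg.Agent.* helpers here

set_option autoImplicit false
open Matrix
open Cfsg

namespace Cfsg.Agent.S5072

open Matrix
open scoped commutatorElement

section
variable {G : Type*} [Group G]

theorem not_rankOne_of_commute {A B : Subgroup G} (hA : A ≠ ⊥) (hc : ∀ a ∈ A, ∀ b ∈ B, a * b = b * a)
    (h : Cfsg.IsRankOnePair A B) : False := by
  obtain ⟨a, ha, ha1⟩ := (Subgroup.bot_or_exists_ne_one A).resolve_left hA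
  obtain ⟨b, hb, -, hab⟩ := h.cond_left a ha ha1
  refine h.ne (Eq.trans ?_ (hab.trans ?_))
  · ext x
    constructor
    · intro hx
      refine ⟨x, hx, ?_⟩
      show b⁻¹ * x * (b⁻¹)⁻¹ = x
      rw [inv_inv, mul_assoc, hc x hx b hb, inv_mul_cancel_left]
    · rintro ⟨y, hy, rfl⟩
      show b⁻¹ * y * (b⁻¹)⁻¹ ∈ A
      rw [inv_inv, mul_assoc, hc y hy b hb, inv_mul_cancel_left]
      exact hy
  · ext x
    constructor
    · rintro ⟨y, hy, rfl⟩
      show a⁻¹ * y * (a⁻¹)⁻¹ ∈ B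
      rw [inv_inv, mul_assoc, ← hc a ha y hy, inv_mul_cancel_left]
      exact hy
    · intro hx
      refine ⟨x, hx, ?_⟩
      show a⁻¹ * x * (a⁻¹)⁻¹ = x
      rw [inv_inv, mul_assoc, ← hc a ha x hx, inv_mul_cancel_left]

theorem not_rankOne_of_commCase {S : Set (Subgroup G)} {A B : Subgroup G} (hS : ∀ C ∈ S, C ≠ ⊥) (hA : A ≠ ⊥)
    (hB : IsMulCommutative ↥B) (hc : Cfsg.RootCommutatorCase S A B) (h : Cfsg.IsRankOnePair A B) : False := by
  obtain ⟨hmem, hcen, hgen, -⟩ := hc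
  obtain ⟨a, ha, ha1⟩ := (Subgroup.bot_or_exists_ne_one A).resolve_left hA
  obtain ⟨b, hb, -, hab⟩ := h.cond_left a ha ha1
  have hx : b⁻¹ * a * b ∈ Cfsg.conjBy A b⁻¹ := ⟨a, ha, by simp⟩
  rw [hab] at hx
  obtain ⟨β, hβ, e⟩ := hx
  simp only [MulEquiv.coe_toMonoidHom, MulAut.conj_apply, inv_inv] at e
  set z := ⁅a⁻¹, b⁻¹⁆ with hz
  have hzm : z ∈ ⁅A, B⁆ := Subgroup.commutator_mem_commutator (A.inv_mem ha) (B.inv_mem hb)
  have hza : z * a = a * z := hcen z hzm a (Subgroup.mem_sup_left ha)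
  have hβ' : β = a * z := by
    have : β = a * (b⁻¹ * a * b) * a⁻¹ := by rw [← e]; group
    rw [this, show a * (b⁻¹ * a * b) * a⁻¹ = a * (a * z) * a⁻¹ by rw [hz, _root_.commutatorElement_def]; group,
      ← hza]
    group
    simp [hza]
  have hcomm : ∀ y ∈ B, a * y = y * a := by
    intro y hy
    have h1 : z * y = y * z := hcen z hzm y (Subgroup.mem_sup_right hy)
    have h2 : (a * z) * y = y * (a * z) :=
      congrArg Subtype.val (hB.is_comm.comm (⟨a * z, hβ' ▸ hβ⟩ : ↥B) ⟨y, hy⟩)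
    have : (a * y) * z = (y * a) * z := by
      rw [mul_assoc, ← h1, ← mul_assoc, h2, mul_assoc]
    exact mul_right_cancel this
  refine hS _ hmem ?_
  rw [← hgen a ha ha1, eq_bot_iff, Subgroup.closure_le]
  rintro _ ⟨y, hy, rfl⟩
  show a * y * a⁻¹ * y⁻¹ ∈ (⊥ : Subgroup G)
  rw [Subgroup.mem_bot, hcomm y hy]
  group

theorem map_conjBy {K : Type*} [Group K] (f : K →* G) (A : Subgroup K) (g : K) :
    (Cfsg.conjBy A g).map f = Cfsg.conjBy (A.map f) (f g) := by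
  rw [Cfsg.conjBy, Cfsg.conjBy, Subgroup.map_map, Subgroup.map_map]
  congr 1
  ext x
  simp

/-- Transfer to the subgroup generated by the family. -/
theorem kroot_subgroupOf {k : Type*} [Field k] (S : Set (Subgroup G)) (hcomm : ∀ A ∈ S, IsMulCommutative ↥A)
    (hne : ∀ A ∈ S, A ≠ ⊥) (hconj : ∀ A ∈ S, ∀ g : G, Cfsg.conjBy A g ∈ S)
    (hpair : ∀ A ∈ S, ∀ B ∈ S, ⁅A, B⁆ = ⊥ ∨ (Cfsg.IsRankOnePair A B ∧ Cfsg.IsPSL2PairOver k A B) ∨
      Cfsg.RootCommutatorCase S A B) :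
    Cfsg.IsKRootSubgroupSet k ((fun A : Subgroup G => A.subgroupOf (⨆ B ∈ S, B)) '' S) := by
  have hle : ∀ A ∈ S, A ≤ ⨆ B ∈ S, B := fun A hA => le_biSup (fun B => B) hA
  generalize hH : (⨆ B ∈ S, B) = H at hle ⊢
  set f := H.subtype with hf
  have hinj : Function.Injective (Subgroup.map f) := Subgroup.map_injective H.subtype_injective
  have hmap : ∀ A ∈ S, (A.subgroupOf H).map f = A := fun A hA => by
    rw [hf, Subgroup.map_subgroupOf_eq_of_le (hle A hA)]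
  set S' := (fun A : Subgroup G => A.subgroupOf H) '' S with hS'
  have hco : ∀ A ∈ S, IsMulCommutative ↥(A.subgroupOf H) := fun A hA =>
    ⟨⟨fun x y => Subtype.ext (Subtype.ext (by
      have := congrArg Subtype.val
        ((hcomm A hA).is_comm.comm (⟨x.1.1, Subgroup.mem_subgroupOf.1 x.2⟩ : ↥A) ⟨y.1.1, Subgroup.mem_subgroupOf.1 y.2⟩)
      exact this))⟩⟩
  have hne' : ∀ A ∈ S, A.subgroupOf H ≠ ⊥ := fun A hA e => hne A hA (by rw [← hmap A hA, e, Subgroup.map_bot])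
  have hbot : ∀ A ∈ S, ∀ B ∈ S, ⁅A, B⁆ = ⊥ → ⁅A.subgroupOf H, B.subgroupOf H⁆ = ⊥ := fun A hA B hB e =>
    hinj (by rw [Subgroup.map_commutator, hmap A hA, hmap B hB, e, Subgroup.map_bot])
  have hr1 : ∀ A ∈ S, ∀ B ∈ S, Cfsg.IsRankOnePair A B → Cfsg.IsRankOnePair (A.subgroupOf H) (B.subgroupOf H) := by
    intro A hA B hB h
    have key : ∀ A ∈ S, ∀ B ∈ S, Cfsg.RankOneCondition A B →
        Cfsg.RankOneCondition (A.subgroupOf H) (B.subgroupOf H) := by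
      intro A hA B hB hc a ha ha1
      obtain ⟨b, hb, hb1, e⟩ := hc a.1 (Subgroup.mem_subgroupOf.1 ha) (fun e => ha1 (Subtype.ext e))
      refine ⟨⟨b, hle B hB hb⟩, Subgroup.mem_subgroupOf.2 hb, fun e => hb1 (congrArg Subtype.val e), hinj ?_⟩
      rw [map_conjBy, map_conjBy, hmap A hA, hmap B hB]
      exact e
    refine ⟨fun e => h.ne (by rw [← hmap A hA, e, hmap B hB]), ?_, ?_, key A hA B hB h.cond_left, key B hB A hA h.cond_right⟩
    · letI : CommGroup ↥(A.subgroupOf H) :=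
        { (inferInstance : Group ↥(A.subgroupOf H)) with mul_comm := (hco A hA).is_comm.comm }
      exact CommGroup.isNilpotent
    · letI : CommGroup ↥(B.subgroupOf H) :=
        { (inferInstance : Group ↥(B.subgroupOf H)) with mul_comm := (hco B hB).is_comm.comm }
      exact CommGroup.isNilpotent
  have hcc : ∀ A ∈ S, ∀ B ∈ S, Cfsg.RootCommutatorCase S A B →
      Cfsg.RootCommutatorCase S' (A.subgroupOf H) (B.subgroupOf H) := by
    rintro A hA B hB ⟨hm, hcen, h1, h2⟩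
    have e : ⁅A.subgroupOf H, B.subgroupOf H⁆ = ⁅A, B⁆.subgroupOf H :=
      hinj (by rw [Subgroup.map_commutator, hmap A hA, hmap B hB, hmap _ hm])
    refine ⟨⟨_, hm, e.symm⟩, fun c hc x hx => Subtype.ext (hcen c.1 ?_ x.1 ?_), fun a ha ha1 => hinj ?_, fun b hb hb1 => hinj ?_⟩
    · rw [e] at hc; exact Subgroup.mem_subgroupOf.1 hc
    · rw [← hmap A hA, ← hmap B hB, ← Subgroup.map_sup]
      exact ⟨x, hx, rfl⟩
    · rw [MonoidHom.map_closure, Subgroup.map_commutator, hmap A hA, hmap B hB,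
        ← h1 a.1 (Subgroup.mem_subgroupOf.1 ha) (fun e => ha1 (Subtype.ext e))]
      congr 1
      ext g
      constructor
      · rintro ⟨_, ⟨y, hy, rfl⟩, rfl⟩; exact ⟨y.1, Subgroup.mem_subgroupOf.1 hy, rfl⟩
      · rintro ⟨y, hy, rfl⟩
        exact ⟨_, ⟨⟨y, hle B hB hy⟩, Subgroup.mem_subgroupOf.2 hy, rfl⟩, rfl⟩
    · rw [MonoidHom.map_closure, Subgroup.map_commutator, hmap A hA, hmap B hB,
        ← h2 b.1 (Subgroup.mem_subgroupOf.1 hb) (fun e => hb1 (Subtype.ext e))]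
      congr 1
      ext g
      constructor
      · rintro ⟨_, ⟨y, hy, rfl⟩, rfl⟩; exact ⟨y.1, Subgroup.mem_subgroupOf.1 hy, rfl⟩
      · rintro ⟨y, hy, rfl⟩
        exact ⟨_, ⟨⟨y, hle A hA hy⟩, Subgroup.mem_subgroupOf.2 hy, rfl⟩, rfl⟩
  refine ⟨⟨?_, ?_, ?_, ?_, ?_⟩, ?_⟩
  · rintro _ ⟨A, hA, rfl⟩; exact hco A hA
  · rintro _ ⟨A, hA, rfl⟩; exact hne' A hA
  · apply hinj
    rw [Subgroup.map_iSup, ← MonoidHom.range_eq_map, Subgroup.range_subtype]
    apply le_antisymm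
    · exact iSup_le fun A => by rw [Subgroup.map_iSup]; exact iSup_le fun _ => Subgroup.map_subtype_le A
    · conv_lhs => rw [← hH]
      refine iSup₂_le fun A hA => le_iSup_of_le (A.subgroupOf H) ?_
      rw [Subgroup.map_iSup]
      exact le_iSup_of_le ⟨A, hA, rfl⟩ (hmap A hA).ge
  · rintro _ ⟨A, hA, rfl⟩ g
    exact ⟨_, hconj A hA g.1, (hinj (by rw [map_conjBy, hmap A hA, hmap _ (hconj A hA g.1)]; rfl)).symm⟩
  · rintro _ ⟨A, hA, rfl⟩ _ ⟨B, hB, rfl⟩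
    rcases hpair A hA B hB with h | ⟨h, -⟩ | h
    · exact Or.inl (hbot A hA B hB h)
    · exact Or.inr (Or.inl (hr1 A hA B hB h))
    · exact Or.inr (Or.inr (hcc A hA B hB h))
  · rintro _ ⟨A, hA, rfl⟩ _ ⟨B, hB, rfl⟩ hAB
    rcases hpair A hA B hB with h | ⟨-, h⟩ | h
    · refine (not_rankOne_of_commute (hne' A hA) (fun a ha b hb => ?_) hAB).elim
      exact commutatorElement_eq_one_iff_mul_comm.1 (Subgroup.mem_bot.1
        (hbot A hA B hB h ▸ Subgroup.commutator_mem_commutator ha hb))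
    · obtain ⟨φ, h1, h2, h3, h4⟩ := h
      let φ' := φ.codRestrict H fun M => (sup_le (hle A hA) (hle B hB)) (h1 ▸ ⟨M, rfl⟩)
      have hφ : ∀ U : Subgroup (Matrix.SpecialLinearGroup (Fin 2) k), (U.map φ').map f = U.map φ := fun U => by
        rw [Subgroup.map_map]; rfl
      refine ⟨φ', hinj ?_, fun M hM => h2 (congrArg Subtype.val hM), hinj ?_, hinj ?_⟩
      · rw [Subgroup.map_sup, hmap A hA, hmap B hB, MonoidHom.range_eq_map, hφ, ← MonoidHom.range_eq_map, h1]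
      · rw [hφ, h3, hmap A hA]
      · rw [hφ, h4, hmap B hB]
    · exact (not_rankOne_of_commCase (fun C hC => by obtain ⟨D, hD, rfl⟩ := hC; exact hne' D hD) (hne' A hA)
        (hco B hB) (hcc A hA B hB h) hAB).elim

end

section
variable {F : Type*} [Field F] {N : ℕ}

local notation "VV" => (Fin N ⊕ Fin N → F)
local notation "QQ" => Cfsg.quadFormPlus N F

/-- The polar form. -/
def sw (v : VV) : VV := fun i => v i.swap

/-- The polar form. -/
def bl (u v : VV) : F := sw v ⬝ᵥ u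

theorem bl_eq (u v : VV) : bl u v = ∑ i, (u (.inl i) * v (.inr i) + u (.inr i) * v (.inl i)) := by
  simp [bl, sw, dotProduct, Fintype.sum_sum_type, Finset.sum_add_distrib, mul_comm]

theorem bl_comm (u v : VV) : bl u v = bl v u := by
  rw [bl_eq, bl_eq]; exact Finset.sum_congr rfl fun i _ => by ring

theorem bl_add_left (u u' v : VV) : bl (u + u') v = bl u v + bl u' v := by simp [bl, dotProduct_add]
theorem bl_smul_left (a : F) (u v : VV) : bl (a • u) v = a * bl u v := by simp [bl, dotProduct_smul]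
theorem bl_zero_left (v : VV) : bl 0 v = 0 := by simp [bl]
theorem bl_neg_left (u v : VV) : bl (-u) v = -bl u v := by simp [bl]
theorem bl_sub_left (u u' v : VV) : bl (u - u') v = bl u v - bl u' v := by simp [bl, dotProduct_sub]
theorem bl_add_right (u v v' : VV) : bl u (v + v') = bl u v + bl u v' := by
  rw [bl_comm, bl_add_left, bl_comm v, bl_comm v']
theorem bl_smul_right (a : F) (u v : VV) : bl u (a • v) = a * bl u v := by rw [bl_comm, bl_smul_left, bl_comm v]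
theorem bl_sub_right (u v v' : VV) : bl u (v - v') = bl u v - bl u v' := by
  rw [bl_comm, bl_sub_left, bl_comm v, bl_comm v']

theorem q_add (u v : VV) : QQ (u + v) = QQ u + QQ v + bl u v := by
  rw [bl_eq, Cfsg.quadFormPlus, Cfsg.quadFormPlus, Cfsg.quadFormPlus, ← Finset.sum_add_distrib, ← Finset.sum_add_distrib]
  exact Finset.sum_congr rfl fun i _ => by simp; ring

theorem q_smul (a : F) (v : VV) : QQ (a • v) = a * a * QQ v := by
  rw [Cfsg.quadFormPlus, Cfsg.quadFormPlus, Finset.mul_sum]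
  exact Finset.sum_congr rfl fun i _ => by simp; ring

theorem bl_self (v : VV) : bl v v = 2 * QQ v := by
  rw [bl_eq, Cfsg.quadFormPlus, Finset.mul_sum]
  exact Finset.sum_congr rfl fun i _ => by ring

theorem bl_self_zero {v : VV} (h : QQ v = 0) : bl v v = 0 := by rw [bl_self, h, mul_zero]

theorem bl_single (v : VV) (i : Fin N ⊕ Fin N) : bl (Pi.single i 1) v = v i.swap := by
  simp [bl, sw, dotProduct_single]

theorem eq_zero_of_bl {v : VV} (h : ∀ x, bl x v = 0) : v = 0 := funext fun i => by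
  have := h (Pi.single i.swap 1)
  rwa [bl_single, Sum.swap_swap] at this

theorem exists_dual {ι : Type} [Fintype ι] [DecidableEq ι] {f : ι → VV} (hf : LinearIndependent F f) (β : ι → F) :
    ∃ v, ∀ i, bl v (f i) = β i := by
  let L : VV →ₗ[F] (ι → F) :=
    { toFun := fun v i => bl v (f i)
      map_add' := fun u v => funext fun i => bl_add_left u v (f i)
      map_smul' := fun a v => funext fun i => bl_smul_left a v (f i) }
  have hs : Function.Surjective L := by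
    rw [← LinearMap.dualMap_injective_iff, ← LinearMap.ker_eq_bot, Submodule.eq_bot_iff]
    intro ξ hξ
    refine LinearMap.ext fun w => ?_
    have hξe : ∀ w, ξ w = ∑ i, w i * ξ (Pi.single i 1) := fun w => by
      conv_lhs => rw [pi_eq_sum_univ' w]
      simp [map_sum]
    have h0 : ∑ i, ξ (Pi.single i 1) • f i = 0 := eq_zero_of_bl fun x => by
      have h1 : ξ (L x) = 0 := LinearMap.congr_fun (LinearMap.mem_ker.1 hξ) x
      rw [hξe] at h1
      rw [bl, ← h1]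
      simp only [sw, L, bl, LinearMap.coe_mk, AddHom.coe_mk, dotProduct, Finset.sum_apply, Pi.smul_apply, smul_eq_mul]
      simp only [Finset.sum_mul, Finset.mul_sum]
      rw [Finset.sum_comm]
      exact Finset.sum_congr rfl fun _ _ => Finset.sum_congr rfl fun _ _ => by ring
    have hc := Fintype.linearIndependent_iff.1 hf _ h0
    rw [hξe]
    simp [hc]
  obtain ⟨v, hv⟩ := hs β
  exact ⟨v, congrFun hv⟩

/-- Totally singular lines with a basis. -/
structure Ln (F : Type*) [Field F] (N : ℕ) where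
  p : Fin N ⊕ Fin N → F
  r : Fin N ⊕ Fin N → F
  hp : Cfsg.quadFormPlus N F p = 0
  hr : Cfsg.quadFormPlus N F r = 0
  hpr : bl p r = 0
  hli : ∀ a b : F, a • p + b • r = 0 → a = 0 ∧ b = 0

theorem ln_li (ℓ : Ln F N) : LinearIndependent F ![ℓ.p, ℓ.r] := LinearIndependent.pair_iff.2 ℓ.hli

theorem Ln.ne_p (ℓ : Ln F N) : ℓ.p ≠ 0 := fun e => one_ne_zero (ℓ.hli 1 0 (by simp [e])).1

/-- The matrix of a root element. -/
def XM (p r : VV) (c : F) : Matrix (Fin N ⊕ Fin N) (Fin N ⊕ Fin N) F :=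
  1 + vecMulVec (c • p) (sw r) - vecMulVec (c • r) (sw p)

theorem XM_apply (p r : VV) (c : F) (v : VV) : XM p r c *ᵥ v = v + (c * bl v r) • p - (c * bl v p) • r := by
  rw [XM, sub_mulVec, add_mulVec, one_mulVec, vecMulVec_mulVec, vecMulVec_mulVec, op_smul_eq_smul, op_smul_eq_smul,
    smul_smul, smul_smul, bl, bl, mul_comm c, mul_comm c]

theorem mat_ext {A B : Matrix (Fin N ⊕ Fin N) (Fin N ⊕ Fin N) F} (h : ∀ x, A *ᵥ x = B *ᵥ x) : A = B :=
  Matrix.toLin'.injective (LinearMap.ext h)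

theorem XM_add (ℓ : Ln F N) (c d : F) : XM ℓ.p ℓ.r c * XM ℓ.p ℓ.r d = XM ℓ.p ℓ.r (c + d) := by
  refine mat_ext fun v => ?_
  simp only [← mulVec_mulVec, XM_apply, bl_add_left, bl_sub_left, bl_smul_left, ℓ.hpr, bl_comm ℓ.r ℓ.p,
    bl_self_zero ℓ.hp, bl_self_zero ℓ.hr]
  module

theorem XM_zero (p r : VV) : XM p r (0 : F) = 1 := by simp [XM]

local notation "GG" => Cfsg.isometryGroup F (Cfsg.quadFormPlus N F)

/-- The matrix of an element. -/
abbrev mt (g : GG) : Matrix (Fin N ⊕ Fin N) (Fin N ⊕ Fin N) F :=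
  ((g : Matrix.GeneralLinearGroup (Fin N ⊕ Fin N) F) : Matrix (Fin N ⊕ Fin N) (Fin N ⊕ Fin N) F)

theorem gg_ext {g h : GG} (e : ∀ v, mt g *ᵥ v = mt h *ᵥ v) : g = h := Subtype.ext (Units.ext (mat_ext e))

theorem mt_mul (g h : GG) (v : VV) : mt (g * h) *ᵥ v = mt g *ᵥ (mt h *ᵥ v) := (mulVec_mulVec v _ _).symm

theorem mt_one (v : VV) : mt (1 : GG) *ᵥ v = v := one_mulVec v

theorem mt_q (g : GG) (v : VV) : QQ (mt g *ᵥ v) = QQ v := g.2 v v

theorem mt_bl (g : GG) (u v : VV) : bl (mt g *ᵥ u) (mt g *ᵥ v) = bl u v := by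
  have h := mt_q g (u + v)
  rw [mulVec_add, q_add, q_add, mt_q, mt_q] at h
  exact add_left_cancel h

theorem mt_inv_apply (g : GG) (v : VV) : mt g⁻¹ *ᵥ (mt g *ᵥ v) = v := by rw [← mt_mul, inv_mul_cancel, mt_one]
theorem mt_apply_inv (g : GG) (v : VV) : mt g *ᵥ (mt g⁻¹ *ᵥ v) = v := by rw [← mt_mul, mul_inv_cancel, mt_one]

/-- Root elements. -/
def X (ℓ : Ln F N) (c : F) : GG :=
  ⟨⟨XM ℓ.p ℓ.r c, XM ℓ.p ℓ.r (-c), by rw [XM_add, add_neg_cancel, XM_zero], by rw [XM_add, neg_add_cancel, XM_zero]⟩,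
    fun v _ => by
      show QQ (XM ℓ.p ℓ.r c *ᵥ v) = QQ v
      rw [XM_apply, sub_eq_add_neg, ← neg_smul, q_add, q_add, q_smul, q_smul, ℓ.hp, ℓ.hr]
      simp only [bl_add_left, bl_smul_left, bl_smul_right, ℓ.hpr]
      ring⟩

theorem X_apply (ℓ : Ln F N) (c : F) (v : VV) :
    mt (X ℓ c) *ᵥ v = v + (c * bl v ℓ.r) • ℓ.p - (c * bl v ℓ.p) • ℓ.r := XM_apply ℓ.p ℓ.r c v

theorem X_add (ℓ : Ln F N) (c d : F) : X ℓ (c + d) = X ℓ c * X ℓ d :=
  Subtype.ext (Units.ext (XM_add ℓ c d).symm)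

theorem X_zero (ℓ : Ln F N) : X ℓ 0 = 1 := Subtype.ext (Units.ext (XM_zero _ _))

theorem X_inv (ℓ : Ln F N) (c : F) : (X ℓ c)⁻¹ = X ℓ (-c) :=
  inv_eq_of_mul_eq_one_right (by rw [← X_add, add_neg_cancel, X_zero])

theorem X_eq_one (ℓ : Ln F N) {c : F} (h : X ℓ c = 1) : c = 0 := by
  obtain ⟨v, hv⟩ := exists_dual (ln_li ℓ) ![0, 1]
  have h1 := X_apply ℓ c v
  have e0 : bl v ℓ.p = 0 := hv 0
  have e1 : bl v ℓ.r = 1 := hv 1
  rw [h, mt_one, e0, e1, mul_one, mul_zero, zero_smul, sub_zero, left_eq_add, smul_eq_zero] at h1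
  exact h1.resolve_right ℓ.ne_p

/-- Root groups. -/
def R (ℓ : Ln F N) : Subgroup GG where
  carrier := Set.range (X ℓ)
  one_mem' := ⟨0, X_zero ℓ⟩
  mul_mem' := by rintro _ _ ⟨c, rfl⟩ ⟨d, rfl⟩; exact ⟨_, X_add ℓ c d⟩
  inv_mem' := by rintro _ ⟨c, rfl⟩; exact ⟨_, (X_inv ℓ c).symm⟩

theorem R_ne_bot (ℓ : Ln F N) : R ℓ ≠ ⊥ := fun h => by
  have : X ℓ 1 ∈ R ℓ := ⟨1, rfl⟩
  rw [h, Subgroup.mem_bot] at this
  exact one_ne_zero (X_eq_one ℓ this)

theorem X_change {ℓ ℓ' : Ln F N} {a b c e : F} (hp : ℓ'.p = a • ℓ.p + b • ℓ.r) (hr : ℓ'.r = c • ℓ.p + e • ℓ.r)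
    (t : F) : X ℓ' t = X ℓ (t * (a * e - b * c)) := by
  refine gg_ext fun v => ?_
  rw [X_apply, X_apply, hp, hr]
  simp only [bl_add_right, bl_smul_right]
  module

theorem R_change {ℓ ℓ' : Ln F N} {a b c e : F} (hD : a * e - b * c ≠ 0) (hp : ℓ'.p = a • ℓ.p + b • ℓ.r)
    (hr : ℓ'.r = c • ℓ.p + e • ℓ.r) : R ℓ' = R ℓ := by
  ext g
  constructor
  · rintro ⟨t, rfl⟩; exact ⟨_, (X_change hp hr t).symm⟩
  · rintro ⟨t, rfl⟩
    exact ⟨t / (a * e - b * c), by rw [X_change hp hr, div_mul_cancel₀ _ hD]⟩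

/-- A new basis of a line. -/
def Ln.change (ℓ : Ln F N) (a b c e : F) (hD : a * e - b * c ≠ 0) : Ln F N where
  p := a • ℓ.p + b • ℓ.r
  r := c • ℓ.p + e • ℓ.r
  hp := by rw [q_add, q_smul, q_smul, ℓ.hp, ℓ.hr, bl_smul_left, bl_smul_right, ℓ.hpr]; ring
  hr := by rw [q_add, q_smul, q_smul, ℓ.hp, ℓ.hr, bl_smul_left, bl_smul_right, ℓ.hpr]; ring
  hpr := by
    simp only [bl_add_left, bl_add_right, bl_smul_left, bl_smul_right, ℓ.hpr, bl_comm ℓ.r ℓ.p, bl_self_zero ℓ.hp,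
      bl_self_zero ℓ.hr]
    ring
  hli := fun x y h => by
    obtain ⟨h1, h2⟩ := ℓ.hli (x * a + y * c) (x * b + y * e) (by rw [← h]; module)
    exact ⟨mul_right_cancel₀ hD (by linear_combination e * h1 - c * h2),
      mul_right_cancel₀ hD (by linear_combination a * h2 - b * h1)⟩

theorem R_of_change (ℓ : Ln F N) (a b c e : F) (hD : a * e - b * c ≠ 0) : R (ℓ.change a b c e hD) = R ℓ :=
  R_change hD rfl rfl

/-- The image of a line. -/
def gl (g : GG) (ℓ : Ln F N) : Ln F N where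
  p := mt g *ᵥ ℓ.p
  r := mt g *ᵥ ℓ.r
  hp := by rw [mt_q, ℓ.hp]
  hr := by rw [mt_q, ℓ.hr]
  hpr := by rw [mt_bl, ℓ.hpr]
  hli := fun a b h => ℓ.hli a b (by
    have := congrArg (fun v => mt g⁻¹ *ᵥ v) h
    simpa only [mulVec_add, mulVec_smul, mulVec_zero, mt_inv_apply] using this)

theorem conj_X (g : GG) (ℓ : Ln F N) (c : F) : g * X ℓ c * g⁻¹ = X (gl g ℓ) c := by
  refine gg_ext fun v => ?_
  rw [mt_mul, mt_mul, X_apply, X_apply, mulVec_sub, mulVec_add, mulVec_smul, mulVec_smul, mt_apply_inv,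
    ← mt_bl g (mt g⁻¹ *ᵥ v) ℓ.r, ← mt_bl g (mt g⁻¹ *ᵥ v) ℓ.p, mt_apply_inv]
  rfl

theorem conjBy_R (g : GG) (ℓ : Ln F N) : Cfsg.conjBy (R ℓ) g = R (gl g ℓ) := by
  ext z
  constructor
  · rintro ⟨_, ⟨c, rfl⟩, rfl⟩; exact ⟨c, (conj_X g ℓ c).symm⟩
  · rintro ⟨c, rfl⟩; exact ⟨_, ⟨c, rfl⟩, conj_X g ℓ c⟩

theorem X_comm {ℓ m : Ln F N} (h1 : bl ℓ.p m.p = 0) (h2 : bl ℓ.p m.r = 0) (h3 : bl ℓ.r m.p = 0)
    (h4 : bl ℓ.r m.r = 0 ∨ m.p = ℓ.p) (c d : F) : X ℓ c * X m d = X m d * X ℓ c := by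
  refine gg_ext fun v => ?_
  simp only [mt_mul, X_apply, bl_add_left, bl_sub_left, bl_smul_left, h1, h2, h3, bl_comm m.p ℓ.p, bl_comm m.r ℓ.p,
    bl_comm m.p ℓ.r, bl_comm m.r ℓ.r]
  rcases h4 with h4 | h4
  · rw [h4]; module
  · simp only [h4]; module

theorem R_commutative (ℓ : Ln F N) : IsMulCommutative ↥(R ℓ) :=
  ⟨⟨by rintro ⟨_, c, rfl⟩ ⟨_, d, rfl⟩; exact Subtype.ext (by
    show X ℓ c * X ℓ d = X ℓ d * X ℓ c
    rw [← X_add, ← X_add]; exact congrArg (X ℓ) (add_comm c d))⟩⟩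

theorem R_comm_bot {ℓ m : Ln F N} (h1 : bl ℓ.p m.p = 0) (h2 : bl ℓ.p m.r = 0) (h3 : bl ℓ.r m.p = 0)
    (h4 : bl ℓ.r m.r = 0 ∨ m.p = ℓ.p) : ⁅R ℓ, R m⁆ = ⊥ := by
  rw [eq_bot_iff, Subgroup.commutator_le]
  rintro _ ⟨c, rfl⟩ _ ⟨d, rfl⟩
  rw [Subgroup.mem_bot, _root_.commutatorElement_def, X_comm h1 h2 h3 h4]
  group

/-- Opposite lines with dual bases. -/
theorem cond_dual {ℓ m : Ln F N} (h11 : bl ℓ.p m.p = 1) (h12 : bl ℓ.p m.r = 0) (h21 : bl ℓ.r m.p = 0)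
    (h22 : bl ℓ.r m.r = 1) : Cfsg.RankOneCondition (R ℓ) (R m) := by
  rintro _ ⟨c, rfl⟩ hu
  have hc : c ≠ 0 := fun e => hu (by rw [e, X_zero])
  refine ⟨X m (-1 / c), ⟨_, rfl⟩, fun e => ?_, ?_⟩
  · have := X_eq_one m e
    simp [hc] at this
  rw [conjBy_R, conjBy_R]
  refine R_change (a := 0) (b := -1 / c) (c := 1 / c) (e := 0) (by simp [hc]) ?_ ?_
  · show mt (X m (-1 / c))⁻¹ *ᵥ ℓ.p = _ • (mt (X ℓ c)⁻¹ *ᵥ m.p) + _ • (mt (X ℓ c)⁻¹ *ᵥ m.r)
    rw [X_inv, X_inv, X_apply, X_apply, X_apply, h11, h12, bl_comm m.p ℓ.p, bl_comm m.r ℓ.p, bl_comm m.p ℓ.r,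
      bl_comm m.r ℓ.r, h11, h12, h21, h22]
    match_scalars <;> field_simp <;> ring
  · show mt (X m (-1 / c))⁻¹ *ᵥ ℓ.r = _ • (mt (X ℓ c)⁻¹ *ᵥ m.p) + _ • (mt (X ℓ c)⁻¹ *ᵥ m.r)
    rw [X_inv, X_inv, X_apply, X_apply, X_apply, h21, h22, bl_comm m.p ℓ.p, bl_comm m.r ℓ.p, bl_comm m.p ℓ.r,
      bl_comm m.r ℓ.r, h11, h12, h21, h22]
    match_scalars <;> field_simp <;> ring

theorem rankOne_dual {ℓ m : Ln F N} (h11 : bl ℓ.p m.p = 1) (h12 : bl ℓ.p m.r = 0) (h21 : bl ℓ.r m.p = 0)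
    (h22 : bl ℓ.r m.r = 1) : Cfsg.IsRankOnePair (R ℓ) (R m) := by
  refine ⟨fun e => ?_, ?_, ?_, cond_dual h11 h12 h21 h22, cond_dual (by rw [bl_comm, h11]) (by rw [bl_comm, h21])
    (by rw [bl_comm, h12]) (by rw [bl_comm, h22])⟩
  · have : X m 1 ∈ R ℓ := e ▸ ⟨1, rfl⟩
    obtain ⟨c, hc⟩ := this
    have h1 := congrArg (fun g => bl (mt g *ᵥ ℓ.p) ℓ.r) hc
    simp only [X_apply, bl_add_left, bl_sub_left, bl_smul_left, h11, h12, bl_self_zero ℓ.hp, ℓ.hpr,
      bl_comm m.r ℓ.r, h22] at h1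
    simp at h1
  · letI : CommGroup ↥(R ℓ) := { (inferInstance : Group ↥(R ℓ)) with mul_comm := (R_commutative ℓ).is_comm.comm }
    exact CommGroup.isNilpotent
  · letI : CommGroup ↥(R m) := { (inferInstance : Group ↥(R m)) with mul_comm := (R_commutative m).is_comm.comm }
    exact CommGroup.isNilpotent

theorem psl2_dual {ℓ m : Ln F N} (h11 : bl ℓ.p m.p = 1) (h12 : bl ℓ.p m.r = 0) (h21 : bl ℓ.r m.p = 0)
    (h22 : bl ℓ.r m.r = 1) : Cfsg.IsPSL2PairOver F (R ℓ) (R m) := by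
  let L : Matrix (Fin 2) (Fin 2) F → (VV →ₗ[F] VV) := fun M =>
    { toFun := fun v => v + ((M 0 0 - 1) * bl v m.p + M 0 1 * bl v ℓ.r) • ℓ.p +
        (M 1 0 * bl v m.p + (M 1 1 - 1) * bl v ℓ.r) • m.r +
        ((M 0 0 - 1) * bl v m.r - M 0 1 * bl v ℓ.p) • ℓ.r +
        (-(M 1 0) * bl v m.r + (M 1 1 - 1) * bl v ℓ.p) • m.p
      map_add' := fun u v => by simp only [bl_add_left]; module
      map_smul' := fun a v => by simp only [bl_smul_left, RingHom.id_apply]; module }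
  have hL : ∀ M v, L M v = v + ((M 0 0 - 1) * bl v m.p + M 0 1 * bl v ℓ.r) • ℓ.p +
        (M 1 0 * bl v m.p + (M 1 1 - 1) * bl v ℓ.r) • m.r +
        ((M 0 0 - 1) * bl v m.r - M 0 1 * bl v ℓ.p) • ℓ.r +
        (-(M 1 0) * bl v m.r + (M 1 1 - 1) * bl v ℓ.p) • m.p := fun _ _ => rfl
  have hmul : ∀ M M' v, L M (L M' v) = L (M * M') v := by
    intro M M' v
    simp only [hL, bl_add_left, bl_smul_left, h11, h12, h21, h22, bl_comm m.p ℓ.p, bl_comm m.r ℓ.p, bl_comm m.p ℓ.r,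
      bl_comm m.r ℓ.r, ℓ.hpr, bl_comm ℓ.r ℓ.p, m.hpr, bl_comm m.r m.p, bl_self_zero ℓ.hp, bl_self_zero ℓ.hr,
      bl_self_zero m.hp, bl_self_zero m.hr, Matrix.mul_apply, Fin.sum_univ_two]
    module
  have h1 : ∀ v, L 1 v = v := fun v => by simp [hL]
  let T : Matrix (Fin 2) (Fin 2) F → Matrix (Fin N ⊕ Fin N) (Fin N ⊕ Fin N) F := fun M => LinearMap.toMatrix' (L M)
  have hT : ∀ M v, T M *ᵥ v = L M v := fun M v => LinearMap.toMatrix'_mulVec (L M) v
  have hTmul : ∀ M M', T M * T M' = T (M * M') := fun M M' => mat_ext fun v => by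
    rw [← mulVec_mulVec, hT, hT, hT, hmul]
  have hT1 : T 1 = 1 := mat_ext fun v => by rw [hT, h1, one_mulVec]
  have hQ : ∀ (M : Matrix.SpecialLinearGroup (Fin 2) F) v, QQ (T M.1 *ᵥ v) = QQ v := by
    intro M v
    have hd := M.2
    rw [det_fin_two] at hd
    rw [hT, hL]
    simp only [q_add, q_smul, bl_add_left, bl_smul_left, bl_smul_right, ℓ.hp, ℓ.hr, m.hp, m.hr, h11, h12, h22, h21,
      bl_comm m.p ℓ.p, bl_comm m.r ℓ.p, bl_comm m.p ℓ.r, bl_comm m.r ℓ.r, ℓ.hpr, bl_comm ℓ.r ℓ.p, m.hpr,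
      bl_comm m.r m.p]
    linear_combination (bl v m.p * bl v ℓ.p + bl v m.r * bl v ℓ.r) * hd
  let φ : Matrix.SpecialLinearGroup (Fin 2) F →* GG :=
    { toFun := fun M => ⟨⟨T M.1, T (M⁻¹).1,
          by rw [hTmul, ← Matrix.SpecialLinearGroup.coe_mul, mul_inv_cancel, Matrix.SpecialLinearGroup.coe_one, hT1],
          by rw [hTmul, ← Matrix.SpecialLinearGroup.coe_mul, inv_mul_cancel, Matrix.SpecialLinearGroup.coe_one, hT1]⟩,
        fun v _ => hQ M v⟩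
      map_one' := Subtype.ext (Units.ext hT1)
      map_mul' := fun M M' => Subtype.ext (Units.ext (hTmul M.1 M'.1).symm) }
  have hφ : ∀ M v, mt (φ M) *ᵥ v = L M.1 v := fun M v => hT M.1 v
  have hup : ∀ M : Matrix.SpecialLinearGroup (Fin 2) F, M.1 1 0 = 0 → M.1 0 0 = 1 → M.1 1 1 = 1 →
      φ M = X ℓ (M.1 0 1) := by
    intro M e1 e2 e3
    refine gg_ext fun v => ?_
    rw [hφ, hL, X_apply, e1, e2, e3]
    module
  have hlo : ∀ M : Matrix.SpecialLinearGroup (Fin 2) F, M.1 0 1 = 0 → M.1 0 0 = 1 → M.1 1 1 = 1 →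
      φ M = X m (-(M.1 1 0)) := by
    intro M e1 e2 e3
    refine gg_ext fun v => ?_
    rw [hφ, hL, X_apply, e1, e2, e3]
    module
  have h01 : (0 : Fin 2) ≠ 1 := by decide
  have hU : (Cfsg.upperUnipotentSL2 F).map φ = R ℓ := by
    apply le_antisymm
    · rw [Cfsg.upperUnipotentSL2, MonoidHom.map_closure, Subgroup.closure_le]
      rintro _ ⟨M, ⟨e1, e2, e3⟩, rfl⟩
      exact ⟨_, (hup M e1 e2 e3).symm⟩
    · rintro _ ⟨c, rfl⟩
      refine ⟨Matrix.SpecialLinearGroup.transvection h01 c, Subgroup.subset_closure ?_, ?_⟩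
      · simp [Matrix.SpecialLinearGroup.transvection_coe, Matrix.add_apply]
      · rw [hup _ (by simp [Matrix.SpecialLinearGroup.transvection_coe, Matrix.add_apply])
          (by simp [Matrix.SpecialLinearGroup.transvection_coe, Matrix.add_apply])
          (by simp [Matrix.SpecialLinearGroup.transvection_coe, Matrix.add_apply])]
        congr 1
        simp [Matrix.SpecialLinearGroup.transvection_coe, Matrix.add_apply]
  have hLo : (Cfsg.lowerUnipotentSL2 F).map φ = R m := by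
    apply le_antisymm
    · rw [Cfsg.lowerUnipotentSL2, MonoidHom.map_closure, Subgroup.closure_le]
      rintro _ ⟨M, ⟨e1, e2, e3⟩, rfl⟩
      exact ⟨_, (hlo M e1 e2 e3).symm⟩
    · rintro _ ⟨c, rfl⟩
      refine ⟨Matrix.SpecialLinearGroup.transvection h01.symm (-c), Subgroup.subset_closure ?_, ?_⟩
      · simp [Matrix.SpecialLinearGroup.transvection_coe, Matrix.add_apply]
      · rw [hlo _ (by simp [Matrix.SpecialLinearGroup.transvection_coe, Matrix.add_apply])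
          (by simp [Matrix.SpecialLinearGroup.transvection_coe, Matrix.add_apply])
          (by simp [Matrix.SpecialLinearGroup.transvection_coe, Matrix.add_apply])]
        congr 1
        simp [Matrix.SpecialLinearGroup.transvection_coe, Matrix.add_apply]
  have hgen : Cfsg.upperUnipotentSL2 F ⊔ Cfsg.lowerUnipotentSL2 F = ⊤ := by
    rw [← top_le_iff, ← Classical.closure_transvection_eq_top (ι := Fin 2), Subgroup.closure_le]
    rintro _ ⟨i, j, hij, c, rfl⟩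
    fin_cases i <;> fin_cases j <;> first | exact absurd rfl hij | skip
    · exact Subgroup.mem_sup_left (Subgroup.subset_closure (by
        simp [Matrix.SpecialLinearGroup.transvection_coe, Matrix.add_apply]))
    · exact Subgroup.mem_sup_right (Subgroup.subset_closure (by
        simp [Matrix.SpecialLinearGroup.transvection_coe, Matrix.add_apply]))
  refine ⟨φ, ?_, ?_, hU, hLo⟩
  · rw [MonoidHom.range_eq_map, ← hgen, Subgroup.map_sup, hU, hLo]
  · intro M hM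
    have hv : ∀ v, L M.1 v = v := fun v => by rw [← hφ, show φ M = 1 from hM, mt_one]
    have a1 := congrArg (fun v => bl v m.p) (hv ℓ.p)
    have a2 := congrArg (fun v => bl v ℓ.r) (hv ℓ.p)
    have a3 := congrArg (fun v => bl v m.p) (hv m.r)
    have a4 := congrArg (fun v => bl v ℓ.r) (hv m.r)
    simp [hL, bl_add_left, bl_smul_left, h11, h12, h21, h22, bl_comm m.p ℓ.p, bl_comm m.r ℓ.p, bl_comm m.p ℓ.r,
      bl_comm m.r ℓ.r, ℓ.hpr, bl_comm ℓ.r ℓ.p, m.hpr, bl_comm m.r m.p, bl_self_zero ℓ.hp, bl_self_zero ℓ.hr,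
      bl_self_zero m.hp, bl_self_zero m.hr, sub_eq_zero] at a1 a2 a3 a4
    have : M = 1 := by
      refine Subtype.ext (Matrix.ext fun i j => ?_)
      fin_cases i <;> fin_cases j <;> simp [a1, a2, a3, a4]
    rw [this]; exact one_mem _

theorem opp {ℓ m : Ln F N} (hD : bl ℓ.p m.p * bl ℓ.r m.r - bl ℓ.p m.r * bl ℓ.r m.p ≠ 0) :
    Cfsg.IsRankOnePair (R ℓ) (R m) ∧ Cfsg.IsPSL2PairOver F (R ℓ) (R m) := by
  set D := bl ℓ.p m.p * bl ℓ.r m.r - bl ℓ.p m.r * bl ℓ.r m.p with hDd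
  have hD' : bl ℓ.r m.r / D * (bl ℓ.p m.p / D) - -bl ℓ.r m.p / D * (-bl ℓ.p m.r / D) ≠ 0 := by
    rw [show bl ℓ.r m.r / D * (bl ℓ.p m.p / D) - -bl ℓ.r m.p / D * (-bl ℓ.p m.r / D) = 1 / D by
      field_simp; rw [hDd]; ring]
    exact one_div_ne_zero hD
  set m' := m.change (bl ℓ.r m.r / D) (-bl ℓ.r m.p / D) (-bl ℓ.p m.r / D) (bl ℓ.p m.p / D) hD' with hm'
  have e11 : bl ℓ.p m'.p = 1 := by
    simp only [hm', Ln.change, bl_add_right, bl_smul_right]; field_simp; rw [hDd]; ring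
  have e12 : bl ℓ.p m'.r = 0 := by
    simp only [hm', Ln.change, bl_add_right, bl_smul_right]; field_simp; ring
  have e21 : bl ℓ.r m'.p = 0 := by
    simp only [hm', Ln.change, bl_add_right, bl_smul_right]; field_simp; ring
  have e22 : bl ℓ.r m'.r = 1 := by
    simp only [hm', Ln.change, bl_add_right, bl_smul_right]; field_simp; rw [hDd]; ring
  have hR : R m' = R m := R_of_change _ _ _ _ _ _
  exact ⟨hR ▸ rankOne_dual e11 e12 e21 e22, hR ▸ psl2_dual e11 e12 e21 e22⟩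

theorem comm_formula {ℓ m z : Ln F N} (h1 : bl ℓ.p m.p = 0) (h2 : bl ℓ.p m.r = 0) (h3 : bl ℓ.r m.p = 0)
    (hzp : z.p = ℓ.p) (hzr : z.r = m.p) (c d : F) :
    X ℓ c * X m d * (X ℓ c)⁻¹ * (X m d)⁻¹ = X z (-(c * d * bl ℓ.r m.r)) := by
  rw [mul_inv_eq_iff_eq_mul, mul_inv_eq_iff_eq_mul]
  refine gg_ext fun v => ?_
  simp only [mt_mul, X_apply, hzp, hzr, bl_add_left, bl_sub_left, bl_smul_left, h1, h2, h3, bl_comm m.p ℓ.p,
    bl_comm m.r ℓ.p, bl_comm m.p ℓ.r, bl_comm m.r ℓ.r, ℓ.hpr, bl_comm ℓ.r ℓ.p, m.hpr, bl_comm m.r m.p,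
    bl_self_zero ℓ.hp, bl_self_zero ℓ.hr, bl_self_zero m.hp, bl_self_zero m.hr]
  module

theorem comm_case {ℓ m z : Ln F N} (h1 : bl ℓ.p m.p = 0) (h2 : bl ℓ.p m.r = 0) (h3 : bl ℓ.r m.p = 0)
    (h4 : bl ℓ.r m.r ≠ 0) (hzp : z.p = ℓ.p) (hzr : z.r = m.p) {S : Set (Subgroup GG)} (hS : R z ∈ S) :
    Cfsg.RootCommutatorCase S (R ℓ) (R m) := by
  have hform := comm_formula h1 h2 h3 hzp hzr
  have e : ⁅R ℓ, R m⁆ = R z := by
    apply le_antisymm
    · rw [Subgroup.commutator_le]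
      rintro _ ⟨c, rfl⟩ _ ⟨d, rfl⟩
      rw [_root_.commutatorElement_def, hform]
      exact ⟨_, rfl⟩
    · rintro _ ⟨c, rfl⟩
      have := Subgroup.commutator_mem_commutator (H₁ := R ℓ) (H₂ := R m)
        (g₁ := X ℓ (-c / bl ℓ.r m.r)) (g₂ := X m 1) ⟨_, rfl⟩ ⟨_, rfl⟩
      rw [_root_.commutatorElement_def, hform, mul_one, div_mul_cancel₀ _ h4, neg_neg] at this
      exact this
  refine ⟨e ▸ hS, ?_, ?_, ?_⟩
  · rw [e]
    rintro _ ⟨c, rfl⟩ y hy
    have hle : R ℓ ⊔ R m ≤ Subgroup.centralizer {X z c} := by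
      refine sup_le ?_ ?_
      · rintro _ ⟨d, rfl⟩
        rw [Subgroup.mem_centralizer_singleton_iff]
        exact X_comm (by rw [hzp]; exact bl_self_zero ℓ.hp) (by rw [hzr]; exact h1)
          (by rw [hzp, bl_comm]; exact ℓ.hpr) (Or.inr hzp) d c
      · rintro _ ⟨d, rfl⟩
        rw [Subgroup.mem_centralizer_singleton_iff]
        refine X_comm (ℓ := m) (m := z) ?_ ?_ ?_ ?_ d c
        · rw [hzp, bl_comm]; exact h1
        · rw [hzr]; exact bl_self_zero m.hp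
        · rw [hzp, bl_comm]; exact h2
        · left; rw [hzr, bl_comm]; exact m.hpr
    exact (Subgroup.mem_centralizer_singleton_iff.mp (hle hy)).symm
  · rintro _ ⟨c, rfl⟩ hu
    have hc : c ≠ 0 := fun h => hu (by rw [h, X_zero])
    rw [e]
    apply le_antisymm
    · rw [Subgroup.closure_le]
      rintro _ ⟨_, ⟨d, rfl⟩, rfl⟩
      exact ⟨_, (hform c d).symm⟩
    · rintro _ ⟨d, rfl⟩
      refine Subgroup.subset_closure ⟨X m (-(d / (c * bl ℓ.r m.r))), ⟨_, rfl⟩, ?_⟩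
      show X ℓ c * _ * _ * _ = _
      rw [hform]
      congr 1
      field_simp
  · rintro _ ⟨d, rfl⟩ hu
    have hd : d ≠ 0 := fun h => hu (by rw [h, X_zero])
    rw [e]
    apply le_antisymm
    · rw [Subgroup.closure_le]
      rintro _ ⟨_, ⟨c, rfl⟩, rfl⟩
      exact ⟨_, (hform c d).symm⟩
    · rintro _ ⟨c, rfl⟩
      refine Subgroup.subset_closure ⟨X ℓ (-(c / (d * bl ℓ.r m.r))), ⟨_, rfl⟩, ?_⟩
      show _ * X m d * _ * _ = _
      rw [hform]
      congr 1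
      field_simp

theorem pair_case (ℓ m : Ln F N) {S : Set (Subgroup GG)} (hS : ∀ z : Ln F N, R z ∈ S) :
    ⁅R ℓ, R m⁆ = ⊥ ∨ (Cfsg.IsRankOnePair (R ℓ) (R m) ∧ Cfsg.IsPSL2PairOver F (R ℓ) (R m)) ∨
      Cfsg.RootCommutatorCase S (R ℓ) (R m) := by
  by_cases hD : bl ℓ.p m.p * bl ℓ.r m.r - bl ℓ.p m.r * bl ℓ.r m.p ≠ 0
  · exact Or.inr (Or.inl (opp hD))
  push Not at hD
  by_cases hz : bl ℓ.p m.p = 0 ∧ bl ℓ.p m.r = 0 ∧ bl ℓ.r m.p = 0 ∧ bl ℓ.r m.r = 0
  · exact Or.inl (R_comm_bot hz.1 hz.2.1 hz.2.2.1 (Or.inl hz.2.2.2))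
  -- new bases
  obtain ⟨a, b, c, e, hd, k1, k2⟩ : ∃ a b c e : F, a * e - b * c ≠ 0 ∧
      a * bl ℓ.p m.p + b * bl ℓ.r m.p = 0 ∧ a * bl ℓ.p m.r + b * bl ℓ.r m.r = 0 := by
    by_cases h21 : bl ℓ.r m.p = 0
    · by_cases h22 : bl ℓ.r m.r = 0
      · exact ⟨0, 1, 1, 0, by simp, by rw [h21]; ring, by rw [h22]; ring⟩
      · exact ⟨bl ℓ.r m.r, -bl ℓ.p m.r, 0, 1, by simpa using h22, by linear_combination hD, by ring⟩
    · exact ⟨bl ℓ.r m.p, -bl ℓ.p m.p, 0, 1, by simpa using h21, by ring, by linear_combination -hD⟩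
  set ℓ' := ℓ.change a b c e hd with hl'
  have f1 : bl ℓ'.p m.p = 0 := by simp only [hl', Ln.change, bl_add_left, bl_smul_left]; exact k1
  have f2 : bl ℓ'.p m.r = 0 := by simp only [hl', Ln.change, bl_add_left, bl_smul_left]; exact k2
  have hRl : R ℓ' = R ℓ := R_of_change _ _ _ _ _ _
  by_cases g : bl ℓ'.r m.p = 0 ∧ bl ℓ'.r m.r = 0
  · exact Or.inl (hRl ▸ R_comm_bot f1 f2 g.1 (Or.inl g.2))
  obtain ⟨a', b', c', e', hd', k⟩ : ∃ a b c e : F, a * e - b * c ≠ 0 ∧ a * bl ℓ'.r m.p + b * bl ℓ'.r m.r = 0 := by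
    by_cases g2 : bl ℓ'.r m.r = 0
    · exact ⟨0, 1, 1, 0, by simp, by rw [g2]; ring⟩
    · exact ⟨bl ℓ'.r m.r, -bl ℓ'.r m.p, 0, 1, by simpa using g2, by ring⟩
  set m' := m.change a' b' c' e' hd' with hm'
  have F1 : bl ℓ'.p m'.p = 0 := by simp only [hm', Ln.change, bl_add_right, bl_smul_right, f1, f2]; ring
  have F2 : bl ℓ'.p m'.r = 0 := by simp only [hm', Ln.change, bl_add_right, bl_smul_right, f1, f2]; ring
  have F3 : bl ℓ'.r m'.p = 0 := by simp only [hm', Ln.change, bl_add_right, bl_smul_right]; exact k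
  have hRm : R m' = R m := R_of_change _ _ _ _ _ _
  have F4 : bl ℓ'.r m'.r ≠ 0 := by
    intro h
    refine g ?_
    simp only [hm', Ln.change, bl_add_right, bl_smul_right] at h
    exact ⟨mul_left_cancel₀ hd' (by linear_combination e' * k - b' * h),
      mul_left_cancel₀ hd' (by linear_combination a' * h - c' * k)⟩
  by_cases hind : ∀ x y : F, x • ℓ'.p + y • m'.p = 0 → x = 0 ∧ y = 0
  · let z : Ln F N := ⟨ℓ'.p, m'.p, ℓ'.hp, m'.hp, F1, hind⟩
    exact Or.inr (Or.inr (hRl ▸ hRm ▸ comm_case F1 F2 F3 F4 (z := z) rfl rfl (hS z)))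
  · push Not at hind
    obtain ⟨x, y, hxy, hne⟩ := hind
    have hy : y ≠ 0 := by
      intro hy
      rw [hy, zero_smul, add_zero, smul_eq_zero] at hxy
      exact hne (hxy.resolve_right ℓ'.ne_p) hy
    have hx : x ≠ 0 := by
      intro hx
      rw [hx, zero_smul, zero_add, smul_eq_zero] at hxy
      exact m'.ne_p (hxy.resolve_left hy)
    have hdd : -(y / x) * 1 - 0 * 0 ≠ 0 := by simp [hx, hy]
    set m'' := m'.change (-(y / x)) 0 0 1 hdd with hm''
    have hpp : m''.p = ℓ'.p := by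
      show (-(y / x)) • m'.p + (0 : F) • m'.r = ℓ'.p
      rw [zero_smul, add_zero, eq_neg_of_add_eq_zero_left hxy |> fun h => (show ℓ'.p = x⁻¹ • -(y • m'.p) by
        rw [← h, smul_smul, inv_mul_cancel₀ hx, one_smul])]
      match_scalars
      field_simp
    have hRm' : R m'' = R m' := R_of_change _ _ _ _ _ _
    have := R_comm_bot (ℓ := ℓ') (m := m'') (by rw [hpp]; exact bl_self_zero ℓ'.hp)
      (by simp only [hm'', Ln.change, bl_add_right, bl_smul_right, F1, F2]; ring)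
      (by rw [hpp, bl_comm]; exact ℓ'.hpr) (Or.inr hpp)
    rw [hRm', hRm, hRl] at this
    exact Or.inl this

theorem exists_third (hN : 3 ≤ N) (ℓ : Ln F N) :
    ∃ t : VV, QQ t = 0 ∧ bl t ℓ.p = 0 ∧ bl t ℓ.r = 0 ∧ t ∉ Submodule.span F {ℓ.p, ℓ.r} := by
  by_contra hcon
  push Not at hcon
  let ι : (Fin N → F) →ₗ[F] VV :=
    { toFun := fun a => Sum.elim a 0
      map_add' := fun a b => by funext i; cases i <;> simp
      map_smul' := fun a b => by funext i; cases i <;> simp }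
  have hq : ∀ a, QQ (ι a) = 0 := fun a => by simp [Cfsg.quadFormPlus, ι]
  have hι : Function.Injective ι := fun a b h => funext fun i => congrFun h (.inl i)
  let Λ : (Fin N → F) →ₗ[F] (Fin 2 → F) :=
    { toFun := fun a => ![bl (ι a) ℓ.p, bl (ι a) ℓ.r]
      map_add' := fun a b => by funext i; fin_cases i <;> simp [bl_add_left]
      map_smul' := fun a b => by funext i; fin_cases i <;> simp [bl_smul_left] }
  set U := Submodule.span F ({ℓ.p, ℓ.r} : Set VV) with hU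
  set P := U ⊓ LinearMap.range ι with hP
  have hsum := LinearMap.finrank_range_add_finrank_ker Λ
  rw [Module.finrank_pi, Fintype.card_fin] at hsum
  have hrange : Module.finrank F (LinearMap.range Λ) ≤ 2 :=
    (Submodule.finrank_le _).trans (by rw [Module.finrank_pi, Fintype.card_fin])
  have hK : Module.finrank F (LinearMap.ker Λ) ≤ Module.finrank F P := by
    rw [(Submodule.equivMapOfInjective ι hι _).finrank_eq]
    refine Submodule.finrank_mono ?_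
    rintro _ ⟨a, ha, rfl⟩
    have ha' := LinearMap.mem_ker.1 ha
    exact ⟨hcon _ (hq a) (congrFun ha' 0) (congrFun ha' 1), a, rfl⟩
  have hU2 : Module.finrank F U ≤ 2 := by
    rw [hU, show ({ℓ.p, ℓ.r} : Set VV) = Set.range ![ℓ.p, ℓ.r] by simp [Set.pair_comm]]
    exact (finrank_range_le_card _).trans (by simp)
  by_cases hPb : P = ⊥
  · rw [hPb, finrank_bot] at hK
    omega
  obtain ⟨v, ⟨hvU, a0, rfl⟩, hv0⟩ := Submodule.exists_mem_ne_zero_of_ne_bot hPb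
  obtain ⟨α, β, hab⟩ := Submodule.mem_span_pair.1 hvU
  have hnt : LinearMap.range Λ ≠ ⊤ := by
    intro htop
    have hab0 : ∀ w : Fin 2 → F, α * w 0 + β * w 1 = 0 := by
      intro w
      obtain ⟨a, rfl⟩ : w ∈ LinearMap.range Λ := htop ▸ Submodule.mem_top
      have : bl (ι a) (ι a0) = 0 := by simp [bl_eq, ι]
      rw [← hab, bl_add_right, bl_smul_right, bl_smul_right] at this
      exact this
    have hα := hab0 ![1, 0]
    have hβ := hab0 ![0, 1]
    simp at hα hβ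
    exact hv0 (by rw [← hab, hα, hβ]; simp)
  have hr1 : Module.finrank F (LinearMap.range Λ) ≤ 1 := by
    have := Submodule.finrank_lt hnt
    rw [Module.finrank_pi, Fintype.card_fin] at this
    omega
  have hP2 : Module.finrank F P ≤ 2 := (Submodule.finrank_mono inf_le_left).trans hU2
  by_cases hPU : U ≤ LinearMap.range ι
  · obtain ⟨ap, hap⟩ := hPU (Submodule.subset_span (Set.mem_insert _ _))
    obtain ⟨ar, har⟩ := hPU (Submodule.subset_span (Set.mem_insert_of_mem _ rfl))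
    have h0 : LinearMap.range Λ = ⊥ := by
      rw [LinearMap.range_eq_bot]
      refine LinearMap.ext fun a => funext fun i => ?_
      fin_cases i
      · show bl (ι a) ℓ.p = 0
        rw [← hap]; simp [bl_eq, ι]
      · show bl (ι a) ℓ.r = 0
        rw [← har]; simp [bl_eq, ι]
    rw [h0, finrank_bot] at hsum
    omega
  · have : Module.finrank F P < Module.finrank F U :=
      Submodule.finrank_lt_finrank_of_lt (lt_of_le_of_ne inf_le_left fun e => hPU (e ▸ inf_le_right))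
    omega

/-- Adjacency of root groups. -/
def Conn (ℓ m : Ln F N) : Prop :=
  Relation.ReflTransGen (fun A B => (∃ z : Ln F N, A = R z) ∧ (∃ z : Ln F N, B = R z) ∧ Cfsg.IsRankOnePair A B) (R ℓ) (R m)

theorem conn_coplanar {ℓ m : Ln F N} (hp : m.p = ℓ.p) (hrs : bl ℓ.r m.r = 0)
    (hind : ∀ a b c : F, a • ℓ.p + b • ℓ.r + c • m.r = 0 → a = 0 ∧ b = 0 ∧ c = 0) : Conn ℓ m := by
  have hli : LinearIndependent F ![ℓ.p, ℓ.r, m.r] := Fintype.linearIndependent_iff.2 fun g hg i => by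
    rw [Fin.sum_univ_three] at hg
    obtain ⟨e0, e1, e2⟩ := hind (g 0) (g 1) (g 2) hg
    fin_cases i <;> assumption
  have hps : bl ℓ.p m.r = 0 := hp ▸ m.hpr
  obtain ⟨v1, hv1⟩ := exists_dual hli ![1, 0, 0]
  have v1p : bl v1 ℓ.p = 1 := hv1 0
  have v1r : bl v1 ℓ.r = 0 := hv1 1
  have v1s : bl v1 m.r = 0 := hv1 2
  set y1 := v1 + (-QQ v1) • ℓ.p with hy1
  have y1q : QQ y1 = 0 := by rw [hy1, q_add, q_smul, ℓ.hp, bl_smul_right, v1p]; ring
  have y1p : bl y1 ℓ.p = 1 := by rw [hy1, bl_add_left, bl_smul_left, bl_self_zero ℓ.hp, v1p]; ring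
  have y1r : bl y1 ℓ.r = 0 := by rw [hy1, bl_add_left, bl_smul_left, ℓ.hpr, v1r]; ring
  have y1s : bl y1 m.r = 0 := by rw [hy1, bl_add_left, bl_smul_left, hps, v1s]; ring
  have hli4 : LinearIndependent F ![ℓ.p, ℓ.r, m.r, y1] := Fintype.linearIndependent_iff.2 fun g hg i => by
    rw [Fin.sum_univ_four] at hg
    have h3 : g 3 = 0 := by
      have := congrArg (fun v => bl v ℓ.p) hg
      simp [bl_add_left, bl_smul_left, bl_self_zero ℓ.hp, bl_comm ℓ.r ℓ.p, ℓ.hpr, bl_comm m.r ℓ.p, hps, y1p,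
        bl_zero_left] at this
      exact this
    obtain ⟨e0, e1, e2⟩ := hind (g 0) (g 1) (g 2) (by simpa [h3] using hg)
    fin_cases i <;> assumption
  obtain ⟨v2, hv2⟩ := exists_dual hli4 ![0, 1, 1, 0]
  have v2p : bl v2 ℓ.p = 0 := hv2 0
  have v2r : bl v2 ℓ.r = 1 := hv2 1
  have v2s : bl v2 m.r = 1 := hv2 2
  have v2y : bl v2 y1 = 0 := hv2 3
  set y2 := v2 + (-QQ v2) • ℓ.r with hy2
  have y2q : QQ y2 = 0 := by rw [hy2, q_add, q_smul, ℓ.hr, bl_smul_right, v2r]; ring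
  have y2p : bl y2 ℓ.p = 0 := by rw [hy2, bl_add_left, bl_smul_left, bl_comm ℓ.r ℓ.p, ℓ.hpr, v2p]; ring
  have y2r : bl y2 ℓ.r = 1 := by rw [hy2, bl_add_left, bl_smul_left, bl_self_zero ℓ.hr, v2r]; ring
  have y2s : bl y2 m.r = 1 := by rw [hy2, bl_add_left, bl_smul_left, hrs, v2s]; ring
  have y12 : bl y1 y2 = 0 := by rw [hy2, bl_add_right, bl_smul_right, y1r, bl_comm y1 v2, v2y]; ring
  let k : Ln F N := ⟨y1, y2, y1q, y2q, y12, fun a b h => by
    have ha := congrArg (fun v => bl v ℓ.p) h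
    have hb := congrArg (fun v => bl v ℓ.r) h
    simp [bl_add_left, bl_smul_left, y1p, y2p, y1r, y2r, bl_zero_left] at ha hb
    exact ⟨ha, hb⟩⟩
  have h1 : Cfsg.IsRankOnePair (R ℓ) (R k) := (opp (by
    simp [k, bl_comm ℓ.p, bl_comm ℓ.r, y1p, y2p, y1r, y2r])).1
  have h2 : Cfsg.IsRankOnePair (R k) (R m) := (opp (by
    simp [k, hp, y1p, y2p, y1s, y2s])).1
  exact (Relation.ReflTransGen.single ⟨⟨ℓ, rfl⟩, ⟨k, rfl⟩, h1⟩).tail ⟨⟨k, rfl⟩, ⟨m, rfl⟩, h2⟩

theorem conn_point (hN : 3 ≤ N) {ℓ m : Ln F N} (hp : m.p = ℓ.p) : Conn ℓ m := by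
  by_cases hind : ∀ a b c : F, a • ℓ.p + b • ℓ.r + c • m.r = 0 → a = 0 ∧ b = 0 ∧ c = 0
  swap
  · push Not at hind
    obtain ⟨a, b, c, h, hne⟩ := hind
    have hc : c ≠ 0 := fun hc => by
      rw [hc, zero_smul, add_zero] at h
      obtain ⟨ha, hb⟩ := ℓ.hli a b h
      exact hne ha hb hc
    have hb : b ≠ 0 := fun hb => by
      rw [hb, zero_smul, add_zero] at h
      obtain ⟨ha, hc'⟩ := m.hli a c (by rw [hp]; exact h)
      exact hc hc'
    have : R m = R ℓ := R_change (a := 1) (b := 0) (c := -a / c) (e := -b / c) (by simp [hb, hc]) (by simp [hp]) (by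
      have e1 : c • m.r = -(a • ℓ.p + b • ℓ.r) := eq_neg_of_add_eq_zero_right h
      rw [← inv_smul_smul₀ hc m.r, e1]
      match_scalars <;> field_simp)
    show Relation.ReflTransGen _ (R ℓ) (R m)
    rw [this]
  by_cases hrs : bl ℓ.r m.r = 0
  · exact conn_coplanar hp hrs hind
  obtain ⟨t, htq, htp, htr, htn⟩ := exists_third hN ℓ
  have hps : bl ℓ.p m.r = 0 := hp ▸ m.hpr
  set u := t + (-(bl t m.r / bl ℓ.r m.r)) • ℓ.r with hu
  have uq : QQ u = 0 := by rw [hu, q_add, q_smul, ℓ.hr, bl_smul_right, htr, htq]; ring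
  have up : bl ℓ.p u = 0 := by rw [hu, bl_add_right, bl_smul_right, ℓ.hpr, bl_comm, htp]; ring
  have ur : bl ℓ.r u = 0 := by rw [hu, bl_add_right, bl_smul_right, bl_self_zero ℓ.hr, bl_comm, htr]; ring
  have us : bl u m.r = 0 := by
    rw [hu, bl_add_left, bl_smul_left, neg_mul, div_mul_cancel₀ _ hrs, add_neg_cancel]
  have hun : ∀ a b c : F, a • ℓ.p + b • ℓ.r + c • u = 0 → a = 0 ∧ b = 0 ∧ c = 0 := by
    intro a b c h
    have hc : c = 0 := by
      by_contra hc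
      refine htn (Submodule.mem_span_pair.2 ⟨-(a / c), bl t m.r / bl ℓ.r m.r - b / c, ?_⟩)
      have e1 : c • u = -(a • ℓ.p + b • ℓ.r) := eq_neg_of_add_eq_zero_right h
      have e2 : t = c⁻¹ • (c • u) + (bl t m.r / bl ℓ.r m.r) • ℓ.r := by
        rw [inv_smul_smul₀ hc, hu]; module
      rw [e1] at e2
      conv_rhs => rw [e2]
      match_scalars <;> field_simp <;> ring
    rw [hc, zero_smul, add_zero] at h
    obtain ⟨ha, hb⟩ := ℓ.hli a b h
    exact ⟨ha, hb, hc⟩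
  let n : Ln F N := ⟨ℓ.p, u, ℓ.hp, uq, up, fun a c h => by
    obtain ⟨ha, -, hc⟩ := hun a 0 c (by rw [zero_smul, add_zero]; exact h)
    exact ⟨ha, hc⟩⟩
  refine (conn_coplanar (ℓ := ℓ) (m := n) rfl ur hun).trans (conn_coplanar (ℓ := n) (m := m) hp us ?_)
  intro a b c h
  have hc : c = 0 := by
    have := congrArg (fun v => bl v ℓ.r) h
    simp [n, bl_add_left, bl_smul_left, bl_comm u ℓ.r, ur, bl_comm m.r ℓ.r, ℓ.hpr, hrs, bl_zero_left] at this
    exact this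
  rw [hc, zero_smul, add_zero] at h
  obtain ⟨ha, hb⟩ := n.hli a b h
  exact ⟨ha, hb, hc⟩

theorem conn_eq {ℓ m ℓ' m' : Ln F N} (h1 : R ℓ' = R ℓ) (h2 : R m' = R m) (h : Conn ℓ' m') : Conn ℓ m := by
  rw [Conn, h1, h2] at h; exact h

theorem conn_all (hN : 3 ≤ N) (ℓ m : Ln F N) : Conn ℓ m := by
  obtain ⟨a, b, c, e, hd, hk⟩ : ∃ a b c e : F, a * e - b * c ≠ 0 ∧ a * bl ℓ.p m.p + b * bl ℓ.r m.p = 0 := by
    by_cases g : bl ℓ.r m.p = 0
    · exact ⟨0, 1, 1, 0, by simp, by rw [g]; ring⟩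
    · exact ⟨bl ℓ.r m.p, -bl ℓ.p m.p, 0, 1, by simpa using g, by ring⟩
  set ℓ' := ℓ.change a b c e hd with hl'
  have hx : bl ℓ'.p m.p = 0 := by simp only [hl', Ln.change, bl_add_left, bl_smul_left]; exact hk
  refine conn_eq (R_of_change ℓ a b c e hd) rfl ?_
  by_cases hind : ∀ x y : F, x • ℓ'.p + y • m.p = 0 → x = 0 ∧ y = 0
  · let n : Ln F N := ⟨ℓ'.p, m.p, ℓ'.hp, m.hp, hx, hind⟩
    have hs : (0 : F) * 0 - 1 * 1 ≠ 0 := by simp
    have h1 : Conn ℓ' n := conn_point hN rfl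
    have h2 : Conn (n.change 0 1 1 0 hs) m := conn_point hN (by simp [Ln.change, n])
    exact h1.trans (conn_eq (R_of_change n 0 1 1 0 hs) rfl h2)
  · push Not at hind
    obtain ⟨x, y, hxy, hne⟩ := hind
    have hx0 : x ≠ 0 := by
      intro h0
      rw [h0, zero_smul, zero_add, smul_eq_zero] at hxy
      exact hne h0 (hxy.resolve_right m.ne_p)
    have hy0 : y ≠ 0 := by
      intro hy
      rw [hy, zero_smul, add_zero, smul_eq_zero] at hxy
      exact hx0 (hxy.resolve_right ℓ'.ne_p)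
    have hd2 : -(y / x) * 1 - 0 * 0 ≠ 0 := by simp [hx0, hy0]
    refine conn_eq rfl (R_of_change m (-(y / x)) 0 0 1 hd2) (conn_point hN ?_)
    show (-(y / x)) • m.p + (0 : F) • m.r = ℓ'.p
    rw [← inv_smul_smul₀ hx0 ℓ'.p, eq_neg_of_add_eq_zero_left hxy]
    match_scalars <;> field_simp <;> simp

theorem root_set (ℓ : Ln F N) :
    Subgroup.closure {σ : GG | ∀ v : VV, bl v ℓ.p = 0 → bl v ℓ.r = 0 → mt σ *ᵥ v = v} = R ℓ := by
  convert Subgroup.closure_eq (R ℓ) using 2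
  ext σ
  constructor
  · intro hσ
    obtain ⟨y1, hy1⟩ := exists_dual (ln_li ℓ) ![1, 0]
    obtain ⟨y2, hy2⟩ := exists_dual (ln_li ℓ) ![0, 1]
    have a1 : bl y1 ℓ.p = 1 := hy1 0
    have a2 : bl y1 ℓ.r = 0 := hy1 1
    have b1 : bl y2 ℓ.p = 0 := hy2 0
    have b2 : bl y2 ℓ.r = 1 := hy2 1
    set δ := fun v => mt σ *ᵥ v - v with hδ
    have hlin : ∀ v, δ v = bl v ℓ.p • δ y1 + bl v ℓ.r • δ y2 := by
      intro v
      have h := hσ (v - bl v ℓ.p • y1 - bl v ℓ.r • y2) (by simp [bl_sub_left, bl_smul_left, a1, b1])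
        (by simp [bl_sub_left, bl_smul_left, a2, b2])
      rw [mulVec_sub, mulVec_sub, mulVec_smul, mulVec_smul] at h
      simp only [hδ]
      rw [← sub_eq_zero] at h ⊢
      rw [← h]; module
    have hperp : ∀ v w, bl w ℓ.p = 0 → bl w ℓ.r = 0 → bl w (δ v) = 0 := by
      intro v w h1 h2
      simp only [hδ]
      rw [bl_sub_right]
      conv_lhs => arg 1; rw [← hσ w h1 h2]
      rw [mt_bl, sub_self]
    have hmemU : ∀ v, δ v = bl y1 (δ v) • ℓ.p + bl y2 (δ v) • ℓ.r := by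
      intro v
      refine sub_eq_zero.1 (eq_zero_of_bl fun x => ?_)
      have h := hperp v (x - bl x ℓ.p • y1 - bl x ℓ.r • y2) (by simp [bl_sub_left, bl_smul_left, a1, b1])
        (by simp [bl_sub_left, bl_smul_left, a2, b2])
      simp only [bl_sub_left, bl_smul_left] at h
      simp only [bl_sub_right, bl_add_right, bl_smul_right]
      linear_combination h
    have hiso : ∀ v, bl v (δ v) = 0 := by
      intro v
      have h := mt_q σ v
      have e : mt σ *ᵥ v = v + δ v := by simp [hδ]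
      rw [e, q_add] at h
      have hq : QQ (δ v) = 0 := by rw [hmemU v, q_add, q_smul, q_smul, ℓ.hp, ℓ.hr, bl_smul_left, bl_smul_right, ℓ.hpr]; ring
      linear_combination h - hq
    have i1 : bl y1 (δ y1) = 0 := hiso y1
    have i2 : bl y2 (δ y2) = 0 := hiso y2
    have i3 : bl y1 (δ y2) + bl y2 (δ y1) = 0 := by
      have h := hiso (y1 + y2)
      have e : δ (y1 + y2) = δ y1 + δ y2 := by simp [hδ, mulVec_add]; abel
      rw [e, bl_add_left, bl_add_right, bl_add_right, i1, i2] at h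
      linear_combination h
    refine ⟨bl y1 (δ y2), gg_ext fun v => ?_⟩
    have m1 := hmemU y1
    have m2 := hmemU y2
    rw [i1, eq_neg_of_add_eq_zero_right i3] at m1
    rw [i2] at m2
    rw [X_apply, show mt σ *ᵥ v = v + δ v by simp [hδ], hlin v]
    generalize bl y1 (δ y2) = t at m1 m2 ⊢
    rw [m1, m2]
    module
  · rintro ⟨c, rfl⟩ v h1 h2
    rw [X_apply, h1, h2, mul_zero, zero_smul, zero_smul, add_zero, sub_zero]

end

set_option maxHeartbeats 800000 in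
/-- Let F be a field, m a natural number and V = F^{2(m+3)} with the hyperbolic quadratic form q(x, y) = Σ xᵢ yᵢ (non-degenerate, Witt index m + 3 ≥ 3). For a singular line ℓ (a 2-dimensional subspace on which q vanishes) let T(ℓ) be the group of isometries of q fixing every vector of ℓ^⊥ (the Siegel transvection group of ℓ), let Σ be the set of these groups and G₀ the subgroup they generate. Then, viewed inside G₀, the members of Σ form a set of abstract F-root subgroups of G₀ (any two commute, or are the unipotent subgroups of a rank one group that is an image of SL₂(F) with central kernel, or satisfy the commutator case), and their graph of rank one pairs is connected. -/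
theorem result (F : Type*) [Field F] (m : ℕ) :
    Cfsg.IsKRootSubgroupSet F ((fun A : Subgroup ↥(Cfsg.isometryGroup F (Cfsg.quadFormPlus (m + 3) F)) => A.subgroupOf (⨆ B ∈ {A : Subgroup ↥(Cfsg.isometryGroup F (Cfsg.quadFormPlus (m + 3) F)) | ∃ p r : Fin (m + 3) ⊕ Fin (m + 3) → F, LinearIndependent F ![p, r] ∧
          Cfsg.quadFormPlus (m + 3) F p = 0 ∧ Cfsg.quadFormPlus (m + 3) F r = 0 ∧
          Cfsg.quadFormPlus (m + 3) F (p + r) = 0 ∧
          A = Subgroup.closure {σ : ↥(Cfsg.isometryGroup F (Cfsg.quadFormPlus (m + 3) F)) | ∀ v : Fin (m + 3) ⊕ Fin (m + 3) → F,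
            Cfsg.quadFormPlus (m + 3) F (v + p) - Cfsg.quadFormPlus (m + 3) F v - Cfsg.quadFormPlus (m + 3) F p = 0 →
            Cfsg.quadFormPlus (m + 3) F (v + r) - Cfsg.quadFormPlus (m + 3) F v - Cfsg.quadFormPlus (m + 3) F r = 0 →
              ((σ : Matrix.GeneralLinearGroup (Fin (m + 3) ⊕ Fin (m + 3)) F) : Matrix (Fin (m + 3) ⊕ Fin (m + 3)) (Fin (m + 3) ⊕ Fin (m + 3)) F) *ᵥ v = v}}, B)) ''
      {A : Subgroup ↥(Cfsg.isometryGroup F (Cfsg.quadFormPlus (m + 3) F)) | ∃ p r : Fin (m + 3) ⊕ Fin (m + 3) → F, LinearIndependent F ![p, r] ∧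
          Cfsg.quadFormPlus (m + 3) F p = 0 ∧ Cfsg.quadFormPlus (m + 3) F r = 0 ∧
          Cfsg.quadFormPlus (m + 3) F (p + r) = 0 ∧
          A = Subgroup.closure {σ : ↥(Cfsg.isometryGroup F (Cfsg.quadFormPlus (m + 3) F)) | ∀ v : Fin (m + 3) ⊕ Fin (m + 3) → F,
            Cfsg.quadFormPlus (m + 3) F (v + p) - Cfsg.quadFormPlus (m + 3) F v - Cfsg.quadFormPlus (m + 3) F p = 0 →
            Cfsg.quadFormPlus (m + 3) F (v + r) - Cfsg.quadFormPlus (m + 3) F v - Cfsg.quadFormPlus (m + 3) F r = 0 →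
              ((σ : Matrix.GeneralLinearGroup (Fin (m + 3) ⊕ Fin (m + 3)) F) : Matrix (Fin (m + 3) ⊕ Fin (m + 3)) (Fin (m + 3) ⊕ Fin (m + 3)) F) *ᵥ v = v}}) ∧
    Cfsg.IsConnectedFamily (Cfsg.FAdj {A : Subgroup ↥(Cfsg.isometryGroup F (Cfsg.quadFormPlus (m + 3) F)) | ∃ p r : Fin (m + 3) ⊕ Fin (m + 3) → F, LinearIndependent F ![p, r] ∧
          Cfsg.quadFormPlus (m + 3) F p = 0 ∧ Cfsg.quadFormPlus (m + 3) F r = 0 ∧
          Cfsg.quadFormPlus (m + 3) F (p + r) = 0 ∧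
          A = Subgroup.closure {σ : ↥(Cfsg.isometryGroup F (Cfsg.quadFormPlus (m + 3) F)) | ∀ v : Fin (m + 3) ⊕ Fin (m + 3) → F,
            Cfsg.quadFormPlus (m + 3) F (v + p) - Cfsg.quadFormPlus (m + 3) F v - Cfsg.quadFormPlus (m + 3) F p = 0 →
            Cfsg.quadFormPlus (m + 3) F (v + r) - Cfsg.quadFormPlus (m + 3) F v - Cfsg.quadFormPlus (m + 3) F r = 0 →
              ((σ : Matrix.GeneralLinearGroup (Fin (m + 3) ⊕ Fin (m + 3)) F) : Matrix (Fin (m + 3) ⊕ Fin (m + 3)) (Fin (m + 3) ⊕ Fin (m + 3)) F) *ᵥ v = v}})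
      {A : Subgroup ↥(Cfsg.isometryGroup F (Cfsg.quadFormPlus (m + 3) F)) | ∃ p r : Fin (m + 3) ⊕ Fin (m + 3) → F, LinearIndependent F ![p, r] ∧
          Cfsg.quadFormPlus (m + 3) F p = 0 ∧ Cfsg.quadFormPlus (m + 3) F r = 0 ∧
          Cfsg.quadFormPlus (m + 3) F (p + r) = 0 ∧
          A = Subgroup.closure {σ : ↥(Cfsg.isometryGroup F (Cfsg.quadFormPlus (m + 3) F)) | ∀ v : Fin (m + 3) ⊕ Fin (m + 3) → F,
            Cfsg.quadFormPlus (m + 3) F (v + p) - Cfsg.quadFormPlus (m + 3) F v - Cfsg.quadFormPlus (m + 3) F p = 0 →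
            Cfsg.quadFormPlus (m + 3) F (v + r) - Cfsg.quadFormPlus (m + 3) F v - Cfsg.quadFormPlus (m + 3) F r = 0 →
              ((σ : Matrix.GeneralLinearGroup (Fin (m + 3) ⊕ Fin (m + 3)) F) : Matrix (Fin (m + 3) ⊕ Fin (m + 3)) (Fin (m + 3) ⊕ Fin (m + 3)) F) *ᵥ v = v}} := by
  classical
  set S0 := {A : Subgroup ↥(Cfsg.isometryGroup F (Cfsg.quadFormPlus (m + 3) F)) | ∃ p r : Fin (m + 3) ⊕ Fin (m + 3) → F, LinearIndependent F ![p, r] ∧
          Cfsg.quadFormPlus (m + 3) F p = 0 ∧ Cfsg.quadFormPlus (m + 3) F r = 0 ∧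
          Cfsg.quadFormPlus (m + 3) F (p + r) = 0 ∧
          A = Subgroup.closure {σ : ↥(Cfsg.isometryGroup F (Cfsg.quadFormPlus (m + 3) F)) | ∀ v : Fin (m + 3) ⊕ Fin (m + 3) → F,
            Cfsg.quadFormPlus (m + 3) F (v + p) - Cfsg.quadFormPlus (m + 3) F v - Cfsg.quadFormPlus (m + 3) F p = 0 →
            Cfsg.quadFormPlus (m + 3) F (v + r) - Cfsg.quadFormPlus (m + 3) F v - Cfsg.quadFormPlus (m + 3) F r = 0 →
              ((σ : Matrix.GeneralLinearGroup (Fin (m + 3) ⊕ Fin (m + 3)) F) : Matrix (Fin (m + 3) ⊕ Fin (m + 3)) (Fin (m + 3) ⊕ Fin (m + 3)) F) *ᵥ v = v}} with hS0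
  have hpol : ∀ u v : Fin (m + 3) ⊕ Fin (m + 3) → F,
      quadFormPlus (m + 3) F (u + v) - quadFormPlus (m + 3) F u - quadFormPlus (m + 3) F v = bl u v := fun u v => by
    rw [q_add]; ring
  have hset : ∀ ℓ : Ln F (m + 3), Subgroup.closure {σ : ↥(Cfsg.isometryGroup F (Cfsg.quadFormPlus (m + 3) F)) | ∀ v : Fin (m + 3) ⊕ Fin (m + 3) → F,
            Cfsg.quadFormPlus (m + 3) F (v + ℓ.p) - Cfsg.quadFormPlus (m + 3) F v - Cfsg.quadFormPlus (m + 3) F ℓ.p = 0 →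
            Cfsg.quadFormPlus (m + 3) F (v + ℓ.r) - Cfsg.quadFormPlus (m + 3) F v - Cfsg.quadFormPlus (m + 3) F ℓ.r = 0 →
              ((σ : Matrix.GeneralLinearGroup (Fin (m + 3) ⊕ Fin (m + 3)) F) : Matrix (Fin (m + 3) ⊕ Fin (m + 3)) (Fin (m + 3) ⊕ Fin (m + 3)) F) *ᵥ v = v} = R ℓ := by
    intro ℓ
    simp only [hpol]
    exact root_set ℓ
  have hmem : ∀ A, A ∈ S0 ↔ ∃ ℓ : Ln F (m + 3), A = R ℓ := by
    intro A
    constructor
    · rintro ⟨p, r, hli, hp, hr, hpr, rfl⟩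
      have hb : bl p r = 0 := by rw [q_add, hp, hr] at hpr; linear_combination hpr
      exact ⟨⟨p, r, hp, hr, hb, LinearIndependent.pair_iff.1 hli⟩, hset ⟨p, r, hp, hr, hb, LinearIndependent.pair_iff.1 hli⟩⟩
    · rintro ⟨ℓ, rfl⟩
      exact ⟨ℓ.p, ℓ.r, ln_li ℓ, ℓ.hp, ℓ.hr, by rw [q_add, ℓ.hp, ℓ.hr, ℓ.hpr]; ring, (hset ℓ).symm⟩
  refine ⟨kroot_subgroupOf S0 ?_ ?_ ?_ ?_, ?_⟩
  · intro A hA; obtain ⟨ℓ, rfl⟩ := (hmem A).1 hA; exact R_commutative ℓ
  · intro A hA; obtain ⟨ℓ, rfl⟩ := (hmem A).1 hA; exact R_ne_bot ℓ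
  · intro A hA g; obtain ⟨ℓ, rfl⟩ := (hmem A).1 hA; exact (hmem _).2 ⟨_, conjBy_R g ℓ⟩
  · intro A hA B hB
    obtain ⟨ℓ, rfl⟩ := (hmem A).1 hA
    obtain ⟨k, rfl⟩ := (hmem B).1 hB
    exact pair_case ℓ k fun z => (hmem _).2 ⟨z, rfl⟩
  · intro A hA B hB
    obtain ⟨ℓ, rfl⟩ := (hmem A).1 hA
    obtain ⟨k, rfl⟩ := (hmem B).1 hB
    have h : Relation.ReflTransGen _ (R ℓ) (R k) := conn_all (by omega) ℓ k
    exact Relation.ReflTransGen.mono (fun A B (h : (∃ z : Ln F (m + 3), A = R z) ∧ (∃ z : Ln F (m + 3), B = R z) ∧ Cfsg.IsRankOnePair A B) =>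
      (⟨(hmem A).2 h.1, (hmem B).2 h.2.1, h.2.2⟩ : Cfsg.FAdj S0 A B)) _ _ h

end Cfsg.Agent.S5072
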