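import Cfsg.Statements.S5094
import Cfsg.Agent.Lib.Inv.ZStarTwo
import Cfsg.Agent.Lib.Fusion.GroupSystem

set_option autoImplicit false
open Cfsg

namespace Cfsg.Agent.S5094

/-- Glauberman's Z*-Theorem in fusion language: for a finite group G with Sylow 2-subgroup S, the centre of the fusion system of G on S is the set of elements of S whose image in G/O(G) is central, O(G) being the largest normal subgroup of odd order. -/
theorem result {G : Type*} [Group G] [Finite G] (S : Sylow 2 G) : (Cfsg.groupFusionSystem (S : Subgroup G)).center = (S : Subgroup G) ⊓ (Subgroup.center (G ⧸ Cfsg.oddCore G)).comap (QuotientGroup.mk' (Cfsg.oddCore G)) := by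
  classical
  haveI : Fact (Nat.Prime 2) := ⟨Nat.prime_two⟩
  set O := oddCore G with hO
  set Q := (S : Subgroup G) ⊓ (Subgroup.center (G ⧸ O)).comap (QuotientGroup.mk' O) with hQ
  have hcomm : ∀ q ∈ Q, ∀ x : G, x * q * x⁻¹ * q⁻¹ ∈ O := by
    intro q hq x
    rw [← QuotientGroup.eq_one_iff]
    have h := Subgroup.mem_center_iff.1 hq.2 (QuotientGroup.mk' O x)
    simp only [QuotientGroup.mk'_apply] at h
    rw [QuotientGroup.mk_mul, QuotientGroup.mk_mul, QuotientGroup.mk_mul, QuotientGroup.mk_inv,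
      QuotientGroup.mk_inv, h, mul_inv_cancel_right, mul_inv_cancel]
  have hcop : ∀ R : Subgroup G, IsPGroup 2 R → (Nat.card R).Coprime (Nat.card O) := by
    intro R hR
    obtain ⟨k, hk⟩ := hR.exists_card_eq
    rw [hk]
    exact Nat.Coprime.pow_left k (Nat.coprime_two_left.2 Local.oddCore_card_odd)
  have hSO : (S : Subgroup G) ⊓ O = ⊥ :=
    Solv.inf_eq_bot_of_coprime_card _ _ (hcop _ S.isPGroup')
  have hQZ : ∀ q ∈ Q, ∀ s ∈ (S : Subgroup G), s * q = q * s := by
    intro q hq s hs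
    have : s * q * s⁻¹ * q⁻¹ ∈ (S : Subgroup G) ⊓ O := Subgroup.mem_inf.2
      ⟨mul_mem (mul_mem (mul_mem hs hq.1) (inv_mem hs)) (inv_mem hq.1), hcomm q hq s⟩
    rw [hSO, Subgroup.mem_bot, mul_inv_eq_one, mul_inv_eq_iff_eq_mul] at this
    exact this
  apply le_antisymm
  · refine sSup_le fun R hR z hz => Subgroup.mem_inf.2 ⟨hR.1 hz, ?_⟩
    obtain ⟨hRS, hext⟩ := hR
    have hiso : ∀ g : G, g * z * g⁻¹ ∈ (S : Subgroup G) → g * z * g⁻¹ = z := by
      intro g hg
      have hφ : Cfsg.conjHom (Subgroup.zpowers z) g ∈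
          (Cfsg.groupFusionSystem (S : Subgroup G)).Hom (Subgroup.zpowers z) := by
        refine ⟨Subgroup.zpowers_le.2 (hRS hz), fun x => ?_, g, fun x => rfl⟩
        obtain ⟨n, hn⟩ := Subgroup.mem_zpowers_iff.1 x.2
        show g * (x : G) * g⁻¹ ∈ (S : Subgroup G)
        rw [← hn, ← conj_zpow]
        exact zpow_mem hg n
      obtain ⟨ψ, -, h1, h2⟩ := hext _ _ hφ
      have e1 := h1 ⟨z, Subgroup.mem_zpowers z⟩
      have e2 := h2 ⟨z, hz⟩
      exact e1.symm.trans e2
    rw [Subgroup.mem_comap, Subgroup.mem_center_iff]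
    intro q
    obtain ⟨x, rfl⟩ := QuotientGroup.mk'_surjective O q
    have h := (QuotientGroup.eq_one_iff _).2 (Inv.isolatedElt S (hRS hz) hiso x)
    rw [QuotientGroup.mk_mul, QuotientGroup.mk_mul, QuotientGroup.mk_mul, QuotientGroup.mk_inv,
      QuotientGroup.mk_inv, mul_inv_eq_one, mul_inv_eq_iff_eq_mul] at h
    exact h
  · refine le_sSup ⟨inf_le_left, fun P φ hφ => ?_⟩
    obtain ⟨hPS, hφS, g, hg⟩ := hφ
    set H := (Q ⊔ O) ⊓ Subgroup.centralizer (Set.range φ) with hH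
    have hQcent : ∀ q ∈ Q, q ∈ Subgroup.centralizer (Set.range φ) := by
      rintro q hq _ ⟨x, rfl⟩
      exact hQZ q hq _ (hφS x)
    have hQH : Q ≤ H := fun q hq => Subgroup.mem_inf.2 ⟨Subgroup.mem_sup_left hq, hQcent q hq⟩
    have hQp : IsPGroup 2 Q := S.isPGroup'.to_le inf_le_left
    have hmax : Fusion.IsMaxP 2 Q H := by
      refine ⟨hQH, hQp, fun U hU hUp => Nat.le_of_dvd Nat.card_pos ?_⟩
      have h1 : Nat.card U ∣ Nat.card Q * Nat.card O := by
        refine (Subgroup.card_dvd_of_le (hU.trans inf_le_left)).trans ?_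
        rw [sup_comm, mul_comm]
        exact Solv.card_sup_dvd_of_normal O Q
      exact (hcop U hUp).dvd_of_dvd_mul_right h1
    set Q' := Q.map (MulAut.conj g).toMonoidHom with hQ'
    have hQ'H : Q' ≤ H := by
      rintro _ ⟨q, hq, rfl⟩
      refine Subgroup.mem_inf.2 ⟨?_, ?_⟩
      · have h := mul_mem (Subgroup.mem_sup_right (hcomm q hq g) : _ ∈ Q ⊔ O)
          (Subgroup.mem_sup_left hq)
        rw [inv_mul_cancel_right] at h
        simpa using h
      · rintro _ ⟨x, rfl⟩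
        have h := hQZ q hq (x : G) (hPS x.2)
        show φ x * (g * q * g⁻¹) = g * q * g⁻¹ * φ x
        rw [hg x, show g * (x : G) * g⁻¹ * (g * q * g⁻¹) = g * ((x : G) * q) * g⁻¹ by group, h]
        group
    obtain ⟨n, hn, hle⟩ := hmax.exists_conj_le hQ'H (hQp.map _)
    set g' := n * g with hg'
    have hfix : ∀ q ∈ Q, g' * q * g'⁻¹ = q := by
      intro q hq
      have hmem : g' * q * g'⁻¹ ∈ Q := hle ⟨g * q * g⁻¹, ⟨q, hq, by simp⟩, by simp [hg', mul_assoc]⟩
      have : g' * q * g'⁻¹ * q⁻¹ ∈ (S : Subgroup G) ⊓ O :=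
        Subgroup.mem_inf.2 ⟨mul_mem hmem.1 (inv_mem hq.1), hcomm q hq g'⟩
      rw [hSO, Subgroup.mem_bot, mul_inv_eq_one] at this
      exact this
    have hsame : ∀ x : P, g' * (x : G) * g'⁻¹ = φ x := by
      intro x
      have h := (Subgroup.mem_inf.1 hn).2 (φ x) ⟨x, rfl⟩
      rw [hg', show n * g * (x : G) * (n * g)⁻¹ = n * (g * (x : G) * g⁻¹) * n⁻¹ by group, ← hg x, ← h,
        mul_inv_cancel_right]
    refine ⟨Cfsg.conjHom (P ⊔ Q) g', ⟨sup_le hPS inf_le_left, ?_, g', fun x => rfl⟩,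
      fun x => hsame x, fun q => hfix q q.2⟩
    rintro ⟨y, hy⟩
    have hle' : P ⊔ Q ≤ (S : Subgroup G).comap (MulAut.conj g').toMonoidHom := by
      refine sup_le (fun x hx => ?_) (fun q hq => ?_)
      · show g' * x * g'⁻¹ ∈ (S : Subgroup G)
        rw [hsame ⟨x, hx⟩]
        exact hφS _
      · show g' * q * g'⁻¹ ∈ (S : Subgroup G)
        rw [hfix q hq]
        exact hq.1
    exact hle' hy

end Cfsg.Agent.S5094
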