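import Cfsg.Statements.S5107
import Cfsg.Agent.Lib.Fusion.NormalCriteria
import Cfsg.Agent.Lib.Fusion.GroupSystem

set_option autoImplicit false
open Cfsg

namespace Cfsg.Agent.S5107

/-- If a Sylow p-subgroup S of a finite group G has nilpotency class at most two and its centre is strongly closed in S with respect to G, then every map of the fusion system of G on S is conjugation by an element of N_G(S), and S is the largest subgroup normal in that fusion system. -/
theorem result {G : Type*} [Group G] [Finite G] (p : ℕ) [Fact p.Prime] (S : Sylow p G) (hcl : ⁅(S : Subgroup G), (S : Subgroup G)⁆ ≤ (S : Subgroup G) ⊓ Subgroup.centralizer ((S : Subgroup G) : Set G)) (hZ : Cfsg.IsStronglyClosed ((S : Subgroup G) ⊓ Subgroup.centralizer ((S : Subgroup G) : Set G)) (S : Subgroup G)) : (∀ (P : Subgroup G) (φ : P →* G), φ ∈ (Cfsg.groupFusionSystem (S : Subgroup G)).Hom P → ∃ g ∈ Subgroup.normalizer ((S : Subgroup G) : Set G), ∀ x : P, φ x = g * (x : G) * g⁻¹) ∧ (Cfsg.groupFusionSystem (S : Subgroup G)).core = S := by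
  set F := Cfsg.groupFusionSystem (S : Subgroup G) with hFdef
  set Z := (S : Subgroup G) ⊓ Subgroup.centralizer ((S : Subgroup G) : Set G) with hZdef
  have hF := Fusion.isSaturated_groupFusionSystem S
  have hsc : F.StronglyClosed Z := by
    refine Fusion.stronglyClosed_of_apply_mem inf_le_left fun R f hR hf x hx => ?_
    obtain ⟨-, hfS, g, hg⟩ := Fusion.isMor_groupFusionSystem.1 hf
    rw [hg x hx]
    exact hZ.2 x (hR hx) g (hg x hx ▸ hfS x hx)
  have hscS : F.StronglyClosed (S : Subgroup G) :=
    Fusion.stronglyClosed_of_apply_mem le_rfl fun R f _ hf x hx =>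
      (Fusion.isMor_groupFusionSystem.1 hf).2.1 x hx
  have hSn : F.IsNormal (S : Subgroup G) := by
    refine (Fusion.isNormal_iff_chain S.isPGroup' hF).2 ⟨2, ![⊥, Z, (S : Subgroup G)], rfl, rfl,
      Fin.monotone_iff_le_succ.2 ?_, ?_⟩
    · intro i
      fin_cases i
      · exact bot_le
      · exact inf_le_left
    · intro i
      fin_cases i
      · refine ⟨hsc, Subgroup.commutator_le.2 fun a ha b hb => ?_⟩
        rw [commutatorElement_eq_one_iff_mul_comm.2 (Subgroup.mem_centralizer_iff.1 hb.2 a ha)]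
        exact one_mem _
      · exact ⟨hscS, hcl⟩
  refine ⟨fun P φ hφ => ?_, ?_⟩
  · obtain ⟨ψ, hψ, he, hS'⟩ := hSn.2 P φ hφ
    obtain ⟨-, hψS, g, hg⟩ := hψ
    have hgn : g ∈ Subgroup.normalizer ((S : Subgroup G) : Set G) := by
      refine Subgroup.mem_normalizer_fintype fun y hy => ?_
      have := hψS ⟨y, Subgroup.mem_sup_right hy⟩
      rwa [hg] at this
    refine ⟨g, hgn, fun x => ?_⟩
    rw [← he x, hg]
    rfl
  · exact le_antisymm (sSup_le fun Q hQ => hQ.1) (le_sSup hSn)

end Cfsg.Agent.S5107
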