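import Cfsg.Statements.S5112
import Cfsg.Agent.Lib.Fusion.EssentialControl
import Cfsg.Agent.Lib.Fusion.DihedralModel
import Cfsg.Agent.Lib.Fusion.QuasiDihedralAut

set_option autoImplicit false
open Cfsg

namespace Cfsg.Agent.S5112

/-- If S is a dihedral or generalized quaternion 2-group of order at least 16, then in every saturated fusion system over S (at the prime 2) the automorphism group Aut_F(S) consists of the inner automorphisms of S. -/
theorem result {Ω : Type*} [Group Ω] {S : Subgroup Ω} [Finite S] (n : ℕ) (hn : 4 ≤ n) (hshape : Nonempty (S ≃* DihedralGroup (2 ^ (n - 1))) ∨ Nonempty (S ≃* QuaternionGroup (2 ^ (n - 2)))) (F : Cfsg.FusionSystem S) (hF : F.IsSaturated 2) : F.autGroup S = Cfsg.Inn S := by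
  haveI : Fact (Nat.Prime 2) := ⟨Nat.prime_two⟩
  have hS : IsPGroup 2 S ∧ IsPGroup 2 (MulAut S) := by
    rcases hshape with ⟨⟨e⟩⟩ | ⟨⟨e⟩⟩
    · exact ⟨(IsPGroup.of_card (n := n) (by
          rw [DihedralGroup.nat_card, ← pow_succ']; congr 1; omega) : IsPGroup 2 (DihedralGroup (2 ^ (n - 1)))).of_equiv e.symm,
        (Cfsg.Agent.Fusion.DihedralModel.isPGroup_mulAut_self (k := n - 1) (by omega)).of_equiv
          (MulAut.congr e.symm)⟩
    · set m := 2 ^ (n - 2) with hm
      haveI : NeZero m := ⟨pow_ne_zero _ two_ne_zero⟩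
      haveI : NeZero (2 * m) := ⟨by have := NeZero.ne m; omega⟩
      have h4 : 4 ≤ m := by
        rw [hm]; exact (show (4 : ℕ) = 2 ^ 2 by norm_num) ▸ Nat.pow_le_pow_right two_pos (by omega)
      have hcard : Nat.card (QuaternionGroup m) = 2 ^ n := by
        rw [Nat.card_eq_fintype_card, QuaternionGroup.card, hm, show (4 : ℕ) = 2 ^ 2 by norm_num, ← pow_add]
        congr 1; omega
      refine ⟨(IsPGroup.of_card hcard).of_equiv e.symm, IsPGroup.of_equiv ?_ (MulAut.congr e.symm)⟩
      refine Cfsg.Agent.Fusion.QuasiDihedral.isPGroup_mulAut_of_cyclic_part hcard (QuaternionGroup.a 1) ?_ (fun α => ?_)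
      · have hmul := (Subgroup.zpowers (QuaternionGroup.a 1 : QuaternionGroup m)).card_mul_index
        rw [Nat.card_zpowers, QuaternionGroup.orderOf_a_one, Nat.card_eq_fintype_card, QuaternionGroup.card] at hmul
        have : 2 * m * (Subgroup.zpowers (QuaternionGroup.a 1 : QuaternionGroup m)).index = 2 * m * 2 := by
          rw [hmul]; ring
        exact (Nat.eq_of_mul_eq_mul_left (by omega) this).le
      · rcases hval : α (QuaternionGroup.a 1) with j | j
        · exact Subgroup.mem_zpowers_iff.2 ⟨((j.val : ℕ) : ℤ), by rw [zpow_natCast, QuaternionGroup.a_one_pow, ZMod.natCast_zmod_val]⟩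
        · have ho := MulEquiv.orderOf_eq α (QuaternionGroup.a 1)
          rw [hval, QuaternionGroup.orderOf_xa, QuaternionGroup.orderOf_a_one] at ho
          omega
  refine le_antisymm ?_ (Cfsg.Agent.Fusion.inn_le_autGroup le_rfl)
  refine (Cfsg.Agent.Fusion.EssentialControl.autGroup_self_le hS.1 hF (hS.2.to_subgroup _)).trans ?_
  refine (Subgroup.closure_le _).2 ?_
  rintro α ⟨g, hg, hx⟩
  exact ⟨⟨g, hg⟩, MulEquiv.ext fun x => Subtype.ext (by simp [hx x])⟩

end Cfsg.Agent.S5112
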