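import Cfsg.Statements.S5119
import Cfsg.Agent.Lib.Fusion.InvariantCriterion

set_option autoImplicit false
open Cfsg

namespace Cfsg.Agent.S5119

/-- Let F be a saturated fusion system over a finite p-group S and E a subsystem of F over a subgroup T that is strongly closed in F. Then E is invariant in F (invariance under Aut_F(T) plus the Frattini condition) if and only if the strong invariance condition holds: for P ≤ Q ≤ T, every map φ of E from P into Q and every map ψ of F with source Q, the transported map ψ φ ψ⁻¹ on ψ(P) is a map of E. -/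
theorem result {Ω : Type*} [Group Ω] {S : Subgroup Ω} [Finite S] (p : ℕ) [Fact p.Prime] (hS : IsPGroup p S) (F : Cfsg.FusionSystem S) (hF : F.IsSaturated p) {T : Subgroup Ω} (E : Cfsg.FusionSystem T) (hE : E.IsSubsystemOf F) (hT : F.StronglyClosed T) : E.IsInvariantIn F ↔ ∀ (P Q : Subgroup Ω) (hPQ : P ≤ Q) (_ : Q ≤ T) (φ : P →* Ω) (_ : φ ∈ E.Hom P) (hφQ : ∀ x : P, φ x ∈ Q) (ψ : Q →* Ω) (_ : ψ ∈ F.Hom Q), ∃ χ ∈ E.Hom ((P.subgroupOf Q).map ψ), ∀ (x : P) (hx : ψ (Subgroup.inclusion hPQ x) ∈ (P.subgroupOf Q).map ψ), χ ⟨ψ (Subgroup.inclusion hPQ x), hx⟩ = ψ ⟨φ x, hφQ x⟩ := by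
  constructor
  · intro h P Q hPQ hQT φ hφ hφQ ψ hψ
    obtain ⟨α, hα, g, hg, he⟩ := Fusion.invariant_frattini h hQT (Fusion.isMor_extFun hψ)
    obtain ⟨gi, hgi, hgl, -⟩ := hg.isIso.exists_symm
    have hfm := Fusion.isMor_extFun hφ
    have hmem : ∀ y ∈ hg.image P hPQ, gi y ∈ P := by
      rintro _ ⟨x, hx, rfl⟩
      rw [hgl x (hPQ hx)]; exact hx
    have himg : hg.image P hPQ ≤ hg.image Q le_rfl := by
      rintro _ ⟨x, hx, rfl⟩; exact ⟨x, hPQ hx, rfl⟩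
    have h0 : Fusion.IsMor E (hg.image P hPQ) (g ∘ Fusion.extFun φ ∘ gi) :=
      ((hgi.1.restrict himg).comp hfm hmem).comp hg fun y hy => by
        show Fusion.extFun φ (gi y) ∈ Q
        rw [Fusion.extFun_apply φ (hmem y hy)]
        exact hφQ _
    obtain ⟨P', k, hP', hk, hkx⟩ := Fusion.invariant_transport h h0 hα
    have hP'eq : P' = (P.subgroupOf Q).map ψ := by
      ext y
      rw [hP']
      constructor
      · rintro ⟨_, ⟨x, hx, rfl⟩, rfl⟩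
        exact ⟨⟨x, hPQ hx⟩, hx, by rw [← he x (hPQ hx), Fusion.extFun_apply ψ (hPQ hx)]⟩
      · rintro ⟨x, hx, rfl⟩
        exact ⟨g x, ⟨x, hx, rfl⟩, by rw [← he x x.2, Fusion.extFun_coe]⟩
    subst hP'eq
    obtain ⟨χ, hχ, hχe⟩ := hk
    refine ⟨χ, hχ, fun x hx => ?_⟩
    rw [hχe ⟨_, hx⟩]
    show k (ψ (Subgroup.inclusion hPQ x)) = _
    have e1 : ψ (Subgroup.inclusion hPQ x) = Fusion.autFun α (g x) := by
      rw [← he x (hPQ x.2), Fusion.extFun_apply ψ (hPQ x.2)]; rfl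
    rw [e1, hkx (g x) ⟨x, x.2, rfl⟩]
    show Fusion.autFun α (g (Fusion.extFun φ (gi (g x)))) = _
    rw [hgl x (hPQ x.2), Fusion.extFun_coe, ← he _ (hφQ x), Fusion.extFun_apply ψ (hφQ x)]
  · intro h
    have hinv : Fusion.StrongInv F E := by
      rintro P Q φ ψ hPQ hQT ⟨φ', hφ', hφe⟩ hφQ ⟨ψ', hψ', hψe⟩
      have hφQ' : ∀ x : P, φ' x ∈ Q := fun x => by rw [hφe]; exact hφQ x x.2
      obtain ⟨χ, hχ, hx⟩ := h P Q hPQ hQT φ' hφ' hφQ' ψ' hψ'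
      refine ⟨_, Fusion.extFun χ, fun y => ⟨?_, ?_⟩, Fusion.isMor_extFun hχ, fun x hxP => ?_⟩
      · rintro ⟨x, hx', rfl⟩
        exact ⟨x, hx', (hψe x).symm⟩
      · rintro ⟨x, hx', rfl⟩
        exact ⟨⟨x, hPQ hx'⟩, hx', hψe ⟨x, hPQ hx'⟩⟩
      · have hm : ψ' (Subgroup.inclusion hPQ ⟨x, hxP⟩) ∈ (P.subgroupOf Q).map ψ' :=
          ⟨Subgroup.inclusion hPQ ⟨x, hxP⟩, hxP, rfl⟩
        have e0 : ψ x = ψ' (Subgroup.inclusion hPQ ⟨x, hxP⟩) := (hψe ⟨x, hPQ hxP⟩).symm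
        rw [e0, Fusion.extFun_apply χ hm, hx ⟨x, hxP⟩ hm, hψe, ← hφe ⟨x, hxP⟩]
    refine ⟨hE, hT, fun P hPT φ hφ α hα => ?_, fun P hPT φ hφ => ?_⟩
    · have hψ : T.subtype.comp α.toMonoidHom ∈ F.Hom T := (Fusion.mem_autGroup hT.1).1 hα
      obtain ⟨χ, hχ, hx⟩ := h P T hPT le_rfl φ hφ (E.le_of_mem hφ).2 _ hψ
      exact ⟨χ, hχ, fun x hφx hαx => hx x hαx⟩
    · obtain ⟨α, hα, g, ⟨g', hg', hge⟩, he⟩ := Fusion.decomp_of_strongInv hS hF hE hT hinv P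
        (Fusion.extFun φ) hPT (Fusion.isMor_extFun hφ)
      refine ⟨α, hα, g', hg', fun x hx => ?_⟩
      rw [← Fusion.extFun_coe φ x, he x x.2, ← hge x, Fusion.autFun_apply α hx]

end Cfsg.Agent.S5119
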