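import Cfsg.Statements.S5125
import Cfsg.Agent.Lib.Fusion.NormalCriteria

set_option autoImplicit false
open Cfsg

namespace Cfsg.Agent.S5125

/-- Let F be a saturated fusion system over a finite p-group S and Q a subgroup strongly closed in F. If Q has a subgroup Q₁ that is normal in F, with Q/Q₁ abelian and Aut_F(Q₁) a p-group, then Q is normal in F. -/
theorem result {Ω : Type*} [Group Ω] {S : Subgroup Ω} [Finite S] (p : ℕ) [Fact p.Prime] (hS : IsPGroup p S) (F : Cfsg.FusionSystem S) (hF : F.IsSaturated p) (Q Q₁ : Subgroup Ω) (hQ : F.StronglyClosed Q) (hQ₁Q : Q₁ ≤ Q) (hQ₁ : F.IsNormal Q₁) (hab : ⁅Q, Q⁆ ≤ Q₁) (hAut : IsPGroup p ↥(F.autGroup Q₁)) : F.IsNormal Q := by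
  have hQS : Q ≤ S := hQ.1
  have hS1 : S ≤ Subgroup.normalizer (Q₁ : Set Ω) := Fusion.normal_le_normalizer hQ₁
  have hSQ : S ≤ Subgroup.normalizer (Q : Set Ω) := Fusion.le_normalizer_of_stronglyClosed hQ
  have hfn : F.IsFullyNormalized Q₁ := ⟨hQ₁.1, fun R _ => by
    have h1 : Cfsg.FusionSystem.normalizerIn S Q₁ = S := inf_eq_left.2 hS1
    rw [h1]
    exact Nat.card_le_card_of_injective (Subgroup.inclusion inf_le_left) (Subgroup.inclusion_injective _)⟩
  obtain ⟨⟨-, R, hR⟩, -⟩ := Fusion.fullyNormalized_receptive hS hF hfn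
  have hRtop : (R : Subgroup (F.autGroup Q₁)) = ⊤ :=
    (R.is_maximal' (Q := ⊤) (hAut.of_equiv Subgroup.topEquiv.symm) le_top).symm
  have hSC : ∀ U : Subgroup Ω, U ≤ Q₁ → S ≤ Subgroup.normalizer (U : Set Ω) → F.StronglyClosed U := by
    intro U hU hUn
    refine Fusion.stronglyClosed_of_apply_mem (hU.trans hQ₁.1) fun W f hW hf x hx => ?_
    obtain ⟨α, hα, he⟩ := Fusion.extAut_of_isNormal hQ₁ hf (hW.trans hU)
    have hα' : (⟨α, hα⟩ : F.autGroup Q₁) ∈ (R : Subgroup (F.autGroup Q₁)) := hRtop ▸ Subgroup.mem_top _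
    rw [hR, Subgroup.mem_subgroupOf] at hα'
    obtain ⟨a, ha, -, hax⟩ := Fusion.mem_autInducedBy.1 hα'
    rw [← he x hx, Fusion.autFun_apply α (hU (hW hx))]
    rw [hax ⟨x, hU (hW hx)⟩]
    exact Fusion.conj_mem_of_mem_normalizer (hUn ha) (hW hx)
  obtain ⟨n, C, h0, hn, hm, hc, hC⟩ := Fusion.exists_central_series (p := p) hS hQS
  have hCn : ∀ i, S ≤ Subgroup.normalizer ((Q₁ ⊓ C i : Subgroup Ω) : Set Ω) := by
    intro i
    intro a ha
    have key : ∀ b ∈ S, ∀ x ∈ C i, b * x * b⁻¹ ∈ C i := by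
      intro b hb x hx
      have := (hC i).2.fixed (Q.normalizerMonoidHom ⟨b, hSQ hb⟩)
      have hmem : (⟨x, (hC i).1 hx⟩ : Q) ∈ ((C i).subgroupOf Q).comap
          (Q.normalizerMonoidHom ⟨b, hSQ hb⟩).toMonoidHom := this.symm ▸ hx
      exact hmem
    refine Subgroup.mem_normalizer_iff.2 fun x => ⟨fun hx => ?_, fun hx => ?_⟩
    · exact ⟨Fusion.conj_mem_of_mem_normalizer (hS1 ha) hx.1, key a ha x hx.2⟩
    · have h1 := Fusion.conj_mem_of_mem_normalizer (hS1 (Subgroup.inv_mem _ ha)) hx.1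
      have h2 := key a⁻¹ (Subgroup.inv_mem _ ha) _ hx.2
      have e : a⁻¹ * (a * x * a⁻¹) * a⁻¹⁻¹ = x := by group
      rw [e] at h1 h2
      exact ⟨h1, h2⟩
  refine (Fusion.isNormal_iff_chain hS hF).2 ⟨n + 1, Fin.snoc (fun i => Q₁ ⊓ C i) Q, ?_, ?_, ?_, ?_⟩
  · rw [show (0 : Fin (n + 1 + 1)) = Fin.castSucc 0 from rfl, Fin.snoc_castSucc, h0, inf_bot_eq]
  · rw [Fin.snoc_last]
  · refine Fin.monotone_iff_le_succ.2 fun i => ?_
    rw [Fin.snoc_castSucc]
    induction i using Fin.lastCases with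
    | last => rw [Fin.succ_last, Fin.snoc_last]; exact inf_le_left.trans hQ₁Q
    | cast i =>
      rw [Fin.succ_castSucc, Fin.snoc_castSucc]
      exact inf_le_inf_left _ (hm (Fin.castSucc_le_succ i))
  · intro i
    rw [Fin.snoc_castSucc]
    induction i using Fin.lastCases with
    | last =>
      rw [Fin.succ_last, Fin.snoc_last]
      refine ⟨hQ, le_inf hab ?_⟩
      rw [hn]
      exact Subgroup.commutator_le.2 fun a ha b hb => by
        rw [commutatorElement_def]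
        exact mul_mem (mul_mem (mul_mem ha hb) (Subgroup.inv_mem _ ha)) (Subgroup.inv_mem _ hb)
    | cast i =>
      rw [Fin.succ_castSucc, Fin.snoc_castSucc]
      refine ⟨hSC _ inf_le_left (hCn _), le_inf ?_ ?_⟩
      · refine Subgroup.commutator_le.2 fun a ha b hb => ?_
        rw [commutatorElement_def]
        exact mul_mem (Fusion.conj_mem_of_mem_normalizer (hS1 (hQS ha)) hb.1) (Subgroup.inv_mem _ hb.1)
      · exact (Subgroup.commutator_mono le_rfl inf_le_right).trans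
          ((Subgroup.commutator_comm _ _).le.trans (hc i))

end Cfsg.Agent.S5125
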