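import Cfsg.Statements.S5128
import Cfsg.Agent.Lib.Fusion.Factor
-- import your own Cfsg.Agent.* helpers here

set_option autoImplicit false
open Cfsg

namespace Cfsg.Agent.S5128

/-- In a saturated fusion system over a finite p-group S, the product of two strongly closed subgroups is strongly closed. -/
theorem result {Ω : Type*} [Group Ω] {S : Subgroup Ω} [Finite S] (p : ℕ) [Fact p.Prime] (hS : IsPGroup p S) (F : Cfsg.FusionSystem S) (hF : F.IsSaturated p) (T₁ T₂ : Subgroup Ω) (h₁ : F.StronglyClosed T₁) (h₂ : F.StronglyClosed T₂) : F.StronglyClosed (T₁ ⊔ T₂) := by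
    have hn := Fusion.le_normalizer_of_stronglyClosed h₁
    refine Fusion.stronglyClosed_of_apply_mem (sup_le h₁.1 h₂.1) fun R f hR hf x hx => ?_
    obtain ⟨k, hk, hke⟩ := Fusion.exists_modExt hS hF h₁ hf
    have hxT : x ∈ T₁ ⊔ T₂ := hR hx
    have hxT' : x ∈ ((T₁ ⊔ T₂ : Subgroup Ω) : Set Ω) := hxT
    rw [Subgroup.coe_mul_of_right_le_normalizer_left T₁ T₂ (h₂.1.trans hn)] at hxT'
    obtain ⟨a, ha, b, hb, rfl⟩ := hxT'
    change a * b ∈ R at hx
    have hxR : a * b ∈ R ⊔ T₁ := Subgroup.mem_sup_left hx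
    have hbR : b ∈ R ⊔ T₁ := by
      have := Subgroup.mul_mem _ (Subgroup.inv_mem _ (Subgroup.mem_sup_right (S := R) ha)) hxR
      rwa [inv_mul_cancel_left] at this
    have e : f (a * b) = k (a * b) * ((f (a * b))⁻¹ * k (a * b))⁻¹ := by group
    rw [e, hk.map_mul (Subgroup.mem_sup_right ha) hbR]
    exact mul_mem (mul_mem (Subgroup.mem_sup_left (Fusion.stronglyClosed_apply h₁ hk (Subgroup.mem_sup_right ha) ha))
      (Subgroup.mem_sup_right (Fusion.stronglyClosed_apply h₂ hk hbR hb))) (Subgroup.mem_sup_left (T₁.inv_mem ((hk.map_mul (Subgroup.mem_sup_right ha) hbR) ▸ hke _ hx)))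

end Cfsg.Agent.S5128
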