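import Cfsg.Statements.S5130
import Cfsg.Agent.Lib.Fusion.DirectFactorSub
import Cfsg.Agent.Lib.Fusion.NormalizerSystem

set_option autoImplicit false
open Cfsg Cfsg.FusionSystem Cfsg.Agent.Fusion Cfsg.Agent.Fusion.DirectFactorSub

namespace Cfsg.Agent.S5130

/-- Let F be a saturated fusion system over a finite p-group S that is the direct product of two subgroups S₁ and S₂, each strongly closed in F. Let R be the full subsystem of F over S₁ (all maps of F between subgroups of S₁) and R′ the subsystem over S₁ of those maps that extend to the subgroup generated with S₂ fixing S₂ elementwise. Then R and R′ are saturated, R′ is normal in F and in R, and R is weakly normal in F. -/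
theorem result {Ω : Type*} [Group Ω] {S : Subgroup Ω} [Finite S] (p : ℕ) [Fact p.Prime] (hS : IsPGroup p S) (F : Cfsg.FusionSystem S) (hF : F.IsSaturated p) (S₁ S₂ : Subgroup Ω) (hprod : Cfsg.IsInternalDirectProduct S₁ S₂ S) (h₁ : F.StronglyClosed S₁) (h₂ : F.StronglyClosed S₂) (R R' : Cfsg.FusionSystem S₁) (hR : ∀ P : Subgroup Ω, P ≤ S₁ → R.Hom P = F.Hom P) (hR' : ∀ P : Subgroup Ω, P ≤ S₁ → R'.Hom P = F.centralizerHom S₂ P) : R.IsSaturated p ∧ R'.IsSaturated p ∧ R'.IsNormalIn F p ∧ R'.IsNormalIn R p ∧ R.IsWeaklyNormalIn F p := by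
  obtain ⟨hS₁, hS₂, hcomm, -, hsup⟩ := hprod
  have hcomm' : ∀ a ∈ S₂, ∀ b ∈ S₁, a * b = b * a := fun a ha b hb => (hcomm b hb a ha).symm
  have := finite_of_le hS₁
  have := finite_of_le hS₂
  have hRsat : R.IsSaturated p := saturated_full hF h₁ hS₂ hcomm hsup R hR
  -- the centralizer system of the second factor
  have hfc : F.IsFullyCentralized S₂ := by
    refine ⟨hS₂, fun Q hQ => ?_⟩
    obtain ⟨f, hf⟩ := isConj_iff_exists_isIso.1 hQ
    have := hf.1.isIso_self fun x hx => sc_mem h₂ hf.1 le_rfl hx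
    rw [hf.image_unique this]
  have hS₁C : S₁ ≤ centralizerIn S S₂ := le_centralizerIn hS₁ hcomm' le_rfl
  have hR'sat : R'.IsSaturated p := by
    obtain ⟨E, hE⟩ := exists_centralizerSystem F hS₂
    have : Finite (centralizerIn S S₂) := finite_of_le centralizerIn_le
    have hEsat := centralizerSystem_saturated hS hF hfc hE
    refine saturated_full (S₂ := centralizerIn S S₂ ⊓ S₂) hEsat ⟨hS₁C, fun Q hQ φ hφ x => ?_⟩ inf_le_left
      (fun a ha b hb => hcomm a ha b hb.2) ?_ R' fun P hP => (hR' P hP).trans (hE P).symm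
    · rw [hE] at hφ
      exact h₁.2 Q hQ φ hφ.1 x
    · refine le_antisymm (sup_le hS₁C inf_le_left) fun g hg => ?_
      have hgS : g ∈ S₁ ⊔ S₂ := hsup.symm ▸ hg.1
      obtain ⟨a, ha, b, hb, rfl⟩ := split hcomm hgS
      refine mul_mem (Subgroup.mem_sup_left ha) (Subgroup.mem_sup_right ⟨?_, hb⟩)
      simpa using mul_mem (inv_mem (hS₁C ha)) hg
  -- invariance
  have hext : ∀ a, IsIso F S₁ S₁ a → ∃ k, IsIso F S S k ∧ (∀ x ∈ S₁, k x = a x) ∧ IsIso F S₂ S₂ k := by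
    intro a ha
    obtain ⟨k, hk, hke, hk2⟩ := extend hS hF h₁ h₂ hcomm le_rfl ha.1
    rw [hsup] at hk
    exact ⟨k, hk.isIso_self fun x hx => hk.mem hx, hke, hk2⟩
  have hinvR : R.IsInvariantIn F := by
    refine ⟨fun P φ hφ => hR P (R.le_of_mem hφ).1 ▸ hφ, h₁, fun P hPT φ hφ => transport_clause h₁ ?_ P hPT φ hφ,
      fun P hP φ hφ => ?_⟩
    · intro P f a ha hf hP
      obtain ⟨ψ, hψ, he⟩ := hf
      rw [hR P hP] at hψ
      have hf' : IsMor F P f := ⟨ψ, hψ, he⟩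
      obtain ⟨ai, hai, hl, -⟩ := ha.exists_symm
      have him := ha.image_le hP
      have h1 : IsMor F (ha.1.image P hP) ai := hai.1.restrict him
      have hmem : ∀ y ∈ ha.1.image P hP, ai y ∈ P := by
        rintro _ ⟨x, hx, rfl⟩
        rw [hl x (hP hx)]; exact hx
      have hg := (h1.comp hf' hmem).comp ha.1 fun y hy => sc_mem h₁ hf' hP (hmem y hy)
      obtain ⟨χ, hχ, hχe⟩ := hg
      refine ⟨a ∘ f ∘ ai, ⟨χ, by rw [hR _ him]; exact hχ, hχe⟩, fun x hx => ?_⟩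
      show a (f (ai (a x))) = a (f x)
      rw [hl x (hP hx)]
    · exact ⟨1, one_mem _, φ, by rw [hR P hP]; exact hφ, fun x hx => rfl⟩
  have hinvR' : R'.IsInvariantIn F := by
    refine ⟨fun P φ hφ => ?_, h₁, fun P hPT φ hφ => transport_clause h₁ ?_ P hPT φ hφ,
      fun P hP φ hφ => ?_⟩
    · have hP := (R'.le_of_mem hφ).1
      rw [hR' P hP] at hφ
      exact hφ.1
    · intro P f a ha hf hP
      obtain ⟨-, hfF, k, hk, hkP, hkS⟩ := (isMor_cent_iff hS₁C hR' h₁).1 hf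
      obtain ⟨A, hA, hAe, hA2⟩ := hext a ha
      obtain ⟨ai, hai, hl, hr⟩ := hA.exists_symm
      have him := ha.image_le hP
      have hmemP : ∀ y ∈ ha.1.image P hP, ai y ∈ P := by
        rintro _ ⟨x, hx, rfl⟩
        rw [← hAe x (hP hx), hl x (hS₁ (hP hx))]; exact hx
      have hmemS : ∀ y ∈ S₂, ai y ∈ S₂ := fun y hy => sc_mem h₂ (hai.1.restrict hS₂) le_rfl hy
      have hle : ha.1.image P hP ⊔ S₂ ≤ S := sup_le (him.trans hS₁) hS₂
      have hK := ((hai.1.restrict hle).comp hk fun y hy => (hai.1.restrict hle).mapsTo_sup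
        (fun z hz => Subgroup.mem_sup_left (hmemP z hz)) (fun z hz => Subgroup.mem_sup_right (hmemS z hz)) hy)
      have hK' := hK.comp hA.1 fun y hy => hK.mem hy
      refine ⟨A ∘ k ∘ ai, (isMor_cent_iff hS₁C hR' h₁).2 ⟨him, hK'.restrict le_sup_left, _, hK',
        fun _ _ => rfl, fun y hy => ?_⟩, fun x hx => ?_⟩
      · show A (k (ai y)) = y
        rw [hkS _ (hmemS y hy), hr y (hS₂ hy)]
      · show A (k (ai (a x))) = a (f x)
        rw [← hAe x (hP hx), hl x (hS₁ (hP hx)), hkP x hx, hAe _ (sc_mem h₁ hfF hP hx)]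
    · have hf := isMor_extFun hφ
      obtain ⟨k, hk, hkP, hk2⟩ := extend hS hF h₁ h₂ hcomm hP hf
      obtain ⟨G, hG, hGe, hG1⟩ := extend hS hF h₂ h₁ hcomm' le_rfl hk2.1
      rw [sup_comm, hsup] at hG
      obtain ⟨gi, hgi, hl, hr⟩ := (hG.isIso_self fun x hx => hG.mem hx).exists_symm
      have hK := hk.comp hgi.1 fun x hx => hk.mem hx
      have hm : IsMor R' P (gi ∘ k) := (isMor_cent_iff hS₁C hR' h₁).2 ⟨hP, hK.restrict le_sup_left, _, hK,
        fun _ _ => rfl, fun y hy => by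
          show gi (k y) = y
          rw [← hGe y hy, hl y (hS₂ hy)]⟩
      obtain ⟨φ₀, hφ₀, he₀⟩ := hm
      refine ⟨autOf hG1, autOf_mem hG1, φ₀, hφ₀, fun x hx => ?_⟩
      rw [autOf_apply]
      show φ x = G (φ₀ x)
      rw [he₀]
      show φ x = G (gi (k x))
      rw [hr _ (hk.mem (Subgroup.mem_sup_left x.2)), hkP x x.2, extFun_coe]
  have hAut : R.autGroup S₁ = F.autGroup S₁ := by
    unfold FusionSystem.autGroup
    rw [hR S₁ le_rfl]
  have hinvR'R : R'.IsInvariantIn R := by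
    refine ⟨fun P φ hφ => ?_, ⟨le_rfl, fun Q _ φ hφ x => (R.le_of_mem hφ).2 x⟩, ?_, fun P hP φ hφ => ?_⟩
    · rw [hR P (R'.le_of_mem hφ).1]
      exact hinvR'.1 P hφ
    · rw [hAut]
      exact hinvR'.2.2.1
    · rw [hR P hP] at hφ
      rw [hAut]
      exact hinvR'.2.2.2 P hP φ hφ
  refine ⟨hRsat, hR'sat, ⟨⟨hR'sat, hF, hinvR'⟩, fun α hα => ?_⟩, ⟨⟨hR'sat, hRsat, hinvR'R⟩, fun α hα => ?_⟩,
    hRsat, hF, hinvR⟩
  · obtain ⟨-, -, k, hk, hkP, hkS⟩ :=
      (isMor_cent_iff hS₁C hR' h₁).1 (isMor_of_mem_autGroup le_rfl hα)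
    have hT : S₁ ⊔ centralizerIn S S₁ = S :=
      le_antisymm (sup_le hS₁ centralizerIn_le)
        (hsup.symm.le.trans (sup_le_sup_left (le_centralizerIn hS₂ hcomm le_rfl) _))
    rw [hsup] at hk
    have hk' : IsIso F (S₁ ⊔ centralizerIn S S₁) (S₁ ⊔ centralizerIn S S₁) k := by
      rw [hT]; exact hk.isIso_self fun x hx => hk.mem hx
    refine ⟨autOf hk', autOf_mem hk', fun x => ?_, fun c hc => ?_⟩
    · rw [autOf_apply]
      exact (hkP x x.2).trans (autFun_coe α x)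
    · rw [autOf_apply]
      have hgS : (c : Ω) ∈ S₁ ⊔ S₂ := hsup.symm ▸ hc.1
      obtain ⟨a, ha, b, hb, hab⟩ := split hcomm hgS
      have haz : a ∈ Subgroup.centralizer (S₁ : Set Ω) := by
        have : a = (c : Ω) * b⁻¹ := by rw [hab]; group
        rw [this]
        exact mul_mem hc.2 (inv_mem (le_centralizerIn hS₂ hcomm le_rfl hb).2)
      have hkc : k (c : Ω) = ((α ⟨a, ha⟩ : S₁) : Ω) * b := by
        rw [hab, hk.map_mul (hS₁ ha) (hS₂ hb), hkP a ha, hkS b hb, autFun_apply α ha]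
      have hαz : ((α ⟨a, ha⟩ : S₁) : Ω) ∈ Subgroup.centralizer (S₁ : Set Ω) := by
        refine Subgroup.mem_centralizer_iff.2 fun y hy => ?_
        have h := congrArg (fun t : S₁ => ((α t : S₁) : Ω))
          (Subtype.ext (Subgroup.mem_centralizer_iff.1 haz _ (α⁻¹ ⟨y, hy⟩).2) :
            (α⁻¹ ⟨y, hy⟩ : S₁) * ⟨a, ha⟩ = ⟨a, ha⟩ * α⁻¹ ⟨y, hy⟩)
        simpa using h
      have e : (c : Ω)⁻¹ * k c = a⁻¹ * ((α ⟨a, ha⟩ : S₁) : Ω) := by
        rw [hkc, hab, hcomm a ha b hb]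
        have := hcomm _ (mul_mem (inv_mem ha) (α ⟨a, ha⟩).2) b hb
        calc (b * a)⁻¹ * (((α ⟨a, ha⟩ : S₁) : Ω) * b)
            = a⁻¹ * (b⁻¹ * (((α ⟨a, ha⟩ : S₁) : Ω) * b)) := by group
          _ = _ := by rw [hcomm _ (α ⟨a, ha⟩).2 b hb]; group
      rw [e]
      exact ⟨S₁.mul_mem (S₁.inv_mem ha) (α ⟨a, ha⟩).2, Subgroup.mul_mem _ (Subgroup.inv_mem _ haz) hαz⟩
  · have hT : S₁ ⊔ centralizerIn S₁ S₁ = S₁ := sup_eq_left.2 centralizerIn_le
    obtain ⟨-, hαF, -⟩ := (isMor_cent_iff hS₁C hR' h₁).1 (isMor_of_mem_autGroup le_rfl hα)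
    have hαR : IsIso R (S₁ ⊔ centralizerIn S₁ S₁) (S₁ ⊔ centralizerIn S₁ S₁) (autFun α) := by
      rw [hT]
      exact isIso_autFun le_rfl (hAut.symm ▸ mem_autGroup_of_isMor hαF fun x => (autFun_coe α x).symm)
    refine ⟨autOf hαR, autOf_mem hαR, fun x => ?_, fun c hc => ?_⟩
    · rw [autOf_apply]
      exact autFun_coe α x
    · rw [autOf_apply, autFun_apply α hc.1]
      refine ⟨S₁.mul_mem (S₁.inv_mem hc.1) (α _).2, Subgroup.mul_mem _ (Subgroup.inv_mem _ hc.2) ?_⟩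
      refine Subgroup.mem_centralizer_iff.2 fun y hy => ?_
      have h := congrArg (fun t : S₁ => ((α t : S₁) : Ω))
        (Subtype.ext (Subgroup.mem_centralizer_iff.1 hc.2 _ (α⁻¹ ⟨y, hy⟩).2) :
          (α⁻¹ ⟨y, hy⟩ : S₁) * ⟨c, hc.1⟩ = ⟨c, hc.1⟩ * α⁻¹ ⟨y, hy⟩)
      simpa using h

end Cfsg.Agent.S5130
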