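import Cfsg.Statements.S5131
import Cfsg.Agent.Lib.Fusion.FactorSystem
-- import your own Cfsg.Agent.* helpers here

set_option autoImplicit false
open Cfsg

namespace Cfsg.Agent.S5131

/-- Let F be a fusion system over a finite p-group S and F' a fusion system over S'. If α : S → S' is a morphism of fusion systems from F to F' (every map of F induces along α a map of F'), then the kernel of α is strongly closed in S with respect to F. -/
theorem result {Ω : Type*} [Group Ω] {S : Subgroup Ω} [Finite S] (p : ℕ) [Fact p.Prime] (hS : IsPGroup p S) (F : Cfsg.FusionSystem S) {Ω' : Type*} [Group Ω'] {S' : Subgroup Ω'} (F' : Cfsg.FusionSystem S') (α : S →* Ω') (hα : F.IsMorphism F' α) : F.StronglyClosed ((α.ker).map S.subtype) := by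
    refine ⟨fun x hx => ?_, fun R hR φ hφ x => ?_⟩
    · obtain ⟨y, -, rfl⟩ := hx
      exact y.2
    · obtain ⟨φ', hφ', hi⟩ := hα.2 R φ hφ
      obtain ⟨hR', hv, hm, hi⟩ := Fusion.inducedAlong_iff.1 hi
      refine ⟨⟨φ x, hv x⟩, ?_, rfl⟩
      show α ⟨φ x, hv x⟩ = 1
      rw [← Fusion.qfun_apply α, ← Fusion.extFun_coe φ x, ← hi x x.2]
      obtain ⟨y, hy, hye⟩ := hR x.2
      have h1 : Fusion.qfun α (x : Ω) = 1 := by
        rw [← hye]
        exact (Fusion.qfun_coe α y).trans hy
      rw [h1, Fusion.extFun_apply φ' (Subgroup.one_mem _)]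
      exact map_one φ'

end Cfsg.Agent.S5131
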