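import Cfsg.Statements.S5135
import Cfsg.Agent.Lib.Fusion.GroupSystem
import Cfsg.Agent.Lib.Fusion.FactorSystem
-- import your own Cfsg.Agent.* helpers here

set_option autoImplicit false
open Cfsg

namespace Cfsg.Agent.S5135

/-- Let G be a finite group, S a Sylow p-subgroup and H a normal subgroup of G. Then the fusion system of G/H on the image SH/H of S is the factor system of the fusion system of G on S modulo S ∩ H, read through the quotient map restricted to S: for each subgroup P' of SH/H, the conjugation maps by elements of G/H defined on P' with values in SH/H are exactly the homomorphisms induced by the conjugation maps by elements of G defined on the full preimage of P' in S with values in S. -/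
theorem result {G : Type*} [Group G] [Finite G] (p : ℕ) [Fact p.Prime] (S : Sylow p G) (H : Subgroup G) [H.Normal] : (Cfsg.groupFusionSystem (S : Subgroup G)).IsFactorSystem ((S : Subgroup G) ⊓ H) ((QuotientGroup.mk' H).comp (S : Subgroup G).subtype) (Cfsg.groupFusionSystem ((S : Subgroup G).map (QuotientGroup.mk' H))) := by
    set π := QuotientGroup.mk' H with hπ
    set θ := π.comp (S : Subgroup G).subtype with hθ
    have hq : ∀ x ∈ (S : Subgroup G), Fusion.qfun θ x = π x := fun x hx => Fusion.qfun_apply θ hx
    have hr : θ.range = (S : Subgroup G).map π := by rw [hθ, MonoidHom.range_comp, Subgroup.range_subtype]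
    refine ⟨inf_le_left, fun s => ?_, hr, fun P' φ' => ?_⟩
    · show π (s : G) = 1 ↔ _
      rw [hπ, QuotientGroup.mk'_apply, QuotientGroup.eq_one_iff, Subgroup.mem_inf]
      exact ⟨fun h => ⟨s.2, h⟩, fun h => h.2⟩
    constructor
    · rintro ⟨hP', hv, gb, hx⟩
      refine ⟨hP', ?_⟩
      obtain ⟨g, hg⟩ := Fusion.exists_lift_conj S H (P := FusionSystem.preimageAlong θ P')
        Fusion.preimageAlong_le gb fun x hxP => by
          have h := Fusion.mem_preimageAlong.1 hxP
          have hm : π x ∈ P' := hq x h.1 ▸ h.2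
          have h1 := hx ⟨π x, hm⟩
          exact h1 ▸ hv ⟨π x, hm⟩
      refine ⟨conjHom _ g, ⟨Fusion.preimageAlong_le, fun x => (hg x x.2).1, g, fun x => rfl⟩,
        Fusion.inducedAlong_iff.2 ⟨Fusion.preimageAlong_le, fun x => (hg x x.2).1,
          fun x hxP => (Fusion.mem_preimageAlong.1 hxP).2, fun x hxP => ?_⟩⟩
      have h := Fusion.mem_preimageAlong.1 hxP
      rw [Fusion.extFun_apply φ' h.2, Fusion.extFun_apply _ hxP, hx, Fusion.conjHom_apply,
        hq _ (hg x hxP).1]
      show gb * Fusion.qfun θ x * gb⁻¹ = _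
      rw [hq x h.1]
      exact (hg x hxP).2.symm
    · rintro ⟨hP', φ, ⟨hP, hv, g, hx⟩, hi⟩
      obtain ⟨-, -, -, hi⟩ := Fusion.inducedAlong_iff.1 hi
      have key : ∀ y : P', φ' y = π g * y * (π g)⁻¹ ∧ φ' y ∈ (S : Subgroup G).map π := by
        intro y
        obtain ⟨x, hxP, hxy⟩ := Fusion.exists_qfun_eq hr hP' y.2
        have h := hi x hxP
        rw [hxy, Fusion.extFun_apply φ' y.2, Fusion.extFun_apply φ hxP, hq _ (hv _)] at h
        refine ⟨?_, h ▸ Subgroup.mem_map_of_mem _ (hv _)⟩
        rw [h, hx, map_mul, map_mul, map_inv, ← hxy, hq x (hP hxP)]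
      exact ⟨hP', fun y => (key y).2, π g, fun y => (key y).1⟩

end Cfsg.Agent.S5135
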