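import Cfsg.Statements.S5136
-- import your own Cfsg.Agent.* helpers here

set_option autoImplicit false
open Cfsg

namespace Cfsg.Agent.S5136

/-- Let F₁ and F₂ be fusion systems over finite p-groups S₁ and S₂ (inside ambient groups Ω₁ and Ω₂). Then their direct product exists: there is a fusion system over S₁ × S₂ inside Ω₁ × Ω₂ whose maps with source P ≤ S₁ × S₂ are exactly the restrictions to P of the homomorphisms (x₁, x₂) ↦ (φ₁ x₁, φ₂ x₂) with φ₁ a map of F₁ on the first projection of P and φ₂ a map of F₂ on the second projection. -/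
theorem result {Ω₁ Ω₂ : Type*} [Group Ω₁] [Group Ω₂] {S₁ : Subgroup Ω₁} {S₂ : Subgroup Ω₂} [Finite S₁] [Finite S₂] (p : ℕ) [Fact p.Prime] (h₁ : IsPGroup p S₁) (h₂ : IsPGroup p S₂) (F₁ : Cfsg.FusionSystem S₁) (F₂ : Cfsg.FusionSystem S₂) : ∃ E : Cfsg.FusionSystem (S₁.prod S₂), Cfsg.FusionSystem.IsProductSystem F₁ F₂ E := by
    refine ⟨{
      Hom := fun P => {φ | P ≤ S₁.prod S₂ ∧
        ∃ φ₁ ∈ F₁.Hom (P.map (MonoidHom.fst Ω₁ Ω₂)), ∃ φ₂ ∈ F₂.Hom (P.map (MonoidHom.snd Ω₁ Ω₂)),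
          ∀ (x : P) (h₁ : (x : Ω₁ × Ω₂).1 ∈ P.map (MonoidHom.fst Ω₁ Ω₂))
            (h₂ : (x : Ω₁ × Ω₂).2 ∈ P.map (MonoidHom.snd Ω₁ Ω₂)),
            φ x = (φ₁ ⟨(x : Ω₁ × Ω₂).1, h₁⟩, φ₂ ⟨(x : Ω₁ × Ω₂).2, h₂⟩)}
      le_of_mem := ?_, injective_of_mem := ?_, conj_mem := ?_, comp_mem := ?_, inv_mem := ?_ }, fun _ _ => Iff.rfl⟩
    · rintro P φ ⟨hP, φ₁, k₁, φ₂, k₂, h⟩
      refine ⟨hP, fun x => ?_⟩
      rw [h x ⟨x, x.2, rfl⟩ ⟨x, x.2, rfl⟩]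
      exact ⟨(F₁.le_of_mem k₁).2 _, (F₂.le_of_mem k₂).2 _⟩
    · rintro P φ ⟨hP, φ₁, k₁, φ₂, k₂, h⟩ x y he
      rw [h x ⟨x, x.2, rfl⟩ ⟨x, x.2, rfl⟩, h y ⟨y, y.2, rfl⟩ ⟨y, y.2, rfl⟩, Prod.mk.injEq] at he
      exact Subtype.ext (Prod.ext (congrArg Subtype.val (F₁.injective_of_mem k₁ he.1))
        (congrArg Subtype.val (F₂.injective_of_mem k₂ he.2)))
    · intro P g hP hg
      refine ⟨hP, _, F₁.conj_mem (P := P.map (MonoidHom.fst Ω₁ Ω₂)) (g := g.1) ?_ hg.1,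
        _, F₂.conj_mem (P := P.map (MonoidHom.snd Ω₁ Ω₂)) (g := g.2) ?_ hg.2, fun x _ _ => rfl⟩
      · rintro _ ⟨x, hx, rfl⟩
        exact (hP hx).1
      · rintro _ ⟨x, hx, rfl⟩
        exact (hP hx).2
    · rintro P Q φ ψ ⟨hP, φ₁, k₁, φ₂, k₂, h⟩ ⟨hQ, ψ₁, l₁, ψ₂, l₂, h'⟩ hm
      have m₁ : ∀ a, φ₁ a ∈ Q.map (MonoidHom.fst Ω₁ Ω₂) := by
        rintro ⟨_, x, hx, rfl⟩
        have e := h ⟨x, hx⟩ ⟨x, hx, rfl⟩ ⟨x, hx, rfl⟩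
        exact ⟨_, hm ⟨x, hx⟩, by rw [e]; rfl⟩
      have m₂ : ∀ a, φ₂ a ∈ Q.map (MonoidHom.snd Ω₁ Ω₂) := by
        rintro ⟨_, x, hx, rfl⟩
        have e := h ⟨x, hx⟩ ⟨x, hx, rfl⟩ ⟨x, hx, rfl⟩
        exact ⟨_, hm ⟨x, hx⟩, by rw [e]; rfl⟩
      refine ⟨hP, _, F₁.comp_mem k₁ l₁ m₁, _, F₂.comp_mem k₂ l₂ m₂, fun x g₁ g₂ => ?_⟩
      have e := h x g₁ g₂
      show ψ ⟨φ x, hm x⟩ = (ψ₁ ⟨_, m₁ _⟩, ψ₂ ⟨_, m₂ _⟩)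
      rw [h' _ ⟨_, hm x, rfl⟩ ⟨_, hm x, rfl⟩]
      simp only [e]
    · rintro P φ ⟨hP, φ₁, k₁, φ₂, k₂, h⟩
      obtain ⟨α₁, l₁, i₁⟩ := F₁.inv_mem k₁
      obtain ⟨α₂, l₂, i₂⟩ := F₂.inv_mem k₂
      have r₁ : φ.range.map (MonoidHom.fst Ω₁ Ω₂) = φ₁.range := by
        ext a
        constructor
        · rintro ⟨_, ⟨x, rfl⟩, rfl⟩
          exact ⟨_, by rw [h x ⟨x, x.2, rfl⟩ ⟨x, x.2, rfl⟩]; rfl⟩
        · rintro ⟨⟨_, x, hx, rfl⟩, rfl⟩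
          exact ⟨φ ⟨x, hx⟩, ⟨_, rfl⟩, by rw [h ⟨x, hx⟩ ⟨x, hx, rfl⟩ ⟨x, hx, rfl⟩]; rfl⟩
      have r₂ : φ.range.map (MonoidHom.snd Ω₁ Ω₂) = φ₂.range := by
        ext a
        constructor
        · rintro ⟨_, ⟨x, rfl⟩, rfl⟩
          exact ⟨_, by rw [h x ⟨x, x.2, rfl⟩ ⟨x, x.2, rfl⟩]; rfl⟩
        · rintro ⟨⟨_, x, hx, rfl⟩, rfl⟩
          exact ⟨φ ⟨x, hx⟩, ⟨_, rfl⟩, by rw [h ⟨x, hx⟩ ⟨x, hx, rfl⟩ ⟨x, hx, rfl⟩]; rfl⟩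
      have hinj : Function.Injective φ := by
        intro x y he
        rw [h x ⟨x, x.2, rfl⟩ ⟨x, x.2, rfl⟩, h y ⟨y, y.2, rfl⟩ ⟨y, y.2, rfl⟩, Prod.mk.injEq] at he
        exact Subtype.ext (Prod.ext (congrArg Subtype.val (F₁.injective_of_mem k₁ he.1))
          (congrArg Subtype.val (F₂.injective_of_mem k₂ he.2)))
      let e := MonoidHom.ofInjective hinj
      refine ⟨P.subtype.comp e.symm.toMonoidHom, ⟨?_, ?_⟩, fun x => congrArg Subtype.val (e.symm_apply_apply x)⟩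
      · rintro _ ⟨x, rfl⟩
        rw [h x ⟨x, x.2, rfl⟩ ⟨x, x.2, rfl⟩]
        exact ⟨(F₁.le_of_mem k₁).2 _, (F₂.le_of_mem k₂).2 _⟩
      rw [r₁, r₂]
      refine ⟨α₁, l₁, α₂, l₂, fun z g₁ g₂ => ?_⟩
      obtain ⟨x, rfl⟩ := e.surjective z
      have c : (e x : Ω₁ × Ω₂) = _ := h x ⟨x, x.2, rfl⟩ ⟨x, x.2, rfl⟩
      show ((e.symm (e x) : P) : Ω₁ × Ω₂) = _
      rw [e.symm_apply_apply]
      simp only [c]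
      rw [i₁, i₂]

end Cfsg.Agent.S5136
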