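import Cfsg.Statements.S5139
import Cfsg.Agent.Lib.Fusion.NormalGroupSubsystem
import Cfsg.Agent.Lib.Fusion.HyperfocalGroup
import Cfsg.Agent.Lib.Fusion.PPowerIndexContains

set_option autoImplicit false
open Cfsg Cfsg.FusionSystem Cfsg.Agent.Fusion

namespace Cfsg.Agent.S5139

/-- Let G be a finite group with Sylow p-subgroup S and O^p(G) the subgroup generated by the elements of order prime to p. Then the p-residual subsystem of the fusion system of G on S — the saturated subsystem of p-power index over the hyperfocal subgroup — is the fusion system of O^p(G) on S ∩ O^p(G): its maps are exactly the conjugation maps by elements of O^p(G) between subgroups of S ∩ O^p(G). -/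
theorem result {G : Type*} [Group G] [Finite G] (p : ℕ) [Fact p.Prime] (S : Sylow p G) (E : Cfsg.FusionSystem ((Cfsg.groupFusionSystem (S : Subgroup G)).hyperfocalSubgroup p)) (hE : (Cfsg.groupFusionSystem (S : Subgroup G)).IsPResidual p E) : ∃ h : (S : Subgroup G) ⊓ Cfsg.pResidual p G ≤ Cfsg.pResidual p G, ∀ P : Subgroup G, E.Hom P = (Cfsg.fusionSystemOfSubgroup (Cfsg.pResidual p G) ((S : Subgroup G) ⊓ Cfsg.pResidual p G) h).Hom P := by
  set F := groupFusionSystem (S : Subgroup G) with hF
  set T := (S : Subgroup G) ⊓ pResidual p G with hT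
  set E₀ := fusionSystemOfSubgroup (pResidual p G) T inf_le_right with hE₀
  have hS := S.isPGroup'
  have hhyp : F.hyperfocalSubgroup p = T := hyperfocal_group S
  have hsat : E₀.IsSaturated p := isSaturated_normal_subsystem S (pResidual p G)
  have hsub : E₀.IsSubsystemOf F := by
    rintro P φ ⟨hP, hφ, g, -, hg⟩
    exact ⟨hP.trans inf_le_left, fun x => (hφ x).1, g, hg⟩
  have hidx : E₀.HasPPowerIndexIn F p := by
    refine ⟨hsub, hhyp.le, fun P hP => ?_⟩
    have hPS : P ≤ (S : Subgroup G) := hP.trans inf_le_left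
    have hA := autGroup_groupFusionSystem (T := (S : Subgroup G)) hPS
    rintro _ ⟨α, hα, rfl⟩
    have hmem : ∀ n : Subgroup.normalizer (P : Set G),
        P.normalizerMonoidHom n ∈ F.autGroup P := fun n => by
      rw [hF, hA]
      exact mem_autInducedBy.2 ⟨n, trivial, n.2, fun _ => rfl⟩
    set π := (P.normalizerMonoidHom).codRestrict _ hmem
    have hπ : Function.Surjective π := by
      rintro ⟨β, hβ⟩
      rw [hF, hA] at hβ
      obtain ⟨g, -, hg, hgx⟩ := mem_autInducedBy.1 hβ
      exact ⟨⟨g, hg⟩, Subtype.ext (MulEquiv.ext fun y => Subtype.ext (hgx y).symm)⟩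
    rw [← map_pResidual_eq hπ] at hα
    obtain ⟨n, hn, rfl⟩ := hα
    have hk : (n : G) ∈ pResidual p G :=
      map_pResidual_le (Subgroup.normalizer (P : Set G)).subtype ⟨n, hn, rfl⟩
    refine mem_autGroup_of_isMor (f := fun y => (n : G) * y * (n : G)⁻¹) ?_ fun _ => rfl
    exact ⟨conjHom P n, ⟨hP, fun x => hP (conj_mem_of_mem_normalizer n.2 x.2), n, hk, fun _ => rfl⟩,
      fun _ => rfl⟩
  refine ⟨inf_le_right, fun P => Set.Subset.antisymm ?_ ?_⟩
  · exact PPowerIndex.subsystem_of_le hS (hyperfocal_le _ p) hhyp.le hE.1 hE.2.1 hidx P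
  · exact PPowerIndex.subsystem_of_le hS inf_le_left hhyp.symm.le hsat hsub hE.2 P

end Cfsg.Agent.S5139
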