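import Cfsg.Statements.S5290
import Cfsg.Agent.Lib.Fusion.NormalCriteria
import Cfsg.Agent.Lib.Fusion.Inner
import Cfsg.Agent.Lib.Fusion.Weakly
-- import your own Cfsg.Agent.* helpers here

set_option autoImplicit false
open Cfsg

namespace Cfsg.Agent.S5290

/-- Let F be a saturated fusion system over a finite p-group S and Q a subgroup of S. Then Q is normal in F (F = N_F(Q)) if and only if the inner fusion system of Q, consisting of the conjugations by elements of Q on subgroups of Q, is a weakly normal subsystem of F (both saturated, Q strongly closed, invariant under F-conjugation, with the Frattini property). -/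
theorem result {Ω : Type*} [Group Ω] {S : Subgroup Ω} [Finite S] (p : ℕ) [Fact p.Prime] (hS : IsPGroup p S)
    (F : Cfsg.FusionSystem S) (hF : F.IsSaturated p)
    (Q : Subgroup Ω) (hQ : Q ≤ S) :
    F.IsNormal Q ↔ (Cfsg.innerFusionSystem Q).IsWeaklyNormalIn F p := by
  constructor
  · intro h
    have := Fusion.finite_of_le hQ
    refine ⟨Fusion.inner_saturated (hS.to_le hQ), hF, ?_, Fusion.normal_stronglyClosed h, ?_, ?_⟩
    · rintro P φ ⟨hP, a, ha, hax⟩
      rw [show φ = Cfsg.conjHom P a from MonoidHom.ext hax]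
      exact F.conj_mem (hP.trans hQ) (hQ ha)
    · rintro P hPT φ ⟨-, a, ha, hax⟩ α -
      refine ⟨Cfsg.conjHom _ ((α ⟨a, ha⟩ : ↥Q) : Ω), ⟨?_, _, (α ⟨a, ha⟩).2, fun x => rfl⟩, ?_⟩
      · rintro _ ⟨x, -, rfl⟩
        exact (α x).2
      · intro x hφx hαx
        show ((α ⟨a, ha⟩ : ↥Q) : Ω) * ((α ⟨x, hPT x.2⟩ : ↥Q) : Ω) * ((α ⟨a, ha⟩ : ↥Q) : Ω)⁻¹ = _
        rw [show (⟨φ x, hφx⟩ : ↥Q) = ⟨a, ha⟩ * ⟨x, hPT x.2⟩ * (⟨a, ha⟩ : ↥Q)⁻¹ from Subtype.ext (hax x)]
        rw [map_mul, map_mul, map_inv]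
        rfl
    · intro P hPT φ hφ
      obtain ⟨α, hα, he⟩ := Fusion.extAut_of_isNormal h (Fusion.isMor_extFun hφ) hPT
      refine ⟨α, hα, P.subtype, ⟨hPT, 1, Q.one_mem, fun x => by simp⟩, fun x hx => ?_⟩
      rw [← Fusion.autFun_coe, ← Fusion.extFun_coe φ x, ← he _ x.2]
      rfl
  · intro h
    refine (Fusion.isNormal_iff_extAut hS hF hQ).2 fun P f hP hf => ?_
    obtain ⟨α, hα, g, hg, he⟩ := Fusion.invariant_frattini h.2.2 hP hf
    obtain ⟨-, a, ha, hax⟩ := Fusion.isMor_inner.1 hg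
    have haN : a ∈ Cfsg.FusionSystem.normalizerIn S Q := ⟨hQ ha, Subgroup.le_normalizer ha⟩
    refine ⟨α * Q.normalizerMonoidHom ⟨a, haN.2⟩, mul_mem hα (Fusion.conjAut_mem hQ haN).2, fun x hx => ?_⟩
    rw [Fusion.autFun_mul _ _ (hP hx), he x hx, hax x hx]
    congr 1
    rw [Fusion.autFun_apply _ (hP hx)]
    rfl

end Cfsg.Agent.S5290
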