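import Cfsg.Statements.S5337
import Cfsg.Agent.S5290
import Cfsg.Agent.Lib.Fusion.FactorClosed
import Cfsg.Agent.Lib.Fusion.Inner
-- import your own Cfsg.Agent.* helpers here

set_option autoImplicit false
open Cfsg

namespace Cfsg.Agent.S5337

/-- Let F be a saturated fusion system over a finite abelian p-group S. Then F is simple if and only if S has order p and F is the inner system of S (whose only maps are the inclusions, S being abelian). -/
theorem result {Ω : Type*} [Group Ω] {S : Subgroup Ω} [Finite S] (p : ℕ) [Fact p.Prime] (hS : IsPGroup p S) (F : Cfsg.FusionSystem S) (hF : F.IsSaturated p) (hab : ∀ x ∈ S, ∀ y ∈ S, x * y = y * x) : F.IsSimple p ↔ (Nat.card S = p ∧ ∀ P : Subgroup Ω, F.Hom P = (Cfsg.innerFusionSystem S).Hom P) := by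
  have hweak : ∀ (G : Cfsg.FusionSystem S), G.IsSaturated p → ∀ Q : Subgroup Ω, G.IsNormal Q →
      (Cfsg.innerFusionSystem Q).IsNormalIn G p := by
    intro G hG Q hQ
    refine ⟨(S5290.result p hS G hG Q hQ.1).1 hQ, fun α hα => ⟨1, one_mem _, fun x => ?_, fun c hc => ?_⟩⟩
    · obtain ⟨-, a, ha, hax⟩ := Fusion.isMor_inner.1 (Fusion.isMor_of_mem_autGroup le_rfl hα)
      have h1 := hax x x.2
      rw [Fusion.autFun_coe, hab a (hQ.1 ha) x (hQ.1 x.2), mul_inv_cancel_right] at h1
      exact h1.symm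
    · rw [MulAut.one_apply, inv_mul_cancel]
      exact one_mem _
  constructor
  · intro h
    have hSn : F.IsNormal S := Fusion.isNormal_of_abelian hS hF ⟨le_rfl, fun R hR φ hφ x => (F.le_of_mem hφ).2 x⟩
      (eq_bot_iff.2 (Subgroup.commutator_le.2 fun a ha b hb => by
        rw [Subgroup.mem_bot, commutatorElement_eq_one_iff_mul_comm]; exact hab a ha b hb))
    have hFi : ∀ P : Subgroup Ω, F.Hom P = (Cfsg.innerFusionSystem S).Hom P := fun P =>
      ((h.2.2 S _ (hweak F hF S hSn)).resolve_left h.2.1).2 P |>.symm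
    refine ⟨?_, hFi⟩
    have : Nontrivial ↥S := (Subgroup.nontrivial_iff_ne_bot S).2 h.2.1
    obtain ⟨k, hk⟩ := IsPGroup.iff_card.1 hS
    have hk0 : k ≠ 0 := fun h0 => by
      rw [h0, pow_zero] at hk
      exact absurd hk (Finite.one_lt_card).ne'
    obtain ⟨x, hx⟩ := exists_prime_orderOf_dvd_card' (G := ↥S) p (hk ▸ dvd_pow_self p hk0)
    set Q := Subgroup.zpowers (x : Ω)
    have hQS : Q ≤ S := Subgroup.zpowers_le.2 x.2
    have hQn : F.IsNormal Q := by
      refine ⟨hQS, fun P φ hφ => ?_⟩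
      rw [hFi] at hφ
      obtain ⟨hP, a, ha, hax⟩ := hφ
      refine ⟨Cfsg.conjHom (P ⊔ Q) a, F.conj_mem (sup_le hP hQS) ha, fun y => by rw [hax]; rfl, ?_⟩
      ext y
      constructor
      · rintro ⟨z, hz, rfl⟩
        show a * (z : Ω) * a⁻¹ ∈ Q
        rw [hab a ha (z : Ω) (hQS hz), mul_inv_cancel_right]
        exact hz
      · intro hy
        refine ⟨⟨y, Subgroup.mem_sup_right hy⟩, hy, ?_⟩
        show a * y * a⁻¹ = y
        rw [hab a ha _ (hQS hy), mul_inv_cancel_right]
    rcases h.2.2 Q _ (hweak F hF Q hQn) with hb | ⟨hQe, -⟩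
    · have h1 : orderOf (x : Ω) = 1 := by
        rw [orderOf_eq_one_iff]
        exact Subgroup.zpowers_eq_bot.1 hb
      rw [Subgroup.orderOf_coe, hx] at h1
      exact absurd h1 (Fact.out : p.Prime).ne_one
    · rw [← hQe, Nat.card_zpowers, Subgroup.orderOf_coe, hx]
  · rintro ⟨hc, hFi⟩
    refine ⟨hF, fun hb => ?_, fun T E hE => ?_⟩
    · rw [hb, Subgroup.card_bot] at hc
      exact (Fact.out : p.Prime).ne_one hc.symm
    · have hTS : T ≤ S := hE.1.2.2.2.1.1
      have := Fact.mk (hc ▸ (Fact.out : p.Prime) : (Nat.card ↥S).Prime)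
      rcases (T.subgroupOf S).eq_bot_or_eq_top_of_prime_card with hb | ht
      · exact Or.inl (eq_bot_iff.2 fun y hy => Subgroup.mem_bot.2 (congrArg Subtype.val
          (Subgroup.mem_bot.1 (hb.le (Subgroup.mem_subgroupOf.2 hy : (⟨y, hTS hy⟩ : ↥S) ∈ T.subgroupOf S)))))
      · have hTe : T = S := le_antisymm hTS fun y hy => ht.ge (Subgroup.mem_top (⟨y, hy⟩ : ↥S))
        subst hTe
        refine Or.inr ⟨rfl, fun P => Set.Subset.antisymm (hE.1.2.2.1 P) fun φ hφ => ?_⟩
        rw [hFi] at hφ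
        obtain ⟨hP, a, ha, hax⟩ := hφ
        rw [show φ = Cfsg.conjHom P a from MonoidHom.ext hax]
        exact E.conj_mem hP ha

end Cfsg.Agent.S5337
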