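import Cfsg.Statements.S5148
import Cfsg.Agent.S5337
import Cfsg.Agent.Lib.Fusion.FactorSystem
import Cfsg.Agent.Lib.Fusion.NormalCriteria

set_option autoImplicit false
open Cfsg

namespace Cfsg.Agent.S5148

/-- A quasisimple fusion system over a finite p-group S (saturated, equal to its p-residual subsystem, with simple — in particular nontrivial — factor system modulo its centre) has S nonabelian. -/
theorem result {Ω : Type*} [Group Ω] {S : Subgroup Ω} [Finite S] (p : ℕ) [Fact p.Prime] (hS : IsPGroup p S) (F : Cfsg.FusionSystem S) (hq : F.Quasisimple p) : ¬ IsMulCommutative S := by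
  intro hab
  obtain ⟨hF, hhyp, hsimp⟩ := hq
  set Z := F.center with hZdef
  have hZc : F.IsCentral Z := Fusion.isCentral_center F
  have hZsc : F.StronglyClosed Z := by
    refine ⟨hZc.1, fun R hR φ hφ x => ?_⟩
    obtain ⟨ψ, -, he, hfix⟩ := hZc.2 R φ hφ
    rw [← he x, show Subgroup.inclusion le_sup_left x = Subgroup.inclusion le_sup_right (⟨x, hR x.2⟩ : Z) from
      Subtype.ext rfl, hfix]
    exact hR x.2
  set θ := QuotientGroup.mk' (Z.subgroupOf S) with hθ
  have hk : ∀ s : S, θ s = 1 ↔ (s : Ω) ∈ Z := fun s => by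
    rw [hθ, QuotientGroup.mk'_apply, QuotientGroup.eq_one_iff, Subgroup.mem_subgroupOf]
  have hr : θ.range = ⊤ := MonoidHom.range_eq_top.2 (QuotientGroup.mk'_surjective _)
  obtain ⟨E, hE⟩ := Fusion.exists_factor (F := F) hk hr hZsc
  have hEs := hsimp E hE
  have hpq : IsPGroup p (⊤ : Subgroup (S ⧸ Z.subgroupOf S)) :=
    (hS.to_quotient _).to_subgroup _
  have hcomm : ∀ a : S ⧸ Z.subgroupOf S, ∀ b, a * b = b * a := by
    intro a b
    obtain ⟨a, rfl⟩ := QuotientGroup.mk_surjective a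
    obtain ⟨b, rfl⟩ := QuotientGroup.mk_surjective b
    rw [← QuotientGroup.mk_mul, ← QuotientGroup.mk_mul, IsMulCommutative.is_comm.comm a b]
  obtain ⟨hcard, hhom⟩ := (S5337.result p hpq E hEs.1 fun x _ y _ => hcomm x y).1 hEs
  have hle : F.hyperfocalSubgroup p ≤ Z := by
    refine (Subgroup.closure_le _).2 ?_
    rintro _ ⟨P, α, x, hP, -, rfl⟩
    obtain ⟨f', hf', hi⟩ := Fusion.factor_isMor_of hS hF hZsc hE
      (Fusion.isMor_of_mem_autGroup hP α.2)
    obtain ⟨φ, hφ, hφe⟩ := hf'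
    rw [hhom] at hφ
    obtain ⟨-, a, -, ha⟩ := hφ
    have hm := Fusion.imageAlong_mem (θ := θ) hP x.2
    have h1 := hφe ⟨_, hm⟩
    rw [ha, hcomm a, mul_inv_cancel_right, hi x x.2, Fusion.autFun_coe] at h1
    exact (Fusion.qfun_eq_iff hE.2.1 (hP x.2) (hP ((α : MulAut P) x).2)).1 h1
  rw [hhyp] at hle
  have htop : Z.subgroupOf S = ⊤ := Subgroup.subgroupOf_eq_top.2 hle
  rw [Subgroup.card_top, ← Subgroup.index_eq_card, htop, Subgroup.index_top] at hcard
  exact (Fact.out : p.Prime).ne_one hcard.symm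

end Cfsg.Agent.S5148
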