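import Cfsg.Statements.S5157
import Cfsg.Agent.Lib.Fusion.FactorClosed
import Cfsg.Agent.S5128
-- import your own Cfsg.Agent.* helpers here

set_option autoImplicit false
open Cfsg

namespace Cfsg.Agent.S5157

/-- A saturated fusion system F over a finite p-group S is solvable (for every subgroup R other than S that is strongly closed in F, the factor system of F modulo R has a nontrivial subgroup normal in it) if and only if there is a chain 1 = S₀ ≤ S₁ ≤ ⋯ ≤ Sₘ = S of subgroups strongly closed in F with every quotient Sᵢ₊₁/Sᵢ abelian. -/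
theorem result {Ω : Type*} [Group Ω] {S : Subgroup Ω} [Finite S] (p : ℕ) [Fact p.Prime] (hS : IsPGroup p S) (F : Cfsg.FusionSystem S) (hF : F.IsSaturated p) : F.IsSolvableSystem ↔ ∃ (n : ℕ) (T : Fin (n + 1) → Subgroup Ω), T 0 = ⊥ ∧ T (Fin.last n) = S ∧ Monotone T ∧ (∀ i, F.StronglyClosed (T i)) ∧ ∀ i : Fin n, ⁅T i.succ, T i.succ⁆ ≤ T (Fin.castSucc i) := by
    constructor
    · intro hsol
      suffices h : ∀ R : Subgroup Ω, F.StronglyClosed R → ∃ (n : ℕ) (T : Fin (n + 1) → Subgroup Ω),
          T 0 = R ∧ T (Fin.last n) = S ∧ Monotone T ∧ (∀ i, F.StronglyClosed (T i)) ∧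
            ∀ i : Fin n, ⁅T i.succ, T i.succ⁆ ≤ T (Fin.castSucc i) by
        exact h ⊥ ⟨bot_le, fun R hR φ _ x => by
          rw [show x = 1 from Subtype.ext (Subgroup.mem_bot.1 (hR x.2)), map_one]
          exact one_mem _⟩
      intro R
      induction hn : Nat.card S - Nat.card R using Nat.strong_induction_on generalizing R with
      | _ n ih =>
      subst hn
      intro hR
      by_cases hRS : R = S
      · exact ⟨0, fun _ => R, rfl, hRS, fun _ _ _ => le_rfl, fun _ => hR, fun i => i.elim0⟩
      have hnorm : (R.subgroupOf S).Normal :=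
        Subgroup.normal_subgroupOf_of_le_normalizer (Fusion.le_normalizer_of_stronglyClosed hR)
      obtain ⟨E, hE⟩ := Fusion.exists_factor (θ := QuotientGroup.mk' (R.subgroupOf S)) (S' := ⊤)
        (fun s => by rw [QuotientGroup.mk'_apply, QuotientGroup.eq_one_iff, Subgroup.mem_subgroupOf])
        (MonoidHom.range_eq_top.2 (QuotientGroup.mk'_surjective _)) hR
      have hcore := hsol R hR hRS E hE
      have hC := Fusion.isNormal_core E
      have hCp : IsPGroup p E.core := (hS.to_quotient _).to_subgroup _
      have : Nontrivial E.core := (Subgroup.nontrivial_iff_ne_bot _).2 hcore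
      have hZ := hCp.center_nontrivial
      set Z := (Subgroup.center E.core).map E.core.subtype with hZdef
      have hZne : Z ≠ ⊥ := by
        rw [hZdef, Ne, Subgroup.map_eq_bot_iff_of_injective _ E.core.subtype_injective]
        exact (Subgroup.nontrivial_iff_ne_bot _).1 hZ
      have hZn : E.IsNormal Z := Fusion.isNormal_of_characteristic hC (Subgroup.map_subtype_le _) (by
        change (Z.comap E.core.subtype).Characteristic
        rw [hZdef, Subgroup.comap_map_eq_self_of_injective E.core.subtype_injective]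
        infer_instance)
      set R₁ := FusionSystem.preimageAlong (QuotientGroup.mk' (R.subgroupOf S)) Z
      have hR₁ : F.StronglyClosed R₁ :=
        Fusion.preimage_stronglyClosed hS hF hR hE (Fusion.normal_stronglyClosed hZn)
      have hle : R ≤ R₁ := Fusion.le_preimageAlong hR.1 hE.2.1
      have hlt : R < R₁ := by
        refine lt_of_le_of_ne hle fun h => hZne (eq_bot_iff.2 fun z hz => ?_)
        obtain ⟨x, hx, rfl⟩ := Fusion.exists_qfun_eq hE.2.2.1 le_top hz
        rw [show FusionSystem.preimageAlong (QuotientGroup.mk' (R.subgroupOf S)) Z = R from h.symm] at hx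
        rw [Subgroup.mem_bot, Fusion.qfun_apply _ (hR.1 hx)]
        exact (hE.2.1 ⟨x, hR.1 hx⟩).2 hx
      have h1 := Fusion.card_lt_of_lt hR₁.1 hlt
      have h2 : Nat.card R₁ ≤ Nat.card S :=
        Nat.card_le_card_of_injective (Subgroup.inclusion hR₁.1) (Subgroup.inclusion_injective _)
      obtain ⟨n, T, h0, hl, hm, hsc, hab⟩ := ih _ (by omega) R₁ rfl hR₁
      refine ⟨n + 1, Fin.cons R T, rfl, ?_, ?_, ?_, ?_⟩
      · rw [← Fin.succ_last, Fin.cons_succ, hl]
      · refine Fin.monotone_iff_le_succ.2 fun i => ?_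
        induction i using Fin.cases with
        | zero => rw [Fin.castSucc_zero, Fin.cons_zero, Fin.cons_succ, h0]; exact hle
        | succ i =>
          rw [← Fin.succ_castSucc, Fin.cons_succ, Fin.cons_succ]
          exact hm i.castSucc_le_succ
      · intro i
        induction i using Fin.cases with
        | zero => exact hR
        | succ i => rw [Fin.cons_succ]; exact hsc i
      · intro i
        induction i using Fin.cases with
        | zero =>
          rw [Fin.castSucc_zero, Fin.cons_zero, Fin.cons_succ, h0, Subgroup.commutator_le]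
          intro a ha b hb
          obtain ⟨haS, haZ⟩ := Fusion.mem_preimageAlong.1 ha
          obtain ⟨hbS, hbZ⟩ := Fusion.mem_preimageAlong.1 hb
          rw [Fusion.qfun_apply _ haS] at haZ
          rw [Fusion.qfun_apply _ hbS] at hbZ
          refine (hE.2.1 (⟨a, haS⟩ * ⟨b, hbS⟩ * (⟨a, haS⟩ : S)⁻¹ * (⟨b, hbS⟩ : S)⁻¹)).1 ?_
          rw [map_mul, map_mul, map_mul, map_inv, map_inv]
          obtain ⟨c, hc, hca⟩ := haZ
          obtain ⟨d, -, hdb⟩ := hbZ
          rw [← hca, ← hdb, mul_inv_eq_one, mul_inv_eq_iff_eq_mul]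
          exact congrArg Subtype.val (Subgroup.mem_center_iff.1 hc d).symm
        | succ i =>
          rw [← Fin.succ_castSucc, Fin.cons_succ, Fin.cons_succ]
          exact hab i
    · rintro ⟨n, T, h0, hl, hm, hsc, hab⟩ R hR hRS hnorm E hE hcore
      have hex : ∃ i, ¬ T i ≤ R := ⟨Fin.last n, fun h => hRS (le_antisymm hR.1 (hl ▸ h))⟩
      obtain ⟨i, hi, hmin⟩ := Set.exists_min_image {i | ¬ T i ≤ R} id (Set.toFinite _) hex
      have hi0 : i ≠ 0 := fun h => hi (by rw [h, h0]; exact bot_le)
      obtain ⟨j, rfl⟩ := Fin.exists_succ_eq.2 hi0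
      have hj : T j.castSucc ≤ R := by
        by_contra h
        exact absurd (hmin _ h) (not_le.2 j.castSucc_lt_succ)
      have hnT := Fusion.le_normalizer_of_stronglyClosed hR
      have hU : F.StronglyClosed (R ⊔ T j.succ) :=
        Cfsg.Agent.S5128.result p hS F hF R _ hR (hsc _)
      have hEs := Fusion.factor_saturated hS hF hR hE
      have hUe := Fusion.image_stronglyClosed hR hE hU le_sup_left
      have : Finite (⊤ : Subgroup (S ⧸ R.subgroupOf S)) := inferInstance
      have hcomm : ⁅FusionSystem.imageAlong (QuotientGroup.mk' (R.subgroupOf S)) (R ⊔ T j.succ),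
          FusionSystem.imageAlong (QuotientGroup.mk' (R.subgroupOf S)) (R ⊔ T j.succ)⁆ = ⊥ := by
        have key : FusionSystem.imageAlong (QuotientGroup.mk' (R.subgroupOf S)) (R ⊔ T j.succ) ≤
            ((T j.succ).subgroupOf S).map (QuotientGroup.mk' (R.subgroupOf S)) := by
          intro y hy
          obtain ⟨x, hx, hxS, rfl⟩ := Fusion.mem_imageAlong.1 hy
          rw [← SetLike.mem_coe, Subgroup.coe_mul_of_right_le_normalizer_left R _ ((hsc _).1.trans hnT)] at hx
          obtain ⟨r, hr, t, ht, rfl⟩ := hx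
          refine ⟨⟨t, (hsc _).1 ht⟩, ht, ?_⟩
          have hr1 : Fusion.qfun (QuotientGroup.mk' (R.subgroupOf S)) r = 1 :=
            (Fusion.qfun_apply _ (hR.1 hr)).trans ((hE.2.1 _).2 hr)
          show _ = Fusion.qfun _ (r * t)
          rw [Fusion.qfun_mul _ (hR.1 hr) ((hsc _).1 ht), hr1, one_mul, Fusion.qfun_apply _ ((hsc _).1 ht)]
        refine eq_bot_iff.2 ((Subgroup.commutator_mono key key).trans ?_)
        rw [← Subgroup.map_commutator, le_bot_iff, Subgroup.map_eq_bot_iff, QuotientGroup.ker_mk',
          Subgroup.commutator_le]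
        intro a ha b hb
        exact hj (hab j (Subgroup.commutator_mem_commutator ha hb))
      have hNn := Fusion.isNormal_of_abelian ((hS.to_quotient _).to_subgroup _) hEs hUe hcomm
      apply hi
      intro t ht
      have h1 : Fusion.qfun (QuotientGroup.mk' (R.subgroupOf S)) t ∈
          (⊥ : Subgroup (S ⧸ R.subgroupOf S)) :=
        hcore ▸ le_sSup (show _ ∈ {Q | E.IsNormal Q} from hNn)
          (Fusion.imageAlong_mem hU.1 (Subgroup.mem_sup_right ht))
      rw [Subgroup.mem_bot, Fusion.qfun_apply _ ((hsc _).1 ht)] at h1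
      exact (hE.2.1 _).1 h1

end Cfsg.Agent.S5157
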