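import Cfsg.Statements.S5186
import Mathlib
import Cfsg.Agent.Lib.Fusion.SmallElements
import Cfsg.Agent.Lib.Struct.UniqueOrderP
import Cfsg.Agent.Lib.Local.OddPGroupInvolution
import Cfsg.Agent.Lib.Struct.CoprimeMinimal
import Cfsg.Agent.Lib.Solv.StructMisc
-- import your own Cfsg.Agent.* helpers here

set_option autoImplicit false
universe u
open Cfsg

namespace Cfsg.Agent.S5186

open Subgroup
open scoped commutatorElement

/-- Two nontrivial elements of a group of order two are equal. -/
theorem eq_of_card_two {X : Type*} [Group X] {Z : Subgroup X} (hZ : Nat.card Z = 2) {u v : X} (hu : u ∈ Z) (hv : v ∈ Z)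
    (hu1 : u ≠ 1) (hv1 : v ≠ 1) : u = v := by
  by_contra hne
  haveI : Finite Z := Nat.finite_of_card_ne_zero (by omega)
  have hinj : Function.Injective (![(1 : Z), ⟨u, hu⟩, ⟨v, hv⟩] : Fin 3 → Z) := by
    intro i j hij
    fin_cases i <;> fin_cases j <;> first | rfl | (exfalso; simp [Subtype.ext_iff] at hij; first | exact hu1 hij | exact hu1 hij.symm | exact hv1 hij | exact hv1 hij.symm | exact hne hij | exact hne hij.symm)
  have := Nat.card_le_card_of_injective _ hinj
  rw [hZ, Nat.card_fin] at this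
  omega

/-- A section of order `p` of a finite `p`-group by normal subgroups is central. -/
theorem conj_mem_of_relIndex {K : Type*} [Group K] [Finite K] {p : ℕ} [Fact p.Prime] (hK : IsPGroup p K)
    (A B : Subgroup K) [A.Normal] [B.Normal] (hi : A.relIndex B ≤ p) {x a : K} (hx : x ∈ B) :
    x⁻¹ * (a * x * a⁻¹) ∈ A := by
  set π := QuotientGroup.mk' A with hπ
  set U := B.map π
  haveI : U.Normal := Subgroup.Normal.map inferInstance π (QuotientGroup.mk'_surjective A)
  have hcard : Nat.card U ≤ p := by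
    refine le_of_eq_of_le ?_ hi
    rw [← Subgroup.relIndex_ker (f := π), hπ, QuotientGroup.ker_mk']
  have hc : ⁅U, (⊤ : Subgroup (K ⧸ A))⁆ = ⊥ := by
    by_cases hU : U = ⊥
    · rw [hU, Subgroup.commutator_bot_left]
    have hq := (hK.to_quotient A).to_subgroup (⊤ : Subgroup (K ⧸ A))
    have hlt := Cfsg.Agent.Solv.commutator_lt_of_nilpotent hq.isNilpotent (le_top : U ≤ ⊤)
      ((Subgroup.normalizer_eq_top U).symm ▸ le_rfl) hU
    obtain ⟨j, hj⟩ := IsPGroup.iff_card.1 ((hK.to_quotient A).to_subgroup ⁅U, (⊤ : Subgroup (K ⧸ A))⁆)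
    have hle := Subgroup.card_le_of_le hlt.le
    have hne : Nat.card ↥⁅U, (⊤ : Subgroup (K ⧸ A))⁆ ≠ Nat.card U := fun e =>
      hlt.ne (Subgroup.eq_of_le_of_card_ge hlt.le e.ge)
    rcases j with _ | j
    · exact Subgroup.eq_bot_of_card_eq _ (by simpa using hj)
    · exfalso
      have : p ≤ p ^ (j + 1) := le_self_pow₀ (Fact.out : p.Prime).one_lt.le (Nat.succ_ne_zero _)
      omega
  rw [← QuotientGroup.ker_mk' A, MonoidHom.mem_ker, map_mul, map_mul, map_mul, map_inv, map_inv]
  have h := Subgroup.commutator_mem_commutator (Subgroup.mem_map_of_mem π hx) (Subgroup.mem_top (π a))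
  rw [hc, Subgroup.mem_bot, commutatorElement_eq_one_iff_mul_comm] at h
  rw [← hπ, ← h, mul_inv_cancel_right, inv_mul_cancel]

theorem extraspecial_of_card {X : Type*} [Group X] [Finite X] {p : ℕ} [Fact p.Prime] (hc : Nat.card X = p ^ 3)
    (hna : ¬ ∀ a b : X, a * b = b * a) :
    Cfsg.IsExtraspecial p X := by
  have hp := (Fact.out : p.Prime)
  have hX : IsPGroup p X := IsPGroup.of_card hc
  haveI := hX.isNilpotent
  haveI : Nontrivial X := Finite.one_lt_card_iff_nontrivial.1 (hc ▸ one_lt_pow₀ hp.one_lt (by norm_num))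
  have hmul := (center X).card_mul_index
  obtain ⟨i, hi⟩ := IsPGroup.iff_card.1 (hX.to_subgroup (center X))
  haveI := hX.center_nontrivial
  have hi0 : i ≠ 0 := fun e => (Finite.one_lt_card (α := center X)).ne' (by rw [hi, e, pow_zero])
  obtain ⟨j, hj⟩ := hX.index (center X)
  have hij : i + j = 3 := by
    rw [hi, hj, hc, ← pow_add] at hmul
    exact Nat.pow_right_injective hp.two_le hmul
  have hj2 : 2 ≤ j := by
    by_contra h
    refine hna fun a b => ?_
    have hcyc : IsCyclic (X ⧸ center X) := by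
      rcases (show j = 0 ∨ j = 1 by omega) with e | e
      · haveI : Subsingleton (X ⧸ center X) := by
          rw [← Finite.card_le_one_iff_subsingleton, ← Subgroup.index_eq_card, hj, e, pow_zero]
        infer_instance
      · exact isCyclic_of_prime_card (p := p) (by rw [← Subgroup.index_eq_card, hj, e, pow_one])
    haveI := hcyc
    exact commutative_of_cyclic_center_quotient (QuotientGroup.mk' (center X)) (by rw [QuotientGroup.ker_mk']) a b
  have hZ : Nat.card (center X) = p := by rw [hi, show i = 1 by omega, pow_one]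
  have hq : Nat.card (X ⧸ center X) = p ^ 2 := by rw [← Subgroup.index_eq_card, hj, show j = 2 by omega]
  have hdle : commutator X ≤ center X := by
    rw [commutator_def, Subgroup.commutator_le]
    intro a _ b _
    rw [← QuotientGroup.eq_one_iff (N := center X), ← QuotientGroup.mk'_apply, map_commutatorElement,
      commutatorElement_eq_one_iff_mul_comm]
    exact (IsPGroup.commGroupOfCardEqPrimeSq hq).mul_comm _ _
  have hd : commutator X = center X := by
    refine Subgroup.eq_of_le_of_card_ge hdle ?_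
    obtain ⟨k, hk⟩ := IsPGroup.iff_card.1 (hX.to_subgroup (commutator X))
    have hk0 : k ≠ 0 := by
      rintro rfl
      refine hna fun a b => ?_
      have h := Subgroup.commutator_mem_commutator (Subgroup.mem_top a) (Subgroup.mem_top b)
      rw [← commutator_def, Subgroup.eq_bot_of_card_eq (commutator X) (by rw [hk, pow_zero]), Subgroup.mem_bot,
        commutatorElement_eq_one_iff_mul_comm] at h
      exact h
    rw [hZ, hk]; exact le_self_pow₀ hp.one_lt.le hk0
  have hZΦ : center X ≤ frattini X := hd ▸ Cfsg.Agent.Solv.commutator_le_frattini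
  refine ⟨⟨hX, le_antisymm ?_ hZΦ, hd⟩, hZ⟩
  by_contra hle
  have hlt : center X < frattini X := lt_of_le_not_ge hZΦ hle
  obtain ⟨k, hk⟩ := IsPGroup.iff_card.1 (hX.to_subgroup (frattini X))
  have hΦ : frattini X ≠ ⊤ := Cfsg.Agent.Struct.CoprimeMinimal.frattini_ne_top
  obtain ⟨x, hx⟩ : ∃ x, x ∉ frattini X := by
    by_contra h; push Not at h; exact hΦ ((Subgroup.eq_top_iff' _).2 h)
  have h2 : 2 ≤ k := by
    have h1 : Nat.card (center X) < Nat.card (frattini X) := lt_of_le_of_ne (Subgroup.card_le_of_le hlt.le)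
      fun e => hlt.ne (Subgroup.eq_of_le_of_card_ge hlt.le e.ge)
    rw [hZ, hk] at h1
    by_contra h2
    rcases (show k = 0 ∨ k = 1 by omega) with rfl | rfl <;> simp at h1
    exact absurd hp.one_lt (by omega)
  have htop : zpowers x ⊔ frattini X = ⊤ := by
    obtain ⟨l, hl⟩ := IsPGroup.iff_card.1 (hX.to_subgroup (zpowers x ⊔ frattini X))
    have h1 : Nat.card (frattini X) < Nat.card ↥(zpowers x ⊔ frattini X) :=
      lt_of_le_of_ne (Subgroup.card_le_of_le le_sup_right) fun e =>
        hx ((Subgroup.eq_of_le_of_card_ge le_sup_right e.ge) ▸ Subgroup.mem_sup_left (mem_zpowers x))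
    rw [hk, hl] at h1
    have h3 := (Nat.pow_lt_pow_iff_right hp.one_lt).1 h1
    refine Subgroup.eq_top_of_le_card _ ?_
    rw [hc, hl]
    exact Nat.pow_le_pow_right hp.pos (by omega)
  have hgen : zpowers x = ⊤ := frattini_nongenerating htop
  refine hna fun a b => ?_
  obtain ⟨i, rfl⟩ := mem_zpowers_iff.1 (hgen ▸ mem_top a)
  obtain ⟨j, rfl⟩ := mem_zpowers_iff.1 (hgen ▸ mem_top b)
  exact ((Commute.refl x).zpow_zpow i j).eq

/-- A group of order `p ^ 3` of other types has a characteristic series with factors of order `p`. -/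
theorem exists_char_series {X : Type*} [Group X] [Finite X] {p : ℕ} [Fact p.Prime] (hc : Nat.card X = p ^ 3)
    (h1 : (∀ a b : X, a * b = b * a) → ¬ ∀ x : X, x ^ p = 1)
    (h2 : ¬ (Odd p ∧ Cfsg.IsExtraspecial p X ∧ ∀ x : X, x ^ p = 1))
    (h3 : ¬ (p = 2 ∧ Nonempty (X ≃* QuaternionGroup 2))) :
    ∃ N M : Subgroup X, N.Characteristic ∧ M.Characteristic ∧ N ≤ M ∧ Nat.card N = p ∧ Nat.card M = p ^ 2 := by
  have hp := (Fact.out : p.Prime)
  have hX : IsPGroup p X := IsPGroup.of_card hc
  by_cases hab : ∀ a b : X, a * b = b * a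
  · letI : CommGroup X := { (inferInstance : Group X) with mul_comm := hab }
    let f : X →* X := powMonoidHom p
    have hker : f.ker.Characteristic := Subgroup.characteristic_iff_le_comap.2 fun φ x hx => by
      have hx' : x ^ p = 1 := hx
      show φ x ^ p = 1
      rw [← map_pow, hx', map_one]
    have hran : f.range.Characteristic := Subgroup.characteristic_iff_le_comap.2 fun φ x hx => by
      obtain ⟨y, rfl⟩ := hx
      exact ⟨φ y, (map_pow φ y p).symm⟩
    have hmul := f.ker.card_mul_index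
    rw [Subgroup.index_ker, hc] at hmul
    obtain ⟨i, hi⟩ := IsPGroup.iff_card.1 (hX.to_subgroup f.ker)
    obtain ⟨j, hj⟩ := IsPGroup.iff_card.1 (hX.to_subgroup f.range)
    rw [hi, hj, ← pow_add] at hmul
    have hij := Nat.pow_right_injective hp.two_le hmul
    have hi0 : i ≠ 0 := by
      rintro rfl
      obtain ⟨x, hx⟩ := exists_prime_orderOf_dvd_card' (G := X) p (hc ▸ dvd_pow_self p (by norm_num))
      have hxk : x ∈ f.ker := show x ^ p = 1 by rw [← hx, pow_orderOf_eq_one]
      rw [Subgroup.eq_bot_of_card_eq f.ker (by rw [hi, pow_zero]), Subgroup.mem_bot] at hxk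
      rw [hxk, orderOf_one] at hx
      exact hp.one_lt.ne hx
    have hj0 : j ≠ 0 := by
      rintro rfl
      refine h1 hab fun x => ?_
      have : x ^ p ∈ f.range := ⟨x, rfl⟩
      rwa [Subgroup.eq_bot_of_card_eq f.range (by rw [hj, pow_zero]), Subgroup.mem_bot] at this
    rcases (show (i = 2 ∧ j = 1) ∨ (i = 1 ∧ j = 2) by omega) with ⟨rfl, rfl⟩ | ⟨rfl, rfl⟩
    · refine ⟨f.range, f.ker, hran, hker, ?_, by simpa using hj, hi⟩
      rintro _ ⟨y, rfl⟩
      show (y ^ p) ^ p = 1
      have h : (⟨y ^ p, ⟨y, rfl⟩⟩ : f.range) ^ Nat.card f.range = 1 := pow_card_eq_one'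
      rw [hj, pow_one] at h
      exact congrArg Subtype.val h
    · refine ⟨f.ker, f.range, hker, hran, ?_, by simpa using hi, hj⟩
      by_contra hle
      have hd : f.ker ⊓ f.range = ⊥ := by
        by_contra hne
        refine hle (inf_eq_left.1 (Subgroup.eq_of_le_of_card_ge inf_le_left ?_))
        obtain ⟨l, hl⟩ := IsPGroup.iff_card.1 (hX.to_subgroup (f.ker ⊓ f.range))
        have hl0 : l ≠ 0 := fun e => hne (Subgroup.eq_bot_of_card_eq _ (by rw [hl, e, pow_zero]))
        rw [hi, hl]; exact Nat.pow_le_pow_right hp.pos (by omega)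
      obtain ⟨x, hx⟩ := exists_prime_orderOf_dvd_card' (G := f.range) p (by rw [hj]; exact dvd_pow_self p (by norm_num))
      have hxk : (x : X) ∈ f.ker ⊓ f.range :=
        ⟨show (x : X) ^ p = 1 by rw [← hx, ← Subgroup.orderOf_coe, pow_orderOf_eq_one], x.2⟩
      rw [hd, Subgroup.mem_bot] at hxk
      rw [← Subgroup.orderOf_coe, hxk, orderOf_one] at hx
      exact hp.one_lt.ne hx
  obtain ⟨⟨-, -, hder⟩, hZ⟩ := extraspecial_of_card hc hab
  have hcomm : ∀ a b : X, ⁅a, b⁆ ∈ center X := fun a b => by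
    rw [← hder, _root_.commutator_def]
    exact Subgroup.commutator_mem_commutator (mem_top a) (mem_top b)
  have hZp : ∀ z ∈ center X, z ^ p = 1 := fun z hz => by
    have h : (⟨z, hz⟩ : center X) ^ Nat.card (center X) = 1 := pow_card_eq_one'
    rw [hZ] at h
    exact congrArg Subtype.val h
  have hqc : Nat.card (X ⧸ center X) = p ^ 2 := by
    have h := Subgroup.card_eq_card_quotient_mul_card_subgroup (center X)
    rw [hc, hZ, pow_succ] at h
    exact (Nat.eq_of_mul_eq_mul_right hp.pos h).symm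
  have hpz : ∀ x : X, x ^ p ∈ center X := by
    intro x
    have h := Cfsg.Agent.Struct.CoprimeMinimal.pow_mem_frattini hX x
    rwa [(extraspecial_of_card hc hab).1.2.1] at h
  rcases hp.eq_two_or_odd' with h2' | hodd
  · subst h2'
    by_cases hu : ∀ x y : X, orderOf x = 2 → y ^ 2 = 1 → y ∈ zpowers x
    · exfalso
      rcases Cfsg.Agent.Struct.cyclic_or_quaternion hX hu with h | ⟨-, n, hn, ⟨e⟩⟩
      · haveI := h
        exact hab fun a b => IsCyclic.commGroup.mul_comm a b
      · have hcard := Nat.card_congr e.toEquiv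
        rw [hc, Nat.card_eq_fintype_card, QuaternionGroup.card] at hcard
        have hn1 : n = 1 := by
          have h : 2 ^ n = 2 ^ 1 := by omega
          exact Nat.pow_right_injective le_rfl h
        subst hn1
        exact h3 ⟨rfl, ⟨e⟩⟩
    have hinv : ∃ t : X, t ^ 2 = 1 ∧ t ∉ center X := by
      by_contra hcon
      push Not at hcon
      refine hu fun x y hx hy => ?_
      have hx1 : x ∈ center X := hcon x (by rw [← hx, pow_orderOf_eq_one])
      have he : zpowers x = center X :=
        Subgroup.eq_of_le_of_card_ge (zpowers_le.2 hx1) (by rw [Nat.card_zpowers, hx, hZ])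
      rw [he]; exact hcon y hy
    obtain ⟨t, ht, htZ⟩ := hinv
    set M := closure {x : X | x ^ 2 ≠ 1} with hM
    have hMch : M.Characteristic := Subgroup.characteristic_iff_map_le.2 fun φ => by
      rw [hM, MonoidHom.map_closure]
      refine Subgroup.closure_mono ?_
      rintro _ ⟨x, hx, rfl⟩ h
      exact hx (φ.injective (by rw [map_pow, map_one]; exact h))
    have hz : ∀ x : X, x ^ 2 ≠ 1 → ∀ y : X, y ^ 2 ≠ 1 → x ^ 2 = y ^ 2 := by
      intro x hx y hy
      exact eq_of_card_two hZ (hpz x) (hpz y) hx hy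
    have hcommM : ∀ x : X, x ^ 2 ≠ 1 → ∀ y : X, y ^ 2 ≠ 1 → x * y = y * x := by
      intro x hx y hy
      by_contra hxy
      set z := x ^ 2 with hzdef
      have hzc : ∀ g, g * z = z * g := Subgroup.mem_center_iff.1 (hpz x)
      have hyz : y ^ 2 = z := hz y hy x hx
      have hc1 : ⁅y, x⁆ ≠ 1 := fun e => hxy (commutatorElement_eq_one_iff_mul_comm.1 e).symm
      have hcz : ⁅y, x⁆ = z := by
        exact eq_of_card_two hZ (hcomm y x) (hpz x) hc1 hx
      have hyx : y * x = z * (x * y) := by rw [← hcz, commutatorElement_def]; group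
      have hzz : z * z = 1 := by rw [← sq]; exact hZp z (hpz x)
      have hcap : ∀ w, w ∈ zpowers x → w ^ 2 = 1 → w ∈ center X := by
        intro w hw hw2
        obtain ⟨i, rfl⟩ := mem_zpowers_iff.1 hw
        rcases Int.even_or_odd i with ⟨k, hk⟩ | ⟨k, hk⟩
        · rw [hk, ← two_mul, zpow_mul, zpow_two, ← sq]
          exact Subgroup.zpow_mem _ (hpz x) k
        · exfalso
          have h4 : orderOf x = 4 := orderOf_eq_prime_pow (p := 2) (n := 1) (by simpa using hx)
            (by rw [show 2 ^ (1 + 1) = 2 * 2 by norm_num, pow_mul, ← hzdef, sq, hzz])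
          have h5 : (orderOf x : ℤ) ∣ i * 2 := orderOf_dvd_iff_zpow_eq_one.2 (by rw [zpow_mul]; exact_mod_cast hw2)
          rw [h4, hk] at h5
          push_cast at h5
          omega
      have htx : t ∉ zpowers x := fun h => htZ (hcap t h ht)
      have hyx' : y ∉ zpowers x := fun h => hxy (by
        obtain ⟨i, rfl⟩ := mem_zpowers_iff.1 h
        exact ((Commute.refl x).zpow_right i).eq)
      have hox : orderOf x = 4 := orderOf_eq_prime_pow (p := 2) (n := 1) (by simpa using hx)
        (by rw [show 2 ^ (1 + 1) = 2 * 2 by norm_num, pow_mul, ← hzdef, sq, hzz])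
      have hidx : (zpowers x).index = 2 := by
        have h := (zpowers x).card_mul_index
        rw [Nat.card_zpowers, hox, hc] at h
        omega
      have htm : t * y ∈ zpowers x := (Subgroup.mul_mem_iff_of_index_two hidx).2 ⟨fun h => absurd h htx, fun h => absurd h hyx'⟩
      obtain ⟨i, hi⟩ := mem_zpowers_iff.1 htm
      have key : ∀ k : ℕ, (x ^ k * y) ^ 2 = z := by
        intro k
        induction k with
        | zero => rw [pow_zero, one_mul, hyz]
        | succ k ih =>
          rw [sq] at ih ⊢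
          rw [pow_succ, mul_assoc (x ^ k) x y]
          calc x ^ k * (x * y) * (x ^ k * (x * y)) = x ^ k * (x * (y * x) * x ^ k * y) := by
                rw [← mul_assoc (x ^ k) x y, ← pow_succ, pow_succ']; group
            _ = x ^ k * (z * ((x * x) * (y * (x ^ k * y)))) := by
                rw [hyx, ← mul_assoc x z, hzc x]; group
            _ = (z * z) * (x ^ k * y * (x ^ k * y)) := by
                rw [← sq x, ← hzdef, ← mul_assoc (x ^ k) z, hzc (x ^ k)]; simp only [mul_assoc]
                rw [← mul_assoc (x ^ k) z, hzc (x ^ k)]; simp only [mul_assoc]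
            _ = z := by rw [hzz, one_mul, ih]
      obtain ⟨k, hk⟩ : ∃ k : ℕ, x ^ i = x ^ k := ⟨(i % 4).toNat, by
        rw [← zpow_natCast, Int.toNat_of_nonneg (Int.emod_nonneg i (by norm_num)), ← zpow_mod_orderOf, hox]; norm_num⟩
      have hyinv : y⁻¹ = z * y := by
        rw [inv_eq_iff_mul_eq_one, ← mul_assoc, hzc, mul_assoc, ← sq, hyz, hzz]
      have hteq : t = z * (x ^ k * y) := by
        rw [← hk, hi, mul_assoc t, ← sq, hyz, hzc t, ← mul_assoc, hzz, one_mul]
      have h2t : t ^ 2 = z := by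
        rw [hteq, sq, mul_assoc, ← mul_assoc (x ^ k * y) z, hzc, mul_assoc, ← mul_assoc, hzz, one_mul, ← sq, key]
      exact hx (h2t.symm.trans ht)
    obtain ⟨x, hx⟩ : ∃ x : X, x ^ 2 ≠ 1 := by
      by_contra hcon
      push Not at hcon
      refine hab fun a b => ?_
      have := hcon (a * b)
      have ha := inv_eq_of_mul_eq_one_right (show a * a = 1 by rw [← sq]; exact hcon a)
      have hb := inv_eq_of_mul_eq_one_right (show b * b = 1 by rw [← sq]; exact hcon b)
      have hab' := inv_eq_of_mul_eq_one_right (show a * b * (a * b) = 1 by rw [← sq]; exact this)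
      rw [mul_inv_rev, ha, hb] at hab'
      exact hab'.symm
    have hox : orderOf x = 4 := orderOf_eq_prime_pow (p := 2) (n := 1) (by simpa using hx)
      (by rw [show 2 ^ (1 + 1) = 2 * 2 by norm_num, pow_mul]; exact hZp _ (hpz x))
    haveI : IsMulCommutative M := Subgroup.isMulCommutative_closure fun a ha b hb => hcommM a ha b hb
    have hMtop : M ≠ ⊤ := fun e => hab fun a b =>
      congrArg Subtype.val (mul_comm' (⟨a, e ▸ mem_top a⟩ : M) ⟨b, e ▸ mem_top b⟩)
    obtain ⟨l, hl⟩ := IsPGroup.iff_card.1 (hX.to_subgroup M)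
    have hl2 : l = 2 := by
      have h4 : 4 ∣ 2 ^ l := hl ▸ hox ▸ Subgroup.orderOf_dvd_natCard _ (Subgroup.subset_closure hx)
      have h8 : 2 ^ l < 2 ^ 3 := by
        rw [← hl, ← hc]
        exact lt_of_le_of_ne (Nat.card_le_card_of_injective _ M.subtype_injective) fun e => hMtop (Subgroup.eq_top_of_card_eq _ e)
      have := (Nat.pow_dvd_pow_iff_le_right (show 1 < 2 by norm_num)).1 (show 2 ^ 2 ∣ 2 ^ l from h4)
      have := (Nat.pow_lt_pow_iff_right (show 1 < 2 by norm_num)).1 h8
      omega
    refine ⟨center X, M, inferInstance, hMch, ?_, hZ, by rw [hl, hl2]⟩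
    intro w hw
    by_cases hw1 : w = 1
    · rw [hw1]; exact one_mem _
    have hw2 : w = x ^ 2 := eq_of_card_two hZ hw (hpz x) hw1 hx
    rw [hw2]; exact pow_mem (Subgroup.subset_closure hx) 2
  · have hmulp : ∀ a b : X, (a * b) ^ p = a ^ p * b ^ p := by
      intro a b
      set c := ⁅b⁻¹, a⁻¹⁆ with hc'
      have hcc := hcomm b⁻¹ a⁻¹
      have h := Cfsg.Agent.Local.mul_pow_of_commutator (a := a) (b := b) (c := c)
        (by rw [hc', commutatorElement_def]; group) (Subgroup.mem_center_iff.1 hcc a).symm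
        (Subgroup.mem_center_iff.1 hcc b).symm p
      obtain ⟨m, hm⟩ : p ∣ p.choose 2 := hp.dvd_choose_self (by norm_num) (by
        rcases hodd with ⟨k, hk⟩; have := hp.two_le; omega)
      rw [h, hm, pow_mul, hZp c hcc, one_pow, mul_one]
    let f : X →* X := MonoidHom.mk' (fun x => x ^ p) hmulp
    have hker : f.ker.Characteristic := Subgroup.characteristic_iff_le_comap.2 fun φ x hx => by
      have hx' : x ^ p = 1 := hx
      show φ x ^ p = 1
      rw [← map_pow, hx', map_one]
    have hran : f.range ≤ center X := by rintro _ ⟨x, rfl⟩; exact hpz x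
    have hmul := f.ker.card_mul_index
    rw [Subgroup.index_ker, hc] at hmul
    obtain ⟨j, hj⟩ := IsPGroup.iff_card.1 (hX.to_subgroup f.range)
    have hj1 : j = 1 := by
      have h := Subgroup.card_le_of_le hran
      have h' : p ^ j ≤ p ^ 1 := by rwa [pow_one, ← hj, ← hZ]
      have := (Nat.pow_le_pow_iff_right hp.one_lt).1 h'
      have hj0 : j ≠ 0 := by
        rintro rfl
        refine h2 ⟨hodd, extraspecial_of_card hc hab, fun x => ?_⟩
        have : x ^ p ∈ f.range := ⟨x, rfl⟩
        rwa [Subgroup.eq_bot_of_card_eq f.range (by rw [hj, pow_zero]), Subgroup.mem_bot] at this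
      omega
    rw [hj, hj1, pow_one, show p ^ 3 = p ^ 2 * p by ring] at hmul
    exact ⟨center X, f.ker, inferInstance, hker, fun z hz => hZp z hz, hZ, Nat.eq_of_mul_eq_mul_right hp.pos hmul⟩


/-- Let F be a saturated fusion system over a finite p-group S and H an essential subgroup of order p³. Then H is elementary abelian, or p is odd and H is extraspecial of exponent p, or p = 2 and H is the quaternion group of order 8. -/
theorem result {Ω : Type u} [Group Ω] {S : Subgroup Ω} [Finite S] (p : ℕ) [Fact p.Prime] (hS : IsPGroup p S)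
    (F : Cfsg.FusionSystem S) (hF : F.IsSaturated p) (H : Subgroup Ω) (hH : F.IsEssential p H) (hcard : Nat.card H = p ^ 3) :
    Cfsg.IsElementaryAbelian p H ∨ (Odd p ∧ Cfsg.IsExtraspecial p ↥H ∧ ∀ x ∈ H, x ^ p = 1) ∨
      (p = 2 ∧ Nonempty (↥H ≃* QuaternionGroup 2)) := by
  skip
  classical
  by_contra hcon
  rw [not_or, not_or] at hcon
  obtain ⟨hc1, hc2, hc3⟩ := hcon
  have hHS : H ≤ S := hH.1.1
  haveI : Finite H := Finite.of_injective _ (Subgroup.inclusion_injective hHS)
  obtain ⟨N, M, hNc, hMc, hNM, hN, hM⟩ := exists_char_series hcard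
    (fun hab hexp => hc1 ⟨⟨⟨hab⟩⟩, fun x hx => congrArg Subtype.val (hexp ⟨x, hx⟩)⟩)
    (fun h => hc2 ⟨h.1, h.2.1, fun x hx => congrArg Subtype.val (h.2.2 ⟨x, hx⟩)⟩) hc3
  let L : ℕ → Subgroup H := fun i => if i = 0 then ⊥ else if i = 1 then N else if i = 2 then M else ⊤
  have hLch : ∀ i, (L i).Characteristic := by
    intro i; simp only [L]; split_ifs <;> infer_instance
  have hLmono : ∀ i, L i ≤ L (i + 1) := by
    intro i
    rcases i with _ | _ | _ | i <;> simp [L, hNM]
  have hLidx : ∀ i, (L i).relIndex (L (i + 1)) ≤ p := by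
    intro i
    rcases i with _ | _ | _ | i
    · simp [L, hN]
    · have h := Subgroup.card_mul_index (N.subgroupOf M)
      rw [Nat.card_congr (Subgroup.subgroupOfEquivOfLe hNM).toEquiv, hN, hM, sq] at h
      show N.relIndex M ≤ p
      exact (Nat.eq_of_mul_eq_mul_left (Fact.out : p.Prime).pos h).le
    · have h := M.card_mul_index
      rw [hM, hcard, pow_succ (n := 2)] at h
      show M.relIndex ⊤ ≤ p
      rw [Subgroup.relIndex_top_right]
      exact (Nat.eq_of_mul_eq_mul_left (pow_pos (Fact.out : p.Prime).pos 2) h).le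
    · simp [L, (Fact.out : p.Prime).one_lt.le]
  refine Cfsg.Agent.Fusion.not_isEssential_of_stabilizes hS hF hH (T := H) le_rfl
    (fun α _ x hx => Cfsg.Agent.Fusion.autFun_mem α hx)
    (fun α _ _ x hx => H.mul_mem (H.inv_mem hx) (Cfsg.Agent.Fusion.autFun_mem α hx)) ?_
  intro D hD _ hDinv
  refine ⟨3, fun i => D ⊓ (L i).map H.subtype, ?_, ?_, fun _ _ => inf_le_left,
    fun i _ => inf_le_inf_left D (Subgroup.map_mono (hLmono i)), ?_, ?_⟩
  · simp [L]
  · simp [L, ← MonoidHom.range_eq_map, hD]
  · intro i _ α hα x hx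
    refine ⟨hDinv α hα x hx.1, ?_⟩
    obtain ⟨y, hy, rfl⟩ := hx.2
    rw [Cfsg.Agent.Fusion.autFun_apply α (show H.subtype y ∈ H from y.2)]
    exact ⟨α y, Subgroup.characteristic_iff_le_comap.1 (hLch i) α hy, rfl⟩
  · intro i _ a ha han x hx
    obtain ⟨y, hy, rfl⟩ := hx.2
    set K0 := S ⊓ Subgroup.normalizer (H : Set Ω) with hK0
    haveI : Finite K0 := Finite.of_injective _ (Subgroup.inclusion_injective (inf_le_left : K0 ≤ S))
    have hK0p : IsPGroup p K0 := hS.to_le inf_le_left
    have hHK : H ≤ K0 := le_inf hHS Subgroup.le_normalizer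
    let ι : H →* K0 := Subgroup.inclusion hHK
    have hn : ∀ j, ((L j).map ι).Normal := by
      intro j
      refine ⟨?_⟩
      rintro _ ⟨u, hu, rfl⟩ g
      let c : MulAut H := Subgroup.normalizerMonoidHom H ⟨g, g.2.2⟩
      refine ⟨c u, Subgroup.characteristic_iff_le_comap.1 (hLch j) c hu, Subtype.ext ?_⟩
      rfl
    haveI := hn i
    haveI := hn (i + 1)
    have hi : ((L i).map ι).relIndex ((L (i + 1)).map ι) ≤ p := by
      rw [Subgroup.relIndex_map_map_of_injective _ _ (Subgroup.inclusion_injective hHK)]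
      exact hLidx i
    obtain ⟨u, hu, hue⟩ := conj_mem_of_relIndex hK0p _ _ hi (a := ⟨a, ha, han⟩)
      (Subgroup.mem_map_of_mem ι hy)
    refine ⟨D.mul_mem (D.inv_mem hx.1) ?_, u, hu, ?_⟩
    · obtain ⟨α, hα, hαe⟩ : ∃ α ∈ F.autGroup H, ∀ w ∈ H, Cfsg.Agent.Fusion.autFun α w = a * w * a⁻¹ := by
        refine ⟨Subgroup.normalizerMonoidHom H ⟨a, han⟩, ?_, fun w hw => ?_⟩
        · exact Cfsg.Agent.Fusion.autInducedBy_le_autGroup hHS (Cfsg.Agent.Fusion.mem_autInducedBy.2 ⟨a, ha, han, fun w => rfl⟩)
        · rw [Cfsg.Agent.Fusion.autFun_apply _ hw]; rfl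
      show a * (y : Ω) * a⁻¹ ∈ D
      rw [← hαe _ y.2]
      exact hDinv α hα _ hx.1
    · exact congrArg (fun w : K0 => (w : Ω)) hue

end Cfsg.Agent.S5186
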