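import Cfsg.Statements.S5187
import Cfsg.Agent.Lib.Fusion.Embedded
import Cfsg.Agent.Lib.Fusion.Saturation
import Cfsg.Agent.Lib.Struct.ClassTwoBasic
import Cfsg.Agent.Lib.Struct.CoprimeMinimal
import Mathlib.GroupTheory.SpecificGroups.Cyclic

set_option autoImplicit false
universe u
open Cfsg

namespace Cfsg.Agent.S5187

open Subgroup

/-- An element of `p`-power order acting on a group of order `p` is trivial. -/
theorem fix_of_card_prime {p : ℕ} (hp : p.Prime) {V : Type u} [Group V] [Finite V]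
    {x : MulAut V} (hx : x ^ p = 1) (W : Subgroup V) (hW : Nat.card W = p)
    (hinv : ∀ a ∈ zpowers x, ∀ w ∈ W, a w ∈ W) : ∀ w ∈ W, x w = w := by
  haveI : Fact p.Prime := ⟨hp⟩
  have hR : IsPGroup p (zpowers x) := by
    have h1 : orderOf x ∣ p ^ 1 := by rw [pow_one]; exact orderOf_dvd_of_pow_eq_one hx
    obtain ⟨k, -, hk⟩ := (Nat.dvd_prime_pow hp).1 h1
    exact IsPGroup.of_card (n := k) (by rw [Nat.card_zpowers, hk])
  letI : MulAction (zpowers x) W :=
    { smul := fun a w => ⟨(a : MulAut V) w, hinv a a.2 w w.2⟩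
      one_smul := fun w => Subtype.ext rfl
      mul_smul := fun a b w => Subtype.ext rfl }
  have h1 : (1 : W) ∈ MulAction.fixedPoints (zpowers x) W := fun a =>
    Subtype.ext (map_one (a : MulAut V))
  obtain ⟨w₀, hw₀, hne⟩ := hR.exists_fixed_point_of_prime_dvd_card_of_fixed_point W
    (hW ▸ dvd_rfl) h1
  intro w hw
  obtain ⟨i, hi⟩ := mem_powers_of_prime_card (G := W) (g := w₀) (g' := ⟨w, hw⟩) hW hne.symm
  have hi' : (w₀ : V) ^ i = w := by simpa using congrArg Subtype.val hi
  have h2 : x (w₀ : V) = w₀ := congrArg Subtype.val (hw₀ ⟨x, mem_zpowers x⟩)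
  rw [← hi', map_pow, h2]

/-- `h ↦ a h / h`. -/
def dd {V : Type u} [CommGroup V] (a : MulAut V) : V →* V where
  toFun h := a h / h
  map_one' := by simp
  map_mul' x y := by rw [map_mul, mul_div_mul_comm]

theorem dd_apply {V : Type u} [CommGroup V] (a : MulAut V) (h : V) : dd a h = a h / h := rfl

/-- A nontrivial automorphism of order `p` of a group of order at most `p²` fixes its displacement. -/
theorem two_dim {p : ℕ} (hp : p.Prime) {Q : Type u} [CommGroup Q] [Finite Q]
    (hQ : IsPGroup p Q) (hle : Nat.card Q ≤ p ^ 2) {y : MulAut Q} (hy : y ^ p = 1) (hy1 : y ≠ 1) :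
    Nat.card Q = p ^ 2 ∧ Nat.card (dd y).ker = p ∧ (dd y).range ≤ (dd y).ker := by
  haveI : Fact p.Prime := ⟨hp⟩
  obtain ⟨n, hn⟩ := IsPGroup.iff_card.1 hQ
  have hn2 : n ≤ 2 := (Nat.pow_le_pow_iff_right hp.one_lt).1 (hn ▸ hle)
  obtain ⟨k, hkn, hk⟩ := (Nat.dvd_prime_pow hp).1 (hn ▸ Subgroup.card_subgroup_dvd_card (dd y).ker)
  have hmem : ∀ w, w ∈ (dd y).ker ↔ y w = w := fun w => by
    rw [MonoidHom.mem_ker]; exact div_eq_one
  have hne : (dd y).ker ≠ ⊤ := fun e => hy1 (MulEquiv.ext fun w => (hmem w).1 (e ▸ mem_top w))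
  have hkn' : k ≠ n := fun e => hne (Subgroup.eq_top_of_card_eq _ (by rw [hk, e, hn]))
  have hk0 : k ≠ 0 := by
    intro e
    have hR : IsPGroup p (zpowers y) := by
      have h1 : orderOf y ∣ p ^ 1 := by rw [pow_one]; exact orderOf_dvd_of_pow_eq_one hy
      obtain ⟨j, -, hj⟩ := (Nat.dvd_prime_pow hp).1 h1
      exact IsPGroup.of_card (n := j) (by rw [Nat.card_zpowers, hj])
    letI : MulAction (zpowers y) Q := MulAction.compHom Q (zpowers y).subtype
    have h1 : (1 : Q) ∈ MulAction.fixedPoints (zpowers y) Q := fun a => map_one (a : MulAut Q)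
    obtain ⟨v, hv, hvne⟩ := hR.exists_fixed_point_of_prime_dvd_card_of_fixed_point Q
      (hn ▸ dvd_pow_self p (by omega)) h1
    have hv' : v ∈ (dd y).ker := (hmem v).2 (hv ⟨y, mem_zpowers y⟩)
    rw [e, pow_zero, Subgroup.card_eq_one] at hk
    rw [hk, mem_bot] at hv'
    exact hvne hv'.symm
  have hk1 : k = 1 := by omega
  have hn1 : n = 2 := by omega
  subst hk1 hn1
  rw [pow_one] at hk
  refine ⟨hn, hk, ?_⟩
  have hrange : Nat.card (dd y).range = p := by
    have h := (dd y).ker.card_mul_index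
    rw [Subgroup.index_ker, hk, hn, pow_two] at h
    exact Nat.eq_of_mul_eq_mul_left hp.pos h
  have hfix := fix_of_card_prime hp hy (dd y).range hrange (by
    intro c hc x hx
    obtain ⟨w, rfl⟩ := hx
    obtain ⟨i, rfl⟩ := mem_zpowers_iff.1 hc
    refine ⟨(y ^ i) w, ?_⟩
    rw [dd_apply, dd_apply, map_div, ← MulAut.mul_apply, ← MulAut.mul_apply,
      (Commute.self_zpow y i).eq])
  exact fun w hw => (hmem w).2 (hfix w hw)

/-- A group of automorphisms without normal `p`-subgroups of an abelian `p`-group of rank two. -/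
theorem structure_of_aut {V : Type u} [CommGroup V] [Finite V] {p : ℕ} [Fact p.Prime]
    (hV : IsPGroup p V) (hrk : (powMonoidHom p : V →* V).range.index ≤ p ^ 2)
    (A : Subgroup (MulAut V)) (hdiv : p ∣ Nat.card A)
    (hno : ∀ T : Subgroup A, T.Normal → IsPGroup p T → T = ⊥) :
    ((∀ v : V, v ^ p = 1) ∧ Nat.card V = p ^ 2) ∨
      (p ≤ 3 ∧ ∃ k : ℕ, Nonempty (V ≃* Multiplicative (ZMod (p ^ k) × ZMod (p ^ k)))) := by
  classical
  have hp : p.Prime := Fact.out
  haveI : Finite (MulAut V) := Finite.of_injective (fun e : MulAut V => (e : V → V))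
    DFunLike.coe_injective
  set Φ : Subgroup V := (powMonoidHom p : V →* V).range with hΦ
  have hpowΦ : ∀ v : V, v ^ p ∈ Φ := fun v => ⟨v, rfl⟩
  have hAΦ : ∀ (a : MulAut V) (v : V), v ∈ Φ → a v ∈ Φ := by
    rintro a _ ⟨v, rfl⟩
    exact ⟨a v, by simp⟩
  have hmapΦ : ∀ a : MulAut V, Φ.map a.toMonoidHom = Φ := by
    intro a
    apply le_antisymm
    · rintro _ ⟨v, hv, rfl⟩; exact hAΦ a v hv
    · intro v hv
      exact ⟨a.symm v, hAΦ a.symm v hv, a.apply_symm_apply v⟩
  let ρ : A →* MulAut (V ⧸ Φ) :=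
    { toFun := fun a => QuotientGroup.congr Φ Φ (a : MulAut V) (hmapΦ _)
      map_one' := MulEquiv.ext fun q => by
        induction q using QuotientGroup.induction_on with
        | H v => rfl
      map_mul' := fun a b => MulEquiv.ext fun q => by
        induction q using QuotientGroup.induction_on with
        | H v => rfl }
  have hρ : ∀ (a : A) (v : V), ρ a (v : V ⧸ Φ) = (((a : MulAut V) v : V) : V ⧸ Φ) := fun a v => rfl
  -- the kernel is a `p`-group
  have hker : ρ.ker = ⊥ := by
    refine hno _ inferInstance ?_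
    rintro ⟨a, ha⟩
    have hstep : ∀ s : ℕ, ∀ v : V, ∃ y, ((a : MulAut V) ^ p ^ s) v / v = y ^ p ^ (s + 1) := by
      intro s
      induction s with
      | zero =>
        intro v
        have h1 : ρ a (v : V ⧸ Φ) = v := by rw [MonoidHom.mem_ker.1 ha]; rfl
        rw [hρ, eq_comm, QuotientGroup.eq] at h1
        obtain ⟨y, hy⟩ := h1
        exact ⟨y, by rw [pow_zero, pow_one, zero_add, pow_one, div_eq_inv_mul]; exact hy.symm⟩
      | succ s ih =>
        intro v
        rw [pow_succ p s, pow_mul]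
        generalize (a : MulAut V) ^ p ^ s = c at ih ⊢
        obtain ⟨y, hy⟩ := ih v
        obtain ⟨u, hu⟩ := ih y
        have hct : c (c v / v) = (c v / v) * (u ^ p ^ s) ^ p ^ (s + 2) := by
          rw [hy, map_pow, div_eq_iff_eq_mul.1 hu, mul_pow, ← pow_mul, ← pow_mul, ← pow_add, ← pow_add,
            mul_comm]
          congr 2
          ring
        have key : ∀ n : ℕ, ∃ z : V, (c ^ n) v / v = (c v / v) ^ n * z ^ p ^ (s + 2) := by
          intro n
          induction n with
          | zero => exact ⟨1, by simp⟩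
          | succ n ihn =>
            obtain ⟨z, hz⟩ := ihn
            refine ⟨(u ^ p ^ s) ^ n * c z, ?_⟩
            have h1 : (c ^ (n + 1)) v / v = c ((c ^ n) v / v) * (c v / v) := by
              rw [pow_succ', MulAut.mul_apply, map_div, div_mul_div_cancel]
            rw [h1, hz, map_mul, map_pow, map_pow, hct, mul_pow, pow_succ (c v / v) n, mul_pow, ← pow_mul,
              ← pow_mul (u ^ p ^ s) n, mul_comm n]
            simp only [mul_assoc, mul_comm, mul_left_comm]
        obtain ⟨z, hz⟩ := key p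
        refine ⟨y * z, ?_⟩
        rw [hz, hy, mul_pow, ← pow_mul, ← pow_succ]
    obtain ⟨e, he⟩ := IsPGroup.iff_card.1 hV
    refine ⟨e, Subtype.ext (Subtype.ext (MulEquiv.ext fun v => ?_))⟩
    obtain ⟨y, hy⟩ := hstep e v
    have h2 : y ^ p ^ (e + 1) = 1 := by rw [pow_succ, pow_mul, ← he, pow_card_eq_one', one_pow]
    rw [h2, div_eq_one] at hy
    exact hy
  have hρinj : Function.Injective ρ := (MonoidHom.ker_eq_bot_iff ρ).1 hker
  obtain ⟨x, hx⟩ := exists_prime_orderOf_dvd_card' p hdiv
  have hxp : x ^ p = 1 := by rw [← hx, pow_orderOf_eq_one]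
  have hy1 : ρ x ≠ 1 := by
    intro e
    have : x = 1 := hρinj (e.trans (map_one ρ).symm)
    rw [this, orderOf_one] at hx
    exact hp.one_lt.ne hx
  obtain ⟨hQ2, hkc, hrk'⟩ := two_dim hp (hV.to_quotient Φ) (by rw [← Subgroup.index_eq_card]; exact hrk)
    (y := ρ x) (by rw [← map_pow, hxp, map_one]) hy1
  -- the exponent
  obtain ⟨e, he⟩ := IsPGroup.iff_card.1 hV
  have hex : ∃ m, ∀ v : V, v ^ p ^ m = 1 := ⟨e, fun v => by rw [← he]; exact pow_card_eq_one'⟩
  set m := Nat.find hex with hm
  have hmspec : ∀ v : V, v ^ p ^ m = 1 := Nat.find_spec hex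
  by_cases hm1 : m ≤ 1
  · left
    have hexp : ∀ v : V, v ^ p = 1 := by
      intro v
      have h := hmspec v
      interval_cases m
      · rw [pow_zero, pow_one] at h; rw [h, one_pow]
      · rwa [pow_one] at h
    have hb : Φ = ⊥ := by
      rw [eq_bot_iff]
      rintro _ ⟨v, rfl⟩
      rw [powMonoidHom_apply, hexp, mem_bot]
    refine ⟨hexp, ?_⟩
    rw [← hQ2, ← Subgroup.index_eq_card, hb, Subgroup.index_bot]
  right
  push Not at hm1
  obtain ⟨m', hm'⟩ : ∃ m', m = m' + 2 := ⟨m - 2, by omega⟩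
  have hnot : ¬ ∀ v : V, v ^ p ^ (m' + 1) = 1 := Nat.find_min hex (by omega)
  -- elements killed below the exponent lie in `Φ`
  set W : Subgroup V := (powMonoidHom (p ^ (m' + 1)) : V →* V).ker with hW
  have hΦW : Φ ≤ W := by
    rintro _ ⟨v, rfl⟩
    rw [hW, MonoidHom.mem_ker, powMonoidHom_apply, powMonoidHom_apply, ← pow_mul, ← pow_succ',
      show m' + 1 + 1 = m by omega, hmspec]
  have hWΦ : W ≤ Φ := by
    by_contra hWn
    set L : Subgroup (V ⧸ Φ) := W.map (QuotientGroup.mk' Φ) with hL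
    have hLc : Nat.card L = p := by
      obtain ⟨l, hl2, hl⟩ := (Nat.dvd_prime_pow hp).1 (hQ2 ▸ Subgroup.card_subgroup_dvd_card L)
      have hl0 : l ≠ 0 := by
        intro e0
        rw [e0, pow_zero, Subgroup.card_eq_one, Subgroup.map_eq_bot_iff, QuotientGroup.ker_mk'] at hl
        exact hWn hl
      have hl2' : l ≠ 2 := by
        intro e0
        refine hnot fun v => ?_
        have htop : L = ⊤ := Subgroup.eq_top_of_card_eq _ (by rw [hl, e0, hQ2])
        have hv : (v : V ⧸ Φ) ∈ L := htop ▸ mem_top _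
        obtain ⟨w, hw, hwv⟩ := hv
        have h1 : w⁻¹ * v ∈ W := hΦW (QuotientGroup.eq.1 hwv)
        have h2 : v ∈ W := by simpa using mul_mem hw h1
        exact MonoidHom.mem_ker.1 h2
      rw [hl, show l = 1 by omega, pow_one]
    have hLinv : ∀ (a : A) (q : V ⧸ Φ), q ∈ L → ρ a q ∈ L := by
      rintro a _ ⟨w, hw, rfl⟩
      refine ⟨(a : MulAut V) w, ?_, rfl⟩
      rw [SetLike.mem_coe, hW, MonoidHom.mem_ker, powMonoidHom_apply, ← map_pow]
      rw [SetLike.mem_coe, hW, MonoidHom.mem_ker, powMonoidHom_apply] at hw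
      rw [hw, map_one]
    let T : Subgroup A :=
      { carrier := {a | (∀ q ∈ L, ρ a q = q) ∧ ∀ q, ρ a q / q ∈ L}
        one_mem' := ⟨fun q _ => by simp, fun q => by simp⟩
        mul_mem' := by
          rintro a b ⟨ha, ha'⟩ ⟨hb, hb'⟩
          refine ⟨fun q hq => by rw [map_mul, MulAut.mul_apply, hb q hq, ha q hq], fun q => ?_⟩
          have : ρ (a * b) q / q = (ρ a (ρ b q) / ρ b q) * (ρ b q / q) := by
            rw [map_mul, MulAut.mul_apply, div_mul_div_cancel]
          rw [this]
          exact mul_mem (ha' _) (hb' _)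
        inv_mem' := by
          rintro a ⟨ha, ha'⟩
          have hi : ∀ q, ρ a⁻¹ (ρ a q) = q := fun q => by
            rw [← MulAut.mul_apply, ← map_mul, inv_mul_cancel, map_one]; rfl
          have hi' : ∀ q, ρ a (ρ a⁻¹ q) = q := fun q => by
            rw [← MulAut.mul_apply, ← map_mul, mul_inv_cancel, map_one]; rfl
          refine ⟨fun q hq => ?_, fun q => ?_⟩
          · conv_lhs => rw [← ha q hq]
            exact hi q
          · have : ρ a⁻¹ q / q = (ρ a (ρ a⁻¹ q) / ρ a⁻¹ q)⁻¹ := by rw [hi', inv_div]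
            rw [this]
            exact inv_mem (ha' _) }
    have hTn : T.Normal := ⟨by
      rintro a ⟨ha, ha'⟩ g
      have hg : ∀ q, ρ g (ρ g⁻¹ q) = q := fun q => by
        rw [← MulAut.mul_apply, ← map_mul, mul_inv_cancel, map_one]; rfl
      refine ⟨fun q hq => ?_, fun q => ?_⟩
      · rw [map_mul, map_mul, MulAut.mul_apply, MulAut.mul_apply, ha _ (hLinv g⁻¹ q hq), hg]
      · have : ρ (g * a * g⁻¹) q / q = ρ g (ρ a (ρ g⁻¹ q) / ρ g⁻¹ q) := by
          rw [map_div, hg, map_mul, map_mul, MulAut.mul_apply, MulAut.mul_apply]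
        rw [this]
        exact hLinv g _ (ha' _)⟩
    have hexpQ : ∀ q : V ⧸ Φ, q ^ p = 1 := fun q => by
      induction q using QuotientGroup.induction_on with
      | H v => rw [← QuotientGroup.mk_pow, QuotientGroup.eq_one_iff]; exact hpowΦ v
    have hTp : IsPGroup p T := fun a => ⟨1, by
      rw [pow_one]
      apply Subtype.ext
      apply hρinj
      rw [SubgroupClass.coe_pow, map_pow, OneMemClass.coe_one, map_one]
      have hpw : ∀ (n : ℕ) (q : V ⧸ Φ), (ρ (a : A) ^ n) q = q * (ρ (a : A) q / q) ^ n := by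
        intro n
        induction n with
        | zero => intro q; simp
        | succ n ih =>
          intro q
          rw [pow_succ', MulAut.mul_apply, ih, map_mul, map_pow, a.2.1 _ (a.2.2 q), pow_succ,
            mul_comm ((ρ (a : A) q / q) ^ n) (ρ (a : A) q / q), ← mul_assoc, mul_div_cancel]
      refine MulEquiv.ext fun q => ?_
      rw [hpw, hexpQ, mul_one, MulAut.one_apply]⟩
    have hxT : x ∈ T := by
      have h1 : L ≤ (dd (ρ x)).ker := fun q hq => by
        rw [MonoidHom.mem_ker, dd_apply, fix_of_card_prime hp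
          (by rw [← map_pow, hxp, map_one] : ρ x ^ p = 1) L hLc (fun c hc w hw => by
            obtain ⟨i, rfl⟩ := mem_zpowers_iff.1 hc
            rw [← map_zpow]; exact hLinv _ w hw) q hq, div_self']
      have h2 : L = (dd (ρ x)).ker := eq_of_le_of_card_ge h1 (by rw [hkc, hLc])
      exact ⟨fun q hq => div_eq_one.1 (MonoidHom.mem_ker.1 (h1 hq)),
        fun q => h2 ▸ hrk' ⟨q, rfl⟩⟩
    rw [hno T hTn hTp, mem_bot] at hxT
    rw [hxT, map_one] at hy1
    exact hy1 rfl
  have hpk : ∀ v : V, v ^ p = 1 → v ∈ Φ := fun v hv => hWΦ (by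
    rw [hW, MonoidHom.mem_ker, powMonoidHom_apply, pow_succ', pow_mul, hv, one_pow])
  refine ⟨?_, m, ?_⟩
  · -- `p ≤ 3`
    by_contra h4
    push Not at h4
    apply hy1
    let X : AddMonoid.End (Additive V) := MonoidHom.toAdditive ((x : A) : MulAut V).toMonoidHom
    let D : AddMonoid.End (Additive V) := X - 1
    have hXn : ∀ (n : ℕ) (v : V), (X ^ n) (Additive.ofMul v) =
        Additive.ofMul ((((x : A) : MulAut V) ^ n) v) := by
      intro n
      induction n with
      | zero => intro v; rfl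
      | succ n ih =>
        intro v
        rw [pow_succ', pow_succ', AddMonoid.End.coe_mul, Function.comp_apply, ih]
        rfl
    have hX1 : (D + 1) ^ p = 1 := by
      rw [sub_add_cancel]
      refine AddMonoidHom.ext fun v => ?_
      obtain ⟨v, rfl⟩ := Additive.ofMul.surjective v
      refine (hXn p v).trans ?_
      rw [← SubgroupClass.coe_pow, hxp]
      rfl
    have hDD : ∀ v : Additive V, ∃ w, D (D v) = p • w := by
      intro v
      obtain ⟨v, rfl⟩ := Additive.ofMul.surjective v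
      have h1 := hrk' ⟨(v : V ⧸ Φ), rfl⟩
      rw [MonoidHom.mem_ker, dd_apply, dd_apply, hρ, ← QuotientGroup.mk_div, hρ,
        ← QuotientGroup.mk_div, QuotientGroup.eq_one_iff] at h1
      obtain ⟨w, hw⟩ := h1
      exact ⟨Additive.ofMul w, congrArg Additive.ofMul hw.symm⟩
    have hterm : ∀ i, 2 ≤ i → i ≤ p → ∀ v : Additive V,
        ∃ w, (D ^ i * (p.choose i : AddMonoid.End (Additive V))) v = (p * p) • w := by
      intro i hi hip v
      rw [← (Nat.cast_commute (p.choose i) (D ^ i)).eq, AddMonoid.End.coe_mul, Function.comp_apply,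
        AddMonoid.End.natCast_apply]
      rcases hip.eq_or_lt with rfl | hlt
      · rw [Nat.choose_self, one_smul]
        obtain ⟨j, hj⟩ : ∃ j, i = j + 4 := ⟨i - 4, by omega⟩
        obtain ⟨w, hw⟩ := hDD v
        obtain ⟨w', hw'⟩ := hDD w
        refine ⟨(D ^ j) w', ?_⟩
        rw [← map_nsmul, mul_smul, ← hw', ← map_nsmul D, ← map_nsmul D, ← hw, hj, pow_add]
        rfl
      · obtain ⟨c, hc⟩ := hp.dvd_choose_self (by omega) hlt
        obtain ⟨j, hj⟩ : ∃ j, i = j + 2 := ⟨i - 2, by omega⟩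
        obtain ⟨w, hw⟩ := hDD v
        refine ⟨c • (D ^ j) w, ?_⟩
        rw [hc, hj, pow_add, pow_two, AddMonoid.End.coe_mul, Function.comp_apply,
          AddMonoid.End.coe_mul, Function.comp_apply, hw, map_nsmul, ← mul_smul, ← mul_smul]
        congr 1
        ring
    refine MulEquiv.ext fun q => ?_
    induction q using QuotientGroup.induction_on with
    | H v => ?_
    have h0 := DFunLike.congr_fun hX1 (Additive.ofMul v)
    rw [(Commute.one_right D).add_pow] at h0
    simp only [one_pow, mul_one] at h0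
    rw [Finset.sum_range_succ', Finset.sum_range_eq_add_Ico _ hp.pos] at h0
    have hadd : ∀ (A B : AddMonoid.End (Additive V)) (v : Additive V), (A + B) v = A v + B v :=
      fun _ _ _ => rfl
    have hsum : ∀ (g : ℕ → AddMonoid.End (Additive V)) (s : Finset ℕ) (v : Additive V),
        (∑ i ∈ s, g i) v = ∑ i ∈ s, g i v := fun g s v =>
      map_sum (⟨⟨fun f => f v, rfl⟩, fun A B => hadd A B v⟩ : AddMonoid.End (Additive V) →+ Additive V) g s
    simp only [hadd, hsum, zero_add, pow_one, pow_zero, one_mul, Nat.choose_zero_right,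
      Nat.cast_one, AddMonoid.End.coe_one, id_eq] at h0
    obtain ⟨w', hw'⟩ : ∃ w', ∑ i ∈ Finset.Ico 1 p,
        (D ^ (i + 1) * (p.choose (i + 1) : AddMonoid.End (Additive V))) (Additive.ofMul v) = (p * p) • w' := by
      have hmem := AddSubgroup.sum_mem (nsmulAddMonoidHom (α := Additive V) (p * p)).range
        (t := Finset.Ico 1 p)
        (f := fun i => (D ^ (i + 1) * (p.choose (i + 1) : AddMonoid.End (Additive V))) (Additive.ofMul v))
        (fun i hi => by
          obtain ⟨h1, h2⟩ := Finset.mem_Ico.1 hi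
          obtain ⟨w, hw⟩ := hterm (i + 1) (by omega) (by omega) (Additive.ofMul v)
          exact ⟨w, hw.symm⟩)
      obtain ⟨w', hw'⟩ := hmem
      exact ⟨w', hw'.symm⟩
    rw [add_eq_right, hw', ← (Nat.cast_commute (p.choose 1) D).eq, AddMonoid.End.coe_mul,
      Function.comp_apply, AddMonoid.End.natCast_apply, Nat.choose_one_right] at h0
    obtain ⟨w, hw⟩ : ∃ w, p • D (Additive.ofMul v) + (p * p) • w = 0 := ⟨w', h0⟩
    rw [mul_smul, ← nsmul_add] at hw
    have h1 := hpk _ (congrArg Additive.toMul hw)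
    have h2 : ((x : A) : MulAut V) v / v ∈ Φ := by
      have h3 := mul_mem h1 (inv_mem (hpowΦ (Additive.toMul w)))
      have e : Additive.toMul (D (Additive.ofMul v)) = ((x : A) : MulAut V) v / v := rfl
      rw [← e]
      simpa using h3
    show ((((x : A) : MulAut V) v : V) : V ⧸ Φ) = (v : V ⧸ Φ)
    rw [eq_comm, QuotientGroup.eq, ← div_eq_inv_mul]
    exact h2
  · haveI : Nontrivial (V ⧸ Φ) := Finite.one_lt_card_iff_nontrivial.1 (by
      rw [hQ2]; exact Nat.one_lt_pow (by norm_num) hp.one_lt)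
    obtain ⟨qa, hqa⟩ := exists_ne (1 : V ⧸ Φ)
    obtain ⟨qb, hqb⟩ : ∃ qb, qb ∉ zpowers qa := by
      by_contra hall
      push Not at hall
      have hexpQ : qa ^ p = 1 := by
        induction qa using QuotientGroup.induction_on with
        | H v => rw [← QuotientGroup.mk_pow, QuotientGroup.eq_one_iff]; exact hpowΦ v
      have := congrArg (fun K : Subgroup (V ⧸ Φ) => Nat.card K) ((eq_top_iff' _).2 hall)
      simp only [Nat.card_zpowers, Subgroup.card_top, hQ2] at this
      rw [orderOf_eq_prime hexpQ hqa] at this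
      nlinarith [hp.one_lt]
    obtain ⟨a, rfl⟩ := QuotientGroup.mk'_surjective Φ qa
    obtain ⟨b, rfl⟩ := QuotientGroup.mk'_surjective Φ qb
    have hind : ∀ i j : ℕ, a ^ i * b ^ j ∈ Φ → p ∣ i ∧ p ∣ j := by
      intro i j h
      have hexpQ : ∀ v : V, ((v : V ⧸ Φ)) ^ p = 1 := fun v => by
        rw [← QuotientGroup.mk_pow, QuotientGroup.eq_one_iff]; exact hpowΦ v
      rw [← QuotientGroup.eq_one_iff, QuotientGroup.mk_mul, QuotientGroup.mk_pow,
        QuotientGroup.mk_pow] at h
      have hj : p ∣ j := by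
        by_contra hj
        apply hqb
        obtain ⟨c, -, hc⟩ := Nat.exists_mul_mod_eq_one_of_coprime
          (Nat.Coprime.symm (hp.coprime_iff_not_dvd.2 hj)) hp.one_lt
        have h1 : (b : V ⧸ Φ) = ((b : V ⧸ Φ) ^ j) ^ c := by
          rw [← pow_mul, pow_eq_pow_mod _ (hexpQ b), hc, pow_one]
        show (b : V ⧸ Φ) ∈ zpowers (a : V ⧸ Φ)
        rw [h1, eq_inv_of_mul_eq_one_right h]
        exact pow_mem (inv_mem (pow_mem (mem_zpowers _) i)) c
      refine ⟨?_, hj⟩
      obtain ⟨c, rfl⟩ := hj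
      rw [pow_mul, hexpQ b, one_pow, mul_one] at h
      rw [← orderOf_eq_prime (hexpQ a) hqa]
      exact orderOf_dvd_of_pow_eq_one h
    have hval : ∀ (v : V) (s t : ZMod (p ^ m)), v ^ (s + t).val = v ^ s.val * v ^ t.val := by
      intro v s t
      haveI : NeZero (p ^ m) := ⟨pow_ne_zero _ hp.ne_zero⟩
      rw [ZMod.val_add, ← pow_add]
      exact (pow_eq_pow_mod _ (hmspec v)).symm
    let F : Multiplicative (ZMod (p ^ m) × ZMod (p ^ m)) →* V :=
      { toFun := fun c => a ^ (Multiplicative.toAdd c).1.val * b ^ (Multiplicative.toAdd c).2.val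
        map_one' := by simp
        map_mul' := fun c d => by
          rw [toAdd_mul, Prod.fst_add, Prod.snd_add, hval, hval, mul_mul_mul_comm] }
    haveI : NeZero (p ^ m) := ⟨pow_ne_zero _ hp.ne_zero⟩
    have hF1 : Function.Injective F := by
      rw [injective_iff_map_eq_one]
      intro c hc
      change a ^ _ * b ^ _ = 1 at hc
      have key : ∀ s ≤ m, p ^ s ∣ (Multiplicative.toAdd c).1.val ∧
          p ^ s ∣ (Multiplicative.toAdd c).2.val := by
        intro s hs
        induction s with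
        | zero => simp
        | succ s ih =>
          obtain ⟨⟨i, hi⟩, ⟨j, hj⟩⟩ := ih (by omega)
          have h1 : (a ^ i * b ^ j) ^ p ^ s = 1 := by
            rw [mul_pow, ← pow_mul, ← pow_mul, mul_comm i, mul_comm j, ← hi, ← hj, hc]
          have h2 : a ^ i * b ^ j ∈ W := by
            rw [hW, MonoidHom.mem_ker, powMonoidHom_apply]
            obtain ⟨r, hr⟩ := Nat.le.dest (show s ≤ m' + 1 by omega)
            rw [← hr, pow_add, pow_mul, h1, one_pow]
          obtain ⟨⟨i', rfl⟩, ⟨j', rfl⟩⟩ := hind i j (hWΦ h2)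
          exact ⟨⟨i', by rw [hi]; ring⟩, ⟨j', by rw [hj]; ring⟩⟩
      obtain ⟨k1, k2⟩ := key m le_rfl
      apply Multiplicative.toAdd.injective
      refine Prod.ext ?_ ?_
      · simpa using (ZMod.val_eq_zero _).1 (Nat.eq_zero_of_dvd_of_lt k1 (ZMod.val_lt _))
      · simpa using (ZMod.val_eq_zero _).1 (Nat.eq_zero_of_dvd_of_lt k2 (ZMod.val_lt _))
    have hF2 : Function.Surjective F := by
      rw [← MonoidHom.range_eq_top]
      haveI : Fact (1 < p ^ m) := ⟨Nat.one_lt_pow (by omega) hp.one_lt⟩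
      apply frattini_nongenerating
      have ha : a ∈ F.range := ⟨Multiplicative.ofAdd (1, 0), by simp [F, ZMod.val_one]⟩
      have hb : b ∈ F.range := ⟨Multiplicative.ofAdd (0, 1), by simp [F, ZMod.val_one]⟩
      refine eq_top_iff.2 fun v _ => ?_
      have hgen : zpowers ((QuotientGroup.mk' Φ) a) ⊔ zpowers ((QuotientGroup.mk' Φ) b) = ⊤ := by
        apply Subgroup.eq_top_of_le_card
        obtain ⟨l, hl, hlc⟩ := (Nat.dvd_prime_pow hp).1 (hQ2 ▸ Subgroup.card_subgroup_dvd_card
          (zpowers ((QuotientGroup.mk' Φ) a) ⊔ zpowers ((QuotientGroup.mk' Φ) b)))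
        have hlt : p < Nat.card (zpowers ((QuotientGroup.mk' Φ) a) ⊔
            zpowers ((QuotientGroup.mk' Φ) b) : Subgroup _) := by
          have ha' : orderOf ((QuotientGroup.mk' Φ) a) = p := orderOf_eq_prime
            (by rw [← map_pow, QuotientGroup.mk'_apply, QuotientGroup.eq_one_iff]; exact hpowΦ a) hqa
          rw [← ha', ← Nat.card_zpowers]
          refine lt_of_le_of_ne (Subgroup.card_le_of_le le_sup_left) fun e => hqb ?_
          rw [eq_of_le_of_card_ge le_sup_left e.ge]
          exact mem_sup_right (mem_zpowers _)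
        rw [hQ2, hlc] at *
        have h2l : 2 ≤ l := by
          by_contra hl'
          have := Nat.pow_le_pow_right hp.one_le (show l ≤ 1 by omega)
          rw [pow_one] at this
          omega
        exact Nat.pow_le_pow_right hp.one_le h2l
      have hv : (QuotientGroup.mk' Φ) v ∈ zpowers ((QuotientGroup.mk' Φ) a) ⊔
          zpowers ((QuotientGroup.mk' Φ) b) := hgen ▸ mem_top _
      rw [← MonoidHom.map_zpowers, ← MonoidHom.map_zpowers, ← Subgroup.map_sup] at hv
      obtain ⟨w, hw, hwv⟩ := hv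
      have hw' : w ∈ F.range := (sup_le (zpowers_le.2 ha) (zpowers_le.2 hb) :
        zpowers a ⊔ zpowers b ≤ F.range) hw
      obtain ⟨u, hu⟩ := QuotientGroup.eq.1 hwv
      have : v = w * (w⁻¹ * v) := by group
      rw [this, ← hu]
      exact mul_mem_sup hw' (Cfsg.Agent.Struct.CoprimeMinimal.pow_mem_frattini hV u)
    exact ⟨(MulEquiv.ofBijective F ⟨hF1, hF2⟩).symm⟩


/-- Let F be a saturated fusion system over a finite p-group S and H an abelian essential subgroup that can be generated by two elements (its Frattini quotient has order at most p²). Then H is elementary abelian of order p², or p ≤ 3 and H is homocyclic of rank two, that is isomorphic to C_{pᵏ} × C_{pᵏ} for some k. -/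
theorem result {Ω : Type u} [Group Ω] {S : Subgroup Ω} [Finite S] (p : ℕ) [Fact p.Prime] (hS : IsPGroup p S)
    (F : Cfsg.FusionSystem S) (hF : F.IsSaturated p) (H : Subgroup Ω) (hH : F.IsEssential p H) (hab : IsMulCommutative ↥H) (hrk : (frattini ↥H).index ≤ p ^ 2) :
    (Cfsg.IsElementaryAbelian p H ∧ Nat.card H = p ^ 2) ∨
      (p ≤ 3 ∧ ∃ k : ℕ, Nonempty (↥H ≃* Multiplicative (ZMod (p ^ k) × ZMod (p ^ k)))) := by
  have hp : p.Prime := Fact.out
  obtain ⟨⟨hHS, -⟩, -, hN, E, hE⟩ := hH
  haveI : Finite H := Finite.of_injective (Subgroup.inclusion hHS) (Subgroup.inclusion_injective hHS)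
  have hHp : IsPGroup p H := hS.to_le hHS
  have hcomm : ∀ a b : H, a * b = b * a := fun a b => hab.is_comm.comm a b
  letI : CommGroup H := { (inferInstance : Group H) with mul_comm := hcomm }
  haveI := hN
  haveI : Finite (MulAut H) := Finite.of_injective (fun e : MulAut H => (e : H → H)) DFunLike.coe_injective
  set A := F.autGroup H with hA
  set N := (Cfsg.Inn H).subgroupOf A with hNdef
  have hNbot : N = ⊥ := by
    rw [eq_bot_iff]
    rintro x hx
    obtain ⟨g, hg⟩ := (hx : (x : MulAut H) ∈ Cfsg.Inn H)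
    rw [Subgroup.mem_bot]
    apply Subtype.ext
    refine hg.symm.trans ?_
    refine MulEquiv.ext fun h => ?_
    rw [MulAut.conj_apply, hcomm g h, mul_inv_cancel_right]
    rfl
  have hdiv : p ∣ Nat.card A := hE.1.trans (Subgroup.card_quotient_dvd_card N)
  have hq : Function.Bijective (QuotientGroup.mk' N) :=
    ⟨by rw [← MonoidHom.ker_eq_bot_iff, QuotientGroup.ker_mk', hNbot],
      QuotientGroup.mk'_surjective N⟩
  have hno : ∀ T : Subgroup A, T.Normal → IsPGroup p T → T = ⊥ := by
    intro T hT hTp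
    by_contra hTb
    set T' := T.map (QuotientGroup.mk' N)
    haveI hT' : T'.Normal := hT.map _ hq.2
    obtain ⟨R⟩ := Sylow.nonempty (p := p) (G := A ⧸ N)
    obtain ⟨E', hne, hE'⟩ := Cfsg.Agent.Fusion.exists_normalizer_le_of_stronglyPEmbedded hE R
    have hTR : T' ≤ (R : Subgroup (A ⧸ N)) := by
      have h1 : IsPGroup p ((R : Subgroup (A ⧸ N)) ⊔ T' : Subgroup _) :=
        IsPGroup.to_sup_of_normal_right R.isPGroup' (hTp.map _)
      exact le_sup_right.trans (R.is_maximal' h1 le_sup_left).le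
    have hT'b : T' ≠ ⊥ := fun e => hTb ((Subgroup.map_eq_bot_iff_of_injective _ hq.1).1 e)
    have := hE' T' hTR hT'b
    rw [Subgroup.normalizer_eq_top_iff.2 hT'] at this
    exact hne (top_le_iff.1 this)
  have hrk' : (powMonoidHom p : H →* H).range.index ≤ p ^ 2 := by
    refine le_trans (Nat.le_of_dvd (Nat.pos_of_ne_zero Subgroup.index_ne_zero_of_finite) ?_) hrk
    apply Subgroup.index_dvd_of_le
    refine Cfsg.Agent.Struct.ClassTwo.frattini_le hp ?_ fun x => ⟨x, rfl⟩
    rw [commutator_eq_closure, Subgroup.closure_le]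
    rintro z ⟨a, b, rfl⟩
    rw [SetLike.mem_coe, commutatorElement_def, hcomm a b]
    simp
  rcases structure_of_aut hHp hrk' A hdiv hno with ⟨hexp, hc⟩ | h
  · exact Or.inl ⟨⟨hab, fun a ha => congrArg Subtype.val (hexp ⟨a, ha⟩)⟩, hc⟩
  · exact Or.inr h

end Cfsg.Agent.S5187
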