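import Cfsg.Statements.S5192
import Cfsg.Agent.Lib.Fusion.Thompson
import Cfsg.Agent.Lib.Fusion.Tate
-- import your own Cfsg.Agent.* helpers here

set_option autoImplicit false
open Cfsg

namespace Cfsg.Agent.S5192

/-- A Thompson-type transfer for saturated fusion systems. Let F be a saturated fusion system on a finite 2-group S, T a subgroup of S of index 2, and i an involution of S such that every fully normalized F-conjugate of i lies in S but outside T. Then i does not lie in the hyperfocal subgroup of F (the Sylow group of the 2-residual subsystem). -/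
theorem result {Ω : Type*} [Group Ω] [Finite Ω] {S : Subgroup Ω}
    (hS : IsPGroup 2 ↥S) (F : Cfsg.FusionSystem S) (hF : F.IsSaturated 2)
    (T : Subgroup Ω) (hTS : T ≤ S) (hT : T.relIndex S = 2)
    (i : Ω) (hi : i ∈ S) (hi2 : orderOf i = 2)
    (h : ∀ j : Ω, F.IsConjElt i j → F.IsFullyNormalized (Subgroup.zpowers j) → j ∉ T) :
    i ∉ F.hyperfocalSubgroup 2 := by
  intro hhyp
  have hfoc := Fusion.hyperfocal_le_focal hhyp
  have h2p : Fact (Nat.Prime 2) := ⟨Nat.prime_two⟩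
  have hidx : (T.subgroupOf S).index = 2 := hT
  have hc : ⁅S, S⁆ ≤ T := Subgroup.commutator_le.2 fun a ha b hb => by
    have h1 : ∀ u w : ↥S, u * w * u⁻¹ * w⁻¹ ∈ T.subgroupOf S := fun u w => by
      simp only [Subgroup.mul_mem_iff_of_index_two hidx, inv_mem_iff]
      tauto
    exact h1 ⟨a, ha⟩ ⟨b, hb⟩
  obtain ⟨A, _, χ, hsurj, hker, -⟩ := Fusion.exists_char (le_refl S) hTS hc
  obtain ⟨r, hr⟩ : ∃ r : ↥S, r ∉ T.subgroupOf S := by
    by_contra hcon
    push_neg at hcon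
    rw [Subgroup.index_eq_one.2 (eq_top_iff.2 fun x _ => hcon x)] at hidx
    exact absurd hidx (by norm_num)
  have hA : ∀ b : A, b = 1 ∨ b = χ r := by
    intro b
    obtain ⟨w, rfl⟩ := hsurj b
    by_cases hw : w ∈ T.subgroupOf S
    · exact Or.inl ((hker w).2 hw)
    · refine Or.inr ?_
      rw [eq_comm, ← inv_mul_eq_one, ← map_inv, ← map_mul, hker]
      show r⁻¹ * w ∈ T.subgroupOf S
      rw [Subgroup.mul_mem_iff_of_index_two hidx, inv_mem_iff]
      tauto
  have hio : orderOf (⟨i, hi⟩ : ↥S) = 2 := by rw [← Subgroup.orderOf_coe]; exact hi2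
  refine Fusion.not_mem_focal_of_conjugates hS hF χ (fun e => hr ((hker r).1 e)) hA (i := ⟨i, hi⟩) hio ?_ hfoc
  rintro j ⟨f, hf, hfj⟩ hj
  have hjT : (j : Ω) ∈ T := (hker j).1 hj
  have hZi : Subgroup.zpowers i ≤ S := Subgroup.zpowers_le.2 hi
  have hz : ∀ (g : Ω → Ω), Fusion.IsMor F (Subgroup.zpowers i) g →
      Fusion.IsIso F (Subgroup.zpowers i) (Subgroup.zpowers (g i)) g := by
    intro g hg
    obtain ⟨φ, hφ, he⟩ := id hg
    have hgi : φ ⟨i, Subgroup.mem_zpowers i⟩ = g i := he _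
    refine ⟨hg, fun y => ⟨?_, ?_⟩⟩
    · rintro ⟨k, rfl⟩
      refine ⟨i ^ k, ⟨k, rfl⟩, ?_⟩
      show g (i ^ k) = g i ^ k
      rw [← hgi, ← map_zpow, he]
      rfl
    · rintro ⟨x, ⟨k, rfl⟩, rfl⟩
      refine ⟨k, ?_⟩
      show g i ^ k = g (i ^ k)
      rw [← hgi, ← map_zpow, he]
      rfl
  obtain ⟨Q, hcQ, hQn⟩ := Fusion.exists_fullyNormalized (F := F) hZi
  obtain ⟨g, hg⟩ := Fusion.isConj_iff_exists_isIso.1 hcQ
  have hQ : Q = Subgroup.zpowers (g i) := hg.image_unique (hz g hg.1)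
  set j' : ↥S := ⟨g i, hg.1.mem (Subgroup.mem_zpowers i)⟩
  refine ⟨j', ⟨g, hg.1, rfl⟩, ?_⟩
  by_contra hle
  rw [not_lt] at hle
  have hord : ∀ (k : ↥S) (e : Ω → Ω), Fusion.IsMor F (Subgroup.zpowers i) e → e i = k → orderOf (k : Ω) = 2 := by
    intro k e he hek
    have hi1 : i ^ 2 = 1 := by rw [← hi2]; exact pow_orderOf_eq_one i
    refine orderOf_eq_prime ?_ fun h1 => ?_
    · rw [← hek, pow_two, ← he.map_mul (Subgroup.mem_zpowers i) (Subgroup.mem_zpowers i), ← pow_two, hi1, he.map_one]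
    · rw [← hek] at h1
      have := he.eq_one (Subgroup.mem_zpowers i) h1
      rw [this, orderOf_one] at hi2
      exact absurd hi2 (by norm_num)
  have hCN : ∀ k : ↥S, orderOf (k : Ω) = 2 →
      Nat.card (Cfsg.FusionSystem.normalizerIn S (Subgroup.zpowers (k : Ω))) =
        Nat.card (Subgroup.centralizer ({k} : Set ↥S)) := by
    intro k hk
    refine Nat.card_congr ⟨fun a => ⟨⟨a, a.2.1⟩, Subgroup.mem_centralizer_singleton_iff.2 ?_⟩,
      fun a => ⟨(a.1 : Ω), a.1.2, ?_⟩, fun _ => rfl, fun _ => rfl⟩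
    · obtain ⟨n, hn⟩ := Fusion.conj_mem_of_mem_normalizer a.2.2 (Subgroup.mem_zpowers (k : Ω))
      have hkn : (k : Ω) ^ n = 1 ∨ (k : Ω) ^ n = k := by
        rcases Int.emod_two_eq_zero_or_one n with h0 | h0
        · left; rw [← zpow_mod_orderOf, hk]; push_cast; rw [h0, zpow_zero]
        · right; rw [← zpow_mod_orderOf, hk]; push_cast; rw [h0, zpow_one]
      have hn' : (a : Ω) * k * (a : Ω)⁻¹ = (k : Ω) ^ n := hn.symm
      rcases hkn with h0 | h0
      · rw [h0] at hn'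
        rw [conj_eq_one_iff.1 hn', orderOf_one] at hk
        exact absurd hk (by norm_num)
      · rw [h0, mul_inv_eq_iff_eq_mul] at hn'
        exact Subtype.ext hn'
    · have h1 : ((a.1 : Ω)) * k = k * a.1 := congrArg Subtype.val (Subgroup.mem_centralizer_singleton_iff.1 a.2)
      refine Subgroup.mem_normalizer_iff.2 fun y => ?_
      have hcy : ∀ n : ℤ, (a.1 : Ω) * (k : Ω) ^ n * (a.1 : Ω)⁻¹ = (k : Ω) ^ n := fun n => by
        rw [← conj_zpow, h1, mul_inv_cancel_right]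
      constructor
      · rintro ⟨n, rfl⟩
        exact ⟨n, (hcy n).symm⟩
      · rintro ⟨n, hn⟩
        refine ⟨n, mul_left_cancel (mul_right_cancel (?_ : (a.1 : Ω) * (k : Ω) ^ n * (a.1 : Ω)⁻¹ = a.1 * y * (a.1 : Ω)⁻¹))⟩
        rw [hcy]; exact hn
  refine h (j : Ω) ⟨_, (hf.restrict le_rfl).choose_spec.1, ?_⟩ ?_ hjT
  · rw [(hf.restrict le_rfl).choose_spec.2]; exact hfj
  · refine ⟨Subgroup.zpowers_le.2 j.2, fun R hR => ?_⟩
    have hiso := hz f hf
    rw [hfj] at hiso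
    refine (hQn.2 R (Fusion.isConj_trans (Fusion.isConj_trans (Fusion.isConj_symm hcQ) hiso.isConj) hR)).trans ?_
    rw [hQ, show g i = ((j' : ↥S) : Ω) from rfl, hCN j (hord j f hf hfj), hCN j' (hord j' g hg.1 rfl)]
    exact hle

end Cfsg.Agent.S5192
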