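import Cfsg.Statements.S5193
import Cfsg.Agent.Lib.Fusion.CenterControlHyp
import Cfsg.Agent.S2799

set_option autoImplicit false
open Cfsg

namespace Cfsg.Agent.S5193

/-- Glauberman's Theorem for fusion systems. Let F be a saturated fusion system over a finite p-group S, let J(S) be the subgroup generated by the abelian subgroups of S of largest order, and let N be the normalizer fusion system of J(S) in F (a fusion system over N_S(J(S)) = S). Then every p-th power of an element of Z(S) that lies in the centre of N lies in the centre of F; and if p is odd, or if the symmetric group of degree 4 is not involved in any model of the normalizer system of a fully normalized F-centric subgroup (F is S₄-free), then the centre of N equals the centre of F. -/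
theorem result {Ω : Type*} [Group Ω] {S : Subgroup Ω} [Finite S] (p : ℕ) [Fact p.Prime] (hS : IsPGroup p S) (F : Cfsg.FusionSystem S) (hF : F.IsSaturated p) (N : Cfsg.FusionSystem (Cfsg.FusionSystem.normalizerIn S (Cfsg.thompsonSubgroupAOf S))) (hN : F.IsNormalizerSystem (Cfsg.thompsonSubgroupAOf S) N) : Subgroup.closure ((fun z : Ω => z ^ p) '' ((S ⊓ Subgroup.centralizer (S : Set Ω) : Subgroup Ω) : Set Ω)) ⊓ N.center ≤ F.center ∧ (p ≠ 2 ∨ F.IsSectionFree p (Equiv.Perm (Fin 4)) → N.center = F.center) := by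
  have hV : Fusion.CentralIn (Fusion.jaFunctor.{u_1} p) := fun P _ _ z hz hc => by
    exact ((Fusion.ZJC.centerThompsonAOf_eq P).ge (Fusion.ThompsonA.center_le_zj P ⟨hz, fun a ha => hc a ha⟩)).1
  have hL : Fusion.FixLocalHyp True p (Fusion.jaFunctor.{u_1} p) := Fusion.fixLocalHyp_of_groups _ hV
    fun L _ _ T hc z hzT hzc hh hfix g => by
      have hzN : z ∈ Subgroup.normalizer ((Cfsg.thompsonSubgroupAOf (T : Subgroup L)) : Set L) := Subgroup.le_normalizer (Agent.Solv.JWC.center_le_thompsonAOf _ ⟨hzT, fun a ha => hzc a ha⟩)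
      have hzO : z ∈ Cfsg.pCore p L := hc (Subgroup.mem_centralizer_iff.2 fun x hx =>
        hzc x (Agent.Solv.pCore_le_sylow T hx))
      refine S2799.result T z hzT ⟨⟨z, hzN⟩, Subgroup.mem_center_iff.2 fun a => Subtype.ext
        (mul_inv_eq_iff_eq_mul.1 (hfix a a.2)), rfl⟩ ?_ g
        (Agent.Solv.pCore_le_sylow T ((inferInstance : (Cfsg.pCore p L).Normal).conj_mem z hzO g))
      rcases hh with ⟨-, h | h⟩ | ⟨w, hw, hwc, hwz⟩
      · exact Or.inl h
      · exact Or.inr (Or.inr h)
      · exact Or.inr (Or.inl ⟨w, ⟨hw, fun a ha => hwc a ha⟩, hwz⟩)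
  obtain ⟨h1, h2⟩ := Fusion.center_eq_of_fixLocalHyp _ hV hL hS hF (U := Cfsg.thompsonSubgroupAOf S) rfl hN
  refine ⟨fun x hx => h1 x hx.2 fun n => Or.inr ?_, fun h => le_antisymm (fun x hx => h1 x hx fun _ => Or.inl ⟨trivial, h⟩) h2⟩
  obtain ⟨w, hw, hwx⟩ : ∃ w ∈ S ⊓ Subgroup.centralizer (S : Set Ω), w ^ p = x := by
    have hxmem := hx.1
    clear hx
    induction hxmem using Subgroup.closure_induction with
    | mem y hy => exact hy
    | one => exact ⟨1, one_mem _, one_pow _⟩
    | mul a b _ _ ha hb =>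
      obtain ⟨u, hu, rfl⟩ := ha
      obtain ⟨v, hv, rfl⟩ := hb
      exact ⟨u * v, mul_mem hu hv, (show Commute u v from hv.2 u hu.1).mul_pow p⟩
    | inv a _ ha =>
      obtain ⟨u, hu, rfl⟩ := ha
      exact ⟨u⁻¹, inv_mem hu, inv_pow u p⟩
  have hwn := zpow_mem hw n
  refine ⟨w ^ n, hwn.1, fun a ha => hwn.2 a ha, ?_⟩
  rw [← hwx, ← zpow_natCast, ← zpow_mul, mul_comm, zpow_mul, zpow_natCast]

end Cfsg.Agent.S5193
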