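import Cfsg.Statements.S5196
import Cfsg.Agent.Lib.Fusion.CenterControlApps
-- import your own Cfsg.Agent.* helpers here

set_option autoImplicit false
universe u
open Cfsg

namespace Cfsg.Agent.S5196

/-- Let p be an odd prime and W a positive characteristic p-functor: W assigns to every finite p-group Q (in a fixed universe) a subgroup W(Q), nontrivial when Q is, carried to W(R) by every isomorphism Q ≅ R; assume also Z(Q) ≤ W(Q) for every finite p-group Q. Suppose W satisfies the local condition: for every finite group G with Sylow p-subgroup P, O_p(G) ∩ Z(G) = O_p(G) ∩ Z(N_G(W(P))). Then W controls weak closure of elements in every saturated fusion system F over a finite p-group S: the centre of the normalizer fusion system of W(S) in F equals the centre of F. (For p = 2 no functor satisfies the local condition, so p is taken odd.) -/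
theorem result {p : ℕ} [Fact p.Prime] (hp : p ≠ 2) (W : ∀ (Q : Type u) [Group Q], Subgroup Q) (hW1 : ∀ (Q : Type u) [Group Q] [Finite Q], IsPGroup p Q → Nontrivial Q → W Q ≠ ⊥) (hW2 : ∀ (Q R : Type u) [Group Q] [Group R] [Finite Q], IsPGroup p Q → ∀ φ : Q ≃* R, (W Q).map φ.toMonoidHom = W R) (hWZ : ∀ (Q : Type u) [Group Q] [Finite Q], IsPGroup p Q → Subgroup.center Q ≤ W Q) (hC : ∀ (G : Type u) [Group G] [Finite G] (P : Sylow p G), Cfsg.pCore p G ⊓ Subgroup.center G = Cfsg.pCore p G ⊓ (Subgroup.center ↥(Subgroup.normalizer (((W ↥(P : Subgroup G)).map (P : Subgroup G).subtype : Subgroup G) : Set G))).map (Subgroup.normalizer (((W ↥(P : Subgroup G)).map (P : Subgroup G).subtype : Subgroup G) : Set G)).subtype) {Ω : Type u} [Group Ω] {S : Subgroup Ω} [Finite S] (hS : IsPGroup p S) (F : Cfsg.FusionSystem S) (hF : F.IsSaturated p) (N : Cfsg.FusionSystem (Cfsg.FusionSystem.normalizerIn S ((W ↥S).map S.subtype))) (hN : F.IsNormalizerSystem ((W ↥S).map S.subtype) N) : N.center = F.center := by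
    let V := Fusion.liftFunctor W hW1 hW2
    have hV : Fusion.CentralIn V := Fusion.centralIn_lift hWZ
    have : Finite S := inferInstance
    refine Fusion.center_eq_of_fixLocal V hV (Fusion.fixLocal_of_groups V hV ?_) hS hF
      (Fusion.liftFunctor_apply hS).symm hN
    intro L _ _ T hc z hzT hzc hfix g
    have hzO : z ∈ Cfsg.pCore p L := hc (Subgroup.mem_centralizer_iff.2 fun x hx =>
      hzc x (Agent.Solv.pCore_le_sylow T hx))
    rw [show V.W (T : Subgroup L) = (W ↥(T : Subgroup L)).map (T : Subgroup L).subtype from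
      Fusion.liftFunctor_apply T.isPGroup'] at hfix
    set M := Subgroup.normalizer (((W ↥(T : Subgroup L)).map (T : Subgroup L).subtype : Subgroup L) : Set L)
    have hzW : z ∈ (W ↥(T : Subgroup L)).map (T : Subgroup L).subtype :=
      ⟨⟨z, hzT⟩, hWZ _ T.isPGroup' (Subgroup.mem_center_iff.2 fun a => Subtype.ext (hzc a a.2)), rfl⟩
    have hz : z ∈ Cfsg.pCore p L ⊓ (Subgroup.center ↥M).map M.subtype :=
      ⟨hzO, ⟨z, Subgroup.le_normalizer hzW⟩, Subgroup.mem_center_iff.2 fun a => Subtype.ext
        (show (a : L) * z = z * a from mul_inv_eq_iff_eq_mul.1 (hfix a a.2)), rfl⟩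
    have hz' : z ∈ Cfsg.pCore p L ⊓ Subgroup.center L := (hC L T).symm.le hz
    rw [Subgroup.mem_center_iff.1 hz'.2 g, mul_inv_cancel_right]

end Cfsg.Agent.S5196
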