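import Cfsg.Statements.S5197
import Cfsg.Agent.Lib.Fusion.FocalControl
import Cfsg.Agent.Lib.Fusion.CenterControlApps
import Cfsg.Agent.Lib.Fusion.ModelSection

set_option autoImplicit false
universe u
open Cfsg

namespace Cfsg.Agent.S5197

/-- Let p be a prime and W a positive characteristic p-functor: W assigns to every finite p-group Q (in a fixed universe) a subgroup W(Q), nontrivial when Q is, carried to W(R) by every isomorphism Q ≅ R. Suppose W satisfies the local condition: for every finite group G with Sylow p-subgroup P such that C_G(O_p(G)) ≤ O_p(G), one has O_p(G) ∩ [G, G] = O_p(G) ∩ [N, N] for N = N_G(W(P)). Then W controls transfer in every saturated fusion system F over a finite p-group S: the focal subgroup of F equals the focal subgroup of the normalizer fusion system of W(S) in F. -/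
theorem result {p : ℕ} [Fact p.Prime] (W : ∀ (Q : Type u) [Group Q], Subgroup Q) (hW1 : ∀ (Q : Type u) [Group Q] [Finite Q], IsPGroup p Q → Nontrivial Q → W Q ≠ ⊥) (hW2 : ∀ (Q R : Type u) [Group Q] [Group R] [Finite Q], IsPGroup p Q → ∀ φ : Q ≃* R, (W Q).map φ.toMonoidHom = W R) (hT : ∀ (G : Type u) [Group G] [Finite G] (P : Sylow p G), Subgroup.centralizer ((Cfsg.pCore p G : Subgroup G) : Set G) ≤ Cfsg.pCore p G → Cfsg.pCore p G ⊓ commutator G = Cfsg.pCore p G ⊓ (commutator ↥(Subgroup.normalizer (((W ↥(P : Subgroup G)).map (P : Subgroup G).subtype : Subgroup G) : Set G))).map (Subgroup.normalizer (((W ↥(P : Subgroup G)).map (P : Subgroup G).subtype : Subgroup G) : Set G)).subtype) {Ω : Type u} [Group Ω] {S : Subgroup Ω} [Finite S] (hS : IsPGroup p S) (F : Cfsg.FusionSystem S) (hF : F.IsSaturated p) (N : Cfsg.FusionSystem (Cfsg.FusionSystem.normalizerIn S ((W ↥S).map S.subtype))) (hN : F.IsNormalizerSystem ((W ↥S).map S.subtype) N) : N.focalSubgroup = F.focalSubgroup := by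
  have hWc : IsCharPFunctor.{u} p W := ⟨hW1, hW2⟩
  have hfam : Local.FusionRed.IsFam p {W} := by rintro _ rfl; exact hWc
  set V := Fusion.liftFunctor W hW1 hW2
  have hV : ∀ {G : Type u} [Group G] (P : Subgroup G), IsPGroup p P → V.W P = (W ↥P).map P.subtype :=
    fun P hP => if_pos hP
  have hloc : Fusion.FocCtl.FocLocal p V := by
    intro L _ _ T _
    have hyp : Local.TransferRed.HypT p L {W} := fun X _ _ _ hX T' => by
      rw [hT X T' hX, commutator_def, Subgroup.map_commutator, ← MonoidHom.range_eq_map, Subgroup.range_subtype]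
      exact le_trans (inf_le_inf_right _ (Solv.pCore_le_sylow T'))
        (Local.TransferRed.le_tSub (𝓕 := Local.FusionRed.ind X {W}) ⟨W, rfl, rfl⟩ _)
    refine le_trans (Local.TransferRed.ct_of_hyp hfam L hyp T) (iSup₂_le ?_)
    rintro _ ⟨W', rfl, rfl⟩
    rw [hV _ T.isPGroup']
    exact inf_le_right
  have hVS : V.W S = (W ↥S).map S.subtype := hV S hS
  refine le_antisymm ((Subgroup.closure_le _).2 ?_) ?_
  · rintro _ ⟨P, φ, x, hφ, rfl⟩
    rw [← Fusion.extFun_coe φ x]
    exact Fusion.mem_focal_of_isMor (Fusion.isMor_of_normalizer hN (Fusion.isMor_extFun hφ)) x.2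
  · refine Fusion.FocCtl.focal_le V hloc _ rfl hS hF fun P f hf hext x hx => ?_
    rw [hVS] at hext
    have hWS : (W ↥S).map S.subtype ≤ S := Subgroup.map_subtype_le _
    have hnS : ∀ y ∈ S, y ∈ FusionSystem.normalizerIn S ((W ↥S).map S.subtype) := fun y hy => ⟨hy, by
      have := V.mem_normalizer (le_refl S) hy (Subgroup.le_normalizer hy)
      rwa [hVS] at this⟩
    exact Fusion.mem_focal_of_isMor ((Fusion.isMor_normalizer_iff hN).2
      ⟨fun y hy => hnS y (hf.le hy), fun y hy => hnS _ (hf.mem hy), hext⟩) hx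

end Cfsg.Agent.S5197
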