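import Cfsg.Statements.S5198
import Cfsg.Agent.Lib.Fusion.FactorHyperfocal
import Cfsg.Agent.Lib.Fusion.Normal
-- import your own Cfsg.Agent.* helpers here

set_option autoImplicit false
open Cfsg

namespace Cfsg.Agent.S5198

/-- Let F be a saturated fusion system over a finite p-group S and T a subgroup of S strongly closed in F (so T is normal in S). Then every element x of the hyperfocal subgroup of F acts on T by conjugation as an element of O^p(Aut_F(T))·Inn(T): there is an automorphism of T in the subgroup generated by the elements of Aut_F(T) of order prime to p together with the inner automorphisms of T that agrees with conjugation by x. -/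
theorem result {Ω : Type*} [Group Ω] {S : Subgroup Ω} [Finite S] (p : ℕ) [Fact p.Prime] (hS : IsPGroup p S) (F : Cfsg.FusionSystem S) (hF : F.IsSaturated p) (T : Subgroup Ω) (hT : F.StronglyClosed T) : ∀ x ∈ F.hyperfocalSubgroup p, ∃ α ∈ ((Cfsg.pResidual p ↥(F.autGroup T)).map (F.autGroup T).subtype ⊔ Cfsg.Inn ↥T : Subgroup (MulAut ↥T)), ∀ t : ↥T, ((α t : ↥T) : Ω) = x * (t : Ω) * x⁻¹ := by
    have hn := Fusion.le_normalizer_of_stronglyClosed hT
    have hTn : (T.subgroupOf S).Normal := Subgroup.normal_subgroupOf_of_le_normalizer hn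
    obtain ⟨D, hD⟩ := Fusion.exists_factor (θ := QuotientGroup.mk' (T.subgroupOf S)) (S' := ⊤)
      (fun s => by rw [QuotientGroup.mk'_apply, QuotientGroup.eq_one_iff, Subgroup.mem_subgroupOf])
      (MonoidHom.range_eq_top.2 (QuotientGroup.mk'_surjective _)) hT
    set G0 : Subgroup (MulAut ↥T) :=
      (Cfsg.pResidual p ↥(F.autGroup T)).map (F.autGroup T).subtype ⊔ Cfsg.Inn ↥T with hG0
    let c : ↥S →* MulAut ↥T := T.normalizerMonoidHom.comp (Subgroup.inclusion hn)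
    suffices h : F.hyperfocalSubgroup p ≤ (G0.comap c).map S.subtype by
      intro x hx
      obtain ⟨w, hw, rfl⟩ := h hx
      exact ⟨c w, hw, fun t => rfl⟩
    refine (Subgroup.closure_le _).2 ?_
    rintro _ ⟨P, α, x, hP, hα, rfl⟩
    set θ := QuotientGroup.mk' (T.subgroupOf S)
    obtain ⟨σ, hσ⟩ := Fusion.factor_autHom_image hS hF hT hD hP
    have hP' : Cfsg.FusionSystem.imageAlong θ P ≤ (⊤ : Subgroup _) := le_top
    obtain ⟨ρ, hρs, hρ⟩ := Fusion.factor_autHom hT hD hP'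
    have := Fusion.finite_autGroup (F := F) (Fusion.preimageAlong_le (θ := θ) (P' := Cfsg.FusionSystem.imageAlong θ P))
    have hmem : σ α ∈ Cfsg.pResidual p _ := Fusion.map_pResidual_le σ ⟨α, hα, rfl⟩
    rw [← Fusion.map_pResidual_eq hρs] at hmem
    obtain ⟨β, hβ, hβe⟩ := hmem
    have hTW : T ≤ (Cfsg.FusionSystem.preimageAlong θ (Cfsg.FusionSystem.imageAlong θ P)) := Fusion.le_preimageAlong hT.1 hD.2.1
    have hrm : ∀ γ : ↥(F.autGroup (Cfsg.FusionSystem.preimageAlong θ (Cfsg.FusionSystem.imageAlong θ P))), Fusion.IsIso F T T (Fusion.autFun (γ : MulAut ↥(Cfsg.FusionSystem.preimageAlong θ (Cfsg.FusionSystem.imageAlong θ P)))) := fun γ =>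
      Fusion.stronglyClosed_isIso hT (Fusion.isMor_of_mem_autGroup Fusion.preimageAlong_le γ.2) hTW
    let r : ↥(F.autGroup (Cfsg.FusionSystem.preimageAlong θ (Cfsg.FusionSystem.imageAlong θ P))) →* ↥(F.autGroup T) :=
      MonoidHom.mk' (fun γ => ⟨Fusion.autOf (hrm γ), Fusion.autOf_mem (hrm γ)⟩) fun γ δ =>
        Subtype.ext (MulEquiv.ext fun t => Subtype.ext (Fusion.autFun_mul _ _ (hTW t.2)))
    have hxS : (x : Ω) ∈ S := hP x.2
    have hαx : (((α : MulAut ↥P) x : ↥P) : Ω) ∈ S := hP (SetLike.coe_mem _)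
    have hxW : (x : Ω) ∈ (Cfsg.FusionSystem.preimageAlong θ (Cfsg.FusionSystem.imageAlong θ P)) := Fusion.mem_preimageAlong.2 ⟨hxS, Fusion.imageAlong_mem hP x.2⟩
    set βx := Fusion.autFun (β : MulAut ↥(Cfsg.FusionSystem.preimageAlong θ (Cfsg.FusionSystem.imageAlong θ P))) (x : Ω) with hβx
    have hβxS : βx ∈ S := Fusion.preimageAlong_le (Fusion.autFun_mem _ hxW)
    have hq : Fusion.qfun θ βx = Fusion.qfun θ (((α : MulAut ↥P) x : ↥P) : Ω) := by
      rw [hβx, ← hρ β x hxW, hβe, hσ α x x.2, Fusion.autFun_coe]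
    have ht := (Fusion.qfun_eq_iff hD.2.1 hβxS hαx).1 hq
    refine ⟨(⟨x, hxS⟩ : ↥S)⁻¹ * ⟨_, hαx⟩, ?_, rfl⟩
    show c _ ∈ G0
    have e1 : (⟨_, hαx⟩ : ↥S) = ⟨βx, hβxS⟩ * ⟨_, hT.1 ht⟩ := Subtype.ext (mul_inv_cancel_left _ _).symm
    have e2 : c ⟨βx, hβxS⟩ = ((r β : ↥(F.autGroup T)) : MulAut ↥T) * c ⟨x, hxS⟩ *
        ((r β : ↥(F.autGroup T)) : MulAut ↥T)⁻¹ := by
      refine eq_mul_inv_iff_mul_eq.2 (MulEquiv.ext fun t => Subtype.ext ?_)
      show βx * Fusion.autFun (β : MulAut ↥(Cfsg.FusionSystem.preimageAlong θ (Cfsg.FusionSystem.imageAlong θ P))) (t : Ω) * βx⁻¹ =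
        Fusion.autFun (β : MulAut ↥(Cfsg.FusionSystem.preimageAlong θ (Cfsg.FusionSystem.imageAlong θ P))) ((x : Ω) * t * (x : Ω)⁻¹)
      exact ((Fusion.isMor_of_mem_autGroup Fusion.preimageAlong_le β.2).map_conj (hTW t.2) hxW).symm
    have hrβ : r β ∈ Cfsg.pResidual p _ := Fusion.map_pResidual_le r ⟨β, hβ, rfl⟩
    have hcx : c ⟨x, hxS⟩ ∈ F.autGroup T :=
      Fusion.autInducedBy_le_autGroup hT.1 (Fusion.mem_autInducedBy.2 ⟨x, hxS, hn hxS, fun _ => rfl⟩)
    have hk : ((⟨c ⟨x, hxS⟩, hcx⟩ : ↥(F.autGroup T))⁻¹ * r β * ⟨c ⟨x, hxS⟩, hcx⟩) ∈ Cfsg.pResidual p _ := by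
      have hN : (Cfsg.pResidual p ↥(F.autGroup T)).Normal := inferInstance
      simpa using hN.conj_mem _ hrβ (⟨c ⟨x, hxS⟩, hcx⟩ : ↥(F.autGroup T))⁻¹
    rw [map_mul, map_inv, e1, map_mul, e2, ← mul_assoc]
    refine mul_mem ?_ (Subgroup.mem_sup_right ⟨⟨_, ht⟩, MulEquiv.ext fun t => rfl⟩)
    have hk' := Subgroup.mem_map_of_mem (F.autGroup T).subtype
      ((Cfsg.pResidual p ↥(F.autGroup T)).mul_mem hk ((Cfsg.pResidual p ↥(F.autGroup T)).inv_mem hrβ))
    refine Subgroup.mem_sup_left ?_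
    convert hk' using 1
    simp only [Subgroup.subtype_apply, Subgroup.coe_mul, Subgroup.coe_inv, mul_assoc]

end Cfsg.Agent.S5198
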