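import Cfsg.Statements.S5203
import Cfsg.Agent.Lib.Fusion.ResidualLimit

set_option autoImplicit false
open Cfsg

namespace Cfsg.Agent.S5203

/-- Let F be a saturated fusion system over a finite p-group S and E a normal subsystem of F over T that has p-power index in F. Then every residual limit of E has the same maps as every residual limit of F (the residual limit is reached by alternately passing to the p-residual and the p'-residual subsystem until nothing changes). -/
theorem result {Ω : Type*} [Group Ω] {S : Subgroup Ω} [Finite S] (p : ℕ) [Fact p.Prime] (hS : IsPGroup p S) (F : Cfsg.FusionSystem S) (hF : F.IsSaturated p) {T : Subgroup Ω} (E : Cfsg.FusionSystem T) (hE : E.IsNormalIn F p) (hidx : E.HasPPowerIndexIn F p) {U V : Subgroup Ω} (Finf : Cfsg.FusionSystem U) (hFinf : Finf.IsResidualLimitOf F p) (Einf : Cfsg.FusionSystem V) (hEinf : Einf.IsResidualLimitOf E p) : ∀ P : Subgroup Ω, Finf.Hom P = Einf.Hom P := by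
  obtain ⟨⟨hEs, -, hinv⟩, -⟩ := hE
  have hsc := hinv.2.1
  have hTS : T ≤ S := hsc.1
  have : Finite T := Cfsg.Agent.Fusion.finite_of_le hTS
  have hT := hS.to_le hTS
  have hhyp := Cfsg.Agent.Fusion.ResidualLimit.hyperfocal_eq hS hsc hidx
  intro P
  cases hFinf with
  | stable _ _ hh hres =>
    have hST : S ≤ T := hh ▸ hidx.2.1
    refine Cfsg.Agent.Fusion.ResidualLimit.unique (.stable F p hh hres) ‹_› ‹_› hS hF Einf
      (Cfsg.Agent.Fusion.ResidualLimit.congr_sys (le_antisymm hTS hST) (fun Q => Set.Subset.antisymm (hidx.1 Q)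
        (Cfsg.Agent.Fusion.PPowerIndex.subsystem_of_le hS le_rfl hST hF (fun _ => le_rfl) hidx Q)) hEinf) P
  | step _ _ D D' hD hD' hlim =>
    have hle := Cfsg.Agent.Fusion.hyperfocal_le F p
    have hDE : D.IsSubsystemOf E :=
      Cfsg.Agent.Fusion.PPowerIndex.subsystem_of_le hS hle hidx.2.1 hD.1 hD.2.1 hidx
    cases hEinf with
    | stable _ _ hh hres =>
      have hTh : T = F.hyperfocalSubgroup p := hh.symm.trans hhyp
      have hlim' : FusionSystem.IsResidualLimitOf Finf D' p := hlim
      have key : ∀ {R : Subgroup Ω} (e : T = R) (A A' : FusionSystem R), A.IsSaturated p → (∀ Q, A.Hom Q = E.Hom Q) →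
          A.IsPPrimeResidual p A' → FusionSystem.IsResidualLimitOf Finf A' p → Finf.Hom P = E.Hom P := by
        intro R e A A' _ hA hA' hl
        subst e
        obtain rfl : A = E := Cfsg.Agent.Fusion.fusionSystem_ext hA
        obtain rfl : A' = A := Cfsg.Agent.Fusion.ResidualLimit.eq_of_hom
          (hA'.2.2 A hEs hres.2.1) (hres.2.2 A' hA'.1 hA'.2.1)
        exact Cfsg.Agent.Fusion.ResidualLimit.eq_of_stable hl ‹_› ‹_› hT hEs hh hres P
      exact key hTh D D' hD.1 (fun Q => Set.Subset.antisymm (hDE Q)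
        (Cfsg.Agent.Fusion.PPowerIndex.subsystem_of_le hS hTS hTh.le hEs hidx.1 hD.2 Q)) hD' hlim'
    | step _ _ D₂ D₂' hD₂ hD₂' hlim₂ =>
      have hle₂ : E.hyperfocalSubgroup p ≤ T := Cfsg.Agent.Fusion.hyperfocal_le E p
      have h1 : D₂.IsSubsystemOf D := Cfsg.Agent.Fusion.PPowerIndex.subsystem_of_le hS (hle₂.trans hTS) hhyp.le hD₂.1
        (fun Q => (hD₂.2.1 Q).trans (hidx.1 Q)) hD.2
      have h2 : D.IsSubsystemOf D₂ := Cfsg.Agent.Fusion.PPowerIndex.subsystem_of_le hT (hhyp ▸ hle₂) hhyp.ge hD.1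
        hDE hD₂.2
      have key : ∀ {R : Subgroup Ω} (e : F.hyperfocalSubgroup p = R) (A A' : FusionSystem R),
          (∀ Q, A.Hom Q = D.Hom Q) → A.IsPPrimeResidual p A' → FusionSystem.IsResidualLimitOf Einf A' p →
            Finf.Hom P = Einf.Hom P := by
        intro R e A A' hA hA' hl
        subst e
        obtain rfl : A = D := Cfsg.Agent.Fusion.fusionSystem_ext hA
        obtain rfl : A' = D' := Cfsg.Agent.Fusion.ResidualLimit.eq_of_hom
          (hA'.2.2 D' hD'.1 hD'.2.1) (hD'.2.2 A' hA'.1 hA'.2.1)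
        exact Cfsg.Agent.Fusion.ResidualLimit.unique hlim ‹_› (Cfsg.Agent.Fusion.finite_of_le hle) (hS.to_le hle)
          hD'.1 Einf hl P
      exact key hhyp.symm D₂ D₂' (fun Q => Set.Subset.antisymm (h1 Q) (h2 Q)) hD₂' hlim₂

end Cfsg.Agent.S5203
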