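import Cfsg.Statements.S5212
import Cfsg.Agent.Lib.Fusion.MetacyclicTwo

set_option autoImplicit false
open Cfsg Cfsg.FusionSystem Cfsg.Agent.Fusion

namespace Cfsg.Agent.S5212

/-- Let S be a finite metacyclic 2-group that is not homocyclic abelian (a direct product of cyclic groups of one common order), not dihedral, not semidihedral and not generalized quaternion. Then every saturated fusion system over S is the inner fusion system of S. -/
theorem result {Ω : Type*} [Group Ω] {S : Subgroup Ω} [Finite S] (hS : IsPGroup 2 S) (F : Cfsg.FusionSystem S) (hF : F.IsSaturated 2) (hm : Cfsg.IsMetacyclic ↥S) (hh : ¬ ∃ n k : ℕ, Nonempty (↥S ≃* Multiplicative (Fin k → ZMod (2 ^ n)))) (hd : ¬ ∃ m : ℕ, Nonempty (↥S ≃* DihedralGroup m)) (hq : ¬ ∃ m : ℕ, Nonempty (↥S ≃* QuaternionGroup m)) (hsd : ¬ Cfsg.IsQuasiDihedral ↥S) : ∀ P : Subgroup Ω, F.Hom P = (Cfsg.innerFusionSystem S).Hom P := by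
  haveI : Fact (Nat.Prime 2) := ⟨Nat.prime_two⟩
  -- no dihedral or quaternion subgroup of order eight
  have hno : ¬ ∃ H : Subgroup ↥S, Nonempty (↥H ≃* DihedralGroup 4) ∨ Nonempty (↥H ≃* QuaternionGroup 2) := by
    intro h
    rcases Cfsg.Agent.S4398.result hS (MetacyclicTwo.sectional_of_metacyclic hm) h with
      ⟨k, hk⟩ | ⟨k, hk, a, b, ha, hb, hab⟩ | ⟨k, hk⟩
    · exact hd ⟨_, hk⟩
    · exact hsd ⟨k + 3, by omega, hk, a, b, ha, hb, hab⟩
    · exact hq ⟨_, hk⟩
  have htop : IsPGroup 2 (MulAut S) := by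
    by_contra hA
    rcases Cfsg.Agent.S1896.result hS hm hA with h | ⟨n, ⟨e⟩⟩
    · exact hq ⟨2, h⟩
    · exact hh ⟨n, 2, ⟨e.trans ((MulEquiv.prodMultiplicative (ZMod (2 ^ n)) (ZMod (2 ^ n))).symm.trans
        (LinearEquiv.finTwoArrow ℤ (ZMod (2 ^ n))).symm.toAddEquiv.toMultiplicative)⟩⟩
  have hcl : ∀ P : Subgroup Ω, F.IsFullyNormalized P → F.IsCentric P → F.IsRadical 2 P →
      ∃ R : Sylow 2 (F.autGroup P), (R : Subgroup (F.autGroup P)).Normal := by
    intro P hPn hPc hPr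
    have := finite_of_le hPn.1
    have := finite_autGroup (F := F) hPn.1
    suffices hP : IsPGroup 2 (MulAut P) by
      obtain ⟨R⟩ := (inferInstance : Nonempty (Sylow 2 (F.autGroup P)))
      refine ⟨R, ?_⟩
      have : (R : Subgroup (F.autGroup P)) = ⊤ :=
        (R.is_maximal' (Q := ⊤) ((hP.to_subgroup (F.autGroup P)).to_subgroup ⊤) le_top).symm
      rw [this]; infer_instance
    by_contra hA
    rcases eq_or_lt_of_le hPn.1 with h | h
    · subst h; exact hA htop
    have hmP : IsMetacyclic ↥P :=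
      MetacyclicTwo.isMetacyclic_map (Subgroup.subgroupOfEquivOfLe h.le).toMonoidHom
        (Subgroup.subgroupOfEquivOfLe h.le).surjective (MetacyclicTwo.isMetacyclic_subgroup hm (P.subgroupOf S))
    rcases Cfsg.Agent.S1896.result (hS.to_le h.le) hmP hA with ⟨⟨e⟩⟩ | ⟨n, ⟨e⟩⟩
    · exact hno ⟨P.subgroupOf S, Or.inr ⟨(Subgroup.subgroupOfEquivOfLe h.le).trans e⟩⟩
    · obtain ⟨H, hH⟩ := MetacyclicTwo.key hS hm h (centralizerIn_le_of_isCentric hPc) hPr e
      exact hno ⟨H, Or.inl hH⟩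
  have hle : innerFusionSystem S ≤ F := by
    rw [le_iff_isMor]
    intro P f hf
    obtain ⟨φ, ⟨hP, a, ha, hx⟩, he⟩ := hf
    exact (isMor_conj hP ha).congr fun x hxP => (he ⟨x, hxP⟩).symm.trans (hx _)
  have hge : F ≤ innerFusionSystem S := by
    refine exists_isMor_top_of_closed_sylow hS hF hcl fun α hα => ?_
    obtain ⟨-, R, hR⟩ := fullyAutomized_top hS hF
    have hR' : (R : Subgroup (F.autGroup S)) = ⊤ :=
      (R.is_maximal' (Q := ⊤) ((htop.to_subgroup (F.autGroup S)).to_subgroup ⊤) le_top).symm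
    have : (⟨α, hα⟩ : F.autGroup S) ∈ (R : Subgroup (F.autGroup S)) := hR' ▸ Subgroup.mem_top _
    rw [hR] at this
    exact autInducedBy_le_autGroup le_rfl this
  exact fun P => (hge P).antisymm (hle P)

end Cfsg.Agent.S5212
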