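import Cfsg.Statements.S5220
import Cfsg.Agent.Lib.Fusion.PowerCenterGen

set_option autoImplicit false
open Cfsg

namespace Cfsg.Agent.S5220

/-- Let F be a saturated fusion system over a nontrivial finite p-group S, let J(S) be the subgroup generated by the abelian subgroups of S of largest order, and let V be the subgroup generated by the p-th powers of the elements of Z(S). Then F is generated by the centralizer fusion system of V and the normalizer fusion system of J(S): every fusion system over S containing the maps of both contains every map of F. -/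
theorem result {Ω : Type*} [Group Ω] {S : Subgroup Ω} [Finite S] (p : ℕ) [Fact p.Prime] (hS : IsPGroup p S) (F : Cfsg.FusionSystem S) (hF : F.IsSaturated p) (hS1 : S ≠ ⊥) (C : Cfsg.FusionSystem (Cfsg.FusionSystem.centralizerIn S (Cfsg.powerClosure p 1 (S ⊓ Subgroup.centralizer (S : Set Ω))))) (hC : F.IsCentralizerSystem (Cfsg.powerClosure p 1 (S ⊓ Subgroup.centralizer (S : Set Ω))) C) (N : Cfsg.FusionSystem (Cfsg.FusionSystem.normalizerIn S (Cfsg.thompsonSubgroupAOf S))) (hN : F.IsNormalizerSystem (Cfsg.thompsonSubgroupAOf S) N) (E : Cfsg.FusionSystem S) (hCE : C.IsSubsystemOf E) (hNE : N.IsSubsystemOf E) : F.IsSubsystemOf E := by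
  set Z := S ⊓ Subgroup.centralizer (S : Set Ω) with hZ
  set V := Cfsg.powerClosure p 1 Z with hVdef
  set J := Cfsg.thompsonSubgroupAOf S with hJdef
  have hJS : J ≤ S := Subgroup.map_subtype_le _
  have hVS : V ≤ S := (Subgroup.closure_le _).2 (by
    rintro _ ⟨z, hz, rfl⟩
    exact S.pow_mem hz.1 _)
  have hVc : ∀ a ∈ S, ∀ v ∈ V, a * v = v * a := fun a ha v hv => by
    induction hv using Subgroup.closure_induction with
    | mem v hv =>
      obtain ⟨z, hz, rfl⟩ := hv
      exact ((show Commute a z from hz.2 a ha).pow_right _).eq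
    | one => simp
    | mul x y _ _ hx hy => exact ((show Commute a x from hx).mul_right (show Commute a y from hy)).eq
    | inv x _ hx => exact ((show Commute a x from hx).inv_right).eq
  have hSC : S ≤ Cfsg.FusionSystem.centralizerIn S V := fun a ha => ⟨ha, fun v hv => (hVc a ha v hv).symm⟩
  have hSN : S ≤ Cfsg.FusionSystem.normalizerIn S J := fun a ha =>
    ⟨ha, (Fusion.jaFunctor.{u_1} p).mem_normalizer le_rfl ha (Subgroup.le_normalizer ha)⟩
  have hinv : ∀ {P Q : Subgroup Ω} {f g : Ω → Ω}, Fusion.IsMor E P f → (∀ y ∈ Q, ∃ x ∈ P, f x = y) →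
      (∀ x ∈ P, g (f x) = x) → Fusion.IsMor E Q g := by
    intro P Q f g hf hs hl
    have hi := hf.isIso
    obtain ⟨g', hg', hl', -⟩ := hi.exists_symm
    refine ((hg'.1.restrict fun y hy => ?_).congr fun y hy => ?_)
    · obtain ⟨x, hx, rfl⟩ := hs y hy
      exact hi.apply_mem hx
    · obtain ⟨x, hx, rfl⟩ := hs y hy
      rw [hl x hx, hl' x hx]
  intro P φ hφ
  have hgen := Fusion.PowGen.generated _ rfl hS hF (fun P k => Fusion.IsMor E P k)
    ⟨fun h hR => h.restrict hR, fun h he => h.congr he, fun h₁ h₂ hm => h₁.comp h₂ hm, hinv⟩ 0 ?_ ?_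
    P _ (Fusion.isMor_extFun hφ) (Nat.zero_le _)
  · exact Fusion.mem_hom_iff.2 hgen
  · intro Q k hk _ hz
    have hmem : ∀ v ∈ V, v ∈ Q ∧ k v = v := by
      intro v hv
      induction hv using Subgroup.closure_induction with
      | mem v hv =>
        obtain ⟨z, hzZ, rfl⟩ := hv
        rw [pow_one]
        exact hz z hzZ.1 fun a ha => hzZ.2 a ha
      | one => exact ⟨one_mem _, hk.map_one⟩
      | mul x y _ _ hx hy => exact ⟨mul_mem hx.1 hy.1, by rw [hk.map_mul hx.1 hy.1, hx.2, hy.2]⟩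
      | inv x _ hx => exact ⟨Subgroup.inv_mem _ hx.1, by rw [hk.map_inv hx.1, hx.2]⟩
    obtain ⟨ψ, hψ, hψe⟩ := hk
    obtain ⟨ψ', hψ', hψe'⟩ := (show Fusion.IsMor F (Q ⊔ V) k from by
      rw [sup_eq_left.2 fun v hv => (hmem v hv).1]; exact ⟨ψ, hψ, hψe⟩)
    refine ⟨ψ, hCE Q ?_, hψe⟩
    rw [hC Q]
    refine ⟨hψ, (F.le_of_mem hψ).1.trans hSC, fun x => hSC ((F.le_of_mem hψ).2 x), ψ', hψ', fun x => ?_, fun x => ?_⟩
    · rw [hψe', hψe]; rfl
    · rw [hψe']; exact (hmem x x.2).2
  · intro Q k hk _ hJQ hkJ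
    obtain ⟨ψ, hψ, hψe⟩ := id hk
    obtain ⟨ψ', hψ', hψe'⟩ := (show Fusion.IsMor F (Q ⊔ J) k from by
      rw [sup_eq_left.2 hJQ]; exact hk)
    refine ⟨ψ, hNE Q ?_, hψe⟩
    rw [hN Q]
    refine ⟨hψ, (F.le_of_mem hψ).1.trans hSN, fun x => hSN ((F.le_of_mem hψ).2 x), ψ', hψ', fun x => ?_, ?_⟩
    · rw [hψe', hψe]; rfl
    · ext y
      rw [hkJ.2 y]
      constructor
      · rintro ⟨x, hx, rfl⟩
        exact ⟨x, hx, (hψe' x).symm⟩
      · rintro ⟨x, hx, rfl⟩
        exact ⟨⟨x, Subgroup.mem_sup_right hx⟩, hx, hψe' _⟩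

end Cfsg.Agent.S5220
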