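import Cfsg.Statements.S5222
import Cfsg.Agent.Lib.Fusion.TateApps
import Cfsg.Agent.Lib.Fusion.KNormalizer
-- import your own Cfsg.Agent.* helpers here

set_option autoImplicit false
open Cfsg

namespace Cfsg.Agent.S5222

/-- Let F be a saturated fusion system over a finite p-group S whose normalizer fusion system of S is the inner fusion system of S (Aut_F(S) is a p-group). Then for every subgroup Q of S with [S, S] ≤ Q ≤ Φ(S), the normalizer fusion system of Q in F is the inner fusion system of N_S(Q) = S. -/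
theorem result {Ω : Type*} [Group Ω] {S : Subgroup Ω} [Finite S] (p : ℕ) [Fact p.Prime] (hS : IsPGroup p S) (F : Cfsg.FusionSystem S) (hF : F.IsSaturated p) (hN : ∀ N : Cfsg.FusionSystem (Cfsg.FusionSystem.normalizerIn S S), F.IsNormalizerSystem S N → ∀ P : Subgroup Ω, N.Hom P = (Cfsg.innerFusionSystem (Cfsg.FusionSystem.normalizerIn S S)).Hom P) (Q : Subgroup Ω) (h1 : (commutator ↥S).map S.subtype ≤ Q) (h2 : Q ≤ (frattini ↥S).map S.subtype) : ∀ N : Cfsg.FusionSystem (Cfsg.FusionSystem.normalizerIn S Q), F.IsNormalizerSystem Q N → ∀ P : Subgroup Ω, N.Hom P = (Cfsg.innerFusionSystem (Cfsg.FusionSystem.normalizerIn S Q)).Hom P := by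
  intro N hNsys P
  have hQS : Q ≤ S := h2.trans (Subgroup.map_subtype_le _)
  have hc : ⁅S, S⁆ ≤ Q := by
    rw [show ⁅S, S⁆ = (commutator ↥S).map S.subtype by
      rw [commutator_def, Subgroup.map_commutator, ← MonoidHom.range_eq_map, Subgroup.range_subtype]]
    exact h1
  have hSQ : S ≤ Subgroup.normalizer (Q : Set Ω) := fun a ha => Fusion.mem_normalizer_of_conj_mem hQS fun x hx => by
    have := Q.mul_mem (hc (Subgroup.commutator_mem_commutator ha (hQS hx))) hx
    simpa [commutatorElement_def] using this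
  have hT : Cfsg.FusionSystem.normalizerIn S Q = S := inf_eq_left.2 hSQ
  have : Finite ↥(Cfsg.FusionSystem.normalizerIn S Q) := Fusion.finite_of_le Fusion.normalizerIn_le
  have hfn : F.IsFullyNormalized Q := ⟨hQS, fun R _ =>
    Nat.card_le_card_of_injective (Subgroup.inclusion (Fusion.normalizerIn_le.trans hT.ge))
      (Subgroup.inclusion_injective _)⟩
  have hNs := Fusion.normalizerSystem_saturated hS hF hfn hNsys
  have hmor : ∀ R f, Fusion.IsMor N R f → Fusion.IsMor F R f := fun R f ⟨φ, hφ, he⟩ =>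
    ⟨φ, (show φ ∈ F.normalizerHom Q R by rw [← hNsys R]; exact hφ).1, he⟩
  have hsc : N.StronglyClosed Q := by
    refine ⟨hQS.trans hT.ge, fun R hR φ hφ x => ?_⟩
    rw [hNsys R] at hφ
    obtain ⟨-, -, -, ψ, -, hψe, hψm⟩ := hφ
    rw [← hψe x]
    exact hψm.le ⟨_, Subgroup.mem_subgroupOf.2 (hR x.2), rfl⟩
  suffices key : ∀ (T : Subgroup Ω) (E : Cfsg.FusionSystem T), T = S → E.IsSaturated p →
      (∀ R f, Fusion.IsMor E R f → Fusion.IsMor F R f) → E.StronglyClosed Q →
      ∀ P : Subgroup Ω, E.Hom P = (Cfsg.innerFusionSystem T).Hom P from key _ N hT hNs hmor hsc P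
  intro T E hTS hEs hEF hEQ R
  subst hTS
  have hA : ∀ f : Ω → Ω, Fusion.IsMor E T f → ∃ a ∈ T, ∀ x ∈ T, f x = a * x * a⁻¹ := fun f hf =>
    Fusion.autS_conj_of_normalizer_inner hN (hEF T f hf)
  have hfoc : E.focalSubgroup ≤ ⁅T, T⁆ :=
    Fusion.focal_le_of_le_sup_frattini hS hEs le_rfl Fusion.commutator_le_focal
      (((Fusion.focal_le_of_stronglyClosed hS hEs hc hEQ hA).trans h2).trans le_sup_left)
  have hbot : E.hyperfocalSubgroup p = ⊥ := le_bot_iff.1 (Fusion.hyperfocal_le_of_le_sup hS hEs bot_le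
    (fun a _ x hx => by simp [Subgroup.mem_bot.1 hx]) ((Fusion.hyperfocal_le_focal.trans hfoc).trans le_sup_right))
  rw [Fusion.eq_inner_of_hyperfocal_eq_bot hS hEs hbot]

end Cfsg.Agent.S5222
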