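import Cfsg.Statements.S5223
import Cfsg.Agent.Lib.Fusion.Tate
-- import your own Cfsg.Agent.* helpers here

set_option autoImplicit false
open Cfsg

namespace Cfsg.Agent.S5223

/-- Let F be a saturated fusion system over a finite p-group S. Suppose there are subgroups Q₀ = S, Q₁, …, Qₙ = 1 (not required to be nested) such that for each i < n the focal subgroup of Qᵢ (generated by the elements x⁻¹φ(x), x ∈ Qᵢ, φ a map of F defined on the cyclic group generated by x) lies in Qᵢ₊₁. Then F is the inner fusion system of S. -/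
theorem result {Ω : Type*} [Group Ω] {S : Subgroup Ω} [Finite S] (p : ℕ) [Fact p.Prime] (hS : IsPGroup p S) (F : Cfsg.FusionSystem S) (hF : F.IsSaturated p) (n : ℕ) (Q : Fin (n + 1) → Subgroup Ω) (hQ0 : Q 0 = S) (hQn : Q (Fin.last n) = ⊥) (hstep : ∀ i : Fin n, Subgroup.closure {y : Ω | ∃ x ∈ Q i.castSucc, ∃ φ ∈ F.Hom (Subgroup.zpowers x), y = x⁻¹ * φ ⟨x, Subgroup.mem_zpowers x⟩} ≤ Q i.succ) : ∀ P : Subgroup Ω, F.Hom P = (Cfsg.innerFusionSystem S).Hom P := by
  intro P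
  set L := F.hyperfocalSubgroup p with hL
  set R := Subgroup.closure {y : Ω | ∃ x ∈ L, ∃ φ ∈ F.Hom (Subgroup.zpowers x), y = x⁻¹ * φ ⟨x, Subgroup.mem_zpowers x⟩} with hR
  have hsc := Fusion.hyperfocal_stronglyClosed hS hF
  have hgen : ∀ (P : Subgroup Ω) (f : Ω → Ω), Fusion.IsMor F P f → ∀ x ∈ L, x ∈ P → x⁻¹ * f x ∈ R := by
    intro P f hf x hx hxP
    obtain ⟨φ, hφ, he⟩ := hf.restrict (Subgroup.zpowers_le.2 hxP)
    exact Subgroup.subset_closure ⟨x, hx, φ, hφ, by rw [he]⟩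
  have hRL : R ≤ L := by
    refine (Subgroup.closure_le _).2 ?_
    rintro _ ⟨x, hx, φ, hφ, rfl⟩
    exact L.mul_mem (L.inv_mem hx) (hsc.2 _ (Subgroup.zpowers_le.2 hx) φ hφ _)
  have hc : ⁅L, S⁆ ≤ R := Subgroup.commutator_le.2 fun a ha b hb => by
    have := hgen S _ (Fusion.isMor_conj le_rfl hb) a⁻¹ (L.inv_mem ha) (S.inv_mem (Fusion.hyperfocal_le F p ha))
    simpa [commutatorElement_def, mul_assoc] using this
  obtain ⟨A, _, χ, -, hker, hχ⟩ := Fusion.exists_char (Fusion.hyperfocal_le F p) hRL hc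
  have hone := Fusion.hyperfocal_char_eq_one hS χ fun P' f hf x y hx hy => by
    rw [← inv_mul_eq_one, ← map_inv, ← map_mul, hker]
    have h2 := R.inv_mem (hgen P' f hf x x.2 hx)
    rw [← hy, mul_inv_rev, inv_inv] at h2
    exact h2
  have hLR : L ≤ R := fun z hz => (hker ⟨z, hz⟩).1 (hone ⟨z, hz⟩)
  have hall : ∀ i, L ≤ Q i := by
    intro i
    induction i using Fin.induction with
    | zero => rw [hQ0]; exact Fusion.hyperfocal_le F p
    | succ i ih =>
      refine hLR.trans (le_trans ?_ (hstep i))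
      exact Subgroup.closure_mono fun y ⟨x, hx, φ, hφ, e⟩ => ⟨x, ih hx, φ, hφ, e⟩
  rw [Fusion.eq_inner_of_hyperfocal_eq_bot hS hF (le_bot_iff.1 (hQn ▸ hall (Fin.last n)))]

end Cfsg.Agent.S5223
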