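import Cfsg.Statements.S5224
import Cfsg.Agent.Lib.Fusion.Tate
-- import your own Cfsg.Agent.* helpers here

set_option autoImplicit false
open Cfsg

namespace Cfsg.Agent.S5224

/-- Tate's Theorem for fusion systems. Let F be a saturated fusion system over a finite p-group S and H a saturated fusion system over S contained in F. Then the following are equivalent: the elementary focal subgroups Φ(S)·foc agree for F and H; the focal subgroups of F and H agree; the hyperfocal subgroups of F and H agree. -/
theorem result {Ω : Type*} [Group Ω] {S : Subgroup Ω} [Finite S] (p : ℕ) [Fact p.Prime] (hS : IsPGroup p S) (F : Cfsg.FusionSystem S) (hF : F.IsSaturated p) (H : Cfsg.FusionSystem S) (hH : H.IsSaturated p) (hHF : H.IsSubsystemOf F) : (((frattini ↥S).map S.subtype ⊔ F.focalSubgroup) = ((frattini ↥S).map S.subtype ⊔ H.focalSubgroup) ↔ F.focalSubgroup = H.focalSubgroup) ∧ (F.focalSubgroup = H.focalSubgroup ↔ F.hyperfocalSubgroup p = H.hyperfocalSubgroup p) := by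
  have hle : H ≤ F := hHF
  have hhyp : F.focalSubgroup = H.focalSubgroup → F.hyperfocalSubgroup p = H.hyperfocalSubgroup p := fun h =>
    le_antisymm (Fusion.hyperfocal_le_of_le_sup hS hF (Fusion.hyperfocal_mono hle)
      (fun a ha x hx => Fusion.conj_mem_hyperfocal ha hx)
      (Fusion.hyperfocal_le_focal.trans (h.le.trans (Fusion.focal_eq hS hH).le))) (Fusion.hyperfocal_mono hle)
  refine ⟨⟨fun h => ?_, fun h => by rw [h]⟩, hhyp, fun h => ?_⟩
  · exact le_antisymm (Fusion.focal_le_of_le_sup_frattini hS hF (Fusion.commutator_le_focal (F := H))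
      (Fusion.focal_mono hle) (le_sup_right.trans h.le)) (Fusion.focal_mono hle)
  · rw [Fusion.focal_eq hS hF (p := p), Fusion.focal_eq hS hH (p := p), h]

end Cfsg.Agent.S5224
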