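import Cfsg.Statements.S5246
import Cfsg.Agent.Lib.Fusion.GroupSystem
import Cfsg.Agent.Lib.Solv.Basic
import Cfsg.Prelude.Def_LocalEven

set_option autoImplicit false
open Cfsg

namespace Cfsg.Agent.S5246

/-- Let p be an odd prime, G a finite group and P a Sylow p-subgroup. Call a fusion system F p-stable when, for every fully normalized subgroup Q and every χ ∈ Aut_F(Q) acting quadratically on Q (that is, χ fixes a⁻¹χ(a) for every a ∈ Q; equivalently χ(a⁻¹)·a·χ(a⁻¹)·χ(χ(a)) = 1), χ lies in O_p(Aut_F(Q)). Then G is p-stable in the normalizer form (for every p-subgroup Q and x ∈ N_G(Q) with [Q, x, x] = 1, the image of x lies in O_p(N_G(Q)/C_G(Q))) if and only if the fusion system of G on P is p-stable. -/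
theorem result {Ω : Type*} [Group Ω] [Finite Ω] {p : ℕ} [Fact p.Prime] (hp : p ≠ 2) (P : Sylow p Ω) : Cfsg.IsNormalizerPStable p Ω ↔ (∀ Q : Subgroup Ω, (Cfsg.groupFusionSystem (P : Subgroup Ω)).IsFullyNormalized Q → ∀ χ : MulAut ↥Q, χ ∈ (Cfsg.groupFusionSystem (P : Subgroup Ω)).autGroup Q → (∀ a : ↥Q, (χ a⁻¹) * a * (χ a⁻¹) * (χ (χ a)) = 1) → χ ∈ ((Cfsg.pCore p ↥((Cfsg.groupFusionSystem (P : Subgroup Ω)).autGroup Q)).map ((Cfsg.groupFusionSystem (P : Subgroup Ω)).autGroup Q).subtype : Subgroup (MulAut ↥Q))) := by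
  classical
  open Cfsg.Agent.Fusion in
  -- quadratic action
  have hquad : ∀ (Q : Subgroup Ω) (g : Ω) (hg : g ∈ Subgroup.normalizer (Q : Set Ω)),
      ⁅⁅Q, Subgroup.zpowers g⁆, Subgroup.zpowers g⁆ = ⊥ ↔
      ∀ a : ↥Q, (Q.normalizerMonoidHom ⟨g, hg⟩ a⁻¹) * a * (Q.normalizerMonoidHom ⟨g, hg⟩ a⁻¹) *
        (Q.normalizerMonoidHom ⟨g, hg⟩ (Q.normalizerMonoidHom ⟨g, hg⟩ a)) = 1 := by
    intro Q g hg
    have hfix : ∀ a : Ω, (g * a⁻¹ * g⁻¹ * a * (g * a⁻¹ * g⁻¹) * (g * (g * a * g⁻¹) * g⁻¹) = 1) ↔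
        g * (a⁻¹ * (g * a * g⁻¹)) * g⁻¹ = a⁻¹ * (g * a * g⁻¹) := by
      intro a
      constructor
      · intro h
        calc g * (a⁻¹ * (g * a * g⁻¹)) * g⁻¹
            = (g * a⁻¹ * g⁻¹) * (g * (g * a * g⁻¹) * g⁻¹) := by group
          _ = (a⁻¹ * (g * a * g⁻¹)) * (g * a⁻¹ * g⁻¹ * a * (g * a⁻¹ * g⁻¹) * (g * (g * a * g⁻¹) * g⁻¹)) := by group
          _ = _ := by rw [h, mul_one]
      · intro h
        calc g * a⁻¹ * g⁻¹ * a * (g * a⁻¹ * g⁻¹) * (g * (g * a * g⁻¹) * g⁻¹)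
            = g * a⁻¹ * g⁻¹ * a * (g * (a⁻¹ * (g * a * g⁻¹)) * g⁻¹) := by group
          _ = g * a⁻¹ * g⁻¹ * a * (a⁻¹ * (g * a * g⁻¹)) := by rw [h]
          _ = 1 := by group
    have hval : ∀ a : ↥Q, ((Q.normalizerMonoidHom ⟨g, hg⟩ a : ↥Q) : Ω) = g * (a : Ω) * g⁻¹ := fun a => rfl
    constructor
    · intro h a
      refine Subtype.ext ?_
      simp only [Subgroup.coe_mul, Subgroup.coe_one, hval, Subgroup.coe_inv]
      rw [hfix]
      have hd : (a : Ω)⁻¹ * (g * a * g⁻¹) ∈ ⁅Q, Subgroup.zpowers g⁆ := by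
        have := Subgroup.commutator_mem_commutator (inv_mem a.2) (Subgroup.mem_zpowers g)
        simpa [commutatorElement_def, mul_assoc] using this
      have h2 := Subgroup.commutator_mem_commutator hd (Subgroup.mem_zpowers g)
      rw [h, Subgroup.mem_bot, commutatorElement_eq_one_iff_mul_comm] at h2
      rw [← h2, mul_inv_cancel_right]
    · intro h
      rw [Subgroup.commutator_eq_bot_iff_le_centralizer, Subgroup.centralizer_eq_iInf]
      have hfixed : ∀ a ∈ Q, g * (a⁻¹ * (g * a * g⁻¹)) = (a⁻¹ * (g * a * g⁻¹)) * g := fun a ha => by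
        have h1 := congrArg Subtype.val (h ⟨a, ha⟩)
        simp only [Subgroup.coe_mul, Subgroup.coe_one, hval, Subgroup.coe_inv] at h1
        exact mul_inv_eq_iff_eq_mul.1 ((hfix a).1 h1)
      refine le_iInf₂ fun z hz => ?_
      obtain ⟨j, rfl⟩ := hz
      rw [Subgroup.commutator_le]
      intro x hx y hy
      obtain ⟨i, rfl⟩ := hy
      refine Subgroup.mem_centralizer_singleton_iff.2 ?_
      suffices hc : ∀ (i : ℕ) (x : Ω), x ∈ Q → Commute g (x * g ^ i * x⁻¹ * (g ^ i)⁻¹) by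
        have hm : ∃ n : ℕ, g ^ i = g ^ n := ⟨(i % orderOf g).toNat, by
          rw [← zpow_natCast, Int.toNat_of_nonneg (Int.emod_nonneg _ (by exact_mod_cast (orderOf_pos g).ne')),
            zpow_mod_orderOf]⟩
        obtain ⟨n, hn⟩ := hm
        have := ((hc n x hx).zpow_left j).symm
        simp only [commutatorElement_def, hn]
        exact this
      intro i
      induction i with
      | zero => intro x _; simp [Commute.one_right]
      | succ i ih =>
        intro x hx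
        have hgi : g ^ i * x⁻¹ * (g ^ i)⁻¹ ∈ Q :=
          (Subgroup.mem_normalizer_iff.1 (pow_mem hg i) _).1 (inv_mem hx)
        have e : x * g ^ (i + 1) * x⁻¹ * (g ^ (i + 1))⁻¹ = (x * g ^ i * x⁻¹ * (g ^ i)⁻¹) *
            ((g ^ i * x⁻¹ * (g ^ i)⁻¹)⁻¹ * (g * (g ^ i * x⁻¹ * (g ^ i)⁻¹) * g⁻¹)) := by
          group
        rw [e]
        exact (ih x hx).mul_right (hfixed _ hgi)
  -- membership in the core
  have hcore : ∀ (Q : Subgroup Ω) (n : ↥(Subgroup.normalizer (Q : Set Ω))),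
      (QuotientGroup.mk (s := (Subgroup.centralizer (Q : Set Ω)).subgroupOf (Subgroup.normalizer (Q : Set Ω))) n ∈
        Cfsg.pCore p (↥(Subgroup.normalizer (Q : Set Ω)) ⧸
          (Subgroup.centralizer (Q : Set Ω)).subgroupOf (Subgroup.normalizer (Q : Set Ω)))) ↔
      Q.normalizerMonoidHom n ∈
        (Cfsg.pCore p ↥Q.normalizerMonoidHom.range).map Q.normalizerMonoidHom.range.subtype := by
    intro Q n
    have hk : (Subgroup.centralizer (Q : Set Ω)).subgroupOf (Subgroup.normalizer (Q : Set Ω)) =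
        Q.normalizerMonoidHom.ker := by rw [Subgroup.normalizerMonoidHom_ker]
    let e := (QuotientGroup.quotientMulEquivOfEq hk).trans
      (QuotientGroup.quotientKerEquivRange Q.normalizerMonoidHom)
    have he : (e (QuotientGroup.mk n) : MulAut ↥Q) = Q.normalizerMonoidHom n := rfl
    rw [← Cfsg.Agent.Solv.pCore_map_equiv p e, Subgroup.map_map, ← he]
    exact (Subgroup.mem_map_iff_mem (f := Q.normalizerMonoidHom.range.subtype.comp e.toMonoidHom)
      (Subtype.val_injective.comp e.injective)).symm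
  have hrange : ∀ Q : Subgroup Ω, Q ≤ (P : Subgroup Ω) →
      (Cfsg.groupFusionSystem (P : Subgroup Ω)).autGroup Q = Q.normalizerMonoidHom.range := by
    intro Q hQ
    rw [Cfsg.Agent.Fusion.autGroup_groupFusionSystem hQ]
    ext α
    rw [Cfsg.Agent.Fusion.mem_autInducedBy]
    constructor
    · rintro ⟨g, -, hg, hx⟩
      exact ⟨⟨g, hg⟩, MulEquiv.ext fun x => Subtype.ext (hx x).symm⟩
    · rintro ⟨⟨g, hg⟩, rfl⟩
      exact ⟨g, trivial, hg, fun x => rfl⟩
  constructor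
  · intro hst Q hQ χ hχ hq
    rw [hrange Q hQ.1] at hχ ⊢
    obtain ⟨⟨g, hg⟩, rfl⟩ := hχ
    exact (hcore Q _).1 (hst Q (P.isPGroup'.to_le hQ.1) g hg ((hquad Q g hg).2 hq))
  · intro hF R hR g hg hq
    obtain ⟨h₀, hh₀⟩ := Cfsg.Agent.Fusion.exists_conj_le_sylow P hR
    obtain ⟨h₁, hh₁, hmax⟩ := Cfsg.Agent.Fusion.exists_conj_isMaxP_normalizer P hh₀
    rw [Cfsg.Agent.Fusion.map_conj_mul] at hh₁ hmax
    set h := h₁ * h₀
    set Q := R.map (MulAut.conj h).toMonoidHom with hQ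
    have hfn := (Cfsg.Agent.Fusion.fullyNormalized_group_iff P hh₁).2 hmax
    let c : ↥R ≃* ↥Q := R.equivMapOfInjective _ (MulAut.conj h).injective
    let Φ : MulAut ↥R ≃* MulAut ↥Q := MulAut.congr c
    have hc : ∀ a : ↥R, (c a : Ω) = h * (a : Ω) * h⁻¹ := fun a => rfl
    have hΦ : ∀ (n : Ω) (hn : n ∈ Subgroup.normalizer (R : Set Ω)),
        ∃ hn' : h * n * h⁻¹ ∈ Subgroup.normalizer (Q : Set Ω),
          Φ (R.normalizerMonoidHom ⟨n, hn⟩) = Q.normalizerMonoidHom ⟨h * n * h⁻¹, hn'⟩ := by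
      intro n hn
      refine ⟨Cfsg.Agent.Fusion.map_conj_normalizer_le h R ⟨n, hn, rfl⟩, ?_⟩
      refine MulEquiv.ext fun b => ?_
      obtain ⟨a, rfl⟩ := c.surjective b
      refine Subtype.ext ?_
      show (c (R.normalizerMonoidHom ⟨n, hn⟩ (c.symm (c a))) : Ω) = h * n * h⁻¹ * (c a : Ω) * (h * n * h⁻¹)⁻¹
      rw [MulEquiv.symm_apply_apply, hc, hc]
      show h * (n * (a : Ω) * n⁻¹) * h⁻¹ = _
      group
    obtain ⟨hg', hgΦ⟩ := hΦ g hg
    have hq' := (hquad R g hg).1 hq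
    have h1 := hF Q hfn (Q.normalizerMonoidHom ⟨_, hg'⟩) (by rw [hrange Q hh₁]; exact ⟨_, rfl⟩) (by
      intro b
      obtain ⟨a, rfl⟩ := c.surjective b
      rw [← hgΦ]
      have := congrArg c (hq' a)
      simpa [Φ, MulAut.congr] using this)
    rw [hrange Q hh₁] at h1
    have himg : R.normalizerMonoidHom.range.map Φ.toMonoidHom = Q.normalizerMonoidHom.range := by
      apply le_antisymm
      · rintro _ ⟨_, ⟨⟨n, hn⟩, rfl⟩, rfl⟩
        obtain ⟨hn', e⟩ := hΦ n hn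
        exact ⟨_, e.symm⟩
      · rintro _ ⟨⟨m, hm⟩, rfl⟩
        have hn : h⁻¹ * m * h ∈ Subgroup.normalizer (R : Set Ω) := by
          have := Cfsg.Agent.Fusion.map_conj_normalizer_le h⁻¹ Q ⟨m, hm, rfl⟩
          rw [hQ, Cfsg.Agent.Fusion.map_conj_mul, inv_mul_cancel, map_one] at this
          simpa using this
        obtain ⟨hn', e⟩ := hΦ _ hn
        refine ⟨_, ⟨⟨_, hn⟩, rfl⟩, e.trans ?_⟩
        refine congrArg Q.normalizerMonoidHom (Subtype.ext ?_)
        show h * (h⁻¹ * m * h) * h⁻¹ = m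
        group
    refine (hcore R _).2 ?_
    let E : ↥R.normalizerMonoidHom.range ≃* ↥Q.normalizerMonoidHom.range :=
      (R.normalizerMonoidHom.range.equivMapOfInjective _ Φ.injective).trans (MulEquiv.subgroupCongr himg)
    rw [← hgΦ] at h1
    obtain ⟨y, hy, hye⟩ := h1
    rw [← Cfsg.Agent.Solv.pCore_map_equiv p E] at hy
    obtain ⟨x, hx, rfl⟩ := hy
    exact ⟨x, hx, Φ.injective hye⟩

end Cfsg.Agent.S5246
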