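import Cfsg.Statements.S5251
import Cfsg.Agent.Lib.Fusion.NormalCriteria
import Cfsg.Agent.Lib.Fusion.Weakly
import Cfsg.Agent.Lib.Solv.Basic

set_option autoImplicit false
open Cfsg

namespace Cfsg.Agent.S5251

/-- Let F be a saturated fusion system over a finite p-group S, E a normal subsystem of F over T, and P an F-centric subgroup of S such that P ∩ T is not E-centric. Then some F-conjugate P* of P satisfies Out_S(P*) ∩ O_p(Out_F(P*)) ≠ 1: there is an element of N_S(P*) outside P* whose conjugation action on P* lies in O_p(Aut_F(P*)). In particular P is not both centric and radical in F. -/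
theorem result {Ω : Type*} [Group Ω] {S : Subgroup Ω} [Finite S] (p : ℕ) [Fact p.Prime] (hS : IsPGroup p S) (F : Cfsg.FusionSystem S) (hF : F.IsSaturated p) {T : Subgroup Ω} (E : Cfsg.FusionSystem T) (hE : E.IsNormalIn F p) (P : Subgroup Ω) (hP : F.IsCentric P) (hPT : ¬ E.IsCentric (P ⊓ T)) : (∃ φ ∈ F.Hom P, ∃ x ∈ S ⊓ Subgroup.normalizer (φ.range : Set Ω), x ∉ φ.range ∧ ∃ α ∈ ((Cfsg.pCore p ↥(F.autGroup φ.range)).map (F.autGroup φ.range).subtype : Subgroup (MulAut ↥φ.range)), ∀ y : ↥φ.range, ((α y : ↥φ.range) : Ω) = x * (y : Ω) * x⁻¹) ∧ ¬ F.IsRadical p P := by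
  have hT : F.StronglyClosed T := hE.1.2.2.2.1
  have hsub : E.IsSubsystemOf F := hE.1.2.2.1
  have hPS := hP.1
  have hTn := Fusion.le_normalizer_of_stronglyClosed hT
  set R := P ⊓ T with hR
  have hRS : R ≤ S := inf_le_left.trans hPS
  obtain ⟨Q, hQc, hQ⟩ : ∃ Q : Subgroup Ω, E.IsConj R Q ∧ ¬ Cfsg.FusionSystem.centralizerIn T Q ≤ Q := by
    by_contra hno
    push Not at hno
    exact hPT ⟨inf_le_right, hno⟩
  have hQF : F.IsConj R Q := by
    obtain ⟨ψ, hψ, he⟩ := hQc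
    exact ⟨ψ, hsub R hψ, he⟩
  obtain ⟨R', hR', hR'n⟩ := Fusion.exists_fullyNormalized (F := F) hRS
  obtain ⟨f, f', hf, hf', he, -⟩ := Fusion.exists_iso_to_fullyNormalized hS hF hR' hR'n
  have hPN : P ≤ Cfsg.FusionSystem.normalizerIn S R := fun a ha =>
    ⟨hPS ha, Subgroup.mem_normalizer_iff.2 fun x => ⟨fun hx =>
      ⟨mul_mem (mul_mem ha hx.1) (Subgroup.inv_mem _ ha), Fusion.conj_mem_of_mem_normalizer (hTn (hPS ha)) hx.2⟩,
      fun hx => by
        have h1 : a⁻¹ * (a * x * a⁻¹) * a ∈ P := mul_mem (mul_mem (Subgroup.inv_mem _ ha) hx.1) ha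
        have h2 := Fusion.conj_mem_of_mem_normalizer (hTn (Subgroup.inv_mem _ (hPS ha))) hx.2
        have e : a⁻¹ * (a * x * a⁻¹) * a = x := by group
        rw [inv_inv, e] at h2
        rw [e] at h1
        exact ⟨h1, h2⟩⟩⟩
  have hm : Fusion.IsMor F P f' := hf'.restrict hPN
  have hiso := hm.isIso
  set P' := hm.image P le_rfl with hP'
  have hP'S : P' ≤ S := hiso.le'
  have hR'T : ∀ y, y ∈ R' ↔ y ∈ P' ∧ y ∈ T := by
    intro y
    constructor
    · intro hy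
      obtain ⟨x, hx, rfl⟩ := hf.exists_apply hy
      exact ⟨⟨x, hx.1, he x hx⟩, Fusion.stronglyClosed_apply hT hf.1 hx hx.2⟩
    · rintro ⟨hy, hyT⟩
      obtain ⟨g, hg, hgl, -⟩ := hiso.exists_symm
      obtain ⟨x, hx, rfl⟩ := hiso.exists_apply hy
      have hxT : x ∈ T := by
        rw [← hgl x hx]
        exact Fusion.stronglyClosed_apply hT hg.1 (hiso.apply_mem hx) hyT
      rw [he x ⟨hx, hxT⟩]
      exact hf.apply_mem ⟨hx, hxT⟩
  obtain ⟨c, hcT, hcQ⟩ := SetLike.not_le_iff_exists.1 hQ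
  obtain ⟨f₂, f₂', hf₂, hf₂', he₂, -⟩ :=
    Fusion.exists_iso_to_fullyNormalized hS hF (Fusion.isConj_trans (Fusion.isConj_symm hQF) hR') hR'n
  have hQS : Q ≤ S := hf₂.le
  have hcN : c ∈ Cfsg.FusionSystem.normalizerIn S Q :=
    ⟨hT.1 hcT.1, Fusion.centralizer_le_normalizer_set Q hcT.2⟩
  have hd₀ : f₂' c ∈ T ∧ (∀ y ∈ R', y * f₂' c = f₂' c * y) ∧ f₂' c ∉ R' := by
    refine ⟨Fusion.stronglyClosed_apply hT hf₂' hcN hcT.1, fun y hy => ?_, fun hc => ?_⟩
    · obtain ⟨q, hq, rfl⟩ := hf₂.exists_apply hy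
      rw [← he₂ q hq, ← hf₂'.map_mul (Fusion.le_normalizerIn hQS hq) hcN,
        ← hf₂'.map_mul hcN (Fusion.le_normalizerIn hQS hq), Subgroup.mem_centralizer_iff.1 hcT.2 q hq]
    · obtain ⟨q, hq, hqe⟩ := hf₂.exists_apply hc
      rw [← he₂ q hq] at hqe
      exact hcQ (hf₂'.injOn (Fusion.le_normalizerIn hQS hq) hcN hqe ▸ hq)
  set D := Cfsg.FusionSystem.centralizerIn T R' with hD
  have hDS : D ≤ S := inf_le_left.trans hT.1
  have hR'n' : ∀ a ∈ P', ∀ y ∈ R', a * y * a⁻¹ ∈ R' := fun a ha y hy =>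
    (hR'T _).2 ⟨mul_mem (mul_mem ha ((hR'T y).1 hy).1) (Subgroup.inv_mem _ ha),
      Fusion.conj_mem_of_mem_normalizer (hTn (hP'S ha)) ((hR'T y).1 hy).2⟩
  have hP'D : P' ≤ Subgroup.normalizer (D : Set Ω) := by
    intro a ha
    refine Fusion.mem_normalizer_of_conj_mem hDS fun d hd =>
      ⟨Fusion.conj_mem_of_mem_normalizer (hTn (hP'S ha)) hd.1, Subgroup.mem_centralizer_iff.2 fun y hy => ?_⟩
    have h1 := Subgroup.mem_centralizer_iff.1 hd.2 _ (hR'n' a⁻¹ (Subgroup.inv_mem _ ha) y hy)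
    calc y * (a * d * a⁻¹) = a * ((a⁻¹ * y * a⁻¹⁻¹) * d) * a⁻¹ := by group
      _ = a * (d * (a⁻¹ * y * a⁻¹⁻¹)) * a⁻¹ := by rw [h1]
      _ = a * d * a⁻¹ * y := by group
  have hlt : P' < P' ⊔ D := lt_of_le_of_ne le_sup_left fun h => hd₀.2.2 ((hR'T _).2
    ⟨h.ge (Subgroup.mem_sup_right ⟨hd₀.1, Subgroup.mem_centralizer_iff.2 hd₀.2.1⟩), hd₀.1⟩)
  have := Fusion.finite_of_le (sup_le hP'S hDS)
  obtain ⟨u, hu, huP⟩ := SetLike.exists_of_lt
    (Fusion.normalizerIn_self_lt (p := p) (hS.to_le (sup_le hP'S hDS)) hlt)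
  obtain ⟨hu1, hu2⟩ := hu
  replace hu1 : u ∈ ((P' ⊔ D : Subgroup Ω) : Set Ω) := hu1
  rw [Subgroup.coe_mul_of_left_le_normalizer_right _ _ hP'D] at hu1
  obtain ⟨a, ha, d, hd, rfl⟩ := Set.mem_mul.1 hu1
  have hdn : d ∈ Subgroup.normalizer (P' : Set Ω) := by
    have := mul_mem (Subgroup.inv_mem _ (Subgroup.le_normalizer ha)) hu2
    rwa [inv_mul_cancel_left] at this
  have hdP : d ∉ P' := fun h => huP (mul_mem ha h)
  have hdS : d ∈ Cfsg.FusionSystem.normalizerIn S P' := ⟨hDS hd, hdn⟩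
  obtain ⟨-, hα⟩ := Fusion.conjAut_mem (F := F) hP'S hdS
  set α : MulAut P' := P'.normalizerMonoidHom ⟨d, hdn⟩ with hαdef
  have hαx : ∀ y : P', ((α y : P') : Ω) = d * y * d⁻¹ := fun y => rfl
  have := Fusion.finite_of_le hP'S
  have := Fusion.finite_autGroup (F := F) hP'S
  have hinv : ∀ β ∈ F.autGroup P', ∀ y : P', (y : Ω) ∈ R' → ((β y : P') : Ω) ∈ R' := by
    intro β hβ y hy
    refine (hR'T _).2 ⟨(β y).2, ?_⟩
    have := Fusion.stronglyClosed_apply hT (Fusion.isMor_of_mem_autGroup hP'S hβ) y.2 ((hR'T y).1 hy).2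
    rwa [Fusion.autFun_coe] at this
  let K : Subgroup (F.autGroup P') :=
    { carrier := {β | (∀ y : P', (y : Ω) ∈ R' → (β : MulAut P') y = y) ∧
        ∀ y : P', ((y⁻¹ * (β : MulAut P') y : P') : Ω) ∈ R'}
      one_mem' := ⟨fun y _ => rfl, fun y => by simp⟩
      mul_mem' := by
        intro β γ hβ hγ
        refine ⟨fun y hy => by rw [Subgroup.coe_mul, MulAut.mul_apply, hγ.1 y hy, hβ.1 y hy], fun y => ?_⟩
        have e : y⁻¹ * ((β * γ : F.autGroup P') : MulAut P') y =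
            (y⁻¹ * (γ : MulAut P') y) * (((γ : MulAut P') y)⁻¹ * (β : MulAut P') ((γ : MulAut P') y)) := by
          rw [Subgroup.coe_mul, MulAut.mul_apply]; group
        rw [e, Subgroup.coe_mul]
        exact mul_mem (hγ.2 y) (hβ.2 _)
      inv_mem' := by
        intro β hβ
        refine ⟨fun y hy => ?_, fun y => ?_⟩
        · conv_lhs => rw [← hβ.1 y hy]
          rw [Subgroup.coe_inv, MulAut.inv_apply_self]
        · have h := hβ.2 ((β : MulAut P')⁻¹ y)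
          rw [MulAut.apply_inv_self] at h
          have e : y⁻¹ * ((β⁻¹ : F.autGroup P') : MulAut P') y = (((β : MulAut P')⁻¹ y)⁻¹ * y)⁻¹ := by
            rw [Subgroup.coe_inv]; group
          rw [e, Subgroup.coe_inv]
          exact Subgroup.inv_mem _ h }
  have hKn : K.Normal := ⟨by
    intro β hβ γ
    refine ⟨fun y hy => ?_, fun y => ?_⟩
    · rw [Subgroup.coe_mul, Subgroup.coe_mul, Subgroup.coe_inv, MulAut.mul_apply, MulAut.mul_apply,
        hβ.1 _ (hinv _ ((F.autGroup P').inv_mem γ.2) y hy), MulAut.apply_inv_self]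
    · have e : y⁻¹ * ((γ * β * γ⁻¹ : F.autGroup P') : MulAut P') y =
          (γ : MulAut P') (((γ : MulAut P')⁻¹ y)⁻¹ * (β : MulAut P') ((γ : MulAut P')⁻¹ y)) := by
        rw [Subgroup.coe_mul, Subgroup.coe_mul, Subgroup.coe_inv, map_mul, map_inv, MulAut.apply_inv_self]
        rfl
      rw [e]
      exact hinv _ γ.2 _ (hβ.2 _)⟩
  have hKp : IsPGroup p K := by
    rintro ⟨β, hβ⟩
    obtain ⟨k, hk⟩ := Fusion.exists_pow_eq_one_of_stabilizes (p := p) (hS.to_le hP'S) (m := 2)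
      (fun i => if i = 0 then ⊥ else if i = 1 then R'.subgroupOf P' else ⊤) (α := (β : MulAut P'))
      (by simp) (by simp) (fun i hi => by interval_cases i <;> simp) (fun i hi y hy => by
        interval_cases i
        · simp only [zero_add, one_ne_zero, if_false, if_true] at hy
          simp [hβ.1 y hy]
        · simp only [one_ne_zero, if_false, if_true]
          exact hβ.2 y)
    exact ⟨k, Subtype.ext (Subtype.ext (by simpa using hk))⟩
  have hαK : (⟨α, hα⟩ : F.autGroup P') ∈ K := by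
    refine ⟨fun y hy => Subtype.ext ?_, fun y => ?_⟩
    · rw [hαx, ← Subgroup.mem_centralizer_iff.1 hd.2 _ hy, mul_inv_cancel_right]
    · refine (hR'T _).2 ⟨(y⁻¹ * α y).2, ?_⟩
      rw [Subgroup.coe_mul, Subgroup.coe_inv, hαx]
      have := mul_mem (Fusion.conj_mem_of_mem_normalizer (hTn (hP'S (Subgroup.inv_mem _ y.2))) hd.1)
        (Subgroup.inv_mem _ hd.1)
      simpa [mul_assoc] using this
  have hcore : (⟨α, hα⟩ : F.autGroup P') ∈ Cfsg.pCore p (F.autGroup P') :=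
    Solv.le_pCore (hN := hKn) hKp hαK
  refine ⟨?_, fun hrad => ?_⟩
  · obtain ⟨φ, hφ, hφe⟩ := hm
    have hrange : φ.range = P' := by
      ext y
      exact ⟨fun ⟨x, hx⟩ => ⟨x, x.2, (hφe x).symm.trans hx⟩,
        fun ⟨x, hx, hxy⟩ => ⟨⟨x, hx⟩, (hφe ⟨x, hx⟩).trans hxy⟩⟩
    refine ⟨φ, hφ, ?_⟩
    rw [hrange]
    exact ⟨d, hdS, hdP, α, ⟨_, hcore, rfl⟩, hαx⟩
  · let e₀ : F.autGroup P ≃* F.autGroup P' :=
      ((F.autGroup P).equivMapOfInjective (MulAut.congr hiso.toMulEquiv).toMonoidHom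
        (MulAut.congr hiso.toMulEquiv).injective).trans
        (MulEquiv.subgroupCongr (Fusion.autGroup_map_congr hiso))
    have h1 : e₀.symm ⟨α, hα⟩ ∈ Cfsg.pCore p (F.autGroup P) := by
      rw [← Solv.pCore_map_equiv p e₀.symm]
      exact ⟨_, hcore, rfl⟩
    have h2 : ((e₀.symm ⟨α, hα⟩ : F.autGroup P) : MulAut P) ∈ Cfsg.Inn P := by
      rw [← hrad.2]; exact ⟨_, h1, rfl⟩
    obtain ⟨z, hz⟩ := h2
    have h3 : MulAut.congr hiso.toMulEquiv (MulAut.conj z) = α := by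
      rw [hz]
      exact congrArg Subtype.val (e₀.apply_symm_apply ⟨α, hα⟩)
    refine hdP (Fusion.mem_of_conjAut_mem_inn
      (Fusion.centralizerIn_le_of_isCentric (Fusion.isCentric_of_isConj hP hiso.isConj)) hP'S hdS ?_)
    refine ⟨hiso.toMulEquiv z, ?_⟩
    show MulAut.conj (hiso.toMulEquiv z) = α
    rw [← h3]
    exact MulEquiv.ext fun y => by simp [MulAut.conj_apply]

end Cfsg.Agent.S5251
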