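import Cfsg.Statements.S5253
import Cfsg.Agent.Lib.Fusion.CenterControlHyp
import Cfsg.Agent.S1974

set_option autoImplicit false
universe u
open Cfsg

namespace Cfsg.Agent.S5253

/-- Let p be a prime and W a positive characteristic p-functor with Z(Q) ≤ W(Q): W assigns to every finite p-group Q (in a fixed universe) a subgroup W(Q), nontrivial when Q is, carried to W(R) by every isomorphism Q ≅ R, and containing the centre of Q. Suppose that for every finite group G with Sylow p-subgroup P in which W(P) is not normal there is g ∈ P outside O_p(G) with [Z(O_p(G)), g, g] = 1. Then for every saturated fusion system F over a finite p-group S and every normalizer fusion system N of W(S) in F, every p-th power of an element of Z(S) that lies in the centre of N lies in the centre of F. -/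
theorem result {p : ℕ} [Fact p.Prime] (W : ∀ (Q : Type u) [Group Q], Subgroup Q) (hW1 : ∀ (Q : Type u) [Group Q] [Finite Q], IsPGroup p Q → Nontrivial Q → W Q ≠ ⊥) (hW2 : ∀ (Q R : Type u) [Group Q] [Group R] [Finite Q], IsPGroup p Q → ∀ φ : Q ≃* R, (W Q).map φ.toMonoidHom = W R) (hWZ : ∀ (Q : Type u) [Group Q] [Finite Q], IsPGroup p Q → Subgroup.center Q ≤ W Q) (hq : ∀ (G : Type u) [Group G] [Finite G] (P : Sylow p G), ¬ (((W ↥(P : Subgroup G)).map (P : Subgroup G).subtype : Subgroup G)).Normal → ∃ g : G, g ∈ (P : Subgroup G) ∧ g ∉ Cfsg.pCore p G ∧ ⁅⁅Subgroup.center ↥(Cfsg.pCore p G) |>.map (Cfsg.pCore p G).subtype, Subgroup.zpowers g⁆, Subgroup.zpowers g⁆ = ⊥) {Ω : Type u} [Group Ω] {S : Subgroup Ω} [Finite S] (hS : IsPGroup p S) (F : Cfsg.FusionSystem S) (hF : F.IsSaturated p) (N : Cfsg.FusionSystem (Cfsg.FusionSystem.normalizerIn S ((W ↥S).map S.subtype))) (hN : F.IsNormalizerSystem ((W ↥S).map S.subtype) N) : Subgroup.closure ((fun z => z ^ p) '' ((S ⊓ Subgroup.centralizer (S : Set Ω)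 : Subgroup Ω) : Set Ω)) ⊓ N.center ≤ F.center := by
  let V := Fusion.liftFunctor W hW1 hW2
  have hV : Fusion.CentralIn V := Fusion.centralIn_lift hWZ
  have hmap : ∀ {G H : Type u} [Group G] [Group H] (P : Subgroup G) [Finite P] (f : G →* H), Function.Injective f →
      V.W (P.map f) = (V.W P).map f := fun P _ f hf => by
    have h := V.map P (f.comp P.subtype) (hf.comp P.subtype_injective)
    rw [← Subgroup.map_map, Subgroup.subgroupOf_map_subtype, inf_eq_left.2 (V.le P)] at h
    rw [h, MonoidHom.range_comp, Subgroup.range_subtype]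
  have hL : Fusion.FixLocalHyp False p V := Fusion.fixLocalHyp_of_groups _ hV
    fun L _ _ T hc z hzT hzc hh hfix g => by
      obtain ⟨w, hw, hwc, hwz⟩ := hh.resolve_left fun h => h.1
      have hcf : Cfsg.IsConjugacyFunctor p (G := L) V.W := fun P hP =>
        ⟨V.le P, V.ne P hP, fun g => hmap P _ (MulAut.conj g).injective⟩
      have hwl : ∀ P : Subgroup L, IsPGroup p ↥P → P ⊓ Subgroup.centralizer ((P : Subgroup L) : Set L) ≤ V.W P :=
        fun P hP x hx => hV P hP x hx.1 fun a ha => hx.2 a ha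
      have hloc : ∀ (H U : Subgroup L), U ≤ H → IsPGroup p ↥U → ¬ p ∣ U.relIndex H →
          ¬ H ≤ Subgroup.normalizer ((V.W U : Subgroup L) : Set L) → ∃ g : L, g ∈ U ∧ g ∉ Cfsg.pCoreOf p H ∧
            ⁅⁅Cfsg.pCoreOf p H ⊓ Subgroup.centralizer ((Cfsg.pCoreOf p H : Subgroup L) : Set L), Subgroup.zpowers g⁆,
              Subgroup.zpowers g⁆ = ⊥ := by
        intro H U hUH hUp hidx hn
        let R : Sylow p H := hUp.comap_subtype.toSylow hidx
        have hRU : (R : Subgroup H).map H.subtype = U := Subgroup.map_subgroupOf_eq_of_le hUH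
        have hWR : (W ↥(R : Subgroup H)).map (R : Subgroup H).subtype = V.W (R : Subgroup H) :=
          (Fusion.liftFunctor_apply R.isPGroup').symm
        obtain ⟨u, huR, huQ, hu⟩ := hq H R (by
          rw [hWR]
          intro hnorm
          refine hn fun x hx => ?_
          have hVU : V.W U = (V.W (R : Subgroup H)).map H.subtype := by
            rw [← hmap _ _ H.subtype_injective, hRU]
          rw [hVU]
          refine Subgroup.le_normalizer_map H.subtype ⟨⟨x, hx⟩, ?_, rfl⟩
          rw [Subgroup.normalizer_eq_top_iff.2 hnorm]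
          trivial)
        refine ⟨u, huR, fun ⟨v, hv, he⟩ => huQ (Subtype.ext he ▸ hv), ?_⟩
        have hZ : Cfsg.pCoreOf p H ⊓ Subgroup.centralizer ((Cfsg.pCoreOf p H : Subgroup L) : Set L) ≤
            ((Subgroup.center ↥(Cfsg.pCore p H)).map (Cfsg.pCore p H).subtype).map H.subtype := by
          rintro _ ⟨⟨v, hv, rfl⟩, hvc⟩
          exact ⟨v, ⟨⟨v, hv⟩, Subgroup.mem_center_iff.2 fun a => Subtype.ext (Subtype.ext
            (hvc _ ⟨a, a.2, rfl⟩)), rfl⟩, rfl⟩
        have h0 := congrArg (Subgroup.map H.subtype) hu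
        rw [Subgroup.map_commutator, Subgroup.map_commutator, MonoidHom.map_zpowers, Subgroup.map_bot] at h0
        exact eq_bot_iff.2 ((Subgroup.commutator_mono (Subgroup.commutator_mono hZ le_rfl) le_rfl).trans h0.le)
      have hzN : ∀ n ∈ Subgroup.normalizer ((V.W (T : Subgroup L) : Subgroup L) : Set L), n * z = z * n :=
        fun n hn => mul_inv_eq_iff_eq_mul.1 (hfix n hn)
      have hzO : z ∈ Cfsg.pCore p L := hc (Subgroup.mem_centralizer_iff.2 fun x hx =>
        hzc x (Agent.Solv.pCore_le_sylow T hx))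
      exact (S1974.result T V.W hcf hwl hloc _ rfl).1 z
        ⟨Subgroup.subset_closure ⟨w, ⟨hw, fun a ha => hwc a ha⟩, hwz⟩, Subgroup.mem_centralizer_iff.2 hzN⟩ g
        (Agent.Solv.pCore_le_sylow T ((inferInstance : (Cfsg.pCore p L).Normal).conj_mem z hzO g))
  obtain ⟨h1, -⟩ := Fusion.center_eq_of_fixLocalHyp V hV hL hS hF (Fusion.liftFunctor_apply hS).symm hN
  intro x hx
  obtain ⟨w, hw, hwx⟩ : ∃ w ∈ S ⊓ Subgroup.centralizer (S : Set Ω), w ^ p = x := by
    have hxmem := hx.1
    clear hx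
    induction hxmem using Subgroup.closure_induction with
    | mem y hy => exact hy
    | one => exact ⟨1, one_mem _, one_pow _⟩
    | mul a b _ _ ha hb =>
      obtain ⟨u, hu, rfl⟩ := ha
      obtain ⟨v, hv, rfl⟩ := hb
      exact ⟨u * v, mul_mem hu hv, (show Commute u v from hv.2 u hu.1).mul_pow p⟩
    | inv a _ ha =>
      obtain ⟨u, hu, rfl⟩ := ha
      exact ⟨u⁻¹, inv_mem hu, inv_pow u p⟩
  refine h1 x hx.2 fun n => Or.inr ?_
  have hwn := zpow_mem hw n
  refine ⟨w ^ n, hwn.1, fun a ha => hwn.2 a ha, ?_⟩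
  rw [← hwx, ← zpow_natCast, ← zpow_mul, mul_comm, zpow_mul, zpow_natCast]

end Cfsg.Agent.S5253
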