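import Cfsg.Statements.S5276
import Cfsg.Agent.Lib.Fusion.TateApps
-- import your own Cfsg.Agent.* helpers here

set_option autoImplicit false
open Cfsg

namespace Cfsg.Agent.S5276

/-- Let p be a prime and F a saturated fusion system over a finite p-group S. Then F is the inner fusion system of S if and only if the normalizer fusion system of S itself in F is the inner fusion system (equivalently, Aut_F(S) is induced by S) and the Frattini subgroup Φ(S) is strongly closed in F. -/
theorem result {Ω : Type*} [Group Ω] {S : Subgroup Ω} [Finite S] (p : ℕ) [Fact p.Prime] (hS : IsPGroup p ↥S) (F : Cfsg.FusionSystem S) (hF : F.IsSaturated p) : (∀ P : Subgroup Ω, F.Hom P = (Cfsg.innerFusionSystem S).Hom P) ↔ (∀ N : Cfsg.FusionSystem (Cfsg.FusionSystem.normalizerIn S S), F.IsNormalizerSystem S N → ∀ P : Subgroup Ω, N.Hom P = (Cfsg.innerFusionSystem (Cfsg.FusionSystem.normalizerIn S S)).Hom P) ∧ F.StronglyClosed ((frattini ↥S).map S.subtype) := by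
  constructor
  · intro h
    refine ⟨fun N hN P => ?_, ?_⟩
    · rw [hN P]
      have hT : Cfsg.FusionSystem.normalizerIn S S = S := Fusion.normalizerIn_self
      ext φ
      constructor
      · rintro ⟨hφ, hP, -, -⟩
        rw [h] at hφ
        obtain ⟨-, a, ha, hax⟩ := hφ
        exact ⟨hP, a, hT.ge ha, hax⟩
      · rintro ⟨hP, a, ha, hax⟩
        have hPS : P ≤ S := hP.trans hT.le
        have haS : a ∈ S := hT.le ha
        refine ⟨by rw [h]; exact ⟨hPS, a, haS, hax⟩, hP, fun x => hT.ge ?_, Cfsg.conjHom (P ⊔ S) a,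
          F.conj_mem (sup_le hPS le_rfl) haS, fun x => ?_, ?_⟩
        · rw [hax]
          exact S.mul_mem (S.mul_mem haS (hPS x.2)) (S.inv_mem haS)
        · rw [hax]; rfl
        · ext y
          constructor
          · rintro ⟨z, hz, rfl⟩
            exact S.mul_mem (S.mul_mem haS hz) (S.inv_mem haS)
          · intro hy
            have hz : a⁻¹ * y * a ∈ S := S.mul_mem (S.mul_mem (S.inv_mem haS) hy) haS
            refine ⟨⟨a⁻¹ * y * a, Subgroup.mem_sup_right hz⟩, hz, ?_⟩
            show a * (a⁻¹ * y * a) * a⁻¹ = y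
            group
    · refine ⟨Subgroup.map_subtype_le _, fun R hR φ hφ x => ?_⟩
      rw [h] at hφ
      obtain ⟨-, a, ha, hax⟩ := hφ
      rw [hax]
      obtain ⟨w, hw, hwe⟩ := hR x.2
      refine ⟨(⟨a, ha⟩ : ↥S) * w * (⟨a, ha⟩ : ↥S)⁻¹, (inferInstance : (frattini ↥S).Normal).conj_mem w hw _, ?_⟩
      rw [← hwe]
      rfl
  · rintro ⟨hN, hΦ⟩ P
    have hA := fun f hf => Fusion.autS_conj_of_normalizer_inner hN (f := f) hf
    have hfoc : F.focalSubgroup ≤ ⁅S, S⁆ :=
      Fusion.focal_le_of_le_sup_frattini hS hF le_rfl Fusion.commutator_le_focal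
        ((Fusion.focal_le_frattini hS hF hΦ hA).trans le_sup_left)
    have hbot : F.hyperfocalSubgroup p = ⊥ := le_bot_iff.1 (Fusion.hyperfocal_le_of_le_sup hS hF bot_le
      (fun a _ x hx => by simp [Subgroup.mem_bot.1 hx]) ((Fusion.hyperfocal_le_focal.trans hfoc).trans le_sup_right))
    rw [Fusion.eq_inner_of_hyperfocal_eq_bot hS hF hbot]

end Cfsg.Agent.S5276
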