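import Cfsg.Statements.S5291
import Cfsg.Agent.Lib.Fusion.NormalCriteria
import Cfsg.Agent.Lib.Fusion.Weakly
-- import your own Cfsg.Agent.* helpers here

set_option autoImplicit false
open Cfsg

namespace Cfsg.Agent.S5291

/-- Let F be a saturated fusion system over a finite p-group S and E a weakly normal subsystem of F over a subgroup T. Suppose a subgroup R of T is normal in E (E = N_E(R)), and let R* be the subgroup of T generated by the images of R under all maps of F with source R. Then R* is normal in F (F = N_F(R*)). -/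
theorem result {Ω : Type*} [Group Ω] {S : Subgroup Ω} [Finite S] (p : ℕ) [Fact p.Prime] (hS : IsPGroup p S)
    (F : Cfsg.FusionSystem S) (hF : F.IsSaturated p)
    {T : Subgroup Ω} (E : Cfsg.FusionSystem T) (hE : E.IsWeaklyNormalIn F p)
    (R : Subgroup Ω) (hR : E.IsNormal R) :
    F.IsNormal (Subgroup.closure {x : Ω | ∃ φ ∈ F.Hom R, ∃ r : R, x = φ r}) := by
  obtain ⟨hEs, -, hinv⟩ := hE
  have hTS : T ≤ S := hinv.2.1.1
  have := Fusion.finite_of_le hTS
  have hTp : IsPGroup p ↥T := hS.to_le hTS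
  have hRT : R ≤ T := hR.1
  set Rs := Subgroup.closure {x : Ω | ∃ φ ∈ F.Hom R, ∃ r : R, x = φ r} with hRs
  set gens : Set Ω := {x : Ω | ∃ φ ∈ F.Hom R, ∃ r : R, x = φ r}
  -- the generators are the images of `R` under the automorphisms of `T`
  have hgen : ∀ x ∈ gens, ∃ α ∈ F.autGroup T, ∃ r ∈ R, Fusion.autFun α r = x := by
    rintro x ⟨φ, hφ, r, rfl⟩
    obtain ⟨α, hα, g, hg, he⟩ := Fusion.invariant_frattini hinv hRT (Fusion.isMor_extFun hφ)
    refine ⟨α, hα, g r, (Fusion.normal_isIso hR hg le_rfl).apply_mem r.2, ?_⟩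
    rw [← he _ r.2, Fusion.extFun_coe]
  have hmem : ∀ α ∈ F.autGroup T, ∀ r ∈ R, Fusion.autFun α r ∈ Rs := by
    intro α hα r hr
    obtain ⟨φ, hφ, he⟩ := (Fusion.isMor_of_mem_autGroup hTS hα).restrict hRT
    exact Subgroup.subset_closure ⟨φ, hφ, ⟨r, hr⟩, (he ⟨r, hr⟩).symm⟩
  have hRsT : Rs ≤ T := (Subgroup.closure_le _).2 fun x hx => by
    obtain ⟨α, hα, r, hr, rfl⟩ := hgen x hx
    exact Fusion.autFun_mem α (hRT hr)
  have hauto : ∀ α ∈ F.autGroup T, ∀ x ∈ Rs, Fusion.autFun α x ∈ Rs := by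
    intro α hα x hx
    induction hx using Subgroup.closure_induction with
    | mem z hz =>
      obtain ⟨β, hβ, r, hr, rfl⟩ := hgen z hz
      rw [← Fusion.autFun_mul _ _ (hRT hr)]
      exact hmem _ (mul_mem hα hβ) r hr
    | one => rw [(Fusion.isMor_of_mem_autGroup hTS hα).map_one]; exact one_mem _
    | mul u v hu hv hu' hv' =>
      rw [(Fusion.isMor_of_mem_autGroup hTS hα).map_mul (hRsT hu) (hRsT hv)]; exact mul_mem hu' hv'
    | inv u hu hu' => rw [(Fusion.isMor_of_mem_autGroup hTS hα).map_inv (hRsT hu)]; exact inv_mem hu'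
  -- each image is normal in `E`
  have himg : ∀ α ∈ F.autGroup T, ∀ (hm : Fusion.IsMor F T (Fusion.autFun α)),
      E.IsNormal (hm.image R hRT) := by
    intro α hα hm
    have hle : hm.image R hRT ≤ T := by rintro _ ⟨r, hr, rfl⟩; exact Fusion.autFun_mem α (hRT hr)
    refine (Fusion.isNormal_iff_extAut hTp hEs hle).2 fun P g hP hg => ?_
    obtain ⟨P', k, hP', hk, hke⟩ := Fusion.invariant_transport hinv hg ((F.autGroup T).inv_mem hα)
    have hback : ∀ r ∈ T, Fusion.autFun α⁻¹ (Fusion.autFun α r) = r := fun r hr => by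
      rw [← Fusion.autFun_mul _ _ hr, inv_mul_cancel, Fusion.autFun_one hr]
    have hforth : ∀ r ∈ T, Fusion.autFun α (Fusion.autFun α⁻¹ r) = r := fun r hr => by
      rw [← Fusion.autFun_mul _ _ hr, mul_inv_cancel, Fusion.autFun_one hr]
    have hP'R : P' ≤ R := fun y hy => by
      obtain ⟨x, hx, rfl⟩ := (hP' y).1 hy
      obtain ⟨r, hr, rfl⟩ := hP hx
      rwa [hback r (hRT hr)]
    obtain ⟨β, hβ, hβe⟩ := Fusion.extAut_of_isNormal hR hk hP'R
    obtain ⟨P'', k2, hP'', hk2, hk2e⟩ := Fusion.invariant_transport hinv (Fusion.isMor_of_mem_autGroup hR.1 hβ) hα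
    have hPeq : P'' = hm.image R hRT := by
      ext y
      rw [hP'']
      exact ⟨fun ⟨x, hx, e⟩ => ⟨x, hx, e⟩, fun ⟨x, hx, e⟩ => ⟨x, hx, e⟩⟩
    subst hPeq
    have hi := hk2.isIso_self fun y hy => by
      obtain ⟨r, hr, rfl⟩ := hy
      rw [hk2e r hr]
      exact ⟨_, Fusion.autFun_mem β hr, rfl⟩
    refine ⟨Fusion.autOf hi, Fusion.autOf_mem hi, fun x hx => ?_⟩
    have hx' := hP'R ((hP' _).2 ⟨x, hx, rfl⟩)
    rw [Fusion.autFun_apply _ (hP hx), Fusion.autOf_apply]
    show k2 x = g x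
    conv_lhs => rw [← hforth x (hle (hP hx))]
    rw [hk2e _ hx', hβe _ ((hP' _).2 ⟨x, hx, rfl⟩), hke x hx, hforth _ (hg.mem hx)]
  have hRcore : Rs ≤ E.core := (Subgroup.closure_le _).2 fun x hx => by
    obtain ⟨α, hα, r, hr, rfl⟩ := hgen x hx
    exact (le_sSup (himg α hα (Fusion.isMor_of_mem_autGroup hTS hα)) : _ ≤ E.core) ⟨r, hr, rfl⟩
  refine (Fusion.isNormal_iff_extAut hS hF (hRsT.trans hTS)).2 fun P f hP hf => ?_
  obtain ⟨α, hα, g, hg, he⟩ := Fusion.invariant_frattini hinv (hP.trans hRsT) hf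
  obtain ⟨β, hβ, hβe⟩ := Fusion.extAut_of_isNormal (Fusion.isNormal_core E) hg (hP.trans hRcore)
  have hcm := Fusion.isMor_of_mem_autGroup (Fusion.isNormal_core E).1 hβ
  have hk : ∀ x ∈ Rs, Fusion.autFun β x ∈ Rs := by
    intro x hx
    induction hx using Subgroup.closure_induction with
    | mem z hz =>
      obtain ⟨γ, hγ, r, hr, rfl⟩ := hgen z hz
      have hn := himg γ hγ (Fusion.isMor_of_mem_autGroup hTS hγ)
      have hsub := (le_sSup hn : _ ≤ E.core)
      obtain ⟨r', hr', e⟩ := (Fusion.normal_isIso hn (hcm.restrict hsub) le_rfl).apply_mem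
        (x := Fusion.autFun γ r) ⟨r, hr, rfl⟩
      rw [← e]
      exact hmem γ hγ r' hr'
    | one => rw [hcm.map_one]; exact one_mem _
    | mul u v hu hv hu' hv' => rw [hcm.map_mul (hRcore hu) (hRcore hv)]; exact mul_mem hu' hv'
    | inv u hu hu' => rw [hcm.map_inv (hRcore hu)]; exact inv_mem hu'
  have hc2 : Fusion.IsMor F Rs (Fusion.autFun β) :=
    Fusion.isMor_of_subsystem hinv.1 (hcm.restrict hRcore)
  have hi := (hc2.comp (Fusion.isMor_of_mem_autGroup hTS hα) fun x hx => hRsT (hk x hx)).isIso_self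
    fun x hx => hauto α hα _ (hk x hx)
  refine ⟨Fusion.autOf hi, Fusion.autOf_mem hi, fun x hx => ?_⟩
  rw [Fusion.autFun_apply _ (hP hx), Fusion.autOf_apply, he x hx]
  show Fusion.autFun α (Fusion.autFun β x) = _
  rw [hβe x hx]

end Cfsg.Agent.S5291
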