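import Cfsg.Statements.S5294
import Cfsg.Agent.Lib.Fusion.CenterNorm
-- import your own Cfsg.Agent.* helpers here

set_option autoImplicit false
universe u
open Cfsg

namespace Cfsg.Agent.S5294

/-- Let F be a saturated fusion system over a finite p-group S whose centre Z(S) lies in the largest subgroup O_p(F) normal in F. Then the centre Z(F) of F is a direct factor of Z(S): there is a subgroup K of Z(S) with Z(F) ∩ K = 1 and Z(F)K = Z(S). -/
theorem result {Ω : Type u} [Group Ω] {S : Subgroup Ω} [Finite S] (p : ℕ) [Fact p.Prime] (hS : IsPGroup p S)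
    (F : Cfsg.FusionSystem S) (hF : F.IsSaturated p) (hZ : (S ⊓ Subgroup.centralizer (S : Set Ω)) ≤ F.core) :
    ∃ K : Subgroup Ω, K ≤ (S ⊓ Subgroup.centralizer (S : Set Ω)) ∧ F.center ⊓ K = ⊥ ∧ F.center ⊔ K = (S ⊓ Subgroup.centralizer (S : Set Ω)) := by
    set Z := S ⊓ Subgroup.centralizer (S : Set Ω) with hZdef
    set Q := F.core
    have hQn : F.IsNormal Q := Fusion.isNormal_core F
    have hQ := hQn.1
    have hC : F.center ≤ Z := Fusion.center_le_center F
    have hnQ := Fusion.normal_le_normalizer hQn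
    have hfn : F.IsFullyNormalized Q := ⟨hQ, fun R _ => by
      have : Finite (Cfsg.FusionSystem.normalizerIn S Q) := Fusion.finite_of_le Fusion.normalizerIn_le
      exact Nat.card_le_card_of_injective
        (Subgroup.inclusion (Fusion.normalizerIn_le.trans (le_inf le_rfl hnQ : S ≤ Cfsg.FusionSystem.normalizerIn S Q)))
        (Subgroup.inclusion_injective _)⟩
    have := Fusion.finite_autGroup (F := F) hQ
    have := Fusion.finite_of_le hQ
    obtain ⟨hA, -⟩ := Fusion.fullyNormalized_receptive hS hF hfn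
    obtain ⟨Sy, hSy⟩ := hA.2
    let _ : CommGroup ↥(Subgroup.center ↥Q) := { (inferInstance : Group ↥(Subgroup.center ↥Q)) with mul_comm := fun a b => Subtype.ext ((Subgroup.mem_center_iff.1 b.2) a) }
    let r : MulAut ↥Q →* MulAut ↥(Subgroup.center ↥Q) := MonoidHom.mk' (fun e => Subgroup.centerCongr e)
      fun a b => MulEquiv.ext fun x => Subtype.ext rfl
    obtain ⟨FH, N, hFH, hN1, hN2, -, -, hbij⟩ := Fusion.exists_norm (M := ↥(Subgroup.center ↥Q)) (r.comp (F.autGroup Q).subtype)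
      (Sy : Subgroup ↥(F.autGroup Q)) (p := p) (show IsPGroup p ↥(Subgroup.center ↥Q) from (hS.to_le hQ).to_subgroup (Subgroup.center ↥Q)) Sy.not_dvd_index
    have hzc : ∀ z : ↥Z, (⟨z, hZ z.2⟩ : ↥Q) ∈ Subgroup.center ↥Q := fun z =>
      Subgroup.mem_center_iff.2 fun g => Subtype.ext (Subgroup.mem_centralizer_iff.1 z.2.2 g (hQ g.2))
    have hzH : ∀ z : ↥Z, (⟨⟨z, hZ z.2⟩, hzc z⟩ : ↥(Subgroup.center ↥Q)) ∈ FH := fun z => by
      refine (hFH _).2 fun a ha => ?_
      rw [hSy] at ha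
      obtain ⟨b, hb, -, hbx⟩ := Fusion.mem_autInducedBy.1 ha
      simp only [Subgroup.subtype_apply] at hbx
      refine Subtype.ext (Subtype.ext ?_)
      show (((a : MulAut ↥Q) ⟨z, hZ z.2⟩ : ↥Q) : Ω) = z
      rw [hbx]
      show b * (z : Ω) * b⁻¹ = z
      rw [Subgroup.mem_centralizer_iff.1 z.2.2 b hb, mul_inv_cancel_right]
    let ι : ↥Z →* ↥FH := MonoidHom.mk' (fun z => ⟨⟨⟨z, hZ z.2⟩, hzc z⟩, hzH z⟩) fun a b => rfl
    let M : ↥Z →* ↥Q := (Subgroup.center ↥Q).subtype.comp (N.comp ι)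
    have hMc : ∀ z : ↥Z, ((M z : ↥Q) : Ω) ∈ F.center := fun z => by
      refine Fusion.mem_center_of_fixed hS hF hQn (M z).2 fun α hα => ?_
      rw [Fusion.autFun_coe]
      exact congrArg (fun y : ↥(Subgroup.center ↥Q) => ((y : ↥Q) : Ω)) (hN1 ⟨α, hα⟩ (ι z))
    have hMfix : ∀ z : ↥Z, (z : Ω) ∈ F.center →
        ((M z : ↥Q) : Ω) = (z : Ω) ^ (Sy : Subgroup ↥(F.autGroup Q)).index := by
      intro z hz
      have := hN2 (ι z) fun a => Subtype.ext (Subtype.ext (by
        show (((a : MulAut ↥Q) ⟨z, hZ z.2⟩ : ↥Q) : Ω) = z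
        rw [← Fusion.autFun_apply]
        exact Fusion.center_fixed (Fusion.isMor_of_mem_autGroup hQ a.2) hz (hZ z.2)))
      have := congrArg (fun y : ↥(Subgroup.center ↥Q) => ((y : ↥Q) : Ω)) this
      exact this
    refine ⟨M.ker.map Z.subtype, Subgroup.map_subtype_le _, ?_, le_antisymm ?_ ?_⟩
    · refine eq_bot_iff.2 ?_
      rintro x ⟨hx, z, hz, rfl⟩
      have h1 : ((M z : ↥Q) : Ω) = 1 := by rw [show M z = 1 from hz]; rfl
      have h2 := hMfix z hx
      rw [h1] at h2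
      have h3 := @hbij.1 ⟨⟨z, hZ z.2⟩, hzc z⟩ 1 (by
        refine Subtype.ext (Subtype.ext ?_)
        show (z : Ω) ^ _ = ((1 : ↥Q) ^ _ : ↥Q)
        rw [← h2, one_pow]
        rfl)
      exact Subgroup.mem_bot.2 (congrArg (fun y : ↥(Subgroup.center ↥Q) => ((y : ↥Q) : Ω)) h3)
    · exact sup_le hC (Subgroup.map_subtype_le _)
    · intro z hz
      have hCp : IsPGroup p ↥F.center := hS.to_le (hC.trans inf_le_left)
      obtain ⟨w, hw⟩ := (hCp.powEquiv ((Fact.out : p.Prime).coprime_iff_not_dvd.2 Sy.not_dvd_index)).surjective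
        ⟨_, hMc ⟨z, hz⟩⟩
      have hw' : (w : Ω) ^ (Sy : Subgroup ↥(F.autGroup Q)).index = ((M ⟨z, hz⟩ : ↥Q) : Ω) := by
        have := congrArg Subtype.val hw
        simpa using this
      have hk : (⟨(w : Ω), hC w.2⟩ : ↥Z)⁻¹ * ⟨z, hz⟩ ∈ M.ker := by
        rw [MonoidHom.mem_ker, map_mul, map_inv, inv_mul_eq_one]
        exact Subtype.ext ((hMfix _ w.2).trans hw')
      have := Subgroup.mul_mem_sup w.2 (Subgroup.mem_map_of_mem Z.subtype hk)
      simpa using this

end Cfsg.Agent.S5294
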