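import Cfsg.Statements.S5295
import Cfsg.Agent.S5193
import Cfsg.Agent.S5294

set_option autoImplicit false
universe u
open Cfsg

namespace Cfsg.Agent.S5295

/-- Let F be a saturated fusion system over a finite p-group S with p odd. Then the centre Z(F) of F is a direct factor of Z(S): there is a subgroup K of Z(S) with Z(F) ∩ K = 1 and Z(F)K = Z(S). (At the prime 2 this can fail.) -/
theorem result {Ω : Type u} [Group Ω] {S : Subgroup Ω} [Finite S] (p : ℕ) [Fact p.Prime] (hp : p ≠ 2) (hS : IsPGroup p S)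
    (F : Cfsg.FusionSystem S) (hF : F.IsSaturated p) :
    ∃ K : Subgroup Ω, K ≤ (S ⊓ Subgroup.centralizer (S : Set Ω)) ∧ F.center ⊓ K = ⊥ ∧ F.center ⊔ K = (S ⊓ Subgroup.centralizer (S : Set Ω)) := by
  have hZJ : S ⊓ Subgroup.centralizer (S : Set Ω) ≤ Cfsg.thompsonSubgroupAOf S := fun x hx =>
    ((Fusion.ZJC.centerThompsonAOf_eq S).ge (Fusion.ThompsonA.center_le_zj S hx)).1
  have hJS : Cfsg.thompsonSubgroupAOf S ≤ S := Subgroup.map_subtype_le _
  have hT : Cfsg.FusionSystem.normalizerIn S (Cfsg.thompsonSubgroupAOf S) = S := inf_eq_left.2 fun a ha =>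
    (Fusion.jaFunctor.{u} p).mem_normalizer le_rfl ha (Subgroup.le_normalizer ha)
  obtain ⟨N, hN⟩ := Fusion.exists_normalizerSystem F hJS
  have hc := (S5193.result p hS F hF N hN).2 (Or.inl hp)
  haveI : Finite ↥(Cfsg.FusionSystem.normalizerIn S (Cfsg.thompsonSubgroupAOf S)) :=
    Fusion.finite_of_le Fusion.normalizerIn_le
  have hNs := Fusion.normalizerSystem_saturated hS hF
    (show F.IsFullyNormalized (Cfsg.thompsonSubgroupAOf S) from ⟨hJS, fun R _ => by
      rw [hT]
      exact Nat.card_le_card_of_injective (Subgroup.inclusion Fusion.normalizerIn_le)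
        (Subgroup.inclusion_injective _)⟩) hN
  have hcore : Cfsg.thompsonSubgroupAOf S ≤ N.core := le_sSup (Fusion.isNormal_normalizerSystem hJS hN)
  obtain ⟨K, h1, h2, h3⟩ := S5294.result p (hS.to_le Fusion.normalizerIn_le) N hNs
    ((congrArg (fun T : Subgroup Ω => T ⊓ Subgroup.centralizer (T : Set Ω)) hT).le.trans (hZJ.trans hcore))
  rw [hc] at h2 h3
  rw [hT] at h1 h3
  exact ⟨K, h1, h2, h3⟩

end Cfsg.Agent.S5295
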