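import Cfsg.Statements.S5299
import Cfsg.Prelude.Def_FusionReduction
import Cfsg.Prelude.Def_LocalEven
import Mathlib.GroupTheory.Sylow

set_option autoImplicit false
universe u
open Cfsg

namespace Cfsg.Agent.S5299

/-- Let F be a saturated fusion system over a finite p-group S, H a finite group and Q a p-subgroup of H. If Q is not involved in S (no section of S is isomorphic to Q), then F is H-free: H is involved in no model of the normalizer system of a fully normalized centric subgroup. -/
theorem result {Ω : Type u} [Group Ω] {S : Subgroup Ω} [Finite S] (p : ℕ) [Fact p.Prime] (hS : IsPGroup p S)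
    (F : Cfsg.FusionSystem S) (hF : F.IsSaturated p) (H : Type*) [Group H] [Finite H] (Q : Subgroup H) (hQ : IsPGroup p Q)
    (hfree : ¬ Cfsg.Involves (↥Q) (↥S)) : F.IsSectionFree p H := by
  intro R hR hRc N hN L _ ι hM
  rintro ⟨K, R', hn, ⟨e⟩⟩
  obtain ⟨hfin, hreal, ⟨T, hT⟩, -⟩ := hM
  haveI := hfin
  let π : K →* H := e.toMonoidHom.comp (QuotientGroup.mk' (R'.subgroupOf K))
  have hπ : Function.Surjective π := e.surjective.comp (QuotientGroup.mk'_surjective _)
  let K' : Subgroup K := Q.comap π
  let g : K' →* Q := π.subgroupComap Q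
  have hg : Function.Surjective g := MonoidHom.subgroupComap_surjective_of_surjective π Q hπ
  obtain ⟨P⟩ : Nonempty (Sylow p K') := inferInstance
  have hgP : (P : Subgroup K').map g = ⊤ := by
    have h := (P.mapSurjective hg).3 (Q := ⊤) (hQ.to_subgroup ⊤) le_top
    exact h.symm
  -- the Sylow subgroup sits inside the group of the system
  let P₁ : Subgroup L := ((P : Subgroup K').map (K.subtype.comp K'.subtype))
  obtain ⟨T', hT'⟩ := (P.isPGroup'.map (K.subtype.comp K'.subtype)).exists_le_sylow
  obtain ⟨l, hl⟩ := MulAction.exists_smul_eq L T' T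
  have hin : ∀ x : (P : Subgroup K'), ∃ s, ι s = MulAut.conj l (((x : K') : K) : L) := by
    intro x
    have h1 : MulAut.conj l (((x : K') : K) : L) ∈ (T : Subgroup L) := by
      rw [← hl, Sylow.coe_subgroup_smul]
      exact ⟨_, hT' ⟨(x : K'), x.2, rfl⟩, rfl⟩
    rw [hT] at h1
    exact h1
  have hinj : Function.Injective ι := hreal.1
  choose f hf using hin
  let fS : (P : Subgroup K') →* S :=
    { toFun := fun x => Subgroup.inclusion inf_le_left (f x)
      map_one' := by
        have : f 1 = 1 := hinj (by rw [hf, map_one]; simp)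
        rw [this]; exact map_one _
      map_mul' := fun x y => by
        have : f (x * y) = f x * f y := hinj (by rw [hf, map_mul, hf, hf]; simp)
        rw [this]; exact map_mul _ _ _ }
  have hfS : Function.Injective fS := fun x y h => by
    have h1 : f x = f y := Subgroup.inclusion_injective inf_le_left h
    have h2 := (hf x).symm.trans ((congrArg ι h1).trans (hf y))
    exact Subtype.ext (Subtype.ext (Subtype.ext ((MulAut.conj l).injective h2)))
  refine hfree ⟨fS.range, ((g.comp (P : Subgroup K').subtype).ker).map fS, ?_⟩
  let E := MonoidHom.ofInjective hfS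
  let h : fS.range →* Q := (g.comp (P : Subgroup K').subtype).comp E.symm.toMonoidHom
  have hh : Function.Surjective h := fun q => by
    obtain ⟨x, hx, hxq⟩ : q ∈ (P : Subgroup K').map g := hgP ▸ Subgroup.mem_top q
    exact ⟨E ⟨x, hx⟩, by simpa [h] using hxq⟩
  have hker : h.ker = (((g.comp (P : Subgroup K').subtype).ker).map fS).subgroupOf fS.range := by
    ext z
    obtain ⟨x, rfl⟩ := E.surjective z
    rw [MonoidHom.mem_ker, Subgroup.mem_subgroupOf,
      show h (E x) = (g.comp (P : Subgroup K').subtype) x by simp [h],
      show ((E x : fS.range) : S) = fS x from rfl, Subgroup.mem_map_iff_mem hfS, MonoidHom.mem_ker]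
  haveI : ((((g.comp (P : Subgroup K').subtype).ker).map fS).subgroupOf fS.range).Normal := hker ▸ h.normal_ker
  exact ⟨inferInstance, ⟨(QuotientGroup.quotientMulEquivOfEq hker.symm).trans
    (QuotientGroup.quotientKerEquivOfSurjective h hh)⟩⟩

end Cfsg.Agent.S5299
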