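import Cfsg.Statements.S5300
import Cfsg.Agent.Lib.Fusion.SmallElements
-- import your own Cfsg.Agent.* helpers here

set_option autoImplicit false
universe u
open Cfsg

namespace Cfsg.Agent.S5300

/-- Let F be a saturated fusion system over a finite p-group S. If every cyclic subgroup of the focal subgroup of F of order p (of order 2 or 4 when p = 2) is normal in S, then S is normal in F. -/
theorem result {Ω : Type u} [Group Ω] {S : Subgroup Ω} [Finite S] (p : ℕ) [Fact p.Prime] (hS : IsPGroup p S)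
    (F : Cfsg.FusionSystem S) (hF : F.IsSaturated p)
    (hnorm : ∀ x ∈ F.focalSubgroup, (x ^ p = 1 ∨ (p = 2 ∧ x ^ 4 = 1)) → ∀ s ∈ S, s * x * s⁻¹ ∈ Subgroup.zpowers x) :
    F.IsNormal S := by
  have hpp : p.Prime := Fact.out
  have hcen : ∀ x ∈ F.focalSubgroup, x ^ p = 1 → ∀ a ∈ S, a * x * a⁻¹ = x := by
    intro x hx hxp a ha
    obtain ⟨k, hk⟩ := hnorm x hx (Or.inl hxp) a ha
    have hk' : a * x * a⁻¹ = x ^ k := hk.symm
    have hn : ∀ n : ℕ, a ^ n * x * (a ^ n)⁻¹ = x ^ (k ^ n) := by
      intro n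
      induction n with
      | zero => simp
      | succ n ihn =>
        calc a ^ (n + 1) * x * (a ^ (n + 1))⁻¹ = a * (a ^ n * x * (a ^ n)⁻¹) * a⁻¹ := by
              rw [pow_succ']; group
          _ = (a * x * a⁻¹) ^ (k ^ n) := by rw [ihn, conj_zpow]
          _ = x ^ (k ^ (n + 1)) := by rw [hk', ← zpow_mul, pow_succ']
    obtain ⟨e, he⟩ := hS ⟨a, ha⟩
    have he' : a ^ p ^ e = 1 := congrArg Subtype.val he
    have h1 := hn (p ^ e)
    rw [he', one_mul, inv_one, mul_one] at h1
    have hz : ((k ^ p ^ e : ℤ) : ZMod p) = (k : ZMod p) := by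
      push_cast
      exact ZMod.pow_card_pow _
    rw [ZMod.intCast_eq_intCast_iff_dvd_sub] at hz
    have h3 : x ^ (k - k ^ p ^ e) = 1 := by
      obtain ⟨c, hc⟩ := hz
      rw [hc, zpow_mul, zpow_natCast, hxp, one_zpow]
    rw [zpow_sub, ← h1, mul_inv_eq_one] at h3
    rw [hk', h3]
  refine Fusion.isNormal_of_essential hS hF fun P hP => ?_
  rcases hP with rfl | hP
  · exact ⟨le_rfl, fun α hα x hx => Fusion.autFun_mem α hx⟩
  exfalso
  have hPS := hP.1.1
  refine Fusion.not_isEssential_of_stabilizes hS hF hP (T := P ⊓ F.focalSubgroup) inf_le_left ?_ ?_ ?_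
  · intro α hα x hx
    refine ⟨Fusion.autFun_mem α hx.1, ?_⟩
    have h2 := F.focalSubgroup.mul_mem hx.2
      (Fusion.mem_focal_of_isMor (Fusion.isMor_of_mem_autGroup hPS hα) hx.1)
    rwa [mul_inv_cancel_left] at h2
  · exact fun α hα hc x hx => ⟨P.mul_mem (P.inv_mem hx) (Fusion.autFun_mem α hx),
      Fusion.mem_focal_of_isMor (Fusion.isMor_of_mem_autGroup hPS hα) hx⟩
  intro D hDT hsm hD
  have hDP : D ≤ P := hDT.trans inf_le_left
  have hK1 : Subgroup.closure {x | x ∈ D ∧ x ^ p = 1} ≤ D := (Subgroup.closure_le _).2 fun x hx => hx.1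
  refine ⟨2, fun i => if i = 0 then ⊥ else if i = 1 then Subgroup.closure {x | x ∈ D ∧ x ^ p = 1} else D,
    rfl, rfl, ?_, ?_, ?_, ?_⟩
  · intro i hi
    rcases i with _ | _ | i
    · simp
    · simpa using hK1
    · simp
  · intro i hi
    rcases i with _ | _ | i
    · simp
    · simpa using hK1
    · omega
  · intro i hi α hα
    have hf := Fusion.isMor_of_mem_autGroup hPS hα
    rcases i with _ | _ | i
    · intro x hx
      have hx' : x = 1 := by simpa using hx
      simp [hx', hf.map_one]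
    · simp only [if_true, one_ne_zero, if_false, Nat.reduceAdd, zero_add]
      intro x hx
      induction hx using Subgroup.closure_induction with
      | mem z hz =>
        refine Subgroup.subset_closure ⟨hD α hα z hz.1, ?_⟩
        rw [Fusion.autFun_apply α (hDP hz.1), ← Subgroup.coe_pow, ← map_pow,
          show (⟨z, hDP hz.1⟩ : P) ^ p = 1 from Subtype.ext hz.2, map_one]
        rfl
      | one => rw [hf.map_one]; exact one_mem _
      | mul u v hu hv hu' hv' => rw [hf.map_mul (hDP (hK1 hu)) (hDP (hK1 hv))]; exact mul_mem hu' hv'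
      | inv u hu hu' => rw [hf.map_inv (hDP (hK1 hu))]; exact inv_mem hu'
    · simpa using hD α hα
  · intro i hi a ha han x hx
    rcases i with _ | _ | i
    · have hx' : x ∈ Subgroup.closure {x | x ∈ D ∧ x ^ p = 1} := by simpa using hx
      have h2 : Subgroup.closure {x | x ∈ D ∧ x ^ p = 1} ≤ Subgroup.centralizer ({a} : Set Ω) :=
        (Subgroup.closure_le _).2 fun z hz => Subgroup.mem_centralizer_singleton_iff.2
          (mul_inv_eq_iff_eq_mul.1 (hcen z (hDT hz.1).2 hz.2 a ha)).symm
      have h3 := Subgroup.mem_centralizer_singleton_iff.1 (h2 hx')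
      simp [← h3]
    · have hx' : x ∈ D := by simpa using hx
      simp only [if_true, one_ne_zero, if_false, Nat.reduceAdd, zero_add]
      by_cases hxp : x ^ p = 1
      · rw [hcen x (hDT hx').2 hxp a ha, inv_mul_cancel]
        exact one_mem _
      obtain ⟨h2, h4⟩ := (hsm x hx').resolve_left hxp
      subst h2
      obtain ⟨k, hk⟩ := hnorm x (hDT hx').2 (Or.inr ⟨rfl, h4⟩) a ha
      have hk' : a * x * a⁻¹ = x ^ k := hk.symm
      rcases Int.even_or_odd k with ⟨j, hj⟩ | ⟨j, hj⟩
      · refine absurd ?_ hxp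
        have h5 : a * x ^ 2 * a⁻¹ = 1 := by
          rw [← conj_pow, hk', hj, ← two_mul, zpow_mul, ← zpow_natCast, ← zpow_mul, mul_comm, zpow_mul,
            ← zpow_mul x 2, show ((2 : ℕ) : ℤ) = 2 from rfl, show (2 : ℤ) * 2 = (4 : ℕ) from rfl,
            zpow_natCast, h4, one_zpow]
        exact conj_eq_one_iff.1 h5
      · refine Subgroup.subset_closure ⟨?_, ?_⟩
        · rw [hk']
          exact D.mul_mem (D.inv_mem hx') (D.zpow_mem hx' k)
        · rw [hk', hj, zpow_add_one, (Commute.zpow_self x (2 * j)).eq, inv_mul_cancel_left, ← zpow_natCast,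
            ← zpow_mul, mul_comm, ← mul_assoc, show ((2 : ℕ) : ℤ) * 2 = (4 : ℕ) from rfl, zpow_mul,
            zpow_natCast, h4, one_zpow]
    · omega

end Cfsg.Agent.S5300
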