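import Cfsg.Statements.S5306
import Cfsg.Agent.Lib.Local.ClassTwoFactorization
-- import your own Cfsg.Agent.* helpers here

set_option autoImplicit false
open Cfsg

namespace Cfsg.Agent.S5306

/-- Let P be a Sylow p-subgroup of the finite group X and J = J(P) its Thompson subgroup (generated by the elementary abelian subgroups of P of largest order). If x and y lie in the centre of J and y = g x g⁻¹ for some g in X, then y = n x n⁻¹ for some n in the normalizer N_X(J). -/
theorem result {X : Type*} [Group X] [Finite X] (p : ℕ) [Fact p.Prime] (P : Sylow p X) (J : Subgroup X) (hJ : J = Cfsg.thompsonSubgroupOf p (P : Subgroup X))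
    (x y : X) (hx : x ∈ J ∧ ∀ j ∈ J, Commute j x) (hy : y ∈ J ∧ ∀ j ∈ J, Commute j y) (g : X) (hg : g * x * g⁻¹ = y) :
    ∃ n ∈ Subgroup.normalizer (J : Set X), n * x * n⁻¹ = y := by
  subst hJ
  have key : ∀ P Q : Sylow p X, Cfsg.thompsonSubgroupOf p (P : Subgroup X) ≤ Q →
      Cfsg.thompsonSubgroupOf p (Q : Subgroup X) = Cfsg.thompsonSubgroupOf p (P : Subgroup X) := by
    intro P Q hle
    obtain ⟨g, hg⟩ := MulAction.exists_smul_eq X P Q
    have hconj : (Q : Subgroup X) = (P : Subgroup X).map (MulAut.conj g).toMonoidHom := by rw [← hg]; rfl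
    have hcard : Nat.card ↥(Cfsg.thompsonSubgroupOf p (Q : Subgroup X)) =
        Nat.card ↥(Cfsg.thompsonSubgroupOf p (P : Subgroup X)) := by
      rw [hconj, Cfsg.Agent.Local.ClassTwo.thompsonSubgroupOf_map _ _ (fun x _ h => (MulAut.conj g).injective (h.trans (map_one _).symm)),
        Subgroup.card_map_of_injective (MulAut.conj g).injective]
    refine (Subgroup.eq_of_le_of_card_ge ?_ hcard.le).symm
    show (sSup (Cfsg.maxElementaryAbelianSubgroups p ↥(P : Subgroup X))).map (P : Subgroup X).subtype ≤ _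
    rw [Subgroup.map_le_iff_le_comap]
    refine sSup_le fun A hA => Subgroup.map_le_iff_le_comap.1 ?_
    have hAQ : A.map (P : Subgroup X).subtype ≤ (Q : Subgroup X) :=
      (Subgroup.map_mono (le_sSup hA)).trans hle
    rw [← Subgroup.map_subgroupOf_eq_of_le hAQ]
    refine Subgroup.map_mono (Cfsg.Agent.Solv.le_thompson
      ⟨Cfsg.Agent.Solv.elemAbelian_subgroupOf (Cfsg.Agent.Solv.elemAbelian_map _ hA.1), fun B hB => ?_⟩)
    rw [Cfsg.Agent.Solv.card_subgroupOf hAQ, Subgroup.card_map_of_injective (P : Subgroup X).subtype_injective]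
    set B' := (B.map (Q : Subgroup X).subtype).map (MulAut.conj g⁻¹).toMonoidHom with hB'
    have hBP : B' ≤ (P : Subgroup X) := by
      rintro _ ⟨_, ⟨b, -, rfl⟩, rfl⟩
      obtain ⟨q, hq, e⟩ := hconj.le b.2
      show g⁻¹ * (b : X) * g⁻¹⁻¹ ∈ (P : Subgroup X)
      have e' : g * q * g⁻¹ = (b : X) := e
      rw [← e']
      rw [show g⁻¹ * (g * q * g⁻¹) * g⁻¹⁻¹ = q by group]; exact hq
    have := hA.2 (B'.subgroupOf (P : Subgroup X)) (Cfsg.Agent.Solv.elemAbelian_subgroupOf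
      (Cfsg.Agent.Solv.elemAbelian_map _ (Cfsg.Agent.Solv.elemAbelian_map _ hB)))
    rwa [Cfsg.Agent.Solv.card_subgroupOf hBP, hB', Subgroup.card_map_of_injective (MulAut.conj g⁻¹).injective,
      Subgroup.card_map_of_injective (Q : Subgroup X).subtype_injective] at this
  set J := Cfsg.thompsonSubgroupOf p (P : Subgroup X)
  set C := Subgroup.centralizer ({y} : Set X)
  have hJP : J ≤ (P : Subgroup X) := Subgroup.map_subtype_le _
  have hJC : J ≤ C := fun j hj => Subgroup.mem_centralizer_singleton_iff.2 (hy.2 j hj).eq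
  set J' := J.map (MulAut.conj g).toMonoidHom with hJ'
  have hJ'C : J' ≤ C := by
    rintro _ ⟨j, hj, rfl⟩
    rw [Subgroup.mem_centralizer_singleton_iff]
    show g * j * g⁻¹ * y = y * (g * j * g⁻¹)
    rw [← hg]
    calc g * j * g⁻¹ * (g * x * g⁻¹) = g * (j * x) * g⁻¹ := by group
      _ = g * (x * j) * g⁻¹ := by rw [(hx.2 j hj).eq]
      _ = g * x * g⁻¹ * (g * j * g⁻¹) := by group
  have hpJ : IsPGroup p ↥(J.subgroupOf C) :=
    (P.isPGroup'.to_le hJP).of_equiv (Subgroup.subgroupOfEquivOfLe hJC).symm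
  have hpJ' : IsPGroup p ↥(J'.subgroupOf C) :=
    ((P.isPGroup'.to_le hJP).map _).of_equiv (Subgroup.subgroupOfEquivOfLe hJ'C).symm
  obtain ⟨R₁, hR₁⟩ := hpJ.exists_le_sylow
  obtain ⟨R₂, hR₂⟩ := hpJ'.exists_le_sylow
  obtain ⟨c, hc⟩ := MulAction.exists_smul_eq C R₂ R₁
  obtain ⟨Q, hQ⟩ := (R₁.isPGroup'.map C.subtype).exists_le_sylow
  have h1 : J ≤ (Q : Subgroup X) := by
    rw [← Subgroup.map_subgroupOf_eq_of_le hJC]; exact (Subgroup.map_mono hR₁).trans hQ
  set n := (c : X) * g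
  have h2 : J.map (MulAut.conj n).toMonoidHom ≤ (Q : Subgroup X) := by
    rintro _ ⟨j, hj, rfl⟩
    have hm : (⟨g * j * g⁻¹, hJ'C ⟨j, hj, rfl⟩⟩ : C) ∈ (R₂ : Subgroup C) := hR₂ ⟨j, hj, rfl⟩
    have hm2 : c * ⟨g * j * g⁻¹, hJ'C ⟨j, hj, rfl⟩⟩ * c⁻¹ ∈ (R₁ : Subgroup C) := by
      rw [← hc]; exact ⟨_, hm, rfl⟩
    have := hQ ⟨_, hm2, rfl⟩
    simpa [n, mul_assoc] using this
  have hP' : Cfsg.thompsonSubgroupOf p ((n • P : Sylow p X) : Subgroup X) = J.map (MulAut.conj n).toMonoidHom :=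
    Cfsg.Agent.Local.ClassTwo.thompsonSubgroupOf_map (MulAut.conj n).toMonoidHom (P : Subgroup X)
      (fun x _ h => (MulAut.conj n).injective (h.trans (map_one _).symm))
  have e : J.map (MulAut.conj n).toMonoidHom = J := by
    rw [← hP', ← key (n • P) Q (hP'.symm ▸ h2), key P Q h1]
  refine ⟨n, ?_, ?_⟩
  · rw [Subgroup.mem_normalizer_iff]
    intro j
    refine ⟨fun hj => e.le ⟨j, hj, rfl⟩, fun hj => ?_⟩
    obtain ⟨z, hz, ez⟩ := e.ge hj
    rwa [← (MulAut.conj n).injective (ez : MulAut.conj n z = MulAut.conj n j)]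
  · show (c : X) * g * x * ((c : X) * g)⁻¹ = y
    have hcy : (c : X) * y = y * c := Subgroup.mem_centralizer_singleton_iff.1 c.2
    calc (c : X) * g * x * ((c : X) * g)⁻¹ = c * (g * x * g⁻¹) * (c : X)⁻¹ := by group
      _ = y := by rw [hg, hcy, mul_inv_cancel_right]

end Cfsg.Agent.S5306
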