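import Cfsg.Statements.S5315
import Cfsg.Agent.Lib.Fusion.CenterNorm
import Cfsg.Agent.Lib.Fusion.FactorClosed
import Cfsg.Agent.Lib.Fusion.Hyperfocal
-- import your own Cfsg.Agent.* helpers here

set_option autoImplicit false
open Cfsg

namespace Cfsg.Agent.S5315

/-- An analogue of Grün's lemma for fusion systems. Let F be a saturated fusion system over a finite p-group S that is perfect in the sense that its hyperfocal subgroup is all of S (F coincides with its p-residual subsystem). Then the second centre of F equals its centre: every fusion system over S/(Z(F) ∩ S) that is the factor system of F modulo its centre Z(F), read through the quotient map, has trivial centre. -/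
theorem result {Ω : Type*} [Group Ω] {S : Subgroup Ω} [Finite S] (p : ℕ) [Fact p.Prime] (hS : IsPGroup p S) (F : Cfsg.FusionSystem S) (hF : F.IsSaturated p)
    (hperf : F.hyperfocalSubgroup p = S)
    (E : Cfsg.FusionSystem (⊤ : Subgroup (↥S ⧸ (F.center).subgroupOf S)))
    (hE : F.IsFactorSystem F.center (QuotientGroup.mk' ((F.center).subgroupOf S)) E) : E.center = ⊥ := by
    set θ := QuotientGroup.mk' ((F.center).subgroupOf S) with hθ
    have hcS : F.center ≤ S := (Fusion.isCentral_center F).1
    have hZfix : ∀ {P : Subgroup Ω} {f : Ω → Ω}, Fusion.IsMor F P f → ∀ x ∈ F.center, x ∈ P → f x = x :=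
      fun hf x hx hxP => Fusion.center_fixed hf hx hxP
    have hZsc : F.StronglyClosed F.center :=
      Fusion.stronglyClosed_of_apply_mem hcS fun R f hR hf x hx => (hZfix hf x (hR hx) hx).symm ▸ hR hx
    have hEsc : E.StronglyClosed E.center :=
      Fusion.stronglyClosed_of_apply_mem (Fusion.isCentral_center E).1
        fun R f hR hf x hx => (Fusion.center_fixed hf (hR hx) hx).symm ▸ hR hx
    set A := Cfsg.FusionSystem.preimageAlong θ E.center with hA
    have hAsc : F.StronglyClosed A := Fusion.preimage_stronglyClosed hS hF hZsc hE hEsc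
    have hZA : F.center ≤ A := Fusion.le_preimageAlong hcS hE.2.1
    have hdiff : ∀ {P : Subgroup Ω} {f : Ω → Ω}, Fusion.IsMor F P f → ∀ a ∈ A, a ∈ P → a⁻¹ * f a ∈ F.center := by
      intro P f hf a ha haP
      obtain ⟨f', hf', hi⟩ := Fusion.factor_isMor_of hS hF hZsc hE hf
      obtain ⟨haS, haC⟩ := Fusion.mem_preimageAlong.1 ha
      have h1 := hi a haP
      rw [Fusion.center_fixed hf' haC (Fusion.imageAlong_mem hf.le haP),
        Fusion.qfun_eq_iff hE.2.1 haS (hf.mem haP)] at h1
      exact h1
    have hZS : ∀ z ∈ F.center, ∀ s ∈ S, z * s = s * z := fun z hz s hs =>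
      ((Subgroup.mem_centralizer_iff.1 (Fusion.center_le_center F hz).2) s hs).symm
    have hcomm : ∀ a ∈ A, ∀ s ∈ S, s * a * s⁻¹ * a⁻¹ ∈ F.center := by
      intro a ha s hs
      have h1 := hdiff (Fusion.isMor_conj (F := F) (P := S) le_rfl hs) a ha (hAsc.1 ha)
      have e : s * a * s⁻¹ * a⁻¹ = a * (a⁻¹ * (s * a * s⁻¹)) * a⁻¹ := by group
      rw [e, ← hZS _ h1 a (hAsc.1 ha), mul_inv_cancel_right]
      exact h1
    have hAn : F.IsNormal A := by
      refine Fusion.isNormal_of_series hS hF hAsc (n := 2) ![⊥, F.center, A] rfl rfl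
        (Fin.monotone_iff_le_succ.2 fun i => ?_) (fun i => ?_) fun i => ?_
      · fin_cases i
        · exact bot_le
        · exact hZA
      · fin_cases i
        · refine Subgroup.commutator_le.2 fun z hz a ha => ?_
          show z * a * z⁻¹ * a⁻¹ ∈ (⊥ : Subgroup Ω)
          rw [hZS z hz a (hAsc.1 ha)]
          simp
        · exact Subgroup.commutator_le.2 fun a ha b hb => hcomm b hb a (hAsc.1 ha)
      · fin_cases i
        · exact ⟨bot_le, fun φ _ => eq_bot_iff.2 (by
            rintro _ ⟨x, rfl⟩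
            rw [show x = 1 from Subtype.ext (Subgroup.mem_bot.1 x.2), map_one]
            exact one_mem _)⟩
        · refine ⟨hcS, fun φ hφ => Subgroup.ext fun y => ⟨?_, fun hy => ⟨⟨y, hy⟩, ?_⟩⟩⟩
          · rintro ⟨x, rfl⟩
            rw [← Fusion.extFun_coe φ x, hZfix (Fusion.isMor_extFun hφ) x x.2 x.2]
            exact x.2
          · rw [← Fusion.extFun_coe φ ⟨y, hy⟩]
            exact hZfix (Fusion.isMor_extFun hφ) y hy hy
    -- `A` is central in `S`
    have hAS : ∀ a ∈ A, ∀ s ∈ S, s * a * s⁻¹ = a := by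
      intro a ha
      have haS := hAsc.1 ha
      have key : ∀ u ∈ F.hyperfocalSubgroup p, u * a * u⁻¹ = a := by
        intro u hu
        induction hu using Subgroup.closure_induction with
        | mem u hu =>
          obtain ⟨P, α, y, hP, -, rfl⟩ := hu
          have hαm := Fusion.isMor_of_mem_autGroup hP α.2
          obtain ⟨k, hk, he, hkA⟩ := (Fusion.isNormal_iff.1 hAn).2 P _ hαm
          set v := (((α : MulAut ↥P) y : ↥P) : Ω) with hv
          have hvS : v ∈ S := hP (SetLike.coe_mem _)
          have hkv : k (y : Ω) = v := by rw [he y y.2, Fusion.autFun_coe]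
          have hyS : (y : Ω) ∈ S := hP y.2
          have hy' : (y : Ω) ∈ P ⊔ A := Subgroup.mem_sup_left y.2
          have ha' : a ∈ P ⊔ A := Subgroup.mem_sup_right ha
          set w := (y : Ω) * a * (y : Ω)⁻¹ * a⁻¹ with hw
          have hwZ : w ∈ F.center := hcomm a ha y hyS
          have h1 : k w = w := hZfix hk w hwZ (Subgroup.mem_sup_right (hZA hwZ))
          have h2 : k w = v * k a * v⁻¹ * (k a)⁻¹ := by
            rw [hw, hk.map_mul (Subgroup.mul_mem _ (Subgroup.mul_mem _ hy' ha') (Subgroup.inv_mem _ hy'))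
              (Subgroup.inv_mem _ ha'), hk.map_conj ha' hy', hk.map_inv ha', hkv]
          have hz := hdiff hk a ha ha'
          set z := a⁻¹ * k a with hzdef
          have hka : k a = a * z := by rw [hzdef, mul_inv_cancel_left]
          have h3 : v * (a * z) * v⁻¹ * (a * z)⁻¹ = v * a * v⁻¹ * a⁻¹ := by
            calc v * (a * z) * v⁻¹ * (a * z)⁻¹ = v * a * (z * v⁻¹) * z⁻¹ * a⁻¹ := by group
              _ = v * a * (v⁻¹ * z) * z⁻¹ * a⁻¹ := by rw [hZS z hz _ (S.inv_mem hvS)]
              _ = v * a * v⁻¹ * a⁻¹ := by group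
          rw [hka, h3, h1, hw] at h2
          have h4 : v * a * v⁻¹ = (y : Ω) * a * (y : Ω)⁻¹ := mul_right_cancel h2.symm
          show (y : Ω)⁻¹ * v * a * ((y : Ω)⁻¹ * v)⁻¹ = a
          calc (y : Ω)⁻¹ * v * a * ((y : Ω)⁻¹ * v)⁻¹ = (y : Ω)⁻¹ * (v * a * v⁻¹) * y := by group
            _ = a := by rw [h4]; group
        | one => simp
        | mul u v _ _ hu hv =>
          calc u * v * a * (u * v)⁻¹ = u * (v * a * v⁻¹) * u⁻¹ := by group
            _ = a := by rw [hv, hu]
        | inv u _ hu =>
          calc u⁻¹ * a * u⁻¹⁻¹ = u⁻¹ * (u * a * u⁻¹) * u⁻¹⁻¹ := by rw [hu]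
            _ = a := by group
      intro s hs
      exact key s (hperf.symm ▸ hs)
    have hAS' := hAsc.1
    have := Fusion.finite_of_le hAS'
    have := Fusion.finite_autGroup (F := F) hAS'
    have hfn : F.IsFullyNormalized A := ⟨hAS', fun R _ => by
      have := Fusion.finite_of_le (Fusion.normalizerIn_le : Cfsg.FusionSystem.normalizerIn S A ≤ S)
      exact Nat.card_le_card_of_injective
        (Subgroup.inclusion (Fusion.normalizerIn_le.trans
          (le_inf le_rfl (Fusion.le_normalizer_of_stronglyClosed hAsc) : S ≤ Cfsg.FusionSystem.normalizerIn S A)))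
        (Subgroup.inclusion_injective _)⟩
    obtain ⟨Sy, hSy⟩ := (Fusion.fullyNormalized_receptive hS hF hfn).1.2
    have hbot : (Sy : Subgroup ↥(F.autGroup A)) = ⊥ := eq_bot_iff.2 fun α hα => by
      rw [hSy] at hα
      obtain ⟨b, hb, -, hbx⟩ := Fusion.mem_autInducedBy.1 hα
      exact Subgroup.mem_bot.2 (Subtype.ext (MulEquiv.ext fun x => Subtype.ext ((hbx x).trans (hAS x x.2 b hb))))
    have hcop : ¬ p ∣ Nat.card ↥(F.autGroup A) := by
      have := Sy.not_dvd_index
      rwa [hbot, Subgroup.index_bot] at this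
    refine eq_bot_iff.2 fun e he => ?_
    obtain ⟨a, ha, rfl⟩ := Fusion.exists_qfun_eq hE.2.2.1 le_top he
    have hac : a ∈ F.center := Fusion.mem_center_of_fixed hS hF hAn ha fun α hα => by
      have hm := Fusion.isMor_of_mem_autGroup hAS' hα
      set z := a⁻¹ * Fusion.autFun α a with hzdef
      have hz : z ∈ F.center := hdiff hm a ha ha
      have hαa : Fusion.autFun α a = a * z := by rw [hzdef, mul_inv_cancel_left]
      have hpow : ∀ k : ℕ, Fusion.autFun (α ^ k) a = a * z ^ k := by
        intro k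
        induction k with
        | zero => rw [pow_zero, Fusion.autFun_one ha, pow_zero, mul_one]
        | succ k ih =>
          rw [pow_succ', Fusion.autFun_mul _ _ ha, ih, hm.map_mul ha (pow_mem (hZA hz) k),
            hαa, hZfix hm _ (pow_mem hz k) (pow_mem (hZA hz) k), pow_succ', mul_assoc]
      have h1 := hpow (Nat.card ↥(F.autGroup A))
      have hn : α ^ Nat.card ↥(F.autGroup A) = 1 :=
        congrArg Subtype.val (pow_card_eq_one' (G := ↥(F.autGroup A)) (x := ⟨α, hα⟩))
      rw [hn, Fusion.autFun_one ha, left_eq_mul] at h1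
      obtain ⟨i, hi⟩ := hS ⟨z, hcS hz⟩
      have hzi : z ^ p ^ i = 1 := congrArg Subtype.val hi
      have hd := Nat.dvd_gcd (orderOf_dvd_iff_pow_eq_one.2 h1) (orderOf_dvd_iff_pow_eq_one.2 hzi)
      rw [Nat.Coprime.gcd_eq_one ((((Fact.out : p.Prime).coprime_iff_not_dvd.2 hcop).symm).pow_right i),
        Nat.dvd_one, orderOf_eq_one_iff] at hd
      rw [hαa, hd, mul_one]
    rw [Subgroup.mem_bot, Fusion.qfun_apply θ (hcS hac)]
    exact (hE.2.1 _).2 hac

end Cfsg.Agent.S5315
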