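import Cfsg.Statements.S5329
import Cfsg.Agent.Lib.Fusion.Transfer
import Cfsg.Agent.Lib.Fusion.Hyperfocal
-- import your own Cfsg.Agent.* helpers here

set_option autoImplicit false
open Cfsg

namespace Cfsg.Agent.S5329

/-- For a saturated fusion system F over a finite p-group S, the focal subgroup and the derived subgroup of S meet the centre Z(F) of the system in the same subgroup: foc(F) ∩ Z(F) = S′ ∩ Z(F). -/
theorem result {Ω : Type*} [Group Ω] {S : Subgroup Ω} [Finite S] (p : ℕ) [Fact p.Prime] (hS : IsPGroup p S) (F : Cfsg.FusionSystem S) (hF : F.IsSaturated p) : F.focalSubgroup ⊓ F.center = ⁅(S : Subgroup Ω), (S : Subgroup Ω)⁆ ⊓ F.center := by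
    refine le_antisymm ?_ (inf_le_inf_right _ Fusion.commutator_le_focal)
    rintro z ⟨hzF, hzC⟩
    have hzS : z ∈ S := Fusion.focal_le F hzF
    obtain ⟨m, t, hm, hinv, hcen⟩ := Fusion.exists_transfer hS hF
    have hker : F.focalSubgroup ≤ t.ker.map S.subtype := by
      refine (Subgroup.closure_le _).2 ?_
      rintro _ ⟨P, φ, x, hφ, rfl⟩
      have hxS : (x : Ω) ∈ S := (F.le_of_mem hφ).1 x.2
      have hφS := (F.le_of_mem hφ).2 x
      refine ⟨(⟨x, hxS⟩ : ↥S)⁻¹ * ⟨φ x, hφS⟩, ?_, rfl⟩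
      show t _ = 1
      rw [map_mul, map_inv, hinv P _ (Fusion.isMor_extFun hφ) ⟨x, hxS⟩ ⟨φ x, hφS⟩ x.2
        (Fusion.extFun_coe φ x).symm, inv_mul_cancel]
    obtain ⟨w, hw, hwz⟩ := hker hzF
    have hwz' : (w : Ω) = z := hwz
    have h1 : t w = (Abelianization.of w)⁻¹ ^ m := hcen w (by rw [hwz']; exact hzC)
    rw [show t w = 1 from hw] at h1
    have hAp : IsPGroup p (Abelianization ↥S) := hS.to_quotient _
    have h2 : (Abelianization.of w)⁻¹ = 1 :=
      (hAp.powEquiv ((Fact.out : p.Prime).coprime_iff_not_dvd.2 hm)).injective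
        (by simp only [IsPGroup.powEquiv_apply, one_pow]; exact h1.symm)
    have h3 : w ∈ commutator ↥S := (QuotientGroup.eq_one_iff w).1 (inv_eq_one.1 h2)
    refine ⟨?_, hzC⟩
    have h4 : (commutator ↥S).map S.subtype = ⁅S, S⁆ := by
      rw [commutator_def, Subgroup.map_commutator, ← MonoidHom.range_eq_map, Subgroup.range_subtype]
    rw [← h4, ← hwz']
    exact Subgroup.mem_map_of_mem _ h3

end Cfsg.Agent.S5329
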