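import Cfsg.Statements.S5330
import Cfsg.Agent.Lib.Fusion.CenterNorm
import Cfsg.Agent.Lib.Fusion.FactorClosed
-- import your own Cfsg.Agent.* helpers here

set_option autoImplicit false
open Cfsg

namespace Cfsg.Agent.S5330

/-- Let F be a saturated fusion system over a finite abelian p-group S. Then S is the internal direct product of the centre of the system and the focal subgroup: Z(F) ∩ foc(F) = 1 and Z(F)·foc(F) = S. -/
theorem result {Ω : Type*} [Group Ω] {S : Subgroup Ω} [Finite S] (p : ℕ) [Fact p.Prime] (hS : IsPGroup p S) (F : Cfsg.FusionSystem S) (hF : F.IsSaturated p) (hab : ∀ x ∈ S, ∀ y ∈ S, x * y = y * x) : F.center ⊓ F.focalSubgroup = ⊥ ∧ F.center ⊔ F.focalSubgroup = S := by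
    have hSn : F.IsNormal S := Fusion.isNormal_of_abelian hS hF
      ⟨le_rfl, fun R _ φ hφ x => (F.le_of_mem hφ).2 x⟩
      (eq_bot_iff.2 (Subgroup.commutator_le.2 fun a ha b hb => by
        rw [Subgroup.mem_bot, commutatorElement_eq_one_iff_mul_comm]
        exact hab a ha b hb))
    let _ : CommGroup ↥S := { (inferInstance : Group ↥S) with mul_comm := fun a b => Subtype.ext (hab a a.2 b b.2) }
    have := Fusion.finite_autGroup (F := F) (le_refl S)
    have := Fusion.finite_of_le (Fusion.normalizerIn_le : Cfsg.FusionSystem.normalizerIn S S ≤ S)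
    have hfn : F.IsFullyNormalized S := ⟨le_rfl, fun R _ => Nat.card_le_card_of_injective
        (Subgroup.inclusion (Fusion.normalizerIn_le.trans (Fusion.le_normalizerIn le_rfl)))
        (Subgroup.inclusion_injective _)⟩
    obtain ⟨hA, -⟩ := Fusion.fullyNormalized_receptive hS hF hfn
    obtain ⟨Sy, hSy⟩ := hA.2
    have hbot : ∀ a ∈ (Sy : Subgroup ↥(F.autGroup S)), ∀ x : ↥S, (a : MulAut ↥S) x = x := fun a ha x => by
      rw [hSy] at ha
      obtain ⟨b, hb, -, hbx⟩ := Fusion.mem_autInducedBy.1 ha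
      simp only [Subgroup.subtype_apply] at hbx
      refine Subtype.ext ?_
      rw [hbx, hab b hb x x.2, mul_inv_cancel_right]
    obtain ⟨FH, N, hFH, hN1, hN2, hN3, hN4, hbij⟩ := Fusion.exists_norm (F.autGroup S).subtype
      (Sy : Subgroup ↥(F.autGroup S)) (p := p) hS Sy.not_dvd_index
    set n := (Sy : Subgroup ↥(F.autGroup S)).index
    have hall : ∀ x : ↥S, x ∈ FH := fun x => (hFH x).2 fun a ha => hbot a ha x
    let M : ↥S →* ↥S := N.comp (MonoidHom.mk' (fun x => (⟨x, hall x⟩ : ↥FH)) fun a b => rfl)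
    have hnorm : (Sy : Subgroup ↥(F.autGroup S)) = ⊥ :=
      eq_bot_iff.2 fun a ha => Subgroup.mem_bot.2 (Subtype.ext (MulEquiv.ext (hbot a ha)))
    have hSyn : (Sy : Subgroup ↥(F.autGroup S)).Normal := hnorm ▸ inferInstance
    have hMinv : ∀ (a : ↥(F.autGroup S)) (x : ↥S), M ((a : MulAut ↥S) x) = M x := fun a x =>
      hN4 a ⟨x, hall x⟩ (hall _) hSyn
    have hbad : ∀ z : ↥S, (z : Ω) ∈ F.focalSubgroup → M z = 1 := by
      suffices h : F.focalSubgroup ≤ M.ker.map S.subtype by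
        intro z hz
        obtain ⟨w, hw, hwz⟩ := h hz
        rw [← Subtype.ext hwz]
        exact hw
      refine (Subgroup.closure_le _).2 ?_
      rintro _ ⟨P, φ, x, hφ, rfl⟩
      obtain ⟨k, hk, he, hkS⟩ := (Fusion.isNormal_iff.1 hSn).2 P _ (Fusion.isMor_extFun hφ)
      have hxS : (x : Ω) ∈ S := (F.le_of_mem hφ).1 x.2
      refine ⟨⟨x, hxS⟩⁻¹ * Fusion.autOf hkS ⟨x, hxS⟩, ?_, ?_⟩
      · show M _ = 1
        rw [map_mul, map_inv, hMinv ⟨_, Fusion.autOf_mem hkS⟩, inv_mul_cancel]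
      · show (x : Ω)⁻¹ * (Fusion.autOf hkS ⟨x, hxS⟩ : ↥S) = _
        rw [Fusion.autOf_apply, he _ x.2, Fusion.extFun_coe]
    have hMC : ∀ x : ↥S, ((M x : ↥S) : Ω) ∈ F.center := fun x =>
      Fusion.mem_center_of_fixed hS hF hSn (M x).2 fun α hα => by
        rw [Fusion.autFun_coe]
        exact congrArg (fun y : ↥S => (y : Ω)) (hN1 ⟨α, hα⟩ ⟨x, hall x⟩)
    have hMfix : ∀ x : ↥S, (x : Ω) ∈ F.center → M x = x ^ n := fun x hx =>
      hN2 ⟨x, hall x⟩ fun a => Subtype.ext (by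
        show (((a : MulAut ↥S) x : ↥S) : Ω) = x
        rw [← Fusion.autFun_coe]
        exact Fusion.center_fixed (Fusion.isMor_of_mem_autGroup le_rfl a.2) hx x.2)
    refine ⟨?_, le_antisymm (sup_le (Fusion.isCentral_center F).1 ?_) fun x hx => ?_⟩
    · refine eq_bot_iff.2 ?_
      rintro z ⟨hzC, hzF⟩
      have hzS : z ∈ S := (Fusion.isCentral_center F).1 hzC
      have h3 := @hbij.1 ⟨z, hzS⟩ 1 (by
        show (⟨z, hzS⟩ : ↥S) ^ n = (1 : ↥S) ^ n
        rw [one_pow, ← hMfix ⟨z, hzS⟩ hzC]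
        exact hbad _ hzF)
      exact Subgroup.mem_bot.2 (congrArg Subtype.val h3)
    · refine (Subgroup.closure_le _).2 ?_
      rintro _ ⟨P, φ, y, hφ, rfl⟩
      exact S.mul_mem (S.inv_mem ((F.le_of_mem hφ).1 y.2)) ((F.le_of_mem hφ).2 y)
    · obtain ⟨w, hw⟩ := hbij.2 ⟨x, hx⟩
      replace hw : w ^ n = ⟨x, hx⟩ := hw
      obtain ⟨y, hy, hye⟩ := hN3 ⟨w, hall w⟩
      have hy' : (y : Ω) ∈ F.focalSubgroup := by
        refine (Subgroup.closure_le (K := F.focalSubgroup.comap S.subtype)).2 ?_ hy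
        rintro _ ⟨⟨a, z⟩, rfl⟩
        obtain ⟨φ, hφ, hφe⟩ := Fusion.isMor_of_mem_autGroup (le_refl S) a.2
        refine Subgroup.subset_closure ⟨S, φ, z, hφ, ?_⟩
        rw [hφe, Fusion.autFun_coe]
        rfl
      have e : (⟨x, hx⟩ : ↥S) = M w * y⁻¹ := by
        rw [← hw, eq_mul_inv_iff_mul_eq]
        exact hye.symm
      have e' : x = ((M w : ↥S) : Ω) * (y : Ω)⁻¹ := congrArg Subtype.val e
      rw [e']
      exact Subgroup.mul_mem_sup (hMC w) (Subgroup.inv_mem _ hy')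

end Cfsg.Agent.S5330
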