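import Cfsg.Statements.S5331
import Mathlib

set_option autoImplicit false
open Cfsg

namespace Cfsg.Agent.S5331

open Cfsg.FusionSystem

/-- An automorphism of odd order of a product of cyclic 2-groups of distinct orders is trivial. -/
theorem aut_odd_trivial {n : ℕ} {a : Fin n → ℕ} (ha : StrictMono a)
    (α : ((i : Fin n) → ZMod (2 ^ a i)) ≃+ ((i : Fin n) → ZMod (2 ^ a i))) (r : ℕ) (hr : Odd r)
    (hα : ∀ x, α^[r] x = x) : ∀ x, α x = x := by
  classical
  -- the two level induction
  have key : ∀ i : ℕ, ∀ x : (l : Fin n) → ZMod (2 ^ a l), 2 ^ i • x = 0 → α x = x := by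
    intro i
    induction i with
    | zero => intro x hx; rw [pow_zero, one_smul] at hx; rw [hx, map_zero]
    | succ i ih =>
      have inner : ∀ j : ℕ, ∀ x : (l : Fin n) → ZMod (2 ^ a l), 2 ^ (i + 1) • x = 0 →
          (∀ l : Fin n, (l : ℕ) + j < n → 2 ^ i • x l = 0) → α x = x := by
        intro j
        induction j with
        | zero => intro x _ hx; exact ih x (funext fun l => hx l (by simpa using l.2))
        | succ j ihj =>
          intro x hx2 hx
          by_cases hj : j + 1 ≤ n
          swap
          · exact ihj x hx2 (fun l hl => absurd hl (by omega))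
          set k : Fin n := ⟨n - (j + 1), by omega⟩ with hk
          have hlow : ∀ l : Fin n, (l : ℕ) < k → 2 ^ i • x l = 0 := fun l hl => hx l (by
            have : (l : ℕ) < n - (j + 1) := hl
            omega)
          by_cases hxk : 2 ^ i • x k = 0
          · refine ihj x hx2 (fun l hl => ?_)
            rcases lt_or_ge (l : ℕ) k with h | h
            · exact hlow l h
            · rwa [show l = k from Fin.ext (by have : n - (j + 1) ≤ (l : ℕ) := h; simp [hk]; omega)]
          have hik : i + 1 ≤ a k := by
            by_contra h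
            refine hxk ?_
            rw [nsmul_eq_mul, show ((2 ^ i : ℕ) : ZMod (2 ^ a k)) = 0 from (ZMod.natCast_eq_zero_iff _ _).2 (pow_dvd_pow 2 (by omega)), zero_mul]
          set d : ℕ := 2 ^ (a k - (i + 1)) with hd
          set y : (l : Fin n) → ZMod (2 ^ a l) := d • Pi.single k 1 with hy
          have hdi : 2 ^ (i + 1) * d = 2 ^ a k := by rw [hd, ← pow_add]; congr 1; omega
          have hzero : ∀ l : Fin n, (l : ℕ) < k → ∀ v : ZMod (2 ^ a l), 2 ^ i • d • v = 0 := fun l hl v => by
            have : a l + 1 ≤ a k := ha (show l < k from hl)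
            rw [← mul_smul, nsmul_eq_mul, hd, ← pow_add,
              show ((2 ^ (i + (a k - (i + 1))) : ℕ) : ZMod (2 ^ a l)) = 0 from (ZMod.natCast_eq_zero_iff _ _).2 (pow_dvd_pow 2 (by omega)), zero_mul]
          have hy2 : 2 ^ (i + 1) • y = 0 := by
            rw [hy, ← mul_smul, hdi]
            funext l
            rw [Pi.smul_apply]
            rcases eq_or_ne l k with rfl | h
            · rw [nsmul_eq_mul, ZMod.natCast_self, zero_mul]; rfl
            · rw [Pi.single_eq_of_ne h, smul_zero]; rfl
          -- elements of the level are congruent to `0` or to `y`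
          have htwo : ∀ v : ZMod (2 ^ a k), 2 ^ (i + 1) • v = 0 → 2 ^ i • v = 0 ∨ 2 ^ i • v = 2 ^ i • (d : ZMod (2 ^ a k)) := by
            intro v hv
            obtain ⟨u, rfl⟩ : ∃ u : ℕ, (u : ZMod (2 ^ a k)) = v := ⟨v.val, ZMod.natCast_zmod_val v⟩
            rw [nsmul_eq_mul, ← Nat.cast_mul, ZMod.natCast_eq_zero_iff, ← hdi] at hv
            obtain ⟨c, hc⟩ := Nat.dvd_of_mul_dvd_mul_left (by positivity) hv
            have e2 : ∀ e : ℕ, 2 ^ i • ((d * (2 * e) : ℕ) : ZMod (2 ^ a k)) = 0 := fun e => by
              rw [nsmul_eq_mul, ← Nat.cast_mul, ZMod.natCast_eq_zero_iff]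
              exact ⟨e, by rw [← hdi]; ring⟩
            rw [hc]
            rcases Nat.even_or_odd' c with ⟨e, rfl | rfl⟩
            · exact Or.inl (e2 e)
            · refine Or.inr ?_
              rw [Nat.mul_add, mul_one, Nat.cast_add, smul_add, e2, zero_add]
          have hyk : y k = (d : ZMod (2 ^ a k)) := by
            rw [hy, Pi.smul_apply, Pi.single_eq_same, nsmul_eq_mul, mul_one]
          have hdiff : ∀ z : (l : Fin n) → ZMod (2 ^ a l), 2 ^ (i + 1) • z = 0 → (∀ l : Fin n, (l : ℕ) < k → 2 ^ i • z l = 0) →
              2 ^ i • z k ≠ 0 → α (z - y) = z - y := by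
            intro z hz hzl hzk
            refine ihj (z - y) (by rw [smul_sub, hz, hy2, sub_zero]) (fun l hl => ?_)
            rw [Pi.sub_apply, smul_sub]
            rcases lt_or_ge (l : ℕ) k with h | h
            · rw [hzl l h, hy, Pi.smul_apply, hzero l h, sub_zero]
            · rw [show l = k from Fin.ext (by have : n - (j + 1) ≤ (l : ℕ) := h; simp [hk]; omega), hyk]
              have e := congrFun hz k
              rw [Pi.smul_apply] at e
              rw [(htwo _ e).resolve_left hzk, sub_self]
          have hαy : α y = d • α (Pi.single k 1) := by rw [hy, map_nsmul]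
          have hαy2 : 2 ^ (i + 1) • α y = 0 := by rw [← map_nsmul, hy2, map_zero]
          have hαyl : ∀ l : Fin n, (l : ℕ) < k → 2 ^ i • α y l = 0 := fun l hl => by
            rw [hαy, Pi.smul_apply]; exact hzero l hl _
          set h0 := α y - y with hh0
          have hfix : α h0 = h0 := by
            by_cases hak : 2 ^ i • α y k = 0
            · exfalso
              have hfy : α (α y) = α y := by
                refine ihj (α y) hαy2 (fun l hl => ?_)
                rcases lt_or_ge (l : ℕ) k with h | h
                · exact hαyl l h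
                · rwa [show l = k from Fin.ext (by have : n - (j + 1) ≤ (l : ℕ) := h; simp [hk]; omega)]
              rw [α.injective hfy, hyk, nsmul_eq_mul, ← Nat.cast_mul, ZMod.natCast_eq_zero_iff, ← hdi, pow_succ] at hak
              have h5 : 0 < 2 ^ i * d := by rw [hd]; positivity
              have := Nat.le_of_dvd h5 hak
              rw [mul_right_comm] at this
              omega
            · exact hdiff _ hαy2 hαyl hak
          have hit : ∀ t : ℕ, α^[t] y = y + t • h0 := by
            intro t
            induction t with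
            | zero => simp
            | succ t iht =>
              rw [Function.iterate_succ_apply', iht, map_add, map_nsmul α t h0, hfix, hh0, succ_nsmul]
              abel
          have hr0 : r • h0 = 0 := by
            have := hit r
            rw [hα] at this
            simpa using this.symm
          have h20 : 2 ^ (i + 1) • h0 = 0 := by rw [hh0, smul_sub, hαy2, hy2, sub_zero]
          have hh : h0 = 0 := by
            have hd1 := addOrderOf_dvd_of_nsmul_eq_zero hr0
            have hd2 := addOrderOf_dvd_of_nsmul_eq_zero h20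
            exact AddMonoid.addOrderOf_eq_one_iff.1 (Nat.eq_one_of_dvd_coprimes ((Nat.coprime_two_right.2 hr).pow_right (i + 1)) hd1 hd2)
          have hyfix : α y = y := sub_eq_zero.1 hh
          have h1 := hdiff x hx2 hlow hxk
          rw [map_sub, hyfix, sub_left_inj] at h1
          exact h1
      intro x hx
      exact inner n x hx (fun l hl => absurd hl (by omega))
  intro x
  refine key (∑ l, a l) x (funext fun l => ?_)
  rw [Pi.smul_apply, Pi.zero_apply, nsmul_eq_mul, show ((2 ^ (∑ l, a l) : ℕ) : ZMod (2 ^ a l)) = 0 from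
    (ZMod.natCast_eq_zero_iff _ _).2 (pow_dvd_pow 2 (Finset.single_le_sum (fun _ _ => Nat.zero_le _) (Finset.mem_univ l))), zero_mul]


/-- Let S be a finite abelian 2-group that is a direct product of cyclic groups of pairwise distinct orders 2^{a_1} < 2^{a_2} < ⋯ < 2^{a_n} (all a_i ≥ 1). Then every saturated fusion system over S is the inner one: its maps are exactly the conjugations by elements of S. -/
theorem result {Ω : Type*} [Group Ω] {S : Subgroup Ω} [Finite S] (n : ℕ) (a : Fin n → ℕ) (ha : StrictMono a) (ha1 : ∀ i, 1 ≤ a i) (e : ↥S ≃* Multiplicative ((i : Fin n) → ZMod (2 ^ a i))) (F : Cfsg.FusionSystem S) (hF : F.IsSaturated 2) (P : Subgroup Ω) : F.Hom P = (Cfsg.innerFusionSystem S).Hom P := by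
  classical
  have hcomm : ∀ x ∈ S, ∀ y ∈ S, x * y = y * x := fun x hx y hy =>
    congrArg Subtype.val (e.injective (by rw [map_mul, map_mul, mul_comm]) : (⟨x, hx⟩ : S) * ⟨y, hy⟩ = ⟨y, hy⟩ * ⟨x, hx⟩)
  have hcj : ∀ g ∈ S, ∀ x ∈ S, g * x * g⁻¹ = x := fun g hg x hx => by rw [hcomm g hg x hx, mul_inv_cancel_right]
  -- `S` is its only conjugate, so it is fully automized
  have hfa : F.IsFullyAutomized 2 S := by
    obtain ⟨Q, ⟨φ, hφ, hQ⟩, hfa, -⟩ := hF S le_rfl
    have hle : φ.range ≤ S := by rintro _ ⟨x, rfl⟩; exact (F.le_of_mem hφ).2 x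
    have hcard : Nat.card S = Nat.card φ.range :=
      Nat.card_congr (MonoidHom.ofInjective (F.injective_of_mem hφ)).toEquiv
    rwa [← hQ, Subgroup.eq_of_le_of_card_ge hle hcard.le] at hfa
  haveI : Finite (MulAut S) := Finite.of_injective (fun f : MulAut S => (f : S → S)) DFunLike.coe_injective
  haveI : Fact (Nat.Prime 2) := ⟨Nat.prime_two⟩
  obtain ⟨-, R, hR⟩ := hfa
  have hind : autInducedBy S S = ⊥ := by
    refine (Subgroup.closure_eq_bot_iff).2 fun α ⟨g, hg, hα⟩ => ?_
    exact MulEquiv.ext fun x => Subtype.ext ((hα x).trans (hcj g hg x x.2))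
  have hodd : ¬ 2 ∣ Nat.card (F.autGroup S) := by
    have h1 := R.not_dvd_index
    rwa [hR, hind, Subgroup.bot_subgroupOf, Subgroup.index_bot] at h1
  have hId : ∀ φ ∈ F.Hom S, ∀ x : S, φ x = (x : Ω) := by
    intro φ hφ x
    let f : S →* S := φ.codRestrict S (F.le_of_mem hφ).2
    have hf : Function.Bijective f := by
      refine Finite.injective_iff_bijective.1 fun u v huv => F.injective_of_mem hφ ?_
      exact congrArg Subtype.val huv
    let α : MulAut S := MulEquiv.ofBijective f hf
    have hα : α ∈ F.autGroup S := Subgroup.subset_closure (show S.subtype.comp α.toMonoidHom ∈ F.Hom S by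
      have : S.subtype.comp α.toMonoidHom = φ := by ext u; rfl
      rwa [this])
    set r := orderOf α with hr
    have hrodd : Odd r := by
      rw [hr, Nat.odd_iff]
      by_contra h
      refine hodd (dvd_trans (Nat.dvd_of_mod_eq_zero (show orderOf α % 2 = 0 by omega)) ?_)
      rw [← Subgroup.orderOf_mk α hα]
      exact orderOf_dvd_natCard _
    let β : ((i : Fin n) → ZMod (2 ^ a i)) ≃+ ((i : Fin n) → ZMod (2 ^ a i)) :=
      { toFun := fun v => Multiplicative.toAdd (e (α (e.symm (Multiplicative.ofAdd v))))
        invFun := fun v => Multiplicative.toAdd (e (α.symm (e.symm (Multiplicative.ofAdd v))))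
        left_inv := fun v => by simp
        right_inv := fun v => by simp
        map_add' := fun u v => by simp [ofAdd_add] }
    have hpow : ∀ (t : ℕ) (v : (i : Fin n) → ZMod (2 ^ a i)),
        β^[t] v = Multiplicative.toAdd (e ((α ^ t) (e.symm (Multiplicative.ofAdd v)))) := by
      intro t
      induction t with
      | zero => intro v; simp
      | succ t ih =>
        intro v
        rw [Function.iterate_succ_apply', ih, pow_succ' α, MulAut.mul_apply]
        show Multiplicative.toAdd (e (α (e.symm (Multiplicative.ofAdd (Multiplicative.toAdd _))))) = _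
        rw [ofAdd_toAdd, MulEquiv.symm_apply_apply]
    have hfix := aut_odd_trivial ha β r hrodd (fun v => by rw [hpow, hr, pow_orderOf_eq_one]; simp)
      (Multiplicative.toAdd (e x))
    have hfix' : Multiplicative.toAdd (e (α (e.symm (Multiplicative.ofAdd (Multiplicative.toAdd (e x)))))) =
        Multiplicative.toAdd (e x) := hfix
    rw [ofAdd_toAdd, MulEquiv.symm_apply_apply] at hfix'
    exact congrArg Subtype.val (e.injective (Multiplicative.toAdd.injective hfix'))
  -- maps onto a receptive subgroup are inclusions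
  have hrec : ∀ (P Q : Subgroup Ω) (φ : P →* Ω), F.IsReceptive Q → φ ∈ F.Hom P → φ.range = Q → ∀ x : P, φ x = x := by
    intro P Q φ hQ hφ hr x
    obtain ⟨ψ, hψ, hext⟩ := hQ.2 P φ hφ hr
    have hPS := (F.le_of_mem hφ).1
    have hN : extender S P φ = S := by
      refine le_antisymm ((Subgroup.closure_le S).2 fun g hg => hg.1) fun g hg => Subgroup.subset_closure ⟨hg, ?_, 1, S.one_mem, fun y hy => ?_⟩
      · refine Subgroup.mem_normalizer_iff.2 fun y => ⟨fun hy => ?_, fun hy => ?_⟩
        · rwa [hcj g hg y (hPS hy)]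
        · have hy' : g * y * g⁻¹ ∈ P := hy
          have h1 : y = g * y * g⁻¹ := by
            have h2 := hcj g⁻¹ (S.inv_mem hg) _ (hPS hy')
            simpa [mul_assoc] using h2
          show y ∈ P
          rw [h1]; exact hy'
      · rw [one_mul, inv_one, mul_one]
        congr 1
        exact Subtype.ext (hcj g hg y (hPS y.2))
    revert hψ hext ψ
    rw [hN]
    intro ψ hψ hext
    rw [← hext x x.2 (hPS x.2)]
    exact hId ψ hψ ⟨x, hPS x.2⟩
  have hall : ∀ (P : Subgroup Ω) (φ : P →* Ω), φ ∈ F.Hom P → ∀ x : P, φ x = x := by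
    intro P φ hφ x
    have hle : φ.range ≤ S := by rintro _ ⟨y, rfl⟩; exact (F.le_of_mem hφ).2 y
    obtain ⟨Q, ⟨χ, hχ, hQ⟩, -, hQr⟩ := hF φ.range hle
    have h1 : ∀ y : φ.range, χ y = y := hrec φ.range Q χ hQr hχ hQ
    have hcomp := F.comp_mem hφ hχ (fun y => ⟨y, rfl⟩)
    have h2 := hrec P Q _ hQr hcomp (by
      ext y
      rw [← hQ]
      constructor
      · rintro ⟨u, rfl⟩; exact ⟨_, rfl⟩
      · rintro ⟨⟨_, u, rfl⟩, rfl⟩; exact ⟨u, rfl⟩) x
    rw [← h2]
    exact (h1 ⟨φ x, x, rfl⟩).symm
  ext φ
  constructor
  · intro hφ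
    exact ⟨(F.le_of_mem hφ).1, 1, S.one_mem, fun x => by rw [hall P φ hφ x]; simp⟩
  · rintro ⟨hP, g, hg, hx⟩
    have : φ = conjHom P g := MonoidHom.ext fun x => hx x
    rw [this]
    exact F.conj_mem hP hg


end Cfsg.Agent.S5331
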