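import Cfsg.Statements.S5333
import Cfsg.Agent.Lib.Fusion.NormalCriteria
import Cfsg.Agent.Lib.Fusion.NormalizerSystem
-- import your own Cfsg.Agent.* helpers here

set_option autoImplicit false
open Cfsg

namespace Cfsg.Agent.S5333

/-- Let F′ ≤ F be saturated fusion systems over the same finite p-group S. Suppose that for every subgroup Z ≤ S of order p that is fully centralized in F′, the maps of F and of F′ with source Z coincide and the centralizer systems C_F(Z) and C_{F′}(Z) coincide. Then F = F′. -/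
theorem result {Ω : Type*} [Group Ω] {S : Subgroup Ω} [Finite S] (p : ℕ) [Fact p.Prime] (hS : IsPGroup p S) (F : Cfsg.FusionSystem S) (hF : F.IsSaturated p) (F' : Cfsg.FusionSystem S) (hF' : F'.IsSaturated p) (hle : F' ≤ F) (hZ : ∀ Z : Subgroup Ω, Z ≤ S → Nat.card Z = p → F'.IsFullyCentralized Z → F.Hom Z = F'.Hom Z ∧ ∀ (C C' : Cfsg.FusionSystem (Cfsg.FusionSystem.centralizerIn S Z)), F.IsCentralizerSystem Z C → F'.IsCentralizerSystem Z C' → ∀ P : Subgroup Ω, C.Hom P = C'.Hom P) (P : Subgroup Ω) : F.Hom P = F'.Hom P := by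
  suffices hmain : F ≤ F' from Set.Subset.antisymm (hmain P) (hle P)
  clear P
  refine Fusion.le_of_essential hS hF fun P hP α hα => ?_
  have hPS : P ≤ S := hP.elim le_of_eq fun h => h.1.1
  by_cases hS1 : S = ⊥
  · have h1 : α = 1 := MulEquiv.ext fun x => Subtype.ext (by
      rw [Subgroup.mem_bot.1 (hS1.le (hPS (α x).2)), Subgroup.mem_bot.1 (hS1.le (hPS ((1 : MulAut P) x).2))])
    rw [h1]; exact one_mem _
  have : Nontrivial ↥S := (Subgroup.nontrivial_iff_ne_bot S).2 hS1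
  have : Nontrivial ↥(Subgroup.center ↥S) := hS.center_nontrivial
  have hcd : p ∣ Nat.card ↥(Subgroup.center ↥S) := by
    obtain ⟨k, hk⟩ := IsPGroup.iff_card.1 (hS.to_subgroup (Subgroup.center ↥S))
    rcases Nat.eq_zero_or_pos k with h0 | h0
    · rw [h0, pow_zero] at hk
      exact absurd hk (Finite.one_lt_card).ne'
    · rw [hk]; exact dvd_pow_self p h0.ne'
  obtain ⟨z, hz⟩ := exists_prime_orderOf_dvd_card' p hcd
  rw [← Subgroup.orderOf_coe, ← Subgroup.orderOf_coe] at hz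
  set w : Ω := ((z : ↥S) : Ω) with hw
  have hwS : w ∈ S := (z : ↥S).2
  have hwc : ∀ a ∈ S, a * w = w * a := fun a ha =>
    congrArg Subtype.val (Subgroup.mem_center_iff.1 z.2 ⟨a, ha⟩)
  set Z := Subgroup.zpowers w
  have hZS : Z ≤ S := Subgroup.zpowers_le.2 hwS
  have hZC : Z ≤ Subgroup.centralizer (S : Set Ω) :=
    Subgroup.zpowers_le.2 (Subgroup.mem_centralizer_iff.2 hwc)
  have hCZ : S ≤ Cfsg.FusionSystem.centralizerIn S Z := fun a ha => Fusion.mem_centralizerIn.2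
    ⟨ha, fun y hy => (Subgroup.mem_centralizer_iff.1 (hZC hy) a ha).symm⟩
  have : Finite ↥(Cfsg.FusionSystem.centralizerIn S Z) := Fusion.finite_of_le Fusion.centralizerIn_le
  have hfc : F'.IsFullyCentralized Z := ⟨hZS, fun R _ =>
    Nat.card_le_card_of_injective (Subgroup.inclusion (Fusion.centralizerIn_le.trans hCZ))
      (Subgroup.inclusion_injective _)⟩
  have hZP : Z ≤ P := by
    rcases hP with rfl | hP
    · exact hZS
    · exact fun y hy => Fusion.centralizerIn_le_of_isCentric hP.1 (Fusion.mem_centralizerIn.2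
        ⟨hZS hy, fun u hu => Subgroup.mem_centralizer_iff.1 (hZC hy) u (hPS hu)⟩)
  obtain ⟨hHom, hCC⟩ := hZ Z hZS (by rw [Nat.card_zpowers]; exact hz) hfc
  set f := Fusion.autFun α
  have hf := Fusion.isMor_of_mem_autGroup hPS hα
  obtain ⟨φ, hφ, he⟩ := hf.restrict hZP
  have hf' : Fusion.IsMor F' Z f := ⟨φ, hHom ▸ hφ, he⟩
  obtain ⟨g, hg, hgf, hfg⟩ := hf'.isIso.exists_symm
  obtain ⟨g', hg', hg'e⟩ := Fusion.exists_extension_centralizer
    (Fusion.fullyCentralized_receptive hS hF' hfc) hg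
  have hPD : P ≤ hf'.image Z le_rfl ⊔ Cfsg.FusionSystem.centralizerIn S (hf'.image Z le_rfl) := by
    intro y hy
    refine Subgroup.mem_sup_right (Fusion.mem_centralizerIn.2 ⟨hPS hy, ?_⟩)
    rintro _ ⟨u, hu, rfl⟩
    obtain ⟨y', hy', rfl⟩ := (hf.isIso_self fun v hv => Fusion.autFun_mem α hv).exists_apply hy
    rw [← hf.map_mul hy' (hZP hu), ← hf.map_mul (hZP hu) hy',
      (Subgroup.mem_centralizer_iff.1 (hZC hu) y' (hPS hy'))]
  have hh : Fusion.IsMor F P (g' ∘ f) :=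
    hf.comp ((hg'.mono_sys hle).restrict hPD) fun x hx => Fusion.autFun_mem α hx
  have hhfix : ∀ x ∈ Z, (g' ∘ f) x = x := fun x hx => by
    show g' (f x) = x
    rw [hg'e _ ⟨x, hx, rfl⟩, hgf x hx]
  obtain ⟨ψ, hψ, hψe⟩ := hh
  obtain ⟨C, hC⟩ := Fusion.exists_centralizerSystem F hZS
  obtain ⟨C', hC'⟩ := Fusion.exists_centralizerSystem F' hZS
  have hmemC : ψ ∈ F.centralizerHom Z P := by
    obtain ⟨ψ', hψ', hψ'e⟩ := (Fusion.isMor_extFun hψ).restrict (le_of_eq (sup_eq_left.2 hZP) : P ⊔ Z ≤ P)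
    refine ⟨hψ, hPS.trans hCZ, fun x => hCZ ((F.le_of_mem hψ).2 x), ψ', hψ', fun x => ?_, fun x => ?_⟩
    · rw [hψ'e]; exact Fusion.extFun_coe ψ x
    · rw [hψ'e]
      show Fusion.extFun ψ (x : Ω) = x
      rw [Fusion.extFun_apply ψ (hZP x.2), hψe]
      exact hhfix x x.2
  rw [← hC P, hCC C C' hC hC' P, hC' P] at hmemC
  have hh' : Fusion.IsMor F' P (g' ∘ f) := ⟨ψ, hmemC.1, hψe⟩
  obtain ⟨gi, hgi, hgil, -⟩ := (hg'.restrict hPD).isIso.exists_symm
  refine Fusion.mem_autGroup_of_isMor (hh'.comp hgi.1 fun x hx => ⟨f x, Fusion.autFun_mem α hx, rfl⟩) fun x => ?_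
  show _ = gi (g' (f x))
  rw [hgil _ (Fusion.autFun_mem α x.2)]
  exact (Fusion.autFun_coe α x).symm

end Cfsg.Agent.S5333
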