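import Cfsg.Statements.S5336
import Cfsg.Agent.Lib.Fusion.NormalGroupSubsystem
import Cfsg.Agent.Lib.Solv.Basic

set_option autoImplicit false
open Cfsg

namespace Cfsg.Agent.S5336

/-- Let G be a finite group with Sylow p-subgroup S whose fusion system F_S(G) is simple. If G has no nontrivial normal subgroup of order prime to p and no proper subgroup H containing S induces the same fusion system on S as G does, then G is a simple group. -/
theorem result {G : Type*} [Group G] [Finite G] (p : ℕ) [Fact p.Prime] (S : Sylow p G) (hsimple : (Cfsg.groupFusionSystem (S : Subgroup G)).IsSimple p) (hcore : Cfsg.pPrimeCore p G = ⊥) (hmin : ∀ (H : Subgroup G) (hSH : (S : Subgroup G) ≤ H), H ≠ ⊤ → ∃ P : Subgroup G, (Cfsg.fusionSystemOfSubgroup H (S : Subgroup G) hSH).Hom P ≠ (Cfsg.groupFusionSystem (S : Subgroup G)).Hom P) : IsSimpleGroup G :=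
  by
  obtain ⟨hsat, hS1, hsimp⟩ := hsimple
  have : Nontrivial G := by
    by_contra hnt
    rw [not_nontrivial_iff_subsingleton] at hnt
    exact hS1 (Subgroup.eq_bot_of_subsingleton _)
  refine ⟨fun N hN => ?_⟩
  rcases hsimp _ _ (Fusion.isNormalIn_normal_subsystem S N) with hT | ⟨hT, hE⟩
  · left
    have hcop : (Nat.card N).Coprime p := by
      rw [Nat.coprime_comm, (Fact.out : p.Prime).coprime_iff_not_dvd]
      intro hdvd
      obtain ⟨x, hx⟩ := exists_prime_orderOf_dvd_card' (G := ↥N) p hdvd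
      rw [← Subgroup.orderOf_coe] at hx
      have hp' : IsPGroup p (Subgroup.zpowers (x : G)) :=
        IsPGroup.of_card (n := 1) (by rw [Nat.card_zpowers, hx, pow_one])
      obtain ⟨g, hg⟩ := Fusion.exists_conj_le_sylow S hp'
      have hm : g * (x : G) * g⁻¹ ∈ (S : Subgroup G) ⊓ N :=
        ⟨hg ⟨(x : G), Subgroup.mem_zpowers _, rfl⟩, hN.conj_mem _ x.2 g⟩
      rw [hT, Subgroup.mem_bot, conj_eq_one_iff] at hm
      rw [hm, orderOf_one] at hx
      exact (Fact.out : p.Prime).ne_one hx.symm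
    have hle : N ≤ Cfsg.pPrimeCore p G := le_sSup ⟨hN, hcop⟩
    rwa [hcore, le_bot_iff] at hle
  · right
    by_contra hne
    have hSN : (S : Subgroup G) ≤ N := inf_eq_left.1 hT
    obtain ⟨P, hP⟩ := hmin N hSN hne
    refine hP ?_
    rw [← hE P]
    ext φ
    constructor
    · rintro ⟨h1, h2, h3⟩
      exact ⟨h1.trans hT.ge, fun x => hT.ge (h2 x), h3⟩
    · rintro ⟨h1, h2, h3⟩
      exact ⟨h1.trans hT.le, fun x => hT.le (h2 x), h3⟩

end Cfsg.Agent.S5336
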