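import Cfsg.Statements.S5342
import Cfsg.Agent.Lib.Fusion.NormalCriteria
import Cfsg.Agent.Lib.Fusion.Weakly
-- import your own Cfsg.Agent.* helpers here

set_option autoImplicit false
open Cfsg

namespace Cfsg.Agent.S5342

/-- Let F be a constrained saturated fusion system over a finite p-group S. Then every subsystem of F that is subnormal in F (reached from F by a finite chain of successive normal subsystems) is constrained. -/
theorem result {Ω : Type*} [Group Ω] {S : Subgroup Ω} [Finite S] (p : ℕ) [Fact p.Prime] (hS : IsPGroup p S) (F : Cfsg.FusionSystem S) (hF : F.IsConstrained p) {T : Subgroup Ω} (E : Cfsg.FusionSystem T) (hE : E.IsSubnormalIn F p) : E.IsConstrained p := by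
  have hfin : Finite ↥S := inferInstance
  have hpr : Fact p.Prime := inferInstance
  induction hE with
  | refl F p => exact hF
  | step h1 h2 ih =>
    rename_i U S E D F p
    have hUS : U ≤ S := h2.1.2.2.2.1.1
    have := Fusion.finite_of_le (S := S) hUS
    refine ih (hS.to_le hUS) ?_ inferInstance hpr
    obtain ⟨⟨hDs, -, hinv⟩, -⟩ := h2
    have hUsc := hinv.2.1
    obtain ⟨hFs, Q₀, hQ₀n, hQ₀c⟩ := hF
    set Q := F.core with hQdef
    have hQn : F.IsNormal Q := Fusion.isNormal_core F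
    have hQc : F.IsCentric Q := Fusion.isCentric_of_ge hQ₀c (le_sSup hQ₀n) hQn.1
    have hQC := Fusion.centralizerIn_le_of_isCentric hQc
    have hSQ := Fusion.normal_le_normalizer hQn
    have hSU := Fusion.le_normalizer_of_stronglyClosed hUsc
    have hQU : F.IsNormal (Q ⊓ U) := by
      refine (Fusion.isNormal_iff_extAut hS hFs (inf_le_left.trans hQn.1)).2 fun P f hP hf => ?_
      obtain ⟨α, hα, he⟩ := Fusion.extAut_of_isNormal hQn hf (hP.trans inf_le_left)
      have hm := Fusion.isMor_of_mem_autGroup hQn.1 hα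
      have hi := (hm.restrict (inf_le_left : Q ⊓ U ≤ Q)).isIso_self fun x hx =>
        ⟨Fusion.autFun_mem α hx.1, Fusion.stronglyClosed_apply hUsc hm hx.1 hx.2⟩
      refine ⟨Fusion.autOf hi, Fusion.autOf_mem hi, fun x hx => ?_⟩
      rw [Fusion.autFun_apply _ (hP hx), Fusion.autOf_apply]
      exact he x hx
    -- `Q ⊓ U` is normal in `D`
    have hQUD : D.IsNormal (Q ⊓ U) := by
      obtain ⟨n, C, h0, hn, hm, hc, hC⟩ := Fusion.exists_central_series (p := p) hS (inf_le_left.trans hQn.1 : Q ⊓ U ≤ S)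
      refine Fusion.isNormal_of_series (hS.to_le hUS) hDs ?_ C h0 hn hm hc fun i => ?_
      · exact Fusion.stronglyClosed_of_apply_mem inf_le_right fun R f hR hf x hx =>
          Fusion.stronglyClosed_apply (Fusion.normal_stronglyClosed hQU) (Fusion.isMor_of_subsystem hinv.1 hf) hx (hR hx)
      · have hw := Fusion.weaklyClosed_of_extAut (inf_le_left.trans hQn.1 : Q ⊓ U ≤ S)
          (fun P f hP hf => Fusion.extAut_of_isNormal hQU hf hP) (hC i.castSucc).1 (hC i.castSucc).2
        exact ⟨(hC i.castSucc).1.trans inf_le_right, fun φ hφ => hw.2 φ (hinv.1 _ hφ)⟩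
    refine ⟨hDs, D.core, Fusion.isNormal_core D, (Fusion.isNormal_core D).1, fun R' hR' => ?_⟩
    have hRR : R' = D.core := by
      obtain ⟨φ, hφ, rfl⟩ := hR'
      exact (Fusion.weaklyClosed_of_stronglyClosed (Fusion.normal_stronglyClosed (Fusion.isNormal_core D))).2 φ hφ
    rw [hRR]
    -- the centralizer of `Q ⊓ U` in `U` is normal in `F`
    let Y : Subgroup Ω := U ⊓ Subgroup.centralizer ((Q ⊓ U : Subgroup Ω) : Set Ω)
    have hYS : Y ≤ S := inf_le_left.trans hUS
    have hYsc : F.StronglyClosed Y := by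
      refine Fusion.stronglyClosed_of_apply_mem hYS fun R f hR hf x hx => ⟨Fusion.stronglyClosed_apply hUsc hf hx (hR hx).1, ?_⟩
      obtain ⟨k, hk, hke, hkQ⟩ := (Fusion.isNormal_iff.1 hQU).2 R f hf
      refine Subgroup.mem_centralizer_iff.2 fun u hu => ?_
      obtain ⟨u', hu', rfl⟩ := hkQ.exists_apply hu
      rw [← hke x hx, ← hk.map_mul (Subgroup.mem_sup_right hu') (Subgroup.mem_sup_left hx),
        ← hk.map_mul (Subgroup.mem_sup_left hx) (Subgroup.mem_sup_right hu'),
        Subgroup.mem_centralizer_iff.1 (hR hx).2 u' hu']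
    have hdisp : ∀ y ∈ Y, ∀ q ∈ Q, q⁻¹ * (y * q * y⁻¹) ∈ Q ⊓ U := fun y hy q hq =>
      ⟨Q.mul_mem (Q.inv_mem hq) (Fusion.conj_mem_of_mem_normalizer (hSQ (hYS hy)) hq), by
        have hq' := Fusion.conj_mem_of_mem_normalizer (hSU (S.inv_mem (hQn.1 hq))) hy.1
        have := U.mul_mem hq' (U.inv_mem hy.1)
        simpa [mul_assoc] using this⟩
    have hYY : ∀ y ∈ Y, ∀ y' ∈ Y, y * y' * y⁻¹ * y'⁻¹ ∈ Q := by
      intro y hy y' hy'
      refine hQC (Fusion.mem_centralizerIn.2
        ⟨S.mul_mem (S.mul_mem (S.mul_mem (hYS hy) (hYS hy')) (S.inv_mem (hYS hy))) (S.inv_mem (hYS hy')), fun q hq => ?_⟩)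
      have hfix : ∀ w ∈ Y, ∀ u ∈ Q ⊓ U, w * u * w⁻¹ = u := fun w hw u hu => by
        rw [← Subgroup.mem_centralizer_iff.1 hw.2 u hu, mul_inv_cancel_right]
      have hcentral : ∀ w ∈ Y, ∀ r ∈ Q, ∀ u ∈ Q ⊓ U, (r⁻¹ * (w * r * w⁻¹)) * u = u * (r⁻¹ * (w * r * w⁻¹)) := by
        intro w hw r hr u hu
        have hv : r * u * r⁻¹ ∈ Q ⊓ U := ⟨Q.mul_mem (Q.mul_mem hr hu.1) (Q.inv_mem hr),
          Fusion.conj_mem_of_mem_normalizer (hSU (hQn.1 hr)) hu.2⟩
        have h3 := hfix w hw _ hv
        have h4 : (w * r * w⁻¹) * (w * u * w⁻¹) * (w * r * w⁻¹)⁻¹ = r * u * r⁻¹ := by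
          rw [show (w * r * w⁻¹) * (w * u * w⁻¹) * (w * r * w⁻¹)⁻¹ = w * (r * u * r⁻¹) * w⁻¹ by group, h3]
        rw [hfix w hw u hu] at h4
        calc r⁻¹ * (w * r * w⁻¹) * u = r⁻¹ * ((w * r * w⁻¹) * u * (w * r * w⁻¹)⁻¹) * (w * r * w⁻¹) := by group
          _ = u * (r⁻¹ * (w * r * w⁻¹)) := by rw [h4]; group
      set t := q⁻¹ * (y * q * y⁻¹) with ht
      set t' := q⁻¹ * (y' * q * y'⁻¹) with ht'
      have e1 : y * (y' * q * y'⁻¹) * y⁻¹ = q * (t * t') := by
        rw [show y * (y' * q * y'⁻¹) * y⁻¹ = (y * q * y⁻¹) * (y * t' * y⁻¹) by rw [ht']; group,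
          hfix y hy t' (hdisp y' hy' q hq), ht]
        group
      have e2 : y' * (y * q * y⁻¹) * y'⁻¹ = q * (t' * t) := by
        rw [show y' * (y * q * y⁻¹) * y'⁻¹ = (y' * q * y'⁻¹) * (y' * t * y'⁻¹) by rw [ht]; group,
          hfix y' hy' t (hdisp y hy q hq), ht']
        group
      have e3 : y * (y' * q * y'⁻¹) * y⁻¹ = y' * (y * q * y⁻¹) * y'⁻¹ := by
        rw [e1, e2, hcentral y hy q hq t' (hdisp y' hy' q hq)]
      set c := y * y' * y⁻¹ * y'⁻¹ with hcdef
      have e4 : c * (y' * (y * q * y⁻¹) * y'⁻¹) * c⁻¹ = y' * (y * q * y⁻¹) * y'⁻¹ := by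
        conv_rhs => rw [← e3]
        rw [hcdef]; group
      rw [e2] at e4
      have hc' : c ∈ Subgroup.centralizer ((Q ⊓ U : Subgroup Ω) : Set Ω) :=
        mul_mem (mul_mem (mul_mem hy.2 hy'.2) (inv_mem hy.2)) (inv_mem hy'.2)
      have htt : c * (t' * t) = (t' * t) * c :=
        (Subgroup.mem_centralizer_iff.1 hc' _ (mul_mem (hdisp y' hy' q hq) (hdisp y hy q hq))).symm
      have e5 : (c * q * c⁻¹) * (t' * t) = q * (t' * t) := by
        calc (c * q * c⁻¹) * (t' * t) = (c * q * c⁻¹) * ((t' * t) * c) * c⁻¹ := by group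
          _ = (c * q * c⁻¹) * (c * (t' * t)) * c⁻¹ := by rw [htt]
          _ = c * (q * (t' * t)) * c⁻¹ := by group
          _ = q * (t' * t) := e4
      exact (mul_inv_eq_iff_eq_mul.1 (mul_right_cancel e5)).symm
    have hYQ : Y ≤ Q := by
      refine le_sSup (Fusion.isNormal_of_centric_radical hS hFs hYsc fun P hP hPr => ?_)
      have hQP := Fusion.normal_le_radical hS hQn hP hPr
      set K3 := (Y ⊓ P) ⊔ Q
      have hK3P : K3 ≤ P := sup_le inf_le_right hQP
      refine Fusion.le_of_radical_of_stabilizes hS hP hPr hYS (Fusion.le_normalizer_of_stronglyClosed hYsc) (m := 4)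
        (fun i => if i = 0 then ⊥ else if i = 1 then Q ⊓ U else if i = 2 then Q else if i = 3 then K3 else P)
        rfl rfl ?_ ?_ ?_ ?_
      · intro i hi
        rcases i with _ | _ | _ | _ | i
        · simp
        · simpa using inf_le_left.trans hQP
        · simpa using hQP
        · simpa using hK3P
        · simp
      · intro i hi
        rcases i with _ | _ | _ | _ | i
        · simp
        · simp
        · simp [K3]
        · simpa using hK3P
        · omega
      · intro i hi α hα x hx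
        have hm := Fusion.isMor_of_mem_autGroup hP.1 hα
        rcases i with _ | _ | _ | _ | i
        · have hx' : x = 1 := by simpa using hx
          simp [hx', hm.map_one]
        · have hx' : x ∈ Q ⊓ U := by simpa using hx
          simpa using Fusion.stronglyClosed_apply (Fusion.normal_stronglyClosed hQU) hm (hQP hx'.1) hx'
        · have hx' : x ∈ Q := by simpa using hx
          simpa using Fusion.stronglyClosed_apply (Fusion.normal_stronglyClosed hQn) hm (hQP hx') hx'
        · have hx' : x ∈ K3 := by simpa using hx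
          have hk3 : ∀ z ∈ K3, Fusion.autFun α z ∈ K3 := fun z hz =>
            (hm.restrict (hK3P : (Y ⊓ P) ⊔ Q ≤ P)).mapsTo_sup (R := (Y ⊓ P) ⊔ Q)
              (fun w hw => Subgroup.mem_sup_left ⟨Fusion.stronglyClosed_apply hYsc hm hw.2 hw.1, Fusion.autFun_mem α hw.2⟩)
              (fun w hw => Subgroup.mem_sup_right
                (Fusion.stronglyClosed_apply (Fusion.normal_stronglyClosed hQn) hm (hQP hw) hw)) hz
          simpa using hk3 x hx'
        · simpa using Fusion.autFun_mem α (by simpa using hx : x ∈ P)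
      · intro i hi a ha han x hx
        rcases i with _ | _ | _ | _ | i
        · have hx' : x ∈ Q ⊓ U := by simpa using hx
          simp [← Subgroup.mem_centralizer_iff.1 ha.2 x hx']
        · have hx' : x ∈ Q := by simpa using hx
          simpa using hdisp a ha x hx'
        · have hx' : x ∈ K3 := by simpa using hx
          have hn : Y ⊓ P ≤ Subgroup.normalizer (Q : Set Ω) := fun w hw => hSQ (hYS hw.1)
          rw [← SetLike.mem_coe, Subgroup.coe_mul_of_left_le_normalizer_right _ _ hn] at hx'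
          obtain ⟨u, hu, q, hq, rfl⟩ := hx'
          have e : (u * q)⁻¹ * (a * (u * q) * a⁻¹) = q⁻¹ * (u⁻¹ * a * u⁻¹⁻¹ * a⁻¹) * (a * q * a⁻¹) := by group
          simp only [Nat.succ_ne_zero, if_false, if_true, Nat.reduceEqDiff]
          rw [e]
          exact Q.mul_mem (Q.mul_mem (Q.inv_mem hq) (hYY _ (Y.inv_mem hu.1) _ ha))
            (Fusion.conj_mem_of_mem_normalizer (hSQ (hYS ha)) hq)
        · have hx' : x ∈ P := by simpa using hx
          simp only [Nat.succ_ne_zero, if_false, if_true, Nat.reduceEqDiff]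
          refine Subgroup.mem_sup_left ⟨?_, P.mul_mem (P.inv_mem hx') (Fusion.conj_mem_of_mem_normalizer han hx')⟩
          have hYn := Fusion.le_normalizer_of_stronglyClosed hYsc
          have := Y.mul_mem (Fusion.conj_mem_of_mem_normalizer (hYn (S.inv_mem (hP.1 hx'))) ha) (Y.inv_mem ha)
          simpa [mul_assoc] using this
        · omega
    intro x hx
    have hxc := Fusion.mem_centralizerIn.1 hx
    have hxY : x ∈ Y := ⟨hxc.1, Subgroup.mem_centralizer_iff.2 fun u hu =>
      hxc.2 u ((le_sSup hQUD : Q ⊓ U ≤ D.core) hu)⟩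
    exact (le_sSup hQUD : Q ⊓ U ≤ D.core) ⟨hYQ hxY, hxY.1⟩

end Cfsg.Agent.S5342
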