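import Cfsg.Statements.S5344
import Cfsg.Agent.Lib.Solv.SymFour
-- import your own Cfsg.Agent.* helpers here

set_option autoImplicit false
open Cfsg
open scoped commutatorElement

namespace Cfsg.Agent.S5344

/-- In a set of 3-transpositions, let a, b, c be members with a and c different and commuting, while neither a nor c commutes with b (a 3-string). Then there is an injective homomorphism from the symmetric group of degree 4 into the ambient group sending the transpositions (0 1), (1 2), (2 3) to a, b, c; so a, b, c generate a copy of the symmetric group of degree 4 in which they are transpositions. -/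
theorem result {G : Type*} [Group G] {D : Set G} (hD : Cfsg.IsThreeTranspositionSet D) {a b c : G} (ha : a ∈ D) (hb : b ∈ D) (hc : c ∈ D) (hac : a ≠ c) (hac' : Commute a c) (hab : ¬ Commute a b) (hbc : ¬ Commute b c) : ∃ φ : Equiv.Perm (Fin 4) →* G, Function.Injective φ ∧ φ (Equiv.swap 0 1) = a ∧ φ (Equiv.swap 1 2) = b ∧ φ (Equiv.swap 2 3) = c := by
  
  have h1 : ∀ {x : G}, x ∈ D → x * x = 1 := fun {x} hx => by
    have := pow_orderOf_eq_one x; rwa [hD.1 x hx, pow_two] at this
  have hbr : ∀ {x y : G}, x ∈ D → y ∈ D → ¬ Commute x y → x * y * x = y * x * y := fun {x y} hx hy hn => by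
    have hxi : x⁻¹ = x := inv_eq_of_mul_eq_one_right (h1 hx)
    have hyi : y⁻¹ = y := inv_eq_of_mul_eq_one_right (h1 hy)
    rcases hD.2 x hx y hy with e | e
    · refine absurd ?_ hn
      rw [pow_two] at e
      have := inv_eq_of_mul_eq_one_right e
      rw [mul_inv_rev, hxi, hyi] at this
      exact this.symm
    · rw [pow_succ, pow_two] at e
      calc x * y * x = (x * y * (x * y) * (x * y)) * (y⁻¹ * x⁻¹ * y⁻¹) := by group
        _ = y * x * y := by rw [e, one_mul, hxi, hyi]
  refine ⟨Cfsg.Agent.Solv.SymFour.hom a b c (h1 ha) (h1 hb) (h1 hc) hac'.symm.eq (hbr ha hb hab).symm (hbr hb hc hbc).symm,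
    Cfsg.Agent.Solv.SymFour.hom_injective a b c _ _ _ _ _ _ hac, ?_, ?_, ?_⟩
  · exact Cfsg.Agent.Solv.SymFour.hom_gen a b c _ _ _ _ _ _ 0
  · exact Cfsg.Agent.Solv.SymFour.hom_gen a b c _ _ _ _ _ _ 1
  · exact Cfsg.Agent.Solv.SymFour.hom_gen a b c _ _ _ _ _ _ 2

end Cfsg.Agent.S5344
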