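import Cfsg.Statements.S5345
import Cfsg.Agent.Lib.Solv.ThreeTrans
-- import your own Cfsg.Agent.* helpers here

set_option autoImplicit false
open Cfsg

namespace Cfsg.Agent.S5345

/-- Let D be a conjugation-invariant generating set of 3-transpositions of a finite group G and T a Sylow 2-subgroup of G. Then the members of D lying in T generate an abelian subgroup, and their number is the width of D (the largest number of pairwise commuting members of D). -/
theorem result {G : Type*} [Group G] [Finite G] {D : Set G} (hD : Cfsg.IsThreeTranspositionGroup D) (T : Sylow 2 G) : IsMulCommutative (Subgroup.closure {d : G | d ∈ D ∧ d ∈ T}) ∧ {d : G | d ∈ D ∧ d ∈ T}.ncard = Cfsg.commutingWidth D := by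
  
  obtain ⟨hD1, hD2, hD3⟩ := hD
  have h : Cfsg.Agent.Solv.ThreeTrans.TT D := ⟨hD1, hD2⟩
  haveI : Fact (Nat.Prime 2) := ⟨Nat.prime_two⟩
  have hcom : ∀ U : Subgroup G, IsPGroup 2 U → ∀ a ∈ D, a ∈ U → ∀ b ∈ D, b ∈ U → Commute a b :=
    fun U hU a ha haU b hb hbU => h.commute_of_mem ha hb hU (U.mul_mem haU hbU)
  refine ⟨Subgroup.isMulCommutative_closure fun a ha b hb => hcom T T.isPGroup' a ha.1 ha.2 b hb.1 hb.2, ?_⟩
  unfold Cfsg.commutingWidth
  symm
  refine IsGreatest.csSup_eq ⟨⟨{d : G | d ∈ D ∧ d ∈ T}, fun d hd => hd.1, Set.toFinite _,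
    fun a ha b hb => hcom T T.isPGroup' a ha.1 ha.2 b hb.1 hb.2, rfl⟩, ?_⟩
  rintro n ⟨E, hED, -, hc, rfl⟩
  have h2 : IsPGroup 2 (Subgroup.closure E) := by
    haveI := Subgroup.isMulCommutative_closure (k := E) fun a ha b hb => hc a ha b hb
    have hcm : ∀ x ∈ Subgroup.closure E, ∀ y ∈ Subgroup.closure E, x * y = y * x := fun x hx y hy =>
      congrArg Subtype.val (‹IsMulCommutative (Subgroup.closure E)›.is_comm.comm ⟨x, hx⟩ ⟨y, hy⟩)
    refine fun x => ⟨1, Subtype.ext ?_⟩
    suffices ∀ y ∈ Subgroup.closure E, y * y = 1 by simpa [pow_two] using this _ x.2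
    intro y hy
    induction hy using Subgroup.closure_induction with
    | mem a ha => exact h.mul_self (hED ha)
    | one => exact one_mul 1
    | mul a b ha hb ia ib =>
      rw [show a * b * (a * b) = a * (b * a) * b by group, hcm b hb a ha, show a * (a * b) * b = (a * a) * (b * b) by group, ia, ib, one_mul]
    | inv a _ ia => rw [← mul_inv_rev, ia, inv_one]
  obtain ⟨S, hS⟩ := IsPGroup.exists_le_sylow h2
  obtain ⟨g, hg⟩ := MulAction.exists_smul_eq G T S
  refine Set.ncard_le_ncard_of_injOn (fun x => g⁻¹ * x * g) (fun x hx => ?_) (fun a _ b _ e => mul_left_cancel (mul_right_cancel e)) (Set.toFinite _)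
  refine ⟨by simpa using h.conj g⁻¹ x (hED hx), ?_⟩
  have hx' : x ∈ (S : Subgroup G) := hS (Subgroup.subset_closure hx)
  rw [← hg] at hx'
  obtain ⟨w, hw, hwe⟩ := hx'
  have hwe' : g * w * g⁻¹ = x := hwe
  show g⁻¹ * x * g ∈ (T : Subgroup G)
  rw [← hwe', show g⁻¹ * (g * w * g⁻¹) * g = w by group]
  exact hw

end Cfsg.Agent.S5345
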