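import Cfsg.Statements.S5346
import Cfsg.Agent.Lib.Solv.ThreeTrans
-- import your own Cfsg.Agent.* helpers here

set_option autoImplicit false
open Cfsg

namespace Cfsg.Agent.S5346

/-- Let D be a conjugation-invariant generating set of 3-transpositions of a finite group G and d a member of D. Then D has width 1 (no two different members of D commute) if and only if G is the product of the subgroup generated by d with the largest normal 3-subgroup of G. -/
theorem result {G : Type*} [Group G] [Finite G] {D : Set G} (hD : Cfsg.IsThreeTranspositionGroup D) {d : G} (hd : d ∈ D) : Cfsg.commutingWidth D = 1 ↔ Subgroup.zpowers d ⊔ Cfsg.pCore 3 G = ⊤ := by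
  
  obtain ⟨hD1, hD2, hD3⟩ := hD
  have h : Cfsg.Agent.Solv.ThreeTrans.TT D := ⟨hD1, hD2⟩
  haveI : Fact (Nat.Prime 3) := ⟨Nat.prime_three⟩
  have hiff : Cfsg.commutingWidth D = 1 ↔ ∀ u ∈ D, ∀ v ∈ D, u ≠ v → ¬ Commute u v := by
    unfold Cfsg.commutingWidth
    constructor
    · intro e u hu v hv hne hc
      have hm : 2 ∈ {n : ℕ | ∃ E : Set G, E ⊆ D ∧ E.Finite ∧ (∀ a ∈ E, ∀ b ∈ E, Commute a b) ∧ E.ncard = n} := by
        refine ⟨{u, v}, ?_, Set.toFinite _, ?_, Set.ncard_pair hne⟩
        · rintro x (rfl | rfl) <;> assumption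
        · rintro a (rfl | rfl) b (rfl | rfl)
          exacts [Commute.refl _, hc, hc.symm, Commute.refl _]
      have := le_csSup ⟨Nat.card G, ?_⟩ hm
      · rw [e] at this; omega
      · rintro n ⟨E, -, -, -, rfl⟩
        rw [← Set.ncard_univ]
        exact Set.ncard_le_ncard (Set.subset_univ E)
    · intro hw
      refine IsGreatest.csSup_eq ⟨⟨{d}, Set.singleton_subset_iff.mpr hd, Set.toFinite _, ?_, Set.ncard_singleton d⟩, ?_⟩
      · rintro a rfl b rfl; exact Commute.refl _
      · rintro n ⟨E, hED, hfin, hc, rfl⟩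
        rw [Set.ncard_le_one hfin]
        exact fun a ha b hb => by_contra fun hne => hw a (hED ha) b (hED hb) hne (hc a ha b hb)
  rw [hiff]
  constructor
  · intro hw
    rw [eq_top_iff, ← hD3, Subgroup.closure_le]
    intro x hx
    have hm := Subgroup.mul_mem _ (Subgroup.mem_sup_left (Subgroup.mem_zpowers d) : d ∈ Subgroup.zpowers d ⊔ Cfsg.pCore 3 G)
      (Subgroup.mem_sup_right (h.width_one hD3 hw hd hx))
    rwa [← mul_assoc, h.mul_self hd, one_mul] at hm
  · intro htop
    have hco : ∀ e ∈ D, d * e ∈ Cfsg.pCore 3 G := by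
      intro e he
      obtain ⟨k, hk, r, hr, hker⟩ := Subgroup.mem_sup_of_normal_right.mp (htop ▸ Subgroup.mem_top e)
      obtain ⟨i, hi⟩ := mem_powers_iff_mem_zpowers.mpr hk
      simp only at hi
      rw [← pow_mod_orderOf, h.order_two hd] at hi
      rcases Nat.mod_two_eq_zero_or_one i with hm | hm <;> rw [hm] at hi
      · exfalso
        rw [pow_zero] at hi
        rw [← hi, one_mul] at hker
        obtain ⟨j, hj⟩ := (Cfsg.Agent.Solv.isPGroup_pCore 3 G) ⟨r, hr⟩
        have hj' : r ^ (3 ^ j) = 1 := congrArg Subtype.val hj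
        have hdv := orderOf_dvd_of_pow_eq_one hj'
        rw [hker, h.order_two he] at hdv
        exact absurd (Nat.prime_two.dvd_of_dvd_pow hdv) (by decide)
      · rw [pow_one] at hi
        rw [← hker, ← hi, ← mul_assoc, h.mul_self hd, one_mul]
        exact hr
    intro u hu v hv hne
    refine h.not_commute_of_mem hu hv (Cfsg.Agent.Solv.isPGroup_pCore 3 G) ?_ hne
    have hm := Subgroup.mul_mem _ (Subgroup.inv_mem _ (hco u hu)) (hco v hv)
    rwa [mul_inv_rev, h.inv_eq hu, h.inv_eq hd, show u * d * (d * v) = u * (d * d) * v by group, h.mul_self hd, mul_one] at hm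

end Cfsg.Agent.S5346
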