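import Cfsg.Statements.S5348
import Cfsg.Agent.Lib.Solv.ThreeTrans
-- import your own Cfsg.Agent.* helpers here

set_option autoImplicit false
open Cfsg

namespace Cfsg.Agent.S5348

/-- Let D be a conjugation-invariant generating set of 3-transpositions of a finite group G and d a member of D. Let V be the set of members of D commuting with exactly the same members of D as d, and W the set of members w of D such that the members of D other than w commuting with w are precisely the members of D other than d commuting with d. Then V = {d} or W = {d}. -/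
theorem result {G : Type*} [Group G] [Finite G] {D : Set G} (hD : Cfsg.IsThreeTranspositionGroup D) {d : G} (hd : d ∈ D) : {v : G | v ∈ D ∧ ∀ e ∈ D, Commute v e ↔ Commute d e} = {d} ∨ {w : G | w ∈ D ∧ {y : G | y ∈ D ∧ y ≠ d ∧ Commute d y} = {y : G | y ∈ D ∧ y ≠ w ∧ Commute w y}} = {d} := by
  
  change Cfsg.Agent.Solv.ThreeTrans.Vset D d = {d} ∨ Cfsg.Agent.Solv.ThreeTrans.Wset D d = {d}
  by_contra hcon
  push Not at hcon
  obtain ⟨v, hv, hvd⟩ : ∃ v ∈ Cfsg.Agent.Solv.ThreeTrans.Vset D d, v ≠ d := by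
    by_contra hh; push Not at hh
    exact hcon.1 (Set.Subset.antisymm (fun x hx => hh x hx) (Set.singleton_subset_iff.mpr (Cfsg.Agent.Solv.ThreeTrans.vset_self hd)))
  obtain ⟨w, hw, hwd⟩ : ∃ w ∈ Cfsg.Agent.Solv.ThreeTrans.Wset D d, w ≠ d := by
    by_contra hh; push Not at hh
    exact hcon.2 (Set.Subset.antisymm (fun x hx => hh x hx) (Set.singleton_subset_iff.mpr (Cfsg.Agent.Solv.ThreeTrans.wset_self hd)))
  have hdv : Commute d v := Cfsg.Agent.Solv.ThreeTrans.vset_commute hd (Cfsg.Agent.Solv.ThreeTrans.vset_self hd) hv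
  obtain ⟨-, h1⟩ := (Cfsg.Agent.Solv.ThreeTrans.wset_iff hw hv.1).mp ⟨hvd, hdv⟩
  exact Cfsg.Agent.Solv.ThreeTrans.wset_not_commute (Cfsg.Agent.Solv.ThreeTrans.wset_self hd) hw (Ne.symm hwd)
    ((hv.2 w hw.1).mp h1.symm)

end Cfsg.Agent.S5348
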