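import Cfsg.Statements.S5351
import Cfsg.Agent.Lib.Solv.ThreeTransLayer
-- import your own Cfsg.Agent.* helpers here

set_option autoImplicit false
open Cfsg
open scoped commutatorElement

namespace Cfsg.Agent.S5351

/-- Let D be a conjugacy class of 3-transpositions generating the finite group G, with at least two members. Then for every prime p > 3 the largest normal p-subgroup of G is central, and exactly one of the following holds: the largest normal 2-subgroup of G is not central; the largest normal 3-subgroup of G is not central; the layer of G (the product of its components) is non-trivial. -/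
theorem result {G : Type*} [Group G] [Finite G] {D : Set G} (hD : Cfsg.IsThreeTranspositionClass D) (hD2 : ∃ a ∈ D, ∃ b ∈ D, a ≠ b) : (∀ p : ℕ, p.Prime → 3 < p → Cfsg.pCore p G ≤ Subgroup.center G) ∧ ((¬ Cfsg.pCore 2 G ≤ Subgroup.center G ∧ Cfsg.pCore 3 G ≤ Subgroup.center G ∧ Cfsg.layer G = ⊥) ∨ (Cfsg.pCore 2 G ≤ Subgroup.center G ∧ ¬ Cfsg.pCore 3 G ≤ Subgroup.center G ∧ Cfsg.layer G = ⊥) ∨ (Cfsg.pCore 2 G ≤ Subgroup.center G ∧ Cfsg.pCore 3 G ≤ Subgroup.center G ∧ Cfsg.layer G ≠ ⊥)) := by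
  
  have h := Cfsg.Agent.Solv.ThreeTrans.TT.of_class hD
  refine ⟨fun p hp hp3 => h.pCore_le_center hD hp hp3, ?_⟩
  obtain ⟨d, hd, -⟩ := id hD.2.1
  by_cases h2 : Cfsg.pCore 2 G ≤ Subgroup.center G
  · by_cases h3 : Cfsg.pCore 3 G ≤ Subgroup.center G
    · exact Or.inr (Or.inr ⟨h2, h3, h.layer_ne_bot hD hD2 h2 h3⟩)
    · exact Or.inr (Or.inl ⟨h2, h3, h.layer_eq_bot_three hD h3⟩)
  · refine Or.inl ⟨h2, ?_, h.layer_eq_bot_two hD hD2 h2⟩
    by_contra h3
    obtain ⟨v, hv, hvd⟩ := h.exists_vset_ne hD hD2 h2 hd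
    obtain ⟨w, hw, hwd⟩ := h.exists_wset_ne hD h3 hd
    have hdv : Commute d v := Cfsg.Agent.Solv.ThreeTrans.vset_commute hd (Cfsg.Agent.Solv.ThreeTrans.vset_self hd) hv
    obtain ⟨-, h1⟩ := (Cfsg.Agent.Solv.ThreeTrans.wset_iff hw hv.1).mp ⟨hvd, hdv⟩
    exact Cfsg.Agent.Solv.ThreeTrans.wset_not_commute (Cfsg.Agent.Solv.ThreeTrans.wset_self hd) hw (Ne.symm hwd) ((hv.2 w hw.1).mp h1.symm)

end Cfsg.Agent.S5351
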