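import Cfsg.Statements.S5355
import Cfsg.Agent.Lib.Solv.SymFour
import Cfsg.Agent.Lib.Solv.ThreeTransLayer
-- import your own Cfsg.Agent.* helpers here

set_option autoImplicit false
open Cfsg
open scoped commutatorElement

namespace Cfsg.Agent.S5355

/-- Let D be a conjugacy class of 3-transpositions generating the finite group G, with at least two members, and d a member of D. Suppose that every member of D commuting with d commutes with exactly the same members of D as d does, and that exactly one member of D other than d commutes with d. Then G is isomorphic to the symmetric group of degree 4. -/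
theorem result {G : Type*} [Group G] [Finite G] {D : Set G} (hD : Cfsg.IsThreeTranspositionClass D) (hD2 : ∃ a ∈ D, ∃ b ∈ D, a ≠ b) {d : G} (hd : d ∈ D) (hV : {y : G | y ∈ D ∧ Commute d y} = {v : G | v ∈ D ∧ ∀ e ∈ D, Commute v e ↔ Commute d e}) (hm : {y : G | y ∈ D ∧ Commute d y}.ncard = 2) : Nonempty (G ≃* Equiv.Perm (Fin 4)) := by
  
  have h := Cfsg.Agent.Solv.ThreeTrans.TT.of_class hD
  set S := {y : G | y ∈ D ∧ Commute d y}
  have hcs : ∀ x ∈ D, {y : G | y ∈ D ∧ Commute x y} = Cfsg.Agent.Solv.ThreeTrans.Vset D x ∧ {y : G | y ∈ D ∧ Commute x y}.ncard = 2 := by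
    intro x hx
    obtain ⟨g, rfl⟩ := Cfsg.Agent.Solv.ThreeTrans.class_conj hD hd hx
    have e1 : {y : G | y ∈ D ∧ Commute (g * d * g⁻¹) y} = (fun u => g * u * g⁻¹) '' S := by
      ext y
      refine ⟨fun hy => ⟨g⁻¹ * y * g, ⟨by simpa using h.conj g⁻¹ y hy.1, ?_⟩, by group⟩, ?_⟩
      · rw [← Cfsg.Agent.Solv.ThreeTrans.commute_conj (g := g)]; simpa [mul_assoc] using hy.2
      · rintro ⟨u, hu, rfl⟩
        exact ⟨h.conj g u hu.1, Cfsg.Agent.Solv.ThreeTrans.commute_conj.mpr hu.2⟩
    refine ⟨?_, by rw [e1, Set.ncard_image_of_injective S fun a b e => mul_left_cancel (mul_right_cancel e), hm]⟩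
    ext y
    refine ⟨fun hy => ?_, fun hy => ⟨hy.1, (Cfsg.Agent.Solv.ThreeTrans.vset_commute hx (Cfsg.Agent.Solv.ThreeTrans.vset_self hx) hy)⟩⟩
    rw [e1] at hy
    obtain ⟨u, hu, rfl⟩ := hy
    exact h.vset_conj g (hV.le hu)
  have hpart : ∀ x ∈ D, ∃ v ∈ D, v ≠ x ∧ Commute x v ∧ ∀ y ∈ D, Commute x y → y = x ∨ y = v := by
    intro x hx
    obtain ⟨a, b, hab, e⟩ := Set.ncard_eq_two.mp (hcs x hx).2
    have hxm : x ∈ {y : G | y ∈ D ∧ Commute x y} := ⟨hx, Commute.refl x⟩
    have ha : a ∈ {y : G | y ∈ D ∧ Commute x y} := e ▸ Or.inl rfl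
    have hb : b ∈ {y : G | y ∈ D ∧ Commute x y} := e ▸ Or.inr rfl
    rw [e] at hxm
    rcases hxm with rfl | rfl
    · exact ⟨b, hb.1, hab.symm, hb.2, fun y hy hc => (e.le ⟨hy, hc⟩ : y ∈ ({x, b} : Set G))⟩
    · exact ⟨a, ha.1, hab, ha.2, fun y hy hc => Or.symm (e.le ⟨hy, hc⟩ : y ∈ ({a, x} : Set G))⟩
  choose! P hPD hPne hPc hPu using hpart
  have hinv : ∀ x ∈ D, P (P x) = x := by
    intro x hx
    rcases hPu _ (hPD x hx) x hx (hPc x hx).symm with e | e
    · exact absurd e.symm (hPne x hx)
    · exact e.symm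
  have hPV : ∀ x ∈ D, ∀ y ∈ D, Commute (P x) y ↔ Commute x y := fun x hx y hy =>
    (((hcs x hx).1.le ⟨hPD x hx, hPc x hx⟩).2 y hy)
  have hPconj : ∀ g : G, ∀ x ∈ D, P (g * x * g⁻¹) = g * P x * g⁻¹ := by
    intro g x hx
    rcases hPu _ (h.conj g x hx) _ (h.conj g _ (hPD x hx)) (Cfsg.Agent.Solv.ThreeTrans.commute_conj.mpr (hPc x hx)) with e | e
    · exact absurd (mul_left_cancel (mul_right_cancel e)) (hPne x hx)
    · exact e.symm
  let u : G → G := fun x => x * P x
  have hu2 : ∀ x ∈ D, u x * u x = 1 := fun x hx => (h.commute_iff hx (hPD x hx)).mp (hPc x hx)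
  have hu1 : ∀ x ∈ D, u x ≠ 1 := fun x hx e => hPne x hx (by
    rw [← inv_eq_of_mul_eq_one_right e, h.inv_eq hx])
  obtain ⟨e₀, he₀, hde⟩ := Cfsg.Agent.Solv.ThreeTrans.class_exists_not_commute hD hD2 hd
  set φ := Cfsg.Agent.Solv.SymFour.hom d e₀ (P d) (h.mul_self hd) (h.mul_self he₀) (h.mul_self (hPD d hd))
    (hPc d hd).symm.eq (h.braid hd he₀ hde).symm
    (h.braid he₀ (hPD d hd) fun c => hde ((hPV d hd e₀ he₀).mp c.symm)).symm
  have hne : d ≠ P d := (hPne d hd).symm
  have hinj : Function.Injective φ := Cfsg.Agent.Solv.SymFour.hom_injective _ _ _ _ _ _ _ _ _ hne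
  -- relation between the three involutions attached to a line
  have hrel : ∀ x ∈ D, ∀ y ∈ D, ¬ Commute x y → u (x * y * x) = u x * u y := by
    intro x hx y hy hn
    show x * y * x * P (x * y * x) = x * P x * (y * P y)
    have hnP : ¬ Commute (P x) y := fun c => hn ((hPV x hx y hy).mp c)
    have e1 : P (x * y * x) = x * P y * x := by
      have := hPconj x y hy; rwa [h.inv_eq hx] at this
    have e2 : y * P x * y = P (y * x * y) := by
      have := hPconj y x hx; rw [h.inv_eq hy] at this; exact this.symm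
    have hyx : y * x * y = x * y * x := (h.braid hx hy hn).symm
    rw [hyx, e1] at e2
    rw [e1]
    calc x * y * x * (x * P y * x) = x * (y * (x * x) * P y) * x := by group
      _ = x * (y * P y) * x := by rw [h.mul_self hx, mul_one]
      _ = x * (P y * y) * x := by rw [(hPc y hy).eq]
      _ = x * P y * x * (x * y * x) := by
        rw [show x * P y * x * (x * y * x) = x * (P y * (x * x) * y) * x by group, h.mul_self hx, mul_one]
      _ = y * P x * y * (y * x * y) := by rw [← e2, hyx]
      _ = y * (P x * x) * y := by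
        rw [show y * P x * y * (y * x * y) = y * (P x * (y * y) * x) * y by group, h.mul_self hy, mul_one]
      _ = x * P x * (y * P y) := by
        have k : P y = x * (y * P x * y) * x := by
          rw [e2, show x * (x * P y * x) * x = (x * x) * P y * (x * x) by group, h.mul_self hx, one_mul, mul_one]
        have k2 : P x * y * P x = y * P x * y := h.braid (hPD x hx) hy hnP
        rw [k, ← k2]
        calc y * (P x * x) * y = y * P x * (x * y * x) * x⁻¹ := by group
          _ = y * P x * (y * x * y) * x := by rw [hyx, h.inv_eq hx]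
          _ = (y * P x * y) * x * y * x := by group
          _ = x * P x * (y * (x * (P x * y * P x) * x)) := by
            rw [← k2]
            have cx : Commute x (P x) := hPc x hx
            calc P x * y * P x * x * y * x = P x * y * (P x * x) * y * x := by group
              _ = P x * (y * x) * (P x * y) * x := by rw [← cx.eq]; group
              _ = (x * P x) * (x⁻¹ * y * x) * (P x * y) * x := by rw [cx.eq]; group
              _ = x * P x * (y * (x * (P x * y * P x) * x)) := by
                rw [h.inv_eq hx, ← hyx, k2]; group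
  have hthree : ∀ f ∈ D, f ∈ φ.range := by
    intro f hf
    have hd' : d ∈ φ.range := ⟨_, Cfsg.Agent.Solv.SymFour.hom_gen _ _ _ _ _ _ _ _ _ 0⟩
    have he' : e₀ ∈ φ.range := ⟨_, Cfsg.Agent.Solv.SymFour.hom_gen _ _ _ _ _ _ _ _ _ 1⟩
    have hP' : P d ∈ φ.range := ⟨_, Cfsg.Agent.Solv.SymFour.hom_gen _ _ _ _ _ _ _ _ _ 2⟩
    have hPe : P e₀ ∈ φ.range := by
      have hx : d * e₀ * d ∈ φ.range := mul_mem (mul_mem hd' he') hd'
      have k : P (d * e₀ * d) = e₀ * P d * e₀ := by
        have := hPconj e₀ d hd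
        rw [h.inv_eq he₀] at this
        rwa [h.braid hd he₀ hde]
      have k2 : P (d * e₀ * d) = d * P e₀ * d := by
        have := hPconj d e₀ he₀
        rwa [h.inv_eq hd] at this
      have k3 : P e₀ = d * (e₀ * P d * e₀) * d := by
        rw [← k, k2, show d * (d * P e₀ * d) * d = (d * d) * P e₀ * (d * d) by group, h.mul_self hd, one_mul, mul_one]
      rw [k3]
      exact mul_mem (mul_mem hd' (mul_mem (mul_mem he' hP') he')) hd'
    by_cases h1 : Commute d f
    · rcases hPu d hd f hf h1 with rfl | rfl <;> assumption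
    by_cases h2 : Commute e₀ f
    · rcases hPu e₀ he₀ f hf h2 with rfl | rfl <;> assumption
    set x := d * e₀ * d with hx
    have hxD : x ∈ D := h.conj_self hd he₀
    have hxr : x ∈ φ.range := mul_mem (mul_mem hd' he') hd'
    by_cases h3 : Commute x f
    · rcases hPu x hxD f hf h3 with rfl | rfl
      · exact hxr
      · have := hPconj d e₀ he₀
        rw [h.inv_eq hd] at this
        rw [hx, this]
        exact mul_mem (mul_mem hd' hPe) hd'
    -- four classes give a contradiction
    exfalso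
    have hyD : d * f * d ∈ D := h.conj_self hd hf
    have hxy : ¬ Commute x (d * f * d) := fun c => h2 (by
      rw [← Cfsg.Agent.Solv.ThreeTrans.commute_conj (g := d), h.inv_eq hd]; exact c)
    have hef : ¬ Commute e₀ f := h2
    have hzD : e₀ * f * e₀ ∈ D := h.conj_self he₀ hf
    have hdz : ¬ Commute d (e₀ * f * e₀) := fun c => h3 (by
      have := (Cfsg.Agent.Solv.ThreeTrans.commute_conj (g := e₀)).mpr c
      rw [h.inv_eq he₀, show e₀ * (e₀ * f * e₀) * e₀ = (e₀ * e₀) * f * (e₀ * e₀) by group, h.mul_self he₀, one_mul,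
        mul_one, ← h.braid hd he₀ hde] at this
      exact this)
    have eL : x * (d * f * d) * x = d * (e₀ * f * e₀) * d := by
      rw [hx, show d * e₀ * d * (d * f * d) * (d * e₀ * d) = d * e₀ * (d * d) * f * (d * d) * e₀ * d by group,
        h.mul_self hd]
      group
    have r1 := hrel x hxD _ hyD hxy
    have r2 := hrel d hd _ hzD hdz
    rw [eL, r2, hrel e₀ he₀ f hf hef, hx, hrel d hd e₀ he₀ hde, hrel d hd f hf h1] at r1
    have hcuu : u e₀ * u d = u d * u e₀ := by
      have r3 := hrel d hd e₀ he₀ hde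
      have r4 := hrel e₀ he₀ d hd fun c => hde c.symm
      rw [← h.braid hd he₀ hde] at r4
      exact r4.symm.trans r3
    have r5 : u d * u e₀ * (u d * u f) = u d * u d * (u e₀ * u f) := by
      rw [show u d * u e₀ * (u d * u f) = u d * (u e₀ * u d) * u f by group, hcuu]; group
    rw [r5, hu2 d hd, one_mul] at r1
    exact hu1 d hd (mul_eq_right.mp r1)
  have hsurj : φ.range = ⊤ := top_le_iff.mp (hD.2.2.ge.trans ((Subgroup.closure_le _).mpr hthree))
  exact ⟨(MulEquiv.ofBijective φ ⟨hinj, MonoidHom.range_eq_top.mp hsurj⟩).symm⟩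

end Cfsg.Agent.S5355
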