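import Cfsg.Statements.S5356
import Cfsg.Agent.Lib.Solv.ThreeTrans
-- import your own Cfsg.Agent.* helpers here

set_option autoImplicit false
open Cfsg

namespace Cfsg.Agent.S5356

theorem key_fix {X : Type*} [Group X] [Finite X] (M P : Subgroup X) [hM : M.Normal] (hPp : IsPGroup 3 P)
    (hab : ∀ u ∈ M, ∀ v ∈ M, u * v = v * u) (hel : ∀ u ∈ M, u * u = 1)
    (hC : ∀ u ∈ M, (∀ p ∈ P, p * u * p⁻¹ = u) → u = 1) (t n : X) (hn : n ∈ M) (ht : t * t = 1)
    (htn : t * n = n * t) (htP : ∀ p ∈ P, t * p * t ∈ P) (hne : ∃ p ∈ P, t * p * t ≠ p)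
    (hpair : ∀ g : X, (t * n * (g * (t * n) * g⁻¹)) ^ 2 = 1 ∨ (t * n * (g * (t * n) * g⁻¹)) ^ 3 = 1) :
    ∃ v ∈ M, t * n = v * t * v⁻¹ := by
  classical
  letI : CommGroup M := { (inferInstance : Group M) with mul_comm := fun u v => Subtype.ext (hab _ u.2 _ v.2) }
  have hti : t⁻¹ = t := inv_eq_of_mul_eq_one_right ht
  have hMP : ∀ z ∈ P, z ∈ M → z = 1 := fun z hzP hzM => by
    obtain ⟨k, hk⟩ := hPp ⟨z, hzP⟩
    have hk' : z ^ (3 ^ k) = 1 := congrArg Subtype.val hk
    obtain ⟨j, hj⟩ : Odd (3 ^ k) := Odd.pow (by decide)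
    rwa [hj, pow_succ, pow_mul, pow_two, hel z hzM, one_pow, one_mul] at hk'
  have hct : ∀ (g : X), ∀ u ∈ M, g * u * g⁻¹ ∈ M := fun g u hu => hM.conj_mem u hu g
  let tc : M → M := fun u => ⟨t * u * t, by simpa [hti] using hct t u u.2⟩
  let φ : M →* M := MonoidHom.mk' (fun v => v * tc v) fun u v => by
    have e : tc (u * v) = tc u * tc v := Subtype.ext (by
      show t * ((u : X) * v) * t = (t * u * t) * (t * v * t)
      rw [show t * (u : X) * t * (t * v * t) = t * u * (t * t) * v * t by group, ht]; group)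
    show u * v * tc (u * v) = u * tc u * (v * tc v)
    rw [e, mul_mul_mul_comm]
  let π : M →* M ⧸ φ.range := QuotientGroup.mk' φ.range
  have hpi : ∀ u : M, π (tc u) = π u := fun u => by
    refine (QuotientGroup.eq.mpr (MonoidHom.mem_range.mpr ⟨u, ?_⟩)).symm
    show u * tc u = u⁻¹ * tc u
    rw [inv_eq_of_mul_eq_one_right (Subtype.ext (hel u u.2) : u * u = 1)]
  let F : P → M := fun p => ⟨p * n * (p : X)⁻¹, hct p n hn⟩
  have hfix : ∀ c ∈ P, t * c * t = c → π ⟨c * n * c⁻¹, hct c n hn⟩ = π ⟨n, hn⟩ := by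
    intro c hc hct'
    obtain ⟨p0, hp0, hp0'⟩ := hne
    set s := p0⁻¹ * (t * p0 * t) with hs
    have hs1 : s ≠ 1 := fun e => hp0' (inv_mul_eq_one.mp e).symm
    have hsP : s ∈ P := mul_mem (inv_mem hp0) (htP p0 hp0)
    have hts : t * s * t = s⁻¹ := by
      refine eq_inv_of_mul_eq_one_left ?_
      calc t * s * t * s = t * p0⁻¹ * t * (p0 * (t * t) * p0⁻¹) * t * p0 * t := by rw [hs]; group
        _ = 1 := by rw [ht, mul_one, mul_inv_cancel, mul_one, show t * p0⁻¹ * t * t * p0 * t = t * p0⁻¹ * (t * t) * p0 * t by group, ht, mul_one, show t * p0⁻¹ * p0 * t = t * t by group, ht]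
    obtain ⟨n', hn'⟩ : ∃ n', n' = c * n * c⁻¹ := ⟨_, rfl⟩
    have hn'M : n' ∈ M := hn' ▸ hct c n hn
    have htc : t * c = c * t := by
      calc t * c = t * c * (t * t) := by rw [ht, mul_one]
        _ = c * t := by rw [← mul_assoc, hct']
    have htn' : t * n' = n' * t := by
      rw [hn']
      exact (((show Commute t c from htc).mul_right htn).mul_right (show Commute t c from htc).inv_right).eq
    have hconj : (s * c) * (t * n) * (s * c)⁻¹ = s * t * n' * s⁻¹ := by
      calc (s * c) * (t * n) * (s * c)⁻¹ = s * (c * t) * n * c⁻¹ * s⁻¹ := by group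
        _ = s * t * n' * s⁻¹ := by rw [← htc, hn']; group
    set z := s⁻¹ * s⁻¹
    set w := (s * s * n * s⁻¹ * s⁻¹) * (s * n' * s⁻¹)
    have hwM : w ∈ M := mul_mem (by
      rw [show s * s * n * s⁻¹ * s⁻¹ = (s * s) * n * (s * s)⁻¹ by group]; exact hct _ n hn) (hct s n' hn'M)
    have hprod : t * n * ((s * c) * (t * n) * (s * c)⁻¹) = z * w := by
      rw [hconj]
      calc t * n * (s * t * n' * s⁻¹) = n * t * s * t * n' * s⁻¹ := by rw [htn]; group
        _ = n * (t * s * t) * n' * s⁻¹ := by group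
        _ = _ := by rw [hts]; simp only [z, w]; group
    have hzP : z ∈ P := mul_mem (inv_mem hsP) (inv_mem hsP)
    obtain ⟨k, hk⟩ := hPp ⟨s, hsP⟩
    have hk' : s ^ (3 ^ k) = 1 := congrArg Subtype.val hk
    obtain ⟨j, hj⟩ : Odd (3 ^ k) := Odd.pow (by decide)
    have hs2 : ∀ u : X, u = s → u * u = 1 → False := fun u hu e => hs1 (by
      subst hu
      rwa [hj, pow_succ, pow_mul, pow_two, e, one_pow, one_mul] at hk')
    have h3 : (z * w) ^ 3 = 1 := by
      rcases hpair (s * c) with e | e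
      · exfalso
        rw [hprod, pow_two] at e
        have hz2 : z * z ∈ M := by
          have e0 : z * z = (z * w * (z * w)) * (((z⁻¹ * w * z)) * w)⁻¹ ∨ True := Or.inr trivial
          have : z * z = z * w * (z * w) * (w⁻¹ * (z⁻¹ * w⁻¹ * z)) := by group
          rw [this, e, one_mul]
          exact mul_mem (inv_mem hwM) (by simpa using hct z⁻¹ w⁻¹ (inv_mem hwM))
        have hz4 := hMP _ (mul_mem hzP hzP) hz2
        have hss : (s * s) * (s * s) = 1 := by
          rw [← inv_inv ((s * s) * (s * s)), show ((s * s) * (s * s))⁻¹ = z * z by simp only [z]; group, hz4, inv_one]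
        obtain ⟨i, hi⟩ : Odd (3 ^ k) := Odd.pow (by decide)
        have hss2 : (s * s) ^ (3 ^ k) = 1 := by rw [← pow_two, ← pow_mul, mul_comm, pow_mul, hk', one_pow]
        rw [hi, pow_succ, pow_mul, pow_two, hss, one_pow, one_mul] at hss2
        exact hs2 s rfl hss2
      · rwa [hprod] at e
    have hexp : (z * w) ^ 3 = (z * z * z) * ((z⁻¹ * (z⁻¹ * w * z) * z) * (z⁻¹ * w * z) * w) := by
      simp only [pow_succ, pow_zero, one_mul]; group
    rw [hexp] at h3
    have hw1 : z⁻¹ * w * z ∈ M := by simpa using hct z⁻¹ w hwM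
    have hw2 : z⁻¹ * (z⁻¹ * w * z) * z ∈ M := by simpa using hct z⁻¹ _ hw1
    have hz3 : z * z * z = 1 := by
      refine hMP _ (mul_mem (mul_mem hzP hzP) hzP) ?_
      rw [mul_eq_one_iff_eq_inv.mp h3]
      exact inv_mem (mul_mem (mul_mem hw2 hw1) hwM)
    rw [hz3, one_mul] at h3
    have hs3 : s * s * s = 1 := by
      have h6 : (s * s * s) * (s * s * s) = 1 := by
        rw [← inv_inv (s * s * s * (s * s * s)), show (s * s * s * (s * s * s))⁻¹ = z * z * z by simp only [z]; group, hz3, inv_one]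
      have h7 : (s * s * s) ^ (3 ^ k) = 1 := by
        rw [show s * s * s = s ^ 3 by simp [pow_succ], ← pow_mul, mul_comm, pow_mul, hk', one_pow]
      rwa [hj, pow_succ, pow_mul, pow_two, h6, one_pow, one_mul] at h7
    -- rewrite the norm relation for the product of the two parts
    let cs : M → M := fun u => ⟨s * u * s⁻¹, hct s u u.2⟩
    have cs_mul : ∀ u v : M, cs (u * v) = cs u * cs v := fun u v => Subtype.ext (by
      show s * ((u : X) * v) * s⁻¹ = s * u * s⁻¹ * (s * v * s⁻¹); group)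
    have cs3 : ∀ u : M, cs (cs (cs u)) = u := fun u => Subtype.ext (by
      show s * (s * (s * u * s⁻¹) * s⁻¹) * s⁻¹ = u
      rw [show s * (s * (s * (u : X) * s⁻¹) * s⁻¹) * s⁻¹ = (s * s * s) * u * (s * s * s)⁻¹ by group, hs3]; group)
    set a : M := ⟨n, hn⟩
    set b : M := ⟨n', hn'M⟩
    have hzs : z = s := by
      calc z = s⁻¹ * s⁻¹ * (s * s * s) := by rw [hs3, mul_one]
        _ = s := by group
    have e1 : (⟨w, hwM⟩ : M) = cs (cs a) * cs b := Subtype.ext (by
      show w = s * (s * n * s⁻¹) * s⁻¹ * (s * n' * s⁻¹); simp only [w]; group)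
    have hsi : ∀ u : M, (⟨s⁻¹ * u * s, by simpa using hct s⁻¹ u u.2⟩ : M) = cs (cs u) := fun u => Subtype.ext (by
      show s⁻¹ * (u : X) * s = s * (s * u * s⁻¹) * s⁻¹
      calc s⁻¹ * (u : X) * s = (s * s * s) * (s⁻¹ * u * s) * (s * s * s)⁻¹ := by rw [hs3]; group
        _ = _ := by group)
    have e2 : (⟨z⁻¹ * w * z, hw1⟩ : M) = cs (cs (⟨w, hwM⟩ : M)) := by
      rw [← hsi]; exact Subtype.ext (by show z⁻¹ * w * z = s⁻¹ * w * s; rw [hzs])
    have e3 : (⟨z⁻¹ * (z⁻¹ * w * z) * z, hw2⟩ : M) = cs (cs (⟨z⁻¹ * w * z, hw1⟩ : M)) := by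
      rw [← hsi]; exact Subtype.ext (by show z⁻¹ * (z⁻¹ * w * z) * z = s⁻¹ * (z⁻¹ * w * z) * s; rw [hzs])
    have h3' : (⟨z⁻¹ * (z⁻¹ * w * z) * z, hw2⟩ : M) * ⟨z⁻¹ * w * z, hw1⟩ * ⟨w, hwM⟩ = 1 := Subtype.ext h3
    rw [e3, e2, e1] at h3'
    simp only [cs_mul, cs3] at h3'
    have hx : a * b * cs (a * b) * cs (cs (a * b)) = 1 := by
      rw [← h3']
      simp only [cs_mul]
      ac_rfl
    set x := a * b with hxdef
    have hxx : x * x = 1 := Subtype.ext (hel x x.2)
    have hrange : x ∈ φ.range := by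
      refine ⟨cs x, ?_⟩
      show cs x * tc (cs x) = x
      have htx : t * (x : X) * t = x := by
        show t * (n * n') * t = n * n'
        rw [← mul_assoc, htn, mul_assoc n t n', htn', mul_assoc, mul_assoc n' t t, ht, mul_one]
      have e4 : tc (cs x) = cs (cs x) := by
        rw [← hsi]
        refine Subtype.ext ?_
        show t * (s * x * s⁻¹) * t = s⁻¹ * x * s
        calc t * (s * (x : X) * s⁻¹) * t = (t * s * t) * (t⁻¹ * x * t⁻¹) * (t * s⁻¹ * t) := by group
          _ = s⁻¹ * x * s := by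
            rw [hts, hti, htx, show t * s⁻¹ * t = (t⁻¹ * s * t⁻¹)⁻¹ by group, hti, hts, inv_inv]
      rw [e4]
      rw [mul_assoc] at hx
      rw [← inv_eq_of_mul_eq_one_right hx, inv_eq_of_mul_eq_one_right hxx]
    have hpx : π a * π b = 1 := by
      rw [← map_mul]; exact (QuotientGroup.eq_one_iff _).mpr hrange
    have hbb : π a * π a = 1 := by rw [← map_mul, show a * a = 1 from Subtype.ext (hel n hn), map_one]
    have : (⟨c * n * c⁻¹, hct c n hn⟩ : M) = b := Subtype.ext hn'.symm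
    rw [this]
    exact mul_left_cancel (hpx.trans hbb.symm)
  -- the product over `P`
  letI : Fintype P := Fintype.ofFinite _
  set prodF := ∏ p : P, F p
  have hPi : prodF = 1 := by
    refine Subtype.ext (hC _ prodF.2 fun q hq => ?_)
    let cq : M →* M := MonoidHom.mk' (fun u => ⟨q * u * q⁻¹, hct q u u.2⟩) fun u v => Subtype.ext (by
      show q * ((u : X) * v) * q⁻¹ = q * u * q⁻¹ * (q * v * q⁻¹); group)
    have e : cq prodF = prodF := by
      rw [map_prod]
      refine Fintype.prod_equiv (Equiv.mulLeft (⟨q, hq⟩ : P)) _ _ fun p => Subtype.ext ?_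
      show q * ((p : X) * n * (p : X)⁻¹) * q⁻¹ = q * p * n * (q * p)⁻¹
      group
    exact congrArg Subtype.val e
  let σ : P → P := fun p => ⟨t * p * t, htP p p.2⟩
  have hσσ : ∀ p, σ (σ p) = p := fun p => Subtype.ext (by
    show t * (t * p * t) * t = p
    rw [show t * (t * (p : X) * t) * t = (t * t) * p * (t * t) by group, ht, one_mul, mul_one])
  set a : M := ⟨n, hn⟩
  have hπ2 : ∀ u : M ⧸ φ.range, u * u = 1 := fun u => by
    induction u using QuotientGroup.induction_on with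
    | H u => rw [← QuotientGroup.mk_mul, show u * u = 1 from Subtype.ext (hel u u.2), QuotientGroup.mk_one]
  have hfσ : ∀ p, π (F (σ p)) = π (F p) := fun p => by
    rw [← hpi (F p)]
    congr 1
    refine Subtype.ext ?_
    show t * p * t * n * (t * p * t)⁻¹ = t * (p * n * (p : X)⁻¹) * t
    calc t * p * t * n * (t * p * t)⁻¹ = t * p * (t * n * t⁻¹) * (p : X)⁻¹ * t⁻¹ := by group
      _ = _ := by rw [htn, mul_inv_cancel_right, hti]; group
  have hsum : π prodF = π a := by
    rw [map_prod, ← Finset.prod_filter_mul_prod_filter_not Finset.univ (fun p => σ p = p)]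
    rw [Finset.prod_involution (s := Finset.univ.filter fun p => ¬ σ p = p) (fun p _ => σ p)
      (fun p _ => by rw [hfσ]; exact hπ2 _) (fun p hp _ => (Finset.mem_filter.mp hp).2)
      (fun p hp => Finset.mem_filter.mpr ⟨Finset.mem_univ _, fun e => (Finset.mem_filter.mp hp).2 (by
        rw [hσσ] at e; exact e.symm)⟩) (fun p _ => hσσ p), mul_one,
      Finset.prod_congr rfl (fun (p : P) hp => show π (F p) = π a from hfix p p.2 (congrArg Subtype.val (Finset.mem_filter.mp hp).2)),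
      Finset.prod_const]
    have hcard : (Finset.univ.filter fun p => σ p = p).card = Nat.card ((Subgroup.centralizer ({t} : Set X)).subgroupOf P) := by
      rw [← Fintype.card_subtype, ← Nat.card_eq_fintype_card]
      refine Nat.card_congr (Equiv.subtypeEquivRight fun p => ?_)
      rw [Subgroup.mem_subgroupOf, Subgroup.mem_centralizer_singleton_iff]
      constructor
      · intro e
        have e' : t * p * t = (p : X) := congrArg Subtype.val e
        calc (p : X) * t = t * p * t * t := by rw [e']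
          _ = t * p := by rw [mul_assoc (t * (p : X)) t t, ht, mul_one]
      · intro e
        exact Subtype.ext (by show t * p * t = (p : X); rw [mul_assoc, e, ← mul_assoc, ht, one_mul])
    obtain ⟨i, hi⟩ := IsPGroup.iff_card.mp (hPp.to_subgroup ((Subgroup.centralizer ({t} : Set X)).subgroupOf P))
    obtain ⟨j, hj⟩ : Odd (3 ^ i) := Odd.pow (by decide)
    rw [hcard, hi, hj, pow_succ, pow_mul, pow_two, hπ2, one_pow, one_mul]
  rw [hPi, map_one] at hsum
  obtain ⟨v, hv⟩ := (QuotientGroup.eq_one_iff a).mp hsum.symm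
  refine ⟨v, v.2, ?_⟩
  have hv' : (v : X) * (t * v * t) = n := congrArg Subtype.val hv
  rw [inv_eq_of_mul_eq_one_right (hel v v.2), ← hv', hab (v : X) v.2 (t * v * t) (tc v).2,
    show t * (t * (v : X) * t * v) = (t * t) * v * t * v by group, ht, one_mul]


theorem step {X : Type*} [Group X] [Finite X] (M P Q : Subgroup X) [hM : M.Normal] [hQ : Q.Normal]
    (hQp : IsPGroup 2 Q) (hMQ : M ≤ Q) (hPp : IsPGroup 3 P)
    (hmin : ∀ N : Subgroup X, N.Normal → N ≤ M → N = ⊥ ∨ N = M) (hMne : M ≠ ⊥) (d : X) (hd : d * d = 1)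
    (hgen : Subgroup.closure ((Q : Set X) ∪ P ∪ {d}) = ⊤)
    (hdn : d ∈ Subgroup.normalizer ((M ⊔ P : Subgroup X) : Set X))
    (hne : ∃ p ∈ P, p * d * p⁻¹ * d⁻¹ ∉ Q)
    (hpair : ∀ g : X, (d * (g * d * g⁻¹)) ^ 2 = 1 ∨ (d * (g * d * g⁻¹)) ^ 3 = 1) :
    ∃ v ∈ M, d ∈ Subgroup.normalizer (((P.map (MulAut.conj v).toMonoidHom) : Subgroup X) : Set X) := by
  classical
  haveI : Fact (Nat.Prime 2) := ⟨Nat.prime_two⟩
  haveI : Fact (Nat.Prime 3) := ⟨Nat.prime_three⟩
  have hMp : IsPGroup 2 M := hQp.to_le hMQ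
  have hMc : ∀ u ∈ M, ∀ q ∈ Q, q * u = u * q := by
    set N := M ⊓ Subgroup.centralizer (Q : Set X)
    rcases hmin N inferInstance inf_le_left with e | e
    · exfalso
      letI : MulAction Q M :=
        { smul := fun q u => ⟨(q : X) * u * (q : X)⁻¹, hM.conj_mem u u.2 q⟩
          one_smul := fun u => Subtype.ext (by show ((1 : Q) : X) * u * ((1 : Q) : X)⁻¹ = u; simp)
          mul_smul := fun q r u => Subtype.ext (by
            show ((q * r : Q) : X) * u * ((q * r : Q) : X)⁻¹ = (q : X) * ((r : X) * u * (r : X)⁻¹) * (q : X)⁻¹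
            simp [mul_assoc]) }
      have h1 := hQp.card_modEq_card_fixedPoints M
      have hfix : Nat.card (MulAction.fixedPoints Q M) = 1 := by
        refine Nat.card_eq_one_iff_unique.mpr ⟨⟨fun u v => ?_⟩, ⟨⟨1, fun q => Subtype.ext (by
          show (q : X) * ((1 : M) : X) * (q : X)⁻¹ = ((1 : M) : X); simp)⟩⟩⟩
        have h2 : ∀ u : MulAction.fixedPoints Q M, ((u : M) : X) = 1 := fun u => by
          refine Subgroup.mem_bot.mp (e.le ⟨(u : M).2, Subgroup.mem_centralizer_iff.mpr fun q hq => ?_⟩)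
          exact mul_inv_eq_iff_eq_mul.mp (congrArg Subtype.val (u.2 ⟨q, hq⟩))
        exact Subtype.ext (Subtype.ext ((h2 u).trans (h2 v).symm))
      obtain ⟨i, hi⟩ := IsPGroup.iff_card.mp hMp
      rw [hfix, hi] at h1
      rcases Nat.eq_zero_or_pos i with h0 | h0
      · exact hMne (Subgroup.eq_bot_of_card_eq _ (by rw [hi, h0, pow_zero]))
      · have h3 : 2 ^ i % 2 = 0 := Nat.mod_eq_zero_of_dvd (dvd_pow_self 2 (by omega)) |> fun e => e
        have h4 : 2 ^ i % 2 = 1 % 2 := h1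
        omega
    · exact fun u hu q hq => Subgroup.mem_centralizer_iff.mp (e.ge hu).2 q hq
  have hab : ∀ u ∈ M, ∀ v ∈ M, u * v = v * u := fun u hu v hv => hMc v hv u (hMQ hu)
  have hel : ∀ u ∈ M, u * u = 1 := by
    let S : Subgroup X :=
      { carrier := {u | u ∈ M ∧ u * u = 1}
        one_mem' := ⟨M.one_mem, one_mul 1⟩
        mul_mem' := fun {u v} hu hv => ⟨M.mul_mem hu.1 hv.1, by
          rw [show u * v * (u * v) = u * (v * u) * v by group, hab v hv.1 u hu.1,
            show u * (u * v) * v = (u * u) * (v * v) by group, hu.2, hv.2, one_mul]⟩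
        inv_mem' := fun {u} hu => ⟨M.inv_mem hu.1, by rw [← mul_inv_rev, hu.2, inv_one]⟩ }
    haveI : S.Normal := ⟨fun u hu g => ⟨hM.conj_mem u hu.1 g, by
      rw [show g * u * g⁻¹ * (g * u * g⁻¹) = g * (u * u) * g⁻¹ by group, hu.2]; group⟩⟩
    rcases hmin S inferInstance (fun u hu => hu.1) with e | e
    · exfalso
      haveI : Nontrivial M := (Subgroup.nontrivial_iff_ne_bot M).mpr hMne
      obtain ⟨i, hi0, hi⟩ := hMp.nontrivial_iff_card.mp inferInstance
      obtain ⟨u, hu⟩ := exists_prime_orderOf_dvd_card' (G := M) 2 (by rw [hi]; exact dvd_pow_self 2 (by omega))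
      have h2 : u * u = 1 := by rw [← pow_two, ← hu]; exact pow_orderOf_eq_one u
      have := Subgroup.mem_bot.mp (e.le (show (u : X) ∈ S from ⟨u.2, congrArg Subtype.val h2⟩))
      rw [show u = 1 from Subtype.ext this, orderOf_one] at hu
      omega
    · exact fun u hu => (e.ge hu).2
  -- a normalizing element in the coset
  obtain ⟨m, hm, hmt⟩ : ∃ m ∈ M, ∀ p ∈ P, m⁻¹ * d * p * (m⁻¹ * d)⁻¹ ∈ P := by
    set K := M ⊔ P
    have hcardK : Nat.card K ∣ Nat.card M * Nat.card P := by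
      rw [← Subgroup.card_mul_index (M.subgroupOf K), Nat.card_congr (Subgroup.subgroupOfEquivOfLe (le_sup_left : M ≤ K)).toEquiv]
      refine mul_dvd_mul_left _ ?_
      show M.relIndex (M ⊔ P) ∣ _
      rw [Subgroup.relIndex_sup_left]
      exact Subgroup.index_dvd_card _
    have hsyl : ∀ S : Sylow 3 K, Nat.card (S : Subgroup K) ∣ Nat.card P := fun S => by
      obtain ⟨i, hi⟩ := IsPGroup.iff_card.mp S.isPGroup'
      obtain ⟨j, hj⟩ := IsPGroup.iff_card.mp hMp
      have h1 := ((S : Subgroup K).card_subgroup_dvd_card).trans hcardK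
      rw [hi, hj] at h1
      rw [hi]
      exact ((Nat.coprime_primes Nat.prime_three Nat.prime_two).mpr (by norm_num)).pow i j |>.dvd_of_dvd_mul_left h1
    set P' := P.map (MulAut.conj d).toMonoidHom
    have hP'K : P' ≤ K := by
      rintro _ ⟨p, hp, rfl⟩
      exact (Subgroup.mem_normalizer_iff.mp hdn p).mp (Subgroup.mem_sup_right hp)
    obtain ⟨S, hS⟩ := IsPGroup.exists_le_sylow (P := P.subgroupOf K) hPp.comap_subtype
    obtain ⟨S', hS'⟩ := IsPGroup.exists_le_sylow (P := P'.subgroupOf K) ((hPp.map _).comap_subtype)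
    have hSe : (S : Subgroup K) = P.subgroupOf K := (Subgroup.eq_of_le_of_card_ge hS (by
      rw [Nat.card_congr (Subgroup.subgroupOfEquivOfLe (le_sup_right : P ≤ K)).toEquiv]
      exact Nat.le_of_dvd Nat.card_pos (hsyl S))).symm
    have hSe' : (S' : Subgroup K) = P'.subgroupOf K := (Subgroup.eq_of_le_of_card_ge hS' (by
      rw [Nat.card_congr (Subgroup.subgroupOfEquivOfLe hP'K).toEquiv, Subgroup.card_map_of_injective (MulAut.conj d).injective]
      exact Nat.le_of_dvd Nat.card_pos (hsyl S'))).symm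
    obtain ⟨k, hk⟩ := MulAction.exists_smul_eq K S S'
    obtain ⟨m, hm, p0, hp0, hmp⟩ := Subgroup.mem_sup_of_normal_left.mp k.2
    refine ⟨m, hm, fun p hp => ?_⟩
    have h1 : (⟨d * p * d⁻¹, hP'K ⟨p, hp, rfl⟩⟩ : K) ∈ (S' : Subgroup K) := hSe'.ge ⟨p, hp, rfl⟩
    rw [← hk] at h1
    obtain ⟨w, hw, hwe⟩ := h1
    have hwe' : (k : X) * (w : X) * (k : X)⁻¹ = d * p * d⁻¹ := congrArg Subtype.val hwe
    have hwP : (w : X) ∈ P := hSe.le hw
    rw [show m⁻¹ * d * p * (m⁻¹ * d)⁻¹ = m⁻¹ * (d * p * d⁻¹) * m by group, ← hwe', ← hmp,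
      show m⁻¹ * (m * p0 * (w : X) * (m * p0)⁻¹) * m = p0 * (w : X) * p0⁻¹ by group]
    exact P.mul_mem (P.mul_mem hp0 hwP) (P.inv_mem hp0)
  obtain ⟨t, htdef⟩ : ∃ t, t = m⁻¹ * d := ⟨_, rfl⟩
  have hdt : d = m * t := by rw [htdef, mul_inv_cancel_left]
  rw [← htdef] at hmt
  have hdi : d⁻¹ = d := inv_eq_of_mul_eq_one_right hd
  -- the centralizer of `P` in `M`
  set C := M ⊓ Subgroup.centralizer (P : Set X) with hCdef
  haveI hCn : C.Normal := by
    refine Subgroup.normalizer_eq_top_iff.mp (top_le_iff.mp (hgen.ge.trans ((Subgroup.closure_le _).mpr ?_)))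
    have hin : ∀ g : X, (∀ u ∈ C, g * u * g⁻¹ ∈ C) → g ∈ Subgroup.normalizer (C : Set X) := fun g hg => by
      have e : C.map (MulAut.conj g).toMonoidHom = C := Subgroup.eq_of_le_of_card_ge
        (fun _ ⟨u, hu, e⟩ => e ▸ hg u hu) (le_of_eq (Subgroup.card_map_of_injective (MulAut.conj g).injective).symm)
      rw [Subgroup.mem_normalizer_iff]
      refine fun v => ⟨hg v, fun hv => ?_⟩
      obtain ⟨w, hw, hwe⟩ := (e.ge hv : g * v * g⁻¹ ∈ C.map (MulAut.conj g).toMonoidHom)
      have hwe' : g * w * g⁻¹ = g * v * g⁻¹ := hwe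
      rwa [← mul_left_cancel (mul_right_cancel hwe')]
    rintro g ((hg | hg) | hg)
    · exact hin g fun u hu => by rwa [hMc u hu.1 g hg, mul_inv_cancel_right]
    · exact hin g fun u hu => by rwa [Subgroup.mem_centralizer_iff.mp hu.2 g hg, mul_inv_cancel_right]
    · rw [Set.mem_singleton_iff] at hg
      subst hg
      refine hin _ fun u hu => ?_
      have hu' : g * u * g⁻¹ = t * u * t⁻¹ := by
        have h1 : t * u * t⁻¹ ∈ M := hM.conj_mem u hu.1 t
        rw [hdt, show m * t * u * (m * t)⁻¹ = m * (t * u * t⁻¹) * m⁻¹ by group, hab m hm _ h1, mul_inv_cancel_right]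
      rw [hu']
      refine ⟨hM.conj_mem u hu.1 t, Subgroup.mem_centralizer_iff.mpr fun p hp => ?_⟩
      -- `t` normalizes `P`
      have e : P.map (MulAut.conj t).toMonoidHom = P := Subgroup.eq_of_le_of_card_ge
        (fun _ ⟨w, hw, e⟩ => e ▸ hmt w hw) (le_of_eq (Subgroup.card_map_of_injective (MulAut.conj t).injective).symm)
      obtain ⟨w, hw, hwe⟩ := (e.ge hp : p ∈ P.map (MulAut.conj t).toMonoidHom)
      have hwe' : t * w * t⁻¹ = p := hwe
      rw [← hwe', show t * w * t⁻¹ * (t * u * t⁻¹) = t * (w * u) * t⁻¹ by group,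
        Subgroup.mem_centralizer_iff.mp hu.2 w hw]
      group
  rcases hmin C hCn inf_le_left with e | e
  · -- no fixed points
    have hC : ∀ u ∈ M, (∀ p ∈ P, p * u * p⁻¹ = u) → u = 1 := fun u hu hall =>
      Subgroup.mem_bot.mp (e.le ⟨hu, Subgroup.mem_centralizer_iff.mpr fun p hp => mul_inv_eq_iff_eq_mul.mp (hall p hp)⟩)
    have hmm : m⁻¹ = m := inv_eq_of_mul_eq_one_right (hel m hm)
    have ht2M : t * t ∈ M := by
      rw [htdef, show m⁻¹ * d * (m⁻¹ * d) = m⁻¹ * (d * m⁻¹ * d⁻¹) * (d * d) by group, hd, mul_one]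
      exact M.mul_mem (M.inv_mem hm) (hM.conj_mem _ (M.inv_mem hm) d)
    have ht2 : t * t = 1 := by
      refine hC _ ht2M fun p hp => ?_
      have h1 : t * t * p * (t * t)⁻¹ ∈ P := by
        rw [show t * t * p * (t * t)⁻¹ = t * (t * p * t⁻¹) * t⁻¹ by group]; exact hmt _ (hmt p hp)
      have h2 : t * t * p * (t * t)⁻¹ * p⁻¹ ∈ M := by
        rw [show t * t * p * (t * t)⁻¹ * p⁻¹ = t * t * (p * (t * t)⁻¹ * p⁻¹) by group]
        exact M.mul_mem ht2M (hM.conj_mem _ (M.inv_mem ht2M) p)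
      obtain ⟨j, hj⟩ := hPp ⟨_, P.mul_mem h1 (P.inv_mem hp)⟩
      have hj' : (t * t * p * (t * t)⁻¹ * p⁻¹) ^ (3 ^ j) = 1 := congrArg Subtype.val hj
      obtain ⟨i, hi⟩ : Odd (3 ^ j) := Odd.pow (by decide)
      rw [hi, pow_succ, pow_mul, pow_two, hel _ h2, one_pow, one_mul] at hj'
      have h5 : t * t * p = p * (t * t) := mul_inv_eq_iff_eq_mul.mp (mul_inv_eq_one.mp hj')
      rw [← h5, mul_inv_cancel_right]
    have hti : t⁻¹ = t := inv_eq_of_mul_eq_one_right ht2
    have htm : t * m = m * t := by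
      have h1 : (m * t) * (m * t) = 1 := by rw [← hdt]; exact hd
      have h2 := inv_eq_of_mul_eq_one_right h1
      rwa [mul_inv_rev, hti, hmm] at h2
    have htP : ∀ p ∈ P, t * p * t ∈ P := fun p hp => by
      have := hmt p hp
      rwa [hti] at this
    have hne' : ∃ p ∈ P, t * p * t ≠ p := by
      by_contra hall
      push Not at hall
      obtain ⟨p, hp, hpQ⟩ := hne
      refine hpQ (hMQ ?_)
      have hcp : t * p⁻¹ * t⁻¹ = p⁻¹ := by rw [hti, hall _ (P.inv_mem hp)]
      rw [hdt, show p * (m * t) * p⁻¹ * (m * t)⁻¹ = p * m * (t * p⁻¹ * t⁻¹) * m⁻¹ by group, hcp]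
      exact M.mul_mem (hM.conj_mem m hm p) (M.inv_mem hm)
    have hdn' : d = t * m := by rw [htm]; exact hdt
    obtain ⟨v, hv, hve⟩ := key_fix M P hPp hab hel hC t m hm ht2 htm htP hne' (by
      intro g; rw [← hdn']; exact hpair g)
    refine ⟨v, hv, ?_⟩
    have hd' : d = v * t * v⁻¹ := hdn'.trans hve
    rw [Subgroup.mem_normalizer_iff]
    have htn : ∀ q, q ∈ P ↔ t * q * t ∈ P := fun q => ⟨htP q, fun h => by
      have h1 := htP _ h
      rwa [show t * (t * q * t) * t = (t * t) * q * (t * t) by group, ht2, one_mul, mul_one] at h1⟩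
    have hmem : ∀ x, x ∈ P.map (MulAut.conj v).toMonoidHom ↔ v⁻¹ * x * v ∈ P := fun x =>
      ⟨fun ⟨w, hw, e⟩ => by rw [← e]; simpa [mul_assoc] using hw,
        fun hx => ⟨_, hx, by show v * (v⁻¹ * x * v) * v⁻¹ = x; group⟩⟩
    intro x
    rw [hmem, hmem, htn, hd']
    have : v⁻¹ * (v * t * v⁻¹ * x * (v * t * v⁻¹)⁻¹) * v = t * (v⁻¹ * x * v) * t := by
      rw [show v⁻¹ * (v * t * v⁻¹ * x * (v * t * v⁻¹)⁻¹) * v = t * (v⁻¹ * x * v) * t⁻¹ by group, hti]
    rw [this]
  · refine ⟨1, M.one_mem, ?_⟩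
    have hcm : ∀ p ∈ P, p * m = m * p := fun p hp => Subgroup.mem_centralizer_iff.mp (e.ge hm).2 p hp
    rw [show P.map (MulAut.conj (1 : X)).toMonoidHom = P by ext x; simp]
    have hd1 : ∀ p ∈ P, d * p * d⁻¹ ∈ P := fun p hp => by
      rw [hdt, show m * t * p * (m * t)⁻¹ = m * (t * p * t⁻¹) * m⁻¹ by group, ← hcm _ (hmt p hp), mul_inv_cancel_right]
      exact hmt p hp
    rw [Subgroup.mem_normalizer_iff]
    refine fun p => ⟨hd1 p, fun hp => ?_⟩
    have := hd1 _ hp
    rwa [hdi, show d * (d * p * d) * d = (d * d) * p * (d * d) by group, hd, one_mul, mul_one] at this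

theorem core {G : Type*} [Group G] [Finite G] {D : Set G} (hD : Cfsg.IsThreeTranspositionClass D)
    (hD2 : ∃ a ∈ D, ∃ b ∈ D, a ≠ b) {d : G} (hd : d ∈ D)
    (hV : {y : G | y ∈ D ∧ Commute d y} = Cfsg.Agent.Solv.ThreeTrans.Vset D d) :
    ∃ P : Sylow 3 G, d ∈ Subgroup.normalizer (P : Set G) ∧ Subgroup.zpowers d ⊔ (P : Subgroup G) ⊔ Cfsg.pCore 2 G = ⊤ := by
  classical
  haveI : Fact (Nat.Prime 2) := ⟨Nat.prime_two⟩
  haveI : Fact (Nat.Prime 3) := ⟨Nat.prime_three⟩
  have h := Cfsg.Agent.Solv.ThreeTrans.TT.of_class hD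
  set Q := Cfsg.pCore 2 G
  have hQp : IsPGroup 2 Q := Cfsg.Agent.Solv.isPGroup_pCore 2 G
  have hcQ : ∀ a ∈ D, ∀ b ∈ D, Commute a b → a * b ∈ Q := by
    intro a ha b hb hab
    obtain ⟨g, rfl⟩ := Cfsg.Agent.Solv.ThreeTrans.class_conj hD hd ha
    have hb' : g⁻¹ * b * g ∈ D := by simpa using h.conj g⁻¹ b hb
    have hm : g⁻¹ * b * g ∈ {y : G | y ∈ D ∧ Commute d y} := ⟨hb', by
      rw [← Cfsg.Agent.Solv.ThreeTrans.commute_conj (g := g)]; simpa [mul_assoc] using hab⟩
    rw [hV] at hm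
    have h1 := (inferInstance : Q.Normal).conj_mem _ (h.mul_mem_two_of_vset hd hm) g
    simpa [mul_assoc] using h1
  set f := QuotientGroup.mk' Q
  have hf : Function.Surjective f := QuotientGroup.mk'_surjective Q
  have hfQ : ∀ x, f x = 1 ↔ x ∈ Q := fun x => QuotientGroup.eq_one_iff x
  have hTb : Cfsg.Agent.Solv.ThreeTrans.TT (f '' D) := by
    refine ⟨⟨?_, ?_⟩, ?_⟩
    · rintro _ ⟨a, ha, rfl⟩
      refine orderOf_eq_prime (by rw [← map_pow, pow_two, h.mul_self ha, map_one]) fun e => ?_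
      obtain ⟨b, hb, hn⟩ := Cfsg.Agent.Solv.ThreeTrans.class_exists_not_commute hD hD2 hd
      obtain ⟨g, rfl⟩ := Cfsg.Agent.Solv.ThreeTrans.class_conj hD ha hd
      have hg := (inferInstance : Q.Normal).conj_mem _ ((hfQ a).mp e) g
      obtain ⟨k, rfl⟩ := Cfsg.Agent.Solv.ThreeTrans.class_conj hD hd hb
      exact hn (h.commute_of_mem hd hb hQp (Q.mul_mem hg ((inferInstance : Q.Normal).conj_mem _ hg k)))
    · rintro _ ⟨a, ha, rfl⟩ _ ⟨b, hb, rfl⟩
      rcases h.set.2 a ha b hb with e | e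
      · exact Or.inl (by rw [← map_mul, ← map_pow, e, map_one])
      · exact Or.inr (by rw [← map_mul, ← map_pow, e, map_one])
    · intro g x hx
      obtain ⟨a, ha, rfl⟩ := hx
      obtain ⟨g, rfl⟩ := hf g
      exact ⟨g * a * g⁻¹, h.conj g a ha, by simp⟩
  have hgenb : Subgroup.closure (f '' D) = ⊤ := by
    rw [← MonoidHom.map_closure, hD.2.2, Subgroup.map_top_of_surjective f hf]
  have hwb : ∀ u ∈ f '' D, ∀ v ∈ f '' D, u ≠ v → ¬ Commute u v := by
    rintro _ ⟨a, ha, rfl⟩ _ ⟨b, hb, rfl⟩ hne hc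
    apply hne
    by_cases hab : Commute a b
    · have h1 : f (a * b) = 1 := (hfQ _).mpr (hcQ a ha b hb hab)
      rw [map_mul, mul_eq_one_iff_eq_inv, ← map_inv, h.inv_eq hb] at h1
      exact h1
    · exfalso
      have h2 : (f a * f b) * (f a * f b) = 1 :=
        ((hTb.commute_iff ⟨a, ha, rfl⟩ ⟨b, hb, rfl⟩)).mp hc
      have h3 : f a * f b * (f a * f b) * (f a * f b) = 1 := by
        simp only [← map_mul]; rw [h.cube ha hb hab, map_one]
      rw [h2, one_mul, ← map_mul, hfQ] at h3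
      exact hab (h.commute_of_mem ha hb hQp h3)
  set R := Cfsg.pCore 3 (G ⧸ Q)
  have hR : IsPGroup 3 R := Cfsg.Agent.Solv.isPGroup_pCore 3 _
  have hdR : f d ∉ R := fun hc => by
    obtain ⟨j, hj⟩ := hR ⟨_, hc⟩
    have hj' : f d ^ (3 ^ j) = 1 := congrArg Subtype.val hj
    have hdv := orderOf_dvd_of_pow_eq_one hj'
    rw [hTb.order_two ⟨d, hd, rfl⟩] at hdv
    exact absurd (Nat.prime_two.dvd_of_dvd_pow hdv) (by decide)
  have htop : R ⊔ Subgroup.zpowers (f d) = ⊤ := by
    refine top_le_iff.mp (hgenb.ge.trans ((Subgroup.closure_le _).mpr fun x hx => ?_))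
    have h1 := hTb.width_one hgenb hwb ⟨d, hd, rfl⟩ hx
    have := Subgroup.mul_mem _ (Subgroup.mem_sup_right (Subgroup.mem_zpowers (f d)) : f d ∈ R ⊔ Subgroup.zpowers (f d))
      (Subgroup.mem_sup_left h1)
    rwa [← mul_assoc, hTb.mul_self ⟨d, hd, rfl⟩, one_mul] at this
  have hPR : ∀ P : Sylow 3 G, (P : Subgroup G).map f = R := by
    intro P
    have hle : (P : Subgroup G).map f ≤ R := by
      intro x hx
      obtain ⟨r, hr, e, he, rfl⟩ := Subgroup.mem_sup_of_normal_left.mp (htop.ge (Subgroup.mem_top x))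
      obtain ⟨i, hi⟩ := mem_powers_iff_mem_zpowers.mpr he
      simp only at hi
      rw [← pow_mod_orderOf, hTb.order_two ⟨d, hd, rfl⟩] at hi
      rcases Nat.mod_two_eq_zero_or_one i with hm | hm <;> rw [hm] at hi
      · rw [← hi, pow_zero, mul_one]; exact hr
      · exfalso
        rw [pow_one] at hi
        subst hi
        obtain ⟨j, hj⟩ := (P.isPGroup'.map f) ⟨_, hx⟩
        have hj' : (r * f d) ^ (3 ^ j) = 1 := congrArg Subtype.val hj
        obtain ⟨l, hl⟩ : Odd (3 ^ j) := Odd.pow (by decide)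
        have h2 : r * f d * (r * f d) ∈ R := by
          rw [show r * f d * (r * f d) = r * (f d * r * (f d)⁻¹) * (f d * f d) by group, hTb.mul_self ⟨d, hd, rfl⟩, mul_one]
          exact R.mul_mem hr ((inferInstance : R.Normal).conj_mem r hr _)
        rw [hl, pow_succ, pow_mul, pow_two] at hj'
        have h4 : r * f d ∈ R := by
          rw [eq_inv_of_mul_eq_one_right hj']; exact R.inv_mem (R.pow_mem h2 l)
        exact hdR ((R.mul_mem_cancel_left hr).mp h4)
    refine le_antisymm hle ?_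
    rw [← Subgroup.relIndex_eq_one]
    obtain ⟨i, hi⟩ := IsPGroup.iff_card.mp hR
    have h1 : ((P : Subgroup G).map f).relIndex R ∣ 3 ^ i := by rw [← hi]; exact Subgroup.index_dvd_card _
    have h2 : ((P : Subgroup G).map f).relIndex R ∣ (P : Subgroup G).index :=
      (Dvd.intro _ (Subgroup.relIndex_mul_index hle)).trans (Subgroup.index_map_dvd _ hf)
    exact Nat.eq_one_of_dvd_coprimes (Nat.Coprime.pow_left i (Nat.prime_three.coprime_iff_not_dvd.mpr P.not_dvd_index)) h1 h2
  have hfin : ∀ P : Sylow 3 G, Subgroup.zpowers d ⊔ (P : Subgroup G) ⊔ Q = ⊤ := by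
    intro P
    refine top_le_iff.mp fun x _ => ?_
    have hx : f x ∈ (Subgroup.zpowers d ⊔ (P : Subgroup G)).map f := by
      rw [Subgroup.map_sup, MonoidHom.map_zpowers, hPR P, sup_comm, htop]; exact Subgroup.mem_top _
    obtain ⟨y, hy, hye⟩ := hx
    have := Subgroup.mul_mem _ (Subgroup.mem_sup_left hy : y ∈ Subgroup.zpowers d ⊔ (P : Subgroup G) ⊔ Q)
      (Subgroup.mem_sup_right ((QuotientGroup.eq).mp hye))
    rwa [mul_inv_cancel_left] at this
  have hnot : ∀ P : Sylow 3 G, ∃ p ∈ (P : Subgroup G), p * d * p⁻¹ * d⁻¹ ∉ Q := by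
    intro P
    by_contra hall
    push Not at hall
    have hcen : ∀ x : G ⧸ Q, Commute x (f d) := by
      intro x
      obtain ⟨r, hr, e, he, rfl⟩ := Subgroup.mem_sup_of_normal_left.mp (htop.ge (Subgroup.mem_top x))
      rw [← hPR P] at hr
      obtain ⟨p, hp, rfl⟩ := hr
      obtain ⟨i, rfl⟩ := Subgroup.mem_zpowers_iff.mp he
      refine Commute.mul_left ?_ ((Commute.refl _).zpow_left i)
      have h1 := (hfQ _).mpr (hall p hp)
      simp only [map_mul, map_inv] at h1
      exact mul_inv_eq_iff_eq_mul.mp (mul_inv_eq_one.mp h1)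
    obtain ⟨b, hb, hn⟩ := Cfsg.Agent.Solv.ThreeTrans.class_exists_not_commute hD hD2 hd
    obtain ⟨g, rfl⟩ := Cfsg.Agent.Solv.ThreeTrans.class_conj hD hd hb
    refine hn (h.commute_of_mem hd hb hQp ((hfQ _).mp ?_))
    simp only [map_mul, map_inv]
    rw [(hcen (f g)).eq, mul_inv_cancel_right, hTb.mul_self ⟨d, hd, rfl⟩]
  suffices hmain : ∀ n : ℕ, ∀ M : Subgroup G, M.Normal → M ≤ Q → Nat.card M ≤ n →
      (∃ P : Sylow 3 G, d ∈ Subgroup.normalizer ((M ⊔ (P : Subgroup G) : Subgroup G) : Set G)) →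
      ∃ P : Sylow 3 G, d ∈ Subgroup.normalizer (P : Set G) by
    obtain ⟨P0⟩ := Sylow.nonempty (p := 3) (G := G)
    obtain ⟨P, hP⟩ := hmain _ Q inferInstance le_rfl le_rfl ⟨P0, by
      have e : Q ⊔ (P0 : Subgroup G) = R.comap f := by
        rw [← hPR P0, Subgroup.comap_map_eq, QuotientGroup.ker_mk', sup_comm]
      haveI : (Q ⊔ (P0 : Subgroup G)).Normal := by rw [e]; infer_instance
      rw [Subgroup.normalizer_eq_top_iff.mpr inferInstance]
      exact Subgroup.mem_top d⟩
    exact ⟨P, hP, hfin P⟩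
  intro n
  induction n with
  | zero => exact fun M _ _ hc => absurd hc (by have : 0 < Nat.card M := Nat.card_pos; omega)
  | succ n ih =>
    intro M hMn hMQ hMc hex
    obtain ⟨P, hP⟩ := hex
    by_cases hbot : M = ⊥
    · subst hbot
      exact ⟨P, by rwa [bot_sup_eq] at hP⟩
    obtain ⟨M', ⟨hM'n, hM'lt⟩, hM'max⟩ := (Set.toFinite {N : Subgroup G | N.Normal ∧ N < M}).exists_maximal
      ⟨⊥, inferInstance, bot_lt_iff_ne_bot.mpr hbot⟩
    haveI := hM'n
    haveI := hMn
    set π := QuotientGroup.mk' M'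
    have hπ : Function.Surjective π := QuotientGroup.mk'_surjective M'
    haveI : (M.map π).Normal := Subgroup.Normal.map hMn π hπ
    haveI : (Q.map π).Normal := Subgroup.Normal.map inferInstance π hπ
    have hM'Q : M' ≤ Q := hM'lt.le.trans hMQ
    have hmin : ∀ N : Subgroup (G ⧸ M'), N.Normal → N ≤ M.map π → N = ⊥ ∨ N = M.map π := by
      intro N hN hle
      haveI := hN
      have hle' : N.comap π ≤ M := by
        refine (Subgroup.comap_mono hle).trans ?_
        rw [Subgroup.comap_map_eq, QuotientGroup.ker_mk', sup_eq_left.mpr hM'lt.le]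
      rcases hle'.lt_or_eq with hl | he
      · refine Or.inl ?_
        have h1 : M' ≤ N.comap π := fun x hx => by
          show π x ∈ N
          rw [show π x = 1 from (QuotientGroup.eq_one_iff x).mpr hx]; exact N.one_mem
        have h2 := hM'max ⟨inferInstance, hl⟩ h1
        rw [eq_bot_iff, ← Subgroup.map_comap_eq_self_of_surjective hπ N]
        refine (Subgroup.map_mono h2).trans ?_
        rintro _ ⟨x, hx, rfl⟩
        exact Subgroup.mem_bot.mpr ((QuotientGroup.eq_one_iff x).mpr hx)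
      · exact Or.inr (by rw [← he, Subgroup.map_comap_eq_self_of_surjective hπ])
    have hne : M.map π ≠ ⊥ := fun e => hM'lt.not_ge fun x hx =>
      (QuotientGroup.eq_one_iff x).mp (Subgroup.mem_bot.mp (e.le ⟨x, hx, rfl⟩))
    obtain ⟨v, hv, hvd⟩ := step (M.map π) ((P : Subgroup G).map π) (Q.map π) (hQp.map π) (Subgroup.map_mono hMQ)
      (P.isPGroup'.map π) hmin hne (π d) (by rw [← map_mul, h.mul_self hd, map_one]) (by
        refine top_le_iff.mp ?_
        rw [← Subgroup.map_top_of_surjective π hπ, ← hfin P, Subgroup.map_sup, Subgroup.map_sup, MonoidHom.map_zpowers]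
        refine sup_le (sup_le ?_ ?_) ?_
        · exact Subgroup.zpowers_le.mpr (Subgroup.subset_closure (Or.inr rfl))
        · exact fun x hx => Subgroup.subset_closure (Or.inl (Or.inr hx))
        · exact fun x hx => Subgroup.subset_closure (Or.inl (Or.inl hx))) (by
        rw [← Subgroup.map_sup]
        exact Subgroup.le_normalizer_map π ⟨d, hP, rfl⟩) (by
        obtain ⟨p, hp, hpQ⟩ := hnot P
        refine ⟨π p, ⟨p, hp, rfl⟩, fun hc => hpQ ?_⟩
        simp only [← map_inv, ← map_mul] at hc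
        have := (Subgroup.comap_map_eq π Q).le hc
        rwa [QuotientGroup.ker_mk', sup_eq_left.mpr hM'Q] at this) (by
        intro g
        obtain ⟨g, rfl⟩ := hπ g
        simp only [← map_inv, ← map_mul, ← map_pow]
        rcases h.set.2 d hd _ (h.conj g d hd) with e | e
        · exact Or.inl (by rw [e, map_one])
        · exact Or.inr (by rw [e, map_one]))
    obtain ⟨v, hvM, rfl⟩ := hv
    refine ih M' hM'n hM'Q ?_ ⟨v • P, ?_⟩
    · have hcard : Nat.card M' < Nat.card M := by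
        by_contra hle
        push Not at hle
        exact hM'lt.ne (Subgroup.eq_of_le_of_card_ge hM'lt.le hle)
      omega
    · have e : (M' ⊔ ((v • P : Sylow 3 G) : Subgroup G)) =
          (((P : Subgroup G).map π).map (MulAut.conj (π v)).toMonoidHom).comap π := by
        rw [Subgroup.map_map, show (MulAut.conj (π v)).toMonoidHom.comp π = π.comp (MulAut.conj v).toMonoidHom by
            ext x; simp, ← Subgroup.map_map, Subgroup.comap_map_eq, QuotientGroup.ker_mk', sup_comm]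
        rfl
      rw [e, Subgroup.mem_normalizer_iff]
      intro x
      simp only [Subgroup.mem_comap, map_mul, map_inv]
      exact Subgroup.mem_normalizer_iff.mp hvd (π x)

/-- Let D be a conjugacy class of 3-transpositions generating the finite group G, with at least two members, and d a member of D such that every member of D commuting with d commutes with exactly the same members of D as d. Then there is a Sylow 3-subgroup P of G normalized by d such that G is generated by d, P and the largest normal 2-subgroup of G. -/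
theorem result {G : Type*} [Group G] [Finite G] {D : Set G} (hD : Cfsg.IsThreeTranspositionClass D) (hD2 : ∃ a ∈ D, ∃ b ∈ D, a ≠ b) {d : G} (hd : d ∈ D) (hV : {y : G | y ∈ D ∧ Commute d y} = {v : G | v ∈ D ∧ ∀ e ∈ D, Commute v e ↔ Commute d e}) : ∃ P : Sylow 3 G, d ∈ Subgroup.normalizer (P : Set G) ∧ Subgroup.zpowers d ⊔ (P : Subgroup G) ⊔ Cfsg.pCore 2 G = ⊤ := by
  exact core hD hD2 hd hV

end Cfsg.Agent.S5356
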