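import Cfsg.Statements.S5357
import Cfsg.Agent.Lib.Classical.OmegaTrans

set_option autoImplicit false
open scoped MatrixGroups
open Cfsg

namespace Cfsg.Agent.S5357

/-- Let Q be a non-degenerate quadratic form on the n-dimensional coordinate space over the field with three elements, n ≥ 5, and c a non-zero scalar. In the subgroup of the isometry group of Q generated by the reflections in vectors v with Q(v) = c, these reflections form a single conjugacy class of 3-transpositions generating that subgroup. -/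
theorem result (n : ℕ) (hn : 5 ≤ n) (Q : QuadraticForm (ZMod 3) (Fin n → ZMod 3)) (hQ : (QuadraticMap.polarBilin Q).Nondegenerate) (c : ZMod 3) (hc : c ≠ 0) : Cfsg.IsThreeTranspositionClass {g : ↥(Cfsg.reflectionSubgroup (⇑Q) c) | (g : ↥(Cfsg.isometryGroup (ZMod 3) (⇑Q))) ∈ Cfsg.reflectionsOfNorm (⇑Q) c} := by
  classical
  let H := Cfsg.reflectionSubgroup (⇑Q) c
  let D : Set ↥H := {g | (g : Classical.Refl.O Q) ∈ Cfsg.reflectionsOfNorm (⇑Q) c}
  show Cfsg.IsThreeTranspositionClass D
  have h3 : ∀ a : ZMod 3, a ≠ 0 → a⁻¹ = a ∧ a * a = 1 := fun a ha => by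
    have key : ∀ b : ZMod 3, b ≠ 0 → b * b = 1 := by decide
    exact ⟨inv_eq_of_mul_eq_one_right (key a ha), key a ha⟩
  have h2c : ∀ a : ZMod 3, 2 * a = -a := by decide
  let rr : ∀ v, Q v = c → Classical.Refl.O Q := fun v hv => Classical.Refl.refl Q v (hv ▸ hc)
  have hrmem : ∀ v hv, rr v hv ∈ Cfsg.reflectionsOfNorm (⇑Q) c := fun v hv => ⟨v, hv, rfl⟩
  let R : ∀ v, Q v = c → ↥H := fun v hv => ⟨rr v hv, Subgroup.subset_closure (hrmem v hv)⟩
  have hDR : ∀ g, g ∈ D ↔ ∃ v, ∃ hv : Q v = c, g = R v hv := by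
    intro g
    constructor
    · rintro ⟨v, hv, he⟩
      exact ⟨v, hv, Subtype.ext (Subtype.ext (Units.ext he))⟩
    · rintro ⟨v, hv, rfl⟩
      exact hrmem v hv
  have happly : ∀ v hv x, Classical.Refl.act Q (rr v hv) x = x - (c * QuadraticMap.polar Q v x) • v := fun v hv x => by
    rw [Classical.Refl.act_refl, hv, (h3 c hc).1]
  have hconj : ∀ u hu v hv, rr u hu * rr v hv * rr u hu =
      rr (v - (c * QuadraticMap.polar Q u v) • u) (by rw [← happly u hu v, Classical.Refl.Q_act, hv]) := by
    intro u hu v hv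
    have e := Classical.Refl.refl_conj Q (rr u hu) v (hv ▸ hc)
    rw [Classical.Refl.refl_inv] at e
    simp only [happly u hu v] at e
    exact e
  have hsm : ∀ (s : ZMod 3) v hv hv', s ≠ 0 → rr (s • v) hv' = rr v hv := fun s v hv hv' hs =>
    Classical.Refl.act_ext Q fun x => by
      rw [happly _ hv' x, happly v hv x, QuadraticMap.polar_smul_left, smul_eq_mul, smul_smul]
      congr 2
      linear_combination (c * QuadraticMap.polar Q v x) * (h3 s hs).2
  have hsq : ∀ v hv, R v hv * R v hv = 1 := fun v hv =>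
    Subtype.ext (Classical.Refl.refl_mul_self Q v (hv ▸ hc))
  -- braid relations
  have hbraid : ∀ u hu v hv, QuadraticMap.polar Q u v ≠ 0 →
      R u hu * R v hv * R u hu = R v hv * R u hu * R v hv := by
    intro u hu v hv hb
    refine Subtype.ext ?_
    show rr u hu * rr v hv * rr u hu = rr v hv * rr u hu * rr v hv
    rw [hconj u hu v hv, hconj v hv u hu]
    have hb' : QuadraticMap.polar Q v u = QuadraticMap.polar Q u v := QuadraticMap.polar_comm _ _ _
    obtain ⟨k, hk⟩ : ∃ k, k = c * QuadraticMap.polar Q u v := ⟨_, rfl⟩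
    have hk0 : k ≠ 0 := by rw [hk]; exact mul_ne_zero hc hb
    have e : v - k • u = (-k) • (u - k • v) := by
      rw [smul_sub, smul_smul, neg_mul, (h3 k hk0).2, neg_smul, neg_smul, one_smul]
      abel
    have hE : Q (u - k • v) = c := by rw [hk, ← hb', ← happly v hv u, Classical.Refl.Q_act, hu]
    have hE' : Q ((-k) • (u - k • v)) = c := by
      rw [← e, hk, ← happly u hu v, Classical.Refl.Q_act, hv]
    simp only [hb', ← hk]
    simp only [e]
    exact hsm (-k) _ hE hE' (neg_ne_zero.2 hk0)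
  have hcomm : ∀ u hu v hv, QuadraticMap.polar Q u v = 0 → R u hu * R v hv * R u hu = R v hv := by
    intro u hu v hv hb
    refine Subtype.ext ?_
    show rr u hu * rr v hv * rr u hu = rr v hv
    rw [hconj u hu v hv]
    simp only [hb, mul_zero, zero_smul, sub_zero]
  have hcl : ∀ u hu v hv, QuadraticMap.polar Q u v ≠ 0 → IsConj (R u hu) (R v hv) := by
    intro u hu v hv hb
    refine isConj_iff.2 ⟨R u hu * R v hv, ?_⟩
    have hi : (R u hu * R v hv)⁻¹ = R v hv * R u hu := by
      rw [_root_.mul_inv_rev, inv_eq_of_mul_eq_one_right (hsq v hv), inv_eq_of_mul_eq_one_right (hsq u hu)]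
    calc R u hu * R v hv * R u hu * (R u hu * R v hv)⁻¹ = (R u hu * R v hv * R u hu) * (R v hv * R u hu) := by rw [hi]
      _ = R v hv * R u hu * (R v hv * R v hv) * R u hu := by rw [hbraid u hu v hv hb]; group
      _ = R v hv := by rw [hsq v hv, mul_one, mul_assoc, hsq u hu, mul_one]
  have hall : ∀ u hu v hv, IsConj (R u hu) (R v hv) := by
    intro u hu v hv
    by_cases hb : QuadraticMap.polar Q u v ≠ 0
    · exact hcl u hu v hv hb
    rw [not_not] at hb
    have huu : QuadraticMap.polar Q u u = -c := by rw [Classical.WittExt.polar_self_eq, hu, h2c]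
    have hvv : QuadraticMap.polar Q v v = -c := by rw [Classical.WittExt.polar_self_eq, hv, h2c]
    have hvu : QuadraticMap.polar Q v u = 0 := by rw [QuadraticMap.polar_comm]; exact hb
    let P : Submodule (ZMod 3) (Fin n → ZMod 3) := Submodule.span (ZMod 3) (Set.range ![u, v])
    let S := LinearMap.BilinForm.orthogonal (QuadraticMap.polarBilin Q) P
    have hrefl : (QuadraticMap.polarBilin Q).IsRefl := fun x y h => by
      show QuadraticMap.polar Q y x = 0
      rw [QuadraticMap.polar_comm]; exact h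
    have hu_mem : u ∈ P := Submodule.subset_span ⟨0, rfl⟩
    have hv_mem : v ∈ P := Submodule.subset_span ⟨1, rfl⟩
    have hSdisj : S ⊓ LinearMap.BilinForm.orthogonal (QuadraticMap.polarBilin Q) S = ⊥ := by
      rw [LinearMap.BilinForm.orthogonal_orthogonal hQ hrefl, Submodule.eq_bot_iff]
      rintro x ⟨hxS, hxP⟩
      obtain ⟨g, rfl⟩ := Submodule.mem_span_range_iff_exists_fun (ZMod 3) |>.1 hxP
      have e1 : QuadraticMap.polar Q u (∑ i, g i • ![u, v] i) = 0 := hxS u hu_mem
      have e2 : QuadraticMap.polar Q v (∑ i, g i • ![u, v] i) = 0 := hxS v hv_mem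
      simp [Fin.sum_univ_two, QuadraticMap.polar_add_right, QuadraticMap.polar_smul_right, huu, hvv, hb, hvu, hc] at e1 e2
      simp [Fin.sum_univ_two, e1, e2]
    have hdim : 2 ≤ Module.finrank (ZMod 3) S := by
      rw [LinearMap.BilinForm.finrank_orthogonal hQ, Module.finrank_pi, Fintype.card_fin]
      have hP : Module.finrank (ZMod 3) P ≤ 2 :=
        (finrank_range_le_card (R := ZMod 3) ![u, v]).trans_eq (Fintype.card_fin 2)
      omega
    obtain ⟨z, hzS, hz⟩ := OmegaTrans.exists_value Q hQ hSdisj hdim (neg_ne_zero.2 hc)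
    have hzu : QuadraticMap.polar Q u z = 0 := hzS u hu_mem
    have hzv : QuadraticMap.polar Q v z = 0 := hzS v hv_mem
    have hw : Q (u + v + z) = c := by
      rw [QuadraticMap.map_add (⇑Q), QuadraticMap.map_add (⇑Q), QuadraticMap.polar_add_left, hu, hv, hz, hb, hzu, hzv]
      ring
    have h1 : QuadraticMap.polar Q u (u + v + z) ≠ 0 := by
      rw [QuadraticMap.polar_add_right, QuadraticMap.polar_add_right, huu, hb, hzu, add_zero, add_zero]
      exact neg_ne_zero.2 hc
    have h2 : QuadraticMap.polar Q (u + v + z) v ≠ 0 := by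
      rw [QuadraticMap.polar_comm, QuadraticMap.polar_add_right, QuadraticMap.polar_add_right, hvu, hvv, hzv, zero_add, add_zero]
      exact neg_ne_zero.2 hc
    exact (hcl u hu _ hw h1).trans (hcl _ hw v hv h2)
  have hne : ∀ v hv, R v hv ≠ 1 := fun v hv h => by
    have e : rr v hv = 1 := congrArg Subtype.val h
    have e2 := happly v hv v
    rw [e, Classical.Refl.act_one, Classical.WittExt.polar_self_eq, hv, h2c, mul_neg, (h3 c hc).2, neg_smul,
      one_smul, sub_neg_eq_add, left_eq_add] at e2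
    exact hc (by rw [← hv, e2, QuadraticMap.map_zero])
  obtain ⟨v₀, hv₀⟩ : ∃ v, Q v = c := by
    obtain ⟨v, -, hv⟩ := OmegaTrans.exists_value Q hQ (S := ⊤) (by
      rw [top_inf_eq, Submodule.eq_bot_iff]
      exact fun x hx => hQ.1 x fun y => by
        show QuadraticMap.polar Q x y = 0
        rw [QuadraticMap.polar_comm]; exact hx y trivial)
      (by rw [finrank_top, Module.finrank_pi, Fintype.card_fin]; omega) hc
    exact ⟨v, hv⟩
  refine ⟨⟨fun d hd => ?_, fun d hd d' hd' => ?_⟩, ⟨R v₀ hv₀, (hDR _).2 ⟨v₀, hv₀, rfl⟩, Set.ext fun g => ⟨fun hg => ?_, fun hg => ?_⟩⟩, ?_⟩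
  · obtain ⟨v, hv, rfl⟩ := (hDR d).1 hd
    exact orderOf_eq_prime (by rw [pow_two]; exact hsq v hv) (hne v hv)
  · obtain ⟨u, hu, rfl⟩ := (hDR d).1 hd
    obtain ⟨v, hv, rfl⟩ := (hDR d').1 hd'
    by_cases hb : QuadraticMap.polar Q u v = 0
    · left
      calc (R u hu * R v hv) ^ 2 = (R u hu * R v hv * R u hu) * R v hv := by rw [pow_two]; group
        _ = 1 := by rw [hcomm u hu v hv hb, hsq v hv]
    · right
      calc (R u hu * R v hv) ^ 3 = (R u hu * R v hv * R u hu) * (R v hv * R u hu * R v hv) := by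
            rw [pow_succ, pow_two]; group
        _ = R v hv * R u hu * (R v hv * R v hv) * R u hu * R v hv := by rw [hbraid u hu v hv hb]; group
        _ = 1 := by rw [hsq v hv, mul_one, mul_assoc (R v hv), hsq u hu, mul_one, hsq v hv]
  · obtain ⟨v, hv, rfl⟩ := (hDR g).1 hg
    exact hall v₀ hv₀ v hv
  · replace hg : IsConj (R v₀ hv₀) g := hg
    rw [isConj_iff] at hg
    obtain ⟨k, rfl⟩ := hg
    refine (hDR _).2 ⟨Classical.Refl.act Q (k : Classical.Refl.O Q) v₀, by rw [Classical.Refl.Q_act, hv₀], Subtype.ext ?_⟩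
    exact Classical.Refl.refl_conj Q (k : Classical.Refl.O Q) v₀ (hv₀ ▸ hc)
  · exact Subgroup.closure_closure_coe_preimage

end Cfsg.Agent.S5357
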