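import Cfsg.Statements.S5358
import Cfsg.Agent.Lib.Classical.OmegaTrans

set_option autoImplicit false
open scoped MatrixGroups
open Cfsg

namespace Cfsg.Agent.S5358

/-- Let Q be a non-degenerate quadratic form on the n-dimensional coordinate space over the field with three elements and u, v vectors of the same non-zero norm Q(u) = Q(v) spanning different lines (v ≠ u and v ≠ −u). Then the reflection matrices of u and v commute if and only if u and v are orthogonal for the polar form of Q. -/
theorem result (n : ℕ) (Q : QuadraticForm (ZMod 3) (Fin n → ZMod 3)) (hQ : (QuadraticMap.polarBilin Q).Nondegenerate) (u v : Fin n → ZMod 3) (hu : Q u ≠ 0) (huv : Q u = Q v) (h1 : v ≠ u) (h2 : v ≠ -u) : Commute (Cfsg.reflectionMatrix (⇑Q) u) (Cfsg.reflectionMatrix (⇑Q) v) ↔ QuadraticMap.polar (⇑Q) u v = 0 := by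
  have key : ∀ a : ZMod 3, a ≠ 0 → a * a = 1 := by decide
  have h2c : ∀ a : ZMod 3, 2 * a = -a := by decide
  have h3 : ∀ a : ZMod 3, a = 0 ∨ a = 1 ∨ a = -1 := by decide
  obtain ⟨c, hc⟩ : ∃ c, c = Q u := ⟨_, rfl⟩
  have hv : Q v = c := by rw [hc, huv]
  have hc0 : c ≠ 0 := hc ▸ hu
  have hinv : c⁻¹ = c := inv_eq_of_mul_eq_one_right (key c hc0)
  have hru : ∀ x, (Cfsg.reflectionMatrix (⇑Q) u).mulVec x = x - (c * QuadraticMap.polar Q u x) • u := fun x => by
    rw [Classical.Quad.reflection_mulVec, ← hc, hinv]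
  have hrv : ∀ x, (Cfsg.reflectionMatrix (⇑Q) v).mulVec x = x - (c * QuadraticMap.polar Q v x) • v := fun x => by
    rw [Classical.Quad.reflection_mulVec, hv, hinv]
  have hvu : QuadraticMap.polar Q v u = QuadraticMap.polar Q u v := QuadraticMap.polar_comm _ _ _
  constructor
  · intro h
    by_contra hb
    have hvv : QuadraticMap.polar Q v v = -c := by rw [Classical.WittExt.polar_self_eq, hv, h2c]
    obtain ⟨k, hk⟩ : ∃ k, k = c * QuadraticMap.polar Q u v := ⟨_, rfl⟩
    have hk0 : k ≠ 0 := by rw [hk]; exact mul_ne_zero hc0 hb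
    have hcc : c * -c = (-1 : ZMod 3) := by rw [mul_neg, key c hc0]
    have hv' : (Cfsg.reflectionMatrix (⇑Q) v).mulVec v = -v := by
      rw [hrv, hvv, hcc]
      funext i
      exact (show ∀ a : ZMod 3, a - (-1) * a = -a by decide) (v i)
    have e := congrArg (fun M => Matrix.mulVec M v) h.eq
    simp only [← Matrix.mulVec_mulVec, hv', hru v, ← hk] at e
    rw [Matrix.mulVec_sub, Matrix.mulVec_smul, hv', hrv u, hvu, ← hk, Matrix.mulVec_neg, hru v, ← hk] at e
    have hvk : v = (-k) • u := funext fun i => by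
      have ei := congrFun e i
      simp only [Pi.sub_apply, Pi.neg_apply, Pi.smul_apply, smul_eq_mul] at ei ⊢
      have gen : ∀ a b k : ZMod 3, k ≠ 0 → -(a - k * b) = -a - k * (b - k * a) → a = -k * b := by decide
      exact gen _ _ _ hk0 ei
    rcases h3 k with hk' | hk' | hk'
    · exact hk0 hk'
    · rw [hk', neg_one_smul] at hvk; exact h2 hvk
    · rw [hk', neg_neg, one_smul] at hvk; exact h1 hvk
  · intro hb
    refine Matrix.toLin'.injective (LinearMap.ext fun x => ?_)
    rw [Matrix.toLin'_apply, Matrix.toLin'_apply]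
    simp only [← Matrix.mulVec_mulVec, hru, hrv, QuadraticMap.polar_sub_right, QuadraticMap.polar_smul_right,
      hvu, hb, smul_zero, sub_zero]
    abel

end Cfsg.Agent.S5358
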