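import Cfsg.Statements.S5361
import Cfsg.Agent.Lib.Solv.ThreeTransLayer
-- import your own Cfsg.Agent.* helpers here

set_option autoImplicit false
open Cfsg
open scoped commutatorElement

namespace Cfsg.Agent.S5361

/-- Let D be a conjugacy class of 3-transpositions generating the finite group G, and suppose the centre of G is trivial and some two different members of D commute. Then the following are equivalent: (1) the commutator subgroup of G is simple (possibly of prime order); (2) G acts primitively on D by conjugation; (3) the largest normal 2-subgroup and the largest normal 3-subgroup of G are trivial and the commuting graph of D is connected. -/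
theorem result {G : Type*} [Group G] [Finite G] {D : Set G} (hD : Cfsg.IsThreeTranspositionClass D) (hZ : Subgroup.center G = ⊥) (hw : ∃ a ∈ D, ∃ b ∈ D, a ≠ b ∧ Commute a b) : (IsSimpleGroup (commutator G) ↔ Cfsg.IsPrimitiveUnderConj D) ∧ (Cfsg.IsPrimitiveUnderConj D ↔ (Cfsg.pCore 2 G = ⊥ ∧ Cfsg.pCore 3 G = ⊥ ∧ (Cfsg.commutingGraph D).Connected)) := by
  
  have h := Cfsg.Agent.Solv.ThreeTrans.TT.of_class hD
  have hD2 : ∃ a ∈ D, ∃ b ∈ D, a ≠ b := by
    obtain ⟨a, ha, b, hb, hne, -⟩ := hw
    exact ⟨a, ha, b, hb, hne⟩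
  haveI : Fact (Nat.Prime 2) := ⟨Nat.prime_two⟩
  have key : ∀ (h2 : Cfsg.pCore 2 G ≤ Subgroup.center G) (h3 : Cfsg.pCore 3 G ≤ Subgroup.center G),
      (Cfsg.layer G).index ≤ 2 → commutator G = Cfsg.layer G ∧ IsSimpleGroup (Cfsg.layer G) := by
    intro h2 h3 hi
    obtain ⟨hc, hn, hF⟩ := h.exists_layer_component hD hD2 h2 h3
    haveI := hn
    have hle : commutator G ≤ Cfsg.layer G := by
      have h0 : (Cfsg.layer G).index ≠ 0 := Subgroup.index_ne_zero_of_finite
      have hcyc : IsCyclic (G ⧸ Cfsg.layer G) := by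
        rcases (show (Cfsg.layer G).index = 1 ∨ (Cfsg.layer G).index = 2 by omega) with e | e
        · haveI : Subsingleton (G ⧸ Cfsg.layer G) := Finite.card_le_one_iff_subsingleton.mp e.le
          infer_instance
        · exact isCyclic_of_prime_card (p := 2) e
      rw [commutator_def, Subgroup.commutator_le]
      intro a _ b _
      rw [← QuotientGroup.eq_one_iff]
      obtain ⟨g, hg⟩ := hcyc.exists_generator
      obtain ⟨i, hi⟩ := Subgroup.mem_zpowers_iff.mp (hg (a : G ⧸ Cfsg.layer G))
      obtain ⟨j, hj⟩ := Subgroup.mem_zpowers_iff.mp (hg (b : G ⧸ Cfsg.layer G))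
      have e : ((⁅a, b⁆ : G) : G ⧸ Cfsg.layer G) = ⁅(a : G ⧸ Cfsg.layer G), (b : G ⧸ Cfsg.layer G)⁆ :=
        map_commutatorElement (QuotientGroup.mk' (Cfsg.layer G)) a b
      rw [e, ← hi, ← hj, commutatorElement_eq_one_iff_commute]
      exact ((Commute.refl g).zpow_left i).zpow_right j
    refine ⟨le_antisymm hle ?_, ?_⟩
    · conv_lhs => rw [← Cfsg.Agent.Local.layer_commutator]
      exact Subgroup.commutator_mono le_top le_top
    · haveI := hc.2.2
      have hbot : Subgroup.center (Cfsg.layer G) = ⊥ := by
        have e := Cfsg.Agent.Local.center_layer_eq (G := G)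
        rw [h.fitting_eq_center hD h2 h3, hZ, bot_inf_eq, Subgroup.map_eq_bot_iff_of_injective _ (Cfsg.layer G).subtype_injective] at e
        exact e
      exact ((QuotientGroup.quotientMulEquivOfEq hbot).trans QuotientGroup.quotientBot).symm.isSimpleGroup
  constructor
  · constructor
    · intro hS
      haveI := hS
      obtain ⟨a, ha, b, hb, hne, hab⟩ := hw
      have hsub : ∀ (p : ℕ) [Fact p.Prime], Cfsg.pCore p G ≤ Subgroup.center G ∨ commutator G ≤ Cfsg.pCore p G := by
        intro p _
        haveI : ((Cfsg.pCore p G).subgroupOf (commutator G)).Normal := inferInstance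
        rcases hS.eq_bot_or_eq_top_of_normal ((Cfsg.pCore p G).subgroupOf (commutator G)) inferInstance with e | e
        · refine Or.inl fun n hn => Subgroup.mem_center_iff.mpr fun g => ?_
          have hm : ⁅g, n⁆ ∈ commutator G := Subgroup.commutator_mem_commutator (Subgroup.mem_top _) (Subgroup.mem_top _)
          have hp : ⁅g, n⁆ ∈ Cfsg.pCore p G :=
            by
              rw [commutatorElement_def]
              exact Subgroup.mul_mem _ ((inferInstance : (Cfsg.pCore p G).Normal).conj_mem n hn g) (Subgroup.inv_mem _ hn)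
          have := e.le (show (⟨_, hm⟩ : commutator G) ∈ (Cfsg.pCore p G).subgroupOf (commutator G) from hp)
          exact commutatorElement_eq_one_iff_mul_comm.mp (congrArg Subtype.val (Subgroup.mem_bot.mp this))
        · exact Or.inr (Subgroup.subgroupOf_eq_top.mp e)
      haveI : Fact (Nat.Prime 3) := ⟨Nat.prime_three⟩
      have hprod : ∀ x ∈ D, ∀ y ∈ D, x * y ∈ commutator G := by
        intro x hx y hy
        obtain ⟨g, rfl⟩ := Cfsg.Agent.Solv.ThreeTrans.class_conj hD hx hy
        rw [show x * (g * x * g⁻¹) = ⁅x, g⁆ * (x * x) by rw [commutatorElement_def, h.mul_self hx]; nth_rw 2 [← h.inv_eq hx]; group,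
          h.mul_self hx, mul_one]
        exact Subgroup.commutator_mem_commutator (Subgroup.mem_top _) (Subgroup.mem_top _)
      have h2 : Cfsg.pCore 2 G ≤ Subgroup.center G := (hsub 2).resolve_right fun hle => by
        obtain ⟨e, he, hn⟩ := Cfsg.Agent.Solv.ThreeTrans.class_exists_not_commute hD hD2 ha
        exact hn (h.commute_of_mem ha he (Cfsg.Agent.Solv.isPGroup_pCore 2 G) (hle (hprod a ha e he)))
      have h3 : Cfsg.pCore 3 G ≤ Subgroup.center G := (hsub 3).resolve_right fun hle =>
        h.not_commute_of_mem ha hb (Cfsg.Agent.Solv.isPGroup_pCore 3 G) (hle (hprod a ha b hb)) hne hab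
      obtain ⟨hc, hn, hF⟩ := h.exists_layer_component hD hD2 h2 h3
      haveI := hn
      have hle : Cfsg.layer G ≤ commutator G := by
        conv_lhs => rw [← Cfsg.Agent.Local.layer_commutator]
        exact Subgroup.commutator_mono le_top le_top
      haveI : ((Cfsg.layer G).subgroupOf (commutator G)).Normal := inferInstance
      have heq : commutator G ≤ Cfsg.layer G := by
        rcases hS.eq_bot_or_eq_top_of_normal ((Cfsg.layer G).subgroupOf (commutator G)) inferInstance with e | e
        · exfalso
          refine h.layer_ne_bot hD hD2 h2 h3 ((eq_bot_iff).mpr fun x hx => ?_)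
          have := e.le (show (⟨x, hle hx⟩ : commutator G) ∈ (Cfsg.layer G).subgroupOf (commutator G) from hx)
          exact Subgroup.mem_bot.mpr (congrArg Subtype.val (Subgroup.mem_bot.mp this))
        · exact Subgroup.subgroupOf_eq_top.mp e
      refine h.primitive_of_index hD hD2 h2 h3 hc.2 hF (Cfsg.Agent.Solv.ThreeTrans.index_le_two_of_zpowers (Cfsg.layer G) (h.order_two ha) ?_)
      refine top_le_iff.mp (hD.2.2.ge.trans ((Subgroup.closure_le _).mpr fun x hx => ?_))
      have := Subgroup.mul_mem _ (Subgroup.mem_sup_right (Subgroup.mem_zpowers a) : a ∈ Cfsg.layer G ⊔ Subgroup.zpowers a)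
        (Subgroup.mem_sup_left (heq (hprod a ha x hx)))
      rwa [← mul_assoc, h.mul_self ha, one_mul] at this
    · intro hp
      obtain ⟨h2, h3⟩ := h.cores_of_primitive hD hp hw
      obtain ⟨hc, hn, hF⟩ := h.exists_layer_component hD hD2 h2 h3
      haveI := hn
      obtain ⟨e, hs⟩ := key h2 h3 (h.connected_index hD hc.2 (Cfsg.Agent.Solv.ThreeTrans.connected_of_primitive h hp hw))
      rw [e]; exact hs
  · constructor
    · intro hp
      obtain ⟨h2, h3⟩ := h.cores_of_primitive hD hp hw
      exact ⟨le_bot_iff.mp (hZ ▸ h2), le_bot_iff.mp (hZ ▸ h3), Cfsg.Agent.Solv.ThreeTrans.connected_of_primitive h hp hw⟩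
    · rintro ⟨e2, e3, hconn⟩
      have h2 : Cfsg.pCore 2 G ≤ Subgroup.center G := by rw [e2]; exact bot_le
      have h3 : Cfsg.pCore 3 G ≤ Subgroup.center G := by rw [e3]; exact bot_le
      obtain ⟨hc, hn, hF⟩ := h.exists_layer_component hD hD2 h2 h3
      haveI := hn
      exact h.primitive_of_index hD hD2 h2 h3 hc.2 hF (h.connected_index hD hc.2 hconn)

end Cfsg.Agent.S5361
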