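import Cfsg.Statements.S5363
import Mathlib
-- import your own Cfsg.Agent.* helpers here

set_option autoImplicit false
open Cfsg

namespace Cfsg.Agent.S5363

/-- Let D be a conjugation-invariant set of involutions of a finite group G. Then every product of two members of D has odd order or order 2 if and only if, for every a in D and every b in D different from a and commuting with a, the members of D commuting with a b are exactly those commuting with both a and b. -/
theorem result {G : Type*} [Group G] [Finite G] {D : Set G} (hinv : ∀ d ∈ D, orderOf d = 2) (hconj : ∀ g : G, ∀ d ∈ D, g * d * g⁻¹ ∈ D) : (∀ a ∈ D, ∀ b ∈ D, Odd (orderOf (a * b)) ∨ orderOf (a * b) = 2) ↔ ∀ a ∈ D, ∀ b ∈ D, b ≠ a → Commute a b → {y : G | y ∈ D ∧ Commute (a * b) y} = {y : G | y ∈ D ∧ Commute a y} ∩ {y : G | y ∈ D ∧ Commute b y} := by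
  skip
  classical
  have hsq : ∀ d ∈ D, d * d = 1 := fun d hd => by
    rw [← pow_two, ← hinv d hd]; exact pow_orderOf_eq_one d
  have hi : ∀ d ∈ D, d⁻¹ = d := fun d hd => inv_eq_of_mul_eq_one_right (hsq d hd)
  constructor
  · intro h a ha b hb hba hab
    ext y
    simp only [Set.mem_ofPred_eq, Set.mem_inter_iff]
    constructor
    · rintro ⟨hy, hyc⟩
      suffices hay : Commute a y by
        refine ⟨⟨hy, hay⟩, hy, ?_⟩
        have h1 : Commute (a * (a * b)) y := hay.mul_left hyc
        rwa [← mul_assoc, hsq a ha, one_mul] at h1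
      set a' := y * a * y⁻¹ with ha'
      have ha'D : a' ∈ D := hconj y a ha
      have hac : Commute (a * b) a' := by
        have h1 : Commute (a * b) a := (show Commute a a from rfl).mul_left hab.symm
        exact (hyc.mul_right h1).mul_right hyc.inv_right
      by_contra hne
      have hne' : a' ≠ a := fun e => hne ((mul_inv_eq_iff_eq_mul.mp e).symm)
      have hab2 : orderOf (a * b) = 2 := by
        refine orderOf_eq_prime ?_ ?_
        · rw [hab.mul_pow, pow_two, pow_two, hsq a ha, hsq b hb, one_mul]
        · intro e; exact hba (((eq_inv_of_mul_eq_one_left e).trans (hi b hb)).symm)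
      have h1 : Commute (a * b) (a' * a) := hac.mul_right ((show Commute a a from rfl).mul_left hab.symm)
      have hbe : a' * b = (a' * a) * (a * b) := by
        rw [show a' * a * (a * b) = a' * (a * a) * b by group, hsq a ha, mul_one]
      have ho : orderOf (a' * a) ≠ 1 := fun e => hne' ((eq_inv_of_mul_eq_one_left (orderOf_eq_one_iff.mp e)).trans (hi a ha))
      rcases h a' ha'D a ha with hodd | htwo
      · have e1 : orderOf (a' * b) = orderOf (a' * a) * 2 := by
          rw [hbe, ← hab2]
          exact h1.symm.orderOf_mul_eq_mul_orderOf_of_coprime (by rw [hab2]; exact Nat.coprime_two_right.mpr hodd)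
        rcases h a' ha'D b hb with h2 | h2
        · rw [e1] at h2; exact (Nat.not_odd_iff_even.mpr ⟨orderOf (a' * a), by ring⟩) h2
        · omega
      · -- two commuting conjugates of `a`
        apply hne
        have hcaa' : Commute a' a := by
          have e := pow_orderOf_eq_one (a' * a)
          rw [htwo, pow_two] at e
          calc a' * a = (a' * a)⁻¹ := (inv_eq_of_mul_eq_one_right e).symm
            _ = a⁻¹ * a'⁻¹ := mul_inv_rev _ _
            _ = a * a' := by rw [hi a ha, hi a' ha'D]
        have hya : a' = y * a * y := by rw [ha', hi y hy]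
        rcases h a ha y hy with h3 | h3
        · exfalso
          have e : a' * a = (y * a) * (y * a) := by rw [hya]; group
          have e2 : a * y = (y * a)⁻¹ := by rw [mul_inv_rev, hi y hy, hi a ha]
          rw [e2, orderOf_inv] at h3
          rw [e, ← pow_two, orderOf_pow' _ (by norm_num), Nat.Coprime.gcd_eq_one (Nat.coprime_two_right.mpr h3), Nat.div_one] at htwo
          rw [htwo] at h3
          exact (Nat.not_odd_iff_even.mpr ⟨1, rfl⟩) h3
        · have e := pow_orderOf_eq_one (a * y)
          rw [h3, pow_two] at e
          show a * y = y * a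
          calc a * y = (a * y)⁻¹ := (inv_eq_of_mul_eq_one_right e).symm
            _ = y⁻¹ * a⁻¹ := mul_inv_rev _ _
            _ = y * a := by rw [hi a ha, hi y hy]
    · rintro ⟨⟨hy, h1⟩, _, h2⟩
      exact ⟨hy, h1.mul_left h2⟩
  · intro h a ha b hb
    by_contra hne
    push Not at hne
    obtain ⟨hnodd, hne2⟩ := hne
    obtain ⟨m, hm⟩ := Nat.not_odd_iff_even.mp hnodd
    set r := a * b with hr
    set w := r ^ m with hw
    have hpos : 0 < orderOf r := orderOf_pos r
    have hw1 : w ≠ 1 := fun e => by
      have := Nat.le_of_dvd (by omega) (orderOf_dvd_of_pow_eq_one e)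
      omega
    have hw2 : w * w = 1 := by rw [hw, ← pow_add, ← hm]; exact pow_orderOf_eq_one r
    have hwi : w⁻¹ = w := inv_eq_of_mul_eq_one_right hw2
    have hca : ∀ n : ℕ, a * r ^ n * a = (r ^ n)⁻¹ := by
      intro n
      induction n with
      | zero => simp [hsq a ha]
      | succ n ih =>
        have hra : a * r * a = r⁻¹ := by
          rw [hr, mul_inv_rev, hi a ha, hi b hb, ← mul_assoc a a b, hsq a ha, one_mul]
        calc a * r ^ (n + 1) * a = (a * r ^ n * a) * (a⁻¹ * r * a) := by rw [pow_succ]; group
          _ = (r ^ n)⁻¹ * r⁻¹ := by rw [ih, hi a ha, hra]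
          _ = (r ^ (n + 1))⁻¹ := by rw [pow_succ', mul_inv_rev r (r ^ n)]
    have hwa : Commute a w := by
      have e := hca m
      rw [← hw, hwi] at e
      show a * w = w * a
      calc a * w = a * w * (a * a) := by rw [hsq a ha, mul_one]
        _ = a * w * a * a := by group
        _ = w * a := by rw [e]
    have hwb : Commute b w := by
      have : b = a * r := by rw [hr, ← mul_assoc, hsq a ha, one_mul]
      rw [this]
      exact hwa.mul_left ((Commute.refl r).pow_right m)
    have hD : w * a ∈ D := by
      obtain ⟨j, hj | hj⟩ := Nat.even_or_odd' m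
      · have : w * a = r ^ j * a * (r ^ j)⁻¹ := by
          rw [← hca j, hw, hj, two_mul, pow_add,
            show r ^ j * a * (a * r ^ j * a) = r ^ j * (a * a) * r ^ j * a by group, hsq a ha, mul_one]
        rw [this]; exact hconj _ a ha
      · have : w * a = (r ^ j * a) * b * (r ^ j * a)⁻¹ := by
          calc w * a = r ^ j * r * (r ^ j * a) := by rw [hw, hj, pow_succ, two_mul, pow_add]; group; 
            _ = r ^ j * (a * b) * (a * (a * r ^ j * a)) := by
              rw [hr, show a * (a * (a * b) ^ j * a) = (a * a) * (a * b) ^ j * a by group, hsq a ha, one_mul]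
            _ = r ^ j * a * b * (r ^ j * a)⁻¹ := by rw [hca j, mul_inv_rev, hi a ha]; group
        rw [this]; exact hconj _ b hb
    have hne : w * a ≠ a := fun e => hw1 (mul_eq_right.mp e)
    have hc : Commute a (w * a) := hwa.mul_right (Commute.refl a)
    have hset := h a ha (w * a) hD hne hc
    have : b ∈ {y : G | y ∈ D ∧ Commute (a * (w * a)) y} := by
      refine ⟨hb, ?_⟩
      rw [← mul_assoc, hwa.eq, mul_assoc, hsq a ha, mul_one]
      exact hwb.symm
    rw [hset] at this
    have hab : Commute a b := this.1.2
    have : r ^ 2 = 1 := by rw [hr, hab.mul_pow, pow_two, pow_two, hsq a ha, hsq b hb, one_mul]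
    have hd := Nat.le_of_dvd (by norm_num) (orderOf_dvd_of_pow_eq_one this)
    omega

end Cfsg.Agent.S5363
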