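import Cfsg.Statements.S5364
import Cfsg.Agent.Lib.Solv.ThreeTrans
-- import your own Cfsg.Agent.* helpers here

set_option autoImplicit false
open Cfsg

namespace Cfsg.Agent.S5364

/-- Let D be a conjugation-invariant set of involutions of a finite group G and t an involution in the centre of G such that d t does not lie in D for any d in D. If the images of the members of D in G modulo the subgroup generated by t satisfy the 3-transposition order conditions (each has order 2 and any two have product of order at most 3), then so do the members of D. -/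
theorem result {G : Type*} [Group G] [Finite G] {D : Set G} (hinv : ∀ d ∈ D, orderOf d = 2) (hconj : ∀ g : G, ∀ d ∈ D, g * d * g⁻¹ ∈ D) (t : G) (ht : orderOf t = 2) (htZ : t ∈ Subgroup.center G) (hDt : ∀ d ∈ D, d * t ∉ D) [(Subgroup.zpowers t).Normal] (himg : Cfsg.IsThreeTranspositionSet ((QuotientGroup.mk : G → G ⧸ Subgroup.zpowers t) '' D)) : Cfsg.IsThreeTranspositionSet D := by
  
  refine ⟨hinv, fun d hd e he => ?_⟩
  have hd2 : d * d = 1 := by have := pow_orderOf_eq_one d; rwa [hinv d hd, pow_two] at this
  have he2 : e * e = 1 := by have := pow_orderOf_eq_one e; rwa [hinv e he, pow_two] at this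
  have ht2 : t * t = 1 := by have := pow_orderOf_eq_one t; rwa [ht, pow_two] at this
  have hdi : d⁻¹ = d := inv_eq_of_mul_eq_one_right hd2
  have hei : e⁻¹ = e := inv_eq_of_mul_eq_one_right he2
  have hz : ∀ x ∈ Subgroup.zpowers t, x = 1 ∨ x = t := by
    intro x hx
    obtain ⟨i, hi⟩ := mem_powers_iff_mem_zpowers.mpr hx
    simp only at hi
    rw [← pow_mod_orderOf, ht] at hi
    rcases Nat.mod_two_eq_zero_or_one i with hm | hm <;> rw [hm] at hi
    · exact Or.inl (by simpa using hi.symm)
    · exact Or.inr (by simpa using hi.symm)
  rcases himg.2 _ ⟨d, hd, rfl⟩ _ ⟨e, he, rfl⟩ with h | h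
  · rw [← QuotientGroup.mk_mul, ← QuotientGroup.mk_pow, QuotientGroup.eq_one_iff] at h
    rcases hz _ h with h1 | h1
    · exact Or.inl h1
    · exfalso
      refine hDt d hd ?_
      have hm : e * d * e ∈ D := by have := hconj e d hd; rwa [hei] at this
      have e1 : e * d * e = d * t := by
        calc e * d * e = d⁻¹ * ((d * e) ^ 2) := by rw [pow_two]; group
          _ = d * t := by rw [h1, hdi]
      rwa [e1] at hm
  · rw [← QuotientGroup.mk_mul, ← QuotientGroup.mk_pow, QuotientGroup.eq_one_iff] at h
    rcases hz _ h with h1 | h1
    · exact Or.inr h1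
    · exfalso
      have hm : e * d * e ∈ D := by have := hconj e d hd; rwa [hei] at this
      have hm2 : d * (e * d * e) * d ∈ D := by have := hconj d _ hm; rwa [hdi] at this
      refine hDt e he ?_
      have e1 : d * (e * d * e) * d = e * t := by
        have e2 : d * (e * d * e) * d * e = t := by rw [← h1, pow_succ, pow_two]; group
        calc d * (e * d * e) * d = d * (e * d * e) * d * e * e⁻¹ := by group
          _ = t * e := by rw [e2, hei]
          _ = e * t := (Subgroup.mem_center_iff.mp htZ e).symm
      rwa [e1] at hm2

end Cfsg.Agent.S5364
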