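import Cfsg.Statements.S5366
import Cfsg.Agent.Lib.Solv.FischerMaps
open Cfsg.Agent.Solv.FischerMaps

set_option autoImplicit false
open Cfsg

namespace Cfsg.Agent.S5366

/-- Let L be a nondegenerate Fischer space on the point type X (every point on a line). Then for every point x the map t(x) — sending a point collinear with x to the third point of their common line and fixing every other point — is a permutation of X of order 2 and an automorphism of the line system; and the set of all t(x) satisfies the 3-transposition order conditions in the permutation group of X (any two have product of order at most 3). -/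
theorem result {X : Type*} (L : Set (Set X)) (hL : Cfsg.IsFischerSpace L) (hnd : Cfsg.LineSystem.IsNondegenerate L) : (∀ x : X, ∃ σ : Equiv.Perm X, ⇑σ = Cfsg.LineSystem.lineMap L x ∧ orderOf σ = 2 ∧ Cfsg.LineSystem.IsIso L L σ) ∧ Cfsg.IsThreeTranspositionSet {σ : Equiv.Perm X | ∃ x : X, ⇑σ = Cfsg.LineSystem.lineMap L x} := by
  have hc : ∀ {σ : Equiv.Perm X} {x : X}, ⇑σ = LineSystem.lineMap L x → σ = perm hL x :=
    fun h => Equiv.ext fun a => congrFun h a
  refine ⟨fun x => ⟨perm hL x, rfl, ?_, perm_isIso hL x⟩, ?_, ?_⟩
  · exact orderOf_eq_prime (by rw [pow_two, perm_sq]) (perm_ne_one hL hnd x)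
  · rintro d ⟨x, hx⟩
    obtain rfl := hc hx
    exact orderOf_eq_prime (by rw [pow_two, perm_sq]) (perm_ne_one hL hnd x)
  · rintro d ⟨x, hx⟩ e ⟨y, hy⟩
    obtain rfl := hc hx
    obtain rfl := hc hy
    have h1 := perm_conj hL x y
    rcases lineMap_cases hL.1 hL.2.1 x y with ⟨e1, -⟩ | ⟨l, hl, hxl, hyl, hzl, hxy, hzx, hzy⟩
    · left
      rw [e1] at h1
      rw [pow_two, ← mul_assoc, h1, perm_sq]
    · right
      have h2 := perm_conj hL y x
      rw [lineMap_line hL.1 hL.2.1 hl hyl hxl hzl hxy.symm hzy hzx] at h2
      calc (perm hL x * perm hL y) ^ 3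
          = (perm hL x * perm hL y * perm hL x) * (perm hL y * perm hL x * perm hL y) := by
            simp only [pow_succ, pow_zero, one_mul, mul_assoc]
        _ = 1 := by rw [h1, h2, perm_sq]

end Cfsg.Agent.S5366
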