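import Cfsg.Statements.S5394
import Cfsg.Agent.Lib.Golay.FixedBlocks

set_option autoImplicit false
open Cfsg

namespace Cfsg.Agent.S5394

open Cfsg.Agent.Golay

theorem fixA : (Finset.univ.filter fun p => tperm invA p = p) ∈ octads := by
  obtain ⟨⟨hA, -⟩, -⟩ := reps2_mem invA (by simp)
  have e : maskF (Finset.univ.filter fun p => tperm invA p = p) =
      Nat.ofBits fun i : Fin 24 => decide (tabFn invA.1 i = i) := by
    unfold maskF
    congr 1
    funext i
    simp only [Finset.mem_filter, Finset.mem_univ, true_and]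
    refine decide_eq_decide.mpr ?_
    rw [← fn_tperm hA, fn, ← idx_injective'.eq_iff, idx_pt]
  rw [mem_octads, e]
  decide +kernel

/-- The automorphism group of the length-24 code built from the squares modulo 23 has exactly two conjugacy classes of involutions: an involution either fixes exactly the eight points of an octad or has no fixed points, both kinds occur, and any two involutions of the same kind are conjugate in the group. -/
theorem result : (∀ g ∈ Cfsg.M24, orderOf g = 2 → (Finset.univ.filter fun p => g p = p) ∈ Cfsg.octads ∨ ∀ p, g p ≠ p) ∧ (∃ g ∈ Cfsg.M24, orderOf g = 2 ∧ (Finset.univ.filter fun p => g p = p) ∈ Cfsg.octads) ∧ (∃ g ∈ Cfsg.M24, orderOf g = 2 ∧ ∀ p, g p ≠ p) ∧ ∀ g ∈ Cfsg.M24, ∀ h ∈ Cfsg.M24, orderOf g = 2 → orderOf h = 2 → ((∀ p, g p ≠ p) ↔ (∀ p, h p ≠ p)) → ∃ k ∈ Cfsg.M24, k * g * k⁻¹ = h := by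
  obtain ⟨⟨hA, -⟩, -⟩ := reps2_mem invA (by simp)
  refine ⟨fun g hg h2 => ?_, ⟨_, invA_order.1, invA_order.2, fixA⟩, ⟨_, invB_order.1, invB_order.2,
    (fpf_iff_fcount _).mpr reps_fcount.2.1⟩, fun g hg h hh g2 h2 hiff => ?_⟩
  · rcases class_two_of_fcount hg h2 with ⟨-, σ, hσ, e⟩ | ⟨h0, -⟩
    · left
      have := fixset_conj σ g
      rw [e] at this
      have hf := this ▸ fixA
      exact (smul_weight_iff hσ 8 _).mp hf
    · exact Or.inr ((fpf_iff_fcount g).mpr h0)
  · rw [fpf_iff_fcount, fpf_iff_fcount] at hiff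
    rcases class_two_of_fcount hg g2 with ⟨a, σ, hσ, e⟩ | ⟨a, σ, hσ, e⟩ <;>
      rcases class_two_of_fcount hh h2 with ⟨b, τ, hτ, e'⟩ | ⟨b, τ, hτ, e'⟩
    all_goals first
      | omega
      | exact ⟨τ⁻¹ * σ, mul_mem (inv_mem hτ) hσ, by
          rw [← e'] at e
          calc τ⁻¹ * σ * g * (τ⁻¹ * σ)⁻¹ = τ⁻¹ * (σ * g * σ⁻¹) * τ := by group
            _ = h := by rw [e]; group⟩

end Cfsg.Agent.S5394
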