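import Cfsg.Statements.S5395
import Cfsg.Agent.Lib.Solv.ExtraspecialTwo
-- import your own Cfsg.Agent.* helpers here

set_option autoImplicit false
open Cfsg

namespace Cfsg.Agent.S5395

open Subgroup Cfsg.Agent.Solv.ESClass
open scoped commutatorElement

theorem exists_inner {p : ℕ} [Fact p.Prime] {G : Type*} [Group G] [Finite G] (D : ES p G) :
    ∀ (n : ℕ) (K : Subgroup G), Nat.card K ≤ n → D.ND K → ∀ χ : K →* G, (∀ x, χ x ∈ zpowers D.z) →
      (∀ hz : D.z ∈ K, χ ⟨D.z, hz⟩ = 1) → ∃ g ∈ K, ∀ x : K, ⁅g, (x : G)⁆ = χ x := by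
  intro n
  induction n with
  | zero => intro K hn; exact absurd hn (not_le.mpr Nat.card_pos)
  | succ n ih =>
    intro K hn hK χ hχ hχz
    rcases D.eq_or_pair hK with rfl | ⟨a, b, h⟩
    · refine ⟨1, one_mem _, fun x => ?_⟩
      obtain ⟨k, hk⟩ := mem_zpowers_iff.mp x.2
      have e : x = (⟨D.z, mem_zpowers D.z⟩ : zpowers D.z) ^ k := Subtype.ext (by simp [hk])
      rw [commutatorElement_one_left, e, map_zpow, hχz, one_zpow]
    · have hlt := h.card_lt
      have hle : D.perp K a b ≤ K := fun x hx => (D.mem_perp.mp hx).1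
      obtain ⟨g1, hg1, hg1'⟩ := ih _ (by omega) h.perp_nd (χ.comp (inclusion hle)) (fun x => hχ _)
        (fun hz => hχz (hle hz))
      obtain ⟨hg1K, hg1a, hg1b⟩ := D.mem_perp.mp hg1
      obtain ⟨i, hi⟩ := mem_zpowers_iff.mp (hχ ⟨a, h.ha⟩)
      obtain ⟨j, hj⟩ := mem_zpowers_iff.mp (hχ ⟨b, h.hb⟩)
      refine ⟨a ^ j * b ^ (-i) * g1, K.mul_mem (K.mul_mem (K.zpow_mem h.ha _) (K.zpow_mem h.hb _)) hg1K, ?_⟩
      let ψ : K →* G := MonoidHom.mk' (fun x => ⁅a ^ j * b ^ (-i) * g1, (x : G)⁆) fun x y => D.c_mul _ _ _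
      have key : ∀ g : G, ⁅a ^ j * b ^ (-i) * g1, g⁆ = (⁅g, a⁆ ^ j * ⁅g, b⁆ ^ (-i) * ⁅g, g1⁆)⁻¹ := fun g => by
        rw [← commutatorElement_inv, D.c_mul, D.c_mul, D.c_zpow, D.c_zpow]
      intro x
      show ψ x = χ x
      obtain ⟨u, v, -, -, k, hk, e⟩ := h.decomp x.2
      have e' : x = (⟨a, h.ha⟩ : K) ^ u * ⟨b, h.hb⟩ ^ v * ⟨k, hle hk⟩ := Subtype.ext (by simpa using e)
      rw [e', map_mul, map_mul, map_mul, map_mul, map_pow, map_pow, map_pow, map_pow]
      obtain ⟨-, hka, hkb⟩ := D.mem_perp.mp hk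
      have ea : ψ ⟨a, h.ha⟩ = χ ⟨a, h.ha⟩ := by
        show ⁅a ^ j * b ^ (-i) * g1, a⁆ = _
        rw [key, commutatorElement_self, h.hab, hg1a, one_zpow, one_mul, mul_one, zpow_neg, inv_inv, hi]
      have eb : ψ ⟨b, h.hb⟩ = χ ⟨b, h.hb⟩ := by
        show ⁅a ^ j * b ^ (-i) * g1, b⁆ = _
        rw [key, commutatorElement_self, h.hba, hg1b, one_zpow, mul_one, mul_one, inv_zpow, inv_inv, hj]
      have ek : ψ ⟨k, hle hk⟩ = χ ⟨k, hle hk⟩ := by
        show ⁅a ^ j * b ^ (-i) * g1, k⁆ = _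
        rw [key, ← commutatorElement_inv a k, hka, inv_one, ← commutatorElement_inv b k, hkb, inv_one,
          one_zpow, one_zpow, one_mul, one_mul, commutatorElement_inv]
        exact hg1' ⟨k, hk⟩
      rw [ea, eb, ek]


/-- For a finite extraspecial 2-group E, an automorphism of E that induces the identity on E modulo its centre is inner (so these automorphisms form exactly the inner automorphism group, an elementary abelian 2-group of order |E|/2). -/
theorem result {E : Type*} [Group E] [Finite E] (hE : Cfsg.IsExtraspecial 2 E) (φ : E ≃* E) (hφ : ∀ x : E, φ x * x⁻¹ ∈ Subgroup.center E) : ∃ g : E, ∀ x : E, φ x = g * x * g⁻¹ := by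
  obtain ⟨D⟩ := ES.exists_of hE
  have hz : ∀ x, φ x * x⁻¹ ∈ zpowers D.z := fun x => D.nd _ fun y => (Subgroup.mem_center_iff.mp (hφ x) y).symm
  have hzz : φ D.z * D.z⁻¹ = 1 := by
    obtain ⟨i, hi, he⟩ := D.exists_lt _ (hz D.z)
    interval_cases i
    · rw [← he, pow_zero]
    · rw [pow_one, eq_mul_inv_iff_mul_eq] at he
      have h2 : φ D.z = φ 1 := by
        rw [map_one, ← he]
        have := pow_orderOf_eq_one D.z
        rwa [D.hz, pow_two] at this
      have := D.hz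
      rw [φ.injective h2, orderOf_one] at this
      omega
  let χ : (⊤ : Subgroup E) →* E := MonoidHom.mk' (fun x => φ x * (x : E)⁻¹) fun x y => by
    have hc := Subgroup.mem_center_iff.mp (hφ y) (x : E)⁻¹
    push_cast
    rw [map_mul, mul_inv_rev]
    calc φ x * φ y * ((y : E)⁻¹ * (x : E)⁻¹) = φ x * ((φ y * (y : E)⁻¹) * (x : E)⁻¹) := by group
      _ = φ x * ((x : E)⁻¹ * (φ y * (y : E)⁻¹)) := by rw [hc]
      _ = _ := by group
  obtain ⟨g, -, hg⟩ := exists_inner D _ ⊤ le_rfl D.nd_top χ (fun x => hz x) (fun _ => hzz)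
  refine ⟨g, fun x => ?_⟩
  have h := hg ⟨x, Subgroup.mem_top x⟩
  show φ x = g * x * g⁻¹
  rw [show g * x * g⁻¹ = ⁅g, x⁆ * x by rw [commutatorElement_def]; group]
  rw [show ⁅g, x⁆ = φ x * x⁻¹ from h, inv_mul_cancel_right]

end Cfsg.Agent.S5395
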