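import Cfsg.Statements.S5396
import Cfsg.Agent.Lib.Solv.ExtraspecialModels
-- import your own Cfsg.Agent.* helpers here

set_option autoImplicit false
open Cfsg

namespace Cfsg.Agent.S5396

/-- For every n ≥ 1 there exist finite extraspecial 2-groups of order 2^(2n+1) whose 2-rank (the largest rank of an elementary abelian subgroup) is n, and ones whose 2-rank is n + 1 (so for each such order there are two non-isomorphic extraspecial 2-groups, told apart by their 2-rank). -/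
theorem result (n : ℕ) (hn : 1 ≤ n) : ∀ r ∈ ({n, n + 1} : Set ℕ), ∃ (E : Type) (_ : Group E) (_ : Finite E), Cfsg.IsExtraspecial 2 E ∧ Nat.card E = 2 ^ (2 * n + 1) ∧ sSup {k : ℕ | ∃ A : Subgroup E, Cfsg.IsElementaryAbelian 2 A ∧ Nat.card A = 2 ^ k} = r := by
  haveI : Fact (Nat.Prime 2) := ⟨Nat.prime_two⟩
  have hsup : ∀ (E : Type) [Group E] [Finite E] (m : ℕ), Cfsg.IsExtraspecial 2 E →
      (∀ k, Cfsg.PRankLE 2 k E ↔ m ≤ k) →
      sSup {k : ℕ | ∃ A : Subgroup E, Cfsg.IsElementaryAbelian 2 A ∧ Nat.card A = 2 ^ k} = m := by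
    intro E _ _ m hE hm
    refine IsGreatest.csSup_eq ⟨?_, ?_⟩
    · by_contra hnot
      rcases Nat.eq_zero_or_pos m with rfl | hpos
      · refine hnot ⟨⊥, ⟨inferInstance, fun x hx => ?_⟩, by simp⟩
        rw [Subgroup.mem_bot.mp hx]
        simp
      · have h := (hm (m - 1)).mp fun A hA hA2 => by
          obtain ⟨j, hj⟩ := IsPGroup.iff_card.mp (hE.1.1.to_subgroup A)
          rw [hj]
          refine Nat.pow_le_pow_right (by norm_num) ?_
          have h1 : 2 ^ j ≤ 2 ^ m := hj ▸ (hm m).mpr le_rfl A hA hA2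
          have h2 := (Nat.pow_le_pow_iff_right (le_refl 2)).mp h1
          have h3 : j ≠ m := fun e => hnot ⟨A, ⟨hA, hA2⟩, e ▸ hj⟩
          omega
        omega
    · rintro k ⟨A, ⟨hA, hA2⟩, hk⟩
      have h1 : 2 ^ k ≤ 2 ^ m := hk ▸ (hm m).mpr le_rfl A hA hA2
      exact (Nat.pow_le_pow_iff_right (le_refl 2)).mp h1
  obtain ⟨⟨E₁, g₁, f₁, h₁, c₁, r₁⟩, ⟨E₂, g₂, f₂, h₂, c₂, r₂⟩⟩ := Cfsg.Agent.Solv.ESClass.exists_types n hn
  intro r hr
  rcases hr with rfl | rfl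
  · exact ⟨E₂, g₂, f₂, h₂, c₂, @hsup E₂ g₂ f₂ _ h₂ r₂⟩
  · exact ⟨E₁, g₁, f₁, h₁, c₁, @hsup E₁ g₁ f₁ _ h₁ r₁⟩

end Cfsg.Agent.S5396
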