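import Cfsg.Statements.S5427
import Cfsg.Agent.Lib.Solv.LargeSimple
import Cfsg.Agent.Lib.Solv.LargeBasics

set_option autoImplicit false
open Cfsg

namespace Cfsg.Agent.S5427

/-- Let z be an involution of the finite group G whose centralizer C has generalized Fitting subgroup Q, an extraspecial 2-group of width at least 2 (order 2^(2w+1), w ≥ 2). Let K be a subgroup of G such that the subgroup U generated by the K-conjugates of z is abelian and C is generated by the C-conjugates of U. Suppose that either some K-conjugate of z other than z lies in Q, or some element u of U ∩ Q outside the subgroup generated by z has z in the largest normal 2-subgroup of its centralizer. Then G is simple and Q is a large extraspecial 2-subgroup of G. -/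
theorem result {G : Type*} [Group G] [Finite G] (z : G) (hz : orderOf z = 2) (Q : Subgroup G) (hQC : Q ≤ Subgroup.centralizer ({z} : Set G)) (hF : (Cfsg.generalizedFittingSubgroup ↥(Subgroup.centralizer ({z} : Set G))).map (Subgroup.centralizer ({z} : Set G)).subtype = Q) (hQ : Cfsg.IsExtraspecial 2 ↥Q) (w : ℕ) (hw : 2 ≤ w) (hcard : Nat.card ↥Q = 2 ^ (2 * w + 1)) (K U : Subgroup G) (hU : U = Subgroup.closure {x : G | ∃ k ∈ K, x = k * z * k⁻¹}) (hUab : IsMulCommutative ↥U) (hgen : Subgroup.closure {x : G | ∃ c ∈ Subgroup.centralizer ({z} : Set G), ∃ u ∈ U, x = c * u * c⁻¹} = Subgroup.centralizer ({z} : Set G)) (h3 : (∃ k ∈ K, k * z * k⁻¹ ∈ Q ∧ k * z * k⁻¹ ≠ z) ∨ ∃ u ∈ U ⊓ Q, u ∉ Subgroup.zpowers z ∧ (∃ hz' : z ∈ Subgroup.centralizer ({u} : Set G), (⟨z, hz'⟩ : ↥(Subgroup.centralizer ({u} : Set G))) ∈ Cfsg.pCore 2 ↥(Subgroup.centralizer ({u} : Set G)))) : IsSimpleGroup G ∧ Cfsg.IsLargeExtraspecial Q := by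
  obtain ⟨hZ, hL2, hL3⟩ := Cfsg.Agent.Solv.LargeSimple.facts hz hQC hF hQ
  have hzU : z ∈ U := hU ▸ Subgroup.subset_closure ⟨1, K.one_mem, by group⟩
  have hUsq : ∀ u ∈ U, u ^ 2 = 1 := by
    intro u hu
    haveI := hUab
    rw [hU] at hu
    induction hu using Subgroup.closure_induction with
    | mem x hx =>
      obtain ⟨k, _, rfl⟩ := hx
      rw [conj_pow, ← hz, pow_orderOf_eq_one]
      group
    | one => exact one_pow 2
    | mul x y hx hy ihx ihy =>
      have hc : Commute x y := congrArg Subtype.val (hUab.is_comm.comm (⟨x, hU ▸ hx⟩ : U) ⟨y, hU ▸ hy⟩)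
      rw [hc.mul_pow, ihx, ihy, one_mul]
    | inv x _ ih => rw [inv_pow, ih, inv_one]
  have hL : Cfsg.IsLargeExtraspecial Q := by
    rcases h3 with ⟨k, _, hkQ, hkne⟩ | ⟨u, ⟨huU, huQ⟩, hunz, hz', hzc⟩
    · exact (Cfsg.Agent.Solv.LargePair.Conf.of_conj (Cfsg.Agent.Solv.LargePair.Big.of_hyp Q hQ hL2 hL3 (by
        rw [hcard]; exact le_trans (by norm_num : 32 ≤ 2 ^ 5) (Nat.pow_le_pow_right (by norm_num) (by omega))) z hZ)
        k hkQ hkne).large hQ hL2 hL3 hZ
    · refine Cfsg.Agent.Solv.LargeBasics.large_of_involution Q hQ hL2 hL3 u huQ (by rw [hZ]; exact hunz)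
        (orderOf_eq_prime (hUsq u huU) fun e => hunz (e ▸ Subgroup.one_mem _)) ?_
      rw [hZ, Subgroup.zpowers_le]
      exact ⟨_, hzc, rfl⟩
  refine ⟨Cfsg.Agent.Solv.LargeSimple.simple_of_cent_le hL hZ
    (Cfsg.Agent.Solv.LargeSimple.not_abelian hQ w hw hcard) ?_, hL⟩
  rw [← hgen, Subgroup.closure_le]
  rintro _ ⟨c, _, u, hu, rfl⟩
  refine Subgroup.normalClosure_normal.conj_mem u ?_ c
  rw [hU] at hu
  refine (Subgroup.closure_le _).mpr ?_ hu
  rintro _ ⟨k, _, rfl⟩
  exact Subgroup.normalClosure_normal.conj_mem z (Subgroup.subset_normalClosure (Set.mem_singleton z)) k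

end Cfsg.Agent.S5427
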