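import Cfsg.Statements.S5435
import Cfsg.Agent.S0215
import Cfsg.Agent.Lib.Solv.LargePair
import Cfsg.Agent.Lib.Solv.StructMisc
import Cfsg.Agent.Lib.Classical.DihedralRecog
-- import your own Cfsg.Agent.* helpers here

set_option autoImplicit false
open Cfsg

namespace Cfsg.Agent.S5435

theorem transfer_central {G : Type*} [Group G] [Finite G] (H : Subgroup G) (hHp : IsPGroup 2 H)
    (hN : ∀ g : G, (∀ v ∈ H, g⁻¹ * v * g ∈ H) → g ∈ H)
    {A : Type*} [CommGroup A] (φ : H →* A) (hA : ∀ a : A, a * a = 1)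
    (c : G) (hc : c ∈ H) (hcc : ∀ v ∈ H, v * c = c * v) (h2 : c * c = 1) :
    MonoidHom.transfer φ c = φ ⟨c, hc⟩ := by
  classical
  haveI : Fact (Nat.Prime 2) := ⟨Nat.prime_two⟩
  let F : G → A := fun g => if h : g⁻¹ * c * g ∈ H then φ ⟨g⁻¹ * c * g, h⟩ else 1
  have hF : ∀ g, ∀ s ∈ H, F (g * s) = F g := by
    intro g s hs
    have e : (g * s)⁻¹ * c * (g * s) = s⁻¹ * (g⁻¹ * c * g) * s := by group
    have hiff : (g * s)⁻¹ * c * (g * s) ∈ H ↔ g⁻¹ * c * g ∈ H := by
      rw [e, Subgroup.mul_mem_cancel_right _ hs, Subgroup.mul_mem_cancel_left _ (H.inv_mem hs)]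
    by_cases h : g⁻¹ * c * g ∈ H
    · simp only [F, dif_pos h, dif_pos (hiff.mpr h)]
      have : (⟨(g * s)⁻¹ * c * (g * s), hiff.mpr h⟩ : H) = (⟨s, hs⟩ : H)⁻¹ * ⟨g⁻¹ * c * g, h⟩ * ⟨s, hs⟩ :=
        Subtype.ext e
      rw [this, map_mul, map_mul, map_inv, mul_right_comm, inv_mul_cancel, one_mul]
    · simp only [F, dif_neg h, dif_neg (mt hiff.mp h)]
  have hFl : ∀ g, ∀ r ∈ H, F (r * g) = F g := by
    intro g r hr
    have e : (r * g)⁻¹ * c * (r * g) = g⁻¹ * c * g := by
      calc (r * g)⁻¹ * c * (r * g) = g⁻¹ * r⁻¹ * (c * r) * g := by group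
        _ = g⁻¹ * c * g := by rw [← hcc r hr]; group
    simp only [F, e]
  let f : G ⧸ H → A := fun q => F q.out
  have hf : ∀ g : G, f (g : G ⧸ H) = F g := by
    intro g
    obtain ⟨s, hs⟩ := QuotientGroup.mk_out_eq_mul H g
    show F _ = _
    rw [hs, hF g s s.2]
  have hfix : ∀ q : G ⧸ H, c • q = q ↔ q.out⁻¹ * c * q.out ∈ H := by
    intro q
    conv_lhs => rw [← QuotientGroup.out_eq' q]
    rw [MulAction.Quotient.smul_mk, eq_comm, QuotientGroup.eq, smul_eq_mul, ← mul_assoc]
  letI : Fintype (G ⧸ H) := Fintype.ofFinite _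
  have h1 : MonoidHom.transfer φ c = ∏ q : G ⧸ H, f q := by
    letI : Fintype (Quotient (MulAction.orbitRel (Subgroup.zpowers c) (G ⧸ H))) := Fintype.ofFinite _
    have hper : ∀ q : G ⧸ H, Function.IsPeriodicPt (c • ·) 2 q := fun q => by
      show c • (c • q) = q
      rw [← mul_smul, h2, one_smul]
    have hone : ∀ q : G ⧸ H, Function.minimalPeriod (c • ·) q = 1 ∨
        (Function.minimalPeriod (c • ·) q = 2 ∧ f q = 1) := by
      intro q
      rcases (Nat.dvd_prime Nat.prime_two).mp (hper q).minimalPeriod_dvd with e | e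
      · exact Or.inl e
      · refine Or.inr ⟨e, dif_neg fun h => ?_⟩
        have := Function.minimalPeriod_eq_one_iff_isFixedPt.mpr (show Function.IsFixedPt (c • ·) q from (hfix q).mpr h)
        omega
    have hterm : ∀ q : G ⧸ H, ∀ h, φ ⟨q.out⁻¹ * c ^ Function.minimalPeriod (c • ·) q * q.out, h⟩ = f q := by
      intro q h
      rcases hone q with e | ⟨e, e2⟩
      · have hq : q.out⁻¹ * c * q.out ∈ H := by simpa [e] using h
        simp only [f, F, dif_pos hq, e, pow_one]
      · rw [e2, ← map_one φ]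
        congr 1
        exact Subtype.ext (by simp [e, pow_two, h2])
    rw [MonoidHom.transfer_eq_prod_quotient_orbitRel_zpowers_quot φ c]
    simp only [hterm]
    rw [← Finset.prod_fiberwise (s := (Finset.univ : Finset (G ⧸ H)))
      (g := fun q => (Quotient.mk (MulAction.orbitRel (Subgroup.zpowers c) (G ⧸ H)) q)) (f := f)]
    refine Finset.prod_congr rfl fun o _ => ?_
    symm
    refine Finset.prod_eq_single_of_mem o.out (Finset.mem_filter.mpr ⟨Finset.mem_univ _, o.out_eq⟩) ?_
    intro q hq hne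
    have hrel : q ∈ MulAction.orbit (Subgroup.zpowers c) o.out := by
      have h4 := (Finset.mem_filter.mp hq).2.trans o.out_eq.symm
      exact MulAction.orbitRel_apply.mp (Quotient.exact h4)
    obtain ⟨⟨u, hu⟩, hq'⟩ := hrel
    rcases hone q with e | ⟨_, e2⟩
    · exfalso
      have hfx : c • q = q := Function.minimalPeriod_eq_one_iff_isFixedPt.mp e
      have hst : Subgroup.zpowers c ≤ MulAction.stabilizer G q := Subgroup.zpowers_le.mpr hfx
      have h5 : u⁻¹ • q = q := hst (inv_mem hu)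
      have h6 : u • o.out = q := hq'
      rw [← h6, inv_smul_smul] at h5
      exact hne (h6.symm.trans (by rw [← h5]) |> fun _ => (h5.trans h6).symm)
    · exact e2
  rw [h1]
  have hf1 : f ((1 : G) : G ⧸ H) = φ ⟨c, hc⟩ := by
    rw [hf]
    have h : (1 : G)⁻¹ * c * 1 ∈ H := by simpa using hc
    simp only [F, dif_pos h]
    congr 1
    exact Subtype.ext (by simp)
  have hinv : ∀ r : H, ∀ q : G ⧸ H, f (r • q) = f q := by
    intro r q
    induction q using QuotientGroup.induction_on with
    | H g =>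
      show f (((r : G) * g : G) : G ⧸ H) = _
      rw [hf, hf, hFl g r r.2]
  haveI : Fintype (Set.range f) := Fintype.ofFinite _
  rw [← Finset.prod_fiberwise_of_maps_to (t := (Finset.univ.image f : Finset A)) (g := f)
    (fun q hq => Finset.mem_image_of_mem f hq) f]
  have key : ∀ b : A, ∏ q ∈ Finset.univ.filter (fun q => f q = b), f q = if f ((1 : G) : G ⧸ H) = b then b else 1 := by
    intro b
    rw [Finset.prod_congr rfl (fun q hq => (Finset.mem_filter.mp hq).2), Finset.prod_const]
    set T : Finset (G ⧸ H) := Finset.univ.filter (fun q => f q = b)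
    letI : MulAction H {q : G ⧸ H // f q = b} :=
      { smul := fun r q => ⟨r • q.1, (hinv r q.1).trans q.2⟩
        one_smul := fun q => Subtype.ext (one_smul H q.1)
        mul_smul := fun r s q => Subtype.ext (mul_smul r s q.1) }
    have hm := hHp.card_modEq_card_fixedPoints {q : G ⧸ H // f q = b}
    have hT : Nat.card {q : G ⧸ H // f q = b} = T.card := by
      rw [Nat.card_eq_fintype_card, Fintype.card_subtype]
    have hfp : ∀ q : {q : G ⧸ H // f q = b}, q ∈ MulAction.fixedPoints H {q : G ⧸ H // f q = b} ↔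
        q.1 = ((1 : G) : G ⧸ H) := by
      intro q
      constructor
      · intro hq
        obtain ⟨g, hg⟩ := Quotient.exists_rep q.1
        have hgH : g ∈ H := by
          refine hN g fun v hv => ?_
          have h7 : ((v * g : G) : G ⧸ H) = (g : G ⧸ H) := by
            have h8 := congrArg Subtype.val (hq ⟨v, hv⟩)
            have hg' : ((g : G) : G ⧸ H) = q.1 := hg
            rw [hg']
            calc ((v * g : G) : G ⧸ H) = (⟨v, hv⟩ : H) • ((g : G) : G ⧸ H) := rfl
              _ = q.1 := by rw [hg']; exact h8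
          have h9 := QuotientGroup.eq.mp h7.symm
          rwa [← mul_assoc] at h9
        have hg' : ((g : G) : G ⧸ H) = q.1 := hg
        rw [← hg', QuotientGroup.eq]
        simpa using hgH
      · intro hq r
        refine Subtype.ext ?_
        show r • q.1 = q.1
        rw [hq]
        show (((r : G) * 1 : G) : G ⧸ H) = _
        rw [QuotientGroup.eq]
        simp
    have hpow : ∀ n : ℕ, b ^ n = if n % 2 = 1 then b else 1 := fun n => by
      conv_lhs => rw [← Nat.div_add_mod n 2, pow_add, pow_mul, pow_two, hA, one_pow, one_mul]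
      rcases Nat.mod_two_eq_zero_or_one n with e | e <;> simp [e]
    rw [hpow]
    by_cases hb : f ((1 : G) : G ⧸ H) = b
    · have : Nat.card (MulAction.fixedPoints H {q : G ⧸ H // f q = b}) = 1 :=
        Nat.card_eq_one_iff_unique.mpr ⟨⟨fun s t => Subtype.ext (Subtype.ext (((hfp _).mp s.2).trans ((hfp _).mp t.2).symm))⟩,
          ⟨⟨⟨_, hb⟩, (hfp _).mpr rfl⟩⟩⟩
      rw [this, hT] at hm
      rw [if_pos hb, if_pos]
      exact hm
    · have : Nat.card (MulAction.fixedPoints H {q : G ⧸ H // f q = b}) = 0 := by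
        haveI : IsEmpty (MulAction.fixedPoints H {q : G ⧸ H // f q = b}) :=
          ⟨fun s => hb (((hfp _).mp s.2) ▸ s.1.2)⟩
        exact Nat.card_of_isEmpty
      rw [this, hT] at hm
      rw [if_neg hb, if_neg]
      intro e
      have : T.card % 2 = 0 := hm
      omega
  simp only [key]
  rw [Finset.prod_ite_eq, if_pos (Finset.mem_image_of_mem f (Finset.mem_univ _)), hf1]

theorem core {L : Type*} [Group L] [Finite L] [IsSimpleGroup L] (hL : ¬ IsMulCommutative L) (z : L) (hz : orderOf z = 2)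
    (R : Sylow 2 L) (hR : (R : Subgroup L) = Subgroup.centralizer ({z} : Set L))
    (hΦ : (frattini ↥(R : Subgroup L)).map (R : Subgroup L).subtype = Subgroup.zpowers z) :
    Nonempty (↥(R : Subgroup L) ≃* DihedralGroup 4) := by
  haveI : Fact (Nat.Prime 2) := ⟨Nat.prime_two⟩
  set H := (R : Subgroup L)
  have hmem : ∀ {v : L}, v ∈ H ↔ v * z = z * v := fun {v} => by
    rw [hR, Subgroup.mem_centralizer_singleton_iff]
  have hzz : z * z = 1 := by have := pow_orderOf_eq_one z; rwa [hz, pow_two] at this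
  have hz1 : z ≠ 1 := fun e => by rw [e, orderOf_one] at hz; omega
  have hzp : ∀ v ∈ Subgroup.zpowers z, v = 1 ∨ v = z := by
    intro v hv
    obtain ⟨i, hi⟩ := mem_powers_iff_mem_zpowers.mpr hv
    simp only at hi
    rw [← pow_mod_orderOf, hz] at hi
    rcases Nat.mod_two_eq_zero_or_one i with e | e <;> rw [e] at hi
    · exact Or.inl (by simpa using hi.symm)
    · exact Or.inr (by simpa using hi.symm)
  have hzH : z ∈ H := hmem.mpr rfl
  have hP : IsPGroup 2 H := R.isPGroup'
  haveI : Group.IsNilpotent H := hP.isNilpotent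
  have hfr : ∀ v : H, v ∈ frattini H → (v : L) = 1 ∨ (v : L) = z := fun v hv =>
    hzp _ (hΦ.le ⟨v, hv, rfl⟩)
  have hsq : ∀ v : H, (v : L) * v = 1 ∨ (v : L) * v = z := fun v => by
    have := hfr (v ^ 2) (Cfsg.Agent.Struct.CoprimeMinimal.pow_mem_frattini hP v)
    simpa [pow_two] using this
  have hcm : ∀ u v : H, (u : L) * v * (u : L)⁻¹ * (v : L)⁻¹ = 1 ∨ (u : L) * v * (u : L)⁻¹ * (v : L)⁻¹ = z :=
    fun u v => by
      have := hfr (u * v * u⁻¹ * v⁻¹) (Cfsg.Agent.Solv.commutator_le_frattini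
        (Subgroup.commutator_mem_commutator (Subgroup.mem_top u) (Subgroup.mem_top v)))
      simpa using this
  -- a second conjugate
  obtain ⟨g, hgH, hgne⟩ : ∃ g : L, g * z * g⁻¹ ∈ H ∧ g * z * g⁻¹ ≠ z := by
    by_contra hcon
    push Not at hcon
    obtain ⟨N, hN, hNodd, hNc⟩ := Cfsg.Agent.S0215.result R z hz hzH hcon
    rcases IsSimpleGroup.eq_bot_or_eq_top_of_normal N hN with e | e
    · have hzc : z ∈ Subgroup.center L := Subgroup.mem_center_iff.mpr fun g => by
        have h1 := hNc g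
        rw [e, Subgroup.mem_bot] at h1
        exact (mul_inv_eq_iff_eq_mul.mp (mul_inv_eq_one.mp h1)).symm
      rcases IsSimpleGroup.eq_bot_or_eq_top_of_normal (Subgroup.center L) inferInstance with e1 | e1
      · rw [e1, Subgroup.mem_bot] at hzc; exact hz1 hzc
      · exact hL ⟨⟨fun a b => (Subgroup.mem_center_iff.mp (e1.ge (Subgroup.mem_top a)) b).symm⟩⟩
    · rw [e, Subgroup.card_top] at hNodd
      have : Odd (orderOf z) := hNodd.of_dvd_nat (orderOf_dvd_natCard z)
      rw [hz] at this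
      exact absurd this (by decide)
  obtain ⟨t, ht⟩ : ∃ t, t = g * z * g⁻¹ := ⟨_, rfl⟩
  rw [← ht] at hgH hgne
  have htt : t * t = 1 := by rw [show t * t = g * (z * z) * g⁻¹ by rw [ht]; group, hzz, mul_one, mul_inv_cancel]
  have htz : t * z = z * t := hmem.mp hgH
  have hcon : ∀ v ∈ H, v * t = t * v → v * v = 1 := by
    intro v hv hvt
    have hv' : g⁻¹ * v * g ∈ H := hmem.mpr (by
      have h1 := congrArg (fun w => g⁻¹ * w * g) hvt
      simpa [ht, mul_assoc] using h1)
    rcases hsq ⟨v, hv⟩ with e | e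
    · exact e
    · rcases hsq ⟨_, hv'⟩ with e1 | e1
      · have : g⁻¹ * (v * v) * g = 1 := by rw [← e1]; group
        calc v * v = g * (g⁻¹ * (v * v) * g) * g⁻¹ := by group
          _ = 1 := by rw [this]; group
      · exfalso
        apply hgne
        rw [ht]
        have : g⁻¹ * (v * v) * g = z := by rw [← e1]; group
        calc g * z * g⁻¹ = g * (g⁻¹ * (v * v) * g) * g⁻¹ := by rw [this]
          _ = v * v := by group
          _ = z := e
  have hnorm : ∀ n : L, (∀ v ∈ H, n⁻¹ * v * n ∈ H) → n ∈ H := by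
    intro n hn
    have hn' : n ∈ Subgroup.normalizer (H : Set L) := by
      have h1 := Cfsg.Agent.Solv.LargePair.mem_norm_of_map_le (V := H) (k := n⁻¹) (fun v hv => by
        simpa using hn v hv)
      simpa using inv_mem h1
    haveI := frattini_characteristic (G := H)
    have hm : n * z * n⁻¹ ∈ (frattini H).map H.subtype := by
      have h2 := Cfsg.Agent.Struct.CoprimeMinimal.le_normalizer_map_char
        (Subgroup.normalizer (H : Set L)) H le_rfl (frattini H) hn'
      exact (Subgroup.mem_normalizer_iff.mp h2 z).mp (hΦ.ge (Subgroup.mem_zpowers z))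
    rw [hΦ] at hm
    rcases hzp _ hm with e | e
    · exact absurd (conj_eq_one_iff.mp e) hz1
    · exact hmem.mpr (mul_inv_eq_iff_eq_mul.mp e)
  obtain ⟨r, hrH, hrt⟩ : ∃ r ∈ H, r * t * r⁻¹ = z * t := by
    by_contra hno
    push Not at hno
    have hall : ∀ v ∈ H, v * t = t * v := fun v hv => by
      rcases hcm ⟨v, hv⟩ ⟨t, hgH⟩ with e | e
      · exact mul_inv_eq_iff_eq_mul.mp (mul_inv_eq_one.mp e)
      · exact absurd (mul_inv_eq_iff_eq_mul.mp e) (hno v hv)
    have hgn : g⁻¹ ∈ H := hnorm _ fun v hv => by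
      rw [inv_inv]
      have : H ≤ Subgroup.comap (MulAut.conj g⁻¹).toMonoidHom H := fun w hw => hmem.mpr (by
        show g⁻¹ * w * g⁻¹⁻¹ * z = z * (g⁻¹ * w * g⁻¹⁻¹)
        have h1 := congrArg (fun w => g⁻¹ * w * g) (hall w hw)
        simpa [ht, mul_assoc] using h1)
      have hcardeq : (H.map (MulAut.conj g⁻¹).toMonoidHom) = H := Subgroup.eq_of_le_of_card_ge
        (Subgroup.map_le_iff_le_comap.mpr this) (le_of_eq (Subgroup.card_map_of_injective (MulAut.conj g⁻¹).injective).symm)
      obtain ⟨w, hw, hwe⟩ := hcardeq.ge hv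
      have hwe' : g⁻¹ * w * g⁻¹⁻¹ = v := hwe
      rw [← hwe']
      simpa [mul_assoc] using hw
    apply hgne
    rw [ht]
    exact mul_inv_eq_iff_eq_mul.mpr (hmem.mp (inv_inv g ▸ H.inv_mem hgn))
  -- centre
  set N : Subgroup H := (Subgroup.zpowers z).subgroupOf H
  haveI hNn : N.Normal := ⟨fun v hv u => by
    rw [Subgroup.mem_subgroupOf] at hv ⊢
    rcases hzp _ hv with e | e <;> simp only [Subgroup.coe_mul, Subgroup.coe_inv, e]
    · simp
    · rw [hmem.mp u.2, mul_inv_cancel_right]; exact Subgroup.mem_zpowers z⟩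
  have hNc : ∀ a b : H ⧸ N, a * b = b * a := by
    intro a b
    induction a using QuotientGroup.induction_on with
    | H a =>
      induction b using QuotientGroup.induction_on with
      | H b =>
        rw [← QuotientGroup.mk_mul, ← QuotientGroup.mk_mul, QuotientGroup.eq, Subgroup.mem_subgroupOf]
        rcases hcm b⁻¹ a⁻¹ with e | e <;>
        · simp only [Subgroup.coe_mul, Subgroup.coe_inv, inv_inv] at e ⊢
          rw [show ((a : L) * b)⁻¹ * ((b : L) * a) = (b : L)⁻¹ * (a : L)⁻¹ * b * a by group, e]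
          first | exact one_mem _ | exact Subgroup.mem_zpowers z
  letI : CommGroup (H ⧸ N) := { (inferInstance : Group (H ⧸ N)) with mul_comm := hNc }
  have hA : ∀ a : H ⧸ N, a * a = 1 := by
    intro a
    induction a using QuotientGroup.induction_on with
    | H a =>
      rw [← QuotientGroup.mk_mul, QuotientGroup.eq_one_iff, Subgroup.mem_subgroupOf, Subgroup.coe_mul]
      rcases hsq a with e | e <;> rw [e]
      exacts [one_mem _, Subgroup.mem_zpowers z]
  have hcen : ∀ c ∈ H, (∀ v ∈ H, v * c = c * v) → c = 1 ∨ c = z := by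
    intro c hc hcc
    have h2 := hcon c hc (hcc t hgH).symm
    have e := transfer_central H hP hnorm (QuotientGroup.mk' N) hA c hc hcc h2
    have htriv : MonoidHom.transfer (H := H) (QuotientGroup.mk' N) c = 1 := by
      set T := MonoidHom.transfer (H := H) (QuotientGroup.mk' N)
      rcases IsSimpleGroup.eq_bot_or_eq_top_of_normal T.ker inferInstance with e1 | e1
      · exfalso
        refine hL ⟨⟨fun a b => (MonoidHom.ker_eq_bot_iff _).mp e1 ?_⟩⟩
        rw [map_mul, map_mul, mul_comm]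
      · exact MonoidHom.mem_ker.mp (e1.ge (Subgroup.mem_top c))
    rw [htriv] at e
    exact hzp _ (Subgroup.mem_subgroupOf.mp ((QuotientGroup.eq_one_iff _).mp e.symm))
  have hrz : r * z * r⁻¹ = z := mul_inv_eq_iff_eq_mul.mpr (hmem.mp hrH)
  have hA4 : ∀ v ∈ H, v * t = t * v → v = 1 ∨ v = z ∨ v = t ∨ v = z * t := by
    intro v hv hvt
    have hab : ∀ u ∈ H, u * t = t * u → ∀ w ∈ H, w * t = t * w → u * w = w * u := by
      intro u hu hut w hw hwt
      have h1 := hcon u hu hut
      have h2 := hcon w hw hwt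
      have h3 := hcon (u * w) (H.mul_mem hu hw) ((Commute.mul_left hut hwt).eq)
      calc u * w = u * ((u * w) * (u * w)) * w := by rw [h3, mul_one]
        _ = (u * u) * (w * u) * (w * w) := by group
        _ = w * u := by rw [h1, h2, one_mul, mul_one]
    have hin : ∀ u ∈ H, u * t = t * u → u * r = r * u → u = 1 ∨ u = z := by
      intro u hu hut hur
      refine hcen u hu fun w hw => ?_
      rcases hcm ⟨w, hw⟩ ⟨t, hgH⟩ with e | e
      · exact hab w hw (mul_inv_eq_iff_eq_mul.mp (mul_inv_eq_one.mp e)) u hu hut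
      · have e' : w * t * w⁻¹ = z * t := mul_inv_eq_iff_eq_mul.mp e
        have h4 : r⁻¹ * w * t = t * (r⁻¹ * w) := mul_inv_eq_iff_eq_mul.mp (by
          calc r⁻¹ * w * t * (r⁻¹ * w)⁻¹ = r⁻¹ * (w * t * w⁻¹) * r := by group
            _ = r⁻¹ * (r * t * r⁻¹) * r := by rw [e', hrt]
            _ = t := by group)
        have h5 := hab _ (H.mul_mem (H.inv_mem hrH) hw) h4 u hu hut
        have h6 := (Commute.mul_left (show Commute r u from hur.symm) (show Commute (r⁻¹ * w) u from h5)).eq
        rwa [mul_inv_cancel_left] at h6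
    rcases hcm ⟨r, hrH⟩ ⟨v, hv⟩ with e | e
    · rcases hin v hv hvt (mul_inv_eq_iff_eq_mul.mp (mul_inv_eq_one.mp e)).symm with e1 | e1
      · exact Or.inl e1
      · exact Or.inr (Or.inl e1)
    · have e' : r * v * r⁻¹ = z * v := mul_inv_eq_iff_eq_mul.mp e
      have e2 : (v * t) * r = r * (v * t) := (mul_inv_eq_iff_eq_mul.mp (by
        calc r * (v * t) * r⁻¹ = (r * v * r⁻¹) * (r * t * r⁻¹) := by group
          _ = z * (v * z) * t := by rw [e', hrt]; group
          _ = v * t := by rw [hmem.mp hv, ← mul_assoc, hzz, one_mul])).symm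
      rcases hin (v * t) (H.mul_mem hv hgH) (by rw [mul_assoc, ← mul_assoc t, ← hvt, mul_assoc]) e2 with e1 | e1
      · exact Or.inr (Or.inr (Or.inl (by rw [mul_eq_one_iff_eq_inv.mp e1, inv_eq_of_mul_eq_one_right htt])))
      · exact Or.inr (Or.inr (Or.inr (by rw [← e1, mul_assoc, htt, mul_one])))
  -- an element of order four
  obtain ⟨u, huH, hu2, hut⟩ : ∃ u ∈ H, u * u = z ∧ u * t * u⁻¹ = z * t := by
    rcases hsq ⟨r, hrH⟩ with e | e
    · refine ⟨r * t, H.mul_mem hrH hgH, ?_, ?_⟩
      · have er : r⁻¹ = r := inv_eq_of_mul_eq_one_right e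
        rw [er] at hrt
        calc r * t * (r * t) = r * t * r * t := by group
          _ = z := by rw [hrt, mul_assoc, htt, mul_one]
      · rw [show r * t * t * (r * t)⁻¹ = r * t * r⁻¹ by group]; exact hrt
    · exact ⟨r, hrH, e, hrt⟩
  have hu4 : u ^ 4 = 1 := by
    rw [show u ^ 4 = (u * u) * (u * u) by simp [pow_succ, mul_assoc], hu2, hzz]
  have ho : orderOf u = 4 := by
    have := orderOf_eq_prime_pow (x := u) (p := 2) (n := 1) (by rw [pow_one, pow_two, hu2]; exact hz1) hu4
    simpa using this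
  have hzu : z ∈ Subgroup.zpowers u := hu2 ▸ mul_mem (Subgroup.mem_zpowers u) (Subgroup.mem_zpowers u)
  have htu : ∀ k ∈ Subgroup.zpowers u, k ≠ t := by
    intro k hk e
    rw [e] at hk
    obtain ⟨i, hi⟩ := Subgroup.mem_zpowers_iff.mp hk
    have : u * t * u⁻¹ = t := by rw [← hi]; group
    rw [hut] at this
    exact hz1 (mul_eq_right.mp this)
  have hflip : ∀ k ∈ Subgroup.zpowers u, t * k * t = k⁻¹ := by
    intro k hk
    have e1 : t * u * t = u⁻¹ := by
      refine eq_inv_of_mul_eq_one_left ?_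
      calc t * u * t * u = t * (u * t * u⁻¹) * (u * u) := by group
        _ = t * z * t * z := by rw [hut, hu2]; group
        _ = 1 := by rw [htz, mul_assoc z, htt, mul_one, hzz]
    obtain ⟨i, rfl⟩ := Subgroup.mem_zpowers_iff.mp hk
    have e2 : (t * u * t⁻¹) ^ i = t * u ^ i * t⁻¹ := conj_zpow
    rw [inv_eq_of_mul_eq_one_right htt, e1, inv_zpow] at e2
    exact e2.symm
  have e := Cfsg.Agent.Classical.nonempty_dihedral (G := H) (C := Subgroup.zpowers u)
    (Subgroup.inclusion (Subgroup.zpowers_le.mpr huH)) (Subgroup.inclusion_injective _) ⟨t, hgH⟩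
    (Subtype.ext htt) (fun k h => htu k k.2 (congrArg Subtype.val h))
    (fun k => Subtype.ext (hflip k k.2)) fun v => by
      rcases hcm v ⟨t, hgH⟩ with e | e
      · rcases hA4 v v.2 (mul_inv_eq_iff_eq_mul.mp (mul_inv_eq_one.mp e)) with e1 | e1 | e1 | e1
        · exact ⟨1, Or.inl (Subtype.ext e1)⟩
        · exact ⟨⟨z, hzu⟩, Or.inl (Subtype.ext e1)⟩
        · exact ⟨1, Or.inr (Subtype.ext (e1.trans (one_mul t).symm))⟩
        · exact ⟨⟨z, hzu⟩, Or.inr (Subtype.ext e1)⟩
      · have e' : (v : L) * t * (v : L)⁻¹ = z * t := mul_inv_eq_iff_eq_mul.mp e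
        have h4 : u⁻¹ * v * t = t * (u⁻¹ * v) := mul_inv_eq_iff_eq_mul.mp (by
          calc u⁻¹ * v * t * (u⁻¹ * v)⁻¹ = u⁻¹ * ((v : L) * t * (v : L)⁻¹) * u := by group
            _ = u⁻¹ * (u * t * u⁻¹) * u := by rw [e', hut]
            _ = t := by group)
        rcases hA4 _ (H.mul_mem (H.inv_mem huH) v.2) h4 with e1 | e1 | e1 | e1
        · exact ⟨⟨u, Subgroup.mem_zpowers u⟩, Or.inl (Subtype.ext ((inv_mul_eq_iff_eq_mul.mp e1).trans (mul_one u)))⟩
        · exact ⟨⟨u * z, mul_mem (Subgroup.mem_zpowers u) hzu⟩, Or.inl (Subtype.ext (inv_mul_eq_iff_eq_mul.mp e1))⟩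
        · exact ⟨⟨u, Subgroup.mem_zpowers u⟩, Or.inr (Subtype.ext (inv_mul_eq_iff_eq_mul.mp e1))⟩
        · exact ⟨⟨u * z, mul_mem (Subgroup.mem_zpowers u) hzu⟩,
            Or.inr (Subtype.ext ((inv_mul_eq_iff_eq_mul.mp e1).trans (mul_assoc u z t).symm))⟩
  rwa [Nat.card_zpowers, ho] at e


/-- Let L be a finite non-abelian simple group with an involution z whose centralizer R is a Sylow 2-subgroup of L whose Frattini subgroup is the subgroup generated by z. Then R is dihedral of order 8. -/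
theorem result {L : Type*} [Group L] [Finite L] [IsSimpleGroup L] (hL : ¬ IsMulCommutative L) (z : L) (hz : orderOf z = 2) (R : Sylow 2 L) (hR : (R : Subgroup L) = Subgroup.centralizer ({z} : Set L)) (hΦ : (frattini ↥(R : Subgroup L)).map (R : Subgroup L).subtype = Subgroup.zpowers z) : Nonempty (↥(R : Subgroup L) ≃* DihedralGroup 4) := by
  exact core hL z hz R hR hΦ

end Cfsg.Agent.S5435
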