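import Cfsg.Statements.S5436
import Cfsg.Agent.Lib.Solv.LargeSimple
import Cfsg.Agent.Lib.Solv.LargeBasics

set_option autoImplicit false
open Cfsg

namespace Cfsg.Agent.S5436

/-- Let z be an involution of the finite group G with centralizer H whose generalized Fitting subgroup Q is extraspecial of width at least 2 (order 2^(2w+1), w ≥ 2); suppose some conjugate of z other than z lies in Q, H/Q is a non-abelian simple group, H acts irreducibly by conjugation on Q modulo the subgroup generated by z (the only H-invariant subgroups of Q containing z are that subgroup and Q), and Q is not the subgroup generated by the conjugates of z lying in H. Then G is simple. -/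
theorem result {G : Type*} [Group G] [Finite G] (z : G) (hz : orderOf z = 2) (Q : Subgroup (Subgroup.centralizer ({z} : Set G))) [Q.Normal] (hF : Cfsg.generalizedFittingSubgroup ↥(Subgroup.centralizer ({z} : Set G)) = Q) (hQ : Cfsg.IsExtraspecial 2 ↥Q) (w : ℕ) (hw : 2 ≤ w) (hcard : Nat.card ↥Q = 2 ^ (2 * w + 1)) (hnwc : ∃ g : G, (∃ hq : g * z * g⁻¹ ∈ Subgroup.centralizer ({z} : Set G), (⟨g * z * g⁻¹, hq⟩ : Subgroup.centralizer ({z} : Set G)) ∈ Q) ∧ g * z * g⁻¹ ≠ z) (hsimp : IsSimpleGroup (↥(Subgroup.centralizer ({z} : Set G)) ⧸ Q)) (hna : ¬ IsMulCommutative (↥(Subgroup.centralizer ({z} : Set G)) ⧸ Q)) (hirr : ∀ W : Subgroup (Subgroup.centralizer ({z} : Set G)), W.Normal → W ≤ Q → (W = Q ∨ ∀ x ∈ W, (x : G) ∈ Subgroup.zpowers z)) (hwcl : Subgroup.closure {x : Subgroup.centralizer ({z} : Set G) | IsConj z (x : G)} ≠ Q) : IsSimpleGroup G := by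
  set Q' := Q.map (Subgroup.centralizer ({z} : Set G)).subtype
  let e := Subgroup.equivMapOfInjective Q (Subgroup.centralizer ({z} : Set G)).subtype (Subgroup.centralizer ({z} : Set G)).subtype_injective
  have hQ' : Cfsg.IsExtraspecial 2 ↥Q' := Cfsg.Agent.Solv.LargeSimple.isExtraspecial_congr e hQ
  obtain ⟨hZ, hL2, hL3⟩ := Cfsg.Agent.Solv.LargeSimple.facts hz (Subgroup.map_subtype_le Q) (by rw [hF]) hQ'
  have hcard' : Nat.card ↥Q' = 2 ^ (2 * w + 1) := by rw [← Nat.card_congr e.toEquiv, hcard]
  obtain ⟨g, ⟨hq, hgQ⟩, hgne⟩ := hnwc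
  have hL : Cfsg.IsLargeExtraspecial Q' := (Cfsg.Agent.Solv.LargePair.Conf.of_conj
    (Cfsg.Agent.Solv.LargePair.Big.of_hyp Q' hQ' hL2 hL3 (by
      rw [hcard']; exact le_trans (by norm_num : 32 ≤ 2 ^ 5) (Nat.pow_le_pow_right (by norm_num) (by omega))) z hZ)
    g ⟨_, hgQ, rfl⟩ hgne).large hQ' hL2 hL3 hZ
  refine Cfsg.Agent.Solv.LargeSimple.simple_of_cent_le hL hZ
    (Cfsg.Agent.Solv.LargeSimple.not_abelian hQ' w hw hcard') ?_
  set W := Subgroup.closure {x : (Subgroup.centralizer ({z} : Set G)) | IsConj z (x : G)}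
  haveI hWn : W.Normal := by
    have e : {x : (Subgroup.centralizer ({z} : Set G)) | IsConj z (x : G)} = Group.conjugatesOfSet {x : (Subgroup.centralizer ({z} : Set G)) | IsConj z (x : G)} :=
      Set.Subset.antisymm Group.subset_conjugatesOfSet fun x hx => by
        obtain ⟨a, ha, hax⟩ := Group.mem_conjugatesOfSet_iff.mp hx
        exact (show IsConj z (a : G) from ha).trans (MonoidHom.map_isConj (Subgroup.centralizer ({z} : Set G)).subtype hax)
    have : W = Subgroup.normalClosure {x : (Subgroup.centralizer ({z} : Set G)) | IsConj z (x : G)} := by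
      show Subgroup.closure _ = Subgroup.closure _
      rw [← e]
    rw [this]
    infer_instance
  have hgW : (⟨g * z * g⁻¹, hq⟩ : (Subgroup.centralizer ({z} : Set G))) ∈ W := Subgroup.subset_closure (isConj_iff.mpr ⟨g, rfl⟩)
  have hQW : Q ≤ W := by
    rcases hirr (W ⊓ Q) inferInstance inf_le_right with e | e
    · exact e.ge.trans inf_le_left
    · exfalso
      obtain ⟨i, hi⟩ := mem_powers_iff_mem_zpowers.mpr (e _ ⟨hgW, hgQ⟩)
      simp only at hi
      rw [← pow_mod_orderOf, hz] at hi
      rcases Nat.mod_two_eq_zero_or_one i with h | h <;> rw [h] at hi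
      · rw [pow_zero] at hi
        exact (fun e => by rw [e, orderOf_one] at hz; omega : z ≠ 1) (mul_eq_left.mp (mul_inv_eq_one.mp hi.symm))
      · exact hgne (by rw [← hi, pow_one])
  have hWtop : W = ⊤ := by
    haveI := hsimp
    rcases IsSimpleGroup.eq_bot_or_eq_top_of_normal (W.map (QuotientGroup.mk' Q))
      (hWn.map _ (QuotientGroup.mk'_surjective Q)) with e | e
    · rw [Subgroup.map_eq_bot_iff, QuotientGroup.ker_mk'] at e
      exact absurd (le_antisymm e hQW) hwcl
    · have e' := Subgroup.comap_map_eq (QuotientGroup.mk' Q) W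
      rw [e, Subgroup.comap_top, QuotientGroup.ker_mk', sup_eq_left.mpr hQW] at e'
      exact e'.symm
  intro c hc
  have hle : W ≤ (Subgroup.normalClosure ({z} : Set G)).comap (Subgroup.centralizer ({z} : Set G)).subtype := by
    rw [Subgroup.closure_le]
    intro x hx
    obtain ⟨k, hk⟩ := isConj_iff.mp (show IsConj z (x : G) from hx)
    show (x : G) ∈ Subgroup.normalClosure ({z} : Set G)
    rw [← hk]
    exact Subgroup.normalClosure_normal.conj_mem z (Subgroup.subset_normalClosure (Set.mem_singleton z)) k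
  exact hle (hWtop ▸ Subgroup.mem_top (⟨c, hc⟩ : (Subgroup.centralizer ({z} : Set G))))

end Cfsg.Agent.S5436
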