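import Cfsg.Statements.S5459
-- import your own Cfsg.Agent.* helpers here

set_option autoImplicit false
open Cfsg
open scoped commutatorElement

namespace Cfsg.Agent.S5459

theorem core {G : Type*} [Group G] [Finite G] (L : Subgroup G) [L.Normal] (hL : Cfsg.IsQuasisimple ↥L) (d : G)
    (hd : orderOf d = 2) (hgen : L ⊔ Subgroup.zpowers d = ⊤) (hodd : Odd (Nat.card ↥(Subgroup.center ↥L)))
    (Z : Subgroup G) [hn : Z.Normal] (hZ : Z = (Subgroup.center ↥L).map L.subtype)
    (hinv : ∀ c ∈ Z, d * c * d⁻¹ = c⁻¹)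
    (hconn : (Cfsg.commutingGraph (conjugatesOf (QuotientGroup.mk d : G ⧸ Z))).Connected) :
    (Cfsg.commutingGraph (conjugatesOf d)).Connected := by
  classical
  set Γ := Cfsg.commutingGraph (conjugatesOf d)
  have hdd : d * d = 1 := by have := pow_orderOf_eq_one d; rwa [hd, pow_two] at this
  have hZL : Z ≤ L := hZ.le.trans (Subgroup.map_subtype_le _)
  have hZc : ∀ c ∈ Z, ∀ l ∈ L, l * c = c * l := by
    intro c hc l hl
    obtain ⟨w, hw, rfl⟩ := hZ.le hc
    exact congrArg Subtype.val (Subgroup.mem_center_iff.mp hw ⟨l, hl⟩)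
  have hsq : ∀ c ∈ Z, ∃ a ∈ Z, a * a = c := by
    intro c hc
    obtain ⟨k, hk⟩ := hodd
    refine ⟨c ^ (k + 1), Z.pow_mem hc _, ?_⟩
    obtain ⟨w, hw, rfl⟩ := hZ.le hc
    have h1 : (⟨w, hw⟩ : Subgroup.center L) ^ (2 * k + 1) = 1 := by rw [← hk, pow_card_eq_one']
    have h2 : (w : G) ^ (2 * k + 1) = 1 := congrArg (fun t : Subgroup.center L => ((t : L) : G)) h1
    show (w : G) ^ (k + 1) * (w : G) ^ (k + 1) = w
    rw [← pow_add, show k + 1 + (k + 1) = (2 * k + 1) + 1 by omega, pow_succ, h2, one_mul]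
  have hgl : ∀ g : G, ∃ l ∈ L, g = l ∨ g = l * d := by
    intro g
    have hg : g ∈ L ⊔ Subgroup.zpowers d := hgen ▸ Subgroup.mem_top g
    obtain ⟨l, hl, e, he, rfl⟩ := Subgroup.mem_sup_of_normal_left.mp hg
    refine ⟨l, hl, ?_⟩
    obtain ⟨i, hi⟩ := mem_powers_iff_mem_zpowers.mpr he
    simp only at hi
    rw [← pow_mod_orderOf, hd] at hi
    rcases Nat.mod_two_eq_zero_or_one i with h | h <;> rw [h] at hi <;> simp at hi <;> subst hi
    · exact Or.inl (mul_one l)
    · exact Or.inr rfl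
  have hcinv : ∀ u, IsConj d u → u * u = 1 ∧ ∀ c ∈ Z, u * c * u⁻¹ = c⁻¹ := by
    intro u hu
    obtain ⟨g, rfl⟩ := isConj_iff.mp hu
    refine ⟨by rw [show g * d * g⁻¹ * (g * d * g⁻¹) = g * (d * d) * g⁻¹ by group, hdd, mul_one, mul_inv_cancel],
      fun c hc => ?_⟩
    have hc' : g⁻¹ * c * g ∈ Z := hn.conj_mem' c hc g
    calc g * d * g⁻¹ * c * (g * d * g⁻¹)⁻¹ = g * (d * (g⁻¹ * c * g) * d⁻¹) * g⁻¹ := by group
      _ = c⁻¹ := by rw [hinv _ hc']; group
  have hcj : ∀ (g : G), ∀ u, IsConj d u → IsConj d (g * u * g⁻¹) :=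
    fun g u hu => hu.trans (isConj_iff.mpr ⟨g, rfl⟩)
  let cg : G → Γ →g Γ := fun g =>
    { toFun := fun u => ⟨g * u.1 * g⁻¹, hcj g u.1 u.2⟩
      map_rel' := by
        intro u v huv
        refine ⟨fun e => huv.1 (Subtype.ext (mul_left_cancel (mul_right_cancel (congrArg Subtype.val e)))), ?_⟩
        rcases huv.2 with h | h
        · exact Or.inl (h.map (MulAut.conj g).toMonoidHom)
        · exact Or.inr (h.map (MulAut.conj g).toMonoidHom) }
  let d0 : conjugatesOf d := ⟨d, IsConj.refl d⟩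
  let S : Subgroup G :=
    { carrier := {g | Γ.Reachable d0 (cg g d0)}
      one_mem' := by
        show Γ.Reachable d0 _
        have : cg 1 d0 = d0 := Subtype.ext (by show (1 : G) * d * 1⁻¹ = d; simp)
        rw [this]
      mul_mem' := by
        intro g h hg hh
        show Γ.Reachable d0 _
        have e : cg g (cg h d0) = cg (g * h) d0 := Subtype.ext (by
          show g * (h * d * h⁻¹) * g⁻¹ = g * h * d * (g * h)⁻¹
          group)
        exact SimpleGraph.Reachable.trans hg (e ▸ SimpleGraph.Reachable.map (cg g) hh)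
      inv_mem' := by
        intro g hg
        show Γ.Reachable d0 _
        have e : cg g⁻¹ (cg g d0) = d0 := Subtype.ext (by
          show g⁻¹ * (g * d * g⁻¹) * g⁻¹⁻¹ = d
          group)
        have := SimpleGraph.Reachable.map (cg g⁻¹) hg
        rw [e] at this
        exact this.symm }
  have hCS : ∀ u : conjugatesOf d, Γ.Reachable d0 u → (u : G) ∈ S := by
    intro u hu
    show Γ.Reachable d0 _
    have e : cg (u : G) u = u := Subtype.ext (by show (u : G) * u * (u : G)⁻¹ = u; group)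
    have := SimpleGraph.Reachable.map (cg (u : G)) hu
    rw [e] at this
    exact hu.trans this.symm
  have hlift : ∀ (u v : conjugatesOf (QuotientGroup.mk d : G ⧸ Z)),
      (Cfsg.commutingGraph (conjugatesOf (QuotientGroup.mk d : G ⧸ Z))).Walk u v →
      ∀ x : conjugatesOf d, Γ.Reachable d0 x → ((x : G) : G ⧸ Z) = u → ∃ y : conjugatesOf d, Γ.Reachable d0 y ∧ ((y : G) : G ⧸ Z) = v := by
    intro u v w
    induction w with
    | nil => exact fun x hx e => ⟨x, hx, e⟩
    | @cons u m v huv w ih =>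
      intro x hx e
      obtain ⟨g, hg⟩ := isConj_iff.mp m.2
      obtain ⟨g, rfl⟩ := QuotientGroup.mk_surjective g
      set e0 := g * d * g⁻¹ with he0
      have hm : ((e0 : G) : G ⧸ Z) = m := by rw [← hg]; rfl
      have hcx := hcinv x.1 x.2
      have hce := hcinv e0 (isConj_iff.mpr ⟨g, rfl⟩)
      have hcomm : ((x : G) : G ⧸ Z) * (e0 : G ⧸ Z) = (e0 : G ⧸ Z) * ((x : G) : G ⧸ Z) := by
        rw [e, hm]
        rcases huv.2 with h | h
        exacts [h, h.symm]
      rw [← QuotientGroup.mk_mul, ← QuotientGroup.mk_mul, QuotientGroup.eq] at hcomm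
      have hxi : (x : G)⁻¹ = x := inv_eq_of_mul_eq_one_right hcx.1
      have hei : e0⁻¹ = e0 := inv_eq_of_mul_eq_one_right hce.1
      rw [mul_inv_rev, hxi, hei] at hcomm
      obtain ⟨a, ha, haa⟩ := hsq _ hcomm
      obtain ⟨b, hb, hbb⟩ := hsq a ha
      have hconj : IsConj d (e0 * a) := by
        refine (show IsConj d e0 from isConj_iff.mpr ⟨g, rfl⟩).trans (isConj_iff.mpr ⟨b⁻¹, ?_⟩)
        have h1 := hce.2 b hb
        calc b⁻¹ * e0 * b⁻¹⁻¹ = (e0 * b * e0⁻¹) * e0 * b := by rw [h1, inv_inv]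
          _ = e0 * a := by rw [← hbb]; group
      have hcy : (x : G) * (e0 * a) = (e0 * a) * x := by
        have h1 : a * (x : G) = x * a⁻¹ := by
          have h0 := hcx.2 a ha
          rw [hxi] at h0
          rw [← h0, ← mul_assoc, ← mul_assoc, hcx.1, one_mul]
        calc (x : G) * (e0 * a) = (x : G) * e0 * (a * a) * a⁻¹ := by group
          _ = e0 * x * a⁻¹ := by
            rw [haa]
            simp only [← mul_assoc]
            rw [mul_assoc (x : G) e0 e0, hce.1, mul_one, hcx.1, one_mul]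
          _ = e0 * a * x := by rw [mul_assoc, ← h1, ← mul_assoc]
      have hmk : ((e0 * a : G) : G ⧸ Z) = m := by rw [QuotientGroup.mk_mul_of_mem _ ha, hm]
      refine ih ⟨e0 * a, hconj⟩ (hx.trans (SimpleGraph.Adj.reachable ⟨fun h => huv.1 (Subtype.ext ?_), Or.inl hcy⟩)) hmk
      rw [← e, ← hmk, h]
  have hsurj : ∀ g : G, g * d * g⁻¹ ∈ S ⊔ Z := by
    intro g
    obtain ⟨w⟩ := hconn.preconnected ⟨(d : G ⧸ Z), IsConj.refl _⟩
      ⟨((g * d * g⁻¹ : G) : G ⧸ Z), isConj_iff.mpr ⟨(g : G ⧸ Z), rfl⟩⟩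
    obtain ⟨y, hy, hye⟩ := hlift _ _ w d0 (SimpleGraph.Reachable.refl _) rfl
    have h1 : (y : G)⁻¹ * (g * d * g⁻¹) ∈ Z := QuotientGroup.eq.mp hye
    have := mul_mem (Subgroup.mem_sup_left (hCS y hy) : (y : G) ∈ S ⊔ Z) (Subgroup.mem_sup_right h1)
    rwa [mul_inv_cancel_left] at this
  have hNT : Subgroup.normalClosure ({d} : Set G) ≤ S ⊔ Z := by
    rw [Subgroup.normalClosure, Subgroup.closure_le]
    intro v hv
    obtain ⟨u, hu, hc⟩ := Group.mem_conjugatesOfSet_iff.mp hv
    obtain ⟨g, rfl⟩ := isConj_iff.mp hc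
    rw [Set.mem_singleton_iff.mp hu]
    exact hsurj g
  have hdS : d ∈ S := hCS d0 (SimpleGraph.Reachable.refl _)
  have hperf : ⁅(⊤ : Subgroup L), ⊤⁆ = (⊤ : Subgroup L) := hL.1.commutator_eq_top
  have hfin : S = ⊤ := by
    set N := Subgroup.normalClosure ({d} : Set G) with hN
    have hdN : d ∈ N := Subgroup.subset_normalClosure (Set.mem_singleton d)
    have hLperf : ⁅L, L⁆ = L := by
      have := congrArg (Subgroup.map L.subtype) hperf
      rwa [Subgroup.map_commutator, ← MonoidHom.range_eq_map, Subgroup.range_subtype] at this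
    haveI := hL.2
    haveI : ((N.subgroupOf L).map (QuotientGroup.mk' (Subgroup.center L))).Normal :=
      Subgroup.Normal.map inferInstance _ (QuotientGroup.mk'_surjective _)
    rcases IsSimpleGroup.eq_bot_or_eq_top_of_normal ((N.subgroupOf L).map (QuotientGroup.mk' (Subgroup.center L))) inferInstance with h | h
    · have hle : ∀ v ∈ N, v ∈ L → v ∈ Z := fun v hv hvL => by
        rw [hZ]
        exact ⟨⟨v, hvL⟩, (QuotientGroup.eq_one_iff _).mp (Subgroup.mem_bot.mp (h.le ⟨⟨v, hvL⟩, hv, rfl⟩)), rfl⟩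
      have hc : ∀ l ∈ L, l * d * l⁻¹ * d⁻¹ ∈ Z := fun l hl => by
        refine hle _ (mul_mem ((inferInstance : N.Normal).conj_mem d hdN l) (inv_mem hdN)) ?_
        rw [show l * d * l⁻¹ * d⁻¹ = l * (d * l⁻¹ * d⁻¹) by group]
        exact mul_mem hl ((inferInstance : L.Normal).conj_mem _ (inv_mem hl) d)
      have hcd : ∀ l ∈ L, l * d = d * l := by
        have : L ≤ Subgroup.centralizer ({d} : Set G) := by
          conv_lhs => rw [← hLperf]
          rw [Subgroup.commutator_le]
          intro a ha b hb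
          rw [Subgroup.mem_centralizer_singleton_iff]
          have ea : a * d * a⁻¹ = (a * d * a⁻¹ * d⁻¹) * d := by group
          have eb : b * d * b⁻¹ = (b * d * b⁻¹ * d⁻¹) * d := by group
          obtain ⟨ca, hca, ea⟩ : ∃ c ∈ Z, a * d * a⁻¹ = c * d := ⟨_, hc a ha, ea⟩
          obtain ⟨cb, hcb, eb⟩ : ∃ c ∈ Z, b * d * b⁻¹ = c * d := ⟨_, hc b hb, eb⟩
          have f1 : ∀ l ∈ L, ∀ c ∈ Z, l * (c * d) * l⁻¹ = c * (l * d * l⁻¹) := fun l hl c hcm => by
            rw [← mul_assoc l, hZc c hcm l hl]; group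
          have f2 : (a * b) * d * (a * b)⁻¹ = (b * a) * d * (b * a)⁻¹ := by
            rw [show (a * b) * d * (a * b)⁻¹ = a * (b * d * b⁻¹) * a⁻¹ by group,
              show (b * a) * d * (b * a)⁻¹ = b * (a * d * a⁻¹) * b⁻¹ by group, eb, ea, f1 a ha cb hcb,
              f1 b hb ca hca, ea, eb, ← mul_assoc, ← mul_assoc, hZc ca hca cb (hZL hcb)]
          rw [commutatorElement_def]
          refine mul_inv_eq_iff_eq_mul.mp ?_
          have f3 : (a⁻¹ * b⁻¹) * ((b * a) * d * (b * a)⁻¹) * (a⁻¹ * b⁻¹)⁻¹ = d := by group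
          have e5 : (a * b * a⁻¹ * b⁻¹) = (a * b) * (b * a)⁻¹ := by group
          rw [e5]
          calc a * b * (b * a)⁻¹ * d * (a * b * (b * a)⁻¹)⁻¹
              = a * b * ((b * a)⁻¹ * d * (b * a)) * (a * b)⁻¹ := by group
            _ = d := by
              have hba : b * a ∈ L := mul_mem hb ha
              obtain ⟨c, hcZ, ec⟩ : ∃ c ∈ Z, (b * a)⁻¹ * d * (b * a)⁻¹⁻¹ = c * d :=
                ⟨_, hc _ (inv_mem hba), by group⟩
              rw [inv_inv] at ec
              rw [ec, f1 _ (mul_mem ha hb) c hcZ, f2, ← f1 _ hba c hcZ, ← ec]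
              group
        exact fun l hl => Subgroup.mem_centralizer_singleton_iff.mp (this hl)
      refine eq_top_iff.mpr fun g _ => ?_
      show Γ.Reachable d0 _
      have : cg g d0 = d0 := Subtype.ext (by
        show g * d * g⁻¹ = d
        obtain ⟨l, hl, rfl | rfl⟩ := hgl g
        · rw [hcd _ hl, mul_inv_cancel_right]
        · rw [show l * d * d * (l * d)⁻¹ = l * d * l⁻¹ by group, hcd l hl, mul_inv_cancel_right])
      rw [this]
    · have hLT : ∀ l ∈ L, ∃ s ∈ S, ∃ c ∈ Z, s * c = l := by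
        intro l hl
        obtain ⟨v, hv, e⟩ := h.ge (Subgroup.mem_top ((⟨l, hl⟩ : L) : L ⧸ Subgroup.center L))
        have e' : v⁻¹ * (⟨l, hl⟩ : L) ∈ Subgroup.center L := QuotientGroup.eq.mp e
        obtain ⟨s, hs, c, hc, esc⟩ := Subgroup.mem_sup_of_normal_right.mp (hNT hv)
        refine ⟨s, hs, c * ((v⁻¹ * ⟨l, hl⟩ : L) : G), mul_mem hc (hZ.ge ⟨_, e', rfl⟩), ?_⟩
        rw [← mul_assoc, esc]
        show (v : G) * ((v : G)⁻¹ * l) = l
        rw [mul_inv_cancel_left]
      have hLS : L ≤ S := by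
        conv_lhs => rw [← hLperf]
        rw [Subgroup.commutator_le]
        intro a ha b hb
        obtain ⟨s, hs, c, hc, rfl⟩ := hLT a ha
        obtain ⟨t, ht, c', hc', rfl⟩ := hLT b hb
        have hs' : s ∈ L := by simpa using mul_mem ha (inv_mem (hZL hc))
        have ht' : t ∈ L := by simpa using mul_mem hb (inv_mem (hZL hc'))
        have e1 : c * (t * c') = t * c' * c := (hZc c hc _ hb).symm
        have e2 : c' * s⁻¹ = s⁻¹ * c' := (hZc c' hc' _ (inv_mem hs')).symm
        have : ⁅s * c, t * c'⁆ = ⁅s, t⁆ := by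
          simp only [commutatorElement_def]
          rw [show s * c * (t * c') * (s * c)⁻¹ * (t * c')⁻¹ = s * (c * (t * c')) * c⁻¹ * s⁻¹ * (t * c')⁻¹ by group,
            e1, show s * (t * c' * c) * c⁻¹ * s⁻¹ * (t * c')⁻¹ = s * t * (c' * s⁻¹) * (c'⁻¹ * t⁻¹) by group, e2]
          group
        rw [this, commutatorElement_def]
        exact mul_mem (mul_mem (mul_mem hs ht) (inv_mem hs)) (inv_mem ht)
      exact top_le_iff.mp (hgen.ge.trans (sup_le hLS (Subgroup.zpowers_le.mpr hdS)))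
  haveI : Nonempty (conjugatesOf d) := ⟨d0⟩
  have key : ∀ u : conjugatesOf d, Γ.Reachable d0 u := fun u => by
    obtain ⟨g, hg⟩ := isConj_iff.mp u.2
    have : Γ.Reachable d0 (cg g d0) := hfin.ge (Subgroup.mem_top g)
    rwa [show cg g d0 = u from Subtype.ext hg] at this
  exact ⟨fun u v => (key u).symm.trans (key v)⟩

/-- Let G be a finite group with a quasisimple normal subgroup L and an involution d such that G is generated by L and d, the centre of L has odd order, and d inverts every element of the centre of L. If the commuting graph on the conjugacy class of the image of d in G modulo the centre of L is connected, then the commuting graph on the conjugacy class of d is connected. -/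
theorem result {G : Type*} [Group G] [Finite G] (L : Subgroup G) [L.Normal] (hL : Cfsg.IsQuasisimple ↥L) (d : G) (hd : orderOf d = 2) (hgen : L ⊔ Subgroup.zpowers d = ⊤) (hodd : Odd (Nat.card ↥(Subgroup.center ↥L))) (hinv : ∀ c ∈ (Subgroup.center ↥L).map L.subtype, d * c * d⁻¹ = c⁻¹) [hn : ((Subgroup.center ↥L).map L.subtype).Normal] (hconn : (Cfsg.commutingGraph (conjugatesOf (QuotientGroup.mk d : G ⧸ (Subgroup.center ↥L).map L.subtype))).Connected) : (Cfsg.commutingGraph (conjugatesOf d)).Connected := by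
  exact core L hL d hd hgen hodd _ rfl hinv hconn

end Cfsg.Agent.S5459
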