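import Cfsg.Statements.S5521
import Cfsg.Agent.Lib.Golay.Basic

set_option autoImplicit false
open Cfsg

namespace Cfsg.Agent.S5521

open Cfsg.Agent.Golay

theorem card_five : Nat.card (chain 5) = 48 := by
  have h7 : Nat.card (chain 7) = 1 := by rw [chain_seven]; exact Subgroup.card_bot
  have hl : ∀ i : Fin 7, (lev i.val).length = [24, 23, 22, 21, 20, 16, 3].getD i.val 0 := by
    decide +kernel
  have h6 : Nat.card (chain 6) = 3 := by
    have := card_chain_step ⟨6, by omega⟩
    rw [hl] at this; simp [h7] at this; omega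
  have := card_chain_step ⟨5, by omega⟩
  rw [hl] at this; simp [h6] at this; omega

/-- The Mathieu group M₂₄ in its natural action on the 24 coordinate positions of the binary Golay code has minimal base size exactly 7: every set of at most 6 positions is fixed pointwise by some non-identity element of M₂₄, while some set of 7 positions is fixed pointwise only by the identity. -/
theorem result :
    (∀ B : Finset Cfsg.GolayPt, B.card ≤ 6 → ∃ g ∈ Cfsg.M24, g ≠ 1 ∧ ∀ b ∈ B, g b = b) ∧
    (∃ B : Finset Cfsg.GolayPt, B.card = 7 ∧ ∀ g ∈ Cfsg.M24, (∀ b ∈ B, g b = b) → g = 1) := by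
  classical
  constructor
  · intro B hB
    obtain ⟨B', hBB, -, hB'⟩ := Finset.exists_subsuperset_card_eq (Finset.subset_univ B) hB
      (by decide +kernel : 6 ≤ (Finset.univ : Finset Cfsg.GolayPt).card)
    obtain ⟨x, hx⟩ : B'.Nonempty := by rw [← Finset.card_pos, hB']; omega
    have hc : (B'.erase x).card = 5 := by rw [Finset.card_erase_of_mem hx, hB']
    obtain ⟨σ, hσ, hmap⟩ := exists_mem_M24_map
      (((B'.erase x).equivFinOfCardEq hc).symm.toEmbedding.trans (Function.Embedding.subtype _))
    set y := σ.symm x with hy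
    have hlt : (MulAction.orbit (chain 5) y).ncard < 48 := by
      calc (MulAction.orbit (chain 5) y).ncard ≤ (Set.univ : Set Cfsg.GolayPt).ncard :=
            Set.ncard_le_ncard (Set.subset_univ _)
        _ < 48 := by rw [Set.ncard_univ, Nat.card_eq_fintype_card]; decide +kernel
    have hne : MulAction.stabilizer (chain 5) y ≠ ⊥ := by
      intro h
      have := Subgroup.index_mul_card (MulAction.stabilizer (chain 5) y)
      rw [h, Subgroup.card_bot, mul_one, card_five, ← h, MulAction.index_stabilizer] at this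
      omega
    obtain ⟨⟨f, hf⟩, hfy, hf1⟩ := (Subgroup.ne_bot_iff_exists_ne_one.mp hne) |> fun ⟨a, ha⟩ =>
      (⟨a.1, a.2, fun h => ha (Subtype.ext h)⟩ : ∃ a : chain 5, a ∈ MulAction.stabilizer (chain 5) y ∧ a ≠ 1)
    have hfy' : f y = y := hfy
    refine ⟨σ * f * σ⁻¹, mul_mem (mul_mem hσ hf.1) (inv_mem hσ), ?_, fun b hb => ?_⟩
    · intro h
      apply hf1
      have : f = 1 := by
        have := congrArg (fun g => σ⁻¹ * g * σ) h
        simpa [mul_assoc] using this
      exact Subtype.ext this
    · rw [Equiv.Perm.mul_apply, Equiv.Perm.mul_apply, Equiv.Perm.coe_inv]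
      by_cases hbx : b = x
      · subst hbx; rw [← hy, hfy', hy, Equiv.apply_symm_apply]
      · have hb' : b ∈ B'.erase x := Finset.mem_erase.mpr ⟨hbx, hBB hb⟩
        obtain ⟨i, hi⟩ : ∃ i, ((((B'.erase x).equivFinOfCardEq hc).symm i : B'.erase x) : Cfsg.GolayPt) = b :=
          ⟨(B'.erase x).equivFinOfCardEq hc ⟨b, hb'⟩, by rw [Equiv.symm_apply_apply]⟩
        have hm : σ (pt (bpt i.val)) = b := (hmap i).trans hi
        rw [← hm, Equiv.symm_apply_apply, hf.2 i.val i.isLt]
  · refine ⟨(baseL.map pt).toFinset, by decide +kernel, fun g hg hfix => eq_one_of_fixes_base hg fun i => ?_⟩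
    refine hfix _ (List.mem_toFinset.mpr (List.mem_map_of_mem ?_))
    revert i; decide +kernel

end Cfsg.Agent.S5521
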