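import Cfsg.Statements.S5522
import Cfsg.Agent.Lib.Golay.Mathieu

set_option autoImplicit false
open Cfsg

namespace Cfsg.Agent.S5522

open Cfsg.Agent.Golay
open scoped Pointwise

local notation "H1" => fixN stabD baseL 1

/-- Words for the six elements fixing three points of the complement. -/
def kWords : List (List Tok) :=
  [[], [(false, 1), (true, 3), (true, 3), (false, 0), (false, 0)],
   [(true, 0), (true, 0), (false, 3), (false, 3), (true, 1)],
   [(true, 2), (true, 1), (false, 3), (false, 1), (false, 3)],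
   [(false, 0), (false, 0), (true, 3), (true, 2), (false, 0), (false, 3)],
   [(false, 0), (false, 2), (false, 3), (true, 1), (true, 1), (true, 2)]]

theorem hw (t : List Tok) : wordPerm (tokWord gens11 t) ∈ H1 :=
  tokWord_mem (fun g hg => fixN_word (wordPerm_stabD (gens11_pres g hg)) (gens11_ok g hg).2) t

theorem kWords_fix : ∀ k : Fin 6, ∀ j : Fin 3,
    ev (tokWord gens11 (kWords.getD k.val [])) (bat coBase j.val) = bat coBase j.val := by
  decide +kernel

theorem kWords_inj : ∀ k l : Fin 6,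
    (∀ i : Fin 24, ev (tokWord gens11 (kWords.getD k.val [])) i = ev (tokWord gens11 (kWords.getD l.val [])) i) →
      k = l := by
  decide +kernel

theorem inv_compl {g : Equiv.Perm GolayPt} (hg : g ∈ H1) {a : GolayPt} (ha : a ∈ D0ᶜ) : g a ∈ D0ᶜ := by
  rw [Finset.mem_compl] at ha ⊢
  exact fun e => ha (((stabD_mem_iff.mp hg.1).2 a).mpr e)

theorem cov {i : ℕ} (hi : i < 3) (q : GolayPt) (hq : q ∈ D0ᶜ) (h : ∀ j < i, q ≠ pt (bat coBase j)) :
    ∃ e ∈ levelsCo.getD i [], wordPerm (tokWord gens11 e.2) ∈ fixN H1 coBase i ∧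
      wordPerm (tokWord gens11 e.2) (pt (bat coBase i)) = q := by
  have hlen : levelsCo.length = 3 := by decide +kernel
  rw [Finset.mem_compl, D0, mem_supp, Bool.not_eq_true] at hq
  obtain ⟨e, he, hxe⟩ := List.mem_map.mp (levelsCo_cov ⟨i, hi⟩ (idx q) hq fun j hj =>
    h j.val j.isLt (by apply_fun pt at hj; rwa [pt_idx] at hj))
  obtain ⟨h1, h2⟩ := levelsCo_ok ⟨i, by omega⟩ e he
  simp only [Nat.zero_add] at h1
  refine ⟨e, he, fixN_word (hw _) fun j => ?_, ?_⟩
  · exact h2 ⟨j.val, by simp⟩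
  · rw [wordPerm_apply, h1, hxe, pt_idx]

theorem co_compl : ∀ j : Fin 3, pt (bat coBase j.val) ∈ D0ᶜ := by decide +kernel

theorem co_inj : ∀ i j : Fin 3, pt (bat coBase i.val) = pt (bat coBase j.val) → i = j := by decide +kernel

theorem step {i : ℕ} (hi : i < 3) {σ : Equiv.Perm GolayPt} (hσ : σ ∈ fixN H1 coBase i) :
    ∃ e ∈ levelsCo.getD i [], wordPerm (tokWord gens11 e.2) (pt (bat coBase i)) = σ (pt (bat coBase i)) ∧
      (wordPerm (tokWord gens11 e.2))⁻¹ * σ ∈ fixN H1 coBase (i + 1) := by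
  obtain ⟨e, he, h1, h2⟩ := cov hi (σ (pt (bat coBase i))) (inv_compl hσ.1 (co_compl ⟨i, hi⟩))
    fun j hj hji => by
      rw [← hσ.2 j hj] at hji
      have := congrArg Fin.val (co_inj ⟨i, hi⟩ ⟨j, by omega⟩ (σ.injective hji))
      simp only at this
      omega
  exact ⟨e, he, h2, fixN_step hσ h1 h2⟩

theorem card_K : Nat.card (fixN H1 coBase 3) = 6 := by
  have hs : ∀ i : Fin 3, Nat.card (fixN H1 coBase i.val) =
      (12 - i.val) * Nat.card (fixN H1 coBase (i.val + 1)) := by
    intro i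
    rw [card_fixN_step (H := H1) (bs := coBase) (n := i.val)
      (Finset.univ.filter fun p : GolayPt => p ∈ D0ᶜ ∧ ∀ j : Fin i.val, p ≠ pt (bat coBase j.val))
      ?_ ?_]
    · congr 1
      revert i
      decide +kernel
    · intro σ hσ
      refine Finset.mem_filter.2 ⟨Finset.mem_univ _, inv_compl hσ.1 (co_compl i), fun j hj => ?_⟩
      rw [← hσ.2 j.val j.isLt] at hj
      have := congrArg Fin.val (co_inj i ⟨j.val, by omega⟩ (σ.injective hj))
      simp only at this
      omega
    · intro p hp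
      obtain ⟨h1, h2⟩ := (Finset.mem_filter.1 hp).2
      obtain ⟨e, -, h3, h4⟩ := cov i.isLt p h1 fun j hj => h2 ⟨j, hj⟩
      exact ⟨_, h3, h4⟩
  have h0 := hs 0
  have h1 := hs 1
  have h2 := hs 2
  simp only [Fin.val_zero, Fin.val_one, Fin.val_two, Nat.zero_add, Nat.reduceAdd, fixN_zero, card_stabD.2] at h0 h1 h2
  omega

theorem mem_K {σ : Equiv.Perm GolayPt} (hσ : σ ∈ fixN H1 coBase 3) :
    ∃ k : Fin 6, σ = wordPerm (tokWord gens11 (kWords.getD k.val [])) := by
  let f : Fin 6 → fixN H1 coBase 3 := fun k =>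
    ⟨wordPerm (tokWord gens11 (kWords.getD k.val [])), fixN_word (hw _) (kWords_fix k)⟩
  have hf : Function.Injective f := fun k l h => kWords_inj k l fun i => by
    have := congrArg (fun s : fixN H1 coBase 3 => idx ((s : Equiv.Perm GolayPt) (pt i))) h
    simpa [f, wordPerm_apply, idx_pt] using this
  obtain ⟨k, hk⟩ := ((Nat.bijective_iff_injective_and_card f).2 ⟨hf, by rw [card_K, Nat.card_fin]⟩).2 ⟨σ, hσ⟩
  exact ⟨k, (congrArg Subtype.val hk).symm⟩

/-- Positions outside the standard word. -/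
def outside : List (Fin 24) := (List.finRange 24).filter fun i => !dMask.testBit i.val

/-- No derangement among the listed elements. -/
def Good (p : ℕ) (w : List (Fin 5)) : Bool :=
  (outside.any fun i => ev (List.replicate p w).flatten i != i) || outside.any fun i => ev w i == i

/-- The exhaustive check. -/
def chk (p : ℕ) (T : Fin 24) : Bool :=
  (levelsCo.getD 0 []).all fun e0 => e0.1 != bat coBase 1 ||
    (levelsCo.getD 1 []).all fun e1 =>
      ev (tokWord gens11 e0.2 ++ tokWord gens11 e1.2) (bat coBase 1) != T ||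
        (levelsCo.getD 2 []).all fun e2 => kWords.all fun k =>
          Good p (tokWord gens11 e0.2 ++ tokWord gens11 e1.2 ++ tokWord gens11 e2.2 ++ tokWord gens11 k)

theorem chk_two : chk 2 (bat coBase 0) = true := by decide +kernel

theorem chk_three : chk 3 (bat coBase 2) = true := by decide +kernel

theorem lev_fst : ∀ e ∈ levelsCo.getD 0 [], ev (tokWord gens11 e.2) (bat coBase 0) = e.1 := by
  decide +kernel

theorem core {p : ℕ} {T : Fin 24} (hc : chk p T = true) {σ : Equiv.Perm GolayPt} (hσ : σ ∈ H1)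
    (hp : σ ^ p = 1) (h0 : σ (pt (bat coBase 0)) = pt (bat coBase 1))
    (h1 : σ (pt (bat coBase 1)) = pt T) : ∃ x ∈ D0ᶜ, σ x = x := by
  have hσ0 : σ ∈ fixN H1 coBase 0 := by rw [fixN_zero]; exact hσ
  obtain ⟨e0, he0, a0, b0⟩ := step (i := 0) (by norm_num) hσ0
  obtain ⟨e1, he1, a1, b1⟩ := step (i := 1) (by norm_num) b0
  obtain ⟨e2, he2, a2, b2⟩ := step (i := 2) (by norm_num) b1
  obtain ⟨k, hk⟩ := mem_K b2
  have hσw : σ = wordPerm (tokWord gens11 e0.2 ++ tokWord gens11 e1.2 ++ tokWord gens11 e2.2 ++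
      tokWord gens11 (kWords.getD k.val [])) := by
    rw [wordPerm_append, wordPerm_append, wordPerm_append, ← hk]
    simp only [mul_assoc, mul_inv_cancel_left]
  have pinj : ∀ {u v : Fin 24}, pt u = pt v → u = v := fun h => by
    have := congrArg idx h
    rwa [idx_pt, idx_pt] at this
  rw [chk, List.all_eq_true] at hc
  have c0 := hc e0 he0
  rw [Bool.or_eq_true] at c0
  have hne0 : ¬ (e0.1 != bat coBase 1) = true := by
    have := a0.trans h0
    rw [wordPerm_apply, lev_fst e0 he0] at this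
    simp [pinj this]
  have c1 := (List.all_eq_true.1 (c0.resolve_left hne0)) e1 he1
  rw [Bool.or_eq_true] at c1
  have hne1 : ¬ (ev (tokWord gens11 e0.2 ++ tokWord gens11 e1.2) (bat coBase 1) != T) = true := by
    have e : wordPerm (tokWord gens11 e0.2 ++ tokWord gens11 e1.2) (pt (bat coBase 1)) = pt T := by
      rw [wordPerm_append, Equiv.Perm.mul_apply, a1, Equiv.Perm.mul_apply, Equiv.Perm.coe_inv,
        Equiv.apply_symm_apply, h1]
    rw [wordPerm_apply] at e
    simp [pinj e]
  have c2 := (List.all_eq_true.1 ((List.all_eq_true.1 (c1.resolve_left hne1)) e2 he2))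
    (kWords.getD k.val []) (by
      have : kWords.length = 6 := rfl
      rw [List.getD_eq_getElem _ _ (by omega)]; exact List.getElem_mem _)
  rw [Good, Bool.or_eq_true, List.any_eq_true, List.any_eq_true] at c2
  rcases c2 with ⟨i, -, hi⟩ | ⟨i, hmem, hi⟩
  · exfalso
    rw [bne_iff_ne] at hi
    apply hi
    apply pinj
    rw [← wordPerm_apply, wordPerm_pow, ← hσw, hp]
    rfl
  · refine ⟨pt i, ?_, ?_⟩
    · simp only [outside, List.mem_filter, Bool.not_eq_true'] at hmem
      rw [Finset.mem_compl, D0, mem_supp, idx_pt, hmem.2]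
      simp
    · rw [hσw, wordPerm_apply, beq_iff_eq.1 hi]

theorem squares_mem : Cfsg.Spor.squareDodecad ∈ dodecads := by
  refine ⟨⟨qrWord 0, (Submodule.subset_span ?_ : qrWord 0 ∈ golayCode), rfl⟩, ?_⟩
  · simp
  · decide +kernel

/-- The Mathieu group M₁₁, realised as the stabiliser of one point of the dodecad of squares inside the stabiliser M₁₂ of that dodecad in M₂₄, acts on the twelve coordinate positions outside the dodecad of squares (its 3-transitive action of degree 12); in this action every element of prime order fixes a point, i.e. the action is elusive. -/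
theorem result (g : Equiv.Perm Cfsg.GolayPt) (hg : g ∈ Cfsg.Spor.M11) (hord : (orderOf g).Prime) :
    ∃ x : Cfsg.GolayPt, x ∉ Cfsg.Spor.squareDodecad ∧ g x = x := by
  have hp0 : some 0 ∈ Cfsg.Spor.squareDodecad := by decide +kernel
  obtain ⟨τ, hτ, hd, hτ0⟩ := exists_dodecad_point squares_mem hp0
  obtain ⟨⟨hM, hS⟩, hz⟩ := hg
  set σ := τ⁻¹ * g * τ with hσdef
  have hσ : σ ∈ H1 := by
    refine ⟨(conj_stabD hτ g).mp ⟨hM, by rw [hd]; exact hS⟩, fun i hi => ?_⟩
    obtain rfl : i = 0 := by omega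
    rw [hσdef, Equiv.Perm.mul_apply, Equiv.Perm.mul_apply, hτ0, show g (some 0) = some 0 from hz,
      Equiv.Perm.coe_inv, Equiv.symm_apply_eq, hτ0]
  suffices hmain : ∀ σ ∈ H1, (orderOf σ).Prime → ∃ x ∈ D0ᶜ, σ x = x by
    have hord' : (orderOf σ).Prime := by
      rw [hσdef, show τ⁻¹ * g * τ = MulAut.conj τ⁻¹ g by rw [MulAut.conj_apply, inv_inv],
        MulEquiv.orderOf_eq]
      exact hord
    obtain ⟨x, hx, hfix⟩ := hmain σ hσ hord'
    refine ⟨τ x, ?_, ?_⟩
    · rw [← hd, ← Equiv.Perm.smul_def, Finset.smul_mem_smul_finset_iff]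
      exact Finset.mem_compl.1 hx
    · rw [hσdef, Equiv.Perm.mul_apply, Equiv.Perm.mul_apply, Equiv.Perm.coe_inv, Equiv.symm_apply_eq] at hfix
      exact hfix
  clear * - hτ
  intro σ hσ hord
  by_contra hno
  push Not at hno
  have hpow := pow_orderOf_eq_one σ
  set p := orderOf σ with hp
  have hcard : (D0ᶜ : Finset GolayPt).card = 12 := by decide +kernel
  have hp23 : p = 2 ∨ p = 3 := by
    by_contra hne
    push Not at hne
    haveI := Fact.mk hord
    let π : Equiv.Perm {x : GolayPt // x ∈ D0ᶜ} := σ.subtypePerm fun x =>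
      ⟨fun h => by simpa using inv_compl (inv_mem hσ) h, fun h => inv_compl hσ h⟩
    have hπ : π ^ p ^ 1 = 1 := by
      rw [pow_one, Equiv.Perm.subtypePerm_pow]
      ext x
      simp [hpow]
    obtain ⟨x, hx⟩ := Equiv.Perm.exists_fixed_point_of_prime (p := p) (n := 1) (by
      rw [Fintype.card_coe, hcard]
      intro hd
      have := Nat.le_of_dvd (by norm_num) hd
      have h1 := hord.two_le
      interval_cases p <;> first | omega | norm_num at hd hord) hπ
    exact hno x.1 x.2 (congrArg Subtype.val hx)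
  set a := pt (bat coBase 0)
  have haD : a ∈ D0ᶜ := co_compl 0
  let x : Fin 3 ↪ GolayPt := ⟨fun i => pt (bat coBase i.val), fun i j h => co_inj i j h⟩
  have conj : ∀ b c : GolayPt, b ∈ D0ᶜ → c ∈ D0ᶜ → a ≠ b → a ≠ c → b ≠ c →
      ∃ h ∈ H1, h a = a ∧ h (pt (bat coBase 1)) = b ∧ h (pt (bat coBase 2)) = c := by
    intro b c hb hc hab hac hbc
    let y : Fin 3 ↪ GolayPt := ⟨![a, b, c], fun i j h => by
      fin_cases i <;> fin_cases j <;> simp_all [eq_comm]⟩
    obtain ⟨h, hh, e⟩ := exists_tuple (H := H1) (bs := coBase) (N := 3) D0ᶜ (fun g hg a ha => inv_compl hg ha)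
      (fun i hi q hq hne => by
        obtain ⟨e, -, h1, h2⟩ := cov hi q hq hne
        exact ⟨_, h1, h2⟩) y (fun i => by fin_cases i <;> assumption)
    exact ⟨h, hh, e 0, e 1, e 2⟩
  have hb : σ a ∈ D0ᶜ := inv_compl hσ haD
  have hab : a ≠ σ a := Ne.symm (hno a haD)
  have finish : ∀ (c : GolayPt) (T : Fin 24), c ∈ D0ᶜ → a ≠ c → σ a ≠ c → chk p T = true →
      (∀ h : Equiv.Perm GolayPt, h a = a → h (pt (bat coBase 2)) = c → h (pt T) = σ (σ a)) → False := by
    intro c T hc hac hbc hchk hT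
    obtain ⟨h, hh, h0, h1, h2⟩ := conj (σ a) c hb hc hab hac hbc
    obtain ⟨x, hx, hfix⟩ := core hchk (σ := h⁻¹ * σ * h) (mul_mem (mul_mem (inv_mem hh) hσ) hh)
      (by
        rw [show h⁻¹ * σ * h = MulAut.conj h⁻¹ σ by rw [MulAut.conj_apply, inv_inv], ← map_pow, hpow, map_one])
      (by rw [Equiv.Perm.mul_apply, Equiv.Perm.mul_apply, h0, Equiv.Perm.coe_inv, Equiv.symm_apply_eq, h1])
      (by rw [Equiv.Perm.mul_apply, Equiv.Perm.mul_apply, h1, Equiv.Perm.coe_inv, Equiv.symm_apply_eq, hT h h0 h2])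
    rw [Equiv.Perm.mul_apply, Equiv.Perm.mul_apply, Equiv.Perm.coe_inv, Equiv.symm_apply_eq] at hfix
    exact hno (h x) (inv_compl hh hx) hfix
  rcases hp23 with e | e
  · rw [e] at hpow
    obtain ⟨c, hc⟩ : ((D0ᶜ : Finset GolayPt) \ {a, σ a}).Nonempty := by
      rw [← Finset.card_pos]
      have := Finset.le_card_sdiff {a, σ a} (D0ᶜ : Finset GolayPt)
      have := Finset.card_le_two (a := a) (b := σ a)
      omega
    simp only [Finset.mem_sdiff, Finset.mem_insert, Finset.mem_singleton, not_or] at hc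
    refine finish c (bat coBase 0) hc.1 (Ne.symm hc.2.1) (Ne.symm hc.2.2) (e ▸ chk_two) fun h h0 _ => ?_
    rw [show σ (σ a) = a by rw [← Equiv.Perm.mul_apply, ← sq, hpow]; rfl]
    exact h0
  · rw [e] at hpow
    have h3 : σ (σ (σ a)) = a := by
      rw [← Equiv.Perm.mul_apply, ← Equiv.Perm.mul_apply, ← sq, ← pow_succ, hpow]; rfl
    refine finish (σ (σ a)) (bat coBase 2) (inv_compl hσ hb) (fun h => hab ?_) (Ne.symm (hno _ hb))
      (e ▸ chk_three) fun h _ h2 => h2
    exact h3.symm.trans (congrArg σ h).symm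

end Cfsg.Agent.S5522
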