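import Cfsg.Statements.S5541
import Mathlib.LinearAlgebra.BilinearForm.Properties

set_option autoImplicit false
open Cfsg

namespace Cfsg.Agent.S5541

/-- Let ρ be a representation of a group H on a finite-dimensional real vector space U whose only ρ-invariant subspaces are the zero subspace and U, and suppose U carries a non-zero ρ-invariant symmetric bilinear form. Then the following are equivalent: (1) there is a non-zero ρ-equivariant commutative bilinear product on U of which every ρ-equivariant bilinear product is a scalar multiple; (2) there is a non-zero ρ-invariant trilinear form on U that is symmetric under all permutations of its arguments and of which every ρ-invariant trilinear form is a scalar multiple. -/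
theorem result {H : Type*} [Group H] {U : Type*} [AddCommGroup U] [Module ℝ U] [FiniteDimensional ℝ U] (ρ : Representation ℝ H U) (hirr : ∀ W : Submodule ℝ U, (∀ g : H, W.map (ρ g) ≤ W) → W = ⊥ ∨ W = ⊤) (B : LinearMap.BilinForm ℝ U) (hB0 : B ≠ 0) (hBs : ∀ u v, B u v = B v u) (hBi : ∀ (g : H) (u v : U), B (ρ g u) (ρ g v) = B u v) : (∃ m : U →ₗ[ℝ] U →ₗ[ℝ] U, m ≠ 0 ∧ (∀ u v, m u v = m v u) ∧ (∀ (g : H) (u v : U), m (ρ g u) (ρ g v) = ρ g (m u v)) ∧ ∀ m' : U →ₗ[ℝ] U →ₗ[ℝ] U, (∀ (g : H) (u v : U), m' (ρ g u) (ρ g v) = ρ g (m' u v)) → ∃ c : ℝ, m' = c • m) ↔ (∃ t : U →ₗ[ℝ] U →ₗ[ℝ] U →ₗ[ℝ] ℝ, t ≠ 0 ∧ (∀ u v w, t u v w = t v u w ∧ t u v w = t u w v) ∧ (∀ (g : H) (u v w : U), t (ρ g u) (ρ g v) (ρ g w) = t u v w) ∧ ∀ t' : U →ₗ[ℝ] U →ₗ[ℝ] U →ₗ[ℝ] ℝ, (∀ (g : H) (u v w : U), t' (ρ g u) (ρ g v) (ρ g w) = t' u v w) → ∃ c : ℝ, t' = c • t) := by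
  have hinv : ∀ (g : H) (v : U), ρ g (ρ g⁻¹ v) = v := fun g v => by
    rw [← Module.End.mul_apply, ← map_mul, mul_inv_cancel, map_one, Module.End.one_apply]
  have hker : LinearMap.ker B = ⊥ := by
    refine (hirr (LinearMap.ker B) fun g => ?_).resolve_right fun h => hB0 (LinearMap.ker_eq_top.1 h)
    rintro _ ⟨w, hw, rfl⟩
    refine LinearMap.mem_ker.2 (LinearMap.ext fun v => ?_)
    rw [← hinv g v, hBi, LinearMap.mem_ker.1 hw]
    rfl
  have hnd : B.Nondegenerate := by
    refine ⟨fun u hu => ?_, fun v hv => ?_⟩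
    · have : u ∈ LinearMap.ker B := LinearMap.mem_ker.2 (LinearMap.ext hu)
      rw [hker] at this
      simpa using this
    · have : v ∈ LinearMap.ker B := LinearMap.mem_ker.2 (LinearMap.ext fun u => by rw [hBs]; exact hv u)
      rw [hker] at this
      simpa using this
  -- product ↔ form
  let toT : (U →ₗ[ℝ] U →ₗ[ℝ] U) → (U →ₗ[ℝ] U →ₗ[ℝ] U →ₗ[ℝ] ℝ) := fun m => m.compr₂ B
  let toM : (U →ₗ[ℝ] U →ₗ[ℝ] U →ₗ[ℝ] ℝ) → (U →ₗ[ℝ] U →ₗ[ℝ] U) := fun t =>
    t.compr₂ (B.toDual hnd).symm.toLinearMap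
  have hT : ∀ m u v w, toT m u v w = B (m u v) w := fun _ _ _ _ => rfl
  have hM : ∀ t u v w, B (toM t u v) w = t u v w := fun t u v w =>
    LinearMap.BilinForm.apply_toDual_symm_apply (hB := hnd) (t u v) w
  have hext : ∀ x y : U, (∀ w, B x w = B y w) → x = y := fun x y h => sub_eq_zero.1
    (hnd.1 _ fun w => by rw [map_sub, LinearMap.sub_apply, h, sub_self])
  constructor
  · rintro ⟨m, hm0, hms, hme, hmu⟩
    have hTinv : ∀ (g : H) (u v w : U), toT m (ρ g u) (ρ g v) (ρ g w) = toT m u v w := fun g u v w => by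
      rw [hT, hT, hme, hBi]
    have huniq : ∀ t' : U →ₗ[ℝ] U →ₗ[ℝ] U →ₗ[ℝ] ℝ,
        (∀ (g : H) (u v w : U), t' (ρ g u) (ρ g v) (ρ g w) = t' u v w) → ∃ c : ℝ, t' = c • toT m := by
      intro t' ht'
      obtain ⟨c, hc⟩ := hmu (toM t') fun g u v => hext _ _ fun w => by
        rw [hM, ← hinv g w, ht', hBi, hM]
      refine ⟨c, LinearMap.ext fun u => LinearMap.ext fun v => LinearMap.ext fun w => ?_⟩
      rw [← hM t' u v w, hc]
      simp [hT]
    have hT0 : toT m ≠ 0 := fun e => hm0 (LinearMap.ext fun u => LinearMap.ext fun v => hext _ _ fun w => by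
      rw [← hT, e]; simp)
    have h12 : ∀ u v w, toT m u v w = toT m v u w := fun u v w => by rw [hT, hT, hms]
    let t₂ : U →ₗ[ℝ] U →ₗ[ℝ] U →ₗ[ℝ] ℝ :=
      { toFun := fun u => (toT m u).flip
        map_add' := fun u u' => by ext; simp
        map_smul' := fun a u => by ext; simp }
    obtain ⟨c, hc⟩ := huniq t₂ fun g u v w => hTinv g u w v
    have h23 : ∀ u v w, toT m u w v = c * toT m u v w := fun u v w => by
      have := LinearMap.congr_fun (LinearMap.congr_fun (LinearMap.congr_fun hc u) v) w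
      simpa [t₂] using this
    obtain ⟨u₀, v₀, w₀, hne⟩ : ∃ u v w, toT m u v w ≠ 0 := by
      by_contra h
      push Not at h
      exact hT0 (LinearMap.ext fun u => LinearMap.ext fun v => LinearMap.ext fun w => by simp [h u v w])
    have hc2 : c * c = 1 := by
      refine mul_right_cancel₀ hne ?_
      rw [mul_assoc, ← h23 u₀ v₀ w₀, ← h23 u₀ w₀ v₀, one_mul]
    have hc1 : c = 1 := by
      rcases mul_self_eq_one_iff.1 hc2 with h | h
      · exact h
      exfalso
      refine hne ?_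
      have a := h23 u₀ w₀ v₀
      have b := h12 u₀ w₀ v₀
      have c' := h23 w₀ v₀ u₀
      have d := h12 w₀ v₀ u₀
      have e := h23 v₀ u₀ w₀
      have f := h12 v₀ u₀ w₀
      rw [h] at a c' e
      linarith
    refine ⟨toT m, hT0, fun u v w => ⟨h12 u v w, ?_⟩, hTinv, huniq⟩
    rw [h23 u v w, hc1, one_mul]
  · rintro ⟨t, ht0, hts, hti, htu⟩
    refine ⟨toM t, fun e => ht0 ?_, fun u v => hext _ _ fun w => ?_, fun g u v => hext _ _ fun w => ?_,
      fun m' hm' => ?_⟩
    · refine LinearMap.ext fun u => LinearMap.ext fun v => LinearMap.ext fun w => ?_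
      rw [← hM t u v w, e]; simp
    · rw [hM, hM, (hts u v w).1]
    · rw [hM, ← hinv g w, hti, hBi, hM]
    · obtain ⟨c, hc⟩ := htu (toT m') fun g u v w => by rw [hT, hT, hm', hBi]
      refine ⟨c, LinearMap.ext fun u => LinearMap.ext fun v => hext _ _ fun w => ?_⟩
      rw [← hT, hc]
      simp [hM]

end Cfsg.Agent.S5541
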