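import Cfsg.Statements.S5546
-- import your own Cfsg.Agent.* helpers here

set_option autoImplicit false
open Cfsg

namespace Cfsg.Agent.S5546


theorem single_mem (j : GolayPt) : (Pi.single j 8 : GolayPt → ℤ) ∈ leechLattice := by
  refine AddSubgroup.subset_closure (Cfsg.Spor.mem_leechSet_of_const_mod_four _ 0 0 rfl (fun i => ?_) ?_)
  · rcases eq_or_ne i j with rfl | h
    · rw [Pi.single_eq_same]; decide
    · rw [Pi.single_eq_of_ne h]
  · rw [Finset.sum_pi_single']; simp [Int.ModEq]

theorem pair_mem {j k : GolayPt} (s : ℤ) (hs : s = 4 ∨ s = -4) :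
    (Pi.single j 4 + Pi.single k s : GolayPt → ℤ) ∈ leechLattice := by
  have h4 : ∀ (l i : GolayPt) (t : ℤ), (4 : ℤ) ∣ t → (4 : ℤ) ∣ (Pi.single l t : GolayPt → ℤ) i := by
    intro l i t ht
    rcases eq_or_ne i l with rfl | h
    · rwa [Pi.single_eq_same]
    · rw [Pi.single_eq_of_ne h]; exact dvd_zero _
  refine AddSubgroup.subset_closure (Cfsg.Spor.mem_leechSet_of_const_mod_four _ 0 0 rfl (fun i => ?_) ?_)
  · refine (Int.modEq_zero_iff_dvd.mpr ?_)
    rw [Pi.add_apply]
    exact dvd_add (h4 _ _ _ (dvd_refl 4)) (h4 _ _ _ (by rcases hs with rfl | rfl <;> decide))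
  · simp only [Pi.add_apply, Finset.sum_add_distrib, Finset.sum_pi_single', Finset.mem_univ, if_true]
    rcases hs with rfl | rfl <;> decide

def ev (j : GolayPt) : ↥leechLattice := ⟨Pi.single j 8, single_mem j⟩

theorem add_of (g : ↥Cfsg.Spor.Co2) (v w : ↥leechLattice) :
    (g : Equiv.Perm ↥leechLattice) (v + w) = (g : Equiv.Perm ↥leechLattice) v + (g : Equiv.Perm ↥leechLattice) w :=
  g.2.1.1 v w

theorem norm_of (g : ↥Cfsg.Spor.Co2) (v : ↥leechLattice) :
    sqNorm (((g : Equiv.Perm ↥leechLattice) v : ↥leechLattice) : GolayPt → ℤ) = sqNorm (v : GolayPt → ℤ) :=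
  g.2.1.2 v

def act (g : ↥Cfsg.Spor.Co2) : ↥leechLattice →+ (GolayPt → ℤ) :=
  AddMonoidHom.mk' (fun v => (((g : Equiv.Perm ↥leechLattice) v : ↥leechLattice) : GolayPt → ℤ))
    (fun v w => by rw [add_of]; rfl)

theorem eight_smul (x : ↥leechLattice) : (8 : ℤ) • x = ∑ j, (x : GolayPt → ℤ) j • ev j := by
  apply Subtype.ext
  funext i
  rw [AddSubgroup.val_finsetSum, Finset.sum_apply, Fintype.sum_eq_single i (fun l hl => ?_)]
  · simp [ev, mul_comm]
  · simp [ev, Pi.single_eq_of_ne hl.symm]

theorem dot_u (g : ↥Cfsg.Spor.Co2) (x : ↥leechLattice) :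
    act g x none + act g x (some 0) = (x : GolayPt → ℤ) none + (x : GolayPt → ℤ) (some 0) := by
  have hu : act g Cfsg.Spor.leechU = Cfsg.Spor.vecU := congrArg Subtype.val g.2.2
  have key : ∀ y : GolayPt → ℤ,
      sqNorm (y + Cfsg.Spor.vecU) = sqNorm y + sqNorm Cfsg.Spor.vecU + 8 * (y none + y (some 0)) := by
    intro y
    have h : ∑ i, y i * Cfsg.Spor.vecU i = 4 * (y none + y (some 0)) := by
      rw [Fintype.sum_eq_add none (some 0) (by simp) (fun i hi => ?_)]
      · simp [Cfsg.Spor.vecU]; ring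
      · simp [Cfsg.Spor.vecU, hi.1, hi.2]
    simp only [sqNorm, Pi.add_apply, add_sq, Finset.sum_add_distrib, mul_assoc, ← Finset.mul_sum, h]
    ring
  have h1 := norm_of g (x + Cfsg.Spor.leechU)
  have h2 : sqNorm (act g (x + Cfsg.Spor.leechU)) = sqNorm ((x + Cfsg.Spor.leechU : ↥leechLattice) : GolayPt → ℤ) := h1
  rw [map_add, hu, key, show ((x + Cfsg.Spor.leechU : ↥leechLattice) : GolayPt → ℤ)
    = (x : GolayPt → ℤ) + Cfsg.Spor.vecU from rfl, key, show sqNorm (act g x) = _ from norm_of g x] at h2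
  linarith

def mat (g : ↥Cfsg.Spor.Co2) : Matrix GolayPt GolayPt (ZMod 13) :=
  Matrix.of fun i j => 5 * (act g (ev j) i : ZMod 13)

theorem act_cast (g : ↥Cfsg.Spor.Co2) (x : ↥leechLattice) (i : GolayPt) :
    (act g x i : ZMod 13) = ∑ j, mat g i j * ((x : GolayPt → ℤ) j : ZMod 13) := by
  have h := congrArg (fun v => act g v i) (eight_smul x)
  simp only [map_zsmul, map_sum, Finset.sum_apply, Pi.smul_apply, smul_eq_mul] at h
  have h' := congrArg (fun z : ℤ => (5 : ZMod 13) * (z : ZMod 13)) h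
  simp only [Int.cast_mul, Int.cast_sum, Finset.mul_sum] at h'
  have h40 : (5 : ZMod 13) * ((8 : ℤ) : ZMod 13) = 1 := by decide
  rw [← mul_assoc, h40, one_mul] at h'
  rw [h']
  exact Finset.sum_congr rfl fun j _ => by rw [mat, Matrix.of_apply]; ring

theorem mat_one : mat 1 = 1 := by
  ext i j
  show (5 : ZMod 13) * (((Pi.single j 8 : GolayPt → ℤ) i : ℤ) : ZMod 13) = _
  rcases eq_or_ne i j with rfl | h
  · rw [Pi.single_eq_same, Matrix.one_apply_eq]; decide
  · rw [Pi.single_eq_of_ne h, Matrix.one_apply_ne h, Int.cast_zero, mul_zero]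

theorem mat_mul (g h : ↥Cfsg.Spor.Co2) : mat (g * h) = mat g * mat h := by
  ext i j
  rw [Matrix.mul_apply]
  have e : act (g * h) (ev j) = act g ((h : Equiv.Perm ↥leechLattice) (ev j)) := rfl
  show (5 : ZMod 13) * (act (g * h) (ev j) i : ZMod 13) = _
  rw [e, act_cast, Finset.mul_sum]
  refine Finset.sum_congr rfl fun k _ => ?_
  rw [mat, mat, Matrix.of_apply, Matrix.of_apply]
  show _ = _ * (5 * ((act h (ev j) k : ℤ) : ZMod 13))
  rw [show ((((h : Equiv.Perm ↥leechLattice) (ev j) : ↥leechLattice) : GolayPt → ℤ) k) = act h (ev j) k from rfl]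
  ring

def proj : Matrix (ZMod 23) GolayPt (ZMod 13) :=
  Matrix.of fun i k => if k = some i then 1 else 0

def incl : Matrix GolayPt (ZMod 23) (ZMod 13) :=
  Matrix.of fun k j => if k = some j then 1 else if k = none ∧ j = 0 then -1 else 0

theorem proj_incl : proj * incl = 1 := by decide +kernel

theorem incl_proj : incl * proj = Matrix.of fun k l : GolayPt =>
    if k = none then (if l = some 0 then (-1 : ZMod 13) else 0) else (if l = k then 1 else 0) := by
  decide +kernel

theorem incl_rows : ∀ j : ZMod 23, incl none j + incl (some 0) j = 0 := by decide +kernel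

theorem mat_rows (g : ↥Cfsg.Spor.Co2) (j : GolayPt) :
    mat g none j + mat g (some 0) j = (1 : Matrix GolayPt GolayPt (ZMod 13)) none j +
      (1 : Matrix GolayPt GolayPt (ZMod 13)) (some 0) j := by
  have h := congrArg (fun z : ℤ => (5 : ZMod 13) * (z : ZMod 13)) (dot_u g (ev j))
  simp only [Int.cast_add, mul_add] at h
  have e := mat_one
  rw [← e]
  exact h

theorem fix_sub (g : ↥Cfsg.Spor.Co2) : incl * proj * (mat g * incl) = mat g * incl := by
  have hsum : ∀ j, (mat g * incl) none j + (mat g * incl) (some 0) j = 0 := fun j => by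
    rw [Matrix.mul_apply, Matrix.mul_apply, ← Finset.sum_add_distrib]
    simp_rw [← add_mul, mat_rows]
    rw [Finset.sum_congr rfl fun k _ => add_mul _ _ _, Finset.sum_add_distrib]
    rw [← Matrix.mul_apply, ← Matrix.mul_apply, Matrix.one_mul]
    exact incl_rows j
  ext k j
  rw [incl_proj, Matrix.mul_apply]
  rcases eq_or_ne k none with rfl | hk
  · simp only [Matrix.of_apply, if_true, ite_mul, zero_mul, Finset.sum_ite_eq', Finset.mem_univ, neg_one_mul]
    exact (eq_neg_of_add_eq_zero_left (hsum j)).symm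
  · simp only [Matrix.of_apply, if_neg hk, ite_mul, zero_mul, one_mul, Finset.sum_ite_eq', Finset.mem_univ,
      if_true]

noncomputable def rep : ↥Cfsg.Spor.Co2 →* Matrix (ZMod 23) (ZMod 23) (ZMod 13) where
  toFun g := proj * mat g * incl
  map_one' := by rw [mat_one, Matrix.mul_one, proj_incl]
  map_mul' g h := by
    rw [mat_mul]
    calc proj * (mat g * mat h) * incl = proj * mat g * (mat h * incl) := by simp only [Matrix.mul_assoc]
      _ = proj * mat g * (incl * proj * (mat h * incl)) := by rw [fix_sub]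
      _ = proj * mat g * incl * (proj * mat h * incl) := by simp only [Matrix.mul_assoc]

theorem mat_fix_u (g : ↥Cfsg.Spor.Co2) (i : GolayPt) :
    4 * (mat g i none + mat g i (some 0)) = ((Cfsg.Spor.vecU i : ℤ) : ZMod 13) := by
  have h := act_cast g Cfsg.Spor.leechU i
  rw [show act g Cfsg.Spor.leechU = Cfsg.Spor.vecU from congrArg Subtype.val g.2.2] at h
  rw [h, Fintype.sum_eq_add none (some 0) (by simp) (fun k hk => ?_)]
  · simp [Cfsg.Spor.leechU, Cfsg.Spor.vecU]; ring
  · simp [Cfsg.Spor.leechU, Cfsg.Spor.vecU, hk.1, hk.2]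

theorem mat_eq_one {g : ↥Cfsg.Spor.Co2} (h : rep g = 1) : mat g = 1 := by
  have hI : mat g * incl = incl := by
    rw [← fix_sub g, show incl * proj * (mat g * incl) = incl * (proj * mat g * incl) by
      simp only [Matrix.mul_assoc], show proj * mat g * incl = rep g from rfl, h, Matrix.mul_one]
  ext i k
  have hcol : ∀ j : ZMod 23, (mat g * incl) i j = mat g i (some j) - (if j = 0 then mat g i none else 0) := by
    intro j
    rw [Matrix.mul_apply, Fintype.sum_option]
    simp [incl, Finset.sum_ite_eq', eq_comm]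
    split <;> ring
  have hnb : mat g i none = (1 : Matrix GolayPt GolayPt (ZMod 13)) i none ∧
      mat g i (some 0) = (1 : Matrix GolayPt GolayPt (ZMod 13)) i (some 0) := by
    have h1 := hcol 0
    rw [hI, if_pos rfl] at h1
    have h2 := mat_fix_u g i
    have e1 : ∀ a b : ZMod 13, ∀ c d : ZMod 13, 4 * (a + b) = c → d = b - a → a = 5 * c - 7 * d ∧ b = 5 * c + 7 * d := by
      intro a b c d hc hd
      subst hc hd
      have h13 : (13 : ZMod 13) = 0 := rfl
      constructor
      · linear_combination (-(2 * a + b)) * h13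
      · linear_combination (-(a + 2 * b)) * h13
    obtain ⟨ha, hb⟩ := e1 _ _ _ _ h2 h1
    rw [ha, hb]
    have e2 : ∀ i : GolayPt, (5 * ((Cfsg.Spor.vecU i : ℤ) : ZMod 13) - 7 * incl i 0 =
        if i = none then 1 else 0) ∧ (5 * ((Cfsg.Spor.vecU i : ℤ) : ZMod 13) + 7 * incl i 0 =
        if i = some 0 then 1 else 0) := by decide +kernel
    exact ⟨(e2 i).1.trans (Matrix.one_apply).symm, (e2 i).2.trans (Matrix.one_apply).symm⟩
  rcases k with _ | j
  · exact hnb.1
  · by_cases hj : j = 0
    · subst hj; exact hnb.2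
    · have h1 := hcol j
      rw [hI, if_neg hj, sub_zero] at h1
      refine h1.symm.trans ?_
      rw [Matrix.one_apply]
      show (if i = some j then (1 : ZMod 13) else if i = none ∧ j = 0 then -1 else 0) = _
      rw [if_neg (show ¬ (i = none ∧ j = 0) from fun c => hj c.2)]

theorem fix_short {g : ↥Cfsg.Spor.Co2} (h : mat g = 1) {j k : GolayPt} (hjk : j ≠ k) (s : ℤ)
    (hs : s = 4 ∨ s = -4) :
    act g ⟨Pi.single j 4 + Pi.single k s, pair_mem s hs⟩ = Pi.single j 4 + Pi.single k s := by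
  set x : ↥leechLattice := ⟨Pi.single j 4 + Pi.single k s, pair_mem s hs⟩ with hx
  have hn : sqNorm (x : GolayPt → ℤ) = 32 := by
    show ∑ i, ((Pi.single j 4 : GolayPt → ℤ) i + (Pi.single k s : GolayPt → ℤ) i) ^ 2 = 32
    rw [Fintype.sum_eq_add j k hjk (fun i hi => ?_)]
    · rw [Pi.single_eq_same, Pi.single_eq_same, Pi.single_eq_of_ne hjk, Pi.single_eq_of_ne hjk.symm]
      rcases hs with rfl | rfl <;> norm_num
    · rw [Pi.single_eq_of_ne hi.1, Pi.single_eq_of_ne hi.2]; norm_num
  funext i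
  have hc := act_cast g x i
  rw [h] at hc
  simp only [Matrix.one_apply, ite_mul, one_mul, zero_mul, Finset.sum_ite_eq, Finset.mem_univ, if_true] at hc
  rw [ZMod.intCast_eq_intCast_iff_dvd_sub] at hc
  have b1 : ∀ y : GolayPt → ℤ, sqNorm y = 32 → y i ^ 2 ≤ 32 := fun y hy =>
    hy ▸ Finset.single_le_sum (f := fun l => y l ^ 2) (fun l _ => sq_nonneg _) (Finset.mem_univ i)
  have h1 := b1 _ ((norm_of g x).trans hn)
  have h2 := b1 _ hn
  change act g x i ^ 2 ≤ 32 at h1
  show act g x i = (x : GolayPt → ℤ) i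
  have e1 : -5 ≤ act g x i ∧ act g x i ≤ 5 := ⟨by nlinarith, by nlinarith⟩
  have e2 : -5 ≤ (x : GolayPt → ℤ) i ∧ (x : GolayPt → ℤ) i ≤ 5 := ⟨by nlinarith, by nlinarith⟩
  obtain ⟨c, hc⟩ := hc
  push_cast at hc
  omega

theorem eq_one_of_mat {g : ↥Cfsg.Spor.Co2} (h : mat g = 1) : g = 1 := by
  have he : ∀ j, act g (ev j) = Pi.single j 8 := by
    intro j
    obtain ⟨k, hk⟩ := exists_ne j
    have e : ev j = ⟨Pi.single j 4 + Pi.single k 4, pair_mem 4 (Or.inl rfl)⟩ +
        ⟨Pi.single j 4 + Pi.single k (-4), pair_mem (-4) (Or.inr rfl)⟩ := by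
      apply Subtype.ext
      show Pi.single j 8 = (Pi.single j 4 + Pi.single k 4) + (Pi.single j 4 + Pi.single k (-4))
      rw [show (8 : ℤ) = 4 + 4 from rfl, Pi.single_add, Pi.single_neg]
      abel
    rw [e, map_add, fix_short h hk.symm 4 (Or.inl rfl), fix_short h hk.symm (-4) (Or.inr rfl)]
    rw [show (8 : ℤ) = 4 + 4 from rfl, Pi.single_add, Pi.single_neg]
    abel
  apply Subtype.ext
  refine Equiv.ext fun x => ?_
  apply Subtype.ext
  funext i
  have hh := congrArg (fun v => act g v i) (eight_smul x)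
  simp only [map_zsmul, map_sum, Finset.sum_apply, Pi.smul_apply, smul_eq_mul, he] at hh
  rw [Fintype.sum_eq_single i (fun l hl => by rw [Pi.single_eq_of_ne hl.symm, mul_zero]), Pi.single_eq_same] at hh
  show act g x i = (x : GolayPt → ℤ) i
  linarith

theorem embed_gl {G : Type} [Group G] (r : G →* Matrix (ZMod 23) (ZMod 23) (ZMod 13))
    (hr : ∀ g, r g = 1 → g = 1) : ∃ f : G →* GL (Fin 23) (ZMod 13), Function.Injective f := by
  let e : ZMod 23 ≃ Fin 23 := Fintype.equivFinOfCardEq (ZMod.card 23)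
  let R := Matrix.reindexAlgEquiv (ZMod 13) (ZMod 13) e
  refine ⟨((R : Matrix (ZMod 23) (ZMod 23) (ZMod 13) →* Matrix (Fin 23) (Fin 23) (ZMod 13)).comp r).toHomUnits,
    (injective_iff_map_eq_one _).mpr fun g hg => hr g (R.injective ?_)⟩
  rw [map_one]
  exact congrArg Units.val hg

/-- The second Conway group (the stabilizer in the Leech lattice automorphism group of the short vector fixed in the definitions) is isomorphic to a subgroup of the general linear group of degree 23 over the field with 13 elements: there is an injective homomorphism into it. -/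
theorem result : ∃ f : ↥Cfsg.Spor.Co2 →* GL (Fin 23) (ZMod 13), Function.Injective f := by
  exact embed_gl rep (fun g hg => eq_one_of_mat (mat_eq_one hg))

end Cfsg.Agent.S5546
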