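import Cfsg.Statements.S5548
import Cfsg.Agent.Lib.Golay.Invariant

set_option autoImplicit false
open Cfsg

namespace Cfsg.Agent.S5548

open Cfsg.Agent.Golay


/-- For the automorphism group of the length-24 binary Golay code of the definitions (the Mathieu group of degree 24) acting on binary words of length 24 by permuting coordinates, the only invariant subspaces of the space of all words are: zero, the span of the all-ones word, the code itself, the even-weight words, and the whole space. (So the permutation module has a unique composition series.) -/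
theorem result (W : Submodule (ZMod 2) (Cfsg.GolayPt → ZMod 2)) (hW : ∀ σ ∈ Cfsg.M24, ∀ w ∈ W, (fun p => w (σ.symm p)) ∈ W) : W = ⊥ ∨ W = Submodule.span (ZMod 2) {fun _ => (1 : ZMod 2)} ∨ W = Cfsg.golayCode ∨ (W : Set (Cfsg.GolayPt → ZMod 2)) = {w | ∑ p, w p = 0} ∨ W = ⊤ := by
  classical
  have hsum1 : ∑ p, allOne p = 0 := by decide +kernel
  have hevC : ∀ c ∈ Cfsg.golayCode, ∑ p, c p = 0 := by
    intro c hc
    rw [eq_ind c, sum_ind, ← norm_ind, ← eq_ind]
    have := weight_cases hc
    simp only [List.mem_cons, List.not_mem_nil, or_false] at this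
    rcases this with h | h | h | h | h <;> rw [h] <;> decide
  by_cases hsmall : ∀ w ∈ W, w = 0 ∨ w = allOne
  · by_cases h1 : allOne ∈ W
    · right; left
      refine le_antisymm (fun w hw => ?_) ((Submodule.span_singleton_le_iff_mem _ _).mpr h1)
      rcases hsmall w hw with rfl | rfl
      · exact Submodule.zero_mem _
      · exact Submodule.mem_span_singleton_self _
    · left
      rw [Submodule.eq_bot_iff]
      exact fun w hw => (hsmall w hw).resolve_right (fun h => h1 (h ▸ hw))
  push Not at hsmall
  obtain ⟨w, hw, h0, hne⟩ := hsmall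
  -- an odd word produces an even word outside the code
  have hodd : ∀ u ∈ W, ∑ p, u p ≠ 0 → ∃ v ∈ W, ∑ p, v p = 0 ∧ v ∉ Cfsg.golayCode := by
    intro u hu hne'
    by_contra hcon
    push Not at hcon
    obtain ⟨c, hc, hle⟩ := exists_small u
    set s := support₂ (u + c) with hs
    have hcard : s.card ≤ 4 := by rwa [hs, ← norm_ind, ← eq_ind]
    have hsum : ((s.card : ℕ) : ZMod 2) ≠ 0 := by
      rw [← sum_ind, hs, ← eq_ind]
      simpa [Finset.sum_add_distrib, hevC c hc] using hne'
    have hpos : s.Nonempty := by
      rw [← Finset.card_pos]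
      by_contra h; exact hsum (by rw [show s.card = 0 by omega]; rfl)
    have h4 : s.card ≠ 4 := fun h => hsum (by rw [h]; rfl)
    obtain ⟨a, ha⟩ := hpos
    obtain ⟨b, hb⟩ : (sᶜ).Nonempty := Finset.card_pos.mp (by rw [Finset.card_compl, Sextet.card_pt]; omega)
    have hb' : b ∉ s := Finset.mem_compl.mp hb
    have hcard' : (insert b (s.erase a)).card = s.card := by
      rw [Finset.card_insert_of_notMem (fun h => hb' (Finset.mem_of_mem_erase h)),
        Finset.card_erase_of_mem ha]
      have := Finset.card_pos.mpr ⟨a, ha⟩; omega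
    obtain ⟨σ, hσ, he'⟩ := exists_map_finset s (insert b (s.erase a)) hcard'.symm (by omega)
    have hv := W.add_mem hu (hW σ hσ u hu)
    have hve : ∑ p, (u + fun p => u (σ.symm p)) p = 0 := by
      simp only [Pi.add_apply, Finset.sum_add_distrib]
      rw [Equiv.sum_comp σ.symm u]
      exact CharTwo.add_self_eq_zero _
    have hvC := hcon _ hv hve
    have hd : ind s + ind (insert b (s.erase a)) ∈ Cfsg.golayCode := by
      have e1 : ind s = u + c := by rw [hs, ← eq_ind]
      have e2 : ind (insert b (s.erase a)) = fun p => u (σ.symm p) + c (σ.symm p) := by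
        rw [← he', ← ind_smul, e1]; rfl
      rw [e1, e2]
      have := Cfsg.golayCode.add_mem hvC (Cfsg.golayCode.add_mem hc (code_inv σ hσ c hc))
      convert this using 1
      funext p; simp only [Pi.add_apply]; ring
    have hne0 : ind s + ind (insert b (s.erase a)) ≠ 0 := fun h => by
      have := congrFun h b
      simp [ind, hb'] at this
    have h8 := Sextet.eight_le hd hne0
    have : hammingNorm (ind s + ind (insert b (s.erase a))) ≤ (s ∪ insert b (s.erase a)).card :=
      Finset.card_le_card fun p hp => by
        rw [Finset.mem_filter] at hp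
        by_contra hn
        rw [Finset.mem_union, not_or] at hn
        exact hp.2 (by simp only [Pi.add_apply, ind, hn.1, hn.2, if_false, add_zero])
    have h' := Finset.card_union_le s (insert b (s.erase a))
    omega
  -- the code lies inside
  have hC : Cfsg.golayCode ≤ W := by
    by_cases hev : ∃ v ∈ W, ∑ p, v p = 0 ∧ v ∉ Cfsg.golayCode
    · obtain ⟨v, hv, he, hn⟩ := hev
      exact code_le_of_pairs hW (pairs_mod_code hW hv he hn)
    · push Not at hev
      have hwC : w ∈ Cfsg.golayCode := by
        refine hev w hw ?_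
        by_contra hne'
        obtain ⟨v, hv, he, hn⟩ := hodd w hw hne'
        exact hn (hev v hv he)
      have hW1 : Inv (W ⊔ Submodule.span (ZMod 2) {allOne}) := by
        intro σ hσ v hv
        obtain ⟨a, ha, b, hb, rfl⟩ := Submodule.mem_sup.mp hv
        refine Submodule.mem_sup.mpr ⟨_, hW σ hσ a ha, b, hb, ?_⟩
        obtain ⟨r, rfl⟩ := Submodule.mem_span_singleton.mp hb
        rfl
      exact code_le_of_sup_one hW (code_le_of_word hW1 (Submodule.mem_sup_right (Submodule.subset_span rfl))
        (Submodule.mem_sup_left hw) hwC h0 hne)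
  right; right
  by_cases hWC : W ≤ Cfsg.golayCode
  · exact Or.inl (le_antisymm hWC hC)
  obtain ⟨u, hu, huC⟩ := Set.not_subset.mp hWC
  obtain ⟨v, hv, hve, hvn⟩ : ∃ v ∈ W, ∑ p, v p = 0 ∧ v ∉ Cfsg.golayCode := by
    by_cases hu0 : ∑ p, u p = 0
    · exact ⟨u, hu, hu0, huC⟩
    · exact hodd u hu hu0
  have hE : ∀ x : Cfsg.GolayPt → ZMod 2, ∑ p, x p = 0 → x ∈ W := even_le_of_pairs fun t ht => by
    have := pairs_mod_code hW hv hve hvn t ht
    rwa [sup_eq_left.mpr hC] at this
  right
  by_cases hall : ∀ x ∈ W, ∑ p, x p = 0
  · left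
    ext x
    exact ⟨fun h => hall x h, fun h => hE x h⟩
  · right
    push Not at hall
    obtain ⟨o, ho, hodd'⟩ := hall
    rw [eq_top_iff]
    intro x _
    rcases zmod_two (∑ p, x p) with h | h
    · exact hE x h
    · have : x + o ∈ W := by
        refine hE _ ?_
        simp only [Pi.add_apply, Finset.sum_add_distrib, h]
        rcases zmod_two (∑ p, o p) with h' | h'
        · exact absurd h' hodd'
        · rw [h']; rfl
      have := W.add_mem this ho
      rwa [add_assoc, add_self', add_zero] at this

end Cfsg.Agent.S5548
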