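import Cfsg.Statements.S5549
import Cfsg.Agent.Lib.Golay.Invariant
import Cfsg.Agent.Lib.Golay.OctClosure

set_option autoImplicit false
open Cfsg

namespace Cfsg.Agent.S5549

open Cfsg.Agent.Golay
open scoped Pointwise

/-- the code as a space -/
abbrev Cd := ↥Cfsg.golayCode

theorem norm_perm (σ : Equiv.Perm Cfsg.GolayPt) (w : Cfsg.GolayPt → ZMod 2) :
    hammingNorm (fun p => w (σ.symm p)) = hammingNorm w := by
  simp only [hammingNorm]
  refine Finset.card_equiv σ.symm fun p => ?_
  simp

/-- the word of an octad mask -/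
noncomputable def wd {m : ℕ} (h : m ∈ wtList 8) : Cd :=
  ⟨ofMask m, (mem_golay_iff _).mpr (by rw [mask_ofMask (wtList_lt h)]; exact wtList_inC h)⟩

theorem norm_wd {m : ℕ} (h : m ∈ wtList 8) : hammingNorm (wd h).1 = 8 := by
  show hammingNorm (ofMask m) = 8
  rw [hammingNorm_eq, mask_ofMask (wtList_lt h)]
  simpa [wtList] using (List.mem_filter.mp h).2

theorem mask_mem {w : Cd} (h : hammingNorm w.1 = 8) : mask w.1 ∈ wtList 8 := by
  rw [wtList, List.mem_filter]
  exact ⟨mask_mem_codeList w.2, by rw [← hammingNorm_eq, h]; rfl⟩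

theorem wd_mask {w : Cd} (h : hammingNorm w.1 = 8) : wd (mask_mem h) = w := Subtype.ext (ofMask_mask w.1)

theorem mask_add' (v w : Cd) : mask (v + w).1 = mask v.1 ^^^ mask w.1 := mask_add _ _

theorem norm_sum_masks (v w : Cd) : hammingNorm (v + w).1 = popc (mask v.1 ^^^ mask w.1) := by
  rw [hammingNorm_eq, mask_add']

/-- the relation on words -/
def Rel (v w : Cd) : Prop := hammingNorm (v + w).1 = 8 ∨ hammingNorm (v + w).1 = 16

theorem rel_iff (v w : Cd) : Rel v w ↔ relB (mask v.1) (mask w.1) = true := by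
  simp only [Rel, relB, Bool.or_eq_true, beq_iff_eq, norm_sum_masks]

/-- the octad words -/
def Oct : Set Cd := {w | hammingNorm w.1 = 8}

/-- the common count -/
noncomputable def common (v w : Cd) : ℕ := {u : Cd | u ∈ Oct ∧ Rel v u ∧ Rel w u}.ncard

theorem common_masks (v w : Cd) :
    common v w = ((wtList 8).filter fun m => relB (mask v.1) m && relB (mask w.1) m).length := by
  classical
  have e : {u : Cd | u ∈ Oct ∧ Rel v u ∧ Rel w u} =
      (fun u : Cd => mask u.1) ⁻¹' ↑((wtList 8).filter fun m => relB (mask v.1) m && relB (mask w.1) m).toFinset := by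
    ext u
    simp only [Set.mem_preimage, List.coe_toFinset, Set.mem_ofPred_eq, List.mem_filter, Bool.and_eq_true, rel_iff, Oct]
    exact and_congr ⟨mask_mem, fun h => by rw [← norm_wd h]; exact congrArg hammingNorm (ofMask_mask u.1).symm⟩ Iff.rfl
  rw [common, e, Set.ncard_preimage_of_injective_subset_range, Set.ncard_coe_finset,
    List.toFinset_card_of_nodup]
  · exact (codeList_nodup.filter _).filter _
  · exact fun a b h => Subtype.ext (by rw [← ofMask_mask a.1, ← ofMask_mask b.1]; exact congrArg ofMask h)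
  · intro m hm
    simp only [List.coe_toFinset, Set.mem_ofPred_eq, List.mem_filter] at hm
    exact ⟨wd hm.1, mask_ofMask (wtList_lt hm.1)⟩

/-- moving a word -/
noncomputable def mv (σ : Equiv.Perm Cfsg.GolayPt) (hσ : σ ∈ Cfsg.M24) (w : Cd) : Cd :=
  ⟨fun p => w.1 (σ.symm p), forall_of_mem_M24 (inv_mem hσ) w.2⟩

theorem mv_norm {σ : Equiv.Perm Cfsg.GolayPt} (hσ : σ ∈ Cfsg.M24) (w : Cd) :
    hammingNorm (mv σ hσ w).1 = hammingNorm w.1 := norm_perm σ w.1

theorem common_map (f : Cd → Cd) (hf : Set.BijOn f Oct Oct)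
    (hR : ∀ v ∈ Oct, ∀ w ∈ Oct, Rel (f v) (f w) ↔ Rel v w) {v w : Cd} (hv : v ∈ Oct) (hw : w ∈ Oct) :
    common (f v) (f w) = common v w := by
  have e : {u : Cd | u ∈ Oct ∧ Rel (f v) u ∧ Rel (f w) u} = f '' {u : Cd | u ∈ Oct ∧ Rel v u ∧ Rel w u} := by
    ext u
    constructor
    · rintro ⟨hu, h1, h2⟩
      obtain ⟨z, hz, rfl⟩ := hf.surjOn hu
      exact ⟨z, ⟨hz, (hR v hv z hz).mp h1, (hR w hw z hz).mp h2⟩, rfl⟩
    · rintro ⟨z, ⟨hz, h1, h2⟩, rfl⟩
      exact ⟨hf.mapsTo hz, (hR v hv z hz).mpr h1, (hR w hw z hz).mpr h2⟩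
  rw [common, e, Set.InjOn.ncard_image (hf.injOn.mono fun u hu => hu.1), common]

theorem meet_cases {v w : Cd} (hv : v ∈ Oct) (hw : w ∈ Oct) (hne : v ≠ w) :
    hammingNorm (v + w).1 = 8 ∨ hammingNorm (v + w).1 = 12 ∨ hammingNorm (v + w).1 = 16 := by
  have h := weight_cases (v + w).2
  simp only [List.mem_cons, List.not_mem_nil, or_false] at h
  have hle : hammingNorm (v + w).1 ≤ hammingNorm v.1 + hammingNorm w.1 := by
    simp only [hammingNorm]
    refine (Finset.card_le_card fun p hp => ?_).trans (Finset.card_union_le _ _)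
    simp only [Finset.mem_filter, Finset.mem_univ, true_and, Finset.mem_union] at hp ⊢
    by_contra hn
    push Not at hn
    exact hp (show v.1 p + w.1 p = 0 by rw [hn.1, hn.2, add_zero])
  rw [show hammingNorm v.1 = 8 from hv, show hammingNorm w.1 = 8 from hw] at hle
  rcases h with h | h | h | h | h
  · exfalso
    apply hne
    have h2 := hammingNorm_eq_zero.mp h
    exact Subtype.ext (by rw [← add_zero v.1, ← add_self' w.1, ← add_assoc, show v.1 + w.1 = 0 from h2, zero_add])
  all_goals omega

theorem sum_weight {v w : Cd} (hv : v ∈ Oct) (hw : w ∈ Oct) :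
    hammingNorm (v + w).1 + 2 * (supp (mask v.1) ∩ supp (mask w.1)).card = 16 := by
  have hs : ∀ u : Cd, supp (mask u.1) = support₂ u.1 := fun u => by
    ext p; simp [supp, testBit_mask, support₂]
  rw [hs, hs]
  have h1 : hammingNorm (v + w).1 = (symmDiff (support₂ v.1) (support₂ w.1)).card := by
    simp only [hammingNorm, support₂]
    congr 1
    ext p
    simp only [Finset.mem_filter, Finset.mem_univ, true_and, Finset.mem_symmDiff, Submodule.coe_add, Pi.add_apply]
    have key : ∀ a b : ZMod 2, a + b ≠ 0 ↔ a ≠ 0 ∧ ¬b ≠ 0 ∨ b ≠ 0 ∧ ¬a ≠ 0 := by decide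
    exact key (v.1 p) (w.1 p)
  have hv' : (support₂ v.1).card = 8 := hv
  have hw' : (support₂ w.1).card = 8 := hw
  have := Finset.card_sdiff_add_card_inter (support₂ v.1) (support₂ w.1)
  have := Finset.card_sdiff_add_card_inter (support₂ w.1) (support₂ v.1)
  rw [Finset.inter_comm (support₂ w.1)] at this
  rw [h1, symmDiff_def, Finset.sup_eq_union, Finset.card_union_of_disjoint disjoint_sdiff_sdiff]
  omega

theorem common_value {v w : Cd} (hv : v ∈ Oct) (hw : w ∈ Oct) :
    (hammingNorm (v + w).1 = 16 → common v w = 85) ∧ (hammingNorm (v + w).1 = 8 → common v w = 149) := by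
  obtain ⟨⟨r0, hr0, m0, c0⟩, r4, hr4, m4, c4⟩ := count_facts
  have hb : baseOct ∈ wtList 8 := by rw [← maskF_supp baseOct_lt, ← mem_octads]; exact baseOct_mem
  have hsum := sum_weight hv hw
  have key : ∀ {r : ℕ} (hr : r ∈ wtList 8), (supp (mask v.1) ∩ supp (mask w.1)).card = popc (baseOct &&& r) →
      common v w = ((wtList 8).filter fun m => relB baseOct m && relB r m).length := by
    intro r hr h
    have hoct : ∀ {u : Cd}, u ∈ Oct → supp (mask u.1) ∈ Cfsg.octads := fun hu => by
      rw [mem_octads, maskF_supp (mask_lt _)]; exact mask_mem hu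
    obtain ⟨σ, hσ, hs⟩ := octad_transitive baseOct_mem (hoct hv)
    obtain ⟨k, hk, hk1, hk2⟩ := octad_suborbit (hoct hv) (a := σ • supp r) (b := supp (mask w.1))
      (smul_mem_weight hσ ((mem_octads _).mpr (by rw [maskF_supp (wtList_lt hr)]; exact hr))) (hoct hw) (by
      conv_lhs => rw [← hs]
      rw [card_smul_inter, popc_inter, maskF_supp baseOct_lt, maskF_supp (wtList_lt hr), ← h])
    have hg : k * σ ∈ Cfsg.M24 := mul_mem hk hσ
    have back : ∀ {m : ℕ} (hm : m ∈ wtList 8) (u : Cd), (k * σ) • supp m = supp (mask u.1) → mv _ hg (wd hm) = u := by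
      intro m hm u e
      refine Subtype.ext (funext fun p => ?_)
      show ofMask m ((k * σ).symm p) = u.1 p
      have h' : p ∈ (k * σ) • supp m ↔ p ∈ supp (mask u.1) := by rw [e]
      rw [← Finset.inv_smul_mem_iff, mem_supp, mem_supp, testBit_mask] at h'
      simp only [decide_eq_true_eq] at h'
      unfold ofMask
      change (if m.testBit (idx ((k * σ)⁻¹ • p)).val = true then (1 : ZMod 2) else 0) = u.1 p
      rcases zmod_two (u.1 p) with hz | hz
      · rw [hz, if_neg (fun hh => h'.mp hh hz)]
      · rw [hz, if_pos (h'.mpr (by rw [hz]; exact one_ne_zero))]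
    rw [← back hb v (by rw [mul_smul, hs, hk1]), ← back hr w (by rw [mul_smul, hk2]),
      common_map (mv _ hg) ?_ ?_ (norm_wd hb) (norm_wd hr), common_masks]
    · show ((wtList 8).filter fun m => relB (mask (ofMask baseOct)) m && relB (mask (ofMask r)) m).length = _
      rw [mask_ofMask baseOct_lt, mask_ofMask (wtList_lt hr)]
    · refine ⟨fun u hu => (mv_norm hg u).trans hu, fun a _ b _ hab => Subtype.ext (funext fun p => ?_), fun u hu => ?_⟩
      · have : a.1 ((k * σ).symm ((k * σ) p)) = b.1 ((k * σ).symm ((k * σ) p)) :=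
          congrFun (congrArg Subtype.val hab) ((k * σ) p)
        rwa [Equiv.symm_apply_apply] at this
      · refine ⟨mv _ (inv_mem hg) u, (mv_norm _ u).trans hu, Subtype.ext (funext fun p => ?_)⟩
        show u.1 ((k * σ) ((k * σ).symm p)) = u.1 p
        rw [Equiv.apply_symm_apply]
    · intro a _ b _
      have : mv _ hg a + mv _ hg b = mv _ hg (a + b) := rfl
      simp only [Rel, this, mv_norm]
  exact ⟨fun h => (key hr0 (by omega)).trans c0, fun h => (key hr4 (by omega)).trans c4⟩

theorem derOK_sound (Q : ℕ → Prop) (hstep : ∀ a b, Q a → Q b → popc (a &&& b) = 4 → Q (a ^^^ b)) :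
    ∀ (l : List (ℕ × ℕ × ℕ)) (seen : List ℕ), derOK seen l = true → (∀ m ∈ seen, Q m) → ∀ m ∈ wtList 8, Q m
  | [], seen, h, hs, m, hm => hs m (by
      rw [derOK, beq_iff_eq] at h
      rw [h, ← wt8_iff]; exact hm)
  | (i, j, c) :: l, seen, h, hs, m, hm => by
    simp only [derOK, Bool.and_eq_true, decide_eq_true_eq, beq_iff_eq] at h
    obtain ⟨⟨⟨⟨hi, hj⟩, hc⟩, h4⟩, hrest⟩ := h
    refine derOK_sound Q hstep l (seen ++ [c]) hrest (fun x hx => ?_) m hm
    rcases List.mem_append.mp hx with hx | hx
    · exact hs x hx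
    · rw [List.mem_singleton] at hx
      rw [hx, ← hc]
      refine hstep _ _ (hs _ ?_) (hs _ ?_) h4 <;>
        rw [← List.getElem_eq_getD (h := by assumption) 0] <;> exact List.getElem_mem _

theorem two_of_bit (v : ZMod 2) : v ≠ 0 ↔ v = 1 := by revert v; decide

theorem exists_coord {Y : Cd →ₗ[ZMod 2] Cd} (hY : ∀ c, hammingNorm (Y c).1 = hammingNorm c.1) (q : Cfsg.GolayPt) :
    ∃ p, ∀ c : Cd, (Y c).1 p = c.1 q := by
  classical
  by_contra hno
  push Not at hno
  let S : Finset Cd := Finset.univ.filter fun c => c.1 q = 1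
  have hexp : ∀ (Z : Cd → Cd), ∑ c ∈ S, hammingNorm (Z c).1 = ∑ p, (S.filter fun c => (Z c).1 p = 1).card := by
    intro Z
    simp only [hammingNorm, Finset.card_filter, two_of_bit]
    exact Finset.sum_comm
  have hhalf : ∀ (f g : Cd →ₗ[ZMod 2] ZMod 2), f ≠ 0 → g ≠ 0 → f ≠ g →
      (Finset.univ.filter fun c => f c = 1 ∧ g c = 1).card = 1024 := by
    intro f g hf hg hfg
    let h : Cd →+ ZMod 2 × ZMod 2 := (f.prod g).toAddMonoidHom
    have hsur : Function.Surjective h := by
      obtain ⟨a, ha⟩ : ∃ a, f a = 1 := by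
        by_contra hh; push Not at hh
        exact hf (LinearMap.ext fun a => (zmod_two _).resolve_right (hh a))
      obtain ⟨b, hb⟩ : ∃ b, g b = 1 := by
        by_contra hh; push Not at hh
        exact hg (LinearMap.ext fun a => (zmod_two _).resolve_right (hh a))
      obtain ⟨c, hc⟩ : ∃ c, f c ≠ g c := by
        by_contra hh; push Not at hh
        exact hfg (LinearMap.ext hh)
      have he : ∀ v, h v = (f v, g v) := fun v => rfl
      rintro ⟨u, v⟩
      rcases zmod_two (f c) with hfc | hfc <;> rcases zmod_two (g c) with hgc | hgc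
      · exact absurd (hfc.trans hgc.symm) hc
      · refine ⟨u • a + (u * g a + v) • c, ?_⟩
        rw [he]
        simp only [map_add, map_smul, ha, hfc, hgc, smul_eq_mul]
        revert hfc hgc
        generalize g a = z
        intro _ _
        revert u v z
        decide
      · refine ⟨v • b + (v * f b + u) • c, ?_⟩
        rw [he]
        simp only [map_add, map_smul, hb, hfc, hgc, smul_eq_mul]
        generalize f b = z
        revert u v z
        decide
      · exact absurd (hfc.trans hgc.symm) hc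
    have hfib : ∀ t, (Finset.univ.filter fun c => h c = t).card = (Finset.univ.filter fun c => h c = (1, 1)).card :=
      fun t => AddMonoidHom.card_fiber_eq_of_mem_range h (hsur t) (hsur (1, 1))
    have htot := Finset.card_eq_sum_card_fiberwise (f := h) (s := (Finset.univ : Finset Cd))
      (t := (Finset.univ : Finset (ZMod 2 × ZMod 2))) (fun _ _ => Finset.mem_univ _)
    rw [Finset.sum_congr rfl (fun t _ => hfib t), Finset.sum_const, Finset.card_univ, Finset.card_univ,
      ← Nat.card_eq_fintype_card, card_golayCode, show Fintype.card (ZMod 2 × ZMod 2) = 4 by decide, smul_eq_mul] at htot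
    have e : (Finset.univ.filter fun c => f c = 1 ∧ g c = 1) = Finset.univ.filter fun c => h c = (1, 1) := by
      refine Finset.filter_congr fun c _ => ?_
      exact Prod.mk_inj.symm
    rw [e]
    omega
  let ev : Cfsg.GolayPt → Cd →ₗ[ZMod 2] ZMod 2 := fun p => (LinearMap.proj p).comp (Submodule.subtype _)
  have hev1 : ∀ p, ev p ⟨allOne, allOne_mem⟩ = 1 := fun p => rfl
  have hne : ∀ p, ev p ≠ 0 := fun p h => by
    have := hev1 p; rw [h] at this; exact one_ne_zero this.symm
  have hY1 : (Y ⟨allOne, allOne_mem⟩).1 = allOne := by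
    funext p
    have h24 := hY ⟨allOne, allOne_mem⟩
    by_contra hp
    have hp0 : (Y ⟨allOne, allOne_mem⟩).1 p = 0 := (zmod_two _).resolve_right hp
    have h2 : hammingNorm (Y ⟨allOne, allOne_mem⟩).1 < 24 := by
      simp only [hammingNorm]
      rw [← Sextet.card_pt, ← Finset.card_univ]
      exact Finset.card_lt_card (Finset.ssubset_univ_iff.mpr fun e => by
        have := Finset.eq_univ_iff_forall.mp e p
        simp [hp0] at this)
    rw [h24, show hammingNorm allOne = 24 by decide +kernel] at h2
    exact lt_irrefl _ h2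
  have hYne : ∀ p, (ev p).comp Y ≠ 0 := fun p h => by
    have h' := LinearMap.congr_fun h ⟨allOne, allOne_mem⟩
    have : (Y ⟨allOne, allOne_mem⟩).1 p = 0 := h'
    rw [hY1] at this
    exact one_ne_zero this
  have lhs : ∑ p, (S.filter fun c => (Y c).1 p = 1).card = 24 * 1024 := by
    rw [Finset.sum_congr rfl (fun p _ => ?_), Finset.sum_const, Finset.card_univ, Sextet.card_pt, smul_eq_mul]
    rw [Finset.filter_filter]
    exact hhalf (ev q) ((ev p).comp Y) (hne q) (hYne p) (fun e => by
      obtain ⟨c, hc⟩ := hno p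
      exact hc (LinearMap.congr_fun e c).symm)
  have rhs : ∑ p, (S.filter fun c => c.1 p = 1).card = S.card + 23 * 1024 := by
    rw [← Finset.add_sum_erase _ _ (Finset.mem_univ q), Finset.filter_true_of_mem (fun c hc => (Finset.mem_filter.mp hc).2),
      Finset.sum_congr rfl (fun p hp => ?_), Finset.sum_const, Finset.card_erase_of_mem (Finset.mem_univ q),
      Finset.card_univ, Sextet.card_pt, smul_eq_mul]
    rw [Finset.filter_filter]
    refine hhalf (ev q) (ev p) (hne q) (hne p) fun e => ?_
    obtain ⟨a, ha, h1, h2⟩ := separate (idx q) (idx p) fun h => (Finset.mem_erase.mp hp).1 (idx_injective' h).symm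
    have := LinearMap.congr_fun e (wd ha)
    have e1 : ev q (wd ha) = 1 := by show ofMask a q = 1; simp [ofMask, h1]
    have e2 : ev p (wd ha) = 0 := by show ofMask a p = 0; simp [ofMask, h2]
    rw [e1, e2] at this
    exact one_ne_zero this
  have hge : 1025 ≤ S.card := by
    obtain ⟨p, hp⟩ : ∃ p, p ≠ q := exists_ne q
    obtain ⟨a, ha, h1, h2⟩ := separate (idx q) (idx p) fun h => hp (idx_injective' h).symm
    have hsub : (Finset.univ.filter fun c => ev q c = 1 ∧ ev p c = 1) ⊂ S := by
      refine Finset.ssubset_iff_of_subset (fun c hc => Finset.mem_filter.mpr ⟨Finset.mem_univ _, (Finset.mem_filter.mp hc).2.1⟩) |>.mpr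
        ⟨wd ha, Finset.mem_filter.mpr ⟨Finset.mem_univ _, ?_⟩, ?_⟩
      · show ofMask a q = 1; simp [ofMask, h1]
      · intro hc
        have h' : ofMask a p = 1 := (Finset.mem_filter.mp hc).2.2
        simp [ofMask, h2] at h'
    have := Finset.card_lt_card hsub
    rw [hhalf (ev q) (ev p) (hne q) (hne p) ?_] at this
    · omega
    · intro e
      have := LinearMap.congr_fun e (wd ha)
      have e1 : ev q (wd ha) = 1 := by show ofMask a q = 1; simp [ofMask, h1]
      have e2 : ev p (wd ha) = 0 := by show ofMask a p = 0; simp [ofMask, h2]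
      rw [e1, e2] at this
      exact one_ne_zero this
  have heq := hexp Y
  rw [lhs, Finset.sum_congr rfl (fun c _ => hY c), hexp (fun c => c), rhs] at heq
  omega

theorem perm_of_weight {Y : Cd →ₗ[ZMod 2] Cd} (hY : ∀ c, hammingNorm (Y c).1 = hammingNorm c.1) :
    ∃ σ ∈ Cfsg.M24, ∀ c : Cd, (Y c).1 = fun p => c.1 (σ.symm p) := by
  choose f hf using exists_coord hY
  have hinj : Function.Injective f := by
    intro a b hab
    by_contra hne
    obtain ⟨m, hm, h1, h2⟩ := separate (idx a) (idx b) fun h => hne (idx_injective' h)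
    have := (hf a (wd hm)).symm.trans (hab ▸ hf b (wd hm))
    have e1 : (wd hm).1 a = 1 := by show ofMask m a = 1; simp [ofMask, h1]
    have e2 : (wd hm).1 b = 0 := by show ofMask m b = 0; simp [ofMask, h2]
    rw [e1, e2] at this
    exact one_ne_zero this
  let σ := Equiv.ofBijective f (Finite.injective_iff_bijective.mp hinj)
  have heq : ∀ c : Cd, (Y c).1 = fun p => c.1 (σ.symm p) := fun c => funext fun p => by
    conv_lhs => rw [← σ.apply_symm_apply p]
    exact hf _ c
  have hmem := mem_M24_of_forall (σ := σ⁻¹) (fun w hw => by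
    show (fun p => w (σ.symm p)) ∈ Cfsg.golayCode
    rw [← heq ⟨w, hw⟩]
    exact (Y ⟨w, hw⟩).2)
  rw [inv_inv] at hmem
  exact ⟨σ, hmem, heq⟩

theorem main (x : Cd ≃ₗ[ZMod 2] Cd) (hone : x ⟨allOne, allOne_mem⟩ = ⟨allOne, allOne_mem⟩)
    (hnorm : ∀ c, hammingNorm (x c).1 = hammingNorm c.1 ∨ hammingNorm (x c).1 = 24 - hammingNorm c.1) :
    ∃ σ ∈ Cfsg.M24, ∀ c : Cd, (x c).1 = (fun p => c.1 (σ.symm p)) ∨
      (x c).1 = (fun p => c.1 (σ.symm p)) + fun _ => (1 : ZMod 2) := by
  classical
  let one : Cd := ⟨allOne, allOne_mem⟩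
  have norm1 : ∀ c : Cd, hammingNorm (c + one).1 = 24 - hammingNorm c.1 := fun c => norm_add_one c.1
  -- the lift of weight eight
  let π : Cd → Cd := fun o => if hammingNorm (x o).1 = 8 then x o else x o + one
  let e : Cd → ZMod 2 := fun o => if hammingNorm (x o).1 = 8 then 0 else 1
  have hπe : ∀ o, π o = x o + e o • one := fun o => by
    simp only [π, e]; split_ifs <;> simp
  have hπ8 : ∀ o ∈ Oct, π o ∈ Oct := by
    intro o ho
    simp only [π]
    split_ifs with h
    · exact h
    · show hammingNorm (x o + one).1 = 8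
      rw [norm1]
      have := hnorm o
      rw [show hammingNorm o.1 = 8 from ho] at this
      omega
  have hinj : Set.InjOn π Oct := by
    intro a ha b hb hab
    rw [hπe, hπe] at hab
    have hx : x (a + e a • one) = x (b + e b • one) := by
      rw [map_add, map_add, map_smul, map_smul, hone]; exact hab
    have h := x.injective hx
    rcases zmod_two (e a) with u | u <;> rcases zmod_two (e b) with v | v <;>
      simp only [u, v, zero_smul, one_smul, add_zero] at h
    · exact h
    · exfalso
      have := norm1 b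
      rw [← h, show hammingNorm a.1 = 8 from ha, show hammingNorm b.1 = 8 from hb] at this
      omega
    · exfalso
      have := norm1 a
      rw [h, show hammingNorm a.1 = 8 from ha, show hammingNorm b.1 = 8 from hb] at this
      omega
    · exact add_right_cancel h
  have hbij : Set.BijOn π Oct Oct :=
    ⟨hπ8, hinj, ((Set.toFinite Oct).injOn_iff_bijOn_of_mapsTo hπ8 |>.mp hinj).surjOn⟩
  have hR : ∀ v ∈ Oct, ∀ w ∈ Oct, Rel (π v) (π w) ↔ Rel v w := by
    intro v _ w _
    have h : π v + π w = x (v + w) + (e v + e w) • one := by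
      rw [hπe, hπe, map_add, add_smul]; abel
    have hn := hnorm (v + w)
    have hs : hammingNorm (π v + π w).1 = hammingNorm (x (v + w)).1 ∨
        hammingNorm (π v + π w).1 = 24 - hammingNorm (x (v + w)).1 := by
      rw [h]
      rcases zmod_two (e v + e w) with u | u <;> rw [u]
      · left; rw [zero_smul, add_zero]
      · right; rw [one_smul, norm1]
    have hw1 := weight_cases (v + w).2
    simp only [List.mem_cons, List.not_mem_nil, or_false] at hw1
    simp only [Rel]
    omega
  have hkeep : ∀ v ∈ Oct, ∀ w ∈ Oct, hammingNorm (v + w).1 = 8 → hammingNorm (π v + π w).1 = 8 := by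
    intro v hv w hw h
    rcases (hR v hv w hw).mpr (Or.inl h) with h' | h'
    · exact h'
    · have := common_map π hbij hR hv hw
      rw [(common_value (hπ8 v hv) (hπ8 w hw)).1 h', (common_value hv hw).2 h] at this
      omega
  -- correct by a functional
  let L : Cd →ₗ[ZMod 2] ZMod 2 := ∑ j : Fin 12, (if h : octBase.getD j.val 0 ∈ wtList 8 then e (wd h) else 0) •
    ∑ p ∈ supp (dualMask.getD j.val 0), (LinearMap.proj p).comp (Submodule.subtype _)
  let Y : Cd →ₗ[ZMod 2] Cd := x.toLinearMap + L.smulRight one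
  have hYv : ∀ c, Y c = x c + L c • one := fun c => rfl
  have hbase : ∀ m ∈ octBase, ∃ h : m ∈ wtList 8, Y (wd h) = π (wd h) := by
    intro m hm
    obtain ⟨i, hi, rfl⟩ := List.getElem_of_mem hm
    obtain ⟨hlen, hd⟩ := dual_ok
    have hi12 : i < 12 := hlen ▸ hi
    have hg : octBase.getD i 0 = octBase[i] := (List.getElem_eq_getD (h := hi) 0).symm
    have hmem : octBase[i] ∈ wtList 8 := hg ▸ (hd ⟨i, hi12⟩ ⟨i, hi12⟩).1
    refine ⟨hmem, ?_⟩
    rw [hYv, hπe]
    refine congrArg (fun t : ZMod 2 => x (wd hmem) + t • one) ?_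
    simp only [L, LinearMap.sum_apply, LinearMap.smul_apply, LinearMap.comp_apply, LinearMap.proj_apply,
      Submodule.subtype_apply]
    have key : ∀ j : Fin 12, ∑ p ∈ supp (dualMask.getD j.val 0), (wd hmem).1 p =
        if (⟨i, hi12⟩ : Fin 12) = j then 1 else 0 := by
      intro j
      have h2 := (hd ⟨i, hi12⟩ j).2
      simp only [hg] at h2
      have : ∑ p ∈ supp (dualMask.getD j.val 0), (wd hmem).1 p =
          ((popc (octBase[i] &&& dualMask.getD j.val 0) : ℕ) : ZMod 2) := by
        show ∑ p ∈ supp (dualMask.getD j.val 0), ofMask (octBase[i]) p = _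
        rw [popc_eq]
        simp only [ofMask, Finset.sum_boole]
        congr 2
        ext p
        simp [mem_supp, Nat.testBit_and, and_comm]
      rw [this]
      split_ifs with hij
      · rw [if_pos hij] at h2
        exact (ZMod.natCast_eq_one_iff_odd).mpr (Nat.odd_iff.mpr h2)
      · rw [if_neg hij] at h2
        exact (ZMod.natCast_eq_zero_iff_even).mpr (Nat.even_iff.mpr h2)
    rw [Finset.sum_congr rfl (fun j _ => by rw [key j]), Finset.sum_eq_single (⟨i, hi12⟩ : Fin 12)]
    · simp only [smul_eq_mul, hg, dif_pos hmem, if_true, mul_one]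
    · intro j _ hj; simp [Ne.symm hj]
    · simp
  have hYoct : ∀ o ∈ Oct, Y o ∈ Oct ∧ Y o = π o := by
    have step : ∀ m ∈ wtList 8, ∃ h : m ∈ wtList 8, Y (wd h) = π (wd h) := by
      refine derOK_sound _ ?_ octDerive octBase der_ok hbase
      rintro a b ⟨ha, ea⟩ ⟨hb, eb⟩ h4
      have hs := sum_weight (norm_wd ha) (norm_wd hb)
      have hma : mask (wd ha).1 = a := mask_ofMask (wtList_lt ha)
      have hmb : mask (wd hb).1 = b := mask_ofMask (wtList_lt hb)
      rw [hma, hmb, popc_inter, maskF_supp (wtList_lt ha), maskF_supp (wtList_lt hb), h4] at hs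
      have h8 : hammingNorm (wd ha + wd hb).1 = 8 := by omega
      have hab : mask (wd ha + wd hb).1 = a ^^^ b := by rw [mask_add', hma, hmb]
      have hmem : a ^^^ b ∈ wtList 8 := hab ▸ mask_mem h8
      have heq : wd hmem = wd ha + wd hb := Subtype.ext (by
        show ofMask (a ^^^ b) = _; rw [← hab, ofMask_mask])
      refine ⟨hmem, ?_⟩
      have k8 := hkeep _ (norm_wd ha) _ (norm_wd hb) h8
      rw [← ea, ← eb, ← map_add, ← heq, hYv] at k8
      rw [hYv, hπe]
      refine congrArg (fun t : ZMod 2 => x (wd hmem) + t • one) ?_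
      rcases zmod_two (L (wd hmem)) with u | u <;> rw [u] at k8 ⊢ <;> simp only [e]
      · rw [zero_smul, add_zero] at k8; rw [if_pos k8]
      · rw [one_smul, norm1] at k8; rw [if_neg (by omega)]
    intro o ho
    obtain ⟨h, he⟩ := step _ (mask_mem ho)
    rw [wd_mask ho] at he
    exact ⟨he ▸ hπ8 o ho, he⟩
  have hYw : ∀ c, hammingNorm (Y c).1 = hammingNorm c.1 := by
    have hdis : ∀ v ∈ Oct, ∀ w ∈ Oct, hammingNorm (v + w).1 = 16 → hammingNorm (Y v + Y w).1 = 16 := by
      intro v hv w hw h
      rw [(hYoct v hv).2, (hYoct w hw).2]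
      rcases (hR v hv w hw).mpr (Or.inr h) with h' | h'
      · have := common_map π hbij hR hv hw
        rw [(common_value (hπ8 v hv) (hπ8 w hw)).2 h', (common_value hv hw).1 h] at this
        omega
      · exact h'
    have hY1 : Y one = one := by
      obtain ⟨a, ha, b, hb, hab⟩ := one_split
      have hs := sum_weight (norm_wd ha) (norm_wd hb)
      have hma : mask (wd ha).1 = a := mask_ofMask (wtList_lt ha)
      have hmb : mask (wd hb).1 = b := mask_ofMask (wtList_lt hb)
      rw [hma, hmb, popc_inter, maskF_supp (wtList_lt ha), maskF_supp (wtList_lt hb), hab] at hs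
      have h16 : hammingNorm (wd ha + wd hb).1 = 16 := by omega
      have hz : (wd ha + wd hb + one) ∈ Oct := by show hammingNorm _ = 8; rw [norm1, h16]
      have k := hdis _ (norm_wd ha) _ (norm_wd hb) h16
      have k2 : hammingNorm (Y (wd ha + wd hb) + Y one).1 = 8 := by rw [← map_add]; exact (hYoct _ hz).1
      have : Y one = (L one + 1) • one := by rw [hYv, hone, add_smul, one_smul, add_comm]
      rw [this, map_add] at k2
      rw [this]
      rcases zmod_two (L one + 1) with u | u <;> rw [u] at k2 ⊢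
      · rw [zero_smul, add_zero] at k2; omega
      · rw [one_smul]
    intro c
    have hc := weight_cases c.2
    simp only [List.mem_cons, List.not_mem_nil, or_false] at hc
    rcases hc with h | h | h | h | h
    · have : c = 0 := Subtype.ext (hammingNorm_eq_zero.mp h)
      subst this; rw [map_zero]
    · rw [h]; exact (hYoct c h).1
    · obtain ⟨a, ha, hpa⟩ := D0_split
      rw [← wt8_iff] at ha
      obtain ⟨σ, hσ, hd⟩ := dodecad_transitive (dodecad_of_word c.2 h)
      let u : Cd := mv σ hσ (wd ha)
      have hu : u ∈ Oct := (mv_norm hσ _).trans (norm_wd ha)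
      let cD : Cd := ⟨ind D0, by
        obtain ⟨⟨w, hw, hwD⟩, -⟩ := D0_dodecad
        rw [← hwD, ← eq_ind]; exact hw⟩
      have hc' : mv σ hσ cD = c := Subtype.ext (by
        show (fun p => ind D0 (σ.symm p)) = c.1
        rw [ind_smul, hd, ← eq_ind])
      have h8 : hammingNorm (c + u).1 = 8 := by
        rw [← hc', show mv σ hσ cD + u = mv σ hσ (cD + wd ha) from rfl, mv_norm, norm_sum_masks,
          show mask (wd ha).1 = a from mask_ofMask (wtList_lt ha), show mask cD.1 = maskF D0 from (maskF_eq D0).symm]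
        exact hpa
      have hcc : c + u + u = c := Subtype.ext (show c.1 + u.1 + u.1 = c.1 by
        rw [add_assoc, add_self', add_zero])
      have hb1 := hYoct _ h8
      have hb2 := hYoct _ hu
      have hrel : ¬Rel (π (c + u)) (π (u)) := fun hr => by
        have := (hR _ h8 _ hu).mp hr
        rw [Rel, hcc, h] at this; omega
      rw [Rel, ← hb1.2, ← hb2.2, ← map_add, hcc] at hrel
      push Not at hrel
      rcases meet_cases hb1.1 hb2.1 (fun e' => by
        have h12 := congrArg (fun z : Cd => z + Y (u)) e'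
        rw [← map_add, ← map_add, hcc] at h12
        have h0 : u + u = 0 := Subtype.ext (add_self' _)
        rw [h0, map_zero] at h12
        have : x c = L c • one := by
          have := hYv c; rw [h12] at this
          have h2 : x c + L c • one + L c • one = L c • one := by rw [← this, zero_add]
          rwa [add_assoc, show L c • one + L c • one = (0 : Cd) from Subtype.ext (add_self' _), add_zero] at h2
        have hn := hnorm c
        rw [this, h] at hn
        rcases zmod_two (L c) with u | u <;> rw [u] at hn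
        · rw [zero_smul] at hn; simp at hn
        · rw [one_smul, show hammingNorm one.1 = 24 from (by decide +kernel : hammingNorm allOne = 24)] at hn; omega) with k | k | k <;>
        rw [← map_add, hcc] at k <;> omega
    · have h8 : hammingNorm (c + one).1 = 8 := by rw [norm1, h]
      have hk := (hYoct _ h8).1
      rw [map_add, hY1] at hk
      have := norm1 (Y c)
      rw [show hammingNorm (Y c + one).1 = 8 from hk] at this
      omega
    · have h0 := norm1 c
      rw [h] at h0
      have hc1 : c = one := by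
        have hz : c.1 + allOne = 0 := hammingNorm_eq_zero.mp (by exact h0)
        exact Subtype.ext (by rw [← add_zero c.1, ← add_self' allOne, ← add_assoc, hz, zero_add])
      rw [hc1, hY1]
  obtain ⟨σ, hσ, hσY⟩ := perm_of_weight hYw
  refine ⟨σ, hσ, fun c => ?_⟩
  rw [← hσY c, hYv]
  rcases zmod_two (L c) with u | u <;> rw [u]
  · left; rw [zero_smul, add_zero]
  · right
    show (x c).1 = (x c + (1 : ZMod 2) • one).1 + allOne
    rw [one_smul]
    show (x c).1 = (x c).1 + allOne + allOne
    rw [add_assoc, add_self', add_zero]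

/-- Let X be a group of linear automorphisms of the length-24 binary Golay code of the definitions that fix the all-ones word, containing the coordinate-permutation action of every element of the code's automorphism group (the Mathieu group of degree 24), and such that every element of X sends each codeword into its orbit under that Mathieu group up to adding the all-ones word (X has the same orbits as the Mathieu group on the code modulo the all-ones word). Then every element of X agrees, modulo the all-ones word, with the action of a single element of the Mathieu group: X induces exactly the Mathieu group on the code modulo the all-ones word. -/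
theorem result (X : Subgroup (↥Cfsg.golayCode ≃ₗ[ZMod 2] ↥Cfsg.golayCode)) (h1 : ∀ x ∈ X, ∀ e : ↥Cfsg.golayCode, (e : (Cfsg.GolayPt → ZMod 2)) = (fun _ => (1 : ZMod 2)) → x e = e) (hM : ∀ σ ∈ Cfsg.M24, ∃ x ∈ X, ∀ c : ↥Cfsg.golayCode, ((x c : ↥Cfsg.golayCode) : (Cfsg.GolayPt → ZMod 2)) = fun p => (c : (Cfsg.GolayPt → ZMod 2)) (σ.symm p)) (horb : ∀ x ∈ X, ∀ c : ↥Cfsg.golayCode, ∃ σ ∈ Cfsg.M24, ((x c : ↥Cfsg.golayCode) : (Cfsg.GolayPt → ZMod 2)) = (fun p => (c : (Cfsg.GolayPt → ZMod 2)) (σ.symm p)) ∨ ((x c : ↥Cfsg.golayCode) : (Cfsg.GolayPt → ZMod 2)) = (fun p => (c : (Cfsg.GolayPt → ZMod 2)) (σ.symm p)) + fun _ => (1 : ZMod 2)) (x : ↥Cfsg.golayCode ≃ₗ[ZMod 2] ↥Cfsg.golayCode) (hx : x ∈ X) : ∃ σ ∈ Cfsg.M24, ∀ c : ↥Cfsg.golayCode, ((x c : ↥Cfsg.golayCode) : (Cfsg.GolayPt → ZMod 2)) = (fun p => (c : (Cfsg.GolayPt → ZMod 2)) (σ.symm p)) ∨ ((x c : ↥Cfsg.golayCode) : (Cfsg.GolayPt → ZMod 2)) = (fun p => (c : (Cfsg.GolayPt → ZMod 2)) (σ.symm p)) + fun _ => (1 : ZMod 2) := by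
  classical
  have hone : x ⟨allOne, allOne_mem⟩ = ⟨allOne, allOne_mem⟩ := h1 x hx _ rfl
  have hnorm : ∀ c, hammingNorm (x c).1 = hammingNorm c.1 ∨ hammingNorm (x c).1 = 24 - hammingNorm c.1 := by
    intro c
    obtain ⟨σ, -, h | h⟩ := horb x hx c
    · left; rw [h, norm_perm]
    · right
      rw [h]
      exact (norm_add_one _).trans (by rw [norm_perm])
  exact main x hone hnorm

end Cfsg.Agent.S5549
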