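import Cfsg.Statements.S5550
import Cfsg.Agent.Lib.Golay.Invariant
import Cfsg.Agent.Lib.Golay.OrbStd

set_option autoImplicit false
open Cfsg

namespace Cfsg.Agent.S5550

open Cfsg.Agent.Golay
open scoped Pointwise

theorem decode_mod : ∀ (l : List (ℕ × ℕ)), (∀ x ∈ l, x.1 < 12) → ∀ m,
    decodeL l m = decodeL l (m % 2 ^ 12) := by
  intro l
  induction l with
  | nil => intro _ m; rfl
  | cons x l ih =>
    intro h m
    obtain ⟨p, b⟩ := x
    have hp : p < 12 := h (p, b) List.mem_cons_self
    rw [decodeL, decodeL, ← ih (fun y hy => h y (List.mem_cons_of_mem _ hy)) m,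
      Nat.testBit_mod_two_pow, decide_eq_true hp, Bool.true_and]

theorem decode_lt (m : ℕ) : decodeL basis m < 2 ^ 24 := by
  have key : ∀ (l : List (ℕ × ℕ)), (∀ x ∈ l, x.2 < 2 ^ 24) → decodeL l m < 2 ^ 24 := by
    intro l
    induction l with
    | nil => intro _; exact Nat.two_pow_pos 24
    | cons x l ih =>
      intro h
      obtain ⟨p, b⟩ := x
      rw [decodeL]
      refine Nat.xor_lt_two_pow ?_ (ih fun y hy => h y (List.mem_cons_of_mem _ hy))
      split_ifs
      · exact h (p, b) List.mem_cons_self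
      · exact Nat.two_pow_pos 24
  exact key basis (by decide +kernel)

theorem pivots : ∀ x ∈ basis, x.1 < 12 := by decide +kernel

theorem systematic : ∀ k < 4096, (k ^^^ decodeL basis k) % 2 ^ 12 = 0 := by
  have h : (List.range 4096).all (fun k => (k ^^^ decodeL basis k) % 2 ^ 12 == 0) = true := by
    decide +kernel
  intro k hk
  simpa using List.all_eq_true.mp h k (List.mem_range.mpr hk)

/-- the fixed cosets are trivial -/
def moves (gens : List Tab) : Bool :=
  (List.range 4096).all fun k => k == 0 || gens.any fun T => !inC (imgM T (k <<< 12) ^^^ (k <<< 12))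

theorem moves_octO : moves gens_octO = true := by decide +kernel

theorem moves_dodD : moves gens_dodD = true := by decide +kernel

theorem key {fix : List ℕ} {gens : List Tab} (hg : gensFix fix gens) (hm : moves gens = true)
    (w : Cfsg.GolayPt → ZMod 2) (hw : w ∉ Cfsg.golayCode) :
    ∃ σ ∈ fixGrp fix, (fun p => w (σ.symm p)) - w ∉ Cfsg.golayCode := by
  set m := mask w with hmdef
  set d := decodeL basis m with hd
  have hm24 : m < 2 ^ 24 := mask_lt w
  have hdC : inC d = true := by
    have hmem : ofMask d ∈ Cfsg.golayCode := ofMask_decodeL basis (fun x hx => ofMask_basis hx) m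
    have := (mem_golay_iff _).mp hmem
    rwa [mask_ofMask] at this
    exact decode_lt m
  have hr : (m ^^^ d) % 2 ^ 12 = 0 := by
    rw [Nat.xor_mod_two_pow, hd, decode_mod basis pivots m]
    have := systematic (m % 2 ^ 12) (Nat.mod_lt _ (by norm_num))
    rw [Nat.xor_mod_two_pow, Nat.mod_mod] at this
    exact this
  have hlt : m ^^^ d < 2 ^ 24 := Nat.xor_lt_two_pow hm24 (decode_lt m)
  obtain ⟨k, hk⟩ : ∃ k, m ^^^ d = k <<< 12 := ⟨(m ^^^ d) / 2 ^ 12, by
    rw [Nat.shiftLeft_eq, Nat.div_mul_cancel (Nat.dvd_of_mod_eq_zero hr)]⟩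
  have hk0 : k ≠ 0 := by
    rintro rfl
    apply hw
    have he : w = ofMask d := by
      have h1 : ofMask m + ofMask d = 0 := by rw [← ofMask_xor, hk, Nat.zero_shiftLeft, ofMask_zero]
      rw [hmdef, ofMask_mask] at h1
      calc w = w + ofMask d + ofMask d := by rw [add_assoc, add_self', add_zero]
        _ = ofMask d := by rw [h1, zero_add]
    rw [he]; exact ofMask_decodeL basis (fun x hx => ofMask_basis hx) m
  have hk4 : k < 4096 := by
    rw [hk, Nat.shiftLeft_eq] at hlt
    omega
  have := List.all_eq_true.mp hm k (List.mem_range.mpr hk4)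
  rw [Bool.or_eq_true, beq_iff_eq] at this
  obtain ⟨T, hT, hTk⟩ := List.any_eq_true.mp (this.resolve_left hk0)
  refine ⟨tperm T, gens_mem hg T hT, fun hmem => ?_⟩
  set σ := tperm T
  set r := k <<< 12 with hrdef
  have hr24 : r < 2 ^ 24 := hk ▸ hlt
  have e : ofMask r = w + ofMask d := by rw [show r = m ^^^ d from hk.symm, ofMask_xor, hmdef, ofMask_mask]
  have hinv : (fun p => ofMask d (σ.symm p)) ∈ Cfsg.golayCode :=
    code_inv σ (gens_mem hg T hT).1 _ (ofMask_decodeL basis (fun x hx => ofMask_basis hx) m)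
  have hsum : ofMask (imgM T r ^^^ r) ∈ Cfsg.golayCode := by
    have e1 : ofMask (imgM T r) = fun p => ofMask r (σ.symm p) := by
      rw [eq_ind (ofMask r), support₂_ofMask, ind_smul, supp_imgM (hg T hT).1.1, ← support₂_ofMask,
        ← eq_ind]
    rw [ofMask_xor, e1, e]
    have := Cfsg.golayCode.add_mem hmem (Cfsg.golayCode.sub_mem hinv
      (ofMask_decodeL basis (fun x hx => ofMask_basis hx) m))
    convert this using 1
    funext p
    simp only [Pi.add_apply, Pi.sub_apply]
    have hz : ∀ a b c d : ZMod 2, a + b + (c + d) = a - c + (b - d) := by decide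
    exact hz _ _ _ _
  rw [mem_golay_iff, mask_ofMask (Nat.xor_lt_two_pow (imgM_lt T r) hr24)] at hsum
  rw [hsum] at hTk
  exact absurd hTk (by decide)


/-- Let u be a word of the length-24 binary Golay code of the definitions (possibly zero or all-ones) and w any binary word of length 24 outside the code. Then some automorphism of the code (a coordinate permutation preserving it) fixes u but moves w to a word not congruent to w modulo the code: the stabilizer of a codeword fixes no non-zero element of the quotient of the space of all words by the code. -/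
theorem result (u : (Cfsg.GolayPt → ZMod 2)) (hu : u ∈ Cfsg.golayCode) (w : (Cfsg.GolayPt → ZMod 2)) (hw : w ∉ Cfsg.golayCode) : ∃ σ ∈ Cfsg.M24, (fun p => u (σ.symm p)) = u ∧ (fun p => w (σ.symm p)) - w ∉ Cfsg.golayCode := by
  classical
  have main : ∀ (f : ℕ) (gens : List Tab), gensFix [f] gens → moves gens = true → ∀ τ ∈ Cfsg.M24,
      (∀ g : Equiv.Perm Cfsg.GolayPt, g • supp f = supp f → (τ * g * τ⁻¹) • support₂ u = support₂ u) →
      ∃ σ ∈ Cfsg.M24, (fun p => u (σ.symm p)) = u ∧ (fun p => w (σ.symm p)) - w ∉ Cfsg.golayCode := by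
    intro f gens hg hm τ hτ hfix
    have hw' : (fun p => w (τ p)) ∉ Cfsg.golayCode := by
      intro h
      apply hw
      have := code_inv τ hτ _ h
      simpa using this
    obtain ⟨g, hgmem, hgw⟩ := key hg hm _ hw'
    refine ⟨τ * g * τ⁻¹, mul_mem (mul_mem hτ hgmem.1) (inv_mem hτ), ?_, fun h => hgw ?_⟩
    · calc (fun p => u ((τ * g * τ⁻¹).symm p)) = ind ((τ * g * τ⁻¹) • support₂ u) := by
            rw [← ind_smul, ← eq_ind]
        _ = u := by rw [hfix g (hgmem.2 f (List.mem_singleton_self f)), ← eq_ind]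
    · have := forall_of_mem_M24 hτ h
      have e : ∀ p, (τ * g * τ⁻¹).symm p = τ (g.symm (τ.symm p)) := fun p => rfl
      convert this using 1
      funext p
      simp only [Pi.sub_apply, e, Equiv.symm_apply_apply]
  have hcases := weight_cases hu
  simp only [List.mem_cons, List.not_mem_nil, or_false] at hcases
  have hoct : ∀ o ∈ Cfsg.octads, ((∀ σ : Equiv.Perm Cfsg.GolayPt, σ • o = o → σ • support₂ u = support₂ u)) →
      ∃ σ ∈ Cfsg.M24, (fun p => u (σ.symm p)) = u ∧ (fun p => w (σ.symm p)) - w ∉ Cfsg.golayCode := by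
    intro o ho hfix
    obtain ⟨τ, hτ, hτo⟩ := octad_transitive baseOct_mem ho
    refine main baseOct gens_octO gens_octO_ok moves_octO τ hτ fun g hg => hfix _ ?_
    rw [← hτo, mul_smul, mul_smul, inv_smul_smul, hg]
  have hcompl : ∀ v : Cfsg.GolayPt → ZMod 2, support₂ (v + allOne) = (support₂ v)ᶜ := by
    intro v
    ext p
    have hz : ∀ a : ZMod 2, a + 1 ≠ 0 ↔ ¬a ≠ 0 := by decide
    rw [Finset.mem_compl, support₂, support₂, Finset.mem_filter, Finset.mem_filter]
    simpa [allOne] using hz (v p)
  rcases hcases with h | h | h | h | h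
  · obtain rfl := hammingNorm_eq_zero.mp h
    exact hoct _ baseOct_mem fun σ _ => by
      have : support₂ (0 : Cfsg.GolayPt → ZMod 2) = ∅ := by simp [support₂]
      rw [this, Finset.smul_finset_empty]
  · exact hoct _ (octad_of_word hu h) fun σ hσ => hσ
  · obtain ⟨τ, hτ, hτd⟩ := dodecad_transitive (dodecad_of_word hu h)
    refine main dMask gens_dodD gens_dodD_ok moves_dodD τ hτ fun g hg => ?_
    rw [← hτd, mul_smul, mul_smul, inv_smul_smul]
    exact congrArg (τ • ·) hg
  · refine hoct _ (octad_of_word (Cfsg.golayCode.add_mem hu allOne_mem) (by rw [norm_add_one, h])) fun σ hσ => ?_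
    rw [hcompl] at hσ
    have hc : σ • (support₂ u)ᶜ = (σ • support₂ u)ᶜ := by
      ext p; simp [← Finset.inv_smul_mem_iff]
    rw [hc] at hσ
    exact compl_injective hσ
  · have : support₂ u = Finset.univ := Finset.eq_univ_of_card _ (by rw [← norm_ind, ← eq_ind, h, Sextet.card_pt])
    exact hoct _ baseOct_mem fun σ _ => by rw [this, Finset.smul_finset_univ]

end Cfsg.Agent.S5550
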