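import Cfsg.Statements.S5551
import Cfsg.Agent.Lib.Leech.Basic
-- import your own Cfsg.Agent.* helpers here

set_option autoImplicit false
open Cfsg

namespace Cfsg.Agent.S5551

/-- In the Leech lattice of the definitions (integer coordinates, minimal squared length 32), let v and w be non-zero lattice vectors of squared length at most 64 that are congruent modulo twice the lattice. Then they have the same squared length, and if that length is less than 64 then w = v or w = −v. (So a class that contains a non-zero vector of squared length at most 64 has a well-defined type 2, 3 or 4, and a class of type 2 or 3 contains no such vector other than v and −v.) -/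
theorem result (v w : Cfsg.GolayPt → ℤ) (hv : v ∈ Cfsg.leechLattice) (hw : w ∈ Cfsg.leechLattice) (hv0 : v ≠ 0) (hw0 : w ≠ 0) (hvn : Cfsg.sqNorm v ≤ 64) (hwn : Cfsg.sqNorm w ≤ 64) (hc : ∃ z ∈ Cfsg.leechLattice, v - w = 2 • z) : Cfsg.sqNorm v = Cfsg.sqNorm w ∧ (Cfsg.sqNorm v < 64 → w = v ∨ w = -v) := by
  obtain ⟨z, hz, hzv⟩ := hc
  have e : ∀ i, v i - w i = 2 * z i := fun i => by
    have := congrFun hzv i
    simpa [two_mul, two_nsmul] using this
  by_cases hz0 : z = 0
  · have : v = w := funext fun i => by
      have := e i
      simp [hz0] at this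
      omega
    subst this
    exact ⟨rfl, fun _ => Or.inl rfl⟩
  by_cases hs : z + w = 0
  · have hw' : w = -v := funext fun i => by
      have h1 := e i
      have h2 := congrFun hs i
      simp only [Pi.add_apply, Pi.zero_apply] at h2
      simp only [Pi.neg_apply]
      omega
    refine ⟨?_, fun _ => Or.inr hw'⟩
    subst hw'
    simp [Cfsg.sqNorm]
  have h1 := Cfsg.Agent.Leech.thirtytwo_le hz hz0
  have h2 := Cfsg.Agent.Leech.thirtytwo_le (add_mem hz hw) hs
  have key : 4 * (Cfsg.sqNorm z + Cfsg.sqNorm (z + w)) = 2 * (Cfsg.sqNorm v + Cfsg.sqNorm w) := by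
    simp only [Cfsg.sqNorm, ← Finset.sum_add_distrib, Finset.mul_sum]
    refine Finset.sum_congr rfl fun i _ => ?_
    have hv' : v i = 2 * z i + w i := by have := e i; omega
    simp only [Pi.add_apply, hv']
    ring
  exact ⟨by omega, fun h => absurd h (by omega)⟩

end Cfsg.Agent.S5551
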