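import Cfsg.Statements.S5553
import Cfsg.Agent.Lib.Leech.Basic
-- import your own Cfsg.Agent.* helpers here

set_option autoImplicit false
open Cfsg

namespace Cfsg.Agent.S5553

/-- The Leech lattice of the definitions has an additive subgroup A containing twice the lattice, of index 2^12 in the lattice, all of whose vectors have squared length divisible by 32: the invariant quadratic form 'squared length over 16 modulo 2' on the lattice modulo twice the lattice (a 24-dimensional space over the field with two elements) vanishes on a 12-dimensional subspace, so it is of plus type. -/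
theorem result : ∃ A : AddSubgroup (Cfsg.GolayPt → ℤ), A ≤ Cfsg.leechLattice ∧ (∀ v ∈ Cfsg.leechLattice, (2 : ℤ) • v ∈ A) ∧ (A.addSubgroupOf Cfsg.leechLattice).index = 2 ^ 12 ∧ ∀ v ∈ A, (32 : ℤ) ∣ Cfsg.sqNorm v := by
  classical
  let A : AddSubgroup (Cfsg.GolayPt → ℤ) :=
    { carrier := {x | x ∈ Cfsg.leechLattice ∧ (2 : ℤ) ∣ x none ∧ ∀ i, (4 : ℤ) ∣ x i - x none}
      zero_mem' := ⟨zero_mem _, by simp, by simp⟩
      add_mem' := by
        rintro a b ⟨ha, ha2, ha4⟩ ⟨hb, hb2, hb4⟩
        refine ⟨add_mem ha hb, dvd_add ha2 hb2, fun i => ?_⟩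
        have h1 := ha4 i
        have h2 := hb4 i
        simp only [Pi.add_apply]
        omega
      neg_mem' := by
        rintro a ⟨ha, ha2, ha4⟩
        refine ⟨neg_mem ha, dvd_neg.mpr ha2, fun i => ?_⟩
        have h1 := ha4 i
        simp only [Pi.neg_apply]
        omega }
  refine ⟨A, fun x hx => hx.1, fun v hv => ⟨zsmul_mem hv 2, by simp, fun i => ?_⟩, ?_, ?_⟩
  · obtain ⟨m, w, t, -, -, he, -⟩ := Cfsg.Agent.Leech.exists_split hv
    simp only [Pi.smul_apply, smul_eq_mul, he]
    omega
  · let f : ↥Cfsg.leechLattice →+ ZMod 2 × (Cfsg.GolayPt → ZMod 4) :=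
      { toFun := fun x => (((x : Cfsg.GolayPt → ℤ) none : ZMod 2),
          fun i => (((x : Cfsg.GolayPt → ℤ) i - (x : Cfsg.GolayPt → ℤ) none : ℤ) : ZMod 4))
        map_zero' := by ext <;> simp
        map_add' := fun a b => by ext <;> simp; ring }
    have hker : f.ker = A.addSubgroupOf Cfsg.leechLattice := by
      ext ⟨x, hx⟩
      rw [AddMonoidHom.mem_ker, AddSubgroup.mem_addSubgroupOf]
      constructor
      · intro h
        exact ⟨hx, (ZMod.intCast_zmod_eq_zero_iff_dvd _ 2).mp (congrArg Prod.fst h),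
          fun i => (ZMod.intCast_zmod_eq_zero_iff_dvd _ 4).mp (congrFun (congrArg Prod.snd h) i)⟩
      · rintro ⟨-, h2, h4⟩
        exact Prod.ext ((ZMod.intCast_zmod_eq_zero_iff_dvd _ 2).mpr h2)
          (funext fun i => (ZMod.intCast_zmod_eq_zero_iff_dvd _ 4).mpr (h4 i))
    let C0 := {w : ↥Cfsg.golayCode // w.1 none = 0}
    let g : ZMod 2 × C0 → ZMod 2 × (Cfsg.GolayPt → ZMod 4) :=
      fun p => (p.1, fun i => ((2 * Cfsg.Agent.Leech.lift p.2.1.1 i : ℤ) : ZMod 4))
    have hg : Function.Injective g := by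
      rintro ⟨a, ⟨v, hv⟩, hv0⟩ ⟨b, ⟨w, hw⟩, hw0⟩ h
      simp only [g, Prod.mk.injEq] at h
      refine Prod.ext h.1 (Subtype.ext (Subtype.ext (funext fun i => ?_)))
      have hi := congrFun h.2 i
      simp only [Cfsg.Agent.Leech.lift] at hi
      revert hi
      have key : ∀ a b : ZMod 2, ((2 * (if a = 0 then 0 else 1) : ℤ) : ZMod 4) = ((2 * (if b = 0 then 0 else 1) : ℤ) : ZMod 4) → a = b := by
        decide
      exact key (v i) (w i)
    have hrange : (f.range : Set (ZMod 2 × (Cfsg.GolayPt → ZMod 4))) = Set.range g := by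
      ext z
      constructor
      · rintro ⟨⟨x, hx⟩, rfl⟩
        obtain ⟨m, w, t, hm, hw, he, -⟩ := Cfsg.Agent.Leech.exists_split hx
        let w' : Cfsg.GolayPt → ZMod 2 := if w none = 0 then w else w + 1
        have hw' : w' ∈ Cfsg.golayCode := by
          simp only [w']
          split_ifs
          exacts [hw, add_mem hw Cfsg.Agent.Leech.one_mem_code]
        have h0 : w' none = 0 := by
          simp only [w']
          split_ifs with h
          · exact h
          · simp only [Pi.add_apply, Pi.one_apply]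
            revert h
            generalize w none = a
            revert a
            decide
        refine ⟨((m : ZMod 2), ⟨⟨w', hw'⟩, h0⟩), Prod.ext ?_ (funext fun i => ?_)⟩
        · show (m : ZMod 2) = ((x none : ℤ) : ZMod 2)
          rw [ZMod.intCast_eq_intCast_iff_dvd_sub, he none]
          omega
        · show ((2 * Cfsg.Agent.Leech.lift w' i : ℤ) : ZMod 4) = ((x i - x none : ℤ) : ZMod 4)
          rw [ZMod.intCast_eq_intCast_iff_dvd_sub, he i, he none]
          simp only [w']
          split_ifs with h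
          · simp only [Cfsg.Agent.Leech.lift, h, if_true]
            omega
          · have hl : Cfsg.Agent.Leech.lift w none = 1 := by simp [Cfsg.Agent.Leech.lift, h]
            rw [Cfsg.Agent.Leech.lift_add, hl, show Cfsg.Agent.Leech.lift 1 i = 1 by simp [Cfsg.Agent.Leech.lift]]
            omega
      · rintro ⟨⟨a, ⟨w, hw⟩, h0⟩, rfl⟩
        refine ⟨⟨Cfsg.Agent.Leech.vecOf (a, ⟨w, hw⟩, 0), Cfsg.Agent.Leech.vecOf_mem _⟩, Prod.ext ?_ (funext fun i => ?_)⟩
        · show ((Cfsg.Agent.Leech.vecOf _ none : ℤ) : ZMod 2) = a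
          have ht : Cfsg.Agent.Leech.lift w none = 0 := by simp [Cfsg.Agent.Leech.lift, show w none = 0 from h0]
          simp only [Cfsg.Agent.Leech.vecOf, ht]
          push_cast
          rw [show (4 : ZMod 2) = 0 by decide]
          simp
        · show ((Cfsg.Agent.Leech.vecOf _ i - Cfsg.Agent.Leech.vecOf _ none : ℤ) : ZMod 4) = _
          have ht : Cfsg.Agent.Leech.lift w none = 0 := by simp [Cfsg.Agent.Leech.lift, show w none = 0 from h0]
          simp only [Cfsg.Agent.Leech.vecOf, ht, g]
          push_cast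
          rw [show (4 : ZMod 4) = 0 by decide]
          ring
    rw [← hker, AddSubgroup.index_ker, ← SetLike.coe_sort_coe, hrange, Nat.card_range_of_injective hg, Nat.card_prod,
      Nat.card_zmod]
    have e : Nat.card C0 = Nat.card {m : {m : ℕ // m ∈ Cfsg.Agent.Golay.codeList} // m.1.testBit 23 = false} := by
      refine Nat.card_congr (Equiv.subtypeEquiv Cfsg.Agent.Golay.codeEquiv fun w => ?_)
      show w.1 none = 0 ↔ (Cfsg.Agent.Golay.mask w.1).testBit (Cfsg.Agent.Golay.idx none).val = false
      rw [Cfsg.Agent.Golay.testBit_mask]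
      simp
    rw [e]
    have e2 : Nat.card {m : {m : ℕ // m ∈ Cfsg.Agent.Golay.codeList} // m.1.testBit 23 = false} =
        (Cfsg.Agent.Golay.codeList.filter fun m => m.testBit 23 == false).toFinset.card := by
      rw [← Nat.card_eq_finsetCard]
      refine Nat.card_congr ((Equiv.subtypeSubtypeEquivSubtypeInter _ (fun m => Nat.testBit m 23 = false)).trans
        (Equiv.subtypeEquivRight fun m => ?_))
      simp
    rw [e2, List.toFinset_card_of_nodup (Cfsg.Agent.Golay.codeList_nodup.filter _)]
    decide +kernel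
  · rintro x ⟨hx, h2, h4⟩
    obtain ⟨m, w, hw, hxi, hs⟩ := (Cfsg.Agent.Leech.mem_lattice_iff x).mp hx
    obtain ⟨b, hb⟩ := h2
    have hsq : Cfsg.sqNorm x = ∑ i, (8 * x none ^ 2 * 0 + x none ^ 2 + 2 * x none * (x i - x none) + (x i - x none) ^ 2) :=
      Finset.sum_congr rfl fun i _ => by ring
    have e : ∀ i, ∃ c, x i = x none + 4 * c := fun i => by
      obtain ⟨c, hc⟩ := h4 i
      exact ⟨c, by omega⟩
    choose c hc using e
    have key : Cfsg.sqNorm x = 96 * b ^ 2 + 16 * (b * ∑ i, c i) + 16 * ∑ i, c i ^ 2 := by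
      rw [hsq, Finset.mul_sum, Finset.mul_sum, Finset.mul_sum]
      rw [show (96 : ℤ) * b ^ 2 = ∑ _i : Cfsg.GolayPt, 4 * b ^ 2 by
        rw [Finset.sum_const, Finset.card_univ, show Fintype.card Cfsg.GolayPt = 24 by decide +kernel]; simp; ring,
        ← Finset.sum_add_distrib, ← Finset.sum_add_distrib]
      exact Finset.sum_congr rfl fun i _ => by rw [hc i, hb]; ring
    have h3 : (2 : ℤ) ∣ (∑ i, c i ^ 2) - ∑ i, c i := by
      rw [← Finset.sum_sub_distrib]
      exact Finset.dvd_sum fun j _ => by
        obtain ⟨a, ha⟩ := Int.even_mul_pred_self (c j)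
        exact ⟨a, by rw [sq, show c j * c j - c j = c j * (c j - 1) by ring, ha]; ring⟩
    rcases Int.even_or_odd b with ⟨k, hk⟩ | ⟨k, hk⟩
    · have hsum : ∑ i, x i = 24 * x none + 4 * ∑ i, c i := by
        rw [Finset.mul_sum, Finset.sum_congr rfl (fun i _ => hc i), Finset.sum_add_distrib, Finset.sum_const,
          Finset.card_univ, show Fintype.card Cfsg.GolayPt = 24 by decide +kernel]
        simp
      have hm : (2 : ℤ) ∣ m := by
        have := hxi none
        unfold Int.ModEq at this
        omega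
      have hev : (2 : ℤ) ∣ ∑ i, c i := by
        unfold Int.ModEq at hs
        omega
      obtain ⟨u, hu⟩ := hev
      obtain ⟨v, hv⟩ := h3
      exact ⟨3 * b ^ 2 + k * (∑ i, c i) + v + u, by rw [key]; linear_combination (16 : ℤ) * hv + (16 : ℤ) * hu + 16 * (∑ i, c i) * hk⟩
    · obtain ⟨v, hv⟩ := h3
      exact ⟨3 * b ^ 2 + k * (∑ i, c i) + v + ∑ i, c i, by rw [key]; linear_combination (16 : ℤ) * hv + 16 * (∑ i, c i) * hk⟩

end Cfsg.Agent.S5553
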