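import Cfsg.Statements.S5562
-- import your own Cfsg.Agent.* helpers here

set_option autoImplicit false
open Cfsg

namespace Cfsg.Agent.S5562

/-- Let G be a finite group, d an involution of G whose conjugates pairwise have products of odd order, and x any involution of G. Then the conjugacy class of d is the disjoint union, over the conjugates a of d commuting with x, of the sets of conjugates of d commuting with ax: every conjugate of d commutes with ax for exactly one conjugate a of d that commutes with x. -/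
theorem result {G : Type*} [Group G] [Finite G] (d : G) (hd : orderOf d = 2)
    (hodd : ∀ a ∈ conjugatesOf d, ∀ b ∈ conjugatesOf d, Odd (orderOf (a * b)))
    (x : G) (hx : orderOf x = 2) :
    ∀ e ∈ conjugatesOf d,
      ∃! a : G, a ∈ conjugatesOf d ∧ Commute a x ∧ Commute e (a * x) := by
  intro e he
  have mem2 : ∀ a ∈ conjugatesOf d, a * a = 1 := by
    intro a ha
    obtain ⟨g, rfl⟩ := isConj_iff.1 (ha : IsConj d a)
    rw [← pow_two, conj_pow, ← hd, pow_orderOf_eq_one, mul_one, mul_inv_cancel]
  have closed : ∀ a ∈ conjugatesOf d, ∀ g : G, g * a * g⁻¹ ∈ conjugatesOf d := fun a ha g =>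
    (ha : IsConj d a).trans (isConj_iff.2 ⟨g, rfl⟩)
  have hxx : x * x = 1 := by rw [← pow_two, ← hx, pow_orderOf_eq_one]
  have hxi : x⁻¹ = x := inv_eq_of_mul_eq_one_right hxx
  have hee := mem2 e he
  have hei : e⁻¹ = e := inv_eq_of_mul_eq_one_right hee
  set e' := x * e * x with he'def
  have he' : e' ∈ conjugatesOf d := by
    have := closed e he x
    rwa [hxi] at this
  have he'2 := mem2 e' he'
  have he'i : e'⁻¹ = e' := inv_eq_of_mul_eq_one_right he'2
  -- `a x` centralises `e` iff `a` carries `x e x` to `e`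
  have hiff : ∀ a, a ∈ conjugatesOf d → Commute a x → (Commute e (a * x) ↔ a * e' * a = e) := by
    intro a ha hax
    have haa := mem2 a ha
    constructor
    · intro h
      calc a * e' * a = a * x * e * (x * a) := by rw [he'def]; group
        _ = e * (a * x) * (x * a) := by rw [h.eq]
        _ = e := by rw [mul_assoc e, mul_assoc a x, ← mul_assoc x x a, hxx, one_mul, haa, mul_one]
    · intro h
      show e * (a * x) = a * x * e
      calc e * (a * x) = a * e' * a * (a * x) := by rw [h]
        _ = a * e' * (a * a) * x := by group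
        _ = a * x * e * (x * x) := by rw [haa, he'def]; group
        _ = a * x * e := by rw [hxx, mul_one]
  set r := e * e'
  obtain ⟨m, hm⟩ := hodd e he e' he'
  have hr1 : r ^ m * r ^ m * r = 1 := by rw [← pow_add, ← pow_succ, ← two_mul, ← hm, pow_orderOf_eq_one]
  have her : e * r * e⁻¹ = r⁻¹ := by
    rw [hei, mul_inv_rev, he'i, hei, ← mul_assoc e e e', hee, one_mul]
  have flip : ∀ k : ℕ, e * r ^ k = (r ^ k)⁻¹ * e := by
    intro k
    have := congrArg (· ^ k) her
    simp only [conj_pow, inv_pow] at this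
    rw [← this, mul_assoc, inv_mul_cancel, mul_one]
  set a := r ^ m * e with ha
  have hac : a ∈ conjugatesOf d := by
    have key : ∀ j : ℕ, r ^ j * e * (r ^ j)⁻¹ = r ^ (2 * j) * e := by
      intro j
      have h3 : e * (r ^ j)⁻¹ = r ^ j * e := by
        calc e * (r ^ j)⁻¹ = e * ((r ^ j)⁻¹ * e) * e⁻¹ := by group
          _ = e * (e * r ^ j) * e⁻¹ := by rw [flip]
          _ = r ^ j * e := by rw [← mul_assoc, hee, one_mul, hei]
      rw [mul_assoc, h3, ← mul_assoc, ← pow_add, ← two_mul]
    have h2 : r ^ (2 * (m * (m + 1))) = r ^ m := by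
      rw [show 2 * (m * (m + 1)) = m * (2 * m + 1) + m by ring, pow_add, mul_comm m, pow_mul, ← hm,
        pow_orderOf_eq_one, one_pow, one_mul]
    rw [ha, ← h2, ← key]
    exact closed e he _
  have hax : Commute a x := by
    have hxr : x * r * x⁻¹ = r⁻¹ := by
      rw [hxi, mul_inv_rev, he'i, hei]
      calc x * (e * e') * x = (x * e * x) * e * (x * x) := by
            rw [he'def]; group
        _ = e' * e := by rw [hxx, mul_one]
    have hxm := congrArg (· ^ m) hxr
    simp only [conj_pow, inv_pow] at hxm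
    have h1 : x * a * x⁻¹ = a := by
      calc x * a * x⁻¹ = (x * r ^ m * x⁻¹) * (x * e * x⁻¹) := by rw [ha]; group
        _ = (r ^ m)⁻¹ * e' := by rw [hxm, hxi]
        _ = (r ^ m)⁻¹ * (e * r ^ 1) := by rw [pow_one, ← mul_assoc e e e', hee, one_mul]
        _ = (r ^ m)⁻¹ * ((r ^ 1)⁻¹ * e) := by rw [flip 1]
        _ = (r ^ 1 * r ^ m)⁻¹ * e := by group
        _ = r ^ m * e := by
          congr 1
          refine inv_eq_of_mul_eq_one_right ?_
          rw [← pow_add, ← pow_add, show 1 + m + m = 2 * m + 1 by omega, ← hm, pow_orderOf_eq_one]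
    exact (mul_inv_eq_iff_eq_mul.1 h1).symm
  have haswap : a * e' * a = e := by
    calc a * e' * a = r ^ m * (e * e') * (r ^ m * e) := by rw [ha]; group
      _ = r ^ m * r * r ^ m * e := by rw [← mul_assoc]
      _ = r ^ m * r ^ m * r * e := by rw [mul_assoc (r ^ m) r, ← pow_succ', pow_succ, ← mul_assoc]
      _ = e := by rw [hr1, one_mul]
  refine ⟨a, ⟨hac, hax, (hiff a hac hax).2 haswap⟩, ?_⟩
  rintro b ⟨hbc, hbx, hbe⟩
  have hb2 := mem2 b hbc
  have hbi : b⁻¹ = b := inv_eq_of_mul_eq_one_right hb2
  have haa := mem2 a hac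
  have hai : a⁻¹ = a := inv_eq_of_mul_eq_one_right haa
  have hbswap := (hiff b hbc hbx).1 hbe
  set n := a * b
  have hen : e * n = n * e := by
    have h1 : e' = b * e * b := by
      rw [← hbswap]
      calc e' = (b * b) * e' * (b * b) := by rw [hb2, one_mul, mul_one]
        _ = _ := by group
    calc e * n = e * a * b := by rw [mul_assoc]
      _ = (a * e' * a) * a * b := by rw [haswap]
      _ = a * e' * b := by rw [mul_assoc (a * e') a a, haa, mul_one]
      _ = a * (b * e * b) * b := by rw [h1]
      _ = a * b * e * (b * b) := by group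
      _ = n * e := by rw [hb2, mul_one]
  obtain ⟨k, hk⟩ := hodd e he a hac
  have han : a * n * a⁻¹ = n⁻¹ := by rw [hai, mul_inv_rev, hbi, hai, ← mul_assoc a a b, haa, one_mul]
  have hu : (e * a) * n * (e * a)⁻¹ = n⁻¹ := by
    calc (e * a) * n * (e * a)⁻¹ = e * (a * n * a⁻¹) * e⁻¹ := by group
      _ = n⁻¹ := by
        rw [han, mul_inv_eq_iff_eq_mul]
        exact (show Commute e n from hen).inv_right.eq
  have hu2 : Commute ((e * a) * (e * a)) n := by
    show (e * a) * (e * a) * n = n * ((e * a) * (e * a))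
    have h1 : (e * a) * n = n⁻¹ * (e * a) := mul_inv_eq_iff_eq_mul.1 hu
    have h2 : (e * a) * n⁻¹ = n * (e * a) := by
      have := congrArg (·⁻¹) hu
      simp only [conj_inv, inv_inv] at this
      exact mul_inv_eq_iff_eq_mul.1 this
    rw [mul_assoc, h1, ← mul_assoc, h2, mul_assoc]
  have hcomm : Commute (e * a) n := by
    have hpow := (hu2.pow_left (k + 1))
    rwa [← pow_two, ← pow_mul, show 2 * (k + 1) = (2 * k + 1) + 1 by ring, pow_succ, ← hk, pow_orderOf_eq_one,
      one_mul] at hpow
  have hn2 : n * n = 1 := by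
    have := hcomm.eq
    rw [← mul_inv_eq_iff_eq_mul, hu] at this
    nth_rewrite 1 [← this]
    exact inv_mul_cancel n
  obtain ⟨l, hl⟩ := hodd a hac b hbc
  change orderOf n = 2 * l + 1 at hl
  have hn1 : n = 1 := by
    have h2 : orderOf n ∣ 2 := orderOf_dvd_of_pow_eq_one (by rw [pow_two]; exact hn2)
    have : orderOf n = 1 := by
      rcases (Nat.dvd_prime Nat.prime_two).1 h2 with h | h
      · exact h
      · omega
    exact orderOf_eq_one_iff.1 this
  calc b = a * a * b := by rw [haa, one_mul]
    _ = a := by rw [mul_assoc]; exact (congrArg (a * ·) hn1).trans (mul_one a)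

end Cfsg.Agent.S5562
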