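import Cfsg.Statements.S5594
import Cfsg.Agent.Lib.Leech.Basic
-- import your own Cfsg.Agent.* helpers here

set_option autoImplicit false
open Cfsg

namespace Cfsg.Agent.S5594
open Cfsg.Agent.Golay Cfsg.Agent.Leech in
theorem proj_mem' : projInv ∈ M24 := letter_mem 2

theorem proj_sq' : ∀ p : GolayPt, projInv (projInv p) = p := by decide +kernel

theorem trans' : ∀ p : GolayPt, (p ∈ support₂ (qrWord 0)) ↔ ¬ (projInv p ∈ support₂ (qrWord 0)) := by
  decide +kernel


/-- The automorphism group of the Leech lattice contains the negation map, and the subgroup of order 2 it generates has no complement: the automorphism group is a non-split extension of its quotient by that subgroup (it is not the direct product of a group of order 2 with the first Conway group). -/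
theorem result :
    ∃ n : ↥Cfsg.Co0, (∀ v : ↥Cfsg.leechLattice, ((n • v : ↥Cfsg.leechLattice) : Cfsg.GolayPt → ℤ) = -(v : Cfsg.GolayPt → ℤ)) ∧
    ∀ K : Subgroup ↥Cfsg.Co0, ¬ (Subgroup.zpowers n).IsComplement' K := by
  skip
  classical
  set c : Finset GolayPt := support₂ (qrWord 0) with hcdef
  have hc : c ∈ supports (golayCode : Set (GolayPt → ZMod 2)) :=
    ⟨qrWord 0, Submodule.subset_span (Or.inl ⟨0, rfl⟩), rfl⟩
  let f : ↥leechLattice → ↥leechLattice := fun v =>
    ⟨fun i => if i ∈ c then -((v : GolayPt → ℤ) (projInv i)) else (v : GolayPt → ℤ) (projInv i),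
      Cfsg.Agent.Leech.neg_on_mem hc (Cfsg.Agent.Leech.perm_mem proj_mem' v.2)⟩
  have hff : ∀ v, f (f v) = -v := by
    intro v
    apply Subtype.ext
    funext i
    have ht := trans' i
    rw [← hcdef] at ht
    simp only [f, proj_sq', AddSubgroup.coe_neg, Pi.neg_apply]
    by_cases h : i ∈ c
    · have h2 : projInv i ∉ c := ht.mp h
      simp [h, h2]
    · have h2 : projInv i ∈ c := by
        by_contra h2; exact h (ht.mpr h2)
      simp [h, h2]
  have h4 : ∀ v, f (f (f (f v))) = v := fun v => by rw [hff, hff, neg_neg]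
  let e : Equiv.Perm ↥leechLattice :=
    ⟨f, fun v => f (f (f v)), h4, h4⟩
  have hadd : ∀ v w : ↥leechLattice, f (v + w) = f v + f w := by
    intro v w
    apply Subtype.ext
    funext i
    simp only [f, AddSubgroup.coe_add, Pi.add_apply]
    split_ifs <;> ring
  have hnorm : ∀ v : ↥leechLattice, sqNorm ((f v : ↥leechLattice) : GolayPt → ℤ) = sqNorm (v : GolayPt → ℤ) := by
    intro v
    unfold sqNorm
    calc ∑ i, ((f v : ↥leechLattice) : GolayPt → ℤ) i ^ 2
        = ∑ i, (v : GolayPt → ℤ) (projInv i) ^ 2 := Finset.sum_congr rfl fun i _ => by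
          simp only [f]; split_ifs <;> ring
      _ = _ := Equiv.sum_comp projInv (fun i => (v : GolayPt → ℤ) i ^ 2)
  have hg : e ∈ Co0 := ⟨hadd, hnorm⟩
  let g : ↥Co0 := ⟨e, hg⟩
  refine ⟨g * g, fun v => ?_, fun K hK => ?_⟩
  · show ((f (f v) : ↥leechLattice) : GolayPt → ℤ) = _
    rw [hff]; rfl
  set n := g * g with hn
  have hn2 : n * n = 1 := by
    apply Subtype.ext
    apply Equiv.ext
    intro v
    exact h4 v
  have hn1 : n ≠ 1 := by
    intro h
    have hm : ∀ v : ↥leechLattice, -v = v := fun v => by
      have := DFunLike.congr_fun (congrArg Subtype.val h) v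
      rw [← hff v]; exact this
    have hw : (fun _ => 4 : GolayPt → ℤ) ∈ leechLattice := by
      refine (Cfsg.Agent.Leech.mem_lattice_iff _).mpr ⟨0, 0, Submodule.zero_mem _, fun i => ?_, ?_⟩
      · simp [Cfsg.Agent.Leech.lift, Int.ModEq]
      · simp [Int.ModEq]
    have := congrFun (congrArg Subtype.val (hm ⟨_, hw⟩)) none
    simp at this
  have hcard : Nat.card (Subgroup.zpowers n) = 2 := by
    rw [Nat.card_zpowers]
    exact orderOf_eq_prime (by rw [pow_two]; exact hn2) hn1
  have hidx : K.index = 2 := by rw [← hK.index_eq_card, hcard] at *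
  have hgK : n ∈ K := Subgroup.mul_self_mem_of_index_two hidx g
  have := hK.disjoint
  rw [Subgroup.disjoint_def] at this
  exact hn1 (this (Subgroup.mem_zpowers n) hgK)

end Cfsg.Agent.S5594
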