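import Cfsg.Statements.S5596
import Cfsg.Agent.Lib.Struct.LargeExtraspecial
-- import your own Cfsg.Agent.* helpers here

set_option autoImplicit false
open Cfsg

namespace Cfsg.Agent.S5596
open Cfsg.Agent.LargeEx

theorem extend_iso {G : Type*} [Group G] [Finite G] (U : Subgroup G) (hU2 : ∀ u ∈ U, u * u = 1)
    (L : Subgroup G) (hN : L ≤ Subgroup.normalizer (U : Set G))
    (hT : ∀ u ∈ U, u ≠ 1 → ∀ H : Subgroup G, H ≤ U → u ∈ H → ∀ a ∈ U, a ∉ H →
      ∃ g ∈ L, (∀ m ∈ H, g * m * g⁻¹ = m) ∧ g * a * g⁻¹ = u * a)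
    (φ : ↥U ≃* ↥U) : ∃ g ∈ L, ∀ u : ↥U, g * (u : G) * g⁻¹ = ((φ u : ↥U) : G) := by
  classical
  let S : Set (Subgroup ↥U) := {W | ∃ g ∈ L, ∀ u ∈ W, g * (u : G) * g⁻¹ = ((φ u : ↥U) : G)}
  have hS : S.Nonempty := ⟨⊥, 1, L.one_mem, fun u hu => by
    rw [Subgroup.mem_bot] at hu; subst hu; simp⟩
  obtain ⟨W, hW, hmax⟩ := Set.exists_max_image S (fun W : Subgroup ↥U => Nat.card W) S.toFinite hS
  obtain ⟨g, hg, hgW⟩ := hW
  by_cases htop : W = ⊤
  · exact ⟨g, hg, fun u => hgW u (htop ▸ Subgroup.mem_top u)⟩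
  exfalso
  obtain ⟨v, hv⟩ : ∃ v : ↥U, v ∉ W := by
    by_contra hc
    push Not at hc
    exact htop (eq_top_iff.mpr fun x _ => hc x)
  have haU : g * (v : G) * g⁻¹ ∈ U := (Subgroup.mem_normalizer_iff.mp (hN hg) _).mp v.2
  set a := g * (v : G) * g⁻¹ with ha
  set b := ((φ v : ↥U) : G) with hb
  have key : ∀ g' ∈ L, (∀ u ∈ W, g' * (u : G) * g'⁻¹ = ((φ u : ↥U) : G)) → g' * (v : G) * g'⁻¹ = b → False := by
    intro g' hg' h1 h2
    let K : Subgroup ↥U :=
      { carrier := {u | g' * (u : G) * g'⁻¹ = ((φ u : ↥U) : G)}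
        one_mem' := by simp
        mul_mem' := fun {c d} hc hd => by
          show g' * ((c : G) * d) * g'⁻¹ = ((φ (c * d) : ↥U) : G)
          rw [map_mul, Subgroup.coe_mul, ← hc, ← hd]; group
        inv_mem' := fun {c} hc => by
          show g' * ((c : G)⁻¹) * g'⁻¹ = ((φ c⁻¹ : ↥U) : G)
          rw [map_inv, Subgroup.coe_inv, ← hc]; group }
    have hle : W < K := lt_of_le_of_ne (fun u hu => h1 u hu) (fun e => hv (e ▸ (h2 : v ∈ K)))
    have h3 := hmax K ⟨g', hg', fun u hu => hu⟩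
    exact hle.ne (Subgroup.eq_of_le_of_card_ge hle.le h3)
  by_cases hab : a = b
  · exact key g hg hgW (ha ▸ hab)
  have hbU : b ∈ U := (φ v).2
  have hcomm : ∀ x ∈ U, ∀ y ∈ U, x * y = y * x := fun x hx y hy => by
    calc x * y = (x * y)⁻¹ := (inv_eq_of_mul_eq_one_right (hU2 _ (U.mul_mem hx hy))).symm
      _ = y⁻¹ * x⁻¹ := mul_inv_rev x y
      _ = y * x := by rw [inv_eq_of_mul_eq_one_right (hU2 _ hx), inv_eq_of_mul_eq_one_right (hU2 _ hy)]
  set u := b * a with hu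
  have huU : u ∈ U := U.mul_mem hbU haU
  have hu1 : u ≠ 1 := fun e => hab ((eq_inv_of_mul_eq_one_right e).trans (inv_eq_of_mul_eq_one_right (hU2 _ hbU)))
  let gW : Subgroup G := (W.map (φ : ↥U →* ↥U)).map U.subtype
  have hgWU : gW ≤ U := Subgroup.map_subtype_le _
  have hbW : b ∉ gW := by
    rintro ⟨_, ⟨w, hw, rfl⟩, e⟩
    exact hv (φ.injective (Subtype.ext e) ▸ hw)
  have haW : a ∉ gW := by
    rintro ⟨_, ⟨w, hw, rfl⟩, e⟩
    have h1 := hgW w hw
    change ((φ w : ↥U) : G) = a at e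
    rw [← h1, ha] at e
    exact hv ((Subtype.ext (mul_left_cancel (mul_right_cancel e)) : w = v) ▸ hw)
  let H : Subgroup G :=
    { carrier := {x | x ∈ U ∧ (x ∈ gW ∨ x * u ∈ gW)}
      one_mem' := ⟨U.one_mem, Or.inl gW.one_mem⟩
      mul_mem' := fun {c d} hc hd => by
        refine ⟨U.mul_mem hc.1 hd.1, ?_⟩
        rcases hc.2 with h1 | h1 <;> rcases hd.2 with h2 | h2
        · exact Or.inl (gW.mul_mem h1 h2)
        · exact Or.inr (by rw [mul_assoc]; exact gW.mul_mem h1 h2)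
        · refine Or.inr ?_
          have := gW.mul_mem h1 h2
          rwa [mul_assoc, hcomm u huU d hd.1, ← mul_assoc] at this
        · refine Or.inl ?_
          have := gW.mul_mem h1 h2
          rwa [mul_assoc, ← mul_assoc u d u, hcomm u huU d hd.1, mul_assoc d u u, hU2 u huU, mul_one] at this
      inv_mem' := fun {c} hc => by
        have : c⁻¹ = c := inv_eq_of_mul_eq_one_right (hU2 c hc.1)
        rw [this]; exact hc }
  have huH : u ∈ H := ⟨huU, Or.inr (by rw [hU2 u huU]; exact gW.one_mem)⟩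
  have haH : a ∉ H := by
    rintro ⟨-, h1 | h1⟩
    · exact haW h1
    · apply hbW
      rwa [hu, hcomm b hbU a haU, ← mul_assoc, hU2 a haU, one_mul] at h1
  obtain ⟨t, ht, htH, hta⟩ := hT u huU hu1 H (fun x hx => hx.1) huH a haU haH
  refine key (t * g) (L.mul_mem ht hg) (fun w hw => ?_) ?_
  · have hm : ((φ w : ↥U) : G) ∈ H := ⟨(φ w).2, Or.inl ⟨φ w, ⟨w, hw, rfl⟩, rfl⟩⟩
    calc t * g * (w : G) * (t * g)⁻¹ = t * (g * w * g⁻¹) * t⁻¹ := by group
      _ = _ := by rw [hgW w hw, htH _ hm]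
  · calc t * g * (v : G) * (t * g)⁻¹ = t * a * t⁻¹ := by rw [ha]; group
      _ = b := by rw [hta, hu, mul_assoc, hU2 a haU, mul_one]


/-- Setting: `z` is an involution of the finite group `G`; for each element `x`, `Q x` is the largest normal 2-subgroup of the centralizer of `x`; `Q z` is extraspecial and contains its own centralizer in `G`. A subgroup `U` is singular when it is elementary abelian, every non-identity element of `U` is conjugate to `z`, and any two non-identity elements `u`, `v` of `U` are orthogonal (`v ∈ Q u`). Write `QU` for the intersection of the `Q u` and `LU` for the join of the `Q u` over the non-identity `u` in `U`. If `U` is singular of order `2 ^ n` with `n ≥ 2`, then `U ≤ QU ≤ LU`, `LU` normalizes `U`, and `LU` induces on `U` its full automorphism group (the general linear group of dimension `n` over the field with two elements): every automorphism of `U` is conjugation by some element of `LU`.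 -/
theorem result {G : Type*} [Group G] [Finite G]
    (Q : G → Subgroup G)
    (hQ : ∀ x : G, Q x = (Cfsg.pCore 2 ↥(Subgroup.centralizer ({x} : Set G))).map (Subgroup.centralizer ({x} : Set G)).subtype)
    (z : G) (hz : orderOf z = 2) (hE : Cfsg.IsExtraspecial 2 ↥(Q z))
    (hC : Subgroup.centralizer ((Q z : Subgroup G) : Set G) ≤ Q z)
    (U : Subgroup G) (hU2 : ∀ u ∈ U, u * u = 1)
    (hS : ∀ u ∈ U, u ≠ 1 → ∃ g : G, g * z * g⁻¹ = u)
    (hO : ∀ u ∈ U, ∀ v ∈ U, u ≠ 1 → v ≠ 1 → v ∈ Q u)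
    (QU LU : Subgroup G) (hQU : QU = ⨅ u ∈ ((U : Set G) \ {1}), Q u) (hLU : LU = ⨆ u ∈ ((U : Set G) \ {1}), Q u)
    (n : ℕ) (hn : 2 ≤ n) (hcard : Nat.card ↥U = 2 ^ n) :
    U ≤ QU ∧ QU ≤ LU ∧ LU ≤ Subgroup.normalizer (U : Set G) ∧
      ∀ φ : ↥U ≃* ↥U, ∃ g ∈ LU, ∀ u : ↥U, g * (u : G) * g⁻¹ = ((φ u : ↥U) : G) := by
  skip
  classical
  have h : Setup Q z := ⟨hQ, hz, hE, hC⟩
  have hsu : ∀ u ∈ U, u ≠ 1 → Setup Q u := fun u hu h1 => by
    obtain ⟨g, rfl⟩ := hS u hu h1; exact conj_setup h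
  have hin : ∀ u ∈ U, u ≠ 1 → ∀ v ∈ U, v ∈ Q u := fun u hu h1 v hv => by
    by_cases e : v = 1
    · rw [e]; exact one_mem _
    · exact hO u hu v hv h1 e
  have hUQ : U ≤ QU := by
    rw [hQU]
    exact fun v hv => by
      simp only [Subgroup.mem_iInf]
      exact fun u hu => hin u hu.1 hu.2 v hv
  obtain ⟨⟨u0, hu0⟩, hu01⟩ : ∃ u : ↥U, u ≠ 1 := by
    by_contra hc
    push Not at hc
    haveI : Subsingleton ↥U := ⟨fun a b => (hc a).trans (hc b).symm⟩
    rw [Nat.card_unique] at hcard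
    have : 4 ≤ 2 ^ n := le_trans (by norm_num) (Nat.pow_le_pow_right (by norm_num) hn)
    omega
  have hu0' : u0 ≠ 1 := fun e => hu01 (Subtype.ext e)
  have hle : ∀ u ∈ U, u ≠ 1 → Q u ≤ LU := fun u hu h1 => by
    rw [hLU]; exact le_iSup₂ (f := fun u (_ : u ∈ (U : Set G) \ {1}) => Q u) u ⟨hu, h1⟩
  have hN : LU ≤ Subgroup.normalizer (U : Set G) := by
    rw [hLU]
    refine iSup₂_le fun u hu q hq => ?_
    have hs := hsu u hu.1 hu.2
    have hconj : ∀ q ∈ Q u, ∀ v ∈ U, q * v * q⁻¹ ∈ U := by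
      intro q hq v hv
      rcases comm_cases hs hq (hin u hu.1 hu.2 v hv) with d | d
      · rw [mul_inv_eq_one.mp d]; exact hv
      · rw [mul_inv_eq_iff_eq_mul.mp d]; exact U.mul_mem hu.1 hv
    rw [Subgroup.mem_normalizer_iff]
    refine fun v => ⟨hconj q hq v, fun hv => ?_⟩
    have := hconj q⁻¹ ((Q u).inv_mem hq) _ hv
    rwa [inv_inv, show q⁻¹ * (q * v * q⁻¹) * q = v by group] at this
  refine ⟨hUQ, ?_, hN, fun φ => ?_⟩
  · rw [hQU]
    exact le_trans (iInf₂_le (f := fun u (_ : u ∈ (U : Set G) \ {1}) => Q u) u0 ⟨hu0, hu0'⟩) (hle u0 hu0 hu0')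
  · refine extend_iso U hU2 LU hN (fun u hu h1 H hH huH a ha haH => ?_) φ
    obtain ⟨q, hq, hc, hqa⟩ := exists_mover_subgroup (hsu u hu h1)
      (fun m hm => hin u hu h1 m (hH hm)) huH (hin u hu h1 a ha) haH
    exact ⟨q, hle u hu h1 hq, fun m hm => mul_inv_eq_iff_eq_mul.mpr (hc m hm), hqa⟩

end Cfsg.Agent.S5596
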