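import Cfsg.Statements.S5597
import Cfsg.Agent.Lib.Struct.LargeExtraspecial
-- import your own Cfsg.Agent.* helpers here

set_option autoImplicit false
open Cfsg

namespace Cfsg.Agent.S5597
open Cfsg.Agent.LargeEx


/-- Setting: `z` is an involution of the finite group `G`; for each element `x`, `Q x` is the largest normal 2-subgroup of the centralizer of `x`; `Q z` is extraspecial and contains its own centralizer in `G`. A subgroup `U` is singular when it is elementary abelian, every non-identity element of `U` is conjugate to `z`, and any two non-identity elements `u`, `v` of `U` are orthogonal (`v ∈ Q u`). Write `QU` for the intersection of the `Q u` and `LU` for the join of the `Q u` over the non-identity `u` in `U`. If `U` is a non-trivial singular subgroup, then `LU` acts trivially on `QU / U` (every commutator of an element of `LU` with an element of `QU` lies in `U`), and for every `x` in `QU` outside `U` the centralizer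 of `U` in `LU` permutes the coset `x U` transitively: each `x u` with `u ∈ U` is a conjugate of `x` by an element of `LU` centralizing `U`. -/
theorem result {G : Type*} [Group G] [Finite G]
    (Q : G → Subgroup G)
    (hQ : ∀ x : G, Q x = (Cfsg.pCore 2 ↥(Subgroup.centralizer ({x} : Set G))).map (Subgroup.centralizer ({x} : Set G)).subtype)
    (z : G) (hz : orderOf z = 2) (hE : Cfsg.IsExtraspecial 2 ↥(Q z))
    (hC : Subgroup.centralizer ((Q z : Subgroup G) : Set G) ≤ Q z)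
    (U : Subgroup G) (hU2 : ∀ u ∈ U, u * u = 1)
    (hS : ∀ u ∈ U, u ≠ 1 → ∃ g : G, g * z * g⁻¹ = u)
    (hO : ∀ u ∈ U, ∀ v ∈ U, u ≠ 1 → v ≠ 1 → v ∈ Q u)
    (QU LU : Subgroup G) (hQU : QU = ⨅ u ∈ ((U : Set G) \ {1}), Q u) (hLU : LU = ⨆ u ∈ ((U : Set G) \ {1}), Q u)
    (hU : U ≠ ⊥) :
    (∀ g ∈ LU, ∀ x ∈ QU, g * x * g⁻¹ * x⁻¹ ∈ U) ∧
      ∀ x ∈ QU, x ∉ U → ∀ u ∈ U, ∃ g ∈ LU ⊓ Subgroup.centralizer (U : Set G), g * x * g⁻¹ = x * u := by
  skip
  classical
  have h : Setup Q z := ⟨hQ, hz, hE, hC⟩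
  have hsu : ∀ u ∈ U, u ≠ 1 → Setup Q u := fun u hu h1 => by
    obtain ⟨g, rfl⟩ := hS u hu h1; exact conj_setup h
  have hin : ∀ u ∈ U, u ≠ 1 → ∀ v ∈ U, v ∈ Q u := fun u hu h1 v hv => by
    by_cases e : v = 1
    · rw [e]; exact one_mem _
    · exact hO u hu v hv h1 e
  have hle : ∀ u ∈ U, u ≠ 1 → Q u ≤ LU := fun u hu h1 => by
    rw [hLU]; exact le_iSup₂ (f := fun u (_ : u ∈ (U : Set G) \ {1}) => Q u) u ⟨hu, h1⟩
  have hQUle : ∀ u ∈ U, u ≠ 1 → ∀ x ∈ QU, x ∈ Q u := fun u hu h1 x hx => by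
    rw [hQU] at hx
    exact iInf₂_le (f := fun u (_ : u ∈ (U : Set G) \ {1}) => Q u) u ⟨hu, h1⟩ hx
  let K : Subgroup G :=
    { carrier := {g | g ∈ Subgroup.normalizer (U : Set G) ∧ ∀ x ∈ QU, g * x * g⁻¹ * x⁻¹ ∈ U}
      one_mem' := ⟨Subgroup.one_mem _, fun x _ => by simp⟩
      mul_mem' := fun {a b} ha hb => ⟨Subgroup.mul_mem _ ha.1 hb.1, fun x hx => by
        rw [show a * b * x * (a * b)⁻¹ * x⁻¹ = (a * (b * x * b⁻¹ * x⁻¹) * a⁻¹) * (a * x * a⁻¹ * x⁻¹) by group]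
        exact U.mul_mem ((Subgroup.mem_normalizer_iff.mp ha.1 _).mp (hb.2 x hx)) (ha.2 x hx)⟩
      inv_mem' := fun {a} ha => ⟨Subgroup.inv_mem _ ha.1, fun x hx => by
        rw [show a⁻¹ * x * a⁻¹⁻¹ * x⁻¹ = a⁻¹ * (a * x * a⁻¹ * x⁻¹)⁻¹ * a⁻¹⁻¹ by group]
        exact (Subgroup.mem_normalizer_iff.mp (Subgroup.inv_mem _ ha.1) _).mp (U.inv_mem (ha.2 x hx))⟩ }
  have hK : LU ≤ K := by
    rw [hLU]
    refine iSup₂_le fun u hu q hq => ?_
    have hs := hsu u hu.1 hu.2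
    have hconj : ∀ q ∈ Q u, ∀ v ∈ Q u, q * v * q⁻¹ * v⁻¹ ∈ U := by
      intro q hq v hv
      rcases comm_cases hs hq hv with d | d <;> rw [d]
      · exact U.one_mem
      · exact hu.1
    have hconj' : ∀ q ∈ Q u, ∀ v ∈ U, q * v * q⁻¹ ∈ U := fun q hq v hv => by
      have := U.mul_mem (hconj q hq v (hin u hu.1 hu.2 v hv)) hv
      rwa [inv_mul_cancel_right] at this
    refine ⟨?_, fun x hx => hconj q hq x (hQUle u hu.1 hu.2 x hx)⟩
    rw [Subgroup.mem_normalizer_iff]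
    refine fun v => ⟨hconj' q hq v, fun hv => ?_⟩
    have := hconj' q⁻¹ ((Q u).inv_mem hq) _ hv
    rwa [inv_inv, show q⁻¹ * (q * v * q⁻¹) * q = v by group] at this
  refine ⟨fun g hg x hx => (hK hg).2 x hx, fun x hx hxU u hu => ?_⟩
  by_cases hu1 : u = 1
  · exact ⟨1, one_mem _, by simp [hu1]⟩
  obtain ⟨q, hq, hc, hqx⟩ := exists_mover_subgroup (hsu u hu hu1)
    (fun m hm => hin u hu hu1 m hm) hu (hQUle u hu hu1 x hx) hxU
  refine ⟨q, ⟨hle u hu hu1 hq, Subgroup.mem_centralizer_iff.mpr fun m hm => (hc m hm).symm⟩, ?_⟩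
  rw [hqx, Q_le_cent (hsu u hu hu1) u (hQUle u hu hu1 x hx)]

end Cfsg.Agent.S5597
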