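import Cfsg.Statements.S5598
import Cfsg.Agent.Lib.Struct.LargeExtraspecial
-- import your own Cfsg.Agent.* helpers here

set_option autoImplicit false
open Cfsg

namespace Cfsg.Agent.S5598
open Cfsg.Agent.LargeEx


/-- Setting: `z` is an involution of the finite group `G`; for each element `x`, `Q x` is the largest normal 2-subgroup of the centralizer of `x`; `Q z` is extraspecial and contains its own centralizer in `G`. A subgroup `U` is singular when it is elementary abelian, every non-identity element of `U` is conjugate to `z`, and any two non-identity elements `u`, `v` of `U` are orthogonal (`v ∈ Q u`). Write `QU` for the intersection of the `Q u` and `LU` for the join of the `Q u` over the non-identity `u` in `U`. If the singular subgroup `U` is generated by a set `T` of non-identity elements, then `QU` is already the intersection of the `Q t` over `t ∈ T`. -/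
theorem result {G : Type*} [Group G] [Finite G]
    (Q : G → Subgroup G)
    (hQ : ∀ x : G, Q x = (Cfsg.pCore 2 ↥(Subgroup.centralizer ({x} : Set G))).map (Subgroup.centralizer ({x} : Set G)).subtype)
    (z : G) (hz : orderOf z = 2) (hE : Cfsg.IsExtraspecial 2 ↥(Q z))
    (hC : Subgroup.centralizer ((Q z : Subgroup G) : Set G) ≤ Q z)
    (U : Subgroup G) (hU2 : ∀ u ∈ U, u * u = 1)
    (hS : ∀ u ∈ U, u ≠ 1 → ∃ g : G, g * z * g⁻¹ = u)
    (hO : ∀ u ∈ U, ∀ v ∈ U, u ≠ 1 → v ≠ 1 → v ∈ Q u)
    (QU LU : Subgroup G) (hQU : QU = ⨅ u ∈ ((U : Set G) \ {1}), Q u) (hLU : LU = ⨆ u ∈ ((U : Set G) \ {1}), Q u)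
    (T : Set G) (hT : Subgroup.closure T = U) (hT1 : (1 : G) ∉ T) :
    QU = ⨅ t ∈ T, Q t := by
  skip
  classical
  have h : Setup Q z := ⟨hQ, hz, hE, hC⟩
  have hsu : ∀ u ∈ U, u ≠ 1 → Setup Q u := fun u hu h1 => by
    obtain ⟨g, rfl⟩ := hS u hu h1; exact conj_setup h
  have hin : ∀ u ∈ U, u ≠ 1 → ∀ v ∈ U, v ∈ Q u := fun u hu h1 v hv => by
    by_cases e : v = 1
    · rw [e]; exact one_mem _
    · exact hO u hu v hv h1 e
  have hTU : ∀ t ∈ T, t ∈ U ∧ t ≠ 1 := fun t ht =>
    ⟨hT ▸ Subgroup.subset_closure ht, fun e => hT1 (e ▸ ht)⟩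
  refine le_antisymm (le_iInf₂ fun t ht => ?_) ?_
  · rw [hQU]
    exact iInf₂_le (f := fun u (_ : u ∈ (U : Set G) \ {1}) => Q u) t ⟨(hTU t ht).1, (hTU t ht).2⟩
  intro x hx
  simp only [Subgroup.mem_iInf] at hx
  let K : Subgroup G :=
    { carrier := {u | u ∈ U ∧ (u ≠ 1 → x ∈ Q u)}
      one_mem' := ⟨U.one_mem, fun e => absurd rfl e⟩
      mul_mem' := fun {a b} ha hb => ⟨U.mul_mem ha.1 hb.1, fun hab => by
        by_cases ha1 : a = 1
        · rw [ha1, one_mul] at hab ⊢; exact hb.2 hab
        by_cases hb1 : b = 1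
        · rw [hb1, mul_one] at hab ⊢; exact ha.2 hab
        have hs := hsu a ha.1 ha1
        have hne : b ≠ a := fun e => hab (by rw [e]; exact hU2 a ha.1)
        obtain ⟨q, hq, hqb⟩ := exists_mover hs (hin a ha.1 ha1 b hb.1) hb1 hne
        have h1 := mem_Q_conj (hsu b hb.1 hb1) (g := q) (hb.2 hb1)
        rw [hqb] at h1
        rcases comm_cases hs hq (ha.2 ha1) with d | d
        · rwa [mul_inv_eq_one.mp d] at h1
        · rw [mul_inv_eq_iff_eq_mul.mp d] at h1
          have := (Q (a * b)).mul_mem ((Q (a * b)).inv_mem (hin _ (U.mul_mem ha.1 hb.1) hab a ha.1)) h1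
          rwa [inv_mul_cancel_left] at this⟩
      inv_mem' := fun {a} ha => by
        have : a⁻¹ = a := inv_eq_of_mul_eq_one_right (hU2 a ha.1)
        rw [this]; exact ha }
  have hK : U ≤ K := by
    rw [← hT, Subgroup.closure_le]
    exact fun t ht => ⟨(hTU t ht).1, fun _ => hx t ht⟩
  rw [hQU]
  simp only [Subgroup.mem_iInf]
  exact fun u hu => (hK hu.1).2 hu.2

end Cfsg.Agent.S5598
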