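import Cfsg.Statements.S5599
import Cfsg.Agent.Lib.Golay.Mathieu
import Cfsg.Agent.Lib.Golay.OutSmall

set_option autoImplicit false
open scoped Pointwise
open Cfsg

namespace Cfsg.Agent.S5599

open Cfsg.Agent.Golay
open scoped Pointwise

theorem base_pts : pt (bpt 0) = none ∧ pt (bpt 1) = some 0 := ⟨by decide +kernel, by decide +kernel⟩

theorem M22_chain : Cfsg.Spor.M22 = chain 2 := by
  ext σ
  constructor
  · rintro ⟨⟨hM, hn⟩, hz⟩
    refine ⟨hM, fun i hi => ?_⟩
    obtain rfl | rfl : i = 0 ∨ i = 1 := by omega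
    · rw [base_pts.1]; exact hn
    · rw [base_pts.2]; exact hz
  · rintro ⟨hM, h⟩
    have a := h 0 (by norm_num)
    have b := h 1 (by norm_num)
    rw [base_pts.1] at a; rw [base_pts.2] at b
    exact ⟨⟨hM, a⟩, b⟩

/-- The transposition of the two fixed positions. -/
def swapFn (i : Fin 24) : Fin 24 := if i.val = 23 then 0 else if i.val = 0 then 23 else i

theorem swap_bad : ¬ ∀ x ∈ basis, inC (pullMask swapFn x.2) = true := by decide +kernel

theorem swap_fn : ∀ i : Fin 24, idx ((Equiv.swap (none : GolayPt) (some 0)) (pt i)) = swapFn i := by decide +kernel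

theorem other : ∀ p q : GolayPt, ∃ r : GolayPt, r ≠ p ∧ r ≠ q ∧ r ≠ none ∧ r ≠ some 0 := by decide +kernel

/-- In the automorphism group of the length-24 code, the two-point Mathieu group (permutations of the code's group fixing the extra point and the residue 0) has index 2 in the setwise stabiliser of that pair of points, and an element of the code's group interchanging the two points normalises the two-point group and induces on it, by conjugation, an automorphism that is not inner. -/
theorem result (g : Equiv.Perm Cfsg.GolayPt) (hg : g ∈ Cfsg.M24) (h₁ : g none = some 0) (h₂ : g (some 0) = none) : Cfsg.Spor.M22.relIndex (Cfsg.M24 ⊓ MulAction.stabilizer (Equiv.Perm Cfsg.GolayPt) ({none, some 0} : Finset Cfsg.GolayPt)) = 2 ∧ (∀ x ∈ Cfsg.Spor.M22, g * x * g⁻¹ ∈ Cfsg.Spor.M22) ∧ ¬ ∃ h ∈ Cfsg.Spor.M22, ∀ x ∈ Cfsg.Spor.M22, g * x * g⁻¹ = h * x * h⁻¹ := by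
  have hginv : g⁻¹ none = some 0 ∧ g⁻¹ (some 0) = none := by
    constructor <;> rw [Equiv.Perm.coe_inv, Equiv.symm_apply_eq]
    · exact h₂.symm
    · exact h₁.symm
  have hnorm : ∀ x ∈ Spor.M22, g * x * g⁻¹ ∈ Spor.M22 := by
    rintro x ⟨⟨hM, hn⟩, hz⟩
    refine ⟨⟨M24.mul_mem (M24.mul_mem hg hM) (M24.inv_mem hg), ?_⟩, ?_⟩
    · show g (x (g⁻¹ none)) = none
      rw [hginv.1, show x (some 0) = some 0 from hz, h₂]
    · show g (x (g⁻¹ (some 0))) = some 0
      rw [hginv.2, show x none = none from hn, h₁]
  refine ⟨?_, hnorm, ?_⟩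
  · have hgS : g ∈ M24 ⊓ MulAction.stabilizer (Equiv.Perm GolayPt) ({none, some 0} : Finset GolayPt) := by
      refine ⟨hg, ?_⟩
      show g • ({none, some 0} : Finset GolayPt) = _
      rw [Finset.smul_finset_insert, Finset.smul_finset_singleton, Equiv.Perm.smul_def, Equiv.Perm.smul_def,
        h₁, h₂, Finset.pair_comm]
    rw [Subgroup.relIndex, Subgroup.index_eq_two_iff]
    refine ⟨⟨g, hgS⟩, fun b => ?_⟩
    obtain ⟨b, hbM, hbS⟩ := b
    have hb : (b none = none ∧ b (some 0) = some 0) ∨ (b none = some 0 ∧ b (some 0) = none) := by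
      have hbS' : b • ({none, some 0} : Finset GolayPt) = {none, some 0} := hbS
      have hn : b none = none ∨ b none = some 0 := by
        have := Finset.smul_mem_smul_finset (a := b) (show (none : GolayPt) ∈ ({none, some 0} : Finset GolayPt) by simp)
        rw [hbS', Equiv.Perm.smul_def] at this
        simpa using this
      have hz : b (some 0) = none ∨ b (some 0) = some 0 := by
        have := Finset.smul_mem_smul_finset (a := b) (show (some 0 : GolayPt) ∈ ({none, some 0} : Finset GolayPt) by simp)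
        rw [hbS', Equiv.Perm.smul_def] at this
        simpa using this
      have hne : b none ≠ b (some 0) := fun e => Option.noConfusion rfl (heq_of_eq (b.injective e))
      rcases hn with hn | hn <;> rcases hz with hz | hz <;> simp_all
    rw [Subgroup.mem_subgroupOf, Subgroup.mem_subgroupOf]
    show Xor (b * g ∈ Spor.M22) (b ∈ Spor.M22)
    rcases hb with ⟨hn, hz⟩ | ⟨hn, hz⟩
    · right
      refine ⟨⟨⟨hbM, hn⟩, hz⟩, fun h => ?_⟩
      have : b (g none) = none := h.1.2
      rw [h₁, hz] at this
      simp at this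
    · left
      refine ⟨⟨⟨mul_mem hbM hg, ?_⟩, ?_⟩, fun h => ?_⟩
      · show b (g none) = none
        rw [h₁, hz]
      · show b (g (some 0)) = some 0
        rw [h₂, hn]
      · have : b none = none := h.1.2
        rw [hn] at this
        simp at this
  · rintro ⟨h, hh, hc⟩
    obtain ⟨⟨hhM, hhn⟩, hhz⟩ := id hh
    set u := h⁻¹ * g with hu
    have hcomm : ∀ x ∈ Spor.M22, u * x = x * u := by
      intro x hx
      rw [hu]
      calc h⁻¹ * g * x = h⁻¹ * (g * x * g⁻¹) * g := by simp [mul_assoc]
        _ = x * (h⁻¹ * g) := by rw [hc x hx]; simp [mul_assoc]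
    have hun : u none = some 0 := by
      rw [hu, Equiv.Perm.mul_apply, h₁, Equiv.Perm.coe_inv, Equiv.symm_apply_eq]
      exact hhz.symm
    have huz : u (some 0) = none := by
      rw [hu, Equiv.Perm.mul_apply, h₂, Equiv.Perm.coe_inv, Equiv.symm_apply_eq]
      exact hhn.symm
    have hfix : ∀ p : GolayPt, p ≠ none → p ≠ some 0 → u p = p := by
      intro p hp hp'
      by_contra hne
      have hpu : u p ≠ none ∧ u p ≠ some 0 :=
        ⟨fun e => hp' (u.injective (e.trans huz.symm)), fun e => hp (u.injective (e.trans hun.symm))⟩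
      obtain ⟨r, hr1, hr2, hr3, hr4⟩ := other p (u p)
      have hmem : ∀ q : GolayPt, q ≠ none → q ≠ some 0 → q ∈ pts22 := fun q h1 h2 => by
        simp [pts22, pts23, base_pts.1, base_pts.2, h1, h2]
      obtain ⟨x, hx, hx1, hx2⟩ := chain2_twoTrans.2 p (hmem p hp hp') (u p) (hmem _ hpu.1 hpu.2)
        (Ne.symm hne) p (hmem p hp hp') r (hmem r hr3 hr4) (Ne.symm hr1)
      have : u (x p) = x (u p) := Equiv.Perm.congr_fun (hcomm x (by rw [M22_chain]; exact hx)) p
      rw [hx1, hx2] at this
      exact hr2 this.symm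
    have hswap : u = Equiv.swap none (some 0) := by
      ext1 p
      by_cases hp : p = none
      · subst hp; rw [hun, Equiv.swap_apply_left]
      by_cases hp' : p = some 0
      · subst hp'; rw [huz, Equiv.swap_apply_right]
      rw [hfix p hp hp', Equiv.swap_apply_of_ne_of_ne hp hp']
    refine swap_bad (pullMask_mem (σ := u) (mul_mem (inv_mem hhM) hg) ?_)
    rw [hswap]; exact swap_fn

end Cfsg.Agent.S5599
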