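import Cfsg.Statements.S5600
import Cfsg.Agent.Lib.Golay.ChainFive

set_option autoImplicit false
open scoped Pointwise
open Cfsg

namespace Cfsg.Agent.S5600

open Cfsg.Agent.Golay
open scoped Pointwise


/-- Although the group of the length-24 code is only 5-transitive on the 24 points, it induces the full symmetric group on every 6-element subset: every permutation of a 6-set E is the restriction of an element of the group mapping E to itself. The pointwise stabiliser of E has order 16 when E lies in an octad and order 3 otherwise; in the latter case the setwise stabiliser of E has order 2160. -/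
theorem result (E : Finset Cfsg.GolayPt) (hE : E.card = 6) : (∀ σ : Equiv.Perm ↥E, ∃ g ∈ Cfsg.M24, ∀ p : ↥E, g p = σ p) ∧ ((∃ o ∈ Cfsg.octads, E ⊆ o) → Nat.card {g : Equiv.Perm Cfsg.GolayPt // g ∈ Cfsg.M24 ∧ ∀ p ∈ E, g p = p} = 16) ∧ ((¬ ∃ o ∈ Cfsg.octads, E ⊆ o) → Nat.card {g : Equiv.Perm Cfsg.GolayPt // g ∈ Cfsg.M24 ∧ ∀ p ∈ E, g p = p} = 3 ∧ Nat.card ↥(MulAction.stabilizer Cfsg.M24 E) = 2160) := by
  classical
  let e := E.equivFinOfCardEq hE
  let x : Fin 6 ↪ Cfsg.GolayPt := e.symm.toEmbedding.trans (Function.Embedding.subtype _)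
  have hx : ∀ p, p ∈ E ↔ ∃ i, x i = p := by
    intro p
    constructor
    · exact fun hp => ⟨e ⟨p, hp⟩, by simp [x]⟩
    · rintro ⟨i, rfl⟩; exact (e.symm i).2
  have hoct : (∃ o ∈ Cfsg.octads, E ⊆ o) ↔ ∃ o ∈ Cfsg.octads, ∀ i, x i ∈ o := by
    constructor
    · rintro ⟨o, ho, h⟩; exact ⟨o, ho, fun i => h (e.symm i).2⟩
    · rintro ⟨o, ho, h⟩
      exact ⟨o, ho, fun p hp => by obtain ⟨i, rfl⟩ := (hx p).mp hp; exact h i⟩
  have hperm : ∀ σ : Equiv.Perm ↥E, ∃ g ∈ Cfsg.M24, ∀ p : ↥E, g p = σ p := by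
    intro σ
    obtain ⟨g, hg, h⟩ := six_transport x
      ((e.symm.trans σ).toEmbedding.trans (Function.Embedding.subtype _)) (by
        rw [← hoct]
        constructor
        · rintro ⟨o, ho, h⟩; exact ⟨o, ho, fun i => h (σ (e.symm i)).2⟩
        · rintro ⟨o, ho, h⟩
          refine ⟨o, ho, fun p hp => ?_⟩
          have := h (e (σ.symm ⟨p, hp⟩))
          simpa using this)
    refine ⟨g, hg, fun p => ?_⟩
    have := h (e p)
    simpa [x] using this
  obtain ⟨b, τ, hτ, hc⟩ := exists_canon x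
  have hb : (∃ o ∈ Cfsg.octads, E ⊆ o) ↔ b = true := by
    rw [hoct, ← canon_octad_iff]
    simp only [← hc]
    exact smul_octad_iff hτ _
  have hcard : Nat.card {g : Equiv.Perm Cfsg.GolayPt // g ∈ Cfsg.M24 ∧ ∀ p ∈ E, g p = p} =
      if b then 16 else 3 := by
    rw [← card_fix_canon b]
    have hiff : ∀ g, (g ∈ Cfsg.M24 ∧ ∀ p ∈ E, g p = p) ↔
        (τ⁻¹ * g * τ ∈ Cfsg.M24 ∧ ∀ i, (τ⁻¹ * g * τ) (canon b i) = canon b i) := by
      intro g
      refine and_congr ⟨fun h => mul_mem (mul_mem (inv_mem hτ) h) hτ, fun h => ?_⟩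
        ⟨fun h i => ?_, fun h p hp => ?_⟩
      · have := mul_mem (mul_mem hτ h) (inv_mem hτ)
        simpa [mul_assoc] using this
      · rw [Equiv.Perm.mul_apply, Equiv.Perm.mul_apply, hc, h _ ((hx _).mpr ⟨i, rfl⟩),
          Equiv.Perm.coe_inv, ← hc i, Equiv.symm_apply_apply]
      · obtain ⟨i, rfl⟩ := (hx p).mp hp
        have := h i
        rw [Equiv.Perm.mul_apply, Equiv.Perm.mul_apply, hc, Equiv.Perm.coe_inv, Equiv.symm_apply_eq, hc] at this
        exact this
    exact Nat.card_congr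
      { toFun := fun g => ⟨τ⁻¹ * g.1 * τ, (hiff g.1).mp g.2⟩
        invFun := fun h => ⟨τ * h.1 * τ⁻¹, (hiff _).mpr (by simpa [mul_assoc] using h.2)⟩
        left_inv := fun g => by simp [mul_assoc]
        right_inv := fun h => by simp [mul_assoc] }
  refine ⟨hperm, fun h => by rw [hcard, hb.mp h]; rfl, fun h => ?_⟩
  have hb0 : b = false := by simpa using mt hb.mpr h
  simp only [hb0, Bool.false_eq_true, if_false] at hcard
  refine ⟨hcard, ?_⟩
  let S := MulAction.stabilizer Cfsg.M24 E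
  have hmem : ∀ (g : S) (p : Cfsg.GolayPt), p ∈ E ↔ ((g : Cfsg.M24) : Equiv.Perm Cfsg.GolayPt) p ∈ E := by
    intro g p
    have hg : ((g : Cfsg.M24) : Equiv.Perm Cfsg.GolayPt) • E = E := g.2
    conv_rhs => rw [← hg]
    exact (Finset.smul_mem_smul_finset_iff _).symm
  let φ : S →* Equiv.Perm ↥E :=
    { toFun := fun g => Equiv.subtypeEquiv ((g : Cfsg.M24) : Equiv.Perm Cfsg.GolayPt) (hmem g)
      map_one' := by ext p; rfl
      map_mul' := fun g k => by ext p; rfl }
  have hsurj : Function.Surjective φ := by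
    intro σ
    obtain ⟨g, hg, h'⟩ := hperm σ
    have hfix : g • E = E := by
      refine Finset.eq_of_subset_of_card_le (fun p hp => ?_) (Finset.card_smul_finset g E).ge
      obtain ⟨q, hq, rfl⟩ := Finset.mem_smul_finset.mp hp
      rw [Equiv.Perm.smul_def, h' ⟨q, hq⟩]; exact (σ ⟨q, hq⟩).2
    exact ⟨⟨⟨g, hg⟩, hfix⟩, Equiv.ext fun p => Subtype.ext (h' p)⟩
  have hker : Nat.card φ.ker = 3 := by
    rw [← hcard]
    refine Nat.card_congr (Equiv.ofBijective (fun g => ⟨((g.1 : Cfsg.M24) : Equiv.Perm Cfsg.GolayPt),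
      ((g.1 : Cfsg.M24)).2, fun p hp => congrArg Subtype.val (Equiv.ext_iff.mp g.2 ⟨p, hp⟩)⟩)
      ⟨fun a a' h => by apply Subtype.ext; apply Subtype.ext; apply Subtype.ext; simpa using h, fun g => ?_⟩)
    have hfix : g.1 • E = E := by
      refine Finset.eq_of_subset_of_card_le (fun p hp => ?_) (Finset.card_smul_finset g.1 E).ge
      obtain ⟨q, hq, rfl⟩ := Finset.mem_smul_finset.mp hp
      rw [Equiv.Perm.smul_def, g.2.2 q hq]; exact hq
    exact ⟨⟨⟨⟨g.1, g.2.1⟩, hfix⟩, Equiv.ext fun p => Subtype.ext (g.2.2 p p.2)⟩, rfl⟩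
  show Nat.card S = 2160
  rw [← Subgroup.index_mul_card φ.ker, Subgroup.index_ker, MonoidHom.range_eq_top.mpr hsurj,
    Subgroup.card_top, hker, Nat.card_perm, Nat.card_eq_fintype_card, Fintype.card_coe, hE]
  rfl

end Cfsg.Agent.S5600
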