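import Cfsg.Statements.S5601
import Cfsg.Agent.Lib.Golay.FixedBlocks

set_option autoImplicit false
open scoped Pointwise
open Cfsg

namespace Cfsg.Agent.S5601

open Cfsg.Agent.Golay

theorem fixed_eq (x : ↥M24) :
    {p : GolayPt | ∀ z ∈ Subgroup.zpowers x, ((z : ↥M24) : Equiv.Perm GolayPt) p = p}.ncard = fcount x.1 := by
  have e : {p : GolayPt | ∀ z ∈ Subgroup.zpowers x, ((z : ↥M24) : Equiv.Perm GolayPt) p = p} =
      ↑(Finset.univ.filter fun p => x.1 p = p) := by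
    ext p
    simp only [Finset.coe_filter, Finset.mem_univ, true_and, Set.mem_ofPred_eq]
    refine ⟨fun h => h x (Subgroup.mem_zpowers x), fun h z hz => ?_⟩
    obtain ⟨k, rfl⟩ := Subgroup.mem_zpowers_iff.mp hz
    rw [SubgroupClass.coe_zpow]
    exact Equiv.Perm.zpow_apply_eq_self_of_apply_eq_self h k
  rw [e, Set.ncard_coe_finset, fcount]

theorem gen {X : Subgroup ↥M24} (hX : Nat.card X = 3) :
    ∃ x : ↥M24, Subgroup.zpowers x = X ∧ orderOf x.1 = 3 ∧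
      {p : GolayPt | ∀ z ∈ X, ((z : ↥M24) : Equiv.Perm GolayPt) p = p}.ncard = fcount x.1 := by
  have : Fact (Nat.Prime 3) := ⟨Nat.prime_three⟩
  have : IsCyclic X := isCyclic_of_prime_card hX
  obtain ⟨g, hg⟩ := IsCyclic.exists_generator (α := X)
  have e : Subgroup.zpowers g.1 = X := by
    refine le_antisymm (Subgroup.zpowers_le.mpr g.2) fun z hz => ?_
    obtain ⟨k, hk⟩ := Subgroup.mem_zpowers_iff.mp (hg ⟨z, hz⟩)
    exact Subgroup.mem_zpowers_iff.mpr ⟨k, by rw [← SubgroupClass.coe_zpow, hk]⟩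
  refine ⟨g.1, e, ?_, ?_⟩
  swap
  · generalize hy : g.1 = y at e ⊢
    subst e
    exact fixed_eq y
  rw [Subgroup.orderOf_coe, ← Nat.card_zpowers, e, hX]

theorem ex {r : Equiv.Perm GolayPt} (hr : r ∈ M24) (h3 : orderOf r = 3) :
    ∃ X : Subgroup ↥M24, Nat.card X = 3 ∧
      {p : GolayPt | ∀ z ∈ X, ((z : ↥M24) : Equiv.Perm GolayPt) p = p}.ncard = fcount r :=
  ⟨Subgroup.zpowers ⟨r, hr⟩, by rw [Nat.card_zpowers, ← Subgroup.orderOf_coe]; exact h3, fixed_eq ⟨r, hr⟩⟩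

/-- The group of the length-24 code has exactly two conjugacy classes of subgroups of order 3: a subgroup of order 3 fixes either exactly 6 of the 24 points or none of them, both cases occur, and two subgroups of order 3 with the same number of fixed points are conjugate. -/
theorem result : (∀ X : Subgroup ↥Cfsg.M24, Nat.card X = 3 → {p : Cfsg.GolayPt | ∀ x ∈ X, ((x : ↥Cfsg.M24) : Equiv.Perm Cfsg.GolayPt) p = p}.ncard = 6 ∨ {p : Cfsg.GolayPt | ∀ x ∈ X, ((x : ↥Cfsg.M24) : Equiv.Perm Cfsg.GolayPt) p = p}.ncard = 0) ∧ (∃ X : Subgroup ↥Cfsg.M24, Nat.card X = 3 ∧ {p : Cfsg.GolayPt | ∀ x ∈ X, ((x : ↥Cfsg.M24) : Equiv.Perm Cfsg.GolayPt) p = p}.ncard = 6) ∧ (∃ X : Subgroup ↥Cfsg.M24, Nat.card X = 3 ∧ {p : Cfsg.GolayPt | ∀ x ∈ X, ((x : ↥Cfsg.M24) : Equiv.Perm Cfsg.GolayPt) p = p}.ncard = 0) ∧ ∀ X Y : Subgroup ↥Cfsg.M24, Nat.card X = 3 → Nat.card Y = 3 → {p : Cfsg.GolayPt | ∀ x ∈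 X, ((x : ↥Cfsg.M24) : Equiv.Perm Cfsg.GolayPt) p = p}.ncard = {p : Cfsg.GolayPt | ∀ x ∈ Y, ((x : ↥Cfsg.M24) : Equiv.Perm Cfsg.GolayPt) p = p}.ncard → ∃ k : ↥Cfsg.M24, MulAut.conj k • X = Y := by
  refine ⟨fun X hX => ?_, ?_, ?_, fun X Y hX hY hXY => ?_⟩
  · obtain ⟨x, -, hx, hn⟩ := gen hX
    rw [hn]
    rcases class_three_of_fcount x.2 hx with ⟨h, -⟩ | ⟨h, -⟩ <;> simp [h]
  · obtain ⟨X, hX, h⟩ := ex triA_order.1 triA_order.2
    exact ⟨X, hX, h.trans reps_fcount.2.2.1⟩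
  · obtain ⟨X, hX, h⟩ := ex triB_order.1 triB_order.2
    exact ⟨X, hX, h.trans reps_fcount.2.2.2⟩
  · obtain ⟨x, ex', hx, hnx⟩ := gen hX
    obtain ⟨y, ey', hy, hny⟩ := gen hY
    rw [hnx, hny] at hXY
    rcases class_three_of_fcount x.2 hx with ⟨a, σ, hσ, e⟩ | ⟨a, σ, hσ, e⟩ <;>
      rcases class_three_of_fcount y.2 hy with ⟨b, τ, hτ, e'⟩ | ⟨b, τ, hτ, e'⟩
    all_goals first
      | omega
      | refine ⟨⟨τ⁻¹ * σ, mul_mem (inv_mem hτ) hσ⟩, ?_⟩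
        rw [← ex', ← ey', Subgroup.pointwise_smul_def]
        refine (MonoidHom.map_zpowers _ _).trans (congrArg Subgroup.zpowers ?_)
        apply Subtype.ext
        rw [← e'] at e
        show τ⁻¹ * σ * x.1 * (τ⁻¹ * σ)⁻¹ = y.1
        calc τ⁻¹ * σ * x.1 * (τ⁻¹ * σ)⁻¹ = τ⁻¹ * (σ * x.1 * σ⁻¹) * τ := by group
          _ = y.1 := by rw [e]; group

end Cfsg.Agent.S5601
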