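import Cfsg.Statements.S5605
import Cfsg.Agent.Lib.Golay.FixedBlocks

set_option autoImplicit false
open scoped Pointwise
open Cfsg

namespace Cfsg.Agent.S5605

open Cfsg.Agent.Golay

/-- An involution of the group of the length-24 code with exactly 8 fixed points maps to themselves exactly 71 octads, exactly 99 trios and exactly 91 sextets. -/
theorem result (g : Equiv.Perm Cfsg.GolayPt) (hg : g ∈ Cfsg.M24) (h₂ : orderOf g = 2) (h₈ : (Finset.univ.filter fun p => g p = p).card = 8) : {o : Finset Cfsg.GolayPt | o ∈ Cfsg.octads ∧ g • o = o}.ncard = 71 ∧ {T : Finset (Finset Cfsg.GolayPt) | T ∈ Cfsg.trios ∧ g • T = T}.ncard = 99 ∧ {S : Finset (Finset Cfsg.GolayPt) | S ∈ Cfsg.sextets ∧ g • S = S}.ncard = 91 := by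
  obtain ⟨⟨hT, -⟩, -⟩ := reps2_mem invA (by simp)
  have hc : fcount g = 8 := h₈
  obtain ⟨σ, hσ, e⟩ : ∃ σ ∈ M24, σ * g * σ⁻¹ = tperm invA := by
    rcases class_two_of_fcount hg h₂ with ⟨a, h⟩ | ⟨a, h⟩
    all_goals first | exact h | omega
  exact ⟨(ncard_inv_transport (fun σ hσ x hx => smul_mem_weight hσ hx) hσ e).trans (ncard_inv_masks hT 8 71 (by decide +kernel)),
    (ncard_inv_transport (fun σ hσ x hx => smul_trios hσ hx) hσ e).trans (ncard_inv_trios hT (by decide +kernel)),
    (ncard_inv_transport (fun σ hσ x hx => smul_sextets hσ hx) hσ e).trans (ncard_inv_sextets hT (by decide +kernel))⟩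

end Cfsg.Agent.S5605
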