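import Cfsg.Statements.S5606
import Cfsg.Agent.Lib.Golay.FixedBlocks

set_option autoImplicit false
open scoped Pointwise
open Cfsg

namespace Cfsg.Agent.S5606

open Cfsg.Agent.Golay

/-- A fixed-point-free involution of the group of the length-24 code maps to themselves exactly 15 octads, exactly 75 trios and exactly 51 sextets. -/
theorem result (g : Equiv.Perm Cfsg.GolayPt) (hg : g ∈ Cfsg.M24) (h₂ : orderOf g = 2) (h₀ : ∀ p, g p ≠ p) : {o : Finset Cfsg.GolayPt | o ∈ Cfsg.octads ∧ g • o = o}.ncard = 15 ∧ {T : Finset (Finset Cfsg.GolayPt) | T ∈ Cfsg.trios ∧ g • T = T}.ncard = 75 ∧ {S : Finset (Finset Cfsg.GolayPt) | S ∈ Cfsg.sextets ∧ g • S = S}.ncard = 51 := by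
  obtain ⟨⟨hT, -⟩, -⟩ := reps2_mem invB (by simp)
  have hc : fcount g = 0 := (fpf_iff_fcount g).mp h₀
  obtain ⟨σ, hσ, e⟩ : ∃ σ ∈ M24, σ * g * σ⁻¹ = tperm invB := by
    rcases class_two_of_fcount hg h₂ with ⟨a, h⟩ | ⟨a, h⟩
    all_goals first | exact h | omega
  exact ⟨(ncard_inv_transport (fun σ hσ x hx => smul_mem_weight hσ hx) hσ e).trans (ncard_inv_masks hT 8 15 (by decide +kernel)),
    (ncard_inv_transport (fun σ hσ x hx => smul_trios hσ hx) hσ e).trans (ncard_inv_trios hT (by decide +kernel)),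
    (ncard_inv_transport (fun σ hσ x hx => smul_sextets hσ hx) hσ e).trans (ncard_inv_sextets hT (by decide +kernel))⟩

end Cfsg.Agent.S5606
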