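import Cfsg.Statements.S5607
import Cfsg.Agent.Lib.Golay.FixedBlocks

set_option autoImplicit false
open scoped Pointwise
open Cfsg

namespace Cfsg.Agent.S5607

open Cfsg.Agent.Golay

/-- the sextet -/
def cenSextet : List ℕ := [204832, 300032, 1051392, 2621446, 4210712, 8388801]

/-- transversal -/
def cenA : List Tab := [([0, 1, 2, 3, 4, 5, 6, 7, 8, 9, 10, 11, 12, 13, 14, 15, 16, 17, 18, 19, 20, 21, 22, 23], [0, 1, 2, 3, 4, 5, 6, 7, 8, 9, 10, 11, 12, 13, 14, 15, 16, 17, 18, 19, 20, 21, 22, 23]),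
  ([1, 0, 23, 3, 4, 5, 21, 19, 18, 15, 20, 12, 11, 13, 14, 9, 16, 17, 8, 7, 10, 6, 22, 2], [1, 0, 23, 3, 4, 5, 21, 19, 18, 15, 20, 12, 11, 13, 14, 9, 16, 17, 8, 7, 10, 6, 22, 2]),
  ([2, 0, 23, 3, 4, 17, 19, 21, 15, 18, 8, 10, 9, 16, 14, 11, 13, 5, 20, 7, 12, 6, 22, 1], [1, 23, 0, 3, 4, 17, 21, 19, 10, 12, 11, 15, 20, 16, 14, 8, 13, 5, 9, 6, 18, 7, 22, 2]),
  ([3, 0, 23, 1, 2, 11, 22, 14, 18, 15, 17, 12, 5, 8, 19, 16, 9, 20, 13, 7, 10, 6, 21, 4], [1, 3, 4, 0, 23, 12, 21, 19, 13, 16, 20, 5, 11, 18, 7, 9, 15, 10, 8, 14, 17, 22, 6, 2]),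
  ([4, 0, 23, 1, 2, 20, 14, 22, 15, 18, 13, 10, 16, 9, 19, 5, 8, 11, 17, 7, 12, 6, 21, 3], [1, 3, 4, 23, 0, 15, 21, 19, 16, 13, 11, 17, 20, 10, 6, 8, 12, 18, 9, 14, 5, 22, 7, 2]),
  ([5, 0, 23, 1, 2, 12, 13, 17, 8, 9, 14, 11, 3, 18, 19, 4, 15, 10, 22, 7, 20, 6, 21, 16], [1, 3, 4, 12, 15, 0, 21, 19, 8, 9, 17, 11, 5, 6, 10, 16, 23, 7, 13, 14, 20, 22, 18, 2]),
  ([6, 1, 2, 3, 4, 16, 0, 23, 20, 11, 15, 9, 18, 17, 14, 10, 5, 13, 12, 19, 8, 21, 22, 7], [6, 1, 2, 3, 4, 16, 0, 23, 20, 11, 15, 9, 18, 17, 14, 10, 5, 13, 12, 19, 8, 21, 22, 7]),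
  ([7, 1, 2, 3, 4, 13, 23, 0, 11, 20, 12, 8, 10, 5, 14, 18, 17, 16, 15, 19, 9, 21, 22, 6], [7, 1, 2, 3, 4, 13, 23, 0, 11, 20, 12, 8, 10, 5, 14, 18, 17, 16, 15, 19, 9, 21, 22, 6]),
  ([8, 0, 23, 1, 2, 17, 9, 11, 3, 22, 12, 14, 18, 5, 21, 10, 13, 16, 15, 6, 4, 7, 19, 20], [1, 3, 4, 8, 20, 13, 19, 21, 0, 6, 15, 7, 10, 16, 11, 18, 17, 5, 12, 22, 23, 14, 9, 2]),
  ([9, 0, 23, 1, 2, 13, 8, 20, 4, 14, 10, 22, 15, 16, 21, 12, 17, 5, 18, 6, 3, 7, 19, 11], [1, 3, 4, 20, 8, 17, 19, 21, 6, 0, 10, 23, 15, 5, 9, 12, 13, 16, 18, 22, 7, 14, 11, 2]),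
  ([10, 0, 23, 1, 2, 4, 12, 15, 13, 5, 9, 16, 20, 22, 21, 8, 3, 14, 11, 6, 17, 7, 19, 18], [1, 3, 4, 16, 5, 9, 19, 21, 15, 10, 0, 18, 6, 8, 17, 7, 11, 20, 23, 22, 12, 14, 13, 2]),
  ([11, 0, 23, 1, 2, 5, 20, 8, 14, 4, 18, 3, 12, 17, 21, 15, 16, 13, 10, 6, 22, 7, 19, 9], [1, 3, 4, 11, 9, 5, 19, 21, 7, 23, 18, 0, 12, 17, 8, 15, 16, 13, 10, 22, 6, 14, 20, 2]),
  ([12, 0, 23, 1, 2, 3, 10, 18, 17, 16, 8, 5, 11, 14, 21, 9, 4, 22, 20, 6, 13, 7, 19, 15], [1, 3, 4, 5, 16, 11, 19, 21, 10, 15, 6, 12, 0, 20, 13, 23, 9, 8, 7, 22, 18, 14, 17, 2]),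
  ([13, 0, 23, 1, 2, 15, 5, 16, 20, 11, 4, 9, 22, 10, 19, 14, 12, 18, 3, 7, 8, 6, 21, 17], [1, 3, 4, 18, 10, 6, 21, 19, 20, 11, 13, 9, 16, 0, 15, 5, 7, 23, 17, 14, 8, 22, 12, 2]),
  ([14, 0, 23, 1, 2, 8, 4, 3, 12, 10, 5, 18, 17, 11, 19, 13, 20, 9, 16, 7, 15, 6, 21, 22], [1, 3, 4, 7, 6, 10, 21, 19, 5, 17, 9, 13, 8, 15, 0, 20, 18, 12, 11, 14, 16, 22, 23, 2]),
  ([15, 0, 23, 1, 2, 22, 18, 10, 16, 17, 20, 13, 9, 4, 21, 11, 14, 3, 8, 6, 5, 7, 19, 12], [1, 3, 4, 17, 13, 20, 19, 21, 18, 12, 7, 15, 23, 11, 16, 0, 8, 9, 6, 22, 10, 14, 5, 2]),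
  ([16, 0, 23, 1, 2, 10, 17, 13, 9, 8, 22, 20, 4, 15, 19, 3, 18, 12, 14, 7, 11, 6, 21, 5], [1, 3, 4, 15, 12, 23, 21, 19, 9, 8, 5, 20, 17, 7, 18, 13, 0, 6, 16, 14, 11, 22, 10, 2]),
  ([17, 0, 23, 1, 2, 18, 16, 5, 11, 20, 3, 8, 14, 12, 19, 22, 10, 15, 4, 7, 9, 6, 21, 13], [1, 3, 4, 10, 18, 7, 21, 19, 11, 20, 16, 8, 13, 23, 12, 17, 6, 0, 5, 14, 9, 22, 15, 2]),
  ([18, 0, 23, 1, 2, 14, 15, 12, 5, 13, 11, 17, 8, 3, 21, 20, 22, 4, 9, 6, 16, 7, 19, 10], [1, 3, 4, 13, 17, 8, 19, 21, 12, 18, 23, 10, 7, 9, 5, 6, 20, 11, 0, 22, 15, 14, 16, 2]),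
  ([19, 0, 23, 3, 4, 13, 2, 1, 12, 10, 11, 18, 20, 5, 14, 8, 17, 16, 9, 7, 15, 6, 22, 21], [1, 7, 6, 3, 4, 13, 21, 19, 15, 18, 9, 10, 8, 5, 14, 20, 17, 16, 11, 0, 12, 23, 22, 2]),
  ([20, 0, 23, 1, 2, 16, 11, 9, 22, 3, 15, 4, 10, 13, 21, 18, 5, 17, 12, 6, 14, 7, 19, 8], [1, 3, 4, 9, 11, 16, 19, 21, 23, 7, 12, 6, 18, 13, 20, 10, 5, 17, 15, 22, 0, 14, 8, 2]),
  ([21, 0, 23, 3, 4, 16, 1, 2, 10, 12, 9, 15, 8, 17, 14, 20, 5, 13, 11, 7, 18, 6, 22, 19], [1, 6, 7, 3, 4, 16, 21, 19, 12, 10, 8, 18, 9, 17, 14, 11, 5, 13, 20, 23, 15, 0, 22, 2]),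
  ([22, 0, 23, 1, 2, 9, 3, 4, 10, 12, 16, 15, 13, 20, 19, 17, 11, 8, 5, 7, 18, 6, 21, 14], [1, 3, 4, 6, 7, 18, 21, 19, 17, 5, 8, 16, 9, 12, 23, 11, 10, 15, 20, 14, 13, 22, 0, 2]),
  ([23, 1, 2, 3, 4, 17, 7, 6, 9, 8, 18, 20, 15, 16, 14, 12, 13, 5, 10, 19, 11, 21, 22, 0], [23, 1, 2, 3, 4, 17, 7, 6, 9, 8, 18, 20, 15, 16, 14, 12, 13, 5, 10, 19, 11, 21, 22, 0])]

/-- transversal -/
def cenB : List Tab := [([0, 1, 2, 3, 4, 5, 6, 7, 8, 9, 10, 11, 12, 13, 14, 15, 16, 17, 18, 19, 20, 21, 22, 23], [0, 1, 2, 3, 4, 5, 6, 7, 8, 9, 10, 11, 12, 13, 14, 15, 16, 17, 18, 19, 20, 21, 22, 23]),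
  ([0, 2, 1, 3, 4, 17, 6, 7, 20, 11, 12, 9, 10, 16, 14, 18, 13, 5, 15, 21, 8, 19, 22, 23], [0, 2, 1, 3, 4, 17, 6, 7, 20, 11, 12, 9, 10, 16, 14, 18, 13, 5, 15, 21, 8, 19, 22, 23]),
  ([0, 3, 4, 1, 2, 11, 6, 7, 13, 16, 10, 5, 12, 8, 19, 15, 9, 20, 18, 14, 17, 22, 21, 23], [0, 3, 4, 1, 2, 11, 6, 7, 13, 16, 10, 5, 12, 8, 19, 15, 9, 20, 18, 14, 17, 22, 21, 23]),
  ([0, 4, 3, 1, 2, 20, 6, 7, 17, 5, 12, 16, 10, 9, 19, 18, 8, 11, 15, 22, 13, 14, 21, 23], [0, 3, 4, 2, 1, 9, 6, 7, 16, 13, 12, 17, 10, 20, 21, 18, 11, 8, 15, 14, 5, 22, 19, 23]),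
  ([0, 5, 16, 1, 2, 12, 6, 7, 22, 4, 20, 3, 11, 18, 19, 9, 15, 10, 8, 17, 14, 13, 21, 23], [0, 3, 4, 11, 9, 1, 6, 7, 18, 15, 17, 12, 5, 21, 20, 16, 2, 19, 13, 14, 10, 22, 8, 23]),
  ([0, 8, 20, 1, 2, 17, 7, 6, 15, 10, 4, 18, 14, 5, 21, 22, 13, 16, 3, 11, 12, 9, 19, 23], [0, 3, 4, 18, 10, 13, 7, 6, 1, 21, 9, 19, 20, 16, 12, 8, 17, 5, 11, 22, 2, 14, 15, 23]),
  ([0, 9, 11, 1, 2, 13, 7, 6, 18, 12, 3, 15, 22, 16, 21, 14, 17, 5, 4, 20, 10, 8, 19, 23], [0, 3, 4, 10, 18, 17, 7, 6, 21, 1, 20, 2, 9, 5, 15, 11, 13, 16, 8, 22, 19, 14, 12, 23]),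
  ([0, 10, 18, 1, 2, 4, 7, 6, 11, 8, 17, 20, 16, 22, 21, 5, 3, 14, 13, 15, 9, 12, 19, 23], [0, 3, 4, 16, 5, 15, 7, 6, 9, 20, 1, 8, 21, 18, 17, 19, 12, 10, 2, 22, 11, 14, 13, 23]),
  ([0, 11, 9, 1, 2, 5, 7, 6, 10, 15, 22, 12, 3, 17, 21, 4, 16, 13, 14, 8, 18, 20, 19, 23], [0, 3, 4, 12, 15, 5, 7, 6, 19, 2, 8, 1, 11, 17, 18, 9, 16, 13, 20, 22, 21, 14, 10, 23]),
  ([0, 12, 15, 1, 2, 3, 7, 6, 20, 9, 13, 11, 5, 14, 21, 16, 4, 22, 17, 18, 8, 10, 19, 23], [0, 3, 4, 5, 16, 12, 7, 6, 20, 9, 21, 11, 1, 10, 13, 2, 15, 18, 19, 22, 8, 14, 17, 23]),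
  ([0, 13, 17, 1, 2, 15, 6, 7, 3, 14, 8, 22, 9, 10, 19, 11, 12, 18, 20, 16, 4, 5, 21, 23], [0, 3, 4, 8, 20, 21, 6, 7, 10, 12, 13, 15, 16, 1, 9, 5, 19, 2, 17, 14, 18, 22, 11, 23]),
  ([0, 14, 22, 1, 2, 8, 6, 7, 16, 13, 15, 17, 18, 11, 19, 10, 20, 9, 12, 3, 5, 4, 21, 23], [0, 3, 4, 19, 21, 20, 6, 7, 5, 17, 15, 13, 18, 9, 1, 10, 8, 11, 12, 14, 16, 22, 2, 23]),
  ([0, 15, 12, 1, 2, 22, 7, 6, 8, 11, 5, 9, 13, 4, 21, 17, 14, 3, 16, 10, 20, 18, 19, 23], [0, 3, 4, 17, 13, 10, 7, 6, 8, 11, 19, 9, 2, 12, 16, 1, 18, 15, 21, 22, 20, 14, 5, 23]),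
  ([0, 16, 5, 1, 2, 10, 6, 7, 14, 3, 11, 4, 20, 15, 19, 8, 18, 12, 9, 13, 22, 17, 21, 23], [0, 3, 4, 9, 11, 2, 6, 7, 15, 18, 5, 10, 17, 19, 8, 13, 1, 21, 16, 14, 12, 22, 20, 23]),
  ([0, 17, 13, 1, 2, 18, 6, 7, 4, 22, 9, 14, 8, 12, 19, 20, 10, 15, 11, 5, 3, 16, 21, 23], [0, 3, 4, 20, 8, 19, 6, 7, 12, 10, 16, 18, 13, 2, 11, 17, 21, 1, 5, 14, 15, 22, 9, 23]),
  ([0, 18, 10, 1, 2, 14, 7, 6, 9, 20, 16, 8, 17, 3, 21, 13, 22, 4, 5, 12, 11, 15, 19, 23], [0, 3, 4, 13, 17, 18, 7, 6, 11, 8, 2, 20, 19, 15, 5, 21, 10, 12, 1, 22, 9, 14, 16, 23]),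
  ([0, 19, 21, 3, 4, 13, 6, 7, 9, 8, 15, 20, 18, 5, 14, 10, 17, 16, 12, 1, 11, 2, 22, 23], [0, 19, 21, 3, 4, 13, 6, 7, 9, 8, 15, 20, 18, 5, 14, 10, 17, 16, 12, 1, 11, 2, 22, 23]),
  ([0, 20, 8, 1, 2, 16, 7, 6, 12, 18, 14, 10, 4, 13, 21, 3, 5, 17, 22, 9, 15, 11, 19, 23], [0, 3, 4, 15, 12, 16, 7, 6, 2, 19, 11, 21, 8, 13, 10, 20, 5, 17, 9, 22, 1, 14, 18, 23]),
  ([0, 21, 19, 3, 4, 16, 6, 7, 11, 20, 18, 8, 15, 17, 14, 12, 5, 13, 10, 2, 9, 1, 22, 23], [0, 21, 19, 3, 4, 16, 6, 7, 11, 20, 18, 8, 15, 17, 14, 12, 5, 13, 10, 2, 9, 1, 22, 23]),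
  ([0, 22, 14, 1, 2, 9, 6, 7, 5, 17, 18, 13, 15, 20, 19, 12, 11, 8, 10, 4, 16, 3, 21, 23], [0, 3, 4, 21, 19, 8, 6, 7, 17, 5, 18, 16, 15, 11, 2, 12, 20, 9, 10, 14, 13, 22, 1, 23])]

/-- transversal -/
def cenD : List Tab := [([0, 1, 2, 3, 4, 5, 6, 7, 8, 9, 10, 11, 12, 13, 14, 15, 16, 17, 18, 19, 20, 21, 22, 23], [0, 1, 2, 3, 4, 5, 6, 7, 8, 9, 10, 11, 12, 13, 14, 15, 16, 17, 18, 19, 20, 21, 22, 23]),
  ([0, 1, 2, 4, 3, 16, 6, 7, 9, 8, 12, 20, 10, 17, 22, 18, 5, 13, 15, 19, 11, 21, 14, 23], [0, 1, 2, 4, 3, 16, 6, 7, 9, 8, 12, 20, 10, 17, 22, 18, 5, 13, 15, 19, 11, 21, 14, 23]),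
  ([0, 1, 2, 5, 16, 3, 6, 7, 18, 15, 20, 12, 11, 22, 17, 9, 4, 14, 8, 19, 10, 21, 13, 23], [0, 1, 2, 5, 16, 3, 6, 7, 18, 15, 20, 12, 11, 22, 17, 9, 4, 14, 8, 19, 10, 21, 13, 23]),
  ([0, 1, 2, 8, 20, 18, 7, 6, 5, 13, 4, 17, 14, 15, 11, 22, 10, 12, 3, 21, 16, 19, 9, 23], [0, 1, 2, 18, 10, 8, 7, 6, 3, 22, 16, 14, 17, 9, 12, 13, 20, 11, 5, 21, 4, 19, 15, 23]),
  ([0, 1, 2, 9, 11, 15, 7, 6, 16, 17, 3, 13, 22, 18, 20, 14, 12, 10, 4, 21, 5, 19, 8, 23], [0, 1, 2, 10, 18, 20, 7, 6, 22, 3, 17, 4, 16, 11, 15, 5, 8, 9, 13, 21, 14, 19, 12, 23]),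
  ([0, 1, 2, 10, 18, 20, 7, 6, 22, 3, 17, 4, 16, 11, 15, 5, 8, 9, 13, 21, 14, 19, 12, 23], [0, 1, 2, 9, 11, 15, 7, 6, 16, 17, 3, 13, 22, 18, 20, 14, 12, 10, 4, 21, 5, 19, 8, 23]),
  ([0, 1, 2, 11, 9, 12, 7, 6, 17, 16, 22, 5, 3, 10, 8, 4, 15, 18, 14, 21, 13, 19, 20, 23], [0, 1, 2, 12, 15, 11, 7, 6, 14, 4, 13, 3, 5, 20, 18, 16, 9, 8, 17, 21, 22, 19, 10, 23]),
  ([0, 1, 2, 12, 15, 11, 7, 6, 14, 4, 13, 3, 5, 20, 18, 16, 9, 8, 17, 21, 22, 19, 10, 23], [0, 1, 2, 11, 9, 12, 7, 6, 17, 16, 22, 5, 3, 10, 8, 4, 15, 18, 14, 21, 13, 19, 20, 23]),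
  ([0, 1, 2, 13, 17, 22, 6, 7, 10, 12, 8, 15, 9, 3, 16, 11, 14, 4, 20, 19, 18, 21, 5, 23], [0, 1, 2, 13, 17, 22, 6, 7, 10, 12, 8, 15, 9, 3, 16, 11, 14, 4, 20, 19, 18, 21, 5, 23]),
  ([0, 1, 2, 14, 22, 17, 6, 7, 11, 20, 15, 8, 18, 16, 3, 10, 13, 5, 12, 19, 9, 21, 4, 23], [0, 1, 2, 14, 22, 17, 6, 7, 11, 20, 15, 8, 18, 16, 3, 10, 13, 5, 12, 19, 9, 21, 4, 23]),
  ([0, 1, 2, 15, 12, 9, 7, 6, 4, 14, 5, 22, 13, 8, 10, 17, 11, 20, 16, 21, 3, 19, 18, 23], [0, 1, 2, 20, 8, 10, 7, 6, 13, 5, 14, 16, 4, 12, 9, 3, 18, 15, 22, 21, 17, 19, 11, 23]),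
  ([0, 1, 2, 16, 5, 4, 6, 7, 15, 18, 11, 10, 20, 14, 13, 8, 3, 22, 9, 19, 12, 21, 17, 23], [0, 1, 2, 16, 5, 4, 6, 7, 15, 18, 11, 10, 20, 14, 13, 8, 3, 22, 9, 19, 12, 21, 17, 23]),
  ([0, 1, 2, 17, 13, 14, 6, 7, 12, 10, 9, 18, 8, 4, 5, 20, 22, 3, 11, 19, 15, 21, 16, 23], [0, 1, 2, 17, 13, 14, 6, 7, 12, 10, 9, 18, 8, 4, 5, 20, 22, 3, 11, 19, 15, 21, 16, 23]),
  ([0, 1, 2, 18, 10, 8, 7, 6, 3, 22, 16, 14, 17, 9, 12, 13, 20, 11, 5, 21, 4, 19, 15, 23], [0, 1, 2, 8, 20, 18, 7, 6, 5, 13, 4, 17, 14, 15, 11, 22, 10, 12, 3, 21, 16, 19, 9, 23]),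
  ([0, 1, 2, 20, 8, 10, 7, 6, 13, 5, 14, 16, 4, 12, 9, 3, 18, 15, 22, 21, 17, 19, 11, 23], [0, 1, 2, 15, 12, 9, 7, 6, 4, 14, 5, 22, 13, 8, 10, 17, 11, 20, 16, 21, 3, 19, 18, 23]),
  ([0, 1, 2, 22, 14, 13, 6, 7, 20, 11, 18, 9, 15, 5, 4, 12, 17, 16, 10, 19, 8, 21, 3, 23], [0, 1, 2, 22, 14, 13, 6, 7, 20, 11, 18, 9, 15, 5, 4, 12, 17, 16, 10, 19, 8, 21, 3, 23])]

theorem conj_mul (σ a b : Equiv.Perm GolayPt) : σ * a * σ⁻¹ * (σ * b * σ⁻¹) = σ * (a * b) * σ⁻¹ := by group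

theorem sextet_unique : (sextetList.filter fun l => l.all fun m => imgM invB m == m) = [cenSextet] := by
  decide +kernel

theorem cenSextet_in : cenSextet ∈ sextetList :=
  (List.mem_filter.mp (by rw [sextet_unique]; simp : cenSextet ∈ sextetList.filter _)).1

theorem cenSextet_mem : toFam cenSextet ∈ sextets := by
  rw [sextets_eq]; simp only [List.coe_toFinset, List.mem_map, Set.mem_ofPred_eq]
  exact ⟨_, cenSextet_in, rfl⟩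

theorem tet_fix {u : Finset GolayPt} (hu : u ∈ toFam cenSextet) : tperm invB • u = u := by
  obtain ⟨m, hm, rfl⟩ := toFam_mem.mp hu
  have h := (List.mem_filter.mp (by rw [sextet_unique]; simp : cenSextet ∈ sextetList.filter _)).2
  simp only [List.all_eq_true, beq_iff_eq] at h
  rw [supp_imgM (reps2_mem invB (by simp)).1.1, h m hm]

theorem t_fix : tperm invB • toFam cenSextet = toFam cenSextet := by
  refine Finset.eq_of_subset_of_card_le (fun s hs => ?_) (by rw [Finset.card_smul_finset])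
  obtain ⟨u, hu, rfl⟩ := Finset.mem_smul_finset.mp hs
  rw [tet_fix hu]; exact hu

theorem cen_fix {c : Equiv.Perm GolayPt} (hc : c ∈ M24) (hct : c * tperm invB = tperm invB * c) :
    c • toFam cenSextet = toFam cenSextet := by
  have h := smul_sextets hc cenSextet_mem
  rw [sextets_eq] at h
  simp only [List.coe_toFinset, List.mem_map, Set.mem_ofPred_eq] at h
  obtain ⟨l, hl, e⟩ := h
  have hok := sextetList_ok
  simp only [famsOK, Bool.and_eq_true, List.all_eq_true] at hok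
  have hlt : ∀ m ∈ l, m < 2 ^ 24 := by
    have := (hok.1 l hl).1
    simp only [famOK, Bool.and_eq_true, List.all_eq_true, decide_eq_true_eq] at this
    exact this.1
  have : l ∈ sextetList.filter fun l => l.all fun m => imgM invB m == m := by
    simp only [List.mem_filter, List.all_eq_true, beq_iff_eq]
    refine ⟨hl, fun m hm => ?_⟩
    obtain ⟨u, hu, hu'⟩ := Finset.mem_smul_finset.mp (e ▸ toFam_mem.mpr ⟨m, hm, rfl⟩ : supp m ∈ c • toFam cenSextet)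
    have hfix : tperm invB • supp m = supp m := by
      rw [← hu', ← mul_smul, ← hct, mul_smul, tet_fix hu]
    rw [supp_imgM (reps2_mem invB (by simp)).1.1] at hfix
    rw [← maskF_supp (imgM_lt invB m), hfix, maskF_supp (hlt m hm)]
  rw [sextet_unique, List.mem_singleton] at this
  rw [← e, this]

/-- whether two positions lie in a common tetrad -/
def sameTet (i j : Fin 24) : Bool := cenSextet.any fun m => m.testBit i.val && m.testBit j.val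

theorem sameTet_fn {c : Equiv.Perm GolayPt} (hc : c • toFam cenSextet = toFam cenSextet) {i j : Fin 24}
    (h : sameTet i j = true) : sameTet (fn c i) (fn c j) = true := by
  simp only [sameTet, List.any_eq_true, Bool.and_eq_true] at h ⊢
  obtain ⟨m, hm, hi, hj⟩ := h
  obtain ⟨m', hm', e⟩ := toFam_mem.mp (hc ▸ Finset.smul_mem_smul_finset (toFam_mem.mpr ⟨m, hm, rfl⟩) :
    c • supp m ∈ toFam cenSextet)
  have key : ∀ k : Fin 24, m.testBit k.val = true → m'.testBit (fn c k).val = true := by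
    intro k hk
    have h2 : c • pt k ∈ supp m' := e ▸ Finset.smul_mem_smul_finset (mem_supp.mpr (by rw [idx_pt]; exact hk))
    have := mem_supp.mp h2
    exact this
  exact ⟨m', hm', key i hi, key j hj⟩

theorem sameTet_fn_iff {c : Equiv.Perm GolayPt} (hc : c • toFam cenSextet = toFam cenSextet) (i j : Fin 24) :
    sameTet (fn c i) (fn c j) = sameTet i j := by
  rw [Bool.eq_iff_iff]
  refine ⟨fun h => ?_, sameTet_fn hc⟩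
  have := sameTet_fn (c := c⁻¹) (by rw [inv_smul_eq_iff, hc]) h
  rwa [← fn_mul, ← fn_mul, inv_mul_cancel, fn_one, fn_one] at this

/-- the admissible triples of images -/
def okT (v : Fin 24 × Fin 24 × Fin 24) : Bool :=
  !sameTet v.1 v.2.1 && !sameTet v.1 v.2.2 && !sameTet v.2.1 v.2.2

theorem card_okT : Nat.card {v : Fin 24 × Fin 24 × Fin 24 // okT v = true} = 7680 := by
  rw [Nat.card_eq_fintype_card, Fintype.card_subtype]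
  decide +kernel

/-- the centraliser -/
def InCen (c : Equiv.Perm GolayPt) : Prop := c ∈ M24 ∧ c * tperm invB = tperm invB * c

theorem cen_mul {a b : Equiv.Perm GolayPt} (ha : InCen a) (hb : InCen b) : InCen (a * b) :=
  ⟨mul_mem ha.1 hb.1, by rw [mul_assoc, hb.2, ← mul_assoc, ha.2, mul_assoc]⟩

theorem cen_inv {a : Equiv.Perm GolayPt} (ha : InCen a) : InCen a⁻¹ :=
  ⟨inv_mem ha.1, (Commute.inv_left ha.2).eq⟩

theorem gens_ok : gensFix [] (cenA ++ cenB ++ cenD) ∧ ∀ T ∈ cenA ++ cenB ++ cenD, ∀ i : Fin 24,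
    tabFn T.1 (tabFn invB.1 i) = tabFn invB.1 (tabFn T.1 i) := by
  refine ⟨by decide +kernel, by decide +kernel⟩

theorem gens_cen {T : Tab} (h : T ∈ cenA ++ cenB ++ cenD) : InCen (tperm T) := by
  refine ⟨(gens_mem gens_ok.1 T h).1, fn_ext fun i => ?_⟩
  rw [fn_mul, fn_mul, fn_tperm (gens_ok.1 T h).1.1, fn_tperm (gens_ok.1 T h).1.1,
    fn_tperm (reps2_mem invB (by simp)).1.1, fn_tperm (reps2_mem invB (by simp)).1.1]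
  exact gens_ok.2 T h i

theorem transversals : (∀ x : Fin 24, ∃ T ∈ cenA, tabFn T.1 0 = x) ∧
    (∀ y : Fin 24, sameTet 0 y = false → ∃ T ∈ cenB, tabFn T.1 0 = 0 ∧ tabFn T.1 1 = y) ∧
    (∀ z : Fin 24, sameTet 0 z = false → sameTet 1 z = false →
      ∃ T ∈ cenD, tabFn T.1 0 = 0 ∧ tabFn T.1 1 = 1 ∧ tabFn T.1 3 = z) := by
  refine ⟨by decide +kernel, by decide +kernel, by decide +kernel⟩

theorem trans_cen (p q : GolayPt) : ∃ c, c ∈ M24 ∧ c * tperm invB = tperm invB * c ∧ c p = q := by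
  obtain ⟨A, hA, ha⟩ := transversals.1 (idx p)
  obtain ⟨B, hB, hb⟩ := transversals.1 (idx q)
  have mA : A ∈ cenA ++ cenB ++ cenD := by simp [hA]
  have mB : B ∈ cenA ++ cenB ++ cenD := by simp [hB]
  obtain ⟨h1, h2⟩ := cen_mul (gens_cen mB) (cen_inv (gens_cen mA))
  refine ⟨_, h1, h2, idx_injective' ?_⟩
  have e1 : fn (tperm A)⁻¹ (idx p) = 0 := by
    rw [← ha, ← fn_tperm (gens_ok.1 A mA).1.1, ← fn_mul, inv_mul_cancel, fn_one]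
  rw [show idx ((tperm B * (tperm A)⁻¹) p) = fn (tperm B * (tperm A)⁻¹) (idx p) by rw [fn, pt_idx],
    fn_mul, e1, fn_tperm (gens_ok.1 B mB).1.1, hb]

theorem pairs : fn (tperm invB) 0 = 23 ∧ fn (tperm invB) 1 = 2 ∧ fn (tperm invB) 3 = 4 := by
  rw [fn_tperm (reps2_mem invB (by simp)).1.1, fn_tperm (reps2_mem invB (by simp)).1.1,
    fn_tperm (reps2_mem invB (by simp)).1.1]
  decide +kernel

theorem words_trivial : ∀ w ∈ words48, ev w (bpt (sixth false)) = bpt (sixth false) →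
    (∀ i : Fin 24, ev w (tabFn invB.1 i) = tabFn invB.1 (ev w i)) → tab w = tab [] := by
  decide +kernel

theorem rigid {c : Equiv.Perm GolayPt} (hc : InCen c) (h0 : fn c 0 = 0) (h1 : fn c 1 = 1) (h3 : fn c 3 = 3) :
    c = 1 := by
  have step : ∀ i j, fn c i = i → fn (tperm invB) i = j → fn c j = j := fun i j hi hj => by
    rw [← hj, ← fn_mul, hc.2, fn_mul, hi]
  have h23 := step 0 23 h0 pairs.1
  have h2 := step 1 2 h1 pairs.2.1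
  have h4 := step 3 4 h3 pairs.2.2
  have hp : ∀ i : Fin 24, fn c i = i → c (pt i) = pt i := fun i hi => idx_injective' (by rw [idx_pt]; exact hi)
  have hm : c ∈ chain 5 := ⟨hc.1, fun i hi => hp _ (by
    interval_cases i
    exacts [h23, h0, h1, h2, h3])⟩
  obtain ⟨w, hw, he⟩ := chain_five_words hm
  have := words_trivial w hw (by rw [fixes_pt_iff, he]; exact hp _ h4) (fun i => by
    rw [← fn_wordPerm, ← fn_wordPerm, he, ← fn_tperm (reps2_mem invB (by simp)).1.1,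
      ← fn_tperm (reps2_mem invB (by simp)).1.1, ← fn_mul, ← fn_mul, hc.2])
  rw [← he]
  exact wordPerm_tab.mpr this

theorem card_cen : Nat.card {c : Equiv.Perm GolayPt // c ∈ M24 ∧ c * tperm invB = tperm invB * c} = 7680 := by
  rw [← card_okT]
  have hok : ∀ c : Equiv.Perm GolayPt, InCen c → okT (fn c 0, fn c 1, fn c 3) = true := by
    intro c hc
    have hs := cen_fix hc.1 hc.2
    simp only [okT, sameTet_fn_iff hs]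
    decide +kernel
  refine Nat.card_eq_of_bijective (fun c => ⟨_, hok c.1 c.2⟩) ⟨fun a b hab => ?_, fun ⟨⟨x, y, z⟩, hv⟩ => ?_⟩
  · simp only [Subtype.mk.injEq, Prod.mk.injEq] at hab
    have key : ∀ i, fn a.1 i = fn b.1 i → fn (b.1⁻¹ * a.1) i = i := fun i h => by
      rw [fn_mul, h, ← fn_mul, inv_mul_cancel, fn_one]
    exact Subtype.ext (inv_mul_eq_one.mp (rigid (cen_mul (cen_inv b.2) a.2) (key _ hab.1) (key _ hab.2.1)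
      (key _ hab.2.2))).symm
  · simp only [okT, Bool.and_eq_true, Bool.not_eq_true'] at hv
    obtain ⟨A, hA, ha⟩ := transversals.1 x
    have mA : A ∈ cenA ++ cenB ++ cenD := by simp [hA]
    have cA := gens_cen mA
    have ha' : fn (tperm A) 0 = x := by rw [fn_tperm (gens_ok.1 A mA).1.1]; exact ha
    have back : ∀ {c : Equiv.Perm GolayPt} (i : Fin 24), fn c (fn c⁻¹ i) = i := fun {c} i => by
      rw [← fn_mul, mul_inv_cancel, fn_one]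
    obtain ⟨B, hB, hb0, hb1⟩ := transversals.2.1 (fn (tperm A)⁻¹ y) (by
      rw [← sameTet_fn_iff (cen_fix cA.1 cA.2), ha', back]; exact hv.1.1)
    have mB : B ∈ cenA ++ cenB ++ cenD := by simp [hB]
    have cB := gens_cen mB
    have hb0' : fn (tperm B) 0 = 0 := by rw [fn_tperm (gens_ok.1 B mB).1.1]; exact hb0
    have hb1' : fn (tperm B) 1 = fn (tperm A)⁻¹ y := by rw [fn_tperm (gens_ok.1 B mB).1.1]; exact hb1
    have cAB := cen_mul cA cB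
    have a0 : fn (tperm A * tperm B) 0 = x := by rw [fn_mul, hb0', ha']
    have a1 : fn (tperm A * tperm B) 1 = y := by rw [fn_mul, hb1', back]
    obtain ⟨D, hD, hd0, hd1, hd3⟩ := transversals.2.2 (fn (tperm A * tperm B)⁻¹ z)
      (by rw [← sameTet_fn_iff (cen_fix cAB.1 cAB.2), a0, back]; exact hv.1.2)
      (by rw [← sameTet_fn_iff (cen_fix cAB.1 cAB.2), a1, back]; exact hv.2)
    have mD : D ∈ cenA ++ cenB ++ cenD := by simp [hD]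
    have hi := (gens_ok.1 D mD).1.1
    refine ⟨⟨_, cen_mul cAB (gens_cen mD)⟩, Subtype.ext ?_⟩
    simp only [Prod.mk.injEq]
    refine ⟨?_, ?_, ?_⟩ <;> rw [fn_mul, fn_tperm hi]
    · rw [hd0, a0]
    · rw [hd1, a1]
    · rw [hd3, back]

/-- For a fixed-point-free involution t of the group of the length-24 code: its centraliser in that group has order 7680, is transitive on the 24 points, and is contained, together with t, in the stabiliser of some sextet. -/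
theorem result (t : Equiv.Perm Cfsg.GolayPt) (ht : t ∈ Cfsg.M24) (h₂ : orderOf t = 2) (h₀ : ∀ p, t p ≠ p) : Nat.card {c : Equiv.Perm Cfsg.GolayPt // c ∈ Cfsg.M24 ∧ c * t = t * c} = 7680 ∧ (∀ p q : Cfsg.GolayPt, ∃ c ∈ Cfsg.M24, c * t = t * c ∧ c p = q) ∧ ∃ S ∈ Cfsg.sextets, t • S = S ∧ ∀ c ∈ Cfsg.M24, c * t = t * c → c • S = S := by
  obtain ⟨hT, hs⟩ : TabInv invB ∧ True := ⟨(reps2_mem invB (by simp)).1.1, trivial⟩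
  rcases class_two_of_fcount ht h₂ with ⟨a, -⟩ | ⟨-, σ, hσ, e⟩
  · rw [(fpf_iff_fcount t).mp h₀] at a; omega
  have back : σ⁻¹ * tperm invB * σ = t := by rw [← e]; group
  let E : {c : Equiv.Perm GolayPt // c ∈ M24 ∧ c * t = t * c} ≃
      {c : Equiv.Perm GolayPt // c ∈ M24 ∧ c * tperm invB = tperm invB * c} :=
    { toFun := fun c => ⟨σ * c.1 * σ⁻¹, mul_mem (mul_mem hσ c.2.1) (inv_mem hσ), by
        rw [← e, conj_mul, c.2.2, ← conj_mul]⟩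
      invFun := fun c => ⟨σ⁻¹ * c.1 * σ, mul_mem (mul_mem (inv_mem hσ) c.2.1) hσ, by
        rw [← back]; simp only [mul_assoc, mul_inv_cancel_left]
        rw [← mul_assoc c.1, c.2.2, mul_assoc]⟩
      left_inv := fun c => Subtype.ext (by simp [mul_assoc])
      right_inv := fun c => Subtype.ext (by simp [mul_assoc]) }
  refine ⟨(Nat.card_congr E).trans card_cen, fun p q => ?_, σ⁻¹ • toFam cenSextet, ?_, ?_, fun c hc hct => ?_⟩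
  · obtain ⟨c, hc, hct, hpq⟩ := trans_cen (σ p) (σ q)
    let c' := E.symm ⟨c, hc, hct⟩
    refine ⟨c'.1, c'.2.1, c'.2.2, ?_⟩
    show (σ⁻¹ * c * σ) p = q
    simp [hpq]
  · exact smul_sextets (inv_mem hσ) cenSextet_mem
  · have := conj_fix (σ := σ⁻¹) t_fix
    rwa [inv_inv, back] at this
  · have := conj_fix (σ := σ⁻¹) (cen_fix (E ⟨c, hc, hct⟩).2.1 (E ⟨c, hc, hct⟩).2.2)
    simpa [E, mul_assoc] using this

end Cfsg.Agent.S5607
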