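import Cfsg.Statements.S5608
import Cfsg.Agent.Lib.Golay.FixedBlocks

set_option autoImplicit false
open scoped Pointwise
open Cfsg

namespace Cfsg.Agent.S5608

open Cfsg.Agent.Golay

theorem fixes_some (x s : Equiv.Perm GolayPt) (hc : Commute x s) (h3 : orderOf x = 3) (h8 : fcount s = 8) :
    fcount x ≠ 0 := by
  classical
  intro h0
  set F := Finset.univ.filter fun p => s p = p with hF
  have hmem : ∀ p, x p ∈ F ↔ p ∈ F := fun p => by
    simp only [hF, Finset.mem_filter, Finset.mem_univ, true_and]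
    rw [← Equiv.Perm.mul_apply, ← hc.eq, Equiv.Perm.mul_apply, x.injective.eq_iff]
  have hpow : (x.subtypePerm (p := (· ∈ F)) hmem) ^ 3 ^ 1 = 1 := by
    have h : x ^ 3 = 1 := h3 ▸ pow_orderOf_eq_one x
    refine Equiv.ext fun p => Subtype.ext ?_
    rw [pow_one, Equiv.Perm.subtypePerm_pow]
    simp [h]
  have : Fact (Nat.Prime 3) := ⟨Nat.prime_three⟩
  have hcard : ¬3 ∣ Fintype.card {p // p ∈ F} := by
    rw [Fintype.card_coe, show F.card = 8 from h8]; omega
  obtain ⟨⟨p, hp⟩, hfix⟩ := Equiv.Perm.exists_fixed_point_of_prime hcard hpow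
  exact (fpf_iff_fcount x).mpr h0 p (congrArg Subtype.val hfix)

/-- the relevant candidates do not commute -/
def NoCommute (H : Tab) (b : Bool) : Prop :=
  ∀ w ∈ words48, ev w (bpt (sixth b)) = bpt (sixth b) → ∀ v ∈ words48, ev v (bpt (sixth b)) = bpt (sixth b) →
    tab v = tab [] ∨ (∃ i, ev v (ev v (ev v i)) ≠ i) ∨
    (∃ i : Fin 24, tabFn H.1 (ev w i) = i) ∨ (∃ i, tabFn H.1 (ev w (tabFn H.1 (ev w i))) ≠ i) ∨
    ∃ i, ev v (tabFn H.1 (ev w i)) ≠ tabFn H.1 (ev w (ev v i))

instance (H : Tab) (b : Bool) : Decidable (NoCommute H b) := by unfold NoCommute; infer_instance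

theorem noCommute (b : Bool) : NoCommute (if b then six2T else six2F) b := by revert b; decide +kernel

theorem chain_word {k : Equiv.Perm GolayPt} {b : Bool} (hk : k ∈ M24) (hf : ∀ i, k (canon b i) = canon b i) :
    ∃ w ∈ words48, wordPerm w = k ∧ ev w (bpt (sixth b)) = bpt (sixth b) := by
  have hm : k ∈ chain 5 := by
    refine ⟨hk, fun i hi => ?_⟩
    have := hf ⟨i, by omega⟩
    simpa [canon, hi] using this
  obtain ⟨w, hw, he⟩ := chain_five_words hm
  refine ⟨w, hw, he, ?_⟩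
  rw [fixes_pt_iff, he]
  simpa [canon] using hf 5

theorem six_not {x s : Equiv.Perm GolayPt} (hx : x ∈ M24) (hs : s ∈ M24) (h3 : orderOf x = 3)
    (h2 : orderOf s = 2) (hc : Commute x s) (x6 : fcount x = 6) : fcount s ≠ 0 := by
  classical
  intro s0
  have hfpf := (fpf_iff_fcount s).mpr s0
  have hss : ∀ p, s (s p) = p := fun p => by
    have := congrArg (fun f : Equiv.Perm GolayPt => f p) (h2 ▸ pow_orderOf_eq_one s : s ^ 2 = 1)
    simpa [pow_two] using this
  set F := Finset.univ.filter fun p => x p = p with hF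
  have hmem : ∀ p ∈ F, s p ∈ F := fun p hp => by
    simp only [hF, Finset.mem_filter, Finset.mem_univ, true_and] at hp ⊢
    rw [← Equiv.Perm.mul_apply, hc.eq, Equiv.Perm.mul_apply, hp]
  have pick : ∀ S : Finset GolayPt, S.card ≤ 4 → ∃ a, a ∈ F ∧ a ∉ S := fun S hS => by
    by_contra h
    push Not at h
    have h' : F.card ≤ S.card := Finset.card_le_card h
    rw [show F.card = 6 from x6] at h'
    omega
  obtain ⟨a, ha, -⟩ := pick ∅ (by simp)
  obtain ⟨c, hc', hc1⟩ := pick {a, s a} (Finset.card_le_two.trans (by norm_num))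
  obtain ⟨e, he', he1⟩ := pick {a, s a, c, s c} Finset.card_le_four
  simp only [Finset.mem_insert, Finset.mem_singleton, not_or] at hc1 he1
  have ha0 := hfpf a
  have hc0 := hfpf c
  have he0 := hfpf e
  let X : Fin 6 → GolayPt := ![a, s a, c, s c, e, s e]
  have hinj : Function.Injective X := by
    have n1 : s c ≠ a := fun h => hc1.2 (by rw [← h, hss])
    have n2 : s c ≠ s a := fun h => hc1.1 (s.injective h)
    have n3 : s e ≠ a := fun h => he1.2.1 (by rw [← h, hss])
    have n4 : s e ≠ s a := fun h => he1.1 (s.injective h)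
    have n5 : s e ≠ c := fun h => he1.2.2.2 (by rw [← h, hss])
    have n6 : s e ≠ s c := fun h => he1.2.2.1 (s.injective h)
    intro i j
    fin_cases i <;> fin_cases j <;>
      simp [X, ha0, hc0, he0, Ne.symm ha0, Ne.symm hc0, Ne.symm he0, hc1.1, hc1.2, he1.1, he1.2.1,
        he1.2.2.1, he1.2.2.2, Ne.symm hc1.1, Ne.symm hc1.2, Ne.symm he1.1, Ne.symm he1.2.1,
        Ne.symm he1.2.2.1, Ne.symm he1.2.2.2, n1, n2, n3, n4, n5, n6, Ne.symm n1, Ne.symm n2,
        Ne.symm n3, Ne.symm n4, Ne.symm n5, Ne.symm n6]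
  have hXs : ∀ i, s (X i) = X (pat2 i) := fun i => by fin_cases i <;> simp [X, pat2, hss]
  have hXx : ∀ i, x (X i) = X i := by
    intro i
    have hi : X i ∈ F := by
      fin_cases i <;> simp only [X] <;> first | exact ha | exact hmem a ha | exact hc' | exact hmem c hc' | exact he' | exact hmem e he'
    exact (Finset.mem_filter.mp hi).2
  obtain ⟨b, τ, hτ, hcan⟩ := exists_canon ⟨X, hinj⟩
  set k := τ⁻¹ * s * τ with hk
  set y := τ⁻¹ * x * τ with hy
  have hkm : k ∈ M24 := mul_mem (mul_mem (inv_mem hτ) hs) hτ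
  obtain ⟨H, hH, hH'⟩ : ∃ H, H = (if b then six2T else six2F) ∧ ActsSix H b pat2 := by
    cases b
    · exact ⟨_, rfl, six_F_two⟩
    · exact ⟨_, rfl, six_T_two⟩
  obtain ⟨hi, hb, hact⟩ := hH'
  have hHm : tperm H ∈ M24 :=
    mem_M24_of_basis (by rw [show fn (tperm H) = tabFn H.1 from funext (fn_tperm hi)]; exact hb)
  have hcan' : ∀ i, τ⁻¹ (X i) = canon b i := fun i => by
    rw [Equiv.Perm.coe_inv, Equiv.symm_apply_eq]; exact (hcan i).symm
  have hkc : ∀ i, k (canon b i) = canon b (pat2 i) := fun i => by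
    rw [hk, Equiv.Perm.mul_apply, Equiv.Perm.mul_apply, hcan i]
    exact (congrArg _ (hXs i)).trans (hcan' _)
  have hyc : ∀ i, y (canon b i) = canon b i := fun i => by
    rw [hy, Equiv.Perm.mul_apply, Equiv.Perm.mul_apply, hcan i]
    exact (congrArg _ (hXx i)).trans (hcan' _)
  have hHc : ∀ i, tperm H (canon b i) = canon b (pat2 i) := by
    intro i
    have := fn_tperm hi (idx (canon b i))
    rw [← hact i, ← this, fn, pt_idx, pt_idx]
  obtain ⟨w, hw, hwe, hw6⟩ := chain_word (b := b) (mul_mem (inv_mem hHm) hkm) (fun i => by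
    rw [Equiv.Perm.mul_apply, hkc, ← hHc, Equiv.Perm.coe_inv, Equiv.symm_apply_apply])
  obtain ⟨v, hv, hve, hv6⟩ := chain_word (b := b) (mul_mem (mul_mem (inv_mem hτ) hx) hτ) hyc
  have fk : ∀ i, fn k i = tabFn H.1 (ev w i) := fun i => by
    rw [← fn_tperm hi, ← fn_wordPerm, ← fn_mul, hwe, mul_inv_cancel_left]
  have fy : ∀ i, fn y i = ev v i := fun i => by rw [← fn_wordPerm, hve]
  have x3 : x ^ 3 = 1 := h3 ▸ pow_orderOf_eq_one x
  rcases noCommute b w hw hw6 v hv hv6 with h | ⟨i, h⟩ | ⟨i, h⟩ | ⟨i, h⟩ | ⟨i, h⟩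
  · have h1 : wordPerm v = 1 := wordPerm_tab.mpr h
    rw [hve] at h1
    have : x = 1 := by
      have := congrArg (fun g => τ * g * τ⁻¹) h1
      simpa [mul_assoc] using this
    rw [this, orderOf_one] at h3
    omega
  · apply h
    rw [← fy, ← fy, ← fy, ← fn_mul, ← fn_mul, hy]
    rw [show τ⁻¹ * x * τ * (τ⁻¹ * x * τ) * (τ⁻¹ * x * τ) = τ⁻¹ * x ^ 3 * τ by simp [pow_succ, mul_assoc], x3, mul_one,
      inv_mul_cancel, fn_one]
  · rw [← hH, ← fk] at h
    apply hfpf (τ (pt i))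
    have := congrArg (fun j => τ (pt j)) h
    simpa [fn, pt_idx, hk] using this
  · apply h
    rw [← hH, ← fk, ← fk, ← fn_mul, hk]
    rw [show τ⁻¹ * s * τ * (τ⁻¹ * s * τ) = τ⁻¹ * s ^ 2 * τ by simp [pow_two, mul_assoc], (h2 ▸ pow_orderOf_eq_one s : s ^ 2 = 1),
      mul_one, inv_mul_cancel, fn_one]
  · apply h
    rw [← hH, ← fk, ← fk, ← fy, ← fy, ← fn_mul, ← fn_mul, hk, hy]
    rw [show τ⁻¹ * x * τ * (τ⁻¹ * s * τ) = τ⁻¹ * (x * s) * τ by group, hc.eq]
    congr 1
    group

/-- If an element of order 3 and an involution of the group of the length-24 code commute, then either the element of order 3 has exactly 6 fixed points and the involution exactly 8, or both are fixed-point-free. -/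
theorem result (x s : Equiv.Perm Cfsg.GolayPt) (hx : x ∈ Cfsg.M24) (hs : s ∈ Cfsg.M24) (h₃ : orderOf x = 3) (h₂ : orderOf s = 2) (hc : Commute x s) : ((Finset.univ.filter fun p => x p = p).card = 6 ∧ (Finset.univ.filter fun p => s p = p).card = 8) ∨ ((Finset.univ.filter fun p => x p = p).card = 0 ∧ (Finset.univ.filter fun p => s p = p).card = 0) := by
  have h6 := class_three_of_fcount hx h₃
  have h8 := class_two_of_fcount hs h₂
  rcases h8 with ⟨s8, -⟩ | ⟨s0, -⟩
  · left
    refine ⟨?_, s8⟩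
    rcases h6 with ⟨x6, -⟩ | ⟨x0, -⟩
    · exact x6
    · exact absurd x0 (fixes_some x s hc h₃ s8)
  · rcases h6 with ⟨x6, -⟩ | ⟨x0, -⟩
    · exact absurd s0 (six_not hx hs h₃ h₂ hc x6)
    · exact Or.inr ⟨x0, s0⟩

end Cfsg.Agent.S5608
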