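import Cfsg.Statements.S5609
import Cfsg.Agent.Lib.Golay.OrbPQ
import Cfsg.Agent.Lib.Golay.Sextet

set_option autoImplicit false
open scoped Pointwise
open Cfsg

namespace Cfsg.Agent.S5609

open Cfsg.Agent.Golay
open scoped Pointwise

abbrev Gr := Cfsg.blockGraph Cfsg.octads

theorem adj_iff (a b : Cfsg.octads) : Gr.Adj a b ↔ (a.1 ∩ b.1).card = 0 := by
  rw [Finset.card_eq_zero, ← Finset.disjoint_iff_inter_eq_empty]
  simp only [Cfsg.blockGraph, SimpleGraph.fromRel_adj]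
  refine ⟨?_, fun h => ⟨fun e => ?_, Or.inl h⟩⟩
  · rintro ⟨-, h | h⟩
    exacts [h, h.symm]
  · subst e
    have := a.2.2
    rw [disjoint_self.mp h] at this
    simp at this

theorem masks_ok :
    (∃ r ∈ wtList 8, popc (baseOct &&& r) = 4 ∧ ∃ m ∈ wtList 8, baseOct &&& m = 0 ∧ r &&& m = 0) ∧
    (∃ r ∈ wtList 8, popc (baseOct &&& r) = 2 ∧ (∀ m ∈ wtList 8, ¬(baseOct &&& m = 0 ∧ r &&& m = 0)) ∧
      ∃ m ∈ wtList 8, baseOct &&& m = 0 ∧ popc (r &&& m) = 4) := by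
  decide +kernel

theorem supp_octad {m : ℕ} (h : m ∈ wtList 8) : supp m ∈ Cfsg.octads := by
  rw [mem_octads, maskF_supp (wtList_lt h)]; exact h

theorem disj_supp {a m : ℕ} (ha : a < 2 ^ 24) (hm : m < 2 ^ 24) :
    (supp a ∩ supp m).card = 0 ↔ a &&& m = 0 := by
  rw [Finset.card_eq_zero, ← Finset.disjoint_iff_inter_eq_empty, disjoint_iff_mask, maskF_supp ha, maskF_supp hm]

theorem move {a b : Finset Cfsg.GolayPt} (ha : a ∈ Cfsg.octads) (hb : b ∈ Cfsg.octads) {r : ℕ}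
    (hr : r ∈ wtList 8) (h : (a ∩ b).card = popc (baseOct &&& r)) :
    ∃ g ∈ Cfsg.M24, g • supp baseOct = a ∧ g • supp r = b := by
  obtain ⟨σ, hσ, hs⟩ := octad_transitive baseOct_mem ha
  obtain ⟨k, hk, hk1, hk2⟩ := octad_suborbit ha (a := σ • supp r) (b := b) (smul_mem_weight hσ (supp_octad hr)) hb (by
    conv_lhs => rw [← hs]
    rw [card_smul_inter, popc_inter, maskF_supp baseOct_lt, maskF_supp (wtList_lt hr), ← h])
  exact ⟨k * σ, mul_mem hk hσ, by rw [mul_smul, hs, hk1], by rw [mul_smul, hk2]⟩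

theorem meet4 {a b : Cfsg.octads} (h : (a.1 ∩ b.1).card = 4) : ∃ c, Gr.Adj a c ∧ Gr.Adj c b := by
  obtain ⟨⟨r, hr, h4, m, hm, h1, h2⟩, -⟩ := masks_ok
  obtain ⟨g, hg, ga, gb⟩ := move a.2 b.2 hr (h.trans h4.symm)
  refine ⟨⟨g • supp m, smul_mem_weight hg (supp_octad hm)⟩, (adj_iff _ _).mpr ?_, (adj_iff _ _).mpr ?_⟩
  · show (a.1 ∩ g • supp m).card = 0
    rw [← ga, card_smul_inter, disj_supp baseOct_lt (wtList_lt hm), h1]
  · show (g • supp m ∩ b.1).card = 0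
    rw [← gb, card_smul_inter, Finset.inter_comm, disj_supp (wtList_lt hr) (wtList_lt hm), h2]

theorem meet2 {a b : Cfsg.octads} (h : (a.1 ∩ b.1).card = 2) :
    (∀ c, ¬(Gr.Adj a c ∧ Gr.Adj c b)) ∧ ∃ c, Gr.Adj a c ∧ (c.1 ∩ b.1).card = 4 := by
  obtain ⟨-, r, hr, h2, hno, m, hm, h1, h4⟩ := masks_ok
  obtain ⟨g, hg, ga, gb⟩ := move a.2 b.2 hr (h.trans h2.symm)
  refine ⟨fun c hc => ?_, ⟨g • supp m, smul_mem_weight hg (supp_octad hm)⟩, (adj_iff _ _).mpr ?_, ?_⟩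
  · obtain ⟨c1, c2⟩ := hc
    rw [adj_iff] at c1 c2
    have hc' : g⁻¹ • c.1 ∈ Cfsg.octads := smul_mem_weight (inv_mem hg) c.2
    have hmm := (mem_octads _).mp hc'
    refine hno _ hmm ⟨?_, ?_⟩
    · rw [← disj_supp baseOct_lt (wtList_lt hmm), supp_maskF, ← card_smul_inter g, smul_inv_smul, ga, c1]
    · rw [← disj_supp (wtList_lt hr) (wtList_lt hmm), supp_maskF, ← card_smul_inter g, smul_inv_smul, gb,
        Finset.inter_comm, c2]
  · show (a.1 ∩ g • supp m).card = 0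
    rw [← ga, card_smul_inter, disj_supp baseOct_lt (wtList_lt hm), h1]
  · show (g • supp m ∩ b.1).card = 4
    rw [← gb, card_smul_inter, Finset.inter_comm, popc_inter, maskF_supp (wtList_lt hr), maskF_supp (wtList_lt hm), h4]

theorem connected : Gr.Connected := by
  have : Nonempty Cfsg.octads := ⟨⟨supp baseOct, baseOct_mem⟩⟩
  refine ⟨fun a b => ?_⟩
  by_cases e : a = b
  · subst e; rfl
  rcases Steiner.inter_24 Cfsg.Agent.Sextet.card_pt octads_steiner a.2 b.2 (fun h => e (Subtype.ext h)) with h | h | h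
  · exact ((adj_iff a b).mpr h).reachable
  · obtain ⟨c, hc, h4⟩ := (meet2 h).2
    obtain ⟨d, hd, hd'⟩ := meet4 h4
    exact hc.reachable.trans (hd.reachable.trans hd'.reachable)
  · obtain ⟨c, hc, hc'⟩ := meet4 h
    exact hc.reachable.trans hc'.reachable

theorem dist_cases (a b : Cfsg.octads) (hne : a ≠ b) :
    ((a.1 ∩ b.1).card = 0 → Gr.dist a b = 1) ∧ ((a.1 ∩ b.1).card = 2 → Gr.dist a b = 3) ∧
      ((a.1 ∩ b.1).card = 4 → Gr.dist a b = 2) := by
  have hpos : Gr.dist a b ≠ 0 := fun h => hne ((SimpleGraph.Connected.dist_eq_zero_iff connected).mp h)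
  have hone : Gr.dist a b = 1 ↔ (a.1 ∩ b.1).card = 0 := by rw [SimpleGraph.dist_eq_one_iff_adj, adj_iff]
  refine ⟨hone.mpr, fun h => ?_, fun h => ?_⟩
  · obtain ⟨hno, c, hc, h4⟩ := meet2 h
    obtain ⟨d, hd, hd'⟩ := meet4 h4
    have hle : Gr.dist a b ≤ 3 := SimpleGraph.dist_le (SimpleGraph.Walk.cons hc (SimpleGraph.Walk.cons hd (SimpleGraph.Walk.cons hd' SimpleGraph.Walk.nil)))
    have h1 : Gr.dist a b ≠ 1 := fun e => by have := hone.mp e; omega
    have h2 : Gr.dist a b ≠ 2 := fun e => by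
      obtain ⟨w, hw⟩ := connected.exists_walk_length_eq_dist a b
      rw [e] at hw
      match w, hw with
      | .cons p (.cons q .nil), _ => exact hno _ ⟨p, q⟩
    omega
  · obtain ⟨c, hc, hc'⟩ := meet4 h
    have hle : Gr.dist a b ≤ 2 := SimpleGraph.dist_le (SimpleGraph.Walk.cons hc (SimpleGraph.Walk.cons hc' SimpleGraph.Walk.nil))
    have h1 : Gr.dist a b ≠ 1 := fun e => by have := hone.mp e; omega
    omega

/-- In the graph on the 759 octads of the length-24 code in which two octads are adjacent when they are disjoint, the graph is connected (of diameter 3) and two distinct octads are at distance 1, 2 or 3 exactly when they meet in 0, 4 or 2 points respectively. -/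
theorem result (o o' : Finset Cfsg.GolayPt) (ho : o ∈ Cfsg.octads) (ho' : o' ∈ Cfsg.octads) (hne : o ≠ o') : (Cfsg.blockGraph Cfsg.octads).Connected ∧ ((Cfsg.blockGraph Cfsg.octads).dist ⟨o, ho⟩ ⟨o', ho'⟩ = 1 ↔ (o ∩ o').card = 0) ∧ ((Cfsg.blockGraph Cfsg.octads).dist ⟨o, ho⟩ ⟨o', ho'⟩ = 2 ↔ (o ∩ o').card = 4) ∧ ((Cfsg.blockGraph Cfsg.octads).dist ⟨o, ho⟩ ⟨o', ho'⟩ = 3 ↔ (o ∩ o').card = 2) := by
  refine ⟨connected, ?_⟩
  have hw := dist_cases ⟨o, ho⟩ ⟨o', ho'⟩ (fun e => hne (congrArg Subtype.val e))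
  rcases Steiner.inter_24 Cfsg.Agent.Sextet.card_pt octads_steiner ho ho' hne with e | e | e
  · rw [e, hw.1 e]; simp
  · rw [e, hw.2.1 e]; simp
  · rw [e, hw.2.2 e]; simp

end Cfsg.Agent.S5609
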