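import Cfsg.Statements.S5610
import Cfsg.Agent.Lib.Golay.FamOctT
import Cfsg.Agent.Lib.Golay.FamOctS
import Cfsg.Agent.Lib.Golay.FamGlue

set_option autoImplicit false
open scoped Pointwise
open Cfsg

namespace Cfsg.Agent.S5610

open Cfsg.Agent.Golay Cfsg.Agent.Sextet

/-- The stabiliser of an octad in the group of the length-24 code has exactly three orbits on the 3795 trios, of sizes 15, 420 and 3360, and exactly three orbits on the 1771 sextets, of sizes 35, 840 and 896. -/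
theorem result (o : Finset Cfsg.GolayPt) (ho : o ∈ Cfsg.octads) : (∃ X₁ ∈ Cfsg.trios, ∃ X₂ ∈ Cfsg.trios, ∃ X₃ ∈ Cfsg.trios, (MulAction.orbit ↥(MulAction.stabilizer Cfsg.M24 o) X₁).ncard = 15 ∧ (MulAction.orbit ↥(MulAction.stabilizer Cfsg.M24 o) X₂).ncard = 420 ∧ (MulAction.orbit ↥(MulAction.stabilizer Cfsg.M24 o) X₃).ncard = 3360 ∧ Cfsg.trios = MulAction.orbit ↥(MulAction.stabilizer Cfsg.M24 o) X₁ ∪ MulAction.orbit ↥(MulAction.stabilizer Cfsg.M24 o) X₂ ∪ MulAction.orbit ↥(MulAction.stabilizer Cfsg.M24 o) X₃) ∧ (∃ Y₁ ∈ Cfsg.sextets, ∃ Y₂ ∈ Cfsg.sextets, ∃ Y₃ ∈ Cfsg.sextets, (MulAction.orbit ↥(MulAction.stabilizer Cfsg.M24 o) Y₁).ncard = 35 ∧ (MulAction.orbit ↥(MulAction.stabilizer Cfsg.M24 o) Y₂).ncard = 840 ∧ (MulAction.orbit ↥(MulAction.stabilizer Cfsg.M24 o) Y₃).ncard = 896 ∧ Cfsg.sextets = MulAction.orbit ↥(MulAction.stabilizer Cfsg.M24 o) Y₁ ∪ MulAction.orbit ↥(MulAction.stabilizer Cfsg.M24 o) Y₂ ∪ MulAction.orbit ↥(MulAction.stabilizer Cfsg.M24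 o) Y₃) := by
  obtain ⟨σ, hσ, e⟩ := octad_transitive baseOct_mem ho
  have hs : MulAction.stabilizer M24 (σ • fam famOct) = MulAction.stabilizer M24 o := by
    rw [show fam famOct = {supp baseOct} from fam_single _, Finset.smul_finset_singleton, e, stab_single]
  exact ⟨orbitsList_three (by simp only [List.map_cons, List.map_nil]; decide +kernel) (orbitsList_of famOctT_ok hinv_trios
      (fun _ => trio_of_check) (by decide +kernel) (ncard_trios.trans (by decide)) hσ hs),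
    orbitsList_three (by simp only [List.map_cons, List.map_nil]; decide +kernel) (orbitsList_of famOctS_ok hinv_sextets
      (fun _ => sextet_of_check) (by decide +kernel) (ncard_sextets.trans (by decide)) hσ hs)⟩

end Cfsg.Agent.S5610
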