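import Cfsg.Statements.S5611
import Cfsg.Agent.Lib.Golay.FamSxT
import Cfsg.Agent.Lib.Golay.FamSxO
import Cfsg.Agent.Lib.Golay.FamGlue

set_option autoImplicit false
open scoped Pointwise
open Cfsg

namespace Cfsg.Agent.S5611

open Cfsg.Agent.Golay Cfsg.Agent.Sextet

/-- The stabiliser of a sextet in the group of the length-24 code has exactly three orbits on the 759 octads, of sizes 15, 360 and 384, and exactly four orbits on the 3795 trios, of sizes 15, 180, 720 and 2880. -/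
theorem result (S : Finset (Finset Cfsg.GolayPt)) (hS : S ∈ Cfsg.sextets) : (∃ X₁ ∈ Cfsg.octads, ∃ X₂ ∈ Cfsg.octads, ∃ X₃ ∈ Cfsg.octads, (MulAction.orbit ↥(MulAction.stabilizer Cfsg.M24 S) X₁).ncard = 15 ∧ (MulAction.orbit ↥(MulAction.stabilizer Cfsg.M24 S) X₂).ncard = 360 ∧ (MulAction.orbit ↥(MulAction.stabilizer Cfsg.M24 S) X₃).ncard = 384 ∧ Cfsg.octads = MulAction.orbit ↥(MulAction.stabilizer Cfsg.M24 S) X₁ ∪ MulAction.orbit ↥(MulAction.stabilizer Cfsg.M24 S) X₂ ∪ MulAction.orbit ↥(MulAction.stabilizer Cfsg.M24 S) X₃) ∧ (∃ Y₁ ∈ Cfsg.trios, ∃ Y₂ ∈ Cfsg.trios, ∃ Y₃ ∈ Cfsg.trios, ∃ Y₄ ∈ Cfsg.trios, (MulAction.orbit ↥(MulAction.stabilizer Cfsg.M24 S) Y₁).ncard = 15 ∧ (MulAction.orbit ↥(MulAction.stabilizer Cfsg.M24 S) Y₂).ncard = 180 ∧ (MulAction.orbit ↥(MulAction.stabilizer Cfsg.M24 S) Y₃).ncard = 720 ∧ (MulAction.orbit ↥(MulAction.stabilizer Cfsg.M24 S) Y₄).ncard = 2880 ∧ Cfsg.trios = MulAction.orbit ↥(MulAction.stabilizer Cfsg.M24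 S) Y₁ ∪ MulAction.orbit ↥(MulAction.stabilizer Cfsg.M24 S) Y₂ ∪ MulAction.orbit ↥(MulAction.stabilizer Cfsg.M24 S) Y₃ ∪ MulAction.orbit ↥(MulAction.stabilizer Cfsg.M24 S) Y₄) := by
  obtain ⟨σ, hσ, e⟩ := exists_map_sextet (L := famSx) (by decide +kernel) (m := 8388615)
    (by decide +kernel) (by decide +kernel) hS
  subst e
  refine ⟨?_, orbitsList_four (by simp only [List.map_cons, List.map_nil]; decide +kernel) (orbitsList_of famSxT_ok hinv_trios
      (fun _ => trio_of_check) (by decide +kernel) (ncard_trios.trans (by decide)) hσ rfl)⟩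
  obtain ⟨l, hl, h⟩ := orbitsList_singles (orbitsList_of (σ := σ) famSxO_ok hinv_octSingles
    (B := fun L => match L with | [m] => codeW 8 m && decide (m < 2 ^ 24) | _ => false)
    (fun L hL => by
      match L, hL with
      | [m], hL => exact octSingle_of_check hL) (by decide +kernel)
    (ncard_octSingles.trans (by decide)) hσ rfl)
  exact orbitsList_three (hl.trans (by simp only [List.map_cons, List.map_nil]; decide +kernel)) h

end Cfsg.Agent.S5611
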