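import Cfsg.Statements.S5612
import Cfsg.Agent.Lib.Golay.FamTrS
import Cfsg.Agent.Lib.Golay.FamTrO
import Cfsg.Agent.Lib.Golay.FamGlue

set_option autoImplicit false
open scoped Pointwise
open Cfsg

namespace Cfsg.Agent.S5612

open Cfsg.Agent.Golay Cfsg.Agent.Sextet

/-- The stabiliser of a trio in the group of the length-24 code has exactly three orbits on the 759 octads, of sizes 3, 84 and 672, and exactly four orbits on the 1771 sextets, of sizes 7, 84, 336 and 1344. -/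
theorem result (T : Finset (Finset Cfsg.GolayPt)) (hT : T ∈ Cfsg.trios) : (∃ X₁ ∈ Cfsg.octads, ∃ X₂ ∈ Cfsg.octads, ∃ X₃ ∈ Cfsg.octads, (MulAction.orbit ↥(MulAction.stabilizer Cfsg.M24 T) X₁).ncard = 3 ∧ (MulAction.orbit ↥(MulAction.stabilizer Cfsg.M24 T) X₂).ncard = 84 ∧ (MulAction.orbit ↥(MulAction.stabilizer Cfsg.M24 T) X₃).ncard = 672 ∧ Cfsg.octads = MulAction.orbit ↥(MulAction.stabilizer Cfsg.M24 T) X₁ ∪ MulAction.orbit ↥(MulAction.stabilizer Cfsg.M24 T) X₂ ∪ MulAction.orbit ↥(MulAction.stabilizer Cfsg.M24 T) X₃) ∧ (∃ Y₁ ∈ Cfsg.sextets, ∃ Y₂ ∈ Cfsg.sextets, ∃ Y₃ ∈ Cfsg.sextets, ∃ Y₄ ∈ Cfsg.sextets, (MulAction.orbit ↥(MulAction.stabilizer Cfsg.M24 T) Y₁).ncard = 7 ∧ (MulAction.orbit ↥(MulAction.stabilizer Cfsg.M24 T) Y₂).ncard = 84 ∧ (MulAction.orbit ↥(MulAction.stabilizer Cfsg.M24 T) Y₃).ncard = 336 ∧ (MulAction.orbit ↥(MulAction.stabilizer Cfsg.M24 T) Y₄).ncard = 1344 ∧ Cfsg.sextets = MulAction.orbit ↥(MulAction.stabilizer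 Cfsg.M24 T) Y₁ ∪ MulAction.orbit ↥(MulAction.stabilizer Cfsg.M24 T) Y₂ ∪ MulAction.orbit ↥(MulAction.stabilizer Cfsg.M24 T) Y₃ ∪ MulAction.orbit ↥(MulAction.stabilizer Cfsg.M24 T) Y₄) := by
  obtain ⟨σ, hσ, e⟩ := exists_map_trio (L := famTr) (by decide +kernel) hT
  subst e
  refine ⟨?_, orbitsList_four (by simp only [List.map_cons, List.map_nil]; decide +kernel) (orbitsList_of famTrS_ok hinv_sextets
      (fun _ => sextet_of_check) (by decide +kernel) (ncard_sextets.trans (by decide)) hσ rfl)⟩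
  obtain ⟨l, hl, h⟩ := orbitsList_singles (orbitsList_of (σ := σ) famTrO_ok hinv_octSingles
    (B := fun L => match L with | [m] => codeW 8 m && decide (m < 2 ^ 24) | _ => false)
    (fun L hL => by
      match L, hL with
      | [m], hL => exact octSingle_of_check hL) (by decide +kernel)
    (ncard_octSingles.trans (by decide)) hσ rfl)
  exact orbitsList_three (hl.trans (by simp only [List.map_cons, List.map_nil]; decide +kernel)) h

end Cfsg.Agent.S5612
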