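import Cfsg.Statements.S5616
import Cfsg.Agent.Lib.Golay.FamT3S
import Cfsg.Agent.Lib.Golay.FamGlue

set_option autoImplicit false
open scoped Pointwise
open Cfsg

namespace Cfsg.Agent.S5616

open Cfsg.Agent.Golay Cfsg.Agent.Sextet

/-- Let Y be a set of 3 of the 24 points. The sextets of the length-24 code whose tetrads meeting Y number 1, 2 or 3 are respectively 21, 630 and 1120 in number, and two sextets with the same number of tetrads meeting Y are conjugate under the setwise stabiliser of Y in the code's group. -/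
theorem result (Y : Finset Cfsg.GolayPt) (hY : Y.card = 3) : {S : Finset (Finset Cfsg.GolayPt) | S ∈ Cfsg.sextets ∧ (S.filter fun t => (t ∩ Y).Nonempty).card = 1}.ncard = 21 ∧ {S : Finset (Finset Cfsg.GolayPt) | S ∈ Cfsg.sextets ∧ (S.filter fun t => (t ∩ Y).Nonempty).card = 2}.ncard = 630 ∧ {S : Finset (Finset Cfsg.GolayPt) | S ∈ Cfsg.sextets ∧ (S.filter fun t => (t ∩ Y).Nonempty).card = 3}.ncard = 1120 ∧ ∀ S S' : Finset (Finset Cfsg.GolayPt), S ∈ Cfsg.sextets → S' ∈ Cfsg.sextets → (S.filter fun t => (t ∩ Y).Nonempty).card = (S'.filter fun t => (t ∩ Y).Nonempty).card → ∃ g ∈ Cfsg.M24, g • Y = Y ∧ g • S = S' := by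
  classical
  obtain ⟨σ, hσ, e⟩ := exists_map_set Y (by norm_num) hY repT3 (by decide +kernel)
  subst e
  have hfam : σ • fam famT3 = ({σ • supp repT3} : Finset (Finset GolayPt)) := by
    rw [show fam famT3 = {supp repT3} from fam_single _, Finset.smul_finset_singleton]
  have hcs : [famT3S_0, famT3S_1, famT3S_2].all (fun c => sxB c.root) = true := by decide +kernel
  obtain ⟨hA, hB⟩ := fam_orbits famT3S_ok hinv_sextets
    (fun c hc => sextet_of_check (List.all_eq_true.mp hcs c hc)) (ncard_sextets.trans (by decide)) hσ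
  have hcount : ∀ y : Finset (Finset GolayPt),
      (y.filter fun t => (t ∩ σ • supp repT3).Nonempty).card = (famInv (σ • fam famT3) y).countP (· ≠ 0) := by
    intro y
    rw [hfam, famInv, Finset.singleton_product, Finset.map_val, Multiset.map_map, Multiset.countP_map,
      Finset.card_def, Finset.filter_val]
    congr 1
    refine Multiset.filter_congr fun t _ => ?_
    simp only [Function.comp_apply, Function.Embedding.coeFn_mk]
    rw [Finset.inter_comm, ← Finset.card_pos, Nat.pos_iff_ne_zero]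
  have hval : ∀ c ∈ [famT3S_0, famT3S_1, famT3S_2], ∀ y,
      y ∈ MulAction.orbit ↥(MulAction.stabilizer M24 (σ • fam famT3)) (σ • fam c.root) →
      (y.filter fun t => (t ∩ σ • supp repT3).Nonempty).card = (invM famT3 c.root).countP (· ≠ 0) := by
    intro c hc y hy
    rw [(hA c hc).2.2] at hy
    rw [hcount, hy.2, Multiset.coe_countP]
  have hcls : ∀ c ∈ [famT3S_0, famT3S_1, famT3S_2],
      {S : Finset (Finset GolayPt) | S ∈ sextets ∧
        (S.filter fun t => (t ∩ σ • supp repT3).Nonempty).card = (invM famT3 c.root).countP (· ≠ 0)} =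
      MulAction.orbit ↥(MulAction.stabilizer M24 (σ • fam famT3)) (σ • fam c.root) := by
    intro c hc
    ext y
    refine ⟨fun ⟨hy, hk⟩ => ?_, fun hy => ⟨by rw [(hA c hc).2.2] at hy; exact hy.1, hval c hc y hy⟩⟩
    obtain ⟨d, hd, hyd⟩ := hB y hy
    have hk' : (invM famT3 d.root).countP (· ≠ 0) = (invM famT3 c.root).countP (· ≠ 0) :=
      (hval d hd y hyd).symm.trans hk
    have hsep : ([famT3S_0, famT3S_1, famT3S_2].map fun c => (invM famT3 c.root).countP (· ≠ 0)).Nodup := by
      decide +kernel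
    obtain rfl := List.inj_on_of_nodup_map hsep hd hc hk'
    exact hyd
  have h0 := hcls famT3S_0 (by simp)
  have h1 := hcls famT3S_1 (by simp)
  have h2 := hcls famT3S_2 (by simp)
  rw [show (invM famT3 famT3S_0.root).countP (· ≠ 0) = 1 by decide +kernel] at h0
  rw [show (invM famT3 famT3S_1.root).countP (· ≠ 0) = 2 by decide +kernel] at h1
  rw [show (invM famT3 famT3S_2.root).countP (· ≠ 0) = 3 by decide +kernel] at h2
  refine ⟨?_, ?_, ?_, fun S S' hS hS' hk => ?_⟩
  · rw [h0, (hA famT3S_0 (by simp)).2.1]; decide +kernel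
  · rw [h1, (hA famT3S_1 (by simp)).2.1]; decide +kernel
  · rw [h2, (hA famT3S_2 (by simp)).2.1]; decide +kernel
  obtain ⟨c, hc, hSc⟩ := hB S hS
  have hS'c : S' ∈ MulAction.orbit ↥(MulAction.stabilizer M24 (σ • fam famT3)) (σ • fam c.root) := by
    rw [← hcls c hc]
    exact ⟨hS', hk.symm.trans (hval c hc S hSc)⟩
  obtain ⟨a, ha⟩ := hSc
  obtain ⟨b, hb⟩ := hS'c
  have hgY0 : ∀ g : Equiv.Perm GolayPt, g • (σ • fam famT3) = σ • fam famT3 →
      g • σ • supp repT3 = σ • supp repT3 := fun g h => by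
    rwa [hfam, Finset.smul_finset_singleton, Finset.singleton_inj] at h
  have hgY : ∀ g : ↥(MulAction.stabilizer M24 (σ • fam famT3)),
      (g.1 : Equiv.Perm GolayPt) • σ • supp repT3 = σ • supp repT3 := fun g => hgY0 _ g.2
  refine ⟨((b * a⁻¹).1 : Equiv.Perm GolayPt), (b * a⁻¹).1.2, hgY _, ?_⟩
  show (b * a⁻¹) • S = S'
  rw [← ha, mul_smul, inv_smul_smul]
  exact hb

end Cfsg.Agent.S5616
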