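import Cfsg.Statements.S5617
import Cfsg.Agent.Lib.Golay.FamDpS
import Cfsg.Agent.Lib.Golay.FamGlue
import Cfsg.Agent.Lib.Golay.Mathieu

set_option autoImplicit false
open scoped Pointwise
open Cfsg

namespace Cfsg.Agent.S5617

open Cfsg.Agent.Golay Cfsg.Agent.Sextet

/-- The setwise stabiliser, in the group of the length-24 code, of a complementary pair of dodecads has exactly three orbits on the 1771 sextets, of sizes 396, 495 and 880. -/
theorem result (d : Finset Cfsg.GolayPt) (hd : d ∈ Cfsg.dodecads) : ∃ X₁ ∈ Cfsg.sextets, ∃ X₂ ∈ Cfsg.sextets, ∃ X₃ ∈ Cfsg.sextets, (MulAction.orbit ↥(MulAction.stabilizer Cfsg.M24 ({d, Finset.univ \ d} : Finset (Finset Cfsg.GolayPt))) X₁).ncard = 396 ∧ (MulAction.orbit ↥(MulAction.stabilizer Cfsg.M24 ({d, Finset.univ \ d} : Finset (Finset Cfsg.GolayPt))) X₂).ncard = 495 ∧ (MulAction.orbit ↥(MulAction.stabilizer Cfsg.M24 ({d, Finset.univ \ d} : Finset (Finset Cfsg.GolayPt))) X₃).ncard = 880 ∧ Cfsg.sextets = MulAction.orbit ↥(MulAction.stabilizer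 Cfsg.M24 ({d, Finset.univ \ d} : Finset (Finset Cfsg.GolayPt))) X₁ ∪ MulAction.orbit ↥(MulAction.stabilizer Cfsg.M24 ({d, Finset.univ \ d} : Finset (Finset Cfsg.GolayPt))) X₂ ∪ MulAction.orbit ↥(MulAction.stabilizer Cfsg.M24 ({d, Finset.univ \ d} : Finset (Finset Cfsg.GolayPt))) X₃ := by
  obtain ⟨σ, hσ, e⟩ := dodecad_transitive hd
  have hc : ∀ s : Finset GolayPt, Finset.univ \ s = sᶜ := fun s => rfl
  have hs : MulAction.stabilizer M24 (σ • fam famDp) =
      MulAction.stabilizer M24 ({d, Finset.univ \ d} : Finset (Finset GolayPt)) := by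
    rw [show fam famDp = {D0, D0ᶜ} by decide +kernel, hc, ← e, Finset.smul_finset_insert,
      Finset.smul_finset_singleton, Finset.compl_eq_univ_sdiff, Finset.compl_eq_univ_sdiff,
      Finset.smul_finset_sdiff, Finset.smul_finset_univ]
  exact orbitsList_three (by simp only [List.map_cons, List.map_nil]; decide +kernel) (orbitsList_of famDpS_ok hinv_sextets
      (fun _ => sextet_of_check) (by decide +kernel) (ncard_sextets.trans (by decide)) hσ hs)

end Cfsg.Agent.S5617
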