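import Cfsg.Statements.S5618
import Cfsg.Agent.Lib.Golay.MathieuFaithful

set_option autoImplicit false
open scoped Pointwise
open Cfsg

namespace Cfsg.Agent.S5618

open scoped Pointwise
open Cfsg.Agent.Golay Cfsg.Agent.Golay.Faithful

/-- For a dodecad d of the length-24 code and a hexad C on it (a 6-point intersection of d with an octad): the joint stabiliser of d and C in the code's group is isomorphic to the symmetric group of degree 6, and it acts faithfully both on the six points of C and on the six points of d outside C. -/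
theorem result (d : Finset Cfsg.GolayPt) (hd : d ∈ Cfsg.dodecads) (C : Finset Cfsg.GolayPt) (hC : C ∈ Cfsg.hexadsOn d) : Nonempty (↥(MulAction.stabilizer Cfsg.M24 d ⊓ MulAction.stabilizer Cfsg.M24 C) ≃* Equiv.Perm (Fin 6)) ∧ (∀ g ∈ MulAction.stabilizer Cfsg.M24 d ⊓ MulAction.stabilizer Cfsg.M24 C, (∀ p ∈ C, ((g : ↥Cfsg.M24) : Equiv.Perm Cfsg.GolayPt) p = p) → g = 1) ∧ ∀ g ∈ MulAction.stabilizer Cfsg.M24 d ⊓ MulAction.stabilizer Cfsg.M24 C, (∀ p ∈ d \ C, ((g : ↥Cfsg.M24) : Equiv.Perm Cfsg.GolayPt) p = p) → g = 1 := by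
  have hsub := hexad_subset hC
  have hfaith : ∀ g ∈ MulAction.stabilizer Cfsg.M24 d ⊓ MulAction.stabilizer Cfsg.M24 C, ∀ s : Finset GolayPt,
      s ⊆ d → 5 ≤ s.card → (∀ p ∈ s, ((g : ↥Cfsg.M24) : Equiv.Perm Cfsg.GolayPt) p = p) → g = 1 :=
    fun g hg s hs h5 hfix => Subtype.ext (eq_one_of_five hd g.2 hg.1 hs h5 hfix)
  have hCdiff : (d \ C).card = 6 := by rw [Finset.card_sdiff_of_subset hsub, hd.2, hC.1]
  refine ⟨nonempty_perm hC.1 (fun g hg x => smul_inv_mem hg.2 x)
    (fun g hg hfix => hfaith g hg C hsub (by rw [hC.1]; norm_num) hfix)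
    ((card_hexad_stab hd hC).trans (by rfl)), fun g hg hfix => hfaith g hg C hsub (by rw [hC.1]; norm_num) hfix,
    fun g hg hfix => hfaith g hg (d \ C) Finset.sdiff_subset (by rw [hCdiff]; norm_num) hfix⟩

end Cfsg.Agent.S5618
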