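import Cfsg.Statements.S5619
import Cfsg.Agent.Lib.Golay.MathieuSmall
import Mathlib.GroupTheory.SpecificGroups.Quaternion

set_option autoImplicit false
open scoped Pointwise
open Cfsg

namespace Cfsg.Agent.S5619

open Cfsg.Agent.Golay Cfsg.Agent.Golay.Small

/-- Elements of the elementary abelian part. -/
def fN (x : Multiplicative (ZMod 3 × ZMod 3)) : Tab :=
  tabsN.getD (3 * (Multiplicative.toAdd x).1.val + (Multiplicative.toAdd x).2.val) ([], [])

/-- Elements of the quaternion part. -/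
def fQ : QuaternionGroup 2 → Tab
  | .a i => tabsQ.getD i.val ([], [])
  | .xa i => tabsQ.getD (4 + i.val) ([], [])

theorem fN_in : ∀ x, TabIn 3 (fN x) := by decide +kernel
theorem fN_mul : ∀ x y, ∀ i, tabFn (fN x).1 (tabFn (fN y).1 i) = tabFn (fN (x * y)).1 i := by decide +kernel
theorem fN_inj : ∀ x y, (∀ i, tabFn (fN x).1 i = tabFn (fN y).1 i) → x = y := by decide +kernel
theorem fN_cube : ∀ x : Multiplicative (ZMod 3 × ZMod 3), x ^ 3 = 1 := by decide +kernel
theorem fQ_in : ∀ x, TabIn 3 (fQ x) := by decide +kernel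
theorem fQ_mul : ∀ x y, ∀ i, tabFn (fQ x).1 (tabFn (fQ y).1 i) = tabFn (fQ (x * y)).1 i := by decide +kernel
theorem fQ_inj : ∀ x y, (∀ i, tabFn (fQ x).1 i = tabFn (fQ y).1 i) → x = y := by decide +kernel
theorem normalise : ∀ u x, ∃ y, ∀ i, tabFn (fQ u).1 (tabFn (fN x).1 i) = tabFn (fN y).1 (tabFn (fQ u).1 i) := by
  decide +kernel

/-- The elementary abelian subgroup. -/
def homN : Multiplicative (ZMod 3 × ZMod 3) →* fixN stabD baseL 3 :=
  (tabHom fN (fun x => (fN_in x).1) fN_mul).codRestrict _ fun x => tab_mem (fN_in x)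

/-- The quaternion subgroup. -/
def homQ : QuaternionGroup 2 →* fixN stabD baseL 3 :=
  (tabHom fQ (fun x => (fQ_in x).1) fQ_mul).codRestrict _ fun x => tab_mem (fQ_in x)

theorem homN_inj : Function.Injective homN := fun x y h => fN_inj x y fun i => by
  have := congrArg (fun g : fixN stabD baseL 3 => fn (g : Equiv.Perm GolayPt) i) h
  simpa [homN, tabHom, fn_tperm (fN_in x).1, fn_tperm (fN_in y).1] using this

theorem homQ_inj : Function.Injective homQ := fun x y h => fQ_inj x y fun i => by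
  have := congrArg (fun g : fixN stabD baseL 3 => fn (g : Equiv.Perm GolayPt) i) h
  simpa [homQ, tabHom, fn_tperm (fQ_in x).1, fn_tperm (fQ_in y).1] using this

theorem card_N : Nat.card homN.range = 9 := by
  rw [← Nat.card_congr (MonoidHom.ofInjective homN_inj).toEquiv]
  simp

theorem card_Q : Nat.card homQ.range = 8 := by
  rw [← Nat.card_congr (MonoidHom.ofInjective homQ_inj).toEquiv, Nat.card_eq_fintype_card, QuaternionGroup.card]

theorem N_normal : homN.range.Normal := by
  have htop : homN.range ⊔ homQ.range = ⊤ := by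
    refine Subgroup.eq_top_of_card_eq _ (Nat.dvd_antisymm (Subgroup.card_subgroup_dvd_card _) ?_)
    rw [card_fix_three, show 72 = 9 * 8 by norm_num]
    exact Nat.Coprime.mul_dvd_of_dvd_of_dvd (by norm_num) (card_N ▸ Subgroup.card_dvd_of_le le_sup_left)
      (card_Q ▸ Subgroup.card_dvd_of_le le_sup_right)
  rw [← Subgroup.normalizer_eq_top_iff, eq_top_iff, ← htop]
  refine sup_le Subgroup.le_normalizer ?_
  rintro _ ⟨u, rfl⟩
  refine Subgroup.mem_normalizer_fintype ?_
  rintro _ ⟨x, rfl⟩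
  obtain ⟨y, hy⟩ := normalise u x
  refine ⟨y, ?_⟩
  rw [eq_mul_inv_iff_mul_eq]
  refine Subtype.ext (fn_ext fun i => ?_)
  show fn (tperm (fN y) * tperm (fQ u)) i = fn (tperm (fQ u) * tperm (fN x)) i
  rw [fn_mul, fn_mul, fn_tperm (fN_in y).1, fn_tperm (fQ_in u).1, fn_tperm (fQ_in u).1, fn_tperm (fN_in x).1, hy]

theorem structure72 {G : Type*} [Group G] [Finite G] (e : G ≃* fixN stabD baseL 3) :
    (∀ Q : Sylow 3 G, (Q : Subgroup G).Normal ∧ Nat.card Q = 9 ∧ ∀ x ∈ (Q : Subgroup G), x ^ 3 = 1) ∧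
      ∀ P : Sylow 2 G, Nonempty (P ≃* QuaternionGroup 2) := by
  haveI : Fact (Nat.Prime 3) := ⟨Nat.prime_three⟩
  haveI : Fact (Nat.Prime 2) := ⟨Nat.prime_two⟩
  have hG : Nat.card G = 72 := (Nat.card_congr e.toEquiv).trans card_fix_three
  let fn' := e.symm.toMonoidHom.comp homN
  let fq' := e.symm.toMonoidHom.comp homQ
  have hn : Function.Injective fn' := e.symm.injective.comp homN_inj
  have hq : Function.Injective fq' := e.symm.injective.comp homQ_inj
  have hnN : fn'.range.Normal := by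
    rw [MonoidHom.range_comp]
    exact N_normal.map _ e.symm.surjective
  have hcN : Nat.card fn'.range = 9 := by
    rw [← Nat.card_congr (MonoidHom.ofInjective hn).toEquiv]; simp
  have hcQ : Nat.card fq'.range = 8 := by
    rw [← Nat.card_congr (MonoidHom.ofInjective hq).toEquiv, Nat.card_eq_fintype_card, QuaternionGroup.card]
  have h3 : Nat.card fn'.range = 3 ^ (Nat.card G).factorization 3 := by
    rw [hcN, hG, Nat.factorization_def _ Nat.prime_three, show (72 : ℕ) = 3 ^ 2 * 8 by norm_num,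
      padicValNat.mul (by norm_num) (by norm_num), padicValNat.prime_pow,
      padicValNat.eq_zero_of_not_dvd (by norm_num)]; norm_num
  have h2 : Nat.card fq'.range = 2 ^ (Nat.card G).factorization 2 := by
    rw [hcQ, hG, Nat.factorization_def _ Nat.prime_two, show (72 : ℕ) = 2 ^ 3 * 9 by norm_num,
      padicValNat.mul (by norm_num) (by norm_num), padicValNat.prime_pow,
      padicValNat.eq_zero_of_not_dvd (by norm_num)]; norm_num
  let Q₀ : Sylow 3 G := Sylow.ofCard fn'.range h3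
  haveI := Sylow.unique_of_normal Q₀ hnN
  refine ⟨fun Q => ?_, fun P => ?_⟩
  · rw [Subsingleton.elim Q Q₀]
    refine ⟨hnN, hcN, ?_⟩
    rintro _ ⟨x, rfl⟩
    rw [← map_pow, fN_cube, map_one]
  · exact ⟨(P.equiv (Sylow.ofCard fq'.range h2)).trans (MonoidHom.ofInjective hq).symm⟩

/-- In the group of the length-24 code, the subgroup fixing a dodecad setwise and three of its points individually (a group of order 72) has a normal Sylow 3-subgroup that is elementary abelian of order 9, and its Sylow 2-subgroups are quaternion of order 8. -/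
theorem result (d : Finset Cfsg.GolayPt) (hd : d ∈ Cfsg.dodecads) (p q r : Cfsg.GolayPt) (hp : p ∈ d) (hq : q ∈ d) (hr : r ∈ d) (hpq : p ≠ q) (hpr : p ≠ r) (hqr : q ≠ r) : (∀ Q : Sylow 3 ↥(MulAction.stabilizer Cfsg.M24 d ⊓ MulAction.stabilizer Cfsg.M24 p ⊓ MulAction.stabilizer Cfsg.M24 q ⊓ MulAction.stabilizer Cfsg.M24 r), (Q : Subgroup ↥(MulAction.stabilizer Cfsg.M24 d ⊓ MulAction.stabilizer Cfsg.M24 p ⊓ MulAction.stabilizer Cfsg.M24 q ⊓ MulAction.stabilizer Cfsg.M24 r)).Normal ∧ Nat.card ↥Q = 9 ∧ ∀ x ∈ (Q : Subgroup ↥(MulAction.stabilizer Cfsg.M24 d ⊓ MulAction.stabilizer Cfsg.M24 p ⊓ MulAction.stabilizer Cfsg.M24 q ⊓ MulAction.stabilizer Cfsg.M24 r)), x ^ 3 = 1) ∧ ∀ P : Sylow 2 ↥(MulAction.stabilizer Cfsg.M24 d ⊓ MulAction.stabilizer Cfsg.M24 p ⊓ MulAction.stabilizer Cfsg.M24 q ⊓ MulAction.stabilizer Cfsg.M24 r), Nonempty (↥P ≃* QuaternionGroup 2) := by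
  obtain ⟨σ, e, -⟩ := Golay.Small.exists_equiv hd hp hq hr hpq hpr hqr
  exact structure72 e

end Cfsg.Agent.S5619
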