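import Cfsg.Statements.S5620
import Cfsg.Agent.Lib.Golay.OutSmallSpec
import Cfsg.Agent.Lib.Golay.Orbit

set_option autoImplicit false
open scoped Pointwise
open Cfsg

namespace Cfsg.Agent.S5620

open Cfsg.Agent.Golay
open scoped Pointwise

local notation "S" => Cfsg.Spor.squareDodecad

theorem proj_smul : (projInv : Equiv.Perm GolayPt) • S = Finset.univ \ S := by decide +kernel

theorem tabG_ok : TabMem cls11 tabG11 := by decide +kernel

theorem tabG_free : ∀ i : Fin 24, cls12 i ≠ 1 → tabFn tabG11.1 i ≠ i := by decide +kernel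

theorem proj_compl : ∀ p : GolayPt, p ∈ S → projInv p ∉ S := by decide +kernel

theorem proj_zero : projInv (some 0) = none ∧ projInv none = some 0 := ⟨by decide +kernel, by decide +kernel⟩

theorem proj_sq : ∀ p : GolayPt, projInv (projInv p) = p := by decide +kernel

theorem proj_mem : projInv ∈ M24 := letter_mem 2

/-- Inside the stabiliser of the dodecad of squares (a Mathieu group of degree 12), the stabiliser of the residue 0 (a point of the dodecad) and the stabiliser of the extra point (a point outside the dodecad) are isomorphic but not conjugate; conjugation by a suitable element of the code's group that maps the dodecad of squares onto its complement carries the first onto the second. -/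
theorem result : Nonempty (↥(Cfsg.Spor.M12 ⊓ MulAction.stabilizer (Equiv.Perm Cfsg.GolayPt) (none : Cfsg.GolayPt)) ≃* ↥Cfsg.Spor.M11) ∧ (¬ ∃ k ∈ Cfsg.Spor.M12, MulAut.conj k • Cfsg.Spor.M11 = Cfsg.Spor.M12 ⊓ MulAction.stabilizer (Equiv.Perm Cfsg.GolayPt) (none : Cfsg.GolayPt)) ∧ ∃ g ∈ Cfsg.M24, g • Cfsg.Spor.squareDodecad = Finset.univ \ Cfsg.Spor.squareDodecad ∧ MulAut.conj g • Cfsg.Spor.M11 = Cfsg.Spor.M12 ⊓ MulAction.stabilizer (Equiv.Perm Cfsg.GolayPt) (none : Cfsg.GolayPt) := by
  have hinv : projInv⁻¹ = projInv := inv_eq_of_mul_eq_one_right (Equiv.ext proj_sq)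
  have key : ∀ σ : Equiv.Perm GolayPt,
      σ ∈ Spor.M12 ⊓ MulAction.stabilizer (Equiv.Perm GolayPt) (none : GolayPt) ↔
        projInv * σ * projInv ∈ Spor.M11 := by
    have hs : ∀ τ : Equiv.Perm GolayPt, τ • (S) = S → τ • (Finset.univ \ S) = Finset.univ \ S := by
      intro τ h
      rw [Finset.smul_finset_sdiff, h, Finset.smul_finset_univ]
    have half : ∀ σ : Equiv.Perm GolayPt, σ ∈ M24 → σ • (S) = S → (projInv * σ * projInv) • (S) = S := by
      intro σ _ h
      have e : projInv • (Finset.univ \ S) = S := by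
        rw [← proj_smul, ← mul_smul]
        nth_rewrite 1 [← hinv]
        rw [inv_mul_cancel, one_smul]
      rw [mul_smul, mul_smul, proj_smul, hs σ h, e]
    intro σ
    constructor
    · rintro ⟨⟨hM, hS⟩, hn⟩
      refine ⟨⟨mul_mem (mul_mem proj_mem hM) proj_mem, half σ hM hS⟩, ?_⟩
      show projInv (σ (projInv (some 0))) = some 0
      rw [proj_zero.1, show σ none = none from hn, proj_zero.2]
    · rintro ⟨⟨hM, hS⟩, hz⟩
      have e : σ = projInv * (projInv * σ * projInv) * projInv := by
        ext p
        simp [Equiv.Perm.mul_apply, proj_sq]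
      rw [e]
      refine ⟨⟨mul_mem (mul_mem proj_mem hM) proj_mem, half _ hM hS⟩, ?_⟩
      show projInv ((projInv * σ * projInv) (projInv none)) = none
      rw [proj_zero.2, show (projInv * σ * projInv) (some 0) = some 0 from hz, proj_zero.1]
  have hconj : MulAut.conj projInv • Spor.M11 =
      Spor.M12 ⊓ MulAction.stabilizer (Equiv.Perm GolayPt) (none : GolayPt) := by
    ext σ
    rw [key, Subgroup.mem_pointwise_smul_iff_inv_smul_mem, ← map_inv, hinv, MulAut.smul_def,
      MulAut.conj_apply, hinv]
  refine ⟨?_, ?_, ⟨projInv, proj_mem, proj_smul, hconj⟩⟩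
  · rw [← hconj]
    exact ⟨(Subgroup.equivSMul (MulAut.conj projInv) Spor.M11).symm⟩
  · rintro ⟨k, ⟨-, hkS⟩, hk⟩
    have hh : tperm tabG11 ∈ Spor.M11 := by rw [M11_eq]; exact tperm_mem tabG_ok
    have hm : projInv * tperm tabG11 * projInv ∈ MulAut.conj k • Spor.M11 := by
      rw [hk, key]
      have e : projInv * (projInv * tperm tabG11 * projInv) * projInv = tperm tabG11 := by
        ext p
        simp [Equiv.Perm.mul_apply, proj_sq]
      rwa [e]
    obtain ⟨u, hu, hue⟩ := hm
    have hku : k * u * k⁻¹ = projInv * tperm tabG11 * projInv := hue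
    have hz : u (some 0) = some 0 := hu.2
    have hfix : tperm tabG11 (projInv (k (some 0))) = projInv (k (some 0)) := by
      have h1 : (projInv * tperm tabG11 * projInv) (k (some 0)) = k (some 0) := by
        rw [← hku]
        simp [Equiv.Perm.mul_apply, hz]
      have h2 := congrArg projInv h1
      simpa [Equiv.Perm.mul_apply, proj_sq] using h2
    have hks : k (some 0) ∈ (S) := by
      have h0 : (some 0 : GolayPt) ∈ (S) := by decide +kernel
      have h1 := Finset.smul_mem_smul_finset (a := k) h0
      rwa [show k • (S) = S from hkS, Equiv.Perm.smul_def] at h1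
    have hout := proj_compl _ hks
    rw [mem_squares] at hout
    refine tabG_free _ hout ?_
    rw [← fn_tperm tabG_ok.1, fn, pt_idx, hfix]

end Cfsg.Agent.S5620
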