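import Cfsg.Statements.S5621
import Mathlib
-- import your own Cfsg.Agent.* helpers here

set_option autoImplicit false
open Cfsg

namespace Cfsg.Agent.S5621
/-- Number of `k`-subsets within distance three of a fixed `j`-subset of 23 points. -/
def nNear (k j : ℕ) : ℕ :=
  ∑ i ∈ Finset.range (k + 1), if k + j - 2 * i ≤ 3 then j.choose i * (23 - j).choose (k - i) else 0

theorem card_near {α : Type*} [DecidableEq α] (U T : Finset α) (hU : U.card = 23) (hT : T ⊆ U) (k : ℕ) :
    ((U.powersetCard k).filter fun S => ((S \ T).card + (T \ S).card ≤ 3)).card = nNear k T.card := by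
  classical
  rw [Finset.card_eq_sum_card_fiberwise (f := fun S => (S ∩ T).card) (t := Finset.range (k + 1)) ?_]
  swap
  · intro S hS
    simp only [Finset.coe_filter, Finset.mem_powersetCard, Set.mem_ofPred_eq, Set.mem_setOf_eq] at hS
    have := Finset.card_le_card (Finset.inter_subset_left (s₁ := S) (s₂ := T))
    simp only [Finset.coe_range, Set.mem_Iio]
    omega
  unfold nNear
  refine Finset.sum_congr rfl fun i hi => ?_
  have hik : i ≤ k := by simp only [Finset.mem_range] at hi; omega
  have key : ∀ S : Finset α, S ⊆ U → S.card = k → (S ∩ T).card = i →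
      (S \ T).card = k - i ∧ (T \ S).card = T.card - i ∧ i ≤ T.card := by
    intro S _ hS hi'
    have h1 := Finset.card_sdiff_add_card_inter S T
    have h2 := Finset.card_sdiff_add_card_inter T S
    rw [Finset.inter_comm] at h2
    omega
  split_ifs with hc
  · rw [show T.card.choose i * (23 - T.card).choose (k - i) =
        (T.powersetCard i ×ˢ (U \ T).powersetCard (k - i)).card by
      rw [Finset.card_product, Finset.card_powersetCard, Finset.card_powersetCard,
        Finset.card_sdiff_of_subset hT, hU]]
    refine Finset.card_bij' (fun S _ => (S ∩ T, S \ T)) (fun q _ => q.1 ∪ q.2) ?_ ?_ ?_ ?_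
    · intro S hS
      simp only [Finset.mem_filter, Finset.mem_powersetCard] at hS
      simp only [Finset.mem_product, Finset.mem_powersetCard]
      exact ⟨⟨Finset.inter_subset_right, hS.2⟩, Finset.sdiff_subset_sdiff hS.1.1.1 (le_refl _),
        (key S hS.1.1.1 hS.1.1.2 hS.2).1⟩
    · rintro ⟨A, B⟩ hq
      simp only [Finset.mem_product, Finset.mem_powersetCard] at hq
      obtain ⟨⟨hA, hAc⟩, hB, hBc⟩ := hq
      have hBT : Disjoint B T := by
        rw [Finset.disjoint_left]
        exact fun x hx => (Finset.mem_sdiff.mp (hB hx)).2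
      have hAB : Disjoint A B := (hBT.mono_right hA).symm
      have hU' : A ∪ B ⊆ U := Finset.union_subset (hA.trans hT) (hB.trans Finset.sdiff_subset)
      have hk : (A ∪ B).card = k := by rw [Finset.card_union_of_disjoint hAB]; omega
      have hi' : ((A ∪ B) ∩ T).card = i := by
        rw [Finset.union_inter_distrib_right, Finset.inter_eq_left.mpr hA,
          Finset.disjoint_iff_inter_eq_empty.mp hBT, Finset.union_empty, hAc]
      have := key _ hU' hk hi'
      simp only [Finset.mem_filter, Finset.mem_powersetCard]
      exact ⟨⟨⟨hU', hk⟩, by omega⟩, hi'⟩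
    · intro S _
      simp only []; rw [Finset.union_comm]; exact Finset.sdiff_union_inter S T
    · rintro ⟨A, B⟩ hq
      simp only [Finset.mem_product, Finset.mem_powersetCard] at hq
      obtain ⟨⟨hA, _⟩, hB, _⟩ := hq
      simp only [Prod.mk.injEq]
      constructor
      · ext x
        simp only [Finset.mem_inter, Finset.mem_union]
        exact ⟨fun ⟨h, hx⟩ => h.elim id (fun h' => absurd hx (Finset.mem_sdiff.mp (hB h')).2),
          fun h => ⟨Or.inl h, hA h⟩⟩
      · ext x
        simp only [Finset.mem_sdiff, Finset.mem_union]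
        exact ⟨fun ⟨h, hx⟩ => h.elim (fun h' => absurd (hA h') hx) id,
          fun h => ⟨Or.inr h, (Finset.mem_sdiff.mp (hB h)).2⟩⟩
  · rw [Finset.card_eq_zero, Finset.filter_eq_empty_iff]
    intro S hS hi'
    simp only [Finset.mem_filter, Finset.mem_powersetCard] at hS
    have := key S hS.1.1 hS.1.2 hi'
    omega

theorem nNear_four : ∀ j ∈ Finset.range 24, (j = 0 ∨ 7 ≤ j) → nNear 4 j = if j = 7 then 35 else 0 := by
  decide +kernel

theorem nNear_five : ∀ j ∈ Finset.range 24, (j = 0 ∨ 7 ≤ j) →
    nNear 5 j = (if j = 7 then 21 else 0) + (if j = 8 then 56 else 0) := by decide +kernel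

theorem nNear_six : ∀ j ∈ Finset.range 24, (j = 0 ∨ 7 ≤ j) →
    nNear 6 j = ((if j = 7 then 343 else 0) + (if j = 8 then 28 else 0)) + (if j = 9 then 84 else 0) := by
  decide +kernel

theorem supp_add {α : Type*} [Fintype α] [DecidableEq α] (v w : α → ZMod 2) :
    (Finset.univ.filter fun i => (v + w) i ≠ 0) =
      ((Finset.univ.filter fun i => v i ≠ 0) \ (Finset.univ.filter fun i => w i ≠ 0)) ∪
        ((Finset.univ.filter fun i => w i ≠ 0) \ (Finset.univ.filter fun i => v i ≠ 0)) := by
  have key : ∀ a b : ZMod 2, a + b ≠ 0 ↔ (a ≠ 0 ∧ ¬ b ≠ 0) ∨ (b ≠ 0 ∧ ¬ a ≠ 0) := by decide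
  ext i
  simp only [Finset.mem_filter, Finset.mem_union, Finset.mem_sdiff, Finset.mem_univ, true_and,
    Pi.add_apply]
  exact key _ _


/-- Let C be a self-dual binary code of length 24 with minimum weight at least 8 (a 12-dimensional subspace of the 24-dimensional space over the field with two elements, any two of whose words have dot product zero, with no non-zero word of weight below 8 — an abstract extended binary Golay code). Then C is doubly even: every word of C has weight divisible by 4. -/
theorem result (C : Submodule (ZMod 2) (Fin 24 → ZMod 2)) (hdim : Module.finrank (ZMod 2) C = 12) (horth : ∀ v ∈ C, ∀ w ∈ C, ∑ i, v i * w i = 0) (hmin : ∀ w ∈ C, w ≠ 0 → 8 ≤ hammingNorm w) : ∀ w ∈ C, 4 ∣ hammingNorm w := by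
  skip
  classical
  let sp : (Fin 24 → ZMod 2) → Finset (Fin 24) := fun v => Finset.univ.filter fun i => v i ≠ 0
  have hsq : ∀ a : ZMod 2, a * a = a := by decide
  have hone : ∀ a : ZMod 2, a ≠ 0 → a = 1 := by decide
  have hnorm : ∀ v, hammingNorm v = (sp v).card := fun v => rfl
  have hsum : ∀ v : Fin 24 → ZMod 2, ∑ i, v i = ((sp v).card : ZMod 2) := by
    intro v
    rw [← Finset.sum_filter_ne_zero]
    rw [Finset.sum_congr rfl (fun i hi => hone _ (Finset.mem_filter.mp hi).2)]
    simp [sp]
  have heven : ∀ v ∈ C, 2 ∣ (sp v).card := by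
    intro v hv
    have := horth v hv v hv
    simp only [hsq] at this
    rw [hsum] at this
    exact (ZMod.natCast_eq_zero_iff_even.mp this).two_dvd
  have hones : (1 : Fin 24 → ZMod 2) ∈ C := by
    let e := (Pi.basisFun (ZMod 2) (Fin 24)).toDualEquiv
    have he : ∀ v w : Fin 24 → ZMod 2, e v w = ∑ i, v i * w i := by
      intro v w
      conv_lhs => rw [← (Pi.basisFun (ZMod 2) (Fin 24)).sum_repr w]
      rw [map_sum]
      refine Finset.sum_congr rfl fun i _ => ?_
      rw [map_smul, Pi.basisFun_repr, smul_eq_mul]
      show w i * (Pi.basisFun (ZMod 2) (Fin 24)).toDual v (Pi.basisFun (ZMod 2) (Fin 24) i) = _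
      rw [Module.Basis.toDual_apply_left, Pi.basisFun_repr, mul_comm]
    let D := C.dualAnnihilator.map e.symm.toLinearMap
    have hD : Module.finrank (ZMod 2) D = 12 := by
      rw [LinearEquiv.finrank_map_eq]
      have := Subspace.finrank_add_finrank_dualAnnihilator_eq C
      rw [Module.finrank_fin_fun, hdim] at this
      omega
    have hle : C ≤ D := by
      intro v hv
      refine Submodule.mem_map.mpr ⟨e v, ?_, e.symm_apply_apply v⟩
      rw [Submodule.mem_dualAnnihilator]
      intro w hw
      rw [he]; exact horth v hv w hw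
    rw [Submodule.eq_of_le_of_finrank_eq hle (by rw [hdim, hD])]
    refine Submodule.mem_map.mpr ⟨e 1, ?_, e.symm_apply_apply 1⟩
    rw [Submodule.mem_dualAnnihilator]
    intro w hw
    rw [he]
    simp only [Pi.one_apply, one_mul]
    rw [hsum]
    exact ZMod.natCast_eq_zero_iff_even.mpr (even_iff_two_dvd.mpr (heven w hw))
  have hten : ∀ w ∈ C, (sp w).card ≠ 10 := by
    intro w hw h10
    obtain ⟨a, ha⟩ : (sp w).Nonempty := Finset.card_pos.mp (by omega)
    let U : Finset (Fin 24) := Finset.univ.erase a
    have hU : U.card = 23 := by simp [U]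
    let T : (Fin 24 → ZMod 2) → Finset (Fin 24) := fun v => (sp v).erase a
    have hTU : ∀ v, T v ⊆ U := fun v => Finset.erase_subset_erase a (Finset.subset_univ _)
    let CF : Finset (Fin 24 → ZMod 2) := Finset.univ.filter fun v => v ∈ C
    have hmemCF : ∀ v, v ∈ CF ↔ v ∈ C := fun v => by simp [CF]
    have hCF : CF.card = 4096 := by
      have h := Module.natCard_eq_pow_finrank (K := ZMod 2) (V := C)
      rw [hdim, Nat.card_zmod] at h
      rw [← Fintype.card_subtype, ← Nat.card_eq_fintype_card]
      simpa using h
    have hTcard : ∀ v, (T v).card = (sp v).card ∨ (T v).card + 1 = (sp v).card := by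
      intro v
      by_cases h : a ∈ sp v
      · exact Or.inr (Finset.card_erase_add_one h)
      · exact Or.inl (by simp [T, Finset.erase_eq_of_notMem h])
    have hTrange : ∀ v ∈ CF, (T v).card ∈ Finset.range 24 ∧ ((T v).card = 0 ∨ 7 ≤ (T v).card) := by
      intro v hv
      have h1 := Finset.card_le_card (hTU v)
      refine ⟨Finset.mem_range.mpr (by omega), ?_⟩
      by_cases h0 : v = 0
      · left; subst h0; simp [T, sp]
      · right
        have := hmin v ((hmemCF v).mp hv) h0
        rw [hnorm] at this
        rcases hTcard v with h | h <;> omega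
    let B : (Fin 24 → ZMod 2) → Finset (Finset (Fin 24)) := fun v =>
      U.powerset.filter fun S => (S \ T v).card + (T v \ S).card ≤ 3
    have hBcard : ∀ v, (B v).card = 2048 := by
      intro v
      have h2 : (U.powerset.filter fun S => S.card ≤ 3).card = 2048 := by
        have e : (U.powerset.filter fun S => S.card ≤ 3) = (Finset.range 4).biUnion (fun k => U.powersetCard k) := by
          ext S
          simp only [Finset.mem_filter, Finset.mem_powerset, Finset.mem_biUnion, Finset.mem_range, Finset.mem_powersetCard]
          exact ⟨fun ⟨h1, h2⟩ => ⟨S.card, by omega, h1, rfl⟩, fun ⟨k, hk, h1, h2⟩ => ⟨h1, by omega⟩⟩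
        rw [e, Finset.card_biUnion]
        · simp [Finset.sum_range_succ, hU, Nat.choose]
        · exact fun i _ j _ hij => Finset.disjoint_left.mpr fun S hi hj => hij
            ((Finset.mem_powersetCard.mp hi).2.symm.trans (Finset.mem_powersetCard.mp hj).2)
      rw [← h2]
      have hc : ∀ S : Finset (Fin 24), (symmDiff S (T v)).card = (S \ T v).card + (T v \ S).card := by
        intro S
        rw [symmDiff_def, Finset.sup_eq_union, Finset.card_union_of_disjoint disjoint_sdiff_sdiff]
      refine Finset.card_bij' (fun S _ => symmDiff S (T v)) (fun S _ => symmDiff S (T v)) ?_ ?_ ?_ ?_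
      · intro S hS
        simp only [B, Finset.mem_filter, Finset.mem_powerset] at hS
        simp only [Finset.mem_filter, Finset.mem_powerset, hc]
        exact ⟨fun x hx => by
          rcases Finset.mem_symmDiff.mp hx with h | h
          · exact hS.1 h.1
          · exact hTU v h.1, hS.2⟩
      · intro S hS
        simp only [Finset.mem_filter, Finset.mem_powerset] at hS
        simp only [B, Finset.mem_filter, Finset.mem_powerset, ← hc]
        refine ⟨fun x hx => ?_, by rw [symmDiff_assoc, symmDiff_self, symmDiff_bot]; exact hS.2⟩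
        rcases Finset.mem_symmDiff.mp hx with h | h
        · exact hS.1 h.1
        · exact hTU v h.1
      · intro S _; exact symmDiff_symmDiff_cancel_right _ _
      · intro S _; exact symmDiff_symmDiff_cancel_right _ _
    have hdisj : (CF : Set (Fin 24 → ZMod 2)).PairwiseDisjoint B := by
      intro v hv v' hv' hne
      rw [Function.onFun, Finset.disjoint_left]
      intro S hS hS'
      simp only [B, Finset.mem_filter] at hS hS'
      have hd : v + v' ≠ 0 := by
        intro h; apply hne
        funext i
        have := congrFun h i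
        simp only [Pi.add_apply, Pi.zero_apply] at this
        exact CharTwo.add_eq_zero.mp this
      have := hmin _ (C.add_mem ((hmemCF v).mp hv) ((hmemCF v').mp hv')) hd
      rw [hnorm] at this
      have hsub : sp (v + v') ⊆ ((S \ T v) ∪ (T v \ S)) ∪ ((S \ T v') ∪ (T v' \ S)) ∪ {a} := by
        intro x hx
        rw [show sp (v + v') = _ from supp_add v v'] at hx
        simp only [T, sp, Finset.mem_union, Finset.mem_sdiff, Finset.mem_erase, Finset.mem_singleton] at hx ⊢
        by_cases hxa : x = a
        · exact Or.inr hxa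
        · by_cases hxS : x ∈ S <;> simp [hxa, hxS] at * <;> tauto
      have h1 := Finset.card_le_card hsub
      have h2 := Finset.card_union_le (((S \ T v) ∪ (T v \ S)) ∪ ((S \ T v') ∪ (T v' \ S))) {a}
      have h3 := Finset.card_union_le ((S \ T v) ∪ (T v \ S)) ((S \ T v') ∪ (T v' \ S))
      have h4 := Finset.card_union_le (S \ T v) (T v \ S)
      have h5 := Finset.card_union_le (S \ T v') (T v' \ S)
      simp only [Finset.card_singleton] at h2
      omega
    have hcover : CF.biUnion B = U.powerset := by
      apply Finset.eq_of_subset_of_card_le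
      · intro S hS
        obtain ⟨v, _, hv⟩ := Finset.mem_biUnion.mp hS
        exact (Finset.mem_filter.mp hv).1
      · rw [Finset.card_biUnion hdisj, Finset.sum_congr rfl (fun v _ => hBcard v), Finset.sum_const,
          hCF, Finset.card_powerset, hU, smul_eq_mul]
        norm_num
    have count : ∀ k, Nat.choose 23 k = ∑ v ∈ CF, nNear k (T v).card := by
      intro k
      have e : U.powersetCard k = CF.biUnion (fun v => (B v).filter fun S => S.card = k) := by
        ext S
        rw [← Finset.filter_biUnion, hcover, Finset.powersetCard_eq_filter]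
      conv_lhs => rw [← hU, ← Finset.card_powersetCard, e, Finset.card_biUnion
        (hdisj.mono fun v => Finset.filter_subset _ _)]
      refine Finset.sum_congr rfl fun v _ => ?_
      rw [← card_near U (T v) hU (hTU v) k]
      congr 1
      ext S
      simp only [B, Finset.mem_filter, Finset.mem_powerset, Finset.mem_powersetCard]
      tauto
    have h4 := count 4
    have h5 := count 5
    have h6 := count 6
    rw [Finset.sum_congr rfl (fun v hv => nNear_four _ (hTrange v hv).1 (hTrange v hv).2)] at h4
    rw [Finset.sum_congr rfl (fun v hv => nNear_five _ (hTrange v hv).1 (hTrange v hv).2)] at h5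
    rw [Finset.sum_congr rfl (fun v hv => nNear_six _ (hTrange v hv).1 (hTrange v hv).2)] at h6
    simp only [Finset.sum_add_distrib, ← Finset.sum_filter, Finset.sum_const, smul_eq_mul] at h4 h5 h6
    have hw9 : (T w).card = 9 := by
      have := Finset.card_erase_add_one ha
      simp only [T]; omega
    have hpos : 0 < (CF.filter fun v => (T v).card = 9).card :=
      Finset.card_pos.mpr ⟨w, Finset.mem_filter.mpr ⟨(hmemCF w).mpr hw, hw9⟩⟩
    have c4 : Nat.choose 23 4 = 8855 := by decide +kernel
    have c5 : Nat.choose 23 5 = 33649 := by decide +kernel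
    have c6 : Nat.choose 23 6 = 100947 := by decide +kernel
    omega
  intro w hw
  rw [hnorm]
  by_contra h4
  have he := heven w hw
  have h24 : (sp w).card ≤ 24 := (Finset.card_le_univ _).trans_eq (Fintype.card_fin 24)
  have hw0 : w ≠ 0 := by rintro rfl; simp [sp] at h4
  have h8 := hmin w hw hw0
  rw [hnorm] at h8
  have hc : (sp (w + 1)).card + (sp w).card = 24 := by
    have key : ∀ a : ZMod 2, a + 1 ≠ 0 ↔ ¬ a ≠ 0 := by decide
    have : sp (w + 1) = (sp w)ᶜ := by
      ext i; simp only [sp, Finset.mem_filter, Finset.mem_compl, Finset.mem_univ, true_and, Pi.add_apply, Pi.one_apply, key]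
    rw [this, Finset.card_compl_add_card, Fintype.card_fin]
  have hw1 := C.add_mem hw hones
  have h10 := hten w hw
  have h10' := hten _ hw1
  by_cases hz : w + 1 = 0
  · have : (sp 0).card = 0 := by simp [sp]
    rw [hz] at hc; omega
  have h8' := hmin _ hw1 hz
  rw [hnorm] at h8'
  omega

end Cfsg.Agent.S5621
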