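import Cfsg.Statements.S5625
import Cfsg.Agent.Lib.Steiner.Basic
-- import your own Cfsg.Agent.* helpers here

set_option autoImplicit false
open Cfsg

namespace Cfsg.Agent.S5625

/-- In any Steiner system S(5, 8, 24) and for any set Y of three points, the blocks meeting Y in exactly 3, 2, 1 and 0 points number 21, 168, 360 and 210 respectively (so there are 759 blocks in all). -/
theorem result (α : Type*) [Fintype α] [DecidableEq α] (hα : Fintype.card α = 24) (B : Set (Finset α)) (hB : Cfsg.IsSteinerSystem 5 8 B) (Y : Finset α) (hY : Y.card = 3) : {b : Finset α | b ∈ B ∧ (b ∩ Y).card = 3}.ncard = 21 ∧ {b : Finset α | b ∈ B ∧ (b ∩ Y).card = 2}.ncard = 168 ∧ {b : Finset α | b ∈ B ∧ (b ∩ Y).card = 1}.ncard = 360 ∧ {b : Finset α | b ∈ B ∧ (b ∩ Y).card = 0}.ncard = 210 := by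
  classical
  open Cfsg.Agent.Steiner in
  have key : ∀ m : ℕ, m ≤ 3 → ∀ L : ℕ, L * (8 - m).choose (5 - m) = (24 - m).choose (5 - m) →
      ∑ c ∈ blocks B, ((Y ∩ c).card).choose m = Nat.choose 3 m * L := by
    intro m hm L hL
    have hpos : 0 < (8 - m).choose (5 - m) := Nat.choose_pos (by omega)
    have h := sum_choose (B := B) Y ∅ m L (fun e he _ => by
      have := card_sup hB e (by omega)
      rw [he, hα] at this
      rw [Finset.empty_union]
      exact Nat.eq_of_mul_eq_mul_right hpos (this.trans hL.symm))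
    simpa [hY] using h
  open Cfsg.Agent.Steiner in
  have hval : ∀ m : ℕ, ∑ c ∈ blocks B, ((Y ∩ c).card).choose m =
      ∑ j ∈ Finset.range 4, ((blocks B).filter fun c => (Y ∩ c).card = j).card * j.choose m :=
    fun m => sum_by_value _ _ 4 m (fun c _ => by
      have := Finset.card_le_card (Finset.inter_subset_left (s₁ := Y) (s₂ := c))
      omega)
  open Cfsg.Agent.Steiner in
  have hset : ∀ j : ℕ, {b : Finset α | b ∈ B ∧ (b ∩ Y).card = j}.ncard =
      ((blocks B).filter fun c => (Y ∩ c).card = j).card := by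
    intro j
    rw [← Set.ncard_coe_finset]
    congr 1
    ext c
    simp [mem_blocks, Finset.inter_comm]
  open Cfsg.Agent.Steiner in
  have h0 := (hval 0).symm.trans (key 0 (by norm_num) 759 (by decide +kernel))
  open Cfsg.Agent.Steiner in
  have h1 := (hval 1).symm.trans (key 1 (by norm_num) 253 (by decide +kernel))
  open Cfsg.Agent.Steiner in
  have h2 := (hval 2).symm.trans (key 2 (by norm_num) 77 (by decide +kernel))
  open Cfsg.Agent.Steiner in
  have h3 := (hval 3).symm.trans (key 3 (by norm_num) 21 (by decide +kernel))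
  simp only [Finset.sum_range_succ, Finset.sum_range_zero, Nat.choose, mul_one, mul_zero, add_zero, zero_add] at h0 h1 h2 h3
  rw [hset, hset, hset, hset]
  omega

end Cfsg.Agent.S5625
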