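import Cfsg.Statements.S5632
import Cfsg.Agent.Lib.Classical.Transvec

set_option autoImplicit false
open Cfsg

namespace Cfsg.Agent.S5632

theorem mem_sl {F : Type*} [Field F] {n : ℕ} {g : GL (Fin n) F} : g ∈ Cfsg.Geo.specialLinear (Fin n) F ↔ Matrix.GeneralLinearGroup.det g = 1 := Iff.rfl

theorem mem_stab {F : Type*} [Field F] {n : ℕ} {g : GL (Fin n) F} {W : Submodule F (Fin n → F)} :
    g ∈ Cfsg.Geo.subspaceStabilizer W ↔ ∀ v, v ∈ W ↔ Matrix.mulVec (g : Matrix (Fin n) (Fin n) F) v ∈ W := Iff.rfl


/-- For a finite field F and subspaces 0 < W < U of F^n with dim W + dim U = n, the elements of SL_n(F) stabilising both W and U form a subgroup that is not maximal in SL_n(F): some subgroup lies strictly between it and SL_n(F). -/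
theorem result {F : Type*} [Field F] [Fintype F] (n : ℕ) (W U : Submodule F (Fin n → F)) (hW0 : W ≠ ⊥) (hWU : W < U) (hdim : Module.finrank F W + Module.finrank F U = n) : ∃ K : Subgroup (Matrix.GeneralLinearGroup (Fin n) F), Cfsg.Geo.subspaceStabilizer W ⊓ Cfsg.Geo.subspaceStabilizer U ⊓ Cfsg.Geo.specialLinear (Fin n) F < K ∧ K < Cfsg.Geo.specialLinear (Fin n) F := by
  classical
  refine ⟨Cfsg.Geo.subspaceStabilizer W ⊓ Cfsg.Geo.specialLinear (Fin n) F, ?_, ?_⟩
  · refine lt_of_le_of_ne (fun g hg => ⟨hg.1.1, hg.2⟩) fun heq => ?_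
    obtain ⟨u, huU, huW⟩ := SetLike.exists_of_lt hWU
    obtain ⟨z, hzU⟩ : ∃ z, z ∉ U := by
      by_contra h
      push Not at h
      have : U = ⊤ := Submodule.eq_top_iff'.2 h
      rw [this, finrank_top, Module.finrank_fin_fun] at hdim
      have := Submodule.finrank_eq_zero.1 (show Module.finrank F W = 0 by omega)
      exact hW0 this
    have hu : u ∉ W ⊔ Submodule.span F {z} := by
      intro h
      obtain ⟨w, hw, t, ht, rfl⟩ := Submodule.mem_sup.1 h
      obtain ⟨c, rfl⟩ := Submodule.mem_span_singleton.1 ht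
      by_cases hc : c = 0
      · exact huW (by simpa [hc] using hw)
      · have : c • z ∈ U := by simpa using U.sub_mem huU (hWU.le hw)
        exact hzU ((Submodule.smul_mem_iff U hc).1 this)
    obtain ⟨f, hfu, hf⟩ := Classical.exists_dual_one hu
    have hfz : f z = 0 := hf z (Submodule.mem_sup_right (Submodule.mem_span_singleton_self z))
    let g := Classical.transGL f z hfz
    have hg : g ∈ Cfsg.Geo.subspaceStabilizer W ⊓ Cfsg.Geo.specialLinear (Fin n) F := by
      refine ⟨mem_stab.2 fun v => ?_, mem_sl.2 (Classical.det_transGL f z hfz)⟩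
      rw [Classical.transGL_apply]
      constructor
      · intro hv; rw [hf v (Submodule.mem_sup_left hv), zero_smul, add_zero]; exact hv
      · intro hv
        have h0 := hf _ (Submodule.mem_sup_left hv)
        simp only [map_add, map_smul, hfz, smul_zero, add_zero] at h0
        simpa [h0] using hv
    rw [← heq] at hg
    have := ((mem_stab (W := U)).1 hg.1.2 u).1 huU
    rw [Classical.transGL_apply, hfu, one_smul] at this
    exact hzU (by simpa using U.sub_mem this huU)
  · refine lt_of_le_of_ne inf_le_right fun heq => ?_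
    obtain ⟨w, hw, hw0⟩ := Submodule.exists_mem_ne_zero_of_ne_bot hW0
    obtain ⟨z, hzW⟩ := SetLike.exists_of_lt hWU
    have hw' : w ∉ Submodule.span F {z} := by
      intro h
      obtain ⟨c, rfl⟩ := Submodule.mem_span_singleton.1 h
      by_cases hc : c = 0
      · exact hw0 (by simp [hc])
      · exact hzW.2 ((Submodule.smul_mem_iff W hc).1 hw)
    obtain ⟨f, hfw, hf⟩ := Classical.exists_dual_one hw'
    have hfz : f z = 0 := hf z (Submodule.mem_span_singleton_self z)
    have hg : Classical.transGL f z hfz ∈ Cfsg.Geo.subspaceStabilizer W ⊓ Cfsg.Geo.specialLinear (Fin n) F :=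
      heq.ge (mem_sl.2 (Classical.det_transGL f z hfz))
    have := ((mem_stab (W := W)).1 hg.1 w).1 hw
    rw [Classical.transGL_apply, hfw, one_smul] at this
    exact hzW.2 (by simpa using W.sub_mem this hw)

end Cfsg.Agent.S5632
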