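import Cfsg.Statements.S5633
import Cfsg.Agent.Lib.Classical.Transvec

set_option autoImplicit false
open Cfsg

namespace Cfsg.Agent.S5633

theorem mem_sl {F : Type*} [Field F] {n : ℕ} {g : GL (Fin n) F} : g ∈ Cfsg.Geo.specialLinear (Fin n) F ↔ Matrix.GeneralLinearGroup.det g = 1 := Iff.rfl

theorem mem_stab {F : Type*} [Field F] {n : ℕ} {g : GL (Fin n) F} {W : Submodule F (Fin n → F)} :
    g ∈ Cfsg.Geo.subspaceStabilizer W ↔ ∀ v, v ∈ W ↔ Matrix.mulVec (g : Matrix (Fin n) (Fin n) F) v ∈ W := Iff.rfl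


/-- For a finite field F and complementary non-zero subspaces W ⊕ U = F^n with dim W < dim U, the elements of SL_n(F) stabilising both W and U form a subgroup that is not maximal in SL_n(F): some subgroup lies strictly between it and SL_n(F). -/
theorem result {F : Type*} [Field F] [Fintype F] (n : ℕ) (W U : Submodule F (Fin n → F)) (hW0 : W ≠ ⊥) (hWU : W ⊓ U = ⊥) (hWU' : W ⊔ U = ⊤) (hdim : Module.finrank F W < Module.finrank F U) : ∃ K : Subgroup (Matrix.GeneralLinearGroup (Fin n) F), Cfsg.Geo.subspaceStabilizer W ⊓ Cfsg.Geo.subspaceStabilizer U ⊓ Cfsg.Geo.specialLinear (Fin n) F < K ∧ K < Cfsg.Geo.specialLinear (Fin n) F := by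
  classical
  have hU0 : U ≠ ⊥ := fun h => by rw [h, finrank_bot] at hdim; omega
  obtain ⟨w, hw, hw0⟩ := Submodule.exists_mem_ne_zero_of_ne_bot hW0
  obtain ⟨u, hu, hu0⟩ := Submodule.exists_mem_ne_zero_of_ne_bot hU0
  have huW : u ∉ W := fun h => hu0 (by
    have : u ∈ W ⊓ U := ⟨h, hu⟩
    rwa [hWU, Submodule.mem_bot] at this)
  have hwU : w ∉ U := fun h => hw0 (by
    have : w ∈ W ⊓ U := ⟨hw, h⟩
    rwa [hWU, Submodule.mem_bot] at this)
  -- a transvection fixing the subspace A pointwise, moving b along z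
  have key : ∀ (A : Submodule F (Fin n → F)) (b z : Fin n → F), b ∉ A → z ∈ A →
      ∃ g ∈ Cfsg.Geo.specialLinear (Fin n) F, g ∈ Cfsg.Geo.subspaceStabilizer A ∧
        Matrix.mulVec (g : Matrix (Fin n) (Fin n) F) b = b + z := by
    intro A b z hb hz
    obtain ⟨f, hfb, hf⟩ := Classical.exists_dual_one hb
    refine ⟨Classical.transGL f z (hf z hz), mem_sl.2 (Classical.det_transGL f z (hf z hz)), mem_stab.2 fun v => ?_, ?_⟩
    · rw [Classical.transGL_apply]
      exact ⟨fun hv => A.add_mem hv (A.smul_mem _ hz), fun hv => by simpa using A.sub_mem hv (A.smul_mem (f v) hz)⟩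
    · rw [Classical.transGL_apply, hfb, one_smul]
  refine ⟨Cfsg.Geo.subspaceStabilizer W ⊓ Cfsg.Geo.specialLinear (Fin n) F, ?_, ?_⟩
  · refine lt_of_le_of_ne (fun g hg => ⟨hg.1.1, hg.2⟩) fun heq => ?_
    obtain ⟨g, hs, hst, hgu⟩ := key W u w huW hw
    have hg : g ∈ Cfsg.Geo.subspaceStabilizer W ⊓ Cfsg.Geo.specialLinear (Fin n) F := ⟨hst, hs⟩
    rw [← heq] at hg
    have := ((mem_stab (W := U)).1 hg.1.2 u).1 hu
    rw [hgu] at this
    exact hwU (by simpa using U.sub_mem this hu)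
  · refine lt_of_le_of_ne inf_le_right fun heq => ?_
    obtain ⟨g, hs, -, hgw⟩ := key U w u hwU hu
    rw [← heq] at hs
    have := ((mem_stab (W := W)).1 hs.1 w).1 hw
    rw [hgw] at this
    exact huW (by simpa using W.sub_mem this hw)

end Cfsg.Agent.S5633
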