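import Cfsg.Statements.S5635
import Cfsg.Agent.Lib.Classical.NotMaxWreath

set_option autoImplicit false
open Cfsg

open Cfsg.Agent.Classical
open Module

namespace Cfsg.Agent.S5635

/-- For a finite field F with q elements and n ≥ 13, let D be a decomposition of F^n into t ≥ 2 independent subspaces of equal dimension m spanning F^n, where m = 1 and q ≤ 4, or m = 2 and q = 2. Then the elements of SL_n(F) permuting the members of D form a subgroup that is not maximal: some subgroup lies strictly between it and SL_n(F). -/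
theorem result {F : Type*} [Field F] [Fintype F] (n : ℕ) (hn : 13 ≤ n) {t : ℕ} (m : ℕ) (D : Fin t → Submodule F (Fin n → F)) (hD : Cfsg.Geo.IsMDecomposition m D) (h : (m = 1 ∧ Fintype.card F ≤ 4) ∨ (m = 2 ∧ Fintype.card F = 2)) : ∃ K : Subgroup (Matrix.GeneralLinearGroup (Fin n) F), Cfsg.Geo.decompositionStabilizer D ⊓ Cfsg.Geo.specialLinear (Fin n) F < K ∧ K < Cfsg.Geo.specialLinear (Fin n) F := by
  classical
  obtain ⟨-, hpos, hdim, hind, hspan⟩ := hD
  have hint : DirectSum.IsInternal D := DirectSum.isInternal_submodule_of_iSupIndep_of_iSup_eq_top hind hspan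
  let v : ∀ i, Basis (Fin m) F (D i) := fun i => Module.finBasisOfFinrankEq F (D i) (hdim i)
  obtain ⟨b, hb, hb0⟩ : ∃ b : Basis (Σ _ : Fin t, Fin m) F (Fin n → F),
      (∀ s, b s ∈ D s.1) ∧ ∀ i, ∀ u ∈ D i, ∀ j k, i ≠ j → b.repr u ⟨j, k⟩ = 0 :=
    ⟨hint.collectedBasis v, hint.collectedBasis_mem v,
      fun i u hu j k hij => DirectSum.IsInternal.collectedBasis_repr_of_mem_ne hint v hij hu⟩
  have hnt : n = t * m := by
    have h1 := Module.finrank_eq_card_basis b
    simpa [Fintype.card_sigma] using h1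
  let c : (Fin n → F) ≃ₗ[F] (Fin t → Fin m → F) :=
    b.equivFun.trans
      { toFun := fun f i k => f ⟨i, k⟩
        map_add' := fun _ _ => rfl
        map_smul' := fun _ _ => rfl
        invFun := fun x s => x s.1 s.2
        left_inv := fun f => funext fun ⟨_, _⟩ => rfl
        right_inv := fun _ => rfl }
  have hsupp : ∀ i, ∀ v ∈ D i, c v = Pi.single i (c v i) := by
    intro i v hv
    funext j
    rcases eq_or_ne j i with rfl | hj
    · rw [Pi.single_eq_same]
    · rw [Pi.single_eq_of_ne hj]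
      funext k
      show b.repr v ⟨j, k⟩ = 0
      exact hb0 i v hv j k hj.symm
  have hback : ∀ i y, c.symm (Pi.single i y) ∈ D i := by
    intro i y
    show b.equivFun.symm (fun s => (Pi.single i y : Fin t → Fin m → F) s.1 s.2) ∈ D i
    rw [Basis.equivFun_symm_apply]
    refine Submodule.sum_mem _ fun s _ => ?_
    obtain ⟨j, k⟩ := s
    rcases eq_or_ne j i with rfl | hj
    · exact (D j).smul_mem _ (hb ⟨j, k⟩)
    · rw [Pi.single_eq_of_ne hj, Pi.zero_apply, zero_smul]
      exact Submodule.zero_mem _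
  refine NotMaxWreath.exists_between (by omega) (by rcases h with ⟨rfl, -⟩ | ⟨rfl, -⟩ <;> omega) c h _ fun g hg => ?_
  obtain ⟨σ, hσ⟩ := hg
  refine ⟨σ, fun i y => ⟨_, hsupp (σ i) _ ?_⟩⟩
  rw [← hσ i]
  exact ⟨_, hback i y, Matrix.toLin'_apply _ _⟩

end Cfsg.Agent.S5635
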