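import Cfsg.Statements.S5638


set_option autoImplicit false
open Cfsg

open Matrix
open scoped Kronecker

namespace Cfsg.Agent.S5638

/-- Over the field with 2 elements, for n = 2 n₂ ≥ 13, the stabiliser in SL_n of a tensor decomposition with factors of dimensions 2 and n₂ (the conjugate by any P of the Kronecker-product subgroup transported along any bijection Fin n ≃ Fin 2 × Fin n₂, intersected with SL_n) is not a maximal subgroup: some subgroup lies strictly between it and SL_n. -/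
theorem result {F : Type*} [Field F] [Fintype F] (n : ℕ) (hn : 13 ≤ n) (hq : Fintype.card F = 2) (n₂ : ℕ) (e : Fin n ≃ Fin 2 × Fin n₂) (P : Matrix.GeneralLinearGroup (Fin n) F) : ∃ K : Subgroup (Matrix.GeneralLinearGroup (Fin n) F), Cfsg.Geo.tensorProductSubgroup 2 n₂ e P ⊓ Cfsg.Geo.specialLinear (Fin n) F < K ∧ K < Cfsg.Geo.specialLinear (Fin n) F := by
  classical
  have hF : ∀ x : F, x = 0 ∨ x = 1 := fun x => by
    by_contra h
    push Not at h
    have := Finset.card_le_univ ({0, 1, x} : Finset F)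
    rw [hq, Finset.card_insert_of_notMem (by simp [h.1.symm]), Finset.card_insert_of_notMem (by simp [h.2.symm]),
      Finset.card_singleton] at this
    omega
  have h11 : (1 : F) + 1 = 0 := (hF (1 + 1)).resolve_right fun h => one_ne_zero (α := F) (by simp at h)
  have hsl : ∀ g : GL (Fin n) F, g ∈ Cfsg.Geo.specialLinear (Fin n) F := fun g =>
    MonoidHom.mem_ker.2 (Units.ext ((hF _).resolve_left (Units.ne_zero _)))
  have hcard : n = 2 * n₂ := by simpa using Fintype.card_congr e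
  obtain ⟨i, j, hij⟩ : ∃ i j : Fin n₂, i ≠ j := ⟨⟨0, by omega⟩, ⟨1, by omega⟩, by simp [Fin.ext_iff]⟩
  set C : Matrix (Fin 2) (Fin 2) F := !![0, 1; 1, 1] with hC
  set X : Matrix (Fin 2 × Fin n₂) (Fin 2 × Fin n₂) F := C ⊗ₖ (1 : Matrix (Fin n₂) (Fin n₂) F) with hX
  have hXX : ∀ A : Matrix (Fin 2 × Fin n₂) (Fin 2 × Fin n₂) F, A + A = 0 := fun A => by
    ext a b
    simp only [Matrix.add_apply, Matrix.zero_apply]
    rw [← mul_one (A a b), ← mul_add, h11, mul_zero]
  let N : Subgroup (GL (Fin 2 × Fin n₂) F) :=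
    { carrier := {g | (g : Matrix (Fin 2 × Fin n₂) (Fin 2 × Fin n₂) F) * X = X * (g : Matrix (Fin 2 × Fin n₂) (Fin 2 × Fin n₂) F) ∨
        (g : Matrix (Fin 2 × Fin n₂) (Fin 2 × Fin n₂) F) * X = (X + 1) * (g : Matrix (Fin 2 × Fin n₂) (Fin 2 × Fin n₂) F)}
      one_mem' := Or.inl (by simp)
      mul_mem' := by
        rintro g h hg hh
        show _ ∨ _
        simp only [Units.val_mul, mul_assoc]
        rcases hh with hh | hh <;> rw [hh] <;> rcases hg with hg | hg
        · left; rw [← mul_assoc, hg, mul_assoc]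
        · right; rw [← mul_assoc, hg, mul_assoc]
        · right; rw [← mul_assoc, mul_add, mul_one, hg, add_mul, add_mul, one_mul, mul_assoc]
        · left
          rw [← mul_assoc, mul_add, mul_one, hg, add_mul, add_mul, one_mul, add_mul, add_assoc, hXX, add_zero, mul_assoc]
      inv_mem' := by
        rintro g hg
        show _ ∨ _
        rcases hg with hg | hg
        · left
          have := congrArg (fun z => ((g⁻¹ : GL (Fin 2 × Fin n₂) F) : Matrix (Fin 2 × Fin n₂) (Fin 2 × Fin n₂) F) * z *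
            ((g⁻¹ : GL (Fin 2 × Fin n₂) F) : Matrix (Fin 2 × Fin n₂) (Fin 2 × Fin n₂) F)) hg
          simpa [mul_assoc] using this.symm
        · right
          have := congrArg (fun z => ((g⁻¹ : GL (Fin 2 × Fin n₂) F) : Matrix (Fin 2 × Fin n₂) (Fin 2 × Fin n₂) F) * z *
            ((g⁻¹ : GL (Fin 2 × Fin n₂) F) : Matrix (Fin 2 × Fin n₂) (Fin 2 × Fin n₂) F)) hg
          simp only [← mul_assoc, Units.inv_mul, one_mul] at this
          simp only [mul_assoc, Units.mul_inv, mul_one, mul_add] at this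
          rw [add_mul, one_mul, this, add_assoc, hXX, add_zero] }
  let Φ : GL (Fin 2 × Fin n₂) F →* GL (Fin n) F :=
    (MulAut.conj P).toMonoidHom.comp (Cfsg.Geo.glReindex e.symm).toMonoidHom
  have hΦ : Function.Injective Φ := (MulAut.conj P).injective.comp (Cfsg.Geo.glReindex e.symm).injective
  have hT : Cfsg.Geo.tensorProductSubgroup 2 n₂ e P = (Cfsg.Geo.kroneckerSubgroup 2 n₂ F).map Φ :=
    Subgroup.map_map _ _ _
  have hle : Cfsg.Geo.kroneckerSubgroup 2 n₂ F ≤ N := by
    rintro g ⟨a, b, hg⟩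
    show _ ∨ _
    have hdet : (a : Matrix (Fin 2) (Fin 2) F).det ≠ 0 :=
      ((Matrix.isUnit_iff_isUnit_det _).1 a.isUnit).ne_zero
    have key : (a : Matrix (Fin 2) (Fin 2) F) * C = C * a ∨ (a : Matrix (Fin 2) (Fin 2) F) * C = (C + 1) * a := by
      generalize (a : Matrix (Fin 2) (Fin 2) F) = A at hdet
      rw [Matrix.det_fin_two] at hdet
      rw [Matrix.eta_fin_two A, hC, Matrix.one_fin_two]
      rcases hF (A 0 0) with e1 | e1 <;> rcases hF (A 0 1) with e2 | e2 <;> rcases hF (A 1 0) with e3 | e3 <;>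
        rcases hF (A 1 1) with e4 | e4 <;> simp [e1, e2, e3, e4, h11] at hdet ⊢
    rw [hg, hX, ← Matrix.mul_kronecker_mul, mul_one, ← Matrix.mul_kronecker_mul, one_mul, ← Matrix.one_kronecker_one,
      ← Matrix.add_kronecker, ← Matrix.mul_kronecker_mul, one_mul]
    exact key.imp (fun h => by rw [h]) fun h => by rw [h]
  have hu : ∀ A B : Matrix (Fin 2 × Fin n₂) (Fin 2 × Fin n₂) F, A * A = 0 → B = 1 + A → IsUnit B := fun A B h hB => by
    refine ⟨⟨B, B, ?_, ?_⟩, rfl⟩ <;>
      rw [hB, add_mul, one_mul, mul_add, mul_one, h, add_zero, add_assoc, hXX, add_zero]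
  obtain ⟨g, hg⟩ : ∃ g : GL (Fin 2 × Fin n₂) F, (g : Matrix (Fin 2 × Fin n₂) (Fin 2 × Fin n₂) F) =
      1 + C ⊗ₖ Matrix.single i j (1 : F) := hu _ _ (by rw [← Matrix.mul_kronecker_mul]; simp [hij.symm]) rfl
  obtain ⟨t, ht⟩ : ∃ t : GL (Fin 2 × Fin n₂) F, (t : Matrix (Fin 2 × Fin n₂) (Fin 2 × Fin n₂) F) =
      1 + Matrix.single 0 0 (1 : F) ⊗ₖ Matrix.single i j (1 : F) :=
    hu _ _ (by rw [← Matrix.mul_kronecker_mul]; simp [hij.symm]) rfl
  refine ⟨N.map Φ, lt_of_le_of_ne (inf_le_left.trans (hT ▸ Subgroup.map_mono hle)) fun h => ?_,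
    lt_of_le_of_ne (fun x _ => hsl x) fun h => ?_⟩
  · have hgN : g ∈ N := Or.inl (by
      rw [hg, hX, add_mul, mul_add, one_mul, mul_one, ← Matrix.mul_kronecker_mul, ← Matrix.mul_kronecker_mul,
        mul_one, one_mul])
    have hm : Φ g ∈ Cfsg.Geo.tensorProductSubgroup 2 n₂ e P ⊓ Cfsg.Geo.specialLinear (Fin n) F :=
      h ▸ ⟨g, hgN, rfl⟩
    rw [hT] at hm
    obtain ⟨g', ⟨a, b, hab⟩, hg'⟩ := hm.1
    rw [hΦ hg', hg] at hab
    have e1 := congrFun (congrFun hab (0, i)) (0, i)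
    have e2 := congrFun (congrFun hab (0, i)) (0, j)
    have e3 := congrFun (congrFun hab (0, i)) (1, j)
    simp [hC, Matrix.kroneckerMap_apply, hij, hij.symm] at e1 e2 e3
    rcases hF ((b : Matrix (Fin n₂) (Fin n₂) F) i j) with hb | hb
    · simp [hb] at e3
    · rw [hb] at e2
      rcases hF ((a : Matrix (Fin 2) (Fin 2) F) 0 0) with ha | ha
      · simp [ha] at e1
      · simp [ha] at e2
  · have hm : Φ t ∈ N.map Φ := h.ge (hsl _)
    obtain ⟨t', ht', htt⟩ := hm
    rw [hΦ htt] at ht'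
    rcases ht' with ht' | ht' <;> rw [ht] at ht' <;>
      have e1 := congrFun (congrFun ht' (0, i)) (1, j) <;>
      simp [hX, hC, Matrix.mul_apply, Fintype.sum_prod_type, Fin.sum_univ_two, Matrix.kroneckerMap_apply,
        Matrix.one_apply, Matrix.single_apply, hij, hij.symm] at e1

end Cfsg.Agent.S5638
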