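import Cfsg.Statements.S5644
import Cfsg.Agent.Lib.Classical.MaxOrthSL
import Cfsg.Agent.Lib.Classical.MaxSymp

set_option autoImplicit false
open Cfsg

open Cfsg.Agent.Classical
open scoped Matrix
open MaxLin MaxOrthSL

namespace Cfsg.Agent.S5644

/-- For a finite field F of odd order and n ≥ 13, let Q be a non-degenerate quadratic form on F^n (its polar form is non-degenerate). Then the elements of SL_n(F) that are similarities of Q (Q(gv) = c Q(v) for a non-zero scalar c depending on g) form a maximal subgroup of SL_n(F). -/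
theorem result {F : Type*} [Field F] [Fintype F] (n : ℕ) (hn : 13 ≤ n) (hodd : Odd (Fintype.card F)) (Q : (Fin n → F) → F) (hQ : Cfsg.Geo.IsNondegenerateQuadraticForm Q) : Cfsg.Geo.IsMaximalIn (Cfsg.Geo.specialLinear (Fin n) F) (Cfsg.Geo.quadSimilarityGroup Q ⊓ Cfsg.Geo.specialLinear (Fin n) F) := by
  classical
  have h2 : (2 : F) ≠ 0 := by
    refine Ring.two_ne_zero fun hc => ?_
    haveI := ringChar.charP F
    have := FiniteField.even_card_iff_char_two.1 hc
    rw [Nat.odd_iff] at hodd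
    omega
  set B := bilinOf hQ.polar_bilinear with hB
  have hBa : ∀ x y, B x y = QuadraticMap.polar Q x y := fun x y => rfl
  have hq : QF Q B := ⟨hQ.smul, fun x y => by rw [hBa, QuadraticMap.polar]; ring, fun a ha => by
    by_contra h
    obtain ⟨u, hu⟩ := (hQ.nondegenerate a h).1
    exact hu (ha u)⟩
  have hc : 13 ≤ Fintype.card (Fin n) := by simpa using hn
  haveI : Nonempty (Fin n) := ⟨⟨0, by omega⟩⟩
  refine MaxLin.isMaximalIn_specialLinear (fun h => ?_) fun M h1 _ h3 => ?_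
  · obtain ⟨a, ha0, ha, -, -⟩ := exists_zero h2 hq hq (![] : Fin 0 → Module.Dual F (Fin n → F)) (by omega)
    obtain ⟨h0, hns⟩ := sim_not_top hq (by omega) ha0 ha
    obtain ⟨c, hc⟩ := h (transGL_mem_sl _ _ h0)
    exact hns ⟨c, c.ne_zero, hc⟩
  obtain ⟨g, hg, hgK⟩ := h3
  haveI : Nontrivial (Fin n) := Fin.nontrivial_iff_two_le.2 (by omega)
  have hM : ∀ a b ha hab, sG hq a b ha hab ∈ M := fun a b ha hab =>
    h1 (Subgroup.mem_inf.2 ⟨⟨1, fun x => by rw [sG_iso hq, Units.val_one, one_mul]⟩, sG_sl hq a b ha hab⟩)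
  have hq' := hq.comp g
  have hM' : ∀ a b ha hab, sG hq' a b ha hab ∈ M := by
    intro a b ha hab
    have hab' : B (((g⁻¹ : GL (Fin n) F) : Matrix (Fin n) (Fin n) F) *ᵥ a)
        (((g⁻¹ : GL (Fin n) F) : Matrix (Fin n) (Fin n) F) *ᵥ b) = 0 := hab
    have he : sG hq' a b ha hab = g * sG hq _ _ ha hab' * g⁻¹ := by
      refine gl_ext fun x => ?_
      rw [Units.val_mul, Units.val_mul, ← Matrix.mulVec_mulVec, ← Matrix.mulVec_mulVec, sG_apply, sG_apply,
        Matrix.mulVec_sub, Matrix.mulVec_add, Matrix.mulVec_smul, Matrix.mulVec_smul, gl_inv_mulVec, gl_inv_mulVec,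
        gl_inv_mulVec]
      rfl
    rw [he]
    exact mul_mem (mul_mem hg (hM _ _ _ _)) (inv_mem hg)
  rcases exists_transv h2 hq hc hq' hM hM' with ⟨a, ω, ha0, ha, hωa, hω, hT⟩ | ⟨c, hc0, hp⟩
  · exact specialLinear_le (all_transv h2 hq hc hM ha0 ha hω hT)
  · refine absurd ⟨Units.mk0 c⁻¹ (inv_ne_zero hc0), fun v => ?_⟩ hgK
    have := hp ((g : Matrix (Fin n) (Fin n) F) *ᵥ v)
    rw [gl_inv_mulVec'] at this
    rw [Units.val_mk0, this, inv_mul_cancel_left₀ hc0]

end Cfsg.Agent.S5644
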