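import Cfsg.Statements.S5646
import Cfsg.Agent.Lib.Classical.MaxSubspace

set_option autoImplicit false
open Cfsg

open Cfsg.Agent.Classical

namespace Cfsg.Agent.S5646

/-- For a finite field F and m ≥ 7, in the symplectic group Sp_2m(F) of the standard alternating form on F^(2m), the stabiliser of any non-zero subspace W on which the form is non-degenerate and with dim W < m is a maximal subgroup. -/
theorem result {F : Type*} [Field F] [Fintype F] (m : ℕ) (hm : 7 ≤ m) (W : Submodule F (Fin m ⊕ Fin m → F)) (hW0 : W ≠ ⊥) (hW : Cfsg.Geo.IsNondegenerateOn (Cfsg.sympForm m F) W) (hdim : Module.finrank F W < m) : Cfsg.Geo.IsMaximalIn (Cfsg.spGL m F) (Cfsg.Geo.subspaceStabilizer W ⊓ Cfsg.spGL m F) := by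
  have hnd := Sp.sympB_nondeg (F := F) m
  have hW1 : W ≠ ⊤ := fun e => by
    rw [e, finrank_top, Sp.finrank_space] at hdim
    omega
  exact MaxSub.isMaximalIn_of (MaxSub.stab_ne_top _ (Sp.sympB_isAlt m) hnd hW0 hW1)
    fun M h1 h2 => MaxSub.nondeg_max _ (Sp.sympB_isAlt m) hnd (fun w hw h0 => by simpa only [Sp.sympB_apply] using (hW w hw h0).2)
      (by rw [Sp.finrank_space]; omega) h1 h2

end Cfsg.Agent.S5646
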