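import Cfsg.Statements.S5647
import Cfsg.Agent.Lib.Classical.MaxDecomp

set_option autoImplicit false
open Cfsg

open Cfsg.Agent.Classical

namespace Cfsg.Agent.S5647

/-- For a finite field F with q elements and m ≥ 7, let D be a decomposition of F^(2m) into t ≥ 2 pairwise orthogonal subspaces of equal dimension k on each of which the standard alternating form is non-degenerate, spanning F^(2m). Unless k = 2 and q = 2, the elements of Sp_2m(F) permuting the members of D form a maximal subgroup of Sp_2m(F). -/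
theorem result {F : Type*} [Field F] [Fintype F] (m : ℕ) (hm : 7 ≤ m) {t : ℕ} (k : ℕ) (D : Fin t → Submodule F (Fin m ⊕ Fin m → F)) (hD : Cfsg.Geo.IsNondegenerateMDecomposition (Cfsg.sympForm m F) k D) (hex : ¬ (k = 2 ∧ Fintype.card F = 2)) : Cfsg.Geo.IsMaximalIn (Cfsg.spGL m F) (Cfsg.Geo.decompositionStabilizer D ⊓ Cfsg.spGL m F) := by
  classical
  have hA := Sp.sympB_isAlt (F := F) m
  have hB := Sp.sympB_nondeg (F := F) m
  set B := Sp.sympB F m with hBdef
  have hnd : ∀ i, ∀ w ∈ D i, w ≠ 0 → ∃ x ∈ D i, B w x ≠ 0 := fun i w hw h0 => by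
    simpa only [hBdef, Sp.sympB_apply] using (hD.nondegenerate i w hw h0).2
  have horth : ∀ i j, i ≠ j → ∀ u ∈ D i, ∀ v ∈ D j, B u v = 0 := fun i j hij u hu v hv => by
    simpa only [hBdef, Sp.sympB_apply] using hD.orthogonal i j hij u hu v hv
  have hrk := hD.decomp.finrank_eq
  have hk := hD.decomp.pos
  have hpair : ∀ i, ∃ a b : D i, a ≠ 0 ∧ b ≠ 0 ∧ a ≠ b ∧ B (a : Fin m ⊕ Fin m → F) (b : Fin m ⊕ Fin m → F) = 0 := by
    intro i
    haveI : Nontrivial (D i) := Module.nontrivial_of_finrank_pos (R := F) (by rw [hrk]; exact hk)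
    obtain ⟨a, ha⟩ := exists_ne (0 : D i)
    by_cases hq : ∀ c : F, c = 0 ∨ c = 1
    · have hk2 : k ≠ 1 := fun h1 => by
        obtain ⟨x, hx, hax⟩ := hnd i _ a.2 (fun e => ha (Subtype.ext e))
        obtain ⟨r, hr⟩ := (finrank_eq_one_iff_of_nonzero' a ha).1 (by rw [hrk, h1]) ⟨x, hx⟩
        have hxe : x = r • (a : Fin m ⊕ Fin m → F) := (congrArg Subtype.val hr).symm
        exact hax (by rw [hxe, map_smul, hA.self_eq_zero, smul_zero])
      have hcard : Fintype.card F = 2 := by
        rw [← Finset.card_univ, show (Finset.univ : Finset F) = {0, 1} from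
          Finset.ext fun c => by simpa using hq c]
        simp
      have hk3 : 3 ≤ k := by
        rcases Nat.lt_or_ge k 3 with h | h
        · exact absurd ⟨by omega, hcard⟩ hex
        · exact h
      obtain ⟨b, hb, hba⟩ : ∃ b ∈ LinearMap.ker ((B (a : Fin m ⊕ Fin m → F)).comp (D i).subtype),
          b ∉ Submodule.span F {a} := by
        refine SetLike.not_le_iff_exists.1 fun hle => ?_
        have h1 := Submodule.finrank_mono hle
        rw [finrank_span_singleton ha] at h1
        have h2 := ((B (a : Fin m ⊕ Fin m → F)).comp (D i).subtype).finrank_range_add_finrank_ker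
        have h3 : Module.finrank F (LinearMap.range ((B (a : Fin m ⊕ Fin m → F)).comp (D i).subtype)) ≤ 1 :=
          (Submodule.finrank_le _).trans (Module.finrank_self F).le
        rw [hrk] at h2
        omega
      exact ⟨a, b, ha, fun e => hba (e ▸ Submodule.zero_mem _),
        fun e => hba (e ▸ Submodule.mem_span_singleton_self a), LinearMap.mem_ker.1 hb⟩
    · push Not at hq
      obtain ⟨c, hc0, hc1⟩ := hq
      refine ⟨a, c • a, ha, smul_ne_zero hc0 ha, fun e => hc1 ?_, ?_⟩
      · exact smul_left_injective F ha (e.symm.trans (one_smul F a).symm)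
      · rw [Submodule.coe_smul, map_smul, hA.self_eq_zero, smul_zero]
  refine MaxSub.spGL_isMaximalIn (H := MaxSub.decStab B D) (fun A => Iff.rfl)
    (MaxSub.decStab_ne_top B D hA hB hnd horth hrk hk hD.decomp.indep hD.decomp.iSup_eq_top hD.decomp.two_le)
    fun M h1 h2 => MaxSub.decStab_max B D hA hB hnd horth hrk hk hD.decomp.indep hD.decomp.iSup_eq_top h1 h2
      hD.decomp.two_le hpair

end Cfsg.Agent.S5647
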