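import Cfsg.Statements.S5648
import Cfsg.Agent.Lib.Classical.NotMaxSympTwo

set_option autoImplicit false
open Cfsg

open Cfsg.Agent.Classical
open Module Matrix

namespace Cfsg.Agent.S5648

/-- Over the field with 2 elements and for m ≥ 7, let D be a decomposition of F^(2m) into t pairwise orthogonal non-degenerate 2-dimensional subspaces for the standard alternating form (t = m ≥ 2). Then the elements of Sp_2m(2) permuting the members of D form a subgroup that is not maximal: some subgroup lies strictly between it and Sp_2m(2). -/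
theorem result {F : Type*} [Field F] [Fintype F] (m : ℕ) (hm : 7 ≤ m) (hq : Fintype.card F = 2) {t : ℕ} (D : Fin t → Submodule F (Fin m ⊕ Fin m → F)) (hD : Cfsg.Geo.IsNondegenerateMDecomposition (Cfsg.sympForm m F) 2 D) : ∃ K : Subgroup (Matrix.GeneralLinearGroup (Fin m ⊕ Fin m) F), Cfsg.Geo.decompositionStabilizer D ⊓ Cfsg.spGL m F < K ∧ K < Cfsg.spGL m F := by
  classical
  have hdec := hD.decomp
  have hint := DirectSum.isInternal_submodule_of_iSupIndep_of_iSup_eq_top hdec.indep hdec.iSup_eq_top
  have hn' := Module.finrank_eq_card_basis (hint.collectedBasis fun i => Module.finBasisOfFinrankEq F (D i) (hdec.finrank_eq i))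
  simp [Fintype.card_sigma] at hn'
  let B : LinearMap.BilinForm F (Fin m ⊕ Fin m → F) :=
    LinearMap.mk₂ F (Cfsg.sympForm m F) (fun a b u => add_dotProduct a b _) (fun r a u => smul_dotProduct r a _)
      (fun u a b => by simp [Cfsg.sympForm, Matrix.mulVec_add, dotProduct_add])
      (fun r u a => by simp [Cfsg.sympForm, Matrix.mulVec_smul, dotProduct_smul])
  have h2 := NotMaxSymp.two_zero (F := F) hq
  refine NotMaxSymp.wreath_two hq B (fun v => ?_) (by omega) D hD (Cfsg.spGL m F) fun g => Iff.rfl
  show v ⬝ᵥ (Matrix.J (Fin m) F *ᵥ v) = 0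
  simp [dotProduct, Matrix.mulVec, Matrix.J, Fintype.sum_sum_type, Matrix.fromBlocks, Matrix.one_apply]
  rw [← Finset.sum_neg_distrib]
  rw [← Finset.sum_add_distrib]
  exact Finset.sum_eq_zero fun i _ => by ring

end Cfsg.Agent.S5648
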