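import Cfsg.Statements.S5649
import Cfsg.Agent.Lib.Classical.MaxPair

set_option autoImplicit false
open Cfsg

open Cfsg.Agent.Classical

namespace Cfsg.Agent.S5649

/-- For a finite field F of odd order and m ≥ 7, let D be a decomposition of F^(2m) into two complementary subspaces of dimension m on each of which the standard alternating form vanishes identically. Then the elements of Sp_2m(F) preserving or interchanging the two subspaces form a maximal subgroup of Sp_2m(F). -/
theorem result {F : Type*} [Field F] [Fintype F] (m : ℕ) (hm : 7 ≤ m) (hodd : Odd (Fintype.card F)) (D : Fin 2 → Submodule F (Fin m ⊕ Fin m → F)) (hD : Cfsg.Geo.IsMDecomposition m D) (hts : ∀ i, Cfsg.Geo.IsTotallySingularFor (Cfsg.sympForm m F) (D i)) : Cfsg.Geo.IsMaximalIn (Cfsg.spGL m F) (Cfsg.Geo.decompositionStabilizer D ⊓ Cfsg.spGL m F) := by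
  classical
  have hA := Sp.sympB_isAlt (F := F) m
  have hB := Sp.sympB_nondeg (F := F) m
  set B := Sp.sympB F m with hBdef
  have h2 : (2 : F) ≠ 0 := by
    intro h
    have hc : ringChar F = 2 := by
      have := ringChar.dvd (R := F) (x := 2) (by simpa using h)
      rcases (Nat.dvd_prime Nat.prime_two).1 this with h1 | h1
      · exact absurd h1 (CharP.ringChar_ne_one)
      · exact h1
    have := FiniteField.even_card_of_char_two hc
    exact Nat.not_even_iff_odd.2 hodd (Nat.even_iff.2 this)
  have hts' : ∀ i, ∀ u ∈ D i, ∀ v ∈ D i, B u v = 0 := fun i u hu v hv => by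
    rw [hBdef, Sp.sympB_apply]; exact hts i u hu v hv
  have hdD : D = ![D 0, D 1] := by funext i; fin_cases i <;> rfl
  have hcompl : IsCompl (D 0) (D 1) := by
    refine ⟨hD.indep.pairwiseDisjoint (by decide : (0 : Fin 2) ≠ 1), codisjoint_iff.2 (eq_top_iff.2 ?_)⟩
    rw [← hD.iSup_eq_top]
    exact iSup_le fun i => by fin_cases i <;> simp
  have hP : MaxSub.Pair B m (D 0) (D 1) := ⟨hts' 0, hts' 1, hcompl, hD.finrank_eq 0, hD.finrank_eq 1⟩
  refine MaxSub.spGL_isMaximalIn (H := MaxSub.pairStab B (D 0) (D 1)) (fun A => ?_)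
    (MaxSub.pairStab_ne_top B hA hB (by omega) h2 hP)
    fun M h1 h3 => MaxSub.pairStab_max B hA hB (by omega) hP h2 h1 h3
  show _ ↔ Sp.spGLEquiv m A ∈ MaxSub.decStab B ![D 0, D 1]
  rw [← hdD]
  exact Iff.rfl

end Cfsg.Agent.S5649
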