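import Cfsg.Statements.S5652
import Cfsg.Agent.Lib.Classical.MaxQuadForm

set_option autoImplicit false
open Cfsg

open Cfsg.Agent.Classical
open scoped Matrix

namespace Cfsg.Agent.S5652

/-- For a finite field F of characteristic two and m ≥ 7, let Q be a non-degenerate quadratic form on F^(2m) whose polar form is the standard alternating form. Then the elements of Sp_2m(F) that are similarities of Q (they are exactly the isometries of Q) form a maximal subgroup of Sp_2m(F). -/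
theorem result {F : Type*} [Field F] [Fintype F] (m : ℕ) (hm : 7 ≤ m) (heven : ¬ Odd (Fintype.card F)) (Q : (Fin m ⊕ Fin m → F) → F) (hQ : Cfsg.Geo.IsNondegenerateQuadraticForm Q) (hpol : ∀ u v, QuadraticMap.polar Q u v = Cfsg.sympForm m F u v) : Cfsg.Geo.IsMaximalIn (Cfsg.spGL m F) (Cfsg.Geo.quadSimilarityGroup Q ⊓ Cfsg.spGL m F) := by
  classical
  have hnd := Sp.sympB_nondeg (F := F) m
  have hA := Sp.sympB_isAlt (F := F) m
  have hchar : ringChar F = 2 := by
    by_contra h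
    exact heven (Nat.odd_iff.2 (FiniteField.odd_card_of_char_ne_two h))
  haveI : CharP F 2 := hchar ▸ ringChar.charP F
  have hsm : ∀ (c : F) v, Q (c • v) = c * c * Q v := fun c v => by rw [hQ.smul, sq]
  have hadd : ∀ x y, Q (x + y) = Q x + Q y + Sp.sympB F m x y := fun x y => by
    rw [Sp.sympB_apply, ← hpol, QuadraticMap.polar]; ring
  have hsq : ∀ a : F, ∃ b, b * b = a := fun a => by
    obtain ⟨b, hb⟩ := FiniteField.isSquare_of_char_two hchar a
    exact ⟨b, hb.symm⟩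
  have h3 : 3 < Module.finrank F (Fin m ⊕ Fin m → F) := by rw [Sp.finrank_space]; omega
  refine MaxSub.spGL_isMaximalIn (H := MaxSub.oGrp _ Q) (fun A => ⟨?_, fun h => ⟨1, fun v => by rw [Units.val_one, one_mul]; exact h v⟩⟩)
    (MaxSub.oGrp_ne_top _ hA hnd hsm hadd h3 hsq) (fun M h1 h2 => MaxSub.oGrp_max _ hA hnd hsm hadd h3 hsq h1 h2)
  rintro ⟨c, hc⟩ x
  obtain ⟨y, hy⟩ := hnd (Pi.single (Sum.inl ⟨0, by omega⟩) 1) (fun e => by simpa using congrFun e (Sum.inl ⟨0, by omega⟩))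
  set u : Fin m ⊕ Fin m → F := Pi.single (Sum.inl ⟨0, by omega⟩) 1
  have h1 := hadd (((A : GL (Fin m ⊕ Fin m) F) : Matrix (Fin m ⊕ Fin m) (Fin m ⊕ Fin m) F) *ᵥ u)
    (((A : GL (Fin m ⊕ Fin m) F) : Matrix (Fin m ⊕ Fin m) (Fin m ⊕ Fin m) F) *ᵥ y)
  rw [← Matrix.mulVec_add, hc, hc, hc, hadd u y] at h1
  have h2a : Sp.sympB F m (((A : GL (Fin m ⊕ Fin m) F) : Matrix (Fin m ⊕ Fin m) (Fin m ⊕ Fin m) F) *ᵥ u)
      (((A : GL (Fin m ⊕ Fin m) F) : Matrix (Fin m ⊕ Fin m) (Fin m ⊕ Fin m) F) *ᵥ y) = Sp.sympB F m u y := by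
    rw [Sp.sympB_apply, Sp.sympB_apply]; exact A.2 u y
  rw [h2a] at h1
  have h2 : ((c : F) - 1) * Sp.sympB F m u y = 0 := by linear_combination h1
  have hc1 : (c : F) = 1 := sub_eq_zero.1 ((mul_eq_zero.1 h2).resolve_right hy)
  have h := hc x
  rw [hc1, one_mul] at h
  exact h

end Cfsg.Agent.S5652
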