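import Cfsg.Statements.S5653
import Cfsg.Agent.Lib.Classical.MaxSUSubspace

set_option autoImplicit false
open Cfsg

open Cfsg.Agent.Classical

namespace Cfsg.Agent.S5653

/-- Let F be the field with q² elements and n ≥ 13, and let SU_n(q) be the group of matrices of determinant one preserving the standard unitary form Σ u_i v_i^q on F^n (the intersection of the unitary group GU_n with the kernel of the determinant). The elements of SU_n(q) stabilising a non-zero subspace on which the form vanishes identically form a maximal subgroup of SU_n(q). -/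
theorem result {F : Type*} [Field F] [Fintype F] (n q : ℕ) (hF : Fintype.card F = q ^ 2) (hn : 13 ≤ n) (W : Submodule F (Fin n → F)) (hW0 : W ≠ ⊥) (hW : Cfsg.Geo.IsTotallySingularFor (Cfsg.hermForm n F q) W) : Cfsg.Geo.IsMaximalIn (Cfsg.GU n F q ⊓ Cfsg.Geo.specialLinear (Fin n) F) (Cfsg.Geo.subspaceStabilizer W ⊓ (Cfsg.GU n F q ⊓ Cfsg.Geo.specialLinear (Fin n) F)) := by
  obtain ⟨σ, hf⟩ := MaxSU.hermForm_unitary (n := n) hF
  have hW1 : W ≠ ⊤ := fun e => by
    obtain ⟨u, hu, hu0⟩ := Submodule.exists_mem_ne_zero_of_ne_bot hW0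
    obtain ⟨v, hv⟩ := (hf.nondegenerate u hu0).2
    exact hv (hW u hu v (e ▸ Submodule.mem_top))
  refine MaxSU.su_isMaximalIn hf (by omega)
    (MaxSU.exists_not_stab hf (by rw [Fintype.card_fin]; omega) hW0 hW1) fun M h1 h2 h3 => ?_
  exact MaxSU.singular_max hf hW (by rw [Fintype.card_fin]; omega) h1 h2 h3

end Cfsg.Agent.S5653
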