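import Cfsg.Statements.S5654
import Cfsg.Agent.Lib.Classical.MaxSUSubspace

set_option autoImplicit false
open Cfsg

open Cfsg.Agent.Classical

namespace Cfsg.Agent.S5654

/-- Let F be the field with q² elements and n ≥ 13. In SU_n(q) (determinant-one isometries of the standard unitary form on F^n) the stabiliser of a non-zero subspace W on which the form is non-degenerate and with 2 dim W < n is a maximal subgroup. -/
theorem result {F : Type*} [Field F] [Fintype F] (n q : ℕ) (hF : Fintype.card F = q ^ 2) (hn : 13 ≤ n) (W : Submodule F (Fin n → F)) (hW0 : W ≠ ⊥) (hW : Cfsg.Geo.IsNondegenerateOn (Cfsg.hermForm n F q) W) (hdim : 2 * Module.finrank F W < n) : Cfsg.Geo.IsMaximalIn (Cfsg.GU n F q ⊓ Cfsg.Geo.specialLinear (Fin n) F) (Cfsg.Geo.subspaceStabilizer W ⊓ (Cfsg.GU n F q ⊓ Cfsg.Geo.specialLinear (Fin n) F)) := by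
  obtain ⟨σ, hf⟩ := MaxSU.hermForm_unitary (n := n) hF
  have hW1 : W ≠ ⊤ := fun e => by
    rw [e, finrank_top, Module.finrank_pi, Fintype.card_fin] at hdim
    omega
  let b := Module.finBasis F W
  set c : Fin (Module.finrank F W) → (Fin n → F) := fun i => (b i : Fin n → F) with hc
  set P := HermSep.perp hf c
  have hsp : Submodule.span F (Set.range c) = W := by
    rw [show Set.range c = W.subtype '' Set.range b from Set.range_comp _ _, Submodule.span_image, b.span_eq,
      Submodule.map_top, Submodule.range_subtype]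
  have horth : ∀ w ∈ W, ∀ p ∈ P, Cfsg.hermForm n F q w p = 0 := by
    intro w hw p hp
    rw [← hsp] at hw
    obtain ⟨a, rfl⟩ := (Submodule.mem_span_range_iff_exists_fun F).1 hw
    rw [HermGen.sum_left hf, Finset.sum_eq_zero]
    intro i _
    rw [HermSep.swap_zero hf ((HermSep.mem_perp hf).1 hp i), mul_zero]
  have hinf : W ⊓ P = ⊥ := by
    rw [Submodule.eq_bot_iff]
    rintro x ⟨hx, hx'⟩
    by_contra h0
    obtain ⟨y, hy, hyx⟩ := (hW x hx h0).1
    exact hyx (horth y hy x hx')
  have hsum := Submodule.finrank_sup_add_finrank_inf_eq W P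
  rw [hinf, finrank_bot] at hsum
  have hP := HermSep.finrank_perp hf c
  rw [Fintype.card_fin] at hP
  have htop : W ⊔ P = ⊤ := Submodule.eq_top_of_finrank_eq (by
    have := Submodule.finrank_le (W ⊔ P)
    rw [Module.finrank_pi, Fintype.card_fin] at this ⊢
    change n ≤ Module.finrank F P + _ at hP
    omega)
  refine MaxSU.su_isMaximalIn hf (by omega)
    (MaxSU.exists_not_stab hf (by rw [Fintype.card_fin]; omega) hW0 hW1) fun M h1 h2 h3 => ?_
  change n ≤ Module.finrank F P + _ at hP
  exact MaxSU.nondeg_max hf (W := W) (P := P) ⟨horth, htop⟩ (by omega) (by omega) h1 h2 h3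

end Cfsg.Agent.S5654
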