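import Cfsg.Statements.S5657
import Cfsg.Agent.Lib.Classical.MaxSUPair

set_option autoImplicit false
open Cfsg

open Cfsg.Agent.Classical

namespace Cfsg.Agent.S5657

/-- Let F be the field with q² elements and n = 2k ≥ 13. Let D be a decomposition of F^n into two complementary subspaces of dimension k on each of which the standard unitary form vanishes identically. Then the elements of SU_n(q) preserving or interchanging the two subspaces form a maximal subgroup of SU_n(q). -/
theorem result {F : Type*} [Field F] [Fintype F] (n q : ℕ) (hF : Fintype.card F = q ^ 2) (hn : 13 ≤ n) (k : ℕ) (hk : 2 * k = n) (D : Fin 2 → Submodule F (Fin n → F)) (hD : Cfsg.Geo.IsMDecomposition k D) (hts : ∀ i, Cfsg.Geo.IsTotallySingularFor (Cfsg.hermForm n F q) (D i)) : Cfsg.Geo.IsMaximalIn (Cfsg.GU n F q ⊓ Cfsg.Geo.specialLinear (Fin n) F) (Cfsg.Geo.decompositionStabilizer D ⊓ (Cfsg.GU n F q ⊓ Cfsg.Geo.specialLinear (Fin n) F)) := by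
  obtain ⟨σ, hf⟩ := MaxSU.hermForm_unitary (n := n) hF
  have hdD : D = ![D 0, D 1] := by funext i; fin_cases i <;> rfl
  have hcompl : IsCompl (D 0) (D 1) := by
    refine ⟨hD.indep.pairwiseDisjoint (by decide : (0 : Fin 2) ≠ 1), codisjoint_iff.2 (eq_top_iff.2 ?_)⟩
    rw [← hD.iSup_eq_top]
    exact iSup_le fun i => by fin_cases i <;> simp
  have hP : MaxSU.UPair (f := Cfsg.hermForm n F q) k (D 0) (D 1) :=
    ⟨hts 0, hts 1, hcompl, hD.finrank_eq 0, hD.finrank_eq 1⟩
  refine MaxSU.su_isMaximalIn hf (by omega) ?_ fun M h1 h2 h3 => ?_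
  · obtain ⟨g, hg, hgn⟩ := MaxSU.exists_not_pstab hf (by omega) hP
    refine ⟨g, hg, fun h => hgn ?_⟩
    rw [hdD] at h
    exact MaxSU.mem_decompositionStabilizer.1 h
  obtain ⟨g, hg, hgD⟩ := h3
  refine MaxSU.pair_max hf (by omega) hP (fun x hx h => h1 x hx ?_) h2 ⟨g, hg, fun h => hgD ?_⟩
  · rw [hdD]; exact MaxSU.mem_decompositionStabilizer.2 h
  · rw [hdD]; exact MaxSU.mem_decompositionStabilizer.2 h

end Cfsg.Agent.S5657
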