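import Cfsg.Statements.S5659
import Cfsg.Agent.Lib.Classical.MaxSUOrth
import Cfsg.Agent.Lib.Classical.MaxSUBase

set_option autoImplicit false
open Cfsg

open Cfsg.Agent.Classical
open scoped Matrix
open MaxLin MaxOrthSL MaxSUOrth SubfieldMem

namespace Cfsg.Agent.S5659

/-- Let F be the field with q² elements, q odd, n ≥ 13, and F₀ the subfield with q elements. Let P be an invertible matrix such that the standard unitary form takes values in F₀ on the F₀-span of the columns of P (so it restricts to a non-degenerate symmetric bilinear form there). Then the elements of SU_n(q) lying in the subfield group of P form a maximal subgroup of SU_n(q). -/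
theorem result {F : Type*} [Field F] [Fintype F] (n q : ℕ) (hF : Fintype.card F = q ^ 2) (hn : 13 ≤ n) (hodd : Odd q) (F₀ : Subfield F) (hcard : Fintype.card F = Nat.card F₀ ^ 2) (P : Matrix.GeneralLinearGroup (Fin n) F) (hP : Cfsg.Geo.IsFormRationalStructure (Cfsg.hermForm n F q) F₀ 1 P) : Cfsg.Geo.IsMaximalIn (Cfsg.GU n F q ⊓ Cfsg.Geo.specialLinear (Fin n) F) (Cfsg.Geo.subfieldSubgroup F₀ P ⊓ (Cfsg.GU n F q ⊓ Cfsg.Geo.specialLinear (Fin n) F)) := by
  classical
  obtain ⟨σ, hf⟩ := MaxSU.hermForm_unitary (n := n) hF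
  have hσq : ∀ a : F, σ a = a ^ q := fun a => by
    have h1 := hf.herm (Pi.single (⟨0, by omega⟩ : Fin n) 1) (Pi.single (⟨0, by omega⟩ : Fin n) a)
    have hq0 : q ≠ 0 := by have := Cfsg.Agent.Classical.Unitary.one_lt_q hF; omega
    simp only [Cfsg.hermForm] at h1
    rw [Finset.sum_eq_single (⟨0, by omega⟩ : Fin n) (fun l _ hl => by simp [Pi.single_eq_of_ne hl]) (by simp),
      Finset.sum_eq_single (⟨0, by omega⟩ : Fin n) (fun l _ hl => by simp [Pi.single_eq_of_ne hl]) (by simp)] at h1
    simpa using h1.symm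
  have h2 : (2 : F) ≠ 0 := by
    refine Ring.two_ne_zero fun hc => ?_
    haveI := ringChar.charP F
    have := FiniteField.even_card_iff_char_two.1 hc
    rw [hF, Nat.pow_mod, Nat.odd_iff.1 hodd] at this
    exact absurd this (by norm_num)
  haveI : Fintype F₀ := Fintype.ofFinite F₀
  have hcard' : Fintype.card F₀ = q := by
    have := hcard.symm.trans hF
    rw [Nat.card_eq_fintype_card] at this
    exact Nat.pow_left_injective two_ne_zero this
  have hfix : ∀ a : F, σ a = a ↔ a ∈ F₀ := by
    have hpow : ∀ a : F₀, (a : F) ^ q = (a : F) := fun a => by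
      rw [← hcard']; exact_mod_cast congrArg Subtype.val (FiniteField.pow_card a)
    intro a
    rw [hσq]
    refine ⟨fun ha => ?_, fun ha => hpow ⟨a, ha⟩⟩
    rcases eq_or_ne a 0 with rfl | ha0
    · exact zero_mem F₀
    let φ : {x : F₀ // x ≠ 0} → {x : F // x ≠ 0 ∧ x ^ q = x} := fun x => ⟨x.1, fun e => x.2 (Subtype.ext e), hpow x.1⟩
    have hbij : Function.Bijective φ := (Nat.bijective_iff_injective_and_card _).2
      ⟨fun x y e => Subtype.ext (Subtype.ext (congrArg Subtype.val e :)), by
        rw [Cfsg.Agent.Classical.Unitary.card_fixed_nonzero hF, Nat.card_eq_fintype_card, Fintype.card_subtype_compl,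
          Fintype.card_subtype_eq, hcard']⟩
    obtain ⟨x, hx⟩ := hbij.2 ⟨a, ha0, ha⟩
    have : (x.1 : F) = a := congrArg Subtype.val hx
    exact this ▸ x.1.2
  let e : (Fin n → F₀) → (Fin n → F) := fun u => (P : Matrix (Fin n) (Fin n) F) *ᵥ fun i => (u i : F)
  have he : ∀ u v, Cfsg.hermForm n F q (e u) (e v) ∈ F₀ := fun u v => by
    have h := hP (fun i => (u i : F)) (fun i => (v i : F)) (fun i => (u i).2) (fun i => (v i).2)
    rwa [one_mul] at h
  have headd : ∀ u v, e (u + v) = e u + e v := fun u v => by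
    show _ *ᵥ _ = _
    rw [← Matrix.mulVec_add]; rfl
  have hesm : ∀ (t : F₀) u, e (t • u) = (t : F) • e u := fun t u => by
    show _ *ᵥ _ = _
    rw [← Matrix.mulVec_smul]; rfl
  have hsym : ∀ u v, Cfsg.hermForm n F q (e u) (e v) = Cfsg.hermForm n F q (e v) (e u) := fun u v => by
    rw [hf.herm, (hfix _).2 (he v u)]
  let B : LinearMap.BilinForm F₀ (Fin n → F₀) := LinearMap.mk₂ F₀ (fun u v => (⟨_, he u v⟩ : F₀))
    (fun u u' v => Subtype.ext (by simp [headd, hf.add_left]))
    (fun t u v => Subtype.ext (by simp [hesm, hf.smul_left]))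
    (fun u v v' => Subtype.ext (by simp [headd, HermSep.add_right hf]))
    (fun t u v => Subtype.ext (by simp [hesm, HermSep.smul_right hf, (hfix _).2 t.2]))
  have h20 : (2 : F₀) ≠ 0 := fun h => h2 (congrArg Subtype.val h)
  have hBs : ∀ u v, B u v = B v u := fun u v => Subtype.ext (hsym u v)
  have hqf : QF (fun u => B u u / 2) B := by
    refine ⟨fun c u => by simp only [map_smul, LinearMap.smul_apply, smul_eq_mul]; ring, fun u v => ?_, fun a ha => ?_⟩
    · simp only [map_add, LinearMap.add_apply, hBs v u]; field_simp; ring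
    · by_contra h0
      have hea : e a ≠ 0 := fun h => h0 (funext fun i => by
        have h1 := congrArg (fun z => ((P⁻¹ : Matrix.GeneralLinearGroup (Fin n) F) : Matrix (Fin n) (Fin n) F) *ᵥ z) h
        simp only [e, gl_inv_mulVec', Matrix.mulVec_zero] at h1
        exact Subtype.ext (congrFun h1 i))
      obtain ⟨w, hw⟩ := (hf.nondegenerate (e a) hea).1
      apply hw
      have hcol : ∀ j, Cfsg.hermForm n F q (e (Pi.single j 1)) (e a) = 0 := fun j =>
        congrArg Subtype.val (ha (Pi.single j 1))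
      rw [← gl_inv_mulVec P w]
      set c := ((P⁻¹ : Matrix.GeneralLinearGroup (Fin n) F) : Matrix (Fin n) (Fin n) F) *ᵥ w
      have hc : c = ∑ j, c j • (fun i => ((Pi.single j (1 : F₀) : Fin n → F₀) i : F)) := by
        funext i
        simp [Finset.sum_apply, Pi.single_apply, apply_ite (Subtype.val : F₀ → F)]
      rw [hc, Matrix.mulVec_sum]
      simp only [Matrix.mulVec_smul]
      have : ∀ s : Finset (Fin n), Cfsg.hermForm n F q (∑ j ∈ s, c j • e (Pi.single j 1)) (e a) = 0 := by
        intro s
        induction s using Finset.induction with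
        | empty => rw [Finset.sum_empty, HermSep.zero_left hf]
        | insert j s hj ih => rw [Finset.sum_insert hj, hf.add_left, hf.smul_left, hcol, ih]; simp
      exact this Finset.univ
  obtain ⟨τ, hτ⟩ : ∃ τ : F, σ τ ≠ τ := by
    by_contra hc; push Not at hc; exact hf.ne_refl (RingEquiv.ext hc)
  let R : RS σ (Cfsg.hermForm n F q) := ⟨F₀, hfix, P, τ - σ τ, sub_ne_zero.2 (Ne.symm hτ),
    by rw [map_sub, hf.involutive, neg_sub], fun u => B u u / 2, B, hqf, fun u v => rfl⟩
  have hc13 : 13 ≤ Fintype.card (Fin n) := by simpa using hn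
  refine MaxSU.su_isMaximalIn hf (by omega) (exists_not_mem hf R h2 hc13) ?_
  exact fun M h1 h3 h4 => all_cen hf R h2 hc13 h1 h3 h4

end Cfsg.Agent.S5659
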