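import Cfsg.Statements.S5660
import Cfsg.Agent.Lib.Classical.MaxSUSymp
import Cfsg.Agent.Lib.Classical.SubfieldMem

set_option autoImplicit false
open Cfsg

open Cfsg.Agent.Classical
open scoped Matrix
open MaxSU SubfieldMem

namespace Cfsg.Agent.S5660

/-- Let F be the field with q² elements, n ≥ 13 even, and F₀ the subfield with q elements. Let ζ be a non-zero element with ζ + ζ^q = 0 and P an invertible matrix such that ζ times the standard unitary form takes values in F₀ on the F₀-span of the columns of P and the form vanishes on every pair (u, u) of that span (so ζ times the form restricts to a non-degenerate alternating form there). Then the elements of SU_n(q) lying in the subfield group of P form a maximal subgroup of SU_n(q). -/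
theorem result {F : Type*} [Field F] [Fintype F] (n q : ℕ) (hF : Fintype.card F = q ^ 2) (hn : 13 ≤ n) (heven : Even n) (F₀ : Subfield F) (hcard : Fintype.card F = Nat.card F₀ ^ 2) (ζ : F) (hζ0 : ζ ≠ 0) (hζ : ζ + ζ ^ q = 0) (P : Matrix.GeneralLinearGroup (Fin n) F) (hP : Cfsg.Geo.IsFormRationalStructure (Cfsg.hermForm n F q) F₀ ζ P) (halt : ∀ u : Fin n → F, (∀ i, u i ∈ F₀) → Cfsg.hermForm n F q (Matrix.mulVec (P : Matrix (Fin n) (Fin n) F) u) (Matrix.mulVec (P : Matrix (Fin n) (Fin n) F) u) = 0) : Cfsg.Geo.IsMaximalIn (Cfsg.GU n F q ⊓ Cfsg.Geo.specialLinear (Fin n) F) (Cfsg.Geo.subfieldSubgroup F₀ P ⊓ (Cfsg.GU n F q ⊓ Cfsg.Geo.specialLinear (Fin n) F)) := by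
  classical
  obtain ⟨σ, hf⟩ := MaxSU.hermForm_unitary (n := n) hF
  have hσq : ∀ a : F, σ a = a ^ q := fun a => by
    have h1 := hf.herm (Pi.single (⟨0, by omega⟩ : Fin n) 1) (Pi.single (⟨0, by omega⟩ : Fin n) a)
    have hq0 : q ≠ 0 := by have := Cfsg.Agent.Classical.Unitary.one_lt_q hF; omega
    simp only [Cfsg.hermForm] at h1
    rw [Finset.sum_eq_single (⟨0, by omega⟩ : Fin n) (fun l _ hl => by simp [Pi.single_eq_of_ne hl]) (by simp),
      Finset.sum_eq_single (⟨0, by omega⟩ : Fin n) (fun l _ hl => by simp [Pi.single_eq_of_ne hl]) (by simp)] at h1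
    simpa using h1.symm
  haveI : Fintype F₀ := Fintype.ofFinite F₀
  have hcard' : Fintype.card F₀ = q := by
    have := hcard.symm.trans hF
    rw [Nat.card_eq_fintype_card] at this
    exact Nat.pow_left_injective two_ne_zero this
  have hfix : ∀ a : F, σ a = a ↔ a ∈ F₀ := by
    have hpow : ∀ a : F₀, (a : F) ^ q = (a : F) := fun a => by
      rw [← hcard']; exact_mod_cast congrArg Subtype.val (FiniteField.pow_card a)
    intro a
    rw [hσq]
    refine ⟨fun ha => ?_, fun ha => hpow ⟨a, ha⟩⟩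
    rcases eq_or_ne a 0 with rfl | ha0
    · exact zero_mem F₀
    let φ : {x : F₀ // x ≠ 0} → {x : F // x ≠ 0 ∧ x ^ q = x} := fun x => ⟨x.1, fun e => x.2 (Subtype.ext e), hpow x.1⟩
    have hbij : Function.Bijective φ := (Nat.bijective_iff_injective_and_card _).2
      ⟨fun x y e => Subtype.ext (Subtype.ext (congrArg Subtype.val e :)), by
        rw [Cfsg.Agent.Classical.Unitary.card_fixed_nonzero hF, Nat.card_eq_fintype_card, Fintype.card_subtype_compl,
          Fintype.card_subtype_eq, hcard']⟩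
    obtain ⟨x, hx⟩ := hbij.2 ⟨a, ha0, ha⟩
    have : (x.1 : F) = a := congrArg Subtype.val hx
    exact this ▸ x.1.2
  have hrat : ∀ y, conjP σ P y = y ↔ Rat' F₀ P y := fun y => by
    rw [conjP_eq_iff]; exact forall_congr' fun i => hfix _
  have hζσ : σ ζ = -ζ := by rw [hσq]; exact eq_neg_of_add_eq_zero_right hζ
  have hsk : ∀ a b, conjP σ P a = a → conjP σ P b = b →
      σ (Cfsg.hermForm n F q a b) = -Cfsg.hermForm n F q a b := by
    intro a b ha hb
    have h := (hfix _).2 (hP _ _ ((hrat a).1 ha) ((hrat b).1 hb))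
    rw [MaxLin.gl_inv_mulVec, MaxLin.gl_inv_mulVec, map_mul, hζσ] at h
    exact mul_left_cancel₀ hζ0 (by linear_combination -h)
  have hal : ∀ a, conjP σ P a = a → Cfsg.hermForm n F q a a = 0 := by
    intro a ha
    have h := halt _ ((hrat a).1 ha)
    rwa [MaxLin.gl_inv_mulVec] at h
  obtain ⟨τ, hτ⟩ : ∃ τ : F, σ τ ≠ τ := by
    by_contra hc; push Not at hc; exact hf.ne_refl (RingEquiv.ext hc)
  refine su_isMaximalIn hf (by omega) ?_ ?_
  · obtain ⟨g, y, hg, hy, hgy⟩ := exists_irrational_T hf P hsk hal hτ (by rw [Fintype.card_fin]; omega)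
    refine ⟨g, hg, fun hK => ?_⟩
    obtain ⟨l, r, hr, he⟩ := rat_image F₀ P hK ((hrat y).1 hy)
    exact hgy l r ((hrat r).2 hr) he
  intro M hKM hMp hMK
  have hR : ∀ w, conjP σ P w = w → Cen hf M w := by
    intro w hw
    refine cen_of_mem hf (hal w hw) fun c hc h0 => hKM _ (pres_T hf (hal w hw) hc h0) ?_
    refine (mem_iff F₀ P _).2 ⟨1, P⁻¹ * transGL (c • HermSep.fn hf w) w h0 * P, one_ne_zero, fun i j => ?_,
      (one_smul _ _).symm⟩
    have hj : conjP σ P ((P : Matrix (Fin n) (Fin n) F) *ᵥ Pi.single j 1) =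
        (P : Matrix (Fin n) (Fin n) F) *ᵥ Pi.single j 1 := (hrat _).2 fun k => by
      rw [MaxLin.gl_inv_mulVec']
      rcases eq_or_ne k j with rfl | hk
      · simp [one_mem]
      · simp [hk, zero_mem]
    have e : ((P⁻¹ * transGL (c • HermSep.fn hf w) w h0 * P : GL (Fin n) F) : Matrix (Fin n) (Fin n) F) i j =
        (Pi.single j (1 : F) : Fin n → F) i + (c * Cfsg.hermForm n F q ((P : Matrix (Fin n) (Fin n) F) *ᵥ Pi.single j 1) w) *
          (((P⁻¹ : GL (Fin n) F) : Matrix (Fin n) (Fin n) F) *ᵥ w) i := by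
      have h2 : ((P⁻¹ * transGL (c • HermSep.fn hf w) w h0 * P : GL (Fin n) F) : Matrix (Fin n) (Fin n) F) *ᵥ
          Pi.single j 1 = Pi.single j 1 + (c * Cfsg.hermForm n F q ((P : Matrix (Fin n) (Fin n) F) *ᵥ Pi.single j 1) w) •
            (((P⁻¹ : GL (Fin n) F) : Matrix (Fin n) (Fin n) F) *ᵥ w) := by
        rw [Units.val_mul, Units.val_mul, ← Matrix.mulVec_mulVec, ← Matrix.mulVec_mulVec, transGL_apply,
          Matrix.mulVec_add, Matrix.mulVec_smul, MaxLin.gl_inv_mulVec', LinearMap.smul_apply, HermSep.fn_apply,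
          smul_eq_mul]
      have h3 := congrFun h2 i
      rw [Matrix.mulVec_single_one] at h3
      exact h3
    rw [e]
    refine add_mem ?_ (mul_mem ((hfix _).1 ?_) ((hrat w).1 hw i))
    · rcases eq_or_ne i j with rfl | hk
      · simp [one_mem]
      · simp [hk, zero_mem]
    · rw [map_mul, hc, hsk _ _ hj hw, neg_mul_neg]
  obtain ⟨g, hgM, hgK⟩ := hMK
  obtain ⟨y, hy, hgy⟩ : ∃ y, conjP σ P y = y ∧
      ∀ (l : F) (r : Fin n → F), conjP σ P r = r → (g : Matrix (Fin n) (Fin n) F) *ᵥ y ≠ l • r := by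
    by_contra hall
    push Not at hall
    refine hgK (mem_of_rat_image F₀ P fun y hy => ?_)
    obtain ⟨l, r, hr, he⟩ := hall y ((hrat y).2 hy)
    exact ⟨l, r, (hrat r).1 hr, he⟩
  obtain ⟨a, b, ha, hb, hu⟩ := rat_decomp hf P hτ ((g : Matrix (Fin n) (Fin n) F) *ᵥ y)
  have ha0 : a ≠ 0 := fun e => hgy τ b hb (by rw [hu, e, zero_add])
  have hab : b ∉ Submodule.span F {a} := fun hm => by
    obtain ⟨r, rfl⟩ := Submodule.mem_span_singleton.1 hm
    exact hgy (1 + τ * r) a ha (by rw [hu]; module)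
  exact symp_subfield_max hf P hsk hal hτ hR ((hR y hy).map hf hgM (hMp g hgM)) ha hb hu hab ha0

end Cfsg.Agent.S5660
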