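import Cfsg.Statements.S5665
import Cfsg.Agent.Lib.Classical.OverfieldSympCase
import Cfsg.Agent.Lib.Classical.Disc

set_option autoImplicit false
open Cfsg

open Cfsg.Agent.Classical
open Matrix

namespace Cfsg.Agent.S5665

/-- For a finite field F of odd order and m ≥ 7, let K be a subfield of the algebra of 2m × 2m matrices over F containing the scalars, of degree 2 over F, that is closed under adjoints for the standard alternating form on F^(2m) but whose elements are not all self-adjoint (so the adjoint map induces the automorphism of order two of K). Then the elements of Sp_2m(F) normalising K form a maximal subgroup of Sp_2m(F). -/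
theorem result {F : Type*} [Field F] [Fintype F] (m : ℕ) (hm : 7 ≤ m) (hodd : Odd (Fintype.card F)) (K : Subalgebra F (Matrix (Fin m ⊕ Fin m) (Fin m ⊕ Fin m) F)) (hK : Cfsg.Geo.IsFieldSubalgebra 2 K) (hac : Cfsg.Geo.IsAdjointClosedFor (Cfsg.sympForm m F) K) (hnsa : ¬ Cfsg.Geo.IsSelfAdjointFor (Cfsg.sympForm m F) K) : Cfsg.Geo.IsMaximalIn (Cfsg.spGL m F) (Cfsg.Geo.subalgebraNormalizer K ⊓ Cfsg.spGL m F) := by
  have h20 : (2 : F) ≠ 0 := Disc.two_ne_zero_of_odd hodd
  have i0 : Fin m ⊕ Fin m := Sum.inl ⟨0, by omega⟩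
  have hA := Sp.sympB_isAlt (F := F) m
  have hnd := Sp.sympB_nondeg (F := F) m
  set B := Sp.sympB F m with hB
  have happ : ∀ x y, Cfsg.sympForm m F x y = B x y := fun x y => (Sp.sympB_apply m x y).symm
  have hns : ∃ θ ∈ K, ∀ c : F, θ ≠ c • (1 : Matrix (Fin m ⊕ Fin m) (Fin m ⊕ Fin m) F) := by
    by_contra hc
    push Not at hc
    refine hnsa fun k hk u v => ?_
    obtain ⟨c, rfl⟩ := hc k hk
    rw [happ, happ, Matrix.smul_mulVec, Matrix.smul_mulVec, Matrix.one_mulVec, Matrix.one_mulVec, map_smul, map_smul]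
    rfl
  obtain ⟨θ₀, hθ₀, hθs⟩ := hns
  obtain ⟨θ', hθ', hadj⟩ := hac θ₀ hθ₀
  have hone : (1 : Matrix (Fin m ⊕ Fin m) (Fin m ⊕ Fin m) F) ∈ K := one_mem K
  have hli : LinearIndependent F ![(⟨1, hone⟩ : K), ⟨θ₀, hθ₀⟩] := by
    rw [LinearIndependent.pair_iff]
    intro s t h
    have h' : s • (1 : Matrix (Fin m ⊕ Fin m) (Fin m ⊕ Fin m) F) + t • θ₀ = 0 := congrArg Subtype.val h
    rcases eq_or_ne t 0 with rfl | ht
    · refine ⟨?_, rfl⟩
      have := congrFun (congrFun h' i0) i0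
      simpa using this
    · refine absurd ?_ (hθs (-(t⁻¹ * s)))
      rw [neg_smul, ← smul_smul, eq_neg_iff_add_eq_zero, ← smul_right_injective _ ht |>.eq_iff, smul_add,
        smul_inv_smul₀ ht, smul_zero, add_comm]
      exact h'
  have hspan : ∀ x ∈ K, ∃ a b : F, x = a • (1 : Matrix (Fin m ⊕ Fin m) (Fin m ⊕ Fin m) F) + b • θ₀ := fun x hx => by
    have := hli.span_eq_top_of_card_eq_finrank (by rw [hK.finrank_eq]; rfl)
    have hm : (⟨x, hx⟩ : K) ∈ Submodule.span F (Set.range ![(⟨1, hone⟩ : K), ⟨θ₀, hθ₀⟩]) := this ▸ Submodule.mem_top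
    obtain ⟨c, hc⟩ := (Submodule.mem_span_range_iff_exists_fun F).1 hm
    refine ⟨c 0, c 1, ?_⟩
    have h' := congrArg Subtype.val hc
    simpa [Fin.sum_univ_two] using h'.symm
  obtain ⟨a, b, hab⟩ := hspan θ' hθ'
  have hB1 : ∀ x y, B (θ₀ *ᵥ x) y = a * B x y + b * B x (θ₀ *ᵥ y) := fun x y => by
    rw [← happ, hadj, happ, hab, Matrix.add_mulVec, Matrix.smul_mulVec, Matrix.smul_mulVec, Matrix.one_mulVec,
      map_add, map_smul, map_smul, smul_eq_mul, smul_eq_mul]
  have hB2 : ∀ x y, (1 - b * b) * B x (θ₀ *ᵥ y) = a * (1 + b) * B x y := fun x y => by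
    have h1 := hB1 y x
    rw [Sp.alt_neg B hA x (θ₀ *ᵥ y), Sp.alt_neg B hA x y, Sp.alt_neg B hA (θ₀ *ᵥ x) y, hB1 x y] at h1
    linear_combination -h1
  have hext : ∀ C E : Matrix (Fin m ⊕ Fin m) (Fin m ⊕ Fin m) F, (∀ x y, B x (C *ᵥ y) = B x (E *ᵥ y)) → C = E :=
    fun C E h => Matrix.toLin'.injective (LinearMap.ext fun y => by
      rw [Matrix.toLin'_apply, Matrix.toLin'_apply]
      by_contra hne
      obtain ⟨x, hx⟩ := hnd _ (sub_ne_zero.2 hne)
      refine hx ?_
      rw [Sp.alt_neg B hA x, map_sub, h, sub_self, neg_zero])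
  have hbb : 1 - b * b = 0 := by
    by_contra hne
    refine hθs ((1 - b * b)⁻¹ * (a * (1 + b))) (hext _ _ fun x y => ?_)
    rw [Matrix.smul_mulVec, Matrix.one_mulVec, map_smul, smul_eq_mul, mul_assoc, ← hB2, ← mul_assoc,
      inv_mul_cancel₀ hne, one_mul]
  have hbneg : b = -1 := by
    rcases mul_eq_zero.1 (show (1 - b) * (1 + b) = 0 by linear_combination hbb) with h1 | h1
    · exfalso
      have hb1 : b = 1 := (sub_eq_zero.1 h1).symm
      have ha : a = 0 := by
        by_contra ha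
        obtain ⟨y, hy⟩ := hnd (Pi.single i0 1) (by simp)
        have h3 := hB2 (Pi.single i0 1) y
        rw [hbb, zero_mul, hb1, one_add_one_eq_two] at h3
        exact mul_ne_zero (mul_ne_zero ha h20) hy h3.symm
      refine hnsa fun k hk u v => ?_
      obtain ⟨s, t, rfl⟩ := hspan k hk
      rw [happ, happ]
      simp only [Matrix.add_mulVec, Matrix.smul_mulVec, Matrix.one_mulVec, map_add, map_smul, LinearMap.add_apply,
        LinearMap.smul_apply, smul_eq_mul, hB1, ha, hb1]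
      ring
    · linear_combination h1
  subst hbneg
  set θ := (2 : F) • θ₀ - a • (1 : Matrix (Fin m ⊕ Fin m) (Fin m ⊕ Fin m) F) with hθdef
  have hθ : θ ∈ K := sub_mem (K.smul_mem hθ₀ _) (K.smul_mem hone _)
  have hθn : ∀ c : F, θ ≠ c • (1 : Matrix (Fin m ⊕ Fin m) (Fin m ⊕ Fin m) F) := fun c e => hθs ((c + a) / 2) (by
    rw [← smul_right_injective _ h20 |>.eq_iff, smul_smul, mul_div_cancel₀ _ h20, add_smul, ← e, hθdef]
    module)
  have hskew : ∀ x y, B (θ *ᵥ x) y = -B x (θ *ᵥ y) := fun x y => by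
    simp only [hθdef, Matrix.sub_mulVec, Matrix.smul_mulVec, Matrix.one_mulVec, map_sub, map_smul,
      LinearMap.sub_apply, LinearMap.smul_apply, smul_eq_mul, hB1]
    ring
  have hspan' : ∀ x ∈ K, ∃ s t : F, x = s • (1 : Matrix (Fin m ⊕ Fin m) (Fin m ⊕ Fin m) F) + t • θ := fun x hx => by
    obtain ⟨s, t, rfl⟩ := hspan x hx
    refine ⟨s + t / 2 * a, t / 2, ?_⟩
    rw [hθdef, smul_sub, smul_smul, smul_smul, div_mul_cancel₀ _ h20]
    module
  obtain ⟨D, t, hDt⟩ := hspan' (θ * θ) (mul_mem hθ hθ)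
  have ht : t = 0 := by
    by_contra ht
    refine hθn 0 (hext _ _ fun x y => ?_)
    have h1 : B ((θ * θ) *ᵥ x) y = B x ((θ * θ) *ᵥ y) := by
      rw [← Matrix.mulVec_mulVec, ← Matrix.mulVec_mulVec, hskew, hskew, neg_neg]
    rw [hDt] at h1
    simp only [Matrix.add_mulVec, Matrix.smul_mulVec, Matrix.one_mulVec, map_add, map_smul, LinearMap.add_apply,
      LinearMap.smul_apply, smul_eq_mul, hskew] at h1
    rw [zero_smul, Matrix.zero_mulVec, map_zero]
    exact (mul_eq_zero.1 (show (2 * t) * B x (θ *ᵥ y) = 0 by linear_combination -h1)).resolve_left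
      (mul_ne_zero h20 ht)
  rw [ht, zero_smul, add_zero] at hDt
  have hir : ∀ r : F, r ^ 2 ≠ D := fun r hr => by
    have h0 : (θ - r • 1) * (θ + r • 1) = 0 := by
      simp only [sub_mul, mul_add, Matrix.smul_mul, Matrix.mul_smul, mul_one, one_mul, hDt, ← hr]
      module
    rcases eq_or_ne (θ - r • 1) 0 with h | h
    · exact hθn r (sub_eq_zero.1 h)
    obtain ⟨z, hz, hzx⟩ := hK.inv _ (sub_mem hθ (K.smul_mem hone r)) h
    have : θ + r • 1 = 0 := by
      have h3 := congrArg (z * ·) h0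
      simp only [mul_zero, ← mul_assoc] at h3
      rwa [← hK.comm _ (sub_mem hθ (K.smul_mem hone r)) z hz, hzx, one_mul] at h3
    exact hθn (-r) (by rw [eq_neg_of_add_eq_zero_left this, neg_smul])
  have hD0 : D ≠ 0 := fun e => hir 0 (by rw [e]; ring)
  have hsq : ∀ v : Fin m ⊕ Fin m → F, θ *ᵥ (θ *ᵥ v) = D • v := fun v => by
    rw [Matrix.mulVec_mulVec, hDt, Matrix.smul_mulVec, Matrix.one_mulVec]
  let Q : QuadraticForm F (Fin m ⊕ Fin m → F) :=
    LinearMap.BilinMap.toQuadraticMap (B.compl₂ (Matrix.toLin' θ))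
  have hQ : ∀ x, Q x = B x (θ *ᵥ x) := fun x => by simp [Q]
  have hpol : ∀ x y, QuadraticMap.polar Q x y = 2 * B x (θ *ᵥ y) := fun x y => by
    simp only [QuadraticMap.polar, hQ, Matrix.mulVec_add, map_add, LinearMap.add_apply]
    rw [Sp.alt_neg B hA (θ *ᵥ x) y, hskew]
    ring
  have hnd' : ∀ u, (∀ v, QuadraticMap.polar Q u v = 0) → u = 0 := fun u hu => by
    by_contra hne
    obtain ⟨y, hy⟩ := hnd u hne
    have h3 := hu (θ *ᵥ y)
    rw [hpol, hsq, map_smul, smul_eq_mul] at h3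
    exact mul_ne_zero h20 (mul_ne_zero hD0 hy) h3
  have hks : OverfieldOrth.KS Q K θ 0 (-D) :=
    { nd := ⟨hnd', fun y hy => hnd' y fun x => by rw [QuadraticMap.polar_comm]; exact hy x⟩
      big := by simp; omega
      mem := hθ
      span := hspan'
      sq := fun v => by rw [hsq]; module
      norm := fun v => by rw [hQ, hQ, hskew, hsq, map_smul, smul_eq_mul]; ring
      adj := fun x y => by
        simp only [hpol, hskew, hsq]
        ring
      ne := neg_ne_zero.2 hD0
      irred := fun x y h => by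
        rcases eq_or_ne y 0 with rfl | hy
        · exact ⟨pow_eq_zero_iff two_ne_zero |>.1 (by linear_combination h), rfl⟩
        · refine absurd ?_ (hir (x / y))
          field_simp
          linear_combination h }
  exact OverfieldSymp.maximal (Q := Q) (D := D) ⟨hA, hks, h20, hnd, hskew, hQ⟩

end Cfsg.Agent.S5665
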