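import Cfsg.Statements.S5667
import Cfsg.Agent.Lib.Classical.NotMaxTensorThree
import Cfsg.Agent.Lib.Classical.SymplecticMatrix
import Cfsg.Agent.Lib.Classical.Transvec

set_option autoImplicit false
open Cfsg

open Cfsg.Agent.Classical
open Matrix

namespace Cfsg.Agent.S5667

/-- Over the field with 3 elements and for m ≥ 7, suppose the standard alternating form on F^(2m) is similar, through P and e, to the tensor product of a non-degenerate symplectic form f₁ on F^(n₁) and a non-degenerate symmetric bilinear form f₂ on F^3. Then the elements of Sp_2m(3) in the stabiliser of this tensor decomposition form a subgroup that is not maximal: some subgroup lies strictly between it and Sp_2m(3). -/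
theorem result {F : Type*} [Field F] [Fintype F] (m : ℕ) (hm : 7 ≤ m) (hq : Fintype.card F = 3) (n₁ : ℕ) (e : (Fin m ⊕ Fin m) ≃ Fin n₁ × Fin 3) (P : Matrix.GeneralLinearGroup (Fin m ⊕ Fin m) F) (f₁ : (Fin n₁ → F) → (Fin n₁ → F) → F) (f₂ : (Fin 3 → F) → (Fin 3 → F) → F) (hf₁ : Cfsg.Geo.IsSymplecticForm f₁) (hf₂ : Cfsg.Geo.IsSymmetricForm f₂) (hT : Cfsg.Geo.IsTensorFormStructure id (Cfsg.sympForm m F) f₁ f₂ e P) : ∃ K : Subgroup (Matrix.GeneralLinearGroup (Fin m ⊕ Fin m) F), Cfsg.Geo.tensorProductSubgroup n₁ 3 e P ⊓ Cfsg.spGL m F < K ∧ K < Cfsg.spGL m F := by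
  classical
  obtain ⟨c, κ, hκ, hc, hperm⟩ := NotMaxTensor.three_frame hq hf₂
  obtain ⟨d, hd, hT'⟩ := NotMaxTensor.form_pure (RingHom.id F) e P (NotMaxTensor.sym_gram hf₁.bilinear)
    (NotMaxTensor.sym_gram hf₂.bilinear) hT
  have hsb : ∀ u v, Cfsg.sympForm m F u v = Sp.sympB F m u v := fun u v => (Sp.sympB_apply m u v).symm
  have hA := Sp.sympB_isAlt (F := F) m
  have hcard : m + m = n₁ * 3 := by simpa using Fintype.card_congr e
  obtain ⟨Φ, hΦ⟩ := NotMaxTensor.exists_blocks (NotMaxTensor.pure e P) (NotMaxTensor.pure_add_left e P)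
    (NotMaxTensor.pure_smul_left e P) (f := Cfsg.sympForm m F)
    (fun x y v => by simp [hsb]) (fun r x v => by simp [hsb]) hd hT'
    (fun x hx => (hf₁.nondegenerate x hx).2) c hκ hc (by simp; omega)
  obtain ⟨x₁, hx₁⟩ : ∃ x : Fin n₁ → F, x ≠ 0 := ⟨Pi.single ⟨0, by omega⟩ 1, by simp⟩
  obtain ⟨x₂, hx₂⟩ := (hf₁.nondegenerate x₁ hx₁).1
  have hform : ∀ l x k x', Cfsg.sympForm m F (Φ (Pi.single l x)) (Φ (Pi.single k x')) =
      d * (f₁ x x' * if l = k then κ else 0) := fun l x k x' => by rw [hΦ, hΦ, hT', hc]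
  have htr : ∀ v : Fin m ⊕ Fin m → F, ∃ g ∈ Cfsg.spGL m F, ∀ z,
      (g : Matrix (Fin m ⊕ Fin m) (Fin m ⊕ Fin m) F) *ᵥ z = z + Cfsg.sympForm m F z v • v := by
    intro v
    have h0 : ((Sp.sympB F m).flip v : Module.Dual F (Fin m ⊕ Fin m → F)) v = 0 := hA.self_eq_zero v
    have hz : ∀ z, (transGL ((Sp.sympB F m).flip v) v h0 : Matrix (Fin m ⊕ Fin m) (Fin m ⊕ Fin m) F) *ᵥ z =
        z + Sp.sympB F m z v • v := fun z => by rw [transGL_apply]; rfl
    refine ⟨_, fun x y => ?_, fun z => by rw [hz, hsb]⟩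
    show Cfsg.sympForm m F ((transGL _ v h0 : Matrix (Fin m ⊕ Fin m) (Fin m ⊕ Fin m) F) *ᵥ x)
      ((transGL _ v h0 : Matrix (Fin m ⊕ Fin m) (Fin m ⊕ Fin m) F) *ᵥ y) = _
    rw [hsb, hsb, hz, hz]
    simp only [map_add, map_smul, LinearMap.add_apply, LinearMap.smul_apply, smul_eq_mul, hA.self_eq_zero,
      Sp.alt_neg _ hA y v]
    ring
  obtain ⟨u, hu, huv⟩ := htr (Φ (Pi.single 0 x₁))
  obtain ⟨w, hw, hwv⟩ := htr (Φ (Pi.single 0 x₁) + Φ (Pi.single 1 x₁))
  have hne : d * (f₁ x₂ x₁ * κ) ≠ 0 := mul_ne_zero hd (mul_ne_zero hx₂ hκ)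
  have hval : Cfsg.sympForm m F (Φ (Pi.single 0 x₂)) (Φ (Pi.single 0 x₁) + Φ (Pi.single 1 x₁)) = d * (f₁ x₂ x₁ * κ) := by
    rw [hsb, map_add, ← hsb, ← hsb, hform, hform]; simp
  refine NotMaxTensor.between Φ (i := 0) (j := 1) (by decide) _ _ ?_ hu (fun l hl x => ?_) (fun x => ?_) (fun r => ?_)
    hw (k₁ := 0) (k₂ := 1) (by decide) (l := 0) (x := x₂) ?_ ?_
  · rintro g ⟨hgT, hgS⟩
    obtain ⟨A, B, hAB⟩ := NotMaxTensor.mem_pure e P hgT
    exact NotMaxTensor.frame_hH _ (fun r x y => NotMaxTensor.pure_smul_right e P r x y)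
      (fun r x y => NotMaxTensor.pure_smul_left e P r x y) hd hT' hx₂ c 0 (by rw [hc, if_pos rfl]; exact hκ) hperm
      Φ hΦ g (fun x y => hgS x y) A B hAB
  · rw [huv, hform, if_neg hl]; simp
  · exact ⟨x + Cfsg.sympForm m F (Φ (Pi.single 0 x)) (Φ (Pi.single 0 x₁)) • x₁, by
      rw [huv, Pi.single_add, Pi.single_smul, map_add, map_smul]⟩
  · refine ⟨x₂, fun h => ?_⟩
    rw [huv, hform, if_pos rfl, ← map_smul, ← map_smul, ← map_add, ← Pi.single_smul, ← Pi.single_smul,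
      ← Pi.single_add] at h
    have h3 := Pi.single_injective _ (Φ.injective h)
    have h5 : f₁ x₁ x₁ = 0 := hf₁.alternating x₁
    have h4 := congrArg (fun z => f₁ z x₁) h3
    simp only [hf₁.bilinear.add_left, hf₁.bilinear.smul_left, h5, mul_zero, add_zero] at h4
    have hr : r = 1 := (mul_eq_right₀ hx₂).1 h4.symm
    rw [hr, one_smul, add_eq_left] at h3
    exact hx₁ ((smul_eq_zero.1 h3).resolve_left hne)
  · rw [hwv, hval, map_add, map_smul, map_add, LinearEquiv.symm_apply_apply, LinearEquiv.symm_apply_apply,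
      LinearEquiv.symm_apply_apply]
    intro h
    simp at h
    have h4 := congrArg (fun z => f₁ z x₁) h
    have h0 : f₁ 0 x₁ = 0 := by
      have := hf₁.bilinear.smul_left 0 0 x₁
      simpa using this
    simp only [hf₁.bilinear.add_left, hf₁.bilinear.smul_left, hf₁.alternating x₁, mul_zero, add_zero, h0] at h4
    exact hx₂ h4
  · rw [hwv, hval, map_add, map_smul, map_add, LinearEquiv.symm_apply_apply, LinearEquiv.symm_apply_apply,
      LinearEquiv.symm_apply_apply]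
    simp [hne, hx₁, hd, hκ, hx₂]

end Cfsg.Agent.S5667
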