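import Cfsg.Statements.S5671
import Cfsg.Agent.Lib.Classical.NotMaxTensor
import Cfsg.Agent.Lib.Classical.MaxSUBase

set_option autoImplicit false
open Cfsg

open Cfsg.Agent.Classical
open Matrix

namespace Cfsg.Agent.S5671

/-- Let F be the field with 4 elements (q = 2) and n = 2 n₂ ≥ 13. Suppose the standard unitary form Σ u_i v_i² on F^n is similar, through P and e, to the tensor product of non-degenerate unitary forms f₁ on F^2 and f₂ on F^(n₂). Then the elements of SU_n(2) in the stabiliser of this tensor decomposition form a subgroup that is not maximal: some subgroup lies strictly between it and SU_n(2). -/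
theorem result {F : Type*} [Field F] [Fintype F] (n : ℕ) (hF : Fintype.card F = 4) (hn : 13 ≤ n) (n₂ : ℕ) (e : Fin n ≃ Fin 2 × Fin n₂) (P : Matrix.GeneralLinearGroup (Fin n) F) (f₁ : (Fin 2 → F) → (Fin 2 → F) → F) (f₂ : (Fin n₂ → F) → (Fin n₂ → F) → F) (hf₁ : Cfsg.Geo.IsUnitaryFormPow 2 f₁) (hf₂ : Cfsg.Geo.IsUnitaryFormPow 2 f₂) (hT : Cfsg.Geo.IsTensorFormStructure (fun x : F => x ^ 2) (Cfsg.hermForm n F 2) f₁ f₂ e P) : ∃ K : Subgroup (Matrix.GeneralLinearGroup (Fin n) F), Cfsg.Geo.tensorProductSubgroup 2 n₂ e P ⊓ (Cfsg.GU n F 2 ⊓ Cfsg.Geo.specialLinear (Fin n) F) < K ∧ K < (Cfsg.GU n F 2 ⊓ Cfsg.Geo.specialLinear (Fin n) F) := by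
  classical
  obtain ⟨s, hs, -, hs2⟩ := Unitary.exists_frob (F := F) (q := 2) (by rw [hF]; norm_num)
  have hsfun : (⇑s : F → F) = fun x => x ^ 2 := funext hs
  have h20 : (2 : F) = 0 := by
    have hc := FiniteField.cast_card_eq_zero F
    rw [hF] at hc; norm_num at hc
    exact mul_self_eq_zero.1 (show (2 : F) * 2 = 0 by rw [← hc]; norm_num)
  have h4 : ∀ r : F, r ≠ 0 → r * s r = 1 := fun r hr => by
    have := FiniteField.pow_card_sub_one_eq_one r hr
    rw [hF] at this
    rw [hs, ← pow_succ']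
    exact this
  have sesq : ∀ {k : ℕ} {f : (Fin k → F) → (Fin k → F) → F}, Cfsg.Geo.IsUnitaryFormPow 2 f →
      (∀ v x y, f v (x + y) = f v x + f v y) ∧ (∀ (r : F) v x, f v (r • x) = s r * f v x) ∧
      (∀ v w, f v w = s (f w v)) := by
    intro k f hf
    have hh : ∀ v w, f v w = s (f w v) := fun v w => by rw [hs]; exact hf.herm v w
    exact ⟨fun v x y => by rw [hh, hf.add_left, map_add, ← hh, ← hh],
      fun r v x => by rw [hh, hf.smul_left, map_mul, ← hh], hh⟩
  have self01 : ∀ {k : ℕ} {f : (Fin k → F) → (Fin k → F) → F}, Cfsg.Geo.IsUnitaryFormPow 2 f →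
      ∀ v, f v v ≠ 0 → f v v = 1 := by
    intro k f hf v hv
    have h := hf.herm v v
    refine mul_left_cancel₀ hv ?_
    rw [mul_one, ← pow_two]; exact h.symm
  have anis : ∀ {k : ℕ} {f : (Fin k → F) → (Fin k → F) → F}, Cfsg.Geo.IsUnitaryFormPow 2 f → 1 ≤ k →
      ∃ v, f v v = 1 := by
    intro k f hf hk
    by_contra hc
    push Not at hc
    have hz : ∀ v, f v v = 0 := fun v => by by_contra h; exact hc v (self01 hf v h)
    obtain ⟨hr, hrs, hh⟩ := sesq hf
    obtain ⟨v, hv⟩ : ∃ v : Fin k → F, v ≠ 0 := ⟨Pi.single ⟨0, by omega⟩ 1, by simp⟩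
    obtain ⟨⟨x, hx⟩, -⟩ := hf.nondegenerate v hv
    obtain ⟨a, ha0, ha1⟩ : ∃ a : F, a ≠ 0 ∧ a ≠ 1 := by
      by_contra hc'
      push Not at hc'
      have : Finset.univ ⊆ ({0, 1} : Finset F) := fun a _ => by
        by_cases h : a = 0
        · simp [h]
        · simp [hc' a h]
      have := Finset.card_le_card this
      rw [Finset.card_univ, hF] at this
      exact absurd (this.trans Finset.card_le_two) (by norm_num)
    have key : ∀ y, f y v + f v y = 0 := fun y => by
      have := hz (y + v)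
      rwa [hf.add_left, hr, hr, hz, hz, zero_add, add_zero] at this
    have e1 := key x
    have e2 := key (a • x)
    rw [hf.smul_left, hrs] at e2
    have e3 : (a - s a) * f x v = 0 := by linear_combination e2 - s a * e1
    have e4 : s a = a := (sub_eq_zero.1 ((mul_eq_zero.1 e3).resolve_right hx)).symm
    rw [hs, pow_two] at e4
    exact ha1 ((mul_eq_left₀ ha0).1 e4)
  obtain ⟨hr1, hrs1, hh1⟩ := sesq hf₁
  obtain ⟨hr2, hrs2, hh2⟩ := sesq hf₂
  obtain ⟨d, hd, hT'⟩ := NotMaxTensor.form_pure s e P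
    (NotMaxTensor.eq_gram s hf₁.add_left hf₁.smul_left hr1 hrs1)
    (NotMaxTensor.eq_gram s hf₂.add_left hf₂.smul_left hr2 hrs2) (by rw [hsfun]; exact hT)
  have second : ∀ {k : ℕ} {f : (Fin k → F) → (Fin k → F) → F}, Cfsg.Geo.IsUnitaryFormPow 2 f → 2 ≤ k →
      ∃ a b, f a a = 1 ∧ f b a = 0 ∧ f a b = 0 ∧ b ≠ 0 := by
    intro k f hf hk
    obtain ⟨hr, hrs, hh⟩ := sesq hf
    obtain ⟨a, ha⟩ := anis hf (by omega)
    obtain ⟨y, hy⟩ : ∃ y : Fin k → F, ∀ r : F, y ≠ r • a := by
      by_contra hc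
      push Not at hc
      have hle : (⊤ : Submodule F (Fin k → F)) ≤ Submodule.span F {a} := fun y _ => by
        obtain ⟨r, rfl⟩ := hc y
        exact Submodule.smul_mem _ _ (Submodule.mem_span_singleton_self a)
      have := (Submodule.finrank_mono hle).trans (finrank_span_le_card ({a} : Set (Fin k → F)))
      rw [finrank_top, Module.finrank_fin_fun] at this
      simp at this
      omega
    have hb : f (y + (-f y a) • a) a = 0 := by rw [hf.add_left, hf.smul_left, ha]; ring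
    exact ⟨a, y + (-f y a) • a, ha, hb, by rw [hh, hb, map_zero], fun e' => hy (f y a) (by
      rw [← sub_eq_zero, sub_eq_add_neg, ← neg_smul]; exact e')⟩
  obtain ⟨c0, c1, hc0, hc10, hc01, hc1ne⟩ := second hf₁ le_rfl
  have hcard : n = 2 * n₂ := by simpa using Fintype.card_congr e
  have hc11 : f₁ c1 c1 = 1 := by
    refine self01 hf₁ c1 fun h11 => ?_
    have hli : LinearIndependent F ![c0, c1] := by
      rw [LinearIndependent.pair_iff]
      intro x y hxy
      have h := congrArg (fun z => f₁ z c0) hxy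
      have h0 : f₁ 0 c0 = 0 := by simpa using hf₁.smul_left 0 0 c0
      simp only [hf₁.add_left, hf₁.smul_left, hc0, hc10, h0, mul_one, mul_zero, add_zero] at h
      rw [h, zero_smul, zero_add] at hxy
      exact ⟨h, (smul_eq_zero.1 hxy).resolve_right hc1ne⟩
    let bb := basisOfLinearIndependentOfCardEqFinrank hli (by simp)
    obtain ⟨⟨x, hx⟩, -⟩ := hf₁.nondegenerate c1 hc1ne
    refine hx ?_
    rw [← bb.sum_repr x, Fin.sum_univ_two, show bb 0 = c0 by simp [bb], show bb 1 = c1 by simp [bb], hf₁.add_left,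
      hf₁.smul_left, hf₁.smul_left, hc01, h11]
    ring
  have hli : LinearIndependent F ![c0, c1] := by
    rw [LinearIndependent.pair_iff]
    intro x y hxy
    have h := congrArg (fun z => f₁ z c0) hxy
    have h' := congrArg (fun z => f₁ z c1) hxy
    have h0 : ∀ z, f₁ 0 z = 0 := fun z => by simpa using hf₁.smul_left 0 0 z
    simp only [hf₁.add_left, hf₁.smul_left, hc0, hc10, hc01, hc11, h0, mul_one, mul_zero, add_zero, zero_add] at h h'
    exact ⟨h, h'⟩
  let c := basisOfLinearIndependentOfCardEqFinrank hli (by simp)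
  have hc : ∀ l k, f₁ (c l) (c k) = if l = k then 1 else 0 := fun l k => by
    fin_cases l <;> fin_cases k <;> simp [c, hc0, hc11, hc01, hc10]
  have hperm : ∀ (B : Matrix (Fin 2) (Fin 2) F) (μ : F), μ ≠ 0 → (∀ y y', f₁ (B *ᵥ y) (B *ᵥ y') = μ * f₁ y y') →
      ∃ (π : Equiv.Perm (Fin 2)) (r : Fin 2 → F), ∀ l, B *ᵥ c l = r l • c (π l) := by
    intro B μ hμ hB
    have h1 := hB (c 0) (c 0)
    rw [hc, if_pos rfl, mul_one] at h1
    have hμ1 : μ = 1 := h1 ▸ self01 hf₁ _ (by rw [h1]; exact hμ)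
    refine NotMaxTensor.frame_perm s hf₁.add_left hf₁.smul_left hr1 hrs1 c one_ne_zero hc h4 ?_ B
      (fun y y' => by rw [hB, hμ1, one_mul])
    intro N hN hN1
    interval_cases N
    · simp at hN1
    · rfl
    · exfalso
      rw [Nat.cast_ofNat, h20] at hN1
      exact zero_ne_one hN1
  obtain ⟨σ', hσ'⟩ := MaxSU.hermForm_unitary (F := F) (n := n) (q := 2) (by rw [hF]; norm_num)
  obtain ⟨Φ, hΦ⟩ := NotMaxTensor.exists_blocks (fun x y => NotMaxTensor.pure e P y x)
    (fun x x' y => NotMaxTensor.pure_add_right e P y x x') (fun r x y => NotMaxTensor.pure_smul_right e P r y x)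
    (f := Cfsg.hermForm n F 2) hσ'.add_left hσ'.smul_left hd
    (f₁ := f₂) (f₂ := f₁) (fun x y x' y' => by rw [hT']; ring) (fun x hx => (hf₂.nondegenerate x hx).2) c one_ne_zero hc
    (by simp; omega)
  have hform : ∀ l x k x', Cfsg.hermForm n F 2 (Φ (Pi.single l x)) (Φ (Pi.single k x')) =
      d * ((if l = k then 1 else 0) * f₂ x x') := fun l x k x' => by rw [hΦ, hΦ, hT', hc]
  obtain ⟨x₁, hx₁, hx₁0⟩ : ∃ x, f₂ x x = 0 ∧ x ≠ 0 := by
    obtain ⟨a, b, ha, hba, hab, hb⟩ := second hf₂ (by omega)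
    by_cases hbb : f₂ b b = 0
    · exact ⟨b, hbb, hb⟩
    refine ⟨a + b, ?_, fun e' => ?_⟩
    · rw [hf₂.add_left, hr2, hr2, ha, hba, hab, self01 hf₂ b hbb]; linear_combination h20
    · have h := congrArg (fun z => f₂ z a) e'
      have h0 : f₂ 0 a = 0 := by simpa using hf₂.smul_left 0 0 a
      simp only [hf₂.add_left, ha, hba, h0, add_zero] at h
      exact one_ne_zero h
  obtain ⟨x₂, hx₂⟩ := (hf₂.nondegenerate x₁ hx₁0).1
  have hiso : ∀ l, Cfsg.hermForm n F 2 (Φ (Pi.single l x₁)) (Φ (Pi.single l x₁)) = 0 := fun l => by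
    rw [hform, hx₁]; ring
  have hiso2 : Cfsg.hermForm n F 2 (Φ (Pi.single 0 x₁) + Φ (Pi.single 1 x₁))
      (Φ (Pi.single 0 x₁) + Φ (Pi.single 1 x₁)) = 0 := by
    rw [hσ'.add_left, HermSep.add_right hσ', HermSep.add_right hσ', hform, hform, hform, hform, hx₁]; ring
  have htr : ∀ v : Fin n → F, Cfsg.hermForm n F 2 v v = 0 →
      ∃ g ∈ Cfsg.GU n F 2 ⊓ Cfsg.Geo.specialLinear (Fin n) F, ∀ z,
        (g : Matrix (Fin n) (Fin n) F) *ᵥ z = z + Cfsg.hermForm n F 2 z v • v := by
    intro v hv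
    have h0 : ((1 : F) • HermSep.fn hσ' v : Module.Dual F (Fin n → F)) v = 0 := by simp [HermSep.fn_apply, hv]
    have ha : σ' (1 : F) = -1 := by rw [map_one]; linear_combination h20
    refine ⟨transGL _ v h0, MaxSU.mem_su_iff.2 (MaxSU.pres_T hσ' hv ha h0), fun z => ?_⟩
    rw [transGL_apply, LinearMap.smul_apply, HermSep.fn_apply, one_smul]
  obtain ⟨u, hu, huv⟩ := htr _ (hiso 0)
  obtain ⟨w, hw, hwv⟩ := htr _ hiso2
  have hne : d * f₂ x₂ x₁ ≠ 0 := mul_ne_zero hd hx₂
  have hval : Cfsg.hermForm n F 2 (Φ (Pi.single 0 x₂)) (Φ (Pi.single 0 x₁) + Φ (Pi.single 1 x₁)) = d * f₂ x₂ x₁ := by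
    rw [HermSep.add_right hσ', hform, hform]; simp
  refine NotMaxTensor.between Φ (i := 0) (j := 1) (by decide) _ _ ?_ hu (fun l hl x => ?_) (fun x => ?_) (fun r => ?_)
    hw (k₁ := 0) (k₂ := 1) (by decide) (l := 0) (x := x₂) ?_ ?_
  · rintro g ⟨hgT, hgS⟩
    obtain ⟨A, B, hAB⟩ := NotMaxTensor.mem_pure e P hgT
    exact NotMaxTensor.frame_hH (fun x y => NotMaxTensor.pure e P y x)
      (fun r x y => NotMaxTensor.pure_smul_left e P r y x)
      (fun r x y => NotMaxTensor.pure_smul_right e P r y x) hd (f₁ := f₂) (f₂ := f₁) (fun x y x' y' => by rw [hT']; ring)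
      hx₂ c 0 (by rw [hc, if_pos rfl]; exact one_ne_zero) hperm
      Φ hΦ g (fun x y => (MaxSU.mem_su_iff.1 hgS).1 x y) B A (fun x y => hAB y x)
  · rw [huv, hform, if_neg hl]; simp
  · exact ⟨x + Cfsg.hermForm n F 2 (Φ (Pi.single 0 x)) (Φ (Pi.single 0 x₁)) • x₁, by
      rw [huv, Pi.single_add, Pi.single_smul, map_add, map_smul]⟩
  · refine ⟨x₂, fun h => ?_⟩
    rw [huv, hform, if_pos rfl, one_mul, ← map_smul, ← map_smul, ← map_add, ← Pi.single_smul, ← Pi.single_smul,
      ← Pi.single_add] at h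
    have h3 := Pi.single_injective _ (Φ.injective h)
    have h4 := congrArg (fun z => f₂ z x₁) h3
    simp only [hf₂.add_left, hf₂.smul_left, hx₁, mul_zero, add_zero] at h4
    have hr : r = 1 := (mul_eq_right₀ hx₂).1 h4.symm
    rw [hr, one_smul, add_eq_left] at h3
    exact hx₁0 ((smul_eq_zero.1 h3).resolve_left hne)
  · rw [hwv, hval, map_add, map_smul, map_add, LinearEquiv.symm_apply_apply, LinearEquiv.symm_apply_apply,
      LinearEquiv.symm_apply_apply]
    intro h
    simp at h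
    have h4 := congrArg (fun z => f₂ z x₁) h
    have h0 : f₂ 0 x₁ = 0 := by simpa using hf₂.smul_left 0 0 x₁
    simp only [hf₂.add_left, hf₂.smul_left, hx₁, mul_zero, add_zero, h0] at h4
    exact hx₂ h4
  · rw [hwv, hval, map_add, map_smul, map_add, LinearEquiv.symm_apply_apply, LinearEquiv.symm_apply_apply,
      LinearEquiv.symm_apply_apply]
    simp [hx₁0, hd, hx₂]

end Cfsg.Agent.S5671
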