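import Cfsg.Statements.S5675
import Cfsg.Agent.Lib.Classical.MaxOrthNondegCases

set_option autoImplicit false
open Cfsg

open Cfsg.Agent.Classical

namespace Cfsg.Agent.S5675

/-- Let F be a finite field of odd order q, m ≥ 6, Q the standard quadratic form on F^(2m+1) and Ω the commutator subgroup of its isometry group. Let W be a non-zero subspace of even dimension on which the polar form of Q is non-degenerate; exclude the case q = 3, dim W = 2 with Q vanishing on some line of W (a plus-type plane). Then the elements of Ω stabilising W (equivalently, stabilising its orthogonal complement, of odd dimension) form a maximal subgroup of Ω. -/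
theorem result {F : Type*} [Field F] [Fintype F] (hodd : Odd (Fintype.card F)) (m : ℕ) (hm : 6 ≤ m) (W : Submodule F (Unit ⊕ (Fin m ⊕ Fin m) → F)) (hW0 : W ≠ ⊥) (hev : Even (Module.finrank F W)) (hW : Cfsg.Geo.IsNondegenerateOn (QuadraticMap.polar (Cfsg.quadFormOdd m F)) W) (hex : ¬ (Fintype.card F = 3 ∧ Module.finrank F W = 2 ∧ Cfsg.Geo.IsPlusTypeOn (Cfsg.quadFormOdd m F) W)) : Cfsg.Geo.IsMaximalIn (Cfsg.Geo.omegaGL (Cfsg.quadFormOdd m F)) (Cfsg.Geo.subspaceStabilizer W ⊓ Cfsg.Geo.omegaGL (Cfsg.quadFormOdd m F)) := by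
  have h2 : (2 : F) ≠ 0 := Disc.two_ne_zero_of_odd hodd
  have h := NotMax.quadFormOdd_nondeg (m := m) h2
  have hQ := NotMax.toQ_nondeg h
  set Qf := NotMax.toQ h with hQf
  have hs := Siegel.Split.of_orthogonal (Q := Qf) hQ hW
  have hd := hs.finrank_eq
  simp only [Fintype.card_sum, Fintype.card_unit, Fintype.card_fin] at hd
  obtain ⟨j, hj⟩ := hev
  refine Siegel.split_stab_maximal (Q := Qf) hQ (by simp; omega) hs hW0 ?_ ?_ (fun h' => by omega) (fun h' => by omega)
  · intro e; rw [e, finrank_bot] at hd; omega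
  · rintro ⟨hc, hf, s, hs', hs0, hQs⟩
    obtain ⟨i, hi⟩ := hodd
    have h1 : 1 < Fintype.card F := Fintype.one_lt_card
    refine hex ⟨by omega, hf, Submodule.span F {s}, (Submodule.span_singleton_le_iff_mem _ _).2 hs', fun w hw => ?_, ?_⟩
    · obtain ⟨r, rfl⟩ := Submodule.mem_span_singleton.1 hw
      show Qf (r • s) = 0
      rw [Siegel.Q_smul, hQs, mul_zero]
    · rw [finrank_span_singleton hs0, hf]

end Cfsg.Agent.S5675
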