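import Cfsg.Statements.S5677
import Cfsg.Agent.Lib.Classical.DecompOrthCase

set_option autoImplicit false
open Cfsg

open Cfsg.Agent.Classical

namespace Cfsg.Agent.S5677

/-- Let F be a finite field of odd order q, m ≥ 6, Q the standard quadratic form on F^(2m+1) and Ω the commutator subgroup of its isometry group. Let D be a decomposition of F^(2m+1) into t ≥ 2 pairwise orthogonal, pairwise Q-isometric subspaces of equal dimension k > 1 on which the polar form is non-degenerate. Unless q = 3 and k = 3, the elements of Ω permuting the members of D form a maximal subgroup of Ω. -/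
theorem result {F : Type*} [Field F] [Fintype F] (hodd : Odd (Fintype.card F)) (m : ℕ) (hm : 6 ≤ m) {t : ℕ} (k : ℕ) (hk : 1 < k) (D : Fin t → Submodule F (Unit ⊕ (Fin m ⊕ Fin m) → F)) (hD : Cfsg.Geo.IsOrthogonalMDecomposition (Cfsg.quadFormOdd m F) k D) (hex : ¬ (Fintype.card F = 3 ∧ k = 3)) : Cfsg.Geo.IsMaximalIn (Cfsg.Geo.omegaGL (Cfsg.quadFormOdd m F)) (Cfsg.Geo.decompositionStabilizer D ⊓ Cfsg.Geo.omegaGL (Cfsg.quadFormOdd m F)) := by
  have h2 : (2 : F) ≠ 0 := Disc.two_ne_zero_of_odd hodd
  have h := NotMax.quadFormOdd_nondeg (m := m) h2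
  have hdd := hD.decomp
  have hsum : t * k = 2 * m + 1 := by
    have e := LinearEquiv.finrank_eq (LinearEquiv.ofBijective (MaxSub.sumMap D)
      (MaxSub.sumMap_bijective D hdd.decomp.indep hdd.decomp.iSup_eq_top))
    rw [Module.finrank_pi_fintype, Module.finrank_pi] at e
    simp only [hdd.decomp.finrank_eq, Finset.sum_const, Finset.card_univ, Fintype.card_fin, smul_eq_mul,
      Fintype.card_sum, Fintype.card_unit] at e
    omega
  have hko : Odd k := by
    rcases Nat.even_or_odd k with he | ho
    · exact absurd (hsum ▸ he.mul_left t) (Nat.not_even_iff_odd.2 ⟨m, rfl⟩)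
    · exact ho
  have hk3 : 3 ≤ k := by
    obtain ⟨j, hj⟩ := hko
    omega
  have hd : DecompOrth.Dec (NotMax.toQ h) D k :=
    { nd := NotMax.toQ_nondeg h
      ndD := fun i w hw hx => by
        by_contra h0
        obtain ⟨x, hx', hne⟩ := (hdd.nondegenerate i w hw h0).1
        exact hne (hx x hx')
      orth := fun i j hij u hu v hv => hdd.orthogonal i j hij u hu v hv
      ind := hdd.decomp.indep
      sup := hdd.decomp.iSup_eq_top
      rank := hdd.decomp.finrank_eq
      three := hk3
      qk := by
        obtain ⟨j, hj⟩ := hko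
        obtain ⟨i, hi⟩ := hodd
        have h1 : 1 < Fintype.card F := Fintype.one_lt_card
        by_contra hc
        push Not at hc
        exact hex ⟨by omega, by omega⟩
      two := h2
      big := by simp; omega
      iso := hD.isometric }
  have := DecompOrth.decomp_maximal hd hdd.decomp.two_le
  rw [NotMax.toQ_coe h] at this
  exact this

end Cfsg.Agent.S5677
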