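import Cfsg.Statements.S5685
import Cfsg.Agent.Lib.Classical.MaxOrthSubspace

set_option autoImplicit false
open Cfsg

open Cfsg.Agent.Classical

namespace Cfsg.Agent.S5685

/-- Let F be a finite field with q elements, n ≥ 13 even, Q a non-degenerate quadratic form on F^n of plus type (some subspace of dimension n/2 is totally singular), and Ω the commutator subgroup of the isometry group of Q, viewed inside GL_n(F). The elements of Ω stabilising a non-zero subspace W on which Q vanishes, with dim W ≠ n/2 − 1, form a maximal subgroup of Ω. -/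
theorem result {F : Type*} [Field F] [Fintype F] {n : ℕ} (hn : 13 ≤ n) (heven : Even n) (Q : (Fin n → F) → F) (hQ : Cfsg.Geo.IsNondegenerateQuadraticForm Q) (hplus : Cfsg.Geo.IsPlusTypeOn Q ⊤) (W : Submodule F (Fin n → F)) (hW0 : W ≠ ⊥) (hW : Cfsg.Geo.IsTotallySingularQuad Q W) (hdim : 2 * (Module.finrank F W + 1) ≠ n) : Cfsg.Geo.IsMaximalIn (Cfsg.Geo.omegaGL Q) (Cfsg.Geo.subspaceStabilizer W ⊓ Cfsg.Geo.omegaGL Q) := by
  have hN := NotMax.toQ_nondeg hQ
  refine Siegel.ts_stab_maximal' (NotMax.toQ hQ) hN (by simp; omega) W hW0 hW ?_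
  have hWd := Siegel.ts_dim (NotMax.toQ hQ) hN hW
  rw [Fintype.card_fin] at hWd
  by_cases hk : 2 * Module.finrank F W = n
  · refine Or.inr fun c hc hperp => ?_
    by_contra hcW
    have hlt : Module.finrank F W < Module.finrank F (W ⊔ Submodule.span F {c} : Submodule F (Fin n → F)) :=
      Submodule.finrank_lt_finrank_of_lt (lt_of_le_of_ne le_sup_left fun e => hcW (by
        rw [e]; exact Submodule.mem_sup_right (Submodule.mem_span_singleton_self c)))
    have h := Siegel.ts_dim (NotMax.toQ hQ) hN (S := W ⊔ Submodule.span F {c}) fun u hu => by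
      obtain ⟨w', hw', v, hv, rfl⟩ := Submodule.mem_sup.1 hu
      obtain ⟨r, rfl⟩ := Submodule.mem_span_singleton.1 hv
      rw [Siegel.Q_add, Siegel.Q_smul, hc, QuadraticMap.polar_smul_right, QuadraticMap.polar_comm _ w' c, hperp w' hw']
      simp [show (NotMax.toQ hQ) w' = 0 from hW w' hw']
    rw [Fintype.card_fin] at h
    omega
  · refine Or.inl fun U hU => ?_
    have := Siegel.ts_dim (NotMax.toQ hQ) hN hU
    rw [Fintype.card_fin] at this ⊢
    obtain ⟨k, rfl⟩ := heven
    omega

end Cfsg.Agent.S5685
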