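import Cfsg.Statements.S5686
import Cfsg.Agent.Lib.Classical.NotMaxPlus

set_option autoImplicit false
open Cfsg

open Cfsg.Agent.Classical
open Module QuadraticMap

namespace Cfsg.Agent.S5686

/-- Let F be a finite field with q elements, n ≥ 13 even, Q a non-degenerate quadratic form on F^n of plus type (some subspace of dimension n/2 is totally singular), and Ω the commutator subgroup of the isometry group of Q, viewed inside GL_n(F). The elements of Ω stabilising a subspace of dimension n/2 − 1 on which Q vanishes form a subgroup that is not maximal: some subgroup lies strictly between it and Ω. -/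
theorem result {F : Type*} [Field F] [Fintype F] {n : ℕ} (hn : 13 ≤ n) (heven : Even n) (Q : (Fin n → F) → F) (hQ : Cfsg.Geo.IsNondegenerateQuadraticForm Q) (hplus : Cfsg.Geo.IsPlusTypeOn Q ⊤) (W : Submodule F (Fin n → F)) (hW : Cfsg.Geo.IsTotallySingularQuad Q W) (hdim : 2 * (Module.finrank F W + 1) = n) : ∃ K : Subgroup (Matrix.GeneralLinearGroup (Fin n) F), Cfsg.Geo.subspaceStabilizer W ⊓ Cfsg.Geo.omegaGL Q < K ∧ K < Cfsg.Geo.omegaGL Q := by
  classical
  obtain ⟨U, -, hU, hUd⟩ := hplus
  rw [finrank_top, Module.finrank_fin_fun] at hUd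
  obtain ⟨k, hk⟩ : ∃ k, finrank F W = k := ⟨_, rfl⟩
  set m := k + 1 with hm
  obtain ⟨φ₀, hφ₀⟩ := WittDec.exists_equiv_plus (NotMax.toQ hQ) (NotMax.toQ_nondeg hQ) (m := m)
    (by rw [Module.finrank_fin_fun]; omega) ⟨U, by omega, hU⟩
  set W₀ := W.map φ₀.symm.toLinearMap with hW₀
  have hW₀d : finrank F W₀ = k := by rw [hW₀, LinearEquiv.finrank_map_eq]; exact hk
  let e : W₀ ≃ₗ[F] (Fin k → F) := LinearEquiv.ofFinrankEq _ _ (by rw [hW₀d, Module.finrank_fin_fun])
  let emb : (Fin k → F) →ₗ[F] (Fin m ⊕ Fin m → F) :=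
    { toFun := fun u => Sum.elim (Fin.cons 0 u) 0
      map_add' := fun u v => funext fun x => by
        rcases x with i | i
        · induction i using Fin.cases <;> simp
        · simp
      map_smul' := fun c v => funext fun x => by
        rcases x with i | i
        · induction i using Fin.cases <;> simp
        · simp }
  have hemb : Function.Injective emb := fun u v h => funext fun i => by
    have h' := congrFun h (.inl i.succ)
    simpa [emb] using h'
  have hemb0 : ∀ u, Cfsg.quadFormPlus m F (emb u) = 0 := fun u =>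
    Finset.sum_eq_zero fun i _ => by simp [emb]
  obtain ⟨g, hg, hgx⟩ := WittExt.extend PlusMax.QP PlusMax.nondeg _ W₀ (emb.comp e.toLinearMap) rfl
    (hemb.comp e.injective) (fun x => by
      rw [PlusMax.QP_apply, PlusMax.QP_apply]
      refine (hemb0 _).trans ?_
      obtain ⟨w, hw, he⟩ := x.2
      rw [← he, ← hφ₀]
      refine Eq.symm ?_
      show NotMax.toQ hQ (φ₀ (φ₀.symm w)) = 0
      rw [LinearEquiv.apply_symm_apply]
      exact hW w hw)
  have hgW : ∀ w (hw : w ∈ W), g (φ₀.symm w) = emb (e ⟨φ₀.symm w, Submodule.mem_map_of_mem hw⟩) := fun w hw => hgx ⟨φ₀.symm w, Submodule.mem_map_of_mem hw⟩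
  have := NotMax.submax (NotMax.toQ hQ) (g.symm.trans φ₀) (fun v => by
      rw [LinearEquiv.trans_apply, hφ₀, ← PlusMax.QP_apply, ← hg, LinearEquiv.apply_symm_apply, PlusMax.QP_apply])
    (by omega) W (by omega) (fun w hw => ?_) ⟨0, fun w hw => ?_⟩
  · exact this
  · refine ⟨g (φ₀.symm w), ?_, by simp⟩
    rw [hgW w hw]
    intro i
    simp [emb]
  · show g (φ₀.symm w) (.inl 0) = 0
    rw [hgW w hw]
    simp [emb]

end Cfsg.Agent.S5686
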