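import Cfsg.Statements.S5689
import Cfsg.Agent.Lib.Classical.MaxOrthNondegCases

set_option autoImplicit false
open Cfsg

open Cfsg.Agent.Classical

namespace Cfsg.Agent.S5689

/-- Let F be a finite field with q elements, n ≥ 13 even, Q a non-degenerate quadratic form on F^n of minus type (no subspace of dimension n/2 is totally singular), and Ω the commutator subgroup of the isometry group of Q, viewed inside GL_n(F). Let W be a non-zero proper subspace on which the polar form of Q is non-degenerate, not of odd dimension n/2. Exclude the case q ≤ 3 in which W, or its orthogonal complement, is a plane containing a line on which Q vanishes. Then the elements of Ω stabilising W form a maximal subgroup of Ω. -/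
theorem result {F : Type*} [Field F] [Fintype F] {n : ℕ} (hn : 13 ≤ n) (heven : Even n) (Q : (Fin n → F) → F) (hQ : Cfsg.Geo.IsNondegenerateQuadraticForm Q) (hminus : ¬ Cfsg.Geo.IsPlusTypeOn Q ⊤) (W : Submodule F (Fin n → F)) (hW0 : W ≠ ⊥) (hW1 : W ≠ ⊤) (hdim : ¬ (2 * Module.finrank F W = n ∧ Odd (Module.finrank F W))) (hW : Cfsg.Geo.IsNondegenerateOn (QuadraticMap.polar Q) W) (hex : ¬ (Fintype.card F ≤ 3 ∧ (∃ U : Submodule F (Fin n → F), Module.finrank F U = 2 ∧ Cfsg.Geo.IsNondegenerateOn (QuadraticMap.polar Q) U ∧ Cfsg.Geo.IsPlusTypeOn Q U ∧ (U = W ∨ (Cfsg.Geo.AreOrthogonalFor (QuadraticMap.polar Q) U W ∧ Module.finrank F U + Module.finrank F W = n))))) : Cfsg.Geo.IsMaximalIn (Cfsg.Geo.omegaGL Q) (Cfsg.Geo.subspaceStabilizer W ⊓ Cfsg.Geo.omegaGL Q) := by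
  have hN := NotMax.toQ_nondeg hQ
  set Qf := NotMax.toQ hQ with hQf
  have hs := Siegel.Split.of_orthogonal (Q := Qf) hN hW
  have hd := hs.finrank_eq
  rw [Fintype.card_fin] at hd
  set U := LinearMap.BilinForm.orthogonal (QuadraticMap.polarBilin Qf) W with hU
  have plus : ∀ P : Submodule F (Fin n → F), Module.finrank F P = 2 → ∀ s ∈ P, s ≠ 0 → Qf s = 0 →
      Cfsg.Geo.IsPlusTypeOn Q P := fun P hP s hsP hs0 hQs => by
    refine ⟨Submodule.span F {s}, (Submodule.span_singleton_le_iff_mem _ _).2 hsP, fun w hw => ?_, ?_⟩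
    · obtain ⟨r, rfl⟩ := Submodule.mem_span_singleton.1 hw
      show Qf (r • s) = 0
      rw [Siegel.Q_smul, hQs, mul_zero]
    · rw [finrank_span_singleton hs0, hP]
  refine Siegel.split_stab_maximal (Q := Qf) hN (by simpa using hn) hs hW0 ?_ ?_ ?_ (fun heq hiso => ?_)
  · intro e
    rw [e, finrank_bot] at hd
    exact hW1 (Submodule.eq_top_of_finrank_eq (by rw [Module.finrank_pi, Fintype.card_fin]; omega))
  · rintro ⟨hc, hf, s, hs', hs0, hQs⟩
    exact hex ⟨hc, W, hf, hW, plus W hf s hs' hs0 hQs, Or.inl rfl⟩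
  · rintro ⟨hc, hf, s, hs', hs0, hQs⟩
    refine hex ⟨hc, U, hf, fun u hu hu0 => ?_, plus U hf s hs' hs0 hQs,
      Or.inr ⟨fun u hu w hw => hs.orth' hu hw, by omega⟩⟩
    obtain ⟨x, hx, hxu⟩ : ∃ x ∈ U, QuadraticMap.polar Qf x u ≠ 0 := by
      by_contra hc'; push Not at hc'; exact hu0 (hs.ndU u hu hc')
    exact ⟨⟨x, hx, hxu⟩, x, hx, by rw [QuadraticMap.polar_comm]; exact hxu⟩
  · have hev : Even (Module.finrank F U) := (Nat.even_or_odd _).resolve_right fun ho => hdim ⟨by omega, heq ▸ ho⟩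
    obtain ⟨T, hT, hTd⟩ := Siegel.ts_half hs hev hiso
    exact hminus ⟨T, le_top, hT, by rw [finrank_top, Module.finrank_pi, Fintype.card_fin]; omega⟩

end Cfsg.Agent.S5689
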