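import Cfsg.Statements.S5697
import Cfsg.Agent.Lib.Classical.MaxOrthPairMax

set_option autoImplicit false
open Cfsg

open Cfsg.Agent.Classical

namespace Cfsg.Agent.S5697

/-- Let F be a finite field with q elements, n ≥ 13 even, Q a non-degenerate quadratic form on F^n of plus type (some subspace of dimension n/2 is totally singular), and Ω the commutator subgroup of the isometry group of Q, viewed inside GL_n(F). Suppose n/2 is even and let D be a decomposition of F^n into two complementary subspaces of dimension n/2 on each of which Q vanishes. Then the elements of Ω preserving or interchanging the two subspaces form a maximal subgroup of Ω. -/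
theorem result {F : Type*} [Field F] [Fintype F] {n : ℕ} (hn : 13 ≤ n) (heven : Even n) (Q : (Fin n → F) → F) (hQ : Cfsg.Geo.IsNondegenerateQuadraticForm Q) (hplus : Cfsg.Geo.IsPlusTypeOn Q ⊤) (k : ℕ) (hk : 2 * k = n) (hke : Even k) (D : Fin 2 → Submodule F (Fin n → F)) (hD : Cfsg.Geo.IsMDecomposition k D) (hts : ∀ i, Cfsg.Geo.IsTotallySingularQuad Q (D i)) : Cfsg.Geo.IsMaximalIn (Cfsg.Geo.omegaGL Q) (Cfsg.Geo.decompositionStabilizer D ⊓ Cfsg.Geo.omegaGL Q) := by
  have hN := NotMax.toQ_nondeg hQ
  set Qf := NotMax.toQ hQ with hQf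
  have hf := hD.finrank_eq
  obtain ⟨j, hj⟩ := heven
  have htop : D 0 ⊔ D 1 = ⊤ := by
    rw [eq_top_iff, ← hD.iSup_eq_top, iSup_le_iff]
    intro i
    fin_cases i
    · exact le_sup_left
    · exact le_sup_right
  have hdis : Disjoint (D 0) (D 1) := hD.indep.pairwiseDisjoint (show (0 : Fin 2) ≠ 1 by decide)
  have hp : Siegel.TsPair Qf (D 0) (D 1) := ⟨hts 0, hts 1, fun z hz hz' => Submodule.disjoint_def.1 hdis z hz hz',
    fun z => by
      obtain ⟨w, hw, u, hu, e⟩ := Submodule.mem_sup.1 (htop ▸ Submodule.mem_top : z ∈ D 0 ⊔ D 1)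
      exact ⟨w, hw, u, hu, e.symm⟩, by rw [hf]; omega, by rw [hf]; omega⟩
  exact Siegel.ts_pair_maximal (Q := Qf) D hp (by rw [hf, hf]) (by rw [hf]; exact hke) hN (by simp; omega)

end Cfsg.Agent.S5697
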