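import Cfsg.Statements.S5698
import Cfsg.Agent.Lib.Classical.NotMaxPlus

set_option autoImplicit false
open Cfsg

open Cfsg.Agent.Classical
open Module QuadraticMap

namespace Cfsg.Agent.S5698

/-- Let F be a finite field with q elements, n ≥ 13 even, Q a non-degenerate quadratic form on F^n of plus type (some subspace of dimension n/2 is totally singular), and Ω the commutator subgroup of the isometry group of Q, viewed inside GL_n(F). Suppose n/2 is odd and let D be a decomposition of F^n into two complementary subspaces of dimension n/2 on each of which Q vanishes. Then the elements of Ω preserving or interchanging the two subspaces form a subgroup that is not maximal: some subgroup lies strictly between it and Ω. -/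
theorem result {F : Type*} [Field F] [Fintype F] {n : ℕ} (hn : 13 ≤ n) (heven : Even n) (Q : (Fin n → F) → F) (hQ : Cfsg.Geo.IsNondegenerateQuadraticForm Q) (hplus : Cfsg.Geo.IsPlusTypeOn Q ⊤) (k : ℕ) (hk : 2 * k = n) (hko : Odd k) (D : Fin 2 → Submodule F (Fin n → F)) (hD : Cfsg.Geo.IsMDecomposition k D) (hts : ∀ i, Cfsg.Geo.IsTotallySingularQuad Q (D i)) : ∃ K : Subgroup (Matrix.GeneralLinearGroup (Fin n) F), Cfsg.Geo.decompositionStabilizer D ⊓ Cfsg.Geo.omegaGL Q < K ∧ K < Cfsg.Geo.omegaGL Q := by
  classical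
  obtain ⟨htwo, hpos, hdim, hind, hspan⟩ := hD
  set R := NotMax.toQ hQ with hR
  have hpol : ∀ (i : Fin 2), ∀ u ∈ D i, ∀ v ∈ D i, polar R u v = 0 := fun i u hu v hv => by
    show Q (u + v) - Q u - Q v = 0
    rw [hts i _ (add_mem hu hv), hts i u hu, hts i v hv]; ring
  have hc : IsCompl (D 0) (D 1) := ⟨hind.pairwiseDisjoint (by decide), codisjoint_iff.2 (eq_top_iff.2 (by
    rw [← hspan]; exact iSup_le fun i => by fin_cases i <;> simp))⟩
  let b : Basis (Fin k) F (D 0) := Module.finBasisOfFinrankEq F _ (hdim 0)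
  let T : D 1 →ₗ[F] (Fin k → F) := LinearMap.pi fun i => (polarBilin R (b i : Fin n → F)).comp (D 1).subtype
  have hT : Function.Injective T := by
    rw [← LinearMap.ker_eq_bot, Submodule.eq_bot_iff]
    intro y hy
    refine Subtype.ext ((NotMax.toQ_nondeg hQ).2 _ fun x => ?_)
    obtain ⟨u, hu, v, hv, rfl⟩ := Submodule.mem_sup.1 (hc.sup_eq_top ▸ Submodule.mem_top : x ∈ D 0 ⊔ D 1)
    have hu' : u = ∑ i, b.repr ⟨u, hu⟩ i • (b i : Fin n → F) := by
      have := congrArg Subtype.val (b.sum_repr ⟨u, hu⟩)
      rw [Submodule.coe_sum] at this; exact this.symm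
    rw [map_add, LinearMap.add_apply, hu', map_sum, LinearMap.sum_apply]
    show (∑ i, polarBilin R (b.repr ⟨u, hu⟩ i • (b i : Fin n → F)) y) + polar R v y = 0
    rw [hpol 1 v hv y y.2, add_zero, Finset.sum_eq_zero]
    intro i _
    rw [map_smul, LinearMap.smul_apply]
    have := congrFun hy i
    simp only [T, LinearMap.pi_apply, LinearMap.comp_apply] at this
    exact (congrArg (fun z => b.repr ⟨u, hu⟩ i • z) this).trans (smul_zero _)
  let T' : D 1 ≃ₗ[F] (Fin k → F) := LinearEquiv.ofInjectiveOfFinrankEq T hT (by rw [hdim 1, Module.finrank_fin_fun])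
  let φ : (Fin k ⊕ Fin k → F) ≃ₗ[F] (Fin n → F) :=
    ((LinearEquiv.sumArrowLequivProdArrow _ _ F F).trans (b.equivFun.symm.prodCongr T'.symm)).trans
      (Submodule.prodEquivOfIsCompl _ _ hc)
  have hφ' : ∀ v, φ v = (b.equivFun.symm (fun i => v (.inl i)) : Fin n → F) + (T'.symm (fun i => v (.inr i)) : Fin n → F) :=
    fun v => rfl
  have hφ : ∀ v, R (φ v) = Cfsg.quadFormPlus k F v := by
    intro v
    set y := T'.symm fun i => v (.inr i) with hy
    rw [hφ', QuadraticMap.map_add ⇑R, show R ((b.equivFun.symm fun i => v (.inl i)) : Fin n → F) = 0 from hts 0 _ (Subtype.prop _),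
      show R ((T'.symm fun i => v (.inr i)) : Fin n → F) = 0 from hts 1 _ (Subtype.prop _), zero_add, zero_add,
      Basis.equivFun_symm_apply, ← hy]
    show polarBilin R ((∑ i, v (.inl i) • b i : D 0) : Fin n → F) (y : Fin n → F) = _
    rw [Submodule.coe_sum, map_sum, LinearMap.sum_apply]
    refine Finset.sum_congr rfl fun i _ => ?_
    have := congrFun (T'.apply_symm_apply fun i => v (.inr i)) i
    rw [← hy] at this
    rw [Submodule.coe_smul, map_smul, LinearMap.smul_apply, smul_eq_mul]
    exact congrArg (v (.inl i) * ·) this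
  refine NotMax.pairStab R φ hφ (by omega) hko D ?_ ?_
  · refine le_antisymm (fun x hx => ?_) ?_
    · refine ⟨Sum.elim (b.equivFun ⟨x, hx⟩) 0, fun i => by simp, ?_⟩
      show φ _ = x
      rw [hφ']
      simp
      rfl
    · rintro _ ⟨v, hv, rfl⟩
      show φ v ∈ D 0
      rw [hφ', show (fun i => v (.inr i)) = (0 : Fin k → F) from funext fun i => by simpa using hv i,
        map_zero, Submodule.coe_zero, add_zero]
      exact Subtype.prop _
  · refine le_antisymm (fun x hx => ?_) ?_
    · refine ⟨Sum.elim 0 (T' ⟨x, hx⟩), fun i => by simp, ?_⟩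
      show φ _ = x
      rw [hφ']
      simp
    · rintro _ ⟨v, hv, rfl⟩
      show φ v ∈ D 1
      rw [hφ', show (fun i => v (.inl i)) = (0 : Fin k → F) from funext fun i => by simpa using hv i]
      simp

end Cfsg.Agent.S5698
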