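import Cfsg.Statements.S5699
import Cfsg.Agent.Lib.Classical.MaxOrthNondegCases

set_option autoImplicit false
open Cfsg

open Cfsg.Agent.Classical

namespace Cfsg.Agent.S5699

/-- Let F be a finite field with q elements, n ≥ 13 even, Q a non-degenerate quadratic form on F^n (of either type), and Ω the commutator subgroup of the isometry group of Q, viewed inside GL_n(F). Let D be a decomposition of F^n into two orthogonal subspaces of odd dimension n/2 on which the polar form is non-degenerate and which are not Q-isometric to each other. Then the elements of Ω permuting (necessarily fixing) the two subspaces form a maximal subgroup of Ω. -/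
theorem result {F : Type*} [Field F] [Fintype F] {n : ℕ} (hn : 13 ≤ n) (heven : Even n) (Q : (Fin n → F) → F) (hQ : Cfsg.Geo.IsNondegenerateQuadraticForm Q) (k : ℕ) (hk : 2 * k = n) (hko : Odd k) (D : Fin 2 → Submodule F (Fin n → F)) (hD : Cfsg.Geo.IsNondegenerateMDecomposition (QuadraticMap.polar Q) k D) (hni : ¬ Cfsg.Geo.AreIsometricFor Q (D 0) (D 1)) : Cfsg.Geo.IsMaximalIn (Cfsg.Geo.omegaGL Q) (Cfsg.Geo.decompositionStabilizer D ⊓ Cfsg.Geo.omegaGL Q) := by
  have hN := NotMax.toQ_nondeg hQ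
  set Qf := NotMax.toQ hQ with hQf
  obtain ⟨hdec, hnd, hor⟩ := hD
  have nd : ∀ i, ∀ w ∈ D i, (∀ y ∈ D i, QuadraticMap.polar Qf y w = 0) → w = 0 := fun i w hw h => by
    by_contra h0
    obtain ⟨x, hx, hxw⟩ := (hnd i w hw h0).1
    exact hxw (h x hx)
  have htop : D 0 ⊔ D 1 = ⊤ := by
    rw [eq_top_iff, ← hdec.iSup_eq_top, iSup_le_iff]
    intro i
    fin_cases i
    · exact le_sup_left
    · exact le_sup_right
  have hs : Siegel.Split Qf (D 0) (D 1) := ⟨hor 0 1 (by decide), fun x => by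
    obtain ⟨w, hw, u, hu, e⟩ := Submodule.mem_sup.1 (htop ▸ Submodule.mem_top : x ∈ D 0 ⊔ D 1)
    exact ⟨w, hw, u, hu, e.symm⟩, nd 0, nd 1⟩
  have hf := hdec.finrank_eq
  have heq : Cfsg.Geo.decompositionStabilizer D ⊓ Cfsg.Geo.omegaGL Q =
      Cfsg.Geo.subspaceStabilizer (D 0) ⊓ Cfsg.Geo.omegaGL Q := by
    ext g
    constructor
    · rintro ⟨⟨σ, hσ⟩, hΩ⟩
      obtain ⟨kk, hkk, rfl⟩ := hΩ
      refine ⟨MaxLin.mem_stabilizer_of_mapsTo fun w hw => ?_, kk, hkk, rfl⟩
      have h1 := (hσ 0).le (Submodule.mem_map_of_mem (f := Matrix.toLin' ((kk : GL (Fin n) F) : Matrix (Fin n) (Fin n) F)) hw)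
      rcases (show σ 0 = 0 ∨ σ 0 = 1 by omega) with h0 | h0
      · rw [h0, Matrix.toLin'_apply] at h1; exact h1
      · refine absurd (Siegel.areIsometricFor_of_maps (Q := Qf) (g := kk) (U := D 0) (W := D 1) (fun u hu => ?_)
          (by rw [hf 0, hf 1])) hni
        have h2 := (hσ 0).le (Submodule.mem_map_of_mem (f := Matrix.toLin' ((kk : GL (Fin n) F) : Matrix (Fin n) (Fin n) F)) hu)
        rw [h0, Matrix.toLin'_apply] at h2; exact h2
    · rintro ⟨hg, hΩ⟩
      obtain ⟨kk, hkk, rfl⟩ := hΩ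
      refine ⟨⟨1, fun i => Submodule.eq_of_le_of_finrank_le ?_ ?_⟩, kk, hkk, rfl⟩
      · rintro _ ⟨x, hx, rfl⟩
        rw [Matrix.toLin'_apply]
        fin_cases i
        · exact (hg x).1 hx
        · exact Siegel.mapsU hs (g := kk) (fun w hw => (hg w).1 hw) x hx
      · refine le_of_eq (LinearEquiv.finrank_eq (Submodule.equivMapOfInjective _ ?_ (D i)))
        intro x y e
        rw [Matrix.toLin'_apply, Matrix.toLin'_apply] at e
        exact NotMax.mulVec_inj _ e
  have hnb : ∀ i, D i ≠ ⊥ := fun i e => by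
    have := hf i
    rw [e, finrank_bot] at this
    omega
  rw [heq]
  refine Siegel.split_stab_maximal (Q := Qf) hN (by simpa using hn) hs (hnb 0) (hnb 1) ?_ ?_ fun _ h => hni ?_
  · rintro ⟨-, h2, -⟩; rw [hf 0] at h2; omega
  · rintro ⟨-, h2, -⟩; rw [hf 1] at h2; omega
  · obtain ⟨e, he⟩ := h
    refine ⟨e.symm, fun w => ?_⟩
    have h3 := (he (e.symm w)).symm
    rw [LinearEquiv.apply_symm_apply] at h3
    exact h3

end Cfsg.Agent.S5699
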