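import Cfsg.Statements.S5700
import Cfsg.Agent.Lib.Classical.OverfieldOrth

set_option autoImplicit false
open Cfsg

open Cfsg.Agent.Classical
open QuadraticMap Matrix

namespace Cfsg.Agent.S5700

/-- Let F be a finite field with q elements, n ≥ 13 even, Q a non-degenerate quadratic form on F^n (of either type), and Ω the commutator subgroup of the isometry group of Q, viewed inside GL_n(F). Let K be a subfield of the algebra of n × n matrices over F containing the scalars, of degree 2 over F, closed under adjoints for the polar form of Q but not consisting of self-adjoint elements, and such that every k in K rescales Q (Q(k v) = c Q(v) for a constant c depending on k). Then the elements of Ω normalising K form a maximal subgroup of Ω. -/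
theorem result {F : Type*} [Field F] [Fintype F] {n : ℕ} (hn : 13 ≤ n) (heven : Even n) (Q : (Fin n → F) → F) (hQ : Cfsg.Geo.IsNondegenerateQuadraticForm Q) (K : Subalgebra F (Matrix (Fin n) (Fin n) F)) (hK : Cfsg.Geo.IsFieldSubalgebra 2 K) (hac : Cfsg.Geo.IsAdjointClosedFor (QuadraticMap.polar Q) K) (hnsa : ¬ Cfsg.Geo.IsSelfAdjointFor (QuadraticMap.polar Q) K) (hsc : ∀ k ∈ K, ∃ c : F, ∀ v : (Fin n → F), Q (Matrix.mulVec k v) = c * Q v) : Cfsg.Geo.IsMaximalIn (Cfsg.Geo.omegaGL Q) (Cfsg.Geo.subalgebraNormalizer K ⊓ Cfsg.Geo.omegaGL Q) := by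
  have hns : ∃ θ ∈ K, ∀ c : F, θ ≠ c • (1 : Matrix (Fin n) (Fin n) F) := by
    by_contra hc
    push Not at hc
    refine hnsa fun k hk u v => ?_
    obtain ⟨c, rfl⟩ := hc k hk
    rw [Matrix.smul_mulVec, Matrix.smul_mulVec, Matrix.one_mulVec, Matrix.one_mulVec, hQ.polar_bilinear.smul_left,
      hQ.polar_bilinear.smul_right]
  obtain ⟨θ, hθ, hθs⟩ := hns
  obtain ⟨θ', hθ', hadj⟩ := hac θ hθ
  set P : QuadraticForm F (Fin n → F) := NotMax.toQ hQ with hP
  have hnd : (polarBilin P).Nondegenerate := NotMax.toQ_nondeg hQ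
  have heq : ∀ A B : Matrix (Fin n) (Fin n) F, (∀ x y, polar Q x (A *ᵥ y) = polar Q x (B *ᵥ y)) → A = B :=
    fun A B h => Matrix.toLin'.injective (LinearMap.ext fun y => by
      rw [Matrix.toLin'_apply, Matrix.toLin'_apply]
      by_contra hne
      obtain ⟨x, hx⟩ := (hQ.nondegenerate _ (sub_ne_zero.2 hne)).1
      refine hx ?_
      show polar P x (A *ᵥ y - B *ᵥ y) = 0
      rw [polar_sub_right]
      exact sub_eq_zero.2 (h x y))
  have hone : (1 : Matrix (Fin n) (Fin n) F) ∈ K := one_mem K
  have hli : LinearIndependent F ![(⟨1, hone⟩ : K), ⟨θ, hθ⟩] := by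
    rw [LinearIndependent.pair_iff]
    intro s t h
    have h' : s • (1 : Matrix (Fin n) (Fin n) F) + t • θ = 0 := congrArg Subtype.val h
    rcases eq_or_ne t 0 with rfl | ht
    · refine ⟨?_, rfl⟩
      have := congrFun (congrFun h' ⟨0, by omega⟩) ⟨0, by omega⟩
      simpa using this
    · refine absurd ?_ (hθs (-(t⁻¹ * s)))
      rw [neg_smul, ← smul_smul, eq_neg_iff_add_eq_zero, ← smul_right_injective _ ht |>.eq_iff, smul_add,
        smul_inv_smul₀ ht, smul_zero, add_comm]
      exact h'
  have hspan : ∀ x ∈ K, ∃ a b : F, x = a • (1 : Matrix (Fin n) (Fin n) F) + b • θ := fun x hx => by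
    have := hli.span_eq_top_of_card_eq_finrank (by rw [hK.finrank_eq]; rfl)
    have hm : (⟨x, hx⟩ : K) ∈ Submodule.span F (Set.range ![(⟨1, hone⟩ : K), ⟨θ, hθ⟩]) := this ▸ Submodule.mem_top
    obtain ⟨c, hc⟩ := (Submodule.mem_span_range_iff_exists_fun F).1 hm
    refine ⟨c 0, c 1, ?_⟩
    have h' := congrArg Subtype.val hc
    simpa [Fin.sum_univ_two] using h'.symm
  have hnz : ∀ x ∈ K, ∀ y ∈ K, x * y = 0 → x = 0 ∨ y = 0 := fun x hx y hy h => by
    rcases eq_or_ne x 0 with h0 | h0
    · exact Or.inl h0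
    obtain ⟨z, hz, hzx⟩ := hK.inv x hx h0
    refine Or.inr ?_
    rw [← one_mul y, ← hzx, hK.comm x hx z hz, mul_assoc, h, mul_zero]
  obtain ⟨a, b, hab⟩ := hspan θ' hθ'
  have hB : ∀ x y, polar P (θ *ᵥ x) y = a * polar P x y + b * polar P x (θ *ᵥ y) := fun x y => by
    show polar Q (θ *ᵥ x) y = _
    rw [hadj, hab, Matrix.add_mulVec, Matrix.smul_mulVec, Matrix.smul_mulVec, Matrix.one_mulVec]
    show polar P x (a • y + b • θ *ᵥ y) = _
    rw [polar_add_right, polar_smul_right, polar_smul_right, smul_eq_mul, smul_eq_mul]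
  have hB2 : ∀ x y, (1 - b * b) * polar P x (θ *ᵥ y) = a * (1 + b) * polar P x y := fun x y => by
    have h1 := hB y x
    rw [polar_comm (⇑P) (θ *ᵥ y) x, polar_comm (⇑P) y x, polar_comm (⇑P) y (θ *ᵥ x), hB x y] at h1
    linear_combination h1
  have hbb : 1 - b * b = 0 := by
    by_contra hne
    refine hθs ((1 - b * b)⁻¹ * (a * (1 + b))) (heq _ _ fun x y => ?_)
    show polar P x (θ *ᵥ y) = polar P x _
    rw [Matrix.smul_mulVec, Matrix.one_mulVec, polar_smul_right, smul_eq_mul, mul_assoc, ← hB2, ← mul_assoc,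
      inv_mul_cancel₀ hne, one_mul]
  have hbneg : b = -1 := by
    rcases mul_eq_zero.1 (show (1 - b) * (1 + b) = 0 by linear_combination hbb) with h1 | h1
    · have hb1 : b = 1 := (sub_eq_zero.1 h1).symm
      by_cases h20 : (2 : F) = 0
      · rw [hb1]; linear_combination h20
      exfalso
      have ha : a = 0 := by
        obtain ⟨x, hx⟩ := (hQ.nondegenerate (Pi.single ⟨0, by omega⟩ 1) (by
          intro e
          have := congrFun e ⟨0, by omega⟩
          simp at this)).1
        have h3 := hB2 x (Pi.single ⟨0, by omega⟩ 1)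
        rw [hbb, zero_mul, hb1, one_add_one_eq_two] at h3
        rcases mul_eq_zero.1 h3.symm with h4 | h4
        · exact (mul_eq_zero.1 h4).resolve_right h20
        · exact absurd h4 hx
      refine hnsa fun k hk u v => ?_
      obtain ⟨s, t, rfl⟩ := hspan k hk
      show polar P ((s • 1 + t • θ) *ᵥ u) v = polar P u ((s • 1 + t • θ) *ᵥ v)
      simp only [Matrix.add_mulVec, Matrix.smul_mulVec, Matrix.one_mulVec, polar_add_left, polar_add_right,
        polar_smul_left, polar_smul_right, hB, ha, hb1]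
      simp
    · linear_combination h1
  subst hbneg
  obtain ⟨N, hN⟩ := hsc θ hθ
  have hBN : ∀ x y, polar P (θ *ᵥ x) (θ *ᵥ y) = N * polar P x y := fun x y => by
    show polar Q (θ *ᵥ x) (θ *ᵥ y) = N * polar Q x y
    simp only [polar, ← Matrix.mulVec_add, hN]; ring
  have hsq : θ * θ = a • θ - N • (1 : Matrix (Fin n) (Fin n) F) := heq _ _ fun x y => by
    show polar P x ((θ * θ) *ᵥ y) = polar P x ((a • θ - N • 1) *ᵥ y)
    rw [← Matrix.mulVec_mulVec, Matrix.sub_mulVec, Matrix.smul_mulVec, Matrix.smul_mulVec, Matrix.one_mulVec,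
      polar_sub_right, polar_smul_right, polar_smul_right, smul_eq_mul, smul_eq_mul]
    have h1 := hB x (θ *ᵥ y)
    rw [hBN] at h1
    linear_combination h1
  have hir : ∀ r : F, r * (a - r) ≠ N := fun r hr => by
    have h0 : (θ - r • 1) * (θ - (a - r) • 1) = 0 := by
      simp only [sub_mul, mul_sub, Matrix.smul_mul, Matrix.mul_smul, mul_one, one_mul, hsq]
      rw [← hr]
      module
    rcases hnz _ (sub_mem hθ (K.smul_mem hone r)) _ (sub_mem hθ (K.smul_mem hone _)) h0 with h | h
    · exact hθs r (sub_eq_zero.1 h)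
    · exact hθs _ (sub_eq_zero.1 h)
  have hne : N ≠ 0 := fun e => hir 0 (by rw [e, zero_mul])
  have hks : OverfieldOrth.KS P K θ a N :=
    { nd := hnd
      big := by simpa using hn
      mem := hθ
      span := hspan
      sq := fun v => by
        rw [Matrix.mulVec_mulVec, hsq, Matrix.sub_mulVec, Matrix.smul_mulVec, Matrix.smul_mulVec, Matrix.one_mulVec]
      norm := fun v => hN v
      adj := fun x y => by rw [hB]; ring
      ne := hne
      irred := fun x y h => by
        rcases eq_or_ne y 0 with rfl | hy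
        · exact ⟨pow_eq_zero_iff two_ne_zero |>.1 (by linear_combination h), rfl⟩
        · refine absurd ?_ (hir (-(x / y)))
          field_simp
          linear_combination -h }
  have := OverfieldOrth.overfield_maximal hks
  rw [hP, NotMax.toQ_coe hQ] at this
  exact this

end Cfsg.Agent.S5700
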