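import Cfsg.Statements.S5705
import Cfsg.Agent.Lib.Classical.NotMaxTensor
import Cfsg.Agent.Lib.Classical.NotMaxOrth
import Cfsg.Agent.Lib.Classical.Siegel
import Cfsg.Agent.Lib.Classical.OrthGen

set_option autoImplicit false
open Cfsg

open Cfsg.Agent.Classical Matrix QuadraticMap Module
open Refl Siegel
set_option maxHeartbeats 1600000

namespace Cfsg.Agent.S5705

/-- Let F be the field with 2 elements, n = 2 n₂ ≥ 13 even, Q a non-degenerate quadratic form on F^n of plus type and Ω the commutator subgroup of its isometry group. Suppose that, through P and e, the polar form of Q is similar to the tensor product of non-degenerate symplectic forms f₁ on F^2 and f₂ on F^(n₂), and Q vanishes on the images of all pure tensors. Then the elements of Ω in the stabiliser of this tensor decomposition form a subgroup that is not maximal: some subgroup lies strictly between it and Ω. -/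
theorem result {F : Type*} [Field F] [Fintype F] {n : ℕ} (hn : 13 ≤ n) (heven : Even n) (Q : (Fin n → F) → F) (hQ : Cfsg.Geo.IsNondegenerateQuadraticForm Q) (hplus : Cfsg.Geo.IsPlusTypeOn Q ⊤) (hq : Fintype.card F = 2) (n₂ : ℕ) (h2 : 2 < n₂) (e : (Fin n) ≃ Fin 2 × Fin n₂) (P : Matrix.GeneralLinearGroup (Fin n) F) (f₁ : (Fin 2 → F) → (Fin 2 → F) → F) (f₂ : (Fin n₂ → F) → (Fin n₂ → F) → F) (hf₁ : Cfsg.Geo.IsSymplecticForm f₁) (hf₂ : Cfsg.Geo.IsSymplecticForm f₂) (hT : Cfsg.Geo.IsTensorFormStructure id (QuadraticMap.polar Q) f₁ f₂ e P) (hpure : (∀ (x₁ : Fin 2 → F) (x₂ : Fin n₂ → F), Q (Matrix.mulVec (P : Matrix (Fin n) (Fin n) F) ((fun a : Fin 2 × Fin n₂ => x₁ a.1 * x₂ a.2) ∘ e)) = 0)) : ∃ K : Subgroup (Matrix.GeneralLinearGroup (Fin n) F), Cfsg.Geo.tensorProductSubgroup 2 n₂ e P ⊓ Cfsg.Geo.omegaGL Q < K ∧ K < Cfsg.Geo.omegaGL Q := by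
  classical
  suffices H : ∀ Qf : QuadraticForm F (Fin n → F), ⇑Qf = Q → ∃ K : Subgroup (Matrix.GeneralLinearGroup (Fin n) F),
      Cfsg.Geo.tensorProductSubgroup 2 n₂ e P ⊓ Cfsg.Geo.omegaGL Q < K ∧ K < Cfsg.Geo.omegaGL Q from
    H (NotMax.toQ hQ) (NotMax.toQ_coe hQ)
  intro Qf hQf
  have hnd : (polarBilin Qf).Nondegenerate := by
    have h0 : Qf = NotMax.toQ hQ := QuadraticMap.ext fun x => congrFun hQf x
    rw [h0]; exact NotMax.toQ_nondeg hQ
  subst hQf
  have hF : ∀ x : F, x = 0 ∨ x = 1 := fun x => by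
    by_contra h
    push Not at h
    have := Finset.card_le_univ ({0, 1, x} : Finset F)
    rw [hq, Finset.card_insert_of_notMem (by simp [h.1.symm]), Finset.card_insert_of_notMem (by simp [h.2.symm]),
      Finset.card_singleton] at this
    omega
  have h11 : (1 : F) + 1 = 0 := (hF (1 + 1)).resolve_right fun h => one_ne_zero (α := F) (by simp at h)
  have hxx : ∀ r : F, r + r = 0 := fun r => by rw [← mul_one r, ← mul_add, h11, mul_zero]
  have hvv : ∀ {κ : Type} (v : κ → F), v + v = 0 := fun v => funext fun i => hxx _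
  have hneg : ∀ {κ : Type} (v : κ → F), -v = v := fun v => neg_eq_of_add_eq_zero_left (hvv v)
  let L : (Fin 2 → Fin n₂ → F) ≃ₗ[F] (Fin n → F) := LinearEquiv.ofBijective
    { toFun := fun Z => (P : Matrix (Fin n) (Fin n) F) *ᵥ ((fun p => Z p.1 p.2) ∘ e)
      map_add' := fun Z W => Matrix.mulVec_add _ _ _
      map_smul' := fun r Z => by rw [RingHom.id_apply, ← Matrix.mulVec_smul]; rfl }
    ⟨fun Z W h => by
      have h' := congrArg (fun v => ((P⁻¹ : GL (Fin n) F) : Matrix (Fin n) (Fin n) F) *ᵥ v) h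
      simp only [LinearMap.coe_mk, AddHom.coe_mk, Matrix.mulVec_mulVec, ← Units.val_mul, inv_mul_cancel,
        Units.val_one, Matrix.one_mulVec] at h'
      funext i j
      simpa using congrFun h' (e.symm (i, j)),
    fun v => ⟨fun i j => (((P⁻¹ : GL (Fin n) F) : Matrix (Fin n) (Fin n) F) *ᵥ v) (e.symm (i, j)), by
      simp [Function.comp_def, Matrix.mulVec_mulVec, ← Units.val_mul]⟩⟩
  have hpL : ∀ x y, NotMaxTensor.pure e P x y = L (fun i => x i • y) := fun x y => rfl
  obtain ⟨d, hd, hT'⟩ := NotMaxTensor.form_pure (RingHom.id F) e P (f := polar ⇑Qf)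
    (NotMaxTensor.eq_gram _ hf₁.bilinear.add_left hf₁.bilinear.smul_left hf₁.bilinear.add_right
      hf₁.bilinear.smul_right)
    (NotMaxTensor.eq_gram _ hf₂.bilinear.add_left hf₂.bilinear.smul_left hf₂.bilinear.add_right
      hf₂.bilinear.smul_right) hT
  have hd1 : d = 1 := (hF d).resolve_left hd
  have he : f₁ (Pi.single 0 1) (Pi.single 1 1) = 1 := by
    refine (hF _).resolve_left fun h0 => ?_
    obtain ⟨x', hx'⟩ := (hf₁.nondegenerate (Pi.single 0 1 : Fin 2 → F) (by simp)).2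
    apply hx'
    rw [show x' = x' 0 • (Pi.single 0 1 : Fin 2 → F) + x' 1 • (Pi.single 1 1 : Fin 2 → F) by
        funext i; fin_cases i <;> simp, hf₁.bilinear.add_right, hf₁.bilinear.smul_right, hf₁.bilinear.smul_right,
      hf₁.alternating, h0, mul_zero, mul_zero, add_zero]
  have hsplit : ∀ Z, L Z = NotMaxTensor.pure e P (Pi.single 0 1) (Z 0) + NotMaxTensor.pure e P (Pi.single 1 1) (Z 1) := by
    intro Z
    rw [hpL, hpL, ← map_add]
    congr 1
    funext i
    fin_cases i <;> simp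
  have hQL : ∀ Z, Qf (L Z) = f₂ (Z 0) (Z 1) := fun Z => by
    rw [hsplit, QuadraticMap.map_add ⇑Qf]
    erw [hpure, hpure]
    rw [hT', hd1, he]
    ring
  have hBL : ∀ Z W, polar Qf (L Z) (L W) = f₂ (Z 0) (W 1) + f₂ (Z 1) (W 0) := fun Z W => by
    rw [polar, ← map_add, hQL, hQL, hQL, hf₂.skew (Z 1) (W 0)]
    simp only [Pi.add_apply, hf₂.bilinear.add_left, hf₂.bilinear.add_right]
    linear_combination hxx (f₂ (W 0) (Z 1))
  let C₀ : Matrix (Fin 2) (Fin 2) F := !![0, 1; 1, 1]
  let X : (Fin n → F) →ₗ[F] (Fin n → F) := L.toLinearMap ∘ₗ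
    (LinearMap.pi fun i : Fin 2 => ∑ k, C₀ i k • (LinearMap.proj k : (Fin 2 → Fin n₂ → F) →ₗ[F] (Fin n₂ → F))) ∘ₗ
      L.symm.toLinearMap
  have hX : ∀ Z, X (L Z) = L ![Z 1, Z 0 + Z 1] := fun Z => by
    simp only [X, LinearMap.comp_apply, LinearEquiv.coe_coe, LinearEquiv.symm_apply_apply]
    congr 1
    funext i
    fin_cases i <;> simp [C₀]
  have hXp : ∀ x y, X (NotMaxTensor.pure e P x y) = NotMaxTensor.pure e P (C₀ *ᵥ x) y := fun x y => by
    rw [hpL, hpL, hX]
    congr 1
    funext i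
    fin_cases i <;> simp [C₀, Matrix.vecHead, Matrix.vecTail, add_smul]
  have hXX : ∀ v, X (X v) = X v + v := fun v => by
    obtain ⟨Z, rfl⟩ := L.surjective v
    rw [hX, hX, ← map_add]
    congr 1
    funext i
    fin_cases i <;> simp
    · rw [add_comm]
    · rw [add_comm (Z 0) (Z 1)]; abel
  let K₀ : Subgroup (GL (Fin n) F) :=
    { carrier := {g | (∀ v, (g : Matrix (Fin n) (Fin n) F) *ᵥ X v = X ((g : Matrix (Fin n) (Fin n) F) *ᵥ v)) ∨
        (∀ v, (g : Matrix (Fin n) (Fin n) F) *ᵥ X v =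
          X ((g : Matrix (Fin n) (Fin n) F) *ᵥ v) + (g : Matrix (Fin n) (Fin n) F) *ᵥ v)}
      one_mem' := Or.inl fun v => by simp
      mul_mem' := by
        rintro g h hg hh
        show _ ∨ _
        simp only [Units.val_mul, ← Matrix.mulVec_mulVec]
        rcases hg with hg | hg <;> rcases hh with hh | hh
        · exact Or.inl fun v => by rw [hh, hg]
        · exact Or.inr fun v => by rw [hh, Matrix.mulVec_add, hg]
        · exact Or.inr fun v => by rw [hh, hg]
        · exact Or.inl fun v => by rw [hh, Matrix.mulVec_add, hg, add_assoc, hvv, add_zero]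
      inv_mem' := by
        rintro g hg
        show _ ∨ _
        have key : ∀ v, (g : Matrix (Fin n) (Fin n) F) *ᵥ (((g⁻¹ : GL (Fin n) F) : Matrix (Fin n) (Fin n) F) *ᵥ v) = v :=
          fun v => by rw [Matrix.mulVec_mulVec, ← Units.val_mul, mul_inv_cancel, Units.val_one, Matrix.one_mulVec]
        have key' : ∀ v, ((g⁻¹ : GL (Fin n) F) : Matrix (Fin n) (Fin n) F) *ᵥ ((g : Matrix (Fin n) (Fin n) F) *ᵥ v) = v :=
          fun v => by rw [Matrix.mulVec_mulVec, ← Units.val_mul, inv_mul_cancel, Units.val_one, Matrix.one_mulVec]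
        rcases hg with hg | hg
        · refine Or.inl fun v => ?_
          have := congrArg (fun z => ((g⁻¹ : GL (Fin n) F) : Matrix (Fin n) (Fin n) F) *ᵥ z)
            (hg (((g⁻¹ : GL (Fin n) F) : Matrix (Fin n) (Fin n) F) *ᵥ v))
          simp only [key, key'] at this
          exact this.symm
        · refine Or.inr fun v => ?_
          have := congrArg (fun z => ((g⁻¹ : GL (Fin n) F) : Matrix (Fin n) (Fin n) F) *ᵥ z)
            (hg (((g⁻¹ : GL (Fin n) F) : Matrix (Fin n) (Fin n) F) *ᵥ v))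
          simp only [key, key', Matrix.mulVec_add] at this
          rw [this, add_assoc, hvv, add_zero] }
  let B₂ : LinearMap.BilinForm F (Fin n₂ → F) := LinearMap.mk₂ F f₂ hf₂.bilinear.add_left
    (fun r x y => hf₂.bilinear.smul_left r x y) hf₂.bilinear.add_right (fun r x y => hf₂.bilinear.smul_right r x y)
  obtain ⟨z, hz⟩ : ∃ z : Fin n₂ → F, z ≠ 0 := ⟨Pi.single ⟨0, by omega⟩ 1, by simp⟩
  obtain ⟨b, hb⟩ := (hf₂.nondegenerate z hz).2
  have hzb : f₂ z b = 1 := (hF _).resolve_left hb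
  obtain ⟨a, ha, ha0⟩ : ∃ a, a ∈ LinearMap.ker ((B₂ z).prod (B₂ b)) ∧ a ≠ 0 := by
    refine Submodule.exists_mem_ne_zero_of_ne_bot fun h0 => ?_
    have h1 := LinearMap.finrank_range_add_finrank_ker ((B₂ z).prod (B₂ b))
    have h3 := Submodule.finrank_le (LinearMap.range ((B₂ z).prod (B₂ b)))
    rw [h0, finrank_bot, Module.finrank_pi, Fintype.card_fin] at h1
    rw [Module.finrank_prod, Module.finrank_self] at h3
    omega
  obtain ⟨hza, hba⟩ : f₂ z a = 0 ∧ f₂ b a = 0 := by simpa [B₂] using ha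
  have hab2 : f₂ a b = 0 := by rw [hf₂.skew, hba, neg_zero]
  have haz : f₂ a z = 0 := by rw [hf₂.skew, hza, neg_zero]
  have hbz : f₂ b z = 1 := by rw [hf₂.skew, hzb]; exact (neg_eq_of_add_eq_zero_left h11)
  have hz0 : ∀ w, f₂ 0 w = 0 := fun w => by simpa using hf₂.bilinear.smul_left 0 0 w
  have h0z : ∀ w, f₂ w 0 = 0 := fun w => by simpa using hf₂.bilinear.smul_right 0 w 0
  have hQa : Qf (L ![a, b]) = 0 := by simp [hQL, hab2]
  have hab : polar Qf (L ![a, b]) (L ![b, a + b]) = 0 := by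
    simp [hBL, hf₂.bilinear.add_right, hab2, hf₂.alternating]
  set u := sO Qf (L ![a, b]) (L ![b, a + b]) hQa hab with hu
  have hQa' : Qf (L ![a, 0]) = 0 := by simp [hQL, h0z]
  have hab' : polar Qf (L ![a, 0]) (L ![0, b]) = 0 := by simp [hBL, hab2, hz0]
  set w := sO Qf (L ![a, 0]) (L ![0, b]) hQa' hab' with hw
  have hmem : ∀ (g : O Qf) (x y : Fin n → F) (hx : Qf x = 0) (hy : polar Qf x y = 0), g = sO Qf x y hx hy →
      (g : GL (Fin n) F) ∈ Cfsg.Geo.omegaGL (⇑Qf) := fun g x y hx hy hg =>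
    NotMax.mem_omegaGL g (hg ▸ sO_mem_commutator Qf hnd (by rw [Fintype.card_fin]; omega) x y hx hy)
  refine ⟨K₀ ⊓ Cfsg.Geo.omegaGL ⇑Qf, lt_of_le_of_ne (le_inf ?_ inf_le_right) fun h => ?_,
    lt_of_le_of_ne inf_le_right fun h => ?_⟩
  · rintro g ⟨hg, -⟩
    obtain ⟨A, B, hAB⟩ := NotMaxTensor.mem_pure e P hg
    have hdet : A.det ≠ 0 := by
      intro h0
      obtain ⟨x, hx0, hx⟩ := Matrix.exists_mulVec_eq_zero_iff.2 h0
      have h5 := hAB x z
      rw [hx, hpL, hpL] at h5
      rw [show (fun i => (0 : Fin 2 → F) i • (B *ᵥ z)) = 0 from funext fun i => by simp, map_zero] at h5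
      have h6 := congrArg (fun v => ((g⁻¹ : GL (Fin n) F) : Matrix (Fin n) (Fin n) F) *ᵥ v) h5
      simp only [Matrix.mulVec_mulVec, ← Units.val_mul, inv_mul_cancel, Units.val_one, Matrix.one_mulVec,
        Matrix.mulVec_zero, map_eq_zero_iff L L.injective] at h6
      obtain ⟨i, hi⟩ := Function.ne_iff.1 hx0
      exact hz ((smul_eq_zero.1 (congrFun h6 i)).resolve_left hi)
    have key : A * C₀ = C₀ * A ∨ A * C₀ = C₀ * A + A := by
      rw [Matrix.det_fin_two] at hdet
      rw [Matrix.eta_fin_two A]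
      simp only [C₀]
      rcases hF (A 0 0) with e1 | e1 <;> rcases hF (A 0 1) with e2 | e2 <;> rcases hF (A 1 0) with e3 | e3 <;>
        rcases hF (A 1 1) with e4 | e4 <;> simp [e1, e2, e3, e4, h11] at hdet ⊢
    show _ ∨ _
    refine key.imp (fun hA v => ?_) fun hA v => ?_
    all_goals
      obtain ⟨Z, rfl⟩ := L.surjective v
      simp only [hsplit, map_add, Matrix.mulVec_add, hXp, hAB, Matrix.mulVec_mulVec, hA, Matrix.add_mulVec,
        NotMaxTensor.pure_add_left]
      try abel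
  · have hQb : Qf (L ![b, a + b]) = 0 := by simp [hQL, hf₂.bilinear.add_right, hba, hf₂.alternating]
    have hu' : ∀ v, act Qf u v = v + polar Qf v (L ![a, b]) • L ![b, a + b] + polar Qf v (L ![b, a + b]) • L ![a, b] :=
      fun v => by rw [hu, act_sO, hQb, zero_mul, add_zero, sub_eq_add_neg, hneg]
    have hBX : ∀ Z, polar Qf (X (L Z)) (L ![a, b]) = polar Qf (L Z) (L ![a, b]) + polar Qf (L Z) (L ![b, a + b]) ∧
        polar Qf (X (L Z)) (L ![b, a + b]) = polar Qf (L Z) (L ![a, b]) := fun Z => by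
      simp only [hX, hBL, Matrix.cons_val_zero, Matrix.cons_val_one, Matrix.head_cons, hf₂.bilinear.add_left,
        hf₂.bilinear.add_right]
      exact ⟨by linear_combination (-1 : F) * hxx (f₂ (Z 0) b), by linear_combination hxx (f₂ (Z 1) b)⟩
    have hXa : X (L ![a, b]) = L ![b, a + b] := by rw [hX]; rfl
    have hXb : X (L ![b, a + b]) = L ![a, b] + L ![b, a + b] := by
      rw [hX, ← map_add]
      congr 1
      funext i
      fin_cases i
      · rfl
      · simp [add_comm, add_left_comm, hvv]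
    have huK : (u : GL (Fin n) F) ∈ K₀ ⊓ Cfsg.Geo.omegaGL ⇑Qf := by
      refine ⟨Or.inl fun v => ?_, hmem u _ _ _ _ hu⟩
      show act Qf u (X v) = X (act Qf u v)
      obtain ⟨Z, rfl⟩ := L.surjective v
      rw [hu', hu', (hBX Z).1, (hBX Z).2, map_add, map_add, map_smul, map_smul, hXa, hXb, add_smul, smul_add]
      abel
    rw [← h] at huK
    obtain ⟨A, B, hAB⟩ := NotMaxTensor.mem_pure e P huK.1
    have h5 : act Qf u (L ![z, 0]) = NotMaxTensor.pure e P (A *ᵥ Pi.single 0 1) (B *ᵥ z) := by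
      rw [← hAB]
      show _ = act Qf u _
      congr 1
      rw [hpL]
      congr 1
      funext i
      fin_cases i <;> simp
    rw [hu', hBL, hBL, hpL] at h5
    simp only [Matrix.cons_val_zero, Matrix.cons_val_one, Matrix.head_cons, hf₂.bilinear.add_right, hza, hzb, hz0,
      zero_add, add_zero, one_smul, ← map_add] at h5
    have h6 := L.injective h5
    have h7 := congrFun h6 0
    have h8 := congrFun h6 1
    simp only [Pi.add_apply, Matrix.cons_val_zero, Matrix.cons_val_one, Matrix.head_cons, zero_add, add_assoc,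
      hvv, add_zero] at h7 h8
    rcases hF ((A *ᵥ Pi.single 0 1) 1) with e1 | e1
    · rw [e1, zero_smul] at h8; exact ha0 h8
    rcases hF ((A *ᵥ Pi.single 0 1) 0) with e0 | e0
    all_goals
      rw [e1, one_smul] at h8
      rw [e0, ← h8] at h7
      have h9 := congrArg (fun y => f₂ y z) h7
      simp [hf₂.bilinear.add_left, hf₂.alternating, haz, hbz, hz0] at h9
  · have hwK : (w : GL (Fin n) F) ∈ K₀ ⊓ Cfsg.Geo.omegaGL ⇑Qf := h.ge (hmem w _ _ _ _ hw)
    have hQb' : Qf (L ![0, b]) = 0 := by simp [hQL, hz0]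
    have hw' : ∀ v, act Qf w v = v + polar Qf v (L ![a, 0]) • L ![0, b] + polar Qf v (L ![0, b]) • L ![a, 0] :=
      fun v => by rw [hw, act_sO, hQb', zero_mul, add_zero, sub_eq_add_neg, hneg]
    rcases (Subgroup.mem_inf.1 hwK).1 with h5 | h5
    all_goals
      have h6 := h5 (L ![z, 0])
      change act Qf w (X (L ![z, 0])) = _ at h6
      rw [show ((w : GL (Fin n) F) : Matrix (Fin n) (Fin n) F) *ᵥ L ![z, 0] = act Qf w (L ![z, 0]) from rfl, hX, hw',
        hw', hBL, hBL, hBL, hBL] at h6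
      simp only [Matrix.cons_val_zero, Matrix.cons_val_one, Matrix.head_cons, hza, hzb, hz0, h0z, add_zero, zero_add,
        zero_smul, one_smul, ← map_add, hX] at h6
      have h7 := congrArg (fun Z => f₂ (Z 0) b) (L.injective h6)
      have h8 := L.injective h6
      have h9 := congrFun h8 1
      simp [hf₂.bilinear.add_left, hab2, hzb, hz0, ha0] at h7 h9

end Cfsg.Agent.S5705
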