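import Cfsg.Agent.Lib.Classical.PermLength
import Cfsg.Statements.S5722
-- import your own Cfsg.Agent.* helpers here

set_option autoImplicit false
open Cfsg

namespace Cfsg.Agent.S5722

/-- If a finite group G acts faithfully on a finite set with n points and r orbits, then the composition length of G is at most 4(n − r)/3. Here the composition length is expressed through chains: the conclusion bounds the length l of every chain of subgroups 1 = H₀ < H₁ < ⋯ < H_l = G in which each term is normal in the next (the longest such chains are exactly the composition series). -/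
theorem result {G Ω : Type*} [Group G] [Finite G] [MulAction G Ω] [FaithfulSMul G Ω] [Fintype Ω]
    (l : ℕ) (H : Fin (l + 1) → Subgroup G) (h0 : H 0 = ⊥) (hl : H (Fin.last l) = ⊤)
    (hchain : ∀ i : Fin l, H i.castSucc < H i.succ ∧ ((H i.castSucc).subgroupOf (H i.succ)).Normal) :
    3 * l ≤ 4 * (Fintype.card Ω - Nat.card (Quotient (MulAction.orbitRel G Ω))) := by
  classical
  let H' : ℕ → Subgroup G := fun i => if h : i < l + 1 then H ⟨i, h⟩ else ⊤
  have e : ∀ i (h : i < l + 1), H' i = H ⟨i, h⟩ := fun i h => dif_pos h
  have hb := (Cfsg.Agent.Classical.lengthBound_all (Fintype.card Ω + 1)).faithful_bound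
    (G := G) (X := Ω) (by rw [Nat.card_eq_fintype_card]; omega)
  have h := hb l H' (by rw [e l (by omega)]; exact hl)
    (fun i hi => by
      rw [e i (by omega), e (i + 1) (by omega)]
      exact (hchain ⟨i, hi⟩).1.le)
    (fun i hi a ha b hb' => by
      rw [e i (by omega)] at ha ⊢
      rw [e (i + 1) (by omega)] at hb'
      exact (hchain ⟨i, hi⟩).2.conj_mem ⟨a, (hchain ⟨i, hi⟩).1.le ha⟩ ha ⟨b, hb'⟩)
  rw [Finset.filter_true_of_mem, Finset.card_range, Nat.card_eq_fintype_card] at h
  · exact h
  · intro i hi
    rw [Finset.mem_range] at hi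
    rw [e i (by omega), e (i + 1) (by omega)]
    exact (hchain ⟨i, hi⟩).1.ne

end Cfsg.Agent.S5722
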