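import Cfsg.Statements.S5726
-- import your own Cfsg.Agent.* helpers here

set_option autoImplicit false
open Cfsg

namespace Cfsg.Agent.S5726

open MulAction


/-- If a finite group acts faithfully and transitively on a set with p^k elements, p a prime and k ≥ 1, then some element of order p fixes no point. -/
theorem result {G Ω : Type*} [Group G] [Finite G] [MulAction G Ω] [FaithfulSMul G Ω] [Fintype Ω] (htr : MulAction.IsPretransitive G Ω)
    (p k : ℕ) (hp : p.Prime) (hk : 1 ≤ k) (hΩ : Fintype.card Ω = p ^ k) :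
    ∃ g : G, orderOf g = p ∧ ∀ ω : Ω, g • ω ≠ ω := by
  classical
  have := Fact.mk hp
  have hne : Nonempty Ω := Fintype.card_pos_iff.1 (by rw [hΩ]; exact pow_pos hp.pos k)
  obtain ⟨a⟩ := hne
  obtain ⟨P⟩ : Nonempty (Sylow p G) := inferInstance
  -- the orbit of a Sylow subgroup is everything
  have hidx : (stabilizer G a).index = p ^ k := by
    rw [MulAction.index_stabilizer_of_transitive G a, Nat.card_eq_fintype_card, hΩ]
  have horb : orbit (↥(P : Subgroup G)) a = Set.univ := by
    have h1 := Nat.card_congr (orbitProdStabilizerEquivGroup (↥(P : Subgroup G)) a)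
    rw [Nat.card_prod] at h1
    have h2 : Nat.card (stabilizer (↥(P : Subgroup G)) a) ∣ Nat.card (stabilizer G a) := by
      have : stabilizer (↥(P : Subgroup G)) a = (stabilizer G a).subgroupOf P := rfl
      rw [this]
      exact Subgroup.card_comap_dvd_of_injective _ _ (Subgroup.subtype_injective _)
    have hGc := (stabilizer G a).card_mul_index
    rw [hidx] at hGc
    obtain ⟨j, hj⟩ := (IsPGroup.iff_card.1 (P.2.to_subgroup (stabilizer (↥(P : Subgroup G)) a)))
    have hdvd : p ^ (j + k) ∣ Nat.card G := by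
      rw [pow_add, ← hj, ← hGc]; exact Nat.mul_dvd_mul_right h2 _
    have h3 := P.card_eq_multiplicity
    have h4 : j + k ≤ (Nat.card G).factorization p :=
      (hp.pow_dvd_iff_le_factorization Nat.card_pos.ne').1 hdvd
    have h5 : p ^ (j + k) ≤ Nat.card (↥(P : Subgroup G)) := h3 ▸ Nat.pow_le_pow_right hp.pos h4
    rw [← h1, hj, pow_add, mul_comm] at h5
    have h6 : p ^ k ≤ Nat.card (orbit (↥(P : Subgroup G)) a) := Nat.le_of_mul_le_mul_right (by simpa [mul_comm] using h5) (pow_pos hp.pos j)
    apply Set.eq_of_subset_of_ncard_le (Set.subset_univ _)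
    rw [Set.ncard_univ, ← Nat.card_coe_set_eq, Nat.card_eq_fintype_card, hΩ]
    exact h6
  have : Nontrivial (↥(P : Subgroup G)) := by
    by_contra h
    rw [not_nontrivial_iff_subsingleton] at h
    have h1 : orbit (↥(P : Subgroup G)) a ⊆ {a} := by
      rintro _ ⟨g, rfl⟩
      simp [Subsingleton.elim g 1]
    rw [horb] at h1
    have hle : Fintype.card Ω ≤ 1 := Fintype.card_le_one_iff.2 fun x y => by
      rw [h1 (Set.mem_univ x), h1 (Set.mem_univ y)]
    rw [hΩ] at hle
    have : 1 < p ^ k := Nat.one_lt_pow (by omega) hp.one_lt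
    omega
  have := IsPGroup.center_nontrivial P.2
  have hcdvd : p ∣ Nat.card (Subgroup.center (↥(P : Subgroup G))) := by
    obtain ⟨j, hj0, hj⟩ := (IsPGroup.nontrivial_iff_card (P.2.to_subgroup _)).1 this
    rw [hj]; exact dvd_pow_self p hj0.ne'
  obtain ⟨z, hz⟩ := exists_prime_orderOf_dvd_card' p hcdvd
  refine ⟨((z : ↥(P : Subgroup G)) : G), by rw [Subgroup.orderOf_coe, Subgroup.orderOf_coe, hz], fun ω hω => ?_⟩
  have hall : ∀ x : Ω, (((z : ↥(P : Subgroup G))) : G) • x = x := by
    have key : ∀ (g : ↥(P : Subgroup G)) (x : Ω), (((z : ↥(P : Subgroup G))) : G) • x = x →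
        (((z : ↥(P : Subgroup G))) : G) • g • x = g • x := by
      intro g x hx
      have hc := Subgroup.mem_center_iff.1 z.2 g
      have hc' : (g : G) * ((z : ↥(P : Subgroup G)) : G) = ((z : ↥(P : Subgroup G)) : G) * g := by
        simpa using congrArg (Subtype.val) hc
      rw [Subgroup.smul_def, ← mul_smul, ← hc', mul_smul, hx]
    obtain ⟨g₀, hg₀⟩ : ω ∈ orbit (↥(P : Subgroup G)) a := horb ▸ Set.mem_univ ω
    have ha : (((z : ↥(P : Subgroup G))) : G) • a = a := by
      have := key g₀⁻¹ ω hω
      rwa [← hg₀, inv_smul_smul] at this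
    intro x
    obtain ⟨g, rfl⟩ : x ∈ orbit (↥(P : Subgroup G)) a := horb ▸ Set.mem_univ x
    exact key g a ha
  have h1 : (((z : ↥(P : Subgroup G))) : G) = 1 := eq_of_smul_eq_smul (α := Ω) fun x => by rw [hall, one_smul]
  have : z = 1 := Subtype.ext (Subtype.ext h1)
  rw [this, orderOf_one] at hz
  exact hp.one_lt.ne hz

end Cfsg.Agent.S5726
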