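import Cfsg.Statements.S5727
import Mathlib


set_option autoImplicit false
open Cfsg

namespace Cfsg.Agent.S5727

/-- If a finite group acts faithfully and transitively on a set with m·p elements, where p is a prime and 1 ≤ m ≤ p, then some element of order p fixes no point. -/
theorem result {G Ω : Type*} [Group G] [Finite G] [MulAction G Ω] [FaithfulSMul G Ω] [Fintype Ω] (htr : MulAction.IsPretransitive G Ω)
    (p m : ℕ) (hp : p.Prime) (hm : 1 ≤ m) (hmp : m ≤ p) (hΩ : Fintype.card Ω = m * p) :
    ∃ g : G, orderOf g = p ∧ ∀ ω : Ω, g • ω ≠ ω := by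
  classical
  haveI : Fact p.Prime := ⟨hp⟩
  haveI : Finite Ω := inferInstance
  obtain ⟨P⟩ := (inferInstance : Nonempty (Sylow p G))
  obtain ⟨e, he⟩ := IsPGroup.iff_card.1 P.2
  have horb : ∀ ω : Ω, ∃ k, 1 ≤ k ∧ (MulAction.stabilizer (P : Subgroup G) ω).index = p ^ k ∧
      (m = p → 2 ≤ k) := by
    intro ω
    obtain ⟨k, hk⟩ := P.2.card_orbit ω
    have hidx : (MulAction.stabilizer (P : Subgroup G) ω).index = p ^ k := by
      rw [MulAction.index_stabilizer, ← hk, Nat.card_coe_set_eq]
    -- the `p`-part of the degree divides the orbit length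
    set H := MulAction.stabilizer G ω with hH
    have hHi : H.index = m * p := by
      rw [hH, MulAction.index_stabilizer_of_transitive, Nat.card_eq_fintype_card, hΩ]
    have hmap : (MulAction.stabilizer (P : Subgroup G) ω).map (P : Subgroup G).subtype ≤ H := by
      rintro _ ⟨x, hx, rfl⟩; exact hx
    have hd := Subgroup.card_dvd_of_le hmap
    rw [Subgroup.card_map_of_injective (P : Subgroup G).subtype_injective] at hd
    have hP := (MulAction.stabilizer (P : Subgroup G) ω).card_mul_index
    have hG := H.card_mul_index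
    rw [hidx, he] at hP
    rw [hHi] at hG
    obtain ⟨j, hj, hjc⟩ := (Nat.dvd_prime_pow hp).1 (Dvd.intro _ hP)
    rw [hjc] at hd hP
    rw [← pow_add] at hP
    have hjk := Nat.pow_right_injective hp.two_le hP
    obtain ⟨c, hc⟩ := hd
    have key : ∀ i, p ^ i ∣ m * p → i ≤ k := by
      intro i hi
      have h1 : p ^ (j + i) ∣ Nat.card G := by
        rw [← hG, hc, pow_add, mul_assoc (p ^ j)]
        exact Nat.mul_dvd_mul_left _ (hi.mul_left c)
      have h2 := P.pow_dvd_card_of_pow_dvd_card h1
      rw [he] at h2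
      have := (Nat.pow_dvd_pow_iff_le_right hp.one_lt).1 h2
      omega
    exact ⟨k, key 1 (by simp), hidx, fun h => key 2 (by rw [h, pow_two])⟩
  obtain ⟨ω₀⟩ : Nonempty Ω := Fintype.card_pos_iff.1 (by rw [hΩ]; exact Nat.mul_pos hm hp.pos)
  have hsmul : ∀ (x : (P : Subgroup G)) (ω : Ω), x • ω = (x : G) • ω := fun _ _ => rfl
  rcases lt_or_eq_of_le hmp with hlt | rfl
  · by_contra hcon
    push Not at hcon
    have hex : ∀ ω : Ω, (MulAction.stabilizer (P : Subgroup G) ω).index = p := by
      intro ω
      obtain ⟨k, h1, hk, -⟩ := horb ω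
      have hle : p ^ k ≤ m * p := by
        rw [← hk, MulAction.index_stabilizer, Set.ncard, ← hΩ]
        exact (Nat.card_le_card_of_injective (fun y : MulAction.orbit (P : Subgroup G) ω => (y : Ω))
          Subtype.val_injective).trans_eq Nat.card_eq_fintype_card
      have hk2 : k < 2 := (Nat.pow_lt_pow_iff_right hp.one_lt).1
        (lt_of_le_of_lt hle (by rw [pow_two]; exact Nat.mul_lt_mul_of_pos_right hlt hp.pos))
      rw [hk, show k = 1 by omega, pow_one]
    have hnor : ∀ ω : Ω, (MulAction.stabilizer (P : Subgroup G) ω).Normal := fun ω => by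
      refine Subgroup.normal_of_index_eq_minFac_card ?_
      rw [hex ω, he]
      have h0 : e ≠ 0 := by
        rintro rfl
        have := Subgroup.index_dvd_card (MulAction.stabilizer (P : Subgroup G) ω)
        rw [hex ω, he, pow_zero] at this
        exact hp.ne_one (Nat.dvd_one.1 this)
      rw [Nat.pow_minFac h0, hp.minFac_eq]
    have hfix : ∀ x : (P : Subgroup G), x ≠ 1 → p ≤ Nat.card {ω : Ω // x • ω = ω} := by
      intro x hx
      have hxp : x ^ p = 1 := by
        refine Subtype.ext (eq_of_smul_eq_smul (α := Ω) fun ω => ?_)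
        have h' : x ^ p ∈ MulAction.stabilizer (P : Subgroup G) ω := by
          haveI := hnor ω
          have := (MulAction.stabilizer (P : Subgroup G) ω).pow_index_mem x
          rwa [hex ω] at this
        simpa [hsmul] using h'
      have ho : orderOf (x : G) = p := by
        rw [Subgroup.orderOf_coe]; exact orderOf_eq_prime hxp hx
      obtain ⟨ω, hω⟩ := hcon (x : G) ho
      have hsub : MulAction.orbit (P : Subgroup G) ω ⊆ {y : Ω | x • y = y} := by
        rintro _ ⟨y, rfl⟩
        have := (hnor ω).conj_mem x hω y⁻¹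
        rw [MulAction.mem_stabilizer_iff, mul_smul, mul_smul, inv_inv] at this
        show x • y • ω = y • ω
        calc x • y • ω = y • (y⁻¹ • x • y • ω) := (smul_inv_smul _ _).symm
          _ = y • ω := by rw [this]
      calc p = (MulAction.orbit (P : Subgroup G) ω).ncard := by rw [← MulAction.index_stabilizer, hex]
        _ ≤ Set.ncard {y : Ω | x • y = y} := Set.ncard_le_ncard hsub
        _ = _ := rfl
    haveI : Fintype (P : Subgroup G) := Fintype.ofFinite _
    set s := (Finset.univ : Finset (P : Subgroup G)).erase 1 with hs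
    have hdc := Finset.sum_card_bipartiteAbove_eq_sum_card_bipartiteBelow
      (r := fun (x : (P : Subgroup G)) (ω : Ω) => x • ω = ω) (s := s) (t := (Finset.univ : Finset Ω))
    have hlow : s.card * p ≤ ∑ x ∈ s, ((Finset.univ : Finset Ω).bipartiteAbove
        (fun (x : (P : Subgroup G)) (ω : Ω) => x • ω = ω) x).card := by
      rw [← smul_eq_mul]
      refine Finset.card_nsmul_le_sum _ _ _ fun x hx => ?_
      refine (hfix x (Finset.ne_of_mem_erase hx)).trans_eq ?_
      rw [Nat.card_eq_fintype_card, Fintype.card_subtype]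
      rfl
    obtain ⟨c, hc⟩ : ∃ c, ∀ ω : Ω, Nat.card (MulAction.stabilizer (P : Subgroup G) ω) = c ∧ c * p = p ^ e := by
      refine ⟨p ^ e / p, fun ω => ?_⟩
      have := (MulAction.stabilizer (P : Subgroup G) ω).card_mul_index
      rw [hex ω, he] at this
      rw [← this, Nat.mul_div_cancel _ hp.pos]
      exact ⟨rfl, rfl⟩
    have hup : ∑ ω ∈ (Finset.univ : Finset Ω), (s.bipartiteBelow
        (fun (x : (P : Subgroup G)) (ω : Ω) => x • ω = ω) ω).card = m * p * (c - 1) := by
      rw [Finset.sum_const_nat (m := c - 1), Finset.card_univ, hΩ]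
      intro ω _
      rw [show s.bipartiteBelow (fun (x : (P : Subgroup G)) (ω : Ω) => x • ω = ω) ω =
        ((Finset.univ : Finset (P : Subgroup G)).filter fun x => x • ω = ω).erase 1 from ?_]
      · rw [Finset.card_erase_of_mem (by simp), ← (hc ω).1, Nat.card_eq_fintype_card,
          ← Fintype.card_subtype]
        congr 1
      · ext x; simp [hs, Finset.bipartiteBelow]
    rw [hdc, hup] at hlow
    have hsc : s.card = p ^ e - 1 := by
      rw [hs, Finset.card_erase_of_mem (Finset.mem_univ _), Finset.card_univ, ← Nat.card_eq_fintype_card, he]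
    rw [hsc] at hlow
    have hc1 : 1 ≤ c := (hc ω₀).1 ▸ Nat.card_pos
    have h3 : p ^ e - 1 ≤ m * (c - 1) :=
      Nat.le_of_mul_le_mul_right (by rwa [mul_right_comm] at hlow) hp.pos
    have h4 := h3.trans (Nat.mul_le_mul_right (c - 1) hlt.le)
    rw [Nat.mul_sub_one, mul_comm p c, (hc ω₀).2] at h4
    have h5 : p ≤ p ^ e := by rw [← (hc ω₀).2]; exact Nat.le_mul_of_pos_left p hc1
    have := hp.two_le
    omega
  · obtain ⟨k, -, hk, hk2⟩ := horb ω₀
    have hk2 := hk2 rfl
    have hall : MulAction.orbit (P : Subgroup G) ω₀ = Set.univ := by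
      rw [Set.eq_univ_iff_ncard]
      refine le_antisymm (Set.ncard_le_card _) ?_
      rw [← MulAction.index_stabilizer, hk, Nat.card_eq_fintype_card, hΩ, ← pow_two]
      exact Nat.pow_le_pow_right hp.pos hk2
    haveI : Nontrivial (P : Subgroup G) := Finite.one_lt_card_iff_nontrivial.1 (by
      have hd := Subgroup.index_dvd_card (MulAction.stabilizer (P : Subgroup G) ω₀)
      rw [hk] at hd
      exact lt_of_lt_of_le (Nat.one_lt_pow (by omega) hp.one_lt) (Nat.le_of_dvd Nat.card_pos hd))
    obtain ⟨z, hz⟩ := exists_prime_orderOf_dvd_card' (G := Subgroup.center (P : Subgroup G)) m (by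
      haveI := P.2.center_nontrivial
      obtain ⟨i, hi⟩ := IsPGroup.iff_card.1 (P.2.to_subgroup (Subgroup.center (P : Subgroup G)))
      have h1 := Finite.one_lt_card_iff_nontrivial.2 this
      rw [hi] at h1 ⊢
      exact dvd_pow_self _ (by rintro rfl; simp at h1))
    refine ⟨((z : (P : Subgroup G)) : G), by rw [Subgroup.orderOf_coe, Subgroup.orderOf_coe, hz], fun ω hω => ?_⟩
    have h1 : (z : (P : Subgroup G)) = 1 := by
      refine Subtype.ext (eq_of_smul_eq_smul (α := Ω) fun y => ?_)
      obtain ⟨a, rfl⟩ : ω ∈ MulAction.orbit (P : Subgroup G) ω₀ := hall ▸ Set.mem_univ _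
      obtain ⟨b, rfl⟩ : y ∈ MulAction.orbit (P : Subgroup G) ω₀ := hall ▸ Set.mem_univ _
      have hc := Subgroup.mem_center_iff.1 z.2
      show ((z : (P : Subgroup G)) : G) • (b • ω₀) = ((1 : (P : Subgroup G)) : G) • (b • ω₀)
      have h0 : (z : (P : Subgroup G)) • (a • ω₀) = a • ω₀ := hω
      rw [smul_smul, ← hc a, ← smul_smul, smul_left_cancel_iff] at h0
      rw [Subgroup.coe_one, one_smul]
      show (z : (P : Subgroup G)) • (b • ω₀) = b • ω₀
      rw [smul_smul, ← hc b, ← smul_smul, h0]
    have : orderOf z = 1 := orderOf_eq_one_iff.2 (Subtype.ext h1)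
    exact hp.ne_one (hz.symm.trans this)

end Cfsg.Agent.S5727
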