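import Cfsg.Statements.S5728


set_option autoImplicit false
open Cfsg

open Cfsg

namespace Cfsg.Agent.S5728

/-- An elusive transitive action. Let p = 2^s − 1 be a prime and let F be the field with p² elements. Inside the group of affine maps x ↦ a·x + b of F (a ≠ 0), consider the subgroup of maps with both coefficients in the prime field. Then every element of prime order of the affine group is conjugate, within the affine group, to an element of that subgroup; equivalently, in the transitive action of the affine group on the cosets of that subgroup (of degree p(p + 1)) every element of prime order fixes a point. -/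
theorem result (p s : ℕ) [Fact p.Prime] (hs : p = 2 ^ s - 1)
    (g : Equiv.Perm (GaloisField p 2)) (hg : g ∈ Cfsg.affineGroup (GaloisField p 2)) (hord : (orderOf g).Prime) :
    ∃ x ∈ Cfsg.affineGroup (GaloisField p 2), ∃ a b : ZMod p, a ≠ 0 ∧
      ∀ y : GaloisField p 2, (x * g * x⁻¹) y = algebraMap (ZMod p) (GaloisField p 2) a * y + algebraMap (ZMod p) (GaloisField p 2) b := by
  classical
  obtain ⟨a, b, hab⟩ := hg
  have hp : p.Prime := Fact.out
  have hg1 : g ≠ 1 := fun h => Nat.not_prime_one (by rwa [h, orderOf_one] at hord)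
  by_cases ha1 : (a : GaloisField p 2) = 1
  · have hb : b ≠ 0 := fun h => hg1 (Equiv.ext fun y => by simp [hab, ha1, h])
    refine ⟨Equiv.mulLeft₀ b⁻¹ (inv_ne_zero hb), ⟨Units.mk0 b⁻¹ (inv_ne_zero hb), 0, fun y => by simp⟩, 1, 1,
      one_ne_zero, fun y => ?_⟩
    simp only [Equiv.Perm.coe_mul, Function.comp_apply, map_one, one_mul]
    have : (Equiv.mulLeft₀ b⁻¹ (inv_ne_zero hb))⁻¹ y = b * y := by
      rw [Equiv.Perm.inv_def, Equiv.symm_apply_eq]; simp [hb]
    rw [this, hab, ha1]
    simp; field_simp
  · set c := b / (1 - (a : GaloisField p 2)) with hc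
    have h1a : (1 : GaloisField p 2) - a ≠ 0 := sub_ne_zero.2 (Ne.symm ha1)
    have hgc : ∀ w, g (c + w) = c + a * w := fun w => by
      rw [hab, hc]; field_simp; ring
    have hpow : ∀ (k : ℕ) w, (g ^ k) (c + w) = c + (a : GaloisField p 2) ^ k * w := by
      intro k
      induction k with
      | zero => simp
      | succ k ih => intro w; rw [pow_succ, Equiv.Perm.mul_apply, hgc, ih]; ring
    have har : (a : GaloisField p 2) ^ orderOf g = 1 := by
      have := hpow (orderOf g) 1
      rw [pow_orderOf_eq_one] at this
      simpa using this.symm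
    have hoa : orderOf (a : GaloisField p 2) = orderOf g := by
      haveI : Fact (orderOf g).Prime := ⟨hord⟩
      exact orderOf_eq_prime har ha1
    haveI : Fintype (GaloisField p 2) := Fintype.ofFinite _
    have hdvd : orderOf g ∣ p ^ 2 - 1 := by
      rw [← hoa, ← GaloisField.card p 2 two_ne_zero, Nat.card_eq_fintype_card]
      exact orderOf_dvd_of_pow_eq_one (FiniteField.pow_card_sub_one_eq_one _ a.ne_zero)
    have hp2 : p ≠ 2 := by
      intro h
      have h2 : 2 ^ s = 3 := by have := Nat.one_le_two_pow (n := s); omega
      rcases Nat.eq_zero_or_pos s with h0 | h0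
      · rw [h0] at h2; omega
      · have := dvd_pow_self 2 h0.ne'; omega
    have hdvd' : orderOf g ∣ p - 1 := by
      have hp2' : p + 1 = 2 ^ s := by have := Nat.one_le_two_pow (n := s); omega
      have : p ^ 2 - 1 = (p + 1) * (p - 1) := by
        simpa using Nat.sq_sub_sq p 1
      rw [this, hp2'] at hdvd
      rcases (Nat.Prime.dvd_mul hord).1 hdvd with h | h
      · have h2 := (Nat.prime_dvd_prime_iff_eq hord Nat.prime_two).1 (hord.dvd_of_dvd_pow h)
        rw [h2]
        rcases hp.eq_two_or_odd with h' | h'
        · exact absurd h' hp2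
        · omega
      · exact h
    have hap : (a : GaloisField p 2) ^ p = a := by
      obtain ⟨k, hk⟩ := hdvd'
      rw [show (a : GaloisField p 2) ^ p = (a : GaloisField p 2) ^ (orderOf g * k + 1) by
        congr 1; have := hp.one_lt; omega]
      rw [pow_succ, pow_mul, har, one_pow, one_mul]
    have hbot := (Subfield.mem_bot_iff_pow_eq_self (GaloisField p 2) p).2 hap
    rw [← ZMod.fieldRange_castHom_eq_bot p] at hbot
    obtain ⟨z, hz⟩ := hbot
    have hz' : algebraMap (ZMod p) (GaloisField p 2) z = a := by
      rw [← hz, RingHom.ext_zmod (algebraMap (ZMod p) (GaloisField p 2)) (ZMod.castHom dvd_rfl _)]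
    refine ⟨Equiv.subRight c, ⟨1, -c, fun y => by simp [sub_eq_add_neg]⟩, z, 0, fun h => ?_, fun y => ?_⟩
    · rw [h, map_zero] at hz'; exact a.ne_zero hz'.symm
    · simp only [Equiv.Perm.coe_mul, Function.comp_apply, map_zero, add_zero]
      have : (Equiv.subRight c)⁻¹ y = c + y := by
        rw [Equiv.Perm.inv_def, Equiv.symm_apply_eq]; simp
      rw [this, hgc, hz']
      simp

end Cfsg.Agent.S5728
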