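import Cfsg.Statements.S5729
-- import your own Cfsg.Agent.* helpers here

set_option autoImplicit false
open Cfsg

namespace Cfsg.Agent.S5729

open MulAction


/-- Let a finite group G act faithfully and transitively on a set with n ≥ 3 points. Then either G is a Frobenius permutation group (Frobenius as a permutation group: transitive, some non-identity element fixes a point, and no non-identity element fixes two points) of order n(n − 1) and exactly |G|/n of its elements are derangements (fix no point), or the number of derangements is greater than |G|/n. -/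
theorem result {G Ω : Type*} [Group G] [Finite G] [MulAction G Ω] [FaithfulSMul G Ω] [Fintype Ω] (htr : MulAction.IsPretransitive G Ω) (hn : 3 ≤ Fintype.card Ω) :
    ((MulAction.IsPretransitive G Ω ∧ (∃ g : G, g ≠ 1 ∧ ∃ ω : Ω, g • ω = ω) ∧ ∀ g : G, g ≠ 1 → Nat.card (MulAction.fixedBy Ω g) ≤ 1) ∧ Nat.card G = Fintype.card Ω * (Fintype.card Ω - 1) ∧ Fintype.card Ω * Nat.card {g : G // ∀ ω : Ω, g • ω ≠ ω} = Nat.card G) ∨
    Nat.card G < Fintype.card Ω * Nat.card {g : G // ∀ ω : Ω, g • ω ≠ ω} := by
  classical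
  have := Fintype.ofFinite G
  set n := Fintype.card Ω with hn'
  set π : G → ℕ := fun g => Fintype.card (fixedBy Ω g) with hπ
  have hs1 : ∑ g : G, π g = Fintype.card G := by
    have h := MulAction.sum_card_fixedBy_eq_card_orbits_mul_card_group G Ω
    have h1 : Fintype.card (Quotient (orbitRel G Ω)) = 1 := by
      have : Subsingleton (Quotient (orbitRel G Ω)) := MulAction.pretransitive_iff_subsingleton_quotient G Ω |>.1 htr
      obtain ⟨a⟩ : Nonempty Ω := Fintype.card_pos_iff.1 (by omega)
      exact Fintype.card_eq_one_iff.2 ⟨Quotient.mk _ a, fun y => Subsingleton.elim y _⟩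
    rw [h1, one_mul] at h
    exact h
  set r := Fintype.card (Quotient (orbitRel G (Ω × Ω))) with hr
  have hs2 : ∑ g : G, π g * π g = r * Fintype.card G := by
    rw [hr, ← MulAction.sum_card_fixedBy_eq_card_orbits_mul_card_group G (Ω × Ω)]
    refine Finset.sum_congr rfl fun g _ => ?_
    rw [hπ, ← Fintype.card_prod]
    exact Fintype.card_congr
      { toFun := fun x => ⟨(x.1, x.2), Prod.ext x.1.2 x.2.2⟩
        invFun := fun x => (⟨x.1.1, congrArg Prod.fst x.2⟩, ⟨x.1.2, congrArg Prod.snd x.2⟩)
        left_inv := fun x => rfl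
        right_inv := fun x => rfl }
  obtain ⟨a, b, hab⟩ := Fintype.one_lt_card_iff.1 (show 1 < Fintype.card Ω by omega)
  have hdiag : ∀ x y : Ω, Quotient.mk (orbitRel G (Ω × Ω)) (x, y) = Quotient.mk _ (a, a) → x = y := by
    intro x y h
    obtain ⟨g, hg⟩ := Quotient.exact h
    have h1 : g • a = x := congrArg Prod.fst hg
    have h2 : g • a = y := congrArg Prod.snd hg
    exact h1.symm.trans h2
  have hr2 : 2 ≤ r := Fintype.one_lt_card_iff.2 ⟨_, _, fun h => hab (hdiag a b h)⟩
  have hπn : ∀ g : G, π g ≤ n := fun g => Fintype.card_subtype_le _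
  -- the basic inequality
  have hid : (r : ℤ) * Fintype.card G - Fintype.card G = ∑ g : G, ((π g : ℤ) - 1) * ((π g : ℤ) - n) := by
    have h1 : ∀ g : G, ((π g : ℤ) - 1) * ((π g : ℤ) - n) = ((π g * π g : ℕ) : ℤ) - (n + 1) * (π g : ℤ) + n := fun g => by push_cast; ring
    simp only [h1, Finset.sum_add_distrib, Finset.sum_sub_distrib, ← Finset.mul_sum, ← Nat.cast_sum, hs1, hs2,
      Finset.sum_const, Finset.card_univ, nsmul_eq_mul]
    push_cast; ring
  have hD : Nat.card {g : G // ∀ ω : Ω, g • ω ≠ ω} = (Finset.univ.filter fun g : G => π g = 0).card := by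
    rw [Nat.card_eq_fintype_card, Fintype.card_subtype]
    refine congrArg Finset.card (Finset.filter_congr fun g _ => ?_)
    simp [hπ, Fintype.card_eq_zero_iff, isEmpty_subtype]
  have hsplit := Finset.sum_filter_add_sum_filter_not Finset.univ (fun g : G => π g = 0)
    (fun g : G => ((π g : ℤ) - 1) * ((π g : ℤ) - n))
  rw [← hid] at hsplit
  have hA : ∑ g ∈ Finset.univ.filter (fun g : G => π g = 0), ((π g : ℤ) - 1) * ((π g : ℤ) - n)
      = (n : ℤ) * Nat.card {g : G // ∀ ω : Ω, g • ω ≠ ω} := by
    rw [hD, Finset.sum_congr rfl (g := fun _ => (n : ℤ))]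
    · simp [mul_comm]
    · intro g hg
      simp only [Finset.mem_filter] at hg
      simp [hg.2]
  set B := ∑ g ∈ Finset.univ.filter (fun g : G => ¬ π g = 0), ((π g : ℤ) - 1) * ((π g : ℤ) - n) with hBdef
  have hterm : ∀ g ∈ Finset.univ.filter (fun g : G => ¬ π g = 0), ((π g : ℤ) - 1) * ((π g : ℤ) - n) ≤ 0 := by
    intro g hg
    simp only [Finset.mem_filter] at hg
    have h1 : (1 : ℤ) ≤ π g := by have := Nat.pos_of_ne_zero hg.2; exact_mod_cast this
    have h2 : (π g : ℤ) ≤ n := by exact_mod_cast hπn g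
    exact mul_nonpos_of_nonneg_of_nonpos (by linarith) (by linarith)
  have hB : B ≤ 0 := Finset.sum_nonpos hterm
  rw [hA] at hsplit
  set D := Nat.card {g : G // ∀ ω : Ω, g • ω ≠ ω} with hDdef
  rw [Nat.card_eq_fintype_card (α := G)]
  by_cases hlt : Fintype.card G < n * D
  · exact Or.inr hlt
  refine Or.inl ?_
  have hle : (n : ℤ) * D ≤ Fintype.card G := by exact_mod_cast not_lt.1 hlt
  have hr2' : (2 : ℤ) ≤ r := by exact_mod_cast hr2
  have hG0 : (0 : ℤ) < Fintype.card G := by exact_mod_cast Fintype.card_pos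
  have hreq : (r : ℤ) = 2 := by nlinarith
  have hBz : B = 0 := by rw [hreq] at hsplit; linarith
  have hnD : n * D = Fintype.card G := by
    have : (n : ℤ) * D = Fintype.card G := by rw [hreq] at hsplit; linarith
    exact_mod_cast this
  have hfix : ∀ g : G, g ≠ 1 → π g ≤ 1 := by
    intro g hg1
    by_contra h
    have hmem : g ∈ Finset.univ.filter (fun g : G => ¬ π g = 0) := by simp; omega
    have := (Finset.sum_eq_zero_iff_of_nonpos hterm).1 hBz g hmem
    rcases mul_eq_zero.1 this with h' | h'
    · have : π g = 1 := by exact_mod_cast (sub_eq_zero.1 h')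
      omega
    · have h'' : π g = n := by exact_mod_cast (sub_eq_zero.1 h')
      apply hg1
      apply eq_of_smul_eq_smul (α := Ω)
      intro x
      have hu : (fixedBy Ω g).toFinset = Finset.univ := by
        apply Finset.eq_univ_of_card
        rw [Set.toFinset_card]; exact h''
      rw [one_smul]
      show x ∈ fixedBy Ω g
      exact Set.mem_toFinset.1 ((Finset.ext_iff.1 hu x).2 (Finset.mem_univ x))
  -- sharply 2-transitive
  have hrnat : r = 2 := by exact_mod_cast hreq
  have htwo : ∀ x y : Ω, x ≠ y → ∃ g : G, g • a = x ∧ g • b = y := by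
    intro x y hxy
    by_contra hne
    have : 3 ≤ r := by
      refine Fintype.two_lt_card_iff.2 ⟨Quotient.mk _ (a, a), Quotient.mk _ (a, b), Quotient.mk _ (x, y), fun h => hab (hdiag a b h.symm), fun h => hxy (hdiag x y h.symm), fun h => hne ?_⟩
      obtain ⟨g, hg⟩ := Quotient.exact h.symm
      exact ⟨g, congrArg Prod.fst hg, congrArg Prod.snd hg⟩
    omega
  have hcardG : Fintype.card G = n * (n - 1) := by
    have hbij : Function.Bijective (fun g : G => (⟨(g • a, g • b), fun h => hab ((MulAction.injective g) h)⟩ :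
        {p : Ω × Ω // p.1 ≠ p.2})) := by
      constructor
      · intro g h hgh
        have h1 : g • a = h • a := congrArg (fun p => p.1.1) hgh
        have h2 : g • b = h • b := congrArg (fun p => p.1.2) hgh
        by_contra hne
        have : π (h⁻¹ * g) ≤ 1 := hfix _ (fun e => hne (inv_mul_eq_one.1 e).symm)
        have : (⟨a, by rw [mem_fixedBy, mul_smul, h1, inv_smul_smul]⟩ : fixedBy Ω (h⁻¹ * g)) =
            ⟨b, by rw [mem_fixedBy, mul_smul, h2, inv_smul_smul]⟩ :=
          Fintype.card_le_one_iff.1 this _ _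
        exact hab (congrArg Subtype.val this)
      · rintro ⟨⟨x, y⟩, hxy⟩
        obtain ⟨g, h1, h2⟩ := htwo x y hxy
        exact ⟨g, Subtype.ext (Prod.ext h1 h2)⟩
    rw [Fintype.card_of_bijective hbij, Fintype.card_subtype]
    rw [show (Finset.univ.filter fun p : Ω × Ω => p.1 ≠ p.2) = (Finset.univ : Finset Ω).offDiag by ext p; simp]
    rw [Finset.offDiag_card, Finset.card_univ, Nat.mul_sub, mul_one]
  refine ⟨⟨htr, ?_, fun g hg => ?_⟩, by rw [hcardG], hnD⟩
  · by_contra hno
    push Not at hno
    have h0 : ∀ g : G, g ≠ 1 → π g = 0 := fun g hg => by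
      by_contra h
      obtain ⟨⟨ω, hω⟩⟩ := Fintype.card_pos_iff.1 (Nat.pos_of_ne_zero h)
      exact hno g hg ω hω
    have : ∑ g : G, π g = n := by
      rw [Finset.sum_eq_single (1 : G) (fun g _ hg => h0 g hg) (by simp)]
      simp [hπ, hn']
    rw [hs1, hcardG] at this
    have h2 : 2 ≤ n - 1 := by omega
    have : n * 2 ≤ n * (n - 1) := Nat.mul_le_mul_left n h2
    omega
  · rw [Nat.card_eq_fintype_card]; exact hfix g hg

end Cfsg.Agent.S5729
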