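import Cfsg.Statements.S5738


set_option autoImplicit false
open Cfsg

namespace Cfsg.Agent.S5738

variable (F K : Type*) [Field F] [Fintype F] [Field K] [Fintype K] [Algebra F K]

/-- Multiplications. -/
abbrev L : K →* Module.End F K := ((Algebra.lmul F K : K →ₐ[F] Module.End F K) : K →* Module.End F K)

abbrev S : Subgroup (Module.End F K)ˣ := (Units.map (L F K)).range

theorem mem_S_iff (u : (Module.End F K)ˣ) : u ∈ S F K ↔ ∃ x : K, ∀ y : K, (u : Module.End F K) y = x * y := by
  constructor
  · rintro ⟨x, rfl⟩; exact ⟨x, fun y => rfl⟩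
  · rintro ⟨x, hx⟩
    have hx0 : x ≠ 0 := fun h => by
      have := congrArg (fun f : Module.End F K => f 1) u.inv_mul
      simp only [Module.End.mul_apply, Module.End.one_apply, hx, h, zero_mul, map_zero] at this
      exact zero_ne_one this
    exact ⟨Units.mk0 x hx0, Units.ext (LinearMap.ext fun y => (hx y).symm)⟩

/-- An element twisted by a field automorphism. -/
def N (p : Kˣ × (K ≃ₐ[F] K)) : (Module.End F K)ˣ :=
  Units.map (L F K) p.1 * (LinearMap.GeneralLinearGroup.ofLinearEquiv p.2.toLinearEquiv)

theorem N_apply (p : Kˣ × (K ≃ₐ[F] K)) (y : K) : (N F K p : Module.End F K) y = p.1 * p.2 y := rfl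

theorem N_mem (p : Kˣ × (K ≃ₐ[F] K)) : N F K p ∈ Subgroup.normalizer (S F K : Set (Module.End F K)ˣ) := by
  obtain ⟨c, σ⟩ := p
  rw [Subgroup.mem_normalizer_iff]
  intro u
  simp only [SetLike.mem_coe, mem_S_iff]
  have hN : ∀ y, ((N F K (c, σ))⁻¹ : (Module.End F K)ˣ).val (c * σ y) = y := fun y => by
    have := congrArg (fun f : Module.End F K => f y) (N F K (c, σ)).inv_mul
    simpa only [Module.End.mul_apply, Module.End.one_apply, N_apply] using this
  have hN' : ∀ y, ((N F K (c, σ))⁻¹ : (Module.End F K)ˣ).val y = σ.symm ((c : K)⁻¹ * y) := fun y => by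
    conv_lhs => rw [show y = c * σ (σ.symm ((c : K)⁻¹ * y)) by simp]
    rw [hN]
  constructor
  · rintro ⟨x, hx⟩
    refine ⟨σ x, fun y => ?_⟩
    simp only [Units.val_mul, Module.End.mul_apply, hN', hx, N_apply, map_mul, AlgEquiv.apply_symm_apply]
    field_simp
  · rintro ⟨x, hx⟩
    refine ⟨σ.symm x, fun y => ?_⟩
    have := hx (c * σ y)
    simp only [Units.val_mul, Module.End.mul_apply, hN, N_apply] at this
    apply σ.injective
    rw [map_mul, AlgEquiv.apply_symm_apply]
    refine mul_left_cancel₀ c.ne_zero ?_
    rw [this]; ring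

theorem N_bijective : Function.Bijective (fun p => (⟨N F K p, N_mem F K p⟩ : Subgroup.normalizer (S F K : Set (Module.End F K)ˣ))) := by
  constructor
  · intro p p' e
    have h := fun y => congrArg (fun f : Subgroup.normalizer (S F K : Set (Module.End F K)ˣ) => (f.1 : Module.End F K) y) e
    simp only [N_apply] at h
    have h1 : p.1 = p'.1 := Units.ext (by simpa using h 1)
    refine Prod.ext h1 (AlgEquiv.ext fun y => ?_)
    have := h y
    rw [h1] at this
    exact mul_left_cancel₀ p'.1.ne_zero this
  · rintro ⟨g, hg⟩
    rw [Subgroup.mem_normalizer_iff] at hg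
    have key : ∀ x : K, ∃ z : K, ∀ y, (g : Module.End F K) (x * y) = z * (g : Module.End F K) y := by
      intro x
      rcases eq_or_ne x 0 with rfl | hx
      · exact ⟨0, fun y => by simp⟩
      obtain ⟨z, hz⟩ := (mem_S_iff F K _).1 ((hg (Units.map (L F K) (Units.mk0 x hx))).1 ⟨_, rfl⟩)
      refine ⟨z, fun y => ?_⟩
      have h1 := hz ((g : Module.End F K) y)
      have h2 := congrArg (fun f : Module.End F K => f y) g.inv_mul
      simp only [Module.End.mul_apply, Module.End.one_apply] at h2
      simp only [Units.val_mul, Module.End.mul_apply, h2] at h1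
      exact h1
    choose σ hσ using key
    have inj : Function.Injective (g : Module.End F K) := fun a b e => by
      have h2 := fun y => congrArg (fun f : Module.End F K => f y) g.inv_mul
      simp only [Module.End.mul_apply, Module.End.one_apply] at h2
      rw [← h2 a, ← h2 b, e]
    have g1 : (g : Module.End F K) 1 ≠ 0 := fun h => one_ne_zero (inj (h.trans (map_zero _).symm))
    have h1 : ∀ x, (g : Module.End F K) x = σ x * (g : Module.End F K) 1 := fun x => by
      have := hσ x 1; rwa [mul_one] at this
    let s : K →ₐ[F] K :=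
      { toFun := σ
        map_one' := mul_right_cancel₀ g1 (by rw [← h1, one_mul])
        map_mul' := fun a b => mul_right_cancel₀ g1 (by rw [← h1, hσ a b, h1 b, mul_assoc])
        map_zero' := mul_right_cancel₀ g1 (by rw [← h1, map_zero, zero_mul])
        map_add' := fun a b => mul_right_cancel₀ g1 (by rw [← h1, map_add, h1 a, h1 b, add_mul])
        commutes' := fun r => mul_right_cancel₀ g1 (by
          rw [← h1, Algebra.algebraMap_eq_smul_one, map_smul, Algebra.smul_def, Algebra.smul_def, mul_one]) }
    refine ⟨(Units.mk0 _ g1, AlgEquiv.ofBijective s ⟨s.toRingHom.injective, ?_⟩), Subtype.ext (Units.ext (LinearMap.ext fun y => ?_))⟩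
    · exact Finite.surjective_of_injective s.toRingHom.injective
    · rw [N_apply]
      show (g : Module.End F K) 1 * σ y = _
      rw [h1 y, mul_comm]

end Cfsg.Agent.S5738


namespace Cfsg.Agent.S5738

/-- Let F ⊆ K be finite fields with |F| = q and [K : F] = n ≥ 2, so |K| = q^n. Regard K as an n-dimensional F-vector space; the multiplications by non-zero elements of K form a cyclic subgroup of GL_F(K) of order q^n − 1 acting regularly on the non-zero vectors (a Singer group). Its normaliser in GL_F(K) has order n·(q^n − 1). -/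
theorem result {F K : Type*} [Field F] [Fintype F] [Field K] [Fintype K] [Algebra F K] (n : ℕ) (hn : 2 ≤ n) (hdim : Module.finrank F K = n) :
    Nat.card (Subgroup.normalizer (((Units.map ((Algebra.lmul F K : K →ₐ[F] Module.End F K) : K →* Module.End F K)).range : Subgroup (Module.End F K)ˣ) : Set (Module.End F K)ˣ)) = n * (Fintype.card K - 1) := by
  rw [← Nat.card_eq_of_bijective _ (N_bijective F K), Nat.card_prod, Nat.card_units, IsGalois.card_aut_eq_finrank, hdim,
    Nat.card_eq_fintype_card (α := K)]
  ring

end Cfsg.Agent.S5738
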