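import Cfsg.Statements.S5739
-- import your own Cfsg.Agent.* helpers here

set_option autoImplicit false
open Cfsg

namespace Cfsg.Agent.S5739


/-- Let F ⊆ K be finite fields with |F| = q and [K : F] = n ≥ 2, and let M ≤ GL_F(K) be the Singer group of multiplications by non-zero elements of K. If g ∈ GL_F(K) does not normalise M, then the order of M ∩ gMg⁻¹ divides q^r − 1 for some proper divisor r of n. In particular, when n is prime, that order divides q − 1. -/
theorem result {F K : Type*} [Field F] [Fintype F] [Field K] [Fintype K] [Algebra F K] (n : ℕ) (hn : 2 ≤ n) (hdim : Module.finrank F K = n)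
    (g : (Module.End F K)ˣ) (hg : ((Units.map ((Algebra.lmul F K : K →ₐ[F] Module.End F K) : K →* Module.End F K)).range).map (MulAut.conj g).toMonoidHom ≠ (Units.map ((Algebra.lmul F K : K →ₐ[F] Module.End F K) : K →* Module.End F K)).range) :
    ∃ r : ℕ, 1 ≤ r ∧ r ∣ n ∧ r < n ∧ Nat.card ↥(((Units.map ((Algebra.lmul F K : K →ₐ[F] Module.End F K) : K →* Module.End F K)).range).map (MulAut.conj g).toMonoidHom ⊓ (Units.map ((Algebra.lmul F K : K →ₐ[F] Module.End F K) : K →* Module.End F K)).range) ∣ Fintype.card F ^ r - 1 := by
  classical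
  have : Finite (Module.End F K) := Finite.of_injective (fun e : Module.End F K => (e : K → K)) DFunLike.coe_injective
  set R := (Units.map ((Algebra.lmul F K : K →ₐ[F] Module.End F K) : K →* Module.End F K)).range with hR
  set f : K →ₐ[F] Module.End F K := Algebra.lmul F K with hf
  have hinj : Function.Injective f := fun a b h => by
    have := LinearMap.congr_fun h 1
    simpa [hf] using this
  -- the elements whose multiplication lies in both algebras
  let c : Module.End F K →ₐ[F] Module.End F K :=
    { toFun := fun x => (g : Module.End F K) * x * ((g⁻¹ : (Module.End F K)ˣ) : Module.End F K)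
      map_one' := by simp
      map_mul' := fun x y => by simp [mul_assoc]
      map_zero' := by simp
      map_add' := fun x y => by simp [mul_add, add_mul]
      commutes' := fun a => by rw [← Algebra.commutes, mul_assoc, Units.mul_inv, mul_one] }
  let E : Subalgebra F K := ((c.comp f).range).comap f
  let L : IntermediateField F K := E.toIntermediateField' (Subalgebra.isField_of_algebraic E)
  have hmem : ∀ x : K, x ∈ L ↔ ∃ y, c (f y) = f x := fun x => Iff.rfl
  set I := R.map (MulAut.conj g).toMonoidHom ⊓ R with hI
  have hcard : Nat.card I = Nat.card L - 1 := by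
    rw [← Nat.card_units L]
    refine (Nat.card_eq_of_bijective (fun u : Lˣ => (⟨Units.map (f : K →* Module.End F K) (Units.map (L.val : L →* K) u), ?_, ⟨_, rfl⟩⟩ : I)) ⟨?_, ?_⟩).symm
    · obtain ⟨y, hy⟩ := (hmem _).1 (u : L).2
      have hy0 : y ≠ 0 := by
        intro h
        subst h
        have h0 : f ((u : L) : K) = f 0 := by rw [← hy]; simp
        exact u.ne_zero (Subtype.ext (hinj h0))
      refine ⟨_, ⟨Units.mk0 y hy0, rfl⟩, Units.ext ?_⟩
      exact hy
    · intro u v h
      refine Units.ext (Subtype.ext (hinj ?_))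
      exact congrArg (fun z : I => ((z : (Module.End F K)ˣ) : Module.End F K)) h
    · rintro ⟨_, ⟨_, ⟨y, rfl⟩, hy⟩, ⟨x, rfl⟩⟩
      have hx : (x : K) ∈ L := ⟨(y : K), congrArg Units.val hy⟩
      exact ⟨Units.mk0 ⟨_, hx⟩ (fun h => x.ne_zero (congrArg Subtype.val h)), Subtype.ext (Units.ext rfl)⟩
  have htow := Module.finrank_mul_finrank F L K
  rw [hdim] at htow
  refine ⟨Module.finrank F L, Module.finrank_pos, ⟨_, htow.symm⟩, ?_, ?_⟩
  · refine lt_of_le_of_ne (Nat.le_of_dvd (by omega) ⟨_, htow.symm⟩) fun heq => hg ?_
    have hL : Nat.card L = Nat.card K := by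
      rw [Module.natCard_eq_pow_finrank (K := F) (V := L), Module.natCard_eq_pow_finrank (K := F) (V := K), heq, hdim]
    have hRc : Nat.card R = Nat.card K - 1 := by
      rw [← Nat.card_units K]
      exact (Nat.card_congr (MonoidHom.ofInjective (Units.map_injective (f := (f : K →* Module.End F K)) hinj)).toEquiv).symm
    rw [hL, ← hRc] at hcard
    have h2 : I = R := Subgroup.eq_of_le_of_card_ge inf_le_right hcard.ge
    have hle : R ≤ R.map (MulAut.conj g).toMonoidHom := fun x hx => (h2.ge hx).1
    refine (Subgroup.eq_of_le_of_card_ge hle ?_).symm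
    exact (Nat.card_congr (R.equivMapOfInjective (MulAut.conj g).toMonoidHom (MulAut.conj g).injective).toEquiv).ge
  · rw [hcard, Module.natCard_eq_pow_finrank (K := F) (V := L), Nat.card_eq_fintype_card (α := F)]

end Cfsg.Agent.S5739
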