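import Cfsg.Statements.S5747
-- import your own Cfsg.Agent.* helpers here

set_option autoImplicit false
open Cfsg

namespace Cfsg.Agent.S5747

variable {G Ω : Type*} [Group G] [MulAction G Ω]

/-- An irredundant base, as a sequence. -/
def IBs (G : Type*) {Ω : Type*} [Group G] [MulAction G Ω] {t : ℕ} (f : Fin t → Ω) : Prop :=
  (∀ g : G, (∀ i : Fin t, g • f i = f i) → g = 1) ∧
    ∀ i : Fin t, ∃ g : G, (∀ j : Fin t, j < i → g • f j = f j) ∧ g • f i ≠ f i

theorem sub_base {t : ℕ} (f : Fin t → Ω) (hb : ∀ g : G, (∀ i, g • f i = f i) → g = 1)
    {i : Fin t} (hi : ¬ ∃ g : G, (∀ j, j < i → g • f j = f j) ∧ g • f i ≠ f i) :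
    ∃ (s : ℕ) (f' : Fin s → Ω), IBs G f' ∧ s < t := by
  classical
  set S := Finset.univ.filter fun i : Fin t => ∃ g : G, (∀ j, j < i → g • f j = f j) ∧ g • f i ≠ f i with hS
  let e := S.orderEmbOfFin rfl
  have key : ∀ (g : G) (m : Fin t), (∀ j ∈ S, j < m → g • f j = f j) → ∀ j, j < m → g • f j = f j := by
    intro g m hg j
    induction j using WellFoundedLT.induction with
    | ind j ih =>
      intro hjm
      by_cases hj : j ∈ S
      · exact hg j hj hjm
      · by_contra h
        exact hj (Finset.mem_filter.2 ⟨Finset.mem_univ _, g, fun k hk => ih k hk (hk.trans hjm), h⟩)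
  have hmem : ∀ j ∈ S, ∃ a, e a = j := fun j hj => by
    have : j ∈ Set.range e := by rw [S.range_orderEmbOfFin rfl]; exact hj
    exact this
  refine ⟨S.card, fun a => f (e a), ⟨fun g hg => hb g fun j => ?_, fun a => ?_⟩, ?_⟩
  · induction j using WellFoundedLT.induction with
    | ind j ih =>
      by_cases hj : j ∈ S
      · obtain ⟨a, rfl⟩ := hmem j hj; exact hg a
      · by_contra h
        exact hj (Finset.mem_filter.2 ⟨Finset.mem_univ _, g, fun k hk => ih k hk, h⟩)
  · obtain ⟨-, g, hg1, hg2⟩ := Finset.mem_filter.1 (S.orderEmbOfFin_mem rfl a)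
    exact ⟨g, fun b hb' => hg1 _ (e.strictMono hb'), hg2⟩
  · have : i ∉ S := fun h => hi (Finset.mem_filter.1 h).2
    exact (Finset.card_lt_univ_of_notMem this).trans_le (by simp)

section pres

variable (hP : ∀ (t : ℕ) (f : Fin t → Ω) (σ : Equiv.Perm (Fin t)), IBs G f → IBs G (f ∘ σ))
include hP

theorem indep {t : ℕ} {f : Fin t → Ω} (hf : IBs G f) (i : Fin t) :
    ∃ g : G, (∀ j, j ≠ i → g • f j = f j) ∧ g • f i ≠ f i := by
  cases t with
  | zero => exact i.elim0
  | succ t =>
    obtain ⟨g, h1, h2⟩ := (hP _ f (Equiv.swap i (Fin.last t)) hf).2 (Fin.last t)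
    simp only [Function.comp_apply, Equiv.swap_apply_right] at h2
    refine ⟨g, fun j hj => ?_, h2⟩
    have := h1 (Equiv.swap i (Fin.last t) j) (Fin.lt_last_iff_ne_last.2 fun e => hj ?_)
    · simpa using this
    · exact (Equiv.swap i (Fin.last t)).injective (e.trans (Equiv.swap_apply_left i (Fin.last t)).symm)

theorem inj {t : ℕ} {f : Fin t → Ω} (hf : IBs G f) : Function.Injective f := by
  intro i j h
  by_contra hne
  obtain ⟨g, h1, h2⟩ := indep hP hf i
  exact h2 (h ▸ h1 j (Ne.symm hne))

theorem exchange {t : ℕ} {f : Fin t → Ω} (hf : IBs G f) (i : Fin t) (b' : Ω) (g₀ : G)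
    (hg₀ : ∀ j, j ≠ i → g₀ • f j = f j) (hb' : g₀ • b' ≠ b') : IBs G (Function.update f i b') := by
  cases t with
  | zero => exact i.elim0
  | succ t =>
    have hg0i : g₀ • f i ≠ f i := fun h => by
      have : g₀ = 1 := hf.1 g₀ fun j => if hj : j = i then hj ▸ h else hg₀ j hj
      exact hb' (by rw [this, one_smul])
    set σ := Equiv.swap i (Fin.last t) with hσ
    have hσf := hP _ f σ hf
    have hne : ∀ j : Fin t, σ j.castSucc ≠ i := fun j e => j.castSucc_lt_last.ne
      (σ.injective (e.trans (Equiv.swap_apply_right i (Fin.last t)).symm))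
    -- no nontrivial element fixes the other points and b'
    have key : ∀ g : G, (∀ j, j ≠ i → g • f j = f j) → g • b' = b' → g = 1 := by
      intro h hh1 hh2
      by_contra hne1
      let F : Fin (t + 2) → Ω := Fin.snoc (Fin.snoc (fun j : Fin t => f (σ j.castSucc)) b') (f i)
      have hF1 : ∀ j : Fin t, F j.castSucc.castSucc = f (σ j.castSucc) := fun j => by simp [F]
      have hF2 : F (Fin.last t).castSucc = b' := by simp [F]
      have hF3 : F (Fin.last (t + 1)) = f i := by simp [F]
      have hF : IBs G F := by
        refine ⟨fun g hg => hf.1 g fun j => ?_, fun j => ?_⟩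
        · by_cases hj : j = i
          · subst hj; simpa [hF3] using hg (Fin.last (t + 1))
          · have hjl : σ j ≠ Fin.last t := fun e => hj (σ.injective (e.trans (Equiv.swap_apply_left i (Fin.last t)).symm))
            obtain ⟨j', hj'⟩ := Fin.exists_castSucc_eq.2 hjl
            have := hg j'.castSucc.castSucc
            rw [hF1, hj'] at this
            simpa [hσ] using this
        · induction j using Fin.lastCases with
          | last =>
            refine ⟨h, fun k hk => ?_, ?_⟩
            · induction k using Fin.lastCases with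
              | last => exact absurd hk (lt_irrefl _)
              | cast k =>
                induction k using Fin.lastCases with
                | last => rw [hF2]; exact hh2
                | cast k => rw [hF1]; exact hh1 _ (hne k)
            · rw [hF3]
              intro e
              exact hne1 (hf.1 h fun j => if hj : j = i then hj ▸ e else hh1 j hj)
          | cast j =>
            induction j using Fin.lastCases with
            | last =>
              refine ⟨g₀, fun k hk => ?_, by rw [hF2]; exact hb'⟩
              induction k using Fin.lastCases with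
              | last => exact absurd hk (not_lt.2 (Fin.le_last _))
              | cast k =>
                induction k using Fin.lastCases with
                | last => exact absurd hk (lt_irrefl _)
                | cast k => rw [hF1]; exact hg₀ _ (hne k)
            | cast j =>
              obtain ⟨g, h1, h2⟩ := hσf.2 j.castSucc
              refine ⟨g, fun k hk => ?_, by rw [hF1]; exact h2⟩
              induction k using Fin.lastCases with
              | last => exact absurd hk (not_lt.2 (Fin.le_last _))
              | cast k =>
                induction k using Fin.lastCases with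
                | last => exact absurd (Fin.castSucc_lt_castSucc_iff.1 hk) (not_lt.2 (Fin.le_last _))
                | cast k =>
                  rw [hF1]
                  exact h1 _ (Fin.castSucc_lt_castSucc_iff.1 hk)
      obtain ⟨g, h1, h2⟩ := indep hP hF (Fin.last t).castSucc
      have : g = 1 := hf.1 g fun j => by
        by_cases hj : j = i
        · subst hj
          simpa [hF3] using h1 (Fin.last (t + 1)) (Fin.castSucc_lt_last _).ne'
        · have hjl : σ j ≠ Fin.last t := fun e => hj (σ.injective (e.trans (Equiv.swap_apply_left i (Fin.last t)).symm))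
          obtain ⟨j', hj'⟩ := Fin.exists_castSucc_eq.2 hjl
          have hne' : j'.castSucc.castSucc ≠ (Fin.last t).castSucc := fun e =>
            j'.castSucc_lt_last.ne (Fin.castSucc_inj.1 e)
          have := h1 _ hne'
          rw [hF1, hj'] at this
          simpa [hσ] using this
      exact h2 (by rw [this, one_smul])
    -- the new sequence, with the new point last
    have hu : ∀ j, j ≠ i → Function.update f i b' j = f j := fun j hj => Function.update_of_ne hj _ _
    have hfi : Function.update f i b' i = b' := Function.update_self _ _ _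
    have hIB : IBs G (Function.update f i b' ∘ σ) := by
      refine ⟨fun g hg => key g (fun j hj => ?_) ?_, fun j => ?_⟩
      · have := hg (σ j)
        simpa [hσ, hu j hj] using this
      · have := hg (Fin.last t)
        simpa [hσ, Equiv.swap_apply_right, hfi] using this
      · induction j using Fin.lastCases with
        | last =>
          refine ⟨g₀, fun k hk => ?_, ?_⟩
          · have hk' : σ k ≠ i := fun e => hk.ne (σ.injective (e.trans (Equiv.swap_apply_right i (Fin.last t)).symm))
            simp only [Function.comp_apply, hu _ hk']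
            exact hg₀ _ hk'
          · simp only [Function.comp_apply, hσ, Equiv.swap_apply_right, hfi]
            exact hb'
        | cast j =>
          obtain ⟨g, h1, h2⟩ := hσf.2 j.castSucc
          refine ⟨g, fun k hk => ?_, ?_⟩
          · have hk' : σ k ≠ i := fun e => (hk.trans j.castSucc_lt_last).ne
              (σ.injective (e.trans (Equiv.swap_apply_right i (Fin.last t)).symm))
            simp only [Function.comp_apply, hu _ hk']
            exact h1 k hk
          · simp only [Function.comp_apply, hu _ (hne j)]
            exact h2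
    have := hP _ _ σ hIB
    have e : (Function.update f i b' ∘ σ) ∘ σ = Function.update f i b' := by
      funext j; simp [hσ]
    rwa [e] at this

theorem same_size {t' : ℕ} {f' : Fin t' → Ω} (hf' : IBs G f') :
    ∀ (N : ℕ) {t : ℕ} (f : Fin t → Ω), IBs G f → Nat.card {i : Fin t // f i ∉ Set.range f'} = N → t = t' := by
  classical
  intro N
  induction N using Nat.strong_induction_on with
  | _ N ih =>
    intro t f hf hN
    by_cases hall : ∀ i, f i ∈ Set.range f'
    · have hsub : ∀ j, f' j ∈ Set.range f := by
        intro j
        by_contra hj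
        obtain ⟨g, h1, h2⟩ := indep hP hf' j
        refine h2 ?_
        have : g = 1 := hf.1 g fun i => by
          obtain ⟨j', hj'⟩ := hall i
          rw [← hj']
          exact h1 j' fun e => hj (e ▸ ⟨i, hj'.symm⟩)
        rw [this, one_smul]
      have he : Set.range f = Set.range f' :=
        Set.Subset.antisymm (Set.range_subset_iff.2 hall) (Set.range_subset_iff.2 hsub)
      have h1 := Set.ncard_range_of_injective (inj hP hf)
      rw [he, Set.ncard_range_of_injective (inj hP hf')] at h1
      simpa using h1.symm
    · push Not at hall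
      obtain ⟨i, hi⟩ := hall
      obtain ⟨g₀, h1, h2⟩ := indep hP hf i
      obtain ⟨j, hj⟩ : ∃ j, g₀ • f' j ≠ f' j := by
        by_contra h
        push Not at h
        exact h2 (by rw [hf'.1 g₀ h, one_smul])
      refine ih _ ?_ _ (exchange hP hf i (f' j) g₀ h1 hj) rfl
      rw [← hN, Nat.card_eq_fintype_card, Nat.card_eq_fintype_card, Fintype.card_subtype, Fintype.card_subtype]
      refine Finset.card_lt_card ⟨fun k hk => ?_, fun hsub => ?_⟩
      · simp only [Finset.mem_filter, Finset.mem_univ, true_and] at hk ⊢
        by_cases hki : k = i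
        · subst hki; exact absurd (by rw [Function.update_self]; exact Set.mem_range_self j) hk
        · rwa [Function.update_of_ne hki] at hk
      · have := hsub (Finset.mem_filter.2 ⟨Finset.mem_univ i, hi⟩)
        simp only [Finset.mem_filter, Function.update_self] at this
        exact this.2 (Set.mem_range_self j)

end pres


/-- Let a finite group G act on a finite set Ω. An irredundant base is a sequence of points ω₁, …, ω_t whose pointwise stabiliser is trivial and in which each ω_i is moved by some element fixing ω₁, …, ω_{i−1}. Then all irredundant bases have the same length if and only if every reordering of an irredundant base is again an irredundant base. -/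
theorem result {G Ω : Type*} [Group G] [Finite G] [MulAction G Ω] [Fintype Ω] :
    (∀ (t t' : ℕ) (f : Fin t → Ω) (f' : Fin t' → Ω), ((∀ g : G, (∀ i : Fin t, g • f i = f i) → g = 1) ∧ ∀ i : Fin t, ∃ g : G, (∀ j : Fin t, j < i → g • f j = f j) ∧ g • f i ≠ f i) → ((∀ g : G, (∀ i : Fin t', g • f' i = f' i) → g = 1) ∧ ∀ i : Fin t', ∃ g : G, (∀ j : Fin t', j < i → g • f' j = f' j) ∧ g • f' i ≠ f' i) → t = t') ↔
    (∀ (t : ℕ) (f : Fin t → Ω) (σ : Equiv.Perm (Fin t)), ((∀ g : G, (∀ i : Fin t, g • f i = f i) → g = 1) ∧ ∀ i : Fin t, ∃ g : G, (∀ j : Fin t, j < i → g • f j = f j) ∧ g • f i ≠ f i) → ((∀ g : G, (∀ i : Fin t, g • (f ∘ σ) i = (f ∘ σ) i) → g = 1) ∧ ∀ i : Fin t, ∃ g : G, (∀ j : Fin t, j < i → g • (f ∘ σ) j = (f ∘ σ) j) ∧ g • (f ∘ σ) i ≠ (f ∘ σ) i)) := by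
  constructor
  · intro hsize t f σ hf
    have hb : ∀ g : G, (∀ i, g • (f ∘ σ) i = (f ∘ σ) i) → g = 1 := fun g hg =>
      hf.1 g fun i => by simpa using hg (σ.symm i)
    refine ⟨hb, fun i => ?_⟩
    by_contra h
    obtain ⟨s, f', hf', hs⟩ := sub_base (f ∘ σ) hb h
    exact hs.ne (hsize s t f' f hf' hf)
  · intro hP t t' f f' hf hf'
    exact same_size (G := G) hP hf' _ f hf rfl

end Cfsg.Agent.S5747
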