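import Cfsg.Statements.S5754
-- import your own Cfsg.Agent.* helpers here

set_option autoImplicit false
open Cfsg

namespace Cfsg.Agent.S5754

theorem extend {F V : Type*} [Field F] [AddCommGroup V] [Module F V] (Q : QuadraticForm F V)
    (hQ : Q.Anisotropic) : ∀ {m : ℕ} (x y : Fin m → V), (∀ i, Q (x i) = Q (y i)) →
    (∀ i j, Q (x i - x j) = Q (y i - y j)) → ∃ φ : Q.IsometryEquiv Q, ∀ i, φ (x i) = y i := by
  intro m
  induction m with
  | zero => exact fun x y _ _ => ⟨QuadraticMap.IsometryEquiv.refl Q, fun i => i.elim0⟩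
  | succ m ih =>
    intro x y h1 h2
    obtain ⟨φ, hφ⟩ := ih (fun i => x i.castSucc) (fun i => y i.castSucc) (fun i => h1 _) (fun i j => h2 _ _)
    set x' := φ (x (Fin.last m)) with hx'
    set y' := y (Fin.last m) with hy'
    by_cases he : x' = y'
    · exact ⟨φ, fun i => Fin.lastCases he hφ i⟩
    set d := x' - y' with hd
    have hd0 : Q d ≠ 0 := fun h => he (sub_eq_zero.1 (hQ d h))
    have hpol : ∀ a b : V, QuadraticMap.polar Q a b = QuadraticMap.polarBilin Q a b := fun _ _ => rfl
    let r : V →ₗ[F] V := LinearMap.id - (Q d)⁻¹ • (QuadraticMap.polarBilin Q d).smulRight d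
    have hr : ∀ v, r v = v - ((Q d)⁻¹ * QuadraticMap.polar Q d v) • d := fun v => by
      simp [r, smul_smul]
    have hrQ : ∀ v, Q (r v) = Q v := by
      intro v
      set c := (Q d)⁻¹ * QuadraticMap.polar Q d v with hc
      rw [hr v, ← hc]
      have : Q (v + (-c) • d) = Q v + Q ((-c) • d) + QuadraticMap.polar Q v ((-c) • d) := QuadraticMap.map_add Q _ _
      rw [sub_eq_add_neg, ← neg_smul, this, QuadraticMap.map_smul, hpol, map_smul, ← hpol, QuadraticMap.polar_comm Q v d,
        smul_eq_mul, smul_eq_mul, hc]
      field_simp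
      ring
    have hrr : ∀ v, r (r v) = v := by
      intro v
      rw [hr (r v), hr v]
      have hdd : QuadraticMap.polar Q d d = 2 * Q d := by rw [QuadraticMap.polar_self]; simp [two_mul, smul_eq_mul]
      have hlin : ∀ c : F, QuadraticMap.polar Q d (v - c • d) = QuadraticMap.polar Q d v - c * (2 * Q d) := fun c => by
        rw [hpol d (v - c • d), map_sub (QuadraticMap.polarBilin Q d), map_smul (QuadraticMap.polarBilin Q d), ← hpol, ← hpol, hdd, smul_eq_mul]
      rw [hlin, sub_sub, ← add_smul]
      have : (Q d)⁻¹ * QuadraticMap.polar Q d v + (Q d)⁻¹ * (QuadraticMap.polar Q d v - (Q d)⁻¹ * QuadraticMap.polar Q d v * (2 * Q d)) = 0 := by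
        field_simp; ring
      rw [this, zero_smul, sub_zero]
    let e : V ≃ₗ[F] V := LinearEquiv.ofBijective r (Function.Involutive.bijective hrr)
    let R : Q.IsometryEquiv Q := { e with map_app' := hrQ }
    refine ⟨φ.trans R, fun i => ?_⟩
    show r (φ (x i)) = y i
    refine Fin.lastCases ?_ ?_ i
    · rw [← hx', ← hy', hr]
      have hq : Q x' = Q y' := by rw [hx', QuadraticMap.IsometryEquiv.map_app]; exact h1 _
      have hxd : QuadraticMap.polar Q d x' = Q d := by
        have e : Q (x' + (-d)) = Q x' + Q (-d) + QuadraticMap.polar Q x' (-d) := QuadraticMap.map_add Q _ _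
        rw [show x' + -d = y' by rw [hd]; abel, QuadraticMap.map_neg, hpol, map_neg, ← hpol,
          QuadraticMap.polar_comm, ← hq] at e
        linear_combination e
      rw [hxd, inv_mul_cancel₀ hd0, one_smul, hd]; abel
    · intro j
      rw [hφ j, hr]
      set z := y j.castSucc with hz
      have h3 : Q (x' - z) = Q (y' - z) := by
        rw [hx', hz, ← hφ j, ← map_sub, QuadraticMap.IsometryEquiv.map_app]
        rw [hφ j]
        exact h2 _ _
      have hq : Q x' = Q y' := by rw [hx', QuadraticMap.IsometryEquiv.map_app]; exact h1 _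
      have hpd : QuadraticMap.polar Q d z = 0 := by
        have e : ∀ a : V, Q (a - z) = Q a + Q z - QuadraticMap.polar Q a z := fun a => by
          rw [sub_eq_add_neg, QuadraticMap.map_add Q, QuadraticMap.map_neg, hpol, map_neg, ← hpol]; ring
        rw [e, e, hq] at h3
        rw [hd, hpol, map_sub, LinearMap.sub_apply, ← hpol, ← hpol]
        linear_combination -h3
      simp [hpd]


/-- Let V be a finite-dimensional vector space over a finite field F carrying an anisotropic quadratic form Q (Q(v) = 0 only for v = 0). Then the group of all maps v ↦ φ(v) + c, with φ an isometry of Q and c ∈ V, acts on V as a binary permutation group: given n ≥ 2 and two n-tuples u, u' of vectors such that every pair of corresponding entries of u is carried to that of u' by such a map, one such map carries u to u'. -/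
theorem result {F V : Type*} [Field F] [Finite F] [AddCommGroup V] [Module F V] [Module.Finite F V]
    (Q : QuadraticForm F V) (hQ : Q.Anisotropic) (n : ℕ) (hn : 2 ≤ n) (u u' : Fin n → V)
    (h2 : ∀ i j : Fin n, i ≠ j → ∃ (φ : Q.IsometryEquiv Q) (c : V), φ (u i) + c = u' i ∧ φ (u j) + c = u' j) :
    ∃ (φ : Q.IsometryEquiv Q) (c : V), ∀ i, φ (u i) + c = u' i := by
  have hpair : ∀ i j : Fin n, Q (u i - u j) = Q (u' i - u' j) := by
    intro i j
    rcases eq_or_ne i j with rfl | hij
    · simp
    · obtain ⟨φ, c, h1, h2'⟩ := h2 i j hij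
      rw [← h1, ← h2', add_sub_add_right_eq_sub, ← map_sub, QuadraticMap.IsometryEquiv.map_app]
  set o : Fin n := ⟨0, by omega⟩
  obtain ⟨φ, hφ⟩ := extend Q hQ (fun i => u i - u o) (fun i => u' i - u' o) (fun i => hpair i o)
    (fun i j => by simpa using hpair i j)
  refine ⟨φ, u' o - φ (u o), fun i => ?_⟩
  have := hφ i
  rw [map_sub] at this
  calc φ (u i) + (u' o - φ (u o)) = (φ (u i) - φ (u o)) + u' o := by abel
    _ = u' i := by rw [this]; abel

end Cfsg.Agent.S5754
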