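import Cfsg.Statements.S5763


set_option autoImplicit false
open Cfsg

open Equiv

namespace Cfsg.Agent.S5763

def reps : List ℕ := [
  16434824, 2054353, 4151504, 2353946, 4451097, 4488547, 4713240, 6585698, 4259171, 6847841, 6356322, 8949675,
  6623148, 6880608, 9211818, 8720299, 11342324, 6365100, 9015797, 9244585, 11604467, 8462251, 11112948, 11338740,
  13738557, 8757749, 9012213, 11412030, 9248680, 11637234, 11600883, 14000700, 10854900, 11109364, 13509181, 13734973,
  16135238, 8496117, 11153982, 11408446, 13808711, 11641329, 11633650, 14033467, 13997116, 16397381, 10593268, 13251133,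
  13505597, 15905862, 13730941, 16131654, 16135182, 1754767, 10892350, 13550663, 11404414, 13805127, 13808655, 16205448,
  11641840, 14037562, 14029883, 13993084, 16393797, 16397325, 2016910, 12989501, 15647814, 13501565, 15902278, 15905806,
  1525391, 16127622, 16131598, 1751183, 1754711, 3851911, 10630270, 13289031, 13550607, 15947400, 13801095, 13805071,
  16201864, 16205392, 1824977, 14025851, 16426564, 16389765, 16393741, 2013326, 2016854, 4114054, 2316503, 12727421,
  15386182, 15647758, 15898246, 15902222, 1521807, 1525335, 3922128, 16123534, 1747151, 1751127, 3848327, 3851799,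
  6248648, 13288975, 15685768, 15947344, 16197832, 16201808, 1821393, 16205329, 1824921, 16422532, 16426508, 2046093,
  16385677, 2009294, 2013270, 4110470, 2312919, 4113942, 2316447, 4413647, 15386126, 1005711, 1267287, 15894158,
  1517775, 1521751, 3618951, 3918544, 3622423, 3922072, 6056729, 1743063, 3844295, 3848215, 6245064, 6248536,
  6548241, 15685712, 1305297, 15947281, 1566873, 1817361, 16201745, 1821337, 3955994, 1824858, 3959522, 16418444,
  2042061, 2046037, 4143237, 2345686, 2005206, 4106438, 2308887, 4110358, 2312863, 4410063, 4413535, 4675783,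
  6810384, 1005655, 3102855, 3402448, 3364375, 3664024, 1513687, 3614919, 3914512, 3618839, 3918488, 6015688,
  6053145, 6019160, 6056673, 6089496, 6241032, 6244952, 6544657, 6248473, 6548129, 8682842, 15685649, 1305241,
  3439898, 3701474, 3951962, 1821274, 3955938, 3921946, 3959459, 2037973, 4139205, 2341654, 4143125, 2345630,
  4442830, 4480287, 4098262, 2304799, 4406031, 4409951, 4672199, 6806800, 4675615, 6810272, 7072520, 3102743,
  3402392, 5499592, 5537049, 5798625, 6011656, 6015576, 6053089, 8150289, 6085912, 6019097, 8153761, 6089440,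
  6540625, 6244889, 6544545, 8679258, 6548066, 8682730, 11046819, 3439842, 5803875, 6065451, 3918362, 6056547,
  2337566, 4438798, 4442718, 4480231, 4704966, 4250911, 4668167, 6802768, 6806688, 7068936, 8941401, 7072352,
  5536993, 5569816, 7901026, 5831392, 8162602, 6015513, 8150177, 6085856, 8449882, 6385505, 8153698, 8186528,
  8453354, 8675226, 6544482, 8679146, 6810146, 8682667, 11046707, 5803819, 8196524, 6052963, 6089251, 4704798,
  4250855, 6647648, 7064904, 8941289, 5569760, 7900970, 7933793, 8195369, 8150114, 8182944, 8449770, 6385449,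
  10842531, 8778154, 8186402, 8453291, 8679083, 11046644, 13439356, 8196468, 6647592, 9040297, 7933737, 7937888,
  10326442, 8449707, 8778098, 8516522, 15836037, 9040241, 10326386, 10330537, 10322858, 8516466, 10880499, 10322802,
  10622451, 10880443, 10622395]

def repsInv : List ℕ := [
  16434824, 14038087, 14038136, 11641406, 11641798, 9245173, 11641840, 9248309, 9245166, 9248645, 9248302, 6877612,
  6852468, 9248680, 6880300, 6877556, 4689251, 6852454, 4488099, 6880580, 4710755, 6877542, 4688803, 4689244,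
  3959578, 4487987, 4488092, 2350362, 6880608, 4712995, 4710748, 4131610, 4688691, 4688796, 3955994, 3959522,
  14899409, 4487966, 2349466, 2350306, 2025681, 4713219, 4712988, 4149530, 4131554, 16275665, 4688670, 3955098,
  3955938, 14870737, 3959508, 14898961, 14899402, 1754767, 2349298, 2018513, 2350292, 2025233, 2025674, 16205448,
  4713240, 4151322, 4149474, 4131540, 16275217, 16275658, 12764815, 3954930, 14863569, 3955924, 14870289, 14870730,
  1525391, 14898849, 14898954, 1751183, 1754711, 1754809, 2349270, 2017169, 2018506, 16148104, 2025121, 2025226,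
  16201864, 16205392, 12203079, 4149460, 16418577, 16275105, 16275210, 12761231, 12764759, 12764857, 1455230, 3954902,
  14862225, 14863562, 14870177, 14870282, 1521807, 1525335, 12203128, 14898828, 1750287, 1751127, 1751225, 1754746,
  14038472, 2017162, 16137352, 16148048, 16200968, 16201808, 12174407, 16205378, 12202631, 16418465, 16418570, 13908111,
  16275084, 12760335, 12761175, 12761273, 1426558, 12764794, 1454782, 1455566, 14862218, 1457295, 1467991, 14870156,
  1520911, 1521751, 1521849, 12174456, 1525370, 12202680, 13738949, 1750119, 1750329, 1751162, 14009800, 14037968,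
  11644486, 16137296, 11658311, 16148034, 11743879, 12167239, 16201794, 12173959, 13509181, 12202519, 13734973, 16418444,
  13907215, 13908055, 13908153, 10601598, 12760167, 12760377, 1419390, 12761210, 1426110, 1426894, 1455062, 1455601,
  11644528, 1457239, 1457337, 11658360, 1468026, 11743928, 1520743, 1520953, 12167288, 1521786, 12174008, 12174792,
  13509573, 12202960, 13735365, 13738984, 14002632, 14009296, 11415110, 14037954, 11640454, 9269813, 16137282, 11657863,
  9380413, 10064957, 13451837, 12173847, 13505597, 12202554, 13734077, 13907047, 13907257, 10594430, 13908090, 10601150,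
  10601934, 926709, 12760188, 1418046, 1419726, 1426390, 1426929, 11415152, 1455090, 11640496, 11644808, 1457274,
  11657912, 11658696, 9380805, 10065349, 12167624, 12174288, 13505989, 13512261, 13509608, 12202946, 13737605, 13735400,
  11357766, 14009282, 11411078, 7434805, 11640342, 9237557, 7049644, 9376829, 7934444, 13410796, 12173882, 13734357,
  10593086, 10594766, 10601430, 923125, 10601969, 926702, 1419761, 11357808, 11411120, 11415432, 7435141, 11640720,
  9377221, 9380840, 7937580, 10065384, 13413932, 12174274, 13508229, 13506024, 7434798, 7413574, 13737493, 13737640,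
  9237550, 6976053, 11410966, 7402549, 11640370, 9236661, 6791596, 7905772, 13143907, 13504981, 13734378, 10601458,
  923118, 7413616, 11358088, 7402885, 9377256, 7908908, 7937860, 13414212, 13508117, 13508264, 7402542, 7384902,
  9146739, 8976947, 13737514, 9236654, 7401653, 6784428, 4001123, 12914531, 7384944, 8977283, 7909188, 7937888,
  13171235, 7401646, 8747571, 8976926, 15231769, 8747907, 12941859, 13171459, 13171228, 8747550, 4706548, 12941852,
  4706534, 2871540, 2871526]

def wit : List ℕ := [
  14599816, 6852524, 6823845, 14599816, 14599816, 6852524, 14599816, 5017068, 6823845, 16434376, 4988389, 14599816,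
  14599816, 16434376, 14599816, 14599816, 6823845, 14599816, 5017068, 14599816, 16406152, 14599816, 4988389, 6852524,
  11789960, 16434376, 4988389, 14599816, 14599816, 16406152, 16406152, 9926280, 16434376, 5017068, 11789512, 11789960,
  5017068, 16434376, 14599816, 14599816, 6823845, 16406152, 16406152, 16434817, 9926280, 14599816, 16434376, 11789512,
  11788826, 4988389, 11789960, 6852524, 4988389, 16406152, 14599816, 16406152, 14599816, 4988389, 6852524, 14571144,
  16406152, 16434817, 2177406, 9926280, 14599816, 14599816, 16406152, 11788826, 16406152, 11788371, 6823845, 5017068,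
  16434376, 16434376, 6823845, 14570689, 16406152, 16406152, 14599816, 16406152, 16406152, 14571144, 16434376, 5017068,
  16434817, 14571144, 5017068, 342391, 14599816, 14599816, 14599816, 14570689, 16406152, 16406152, 9925832, 11788371,
  16406152, 16406152, 16434376, 6852524, 11789505, 342391, 4988389, 16434376, 14570689, 11789505, 14570689, 16406152,
  16434817, 16406152, 16434817, 14571144, 16434817, 342391, 4988389, 14571144, 6852524, 14599816, 14599816, 11789505,
  14599816, 14570689, 9925825, 14570689, 11789512, 16406152, 9925832, 9925146, 16406152, 9924691, 371511, 16434376,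
  11789505, 14570689, 11789505, 5017068, 2177406, 6823845, 16406152, 9925825, 14570689, 11789505, 16434817, 2206526,
  14599816, 2177406, 14599816, 14571144, 14599816, 16406152, 2177406, 6823845, 16434376, 16434376, 16405704, 14599816,
  11789505, 9925825, 11789505, 9925832, 11789505, 14570689, 16406152, 9925825, 11789512, 11788826, 9925146, 9924691,
  14599816, 9924691, 9925146, 14599816, 2206526, 14599816, 9925825, 11789505, 16406152, 14570689, 6852524, 16434817,
  11788826, 371511, 11789505, 16406152, 16406152, 2177406, 11789960, 371511, 14599816, 16434376, 342391, 14599816,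
  16434376, 16405704, 16434376, 16434376, 11789505, 16434376, 16405704, 16405704, 11789505, 16406152, 9925825, 9925832,
  9925146, 371511, 11789505, 16406152, 16406152, 11788826, 11788371, 11789960, 9924691, 14599816, 14599816, 9925146,
  14599816, 14599816, 11788826, 9925825, 16406152, 342391, 14570689, 11788371, 11788371, 2206526, 11789505, 11789505,
  9926280, 342391, 11788371, 16434376, 14599816, 9925825, 14599816, 11789505, 16434817, 16434817, 16434376, 9925825,
  16406152, 16406152, 9925146, 2206526, 9924691, 2206526, 16406152, 9926280, 11788826, 11789960, 11788826, 14599816,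
  9925825, 11788371, 16434817, 9925825, 16434817, 2177406, 14570689, 14570689, 16434376, 371511, 9925825, 11789505,
  9925825, 14599816, 11788371, 11789505, 14599816, 9925825, 16434817, 16434817, 16406152, 9925825, 9925825, 9924691,
  371511, 2206526, 9926280, 9925825, 9925825, 16434817, 342391, 2206526, 9925825, 14570689, 11789505, 342391,
  9925825, 11789505, 9925825, 9925825, 11789505, 16434817, 2206526, 371511, 2177406, 9925825, 371511, 2177406,
  9925146, 11789505, 14570689, 11789505, 16434376, 9925825, 9925146, 16434376, 9924691, 14570689, 14599368, 9924691,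
  14599368, 14599368, 14599368]

def stepSwap : List ℕ := [
  0, 2, 1, 3, 6, 8, 4, 10, 5, 13, 7, 11,
  17, 9, 14, 21, 23, 12, 26, 28, 30, 15, 33, 16,
  24, 37, 18, 27, 19, 42, 20, 31, 46, 22, 34, 50,
  52, 25, 38, 56, 58, 60, 29, 43, 63, 65, 32, 47,
  69, 71, 35, 74, 36, 77, 78, 80, 39, 83, 40, 59,
  41, 61, 87, 44, 90, 45, 93, 95, 97, 48, 99, 49,
  82, 103, 51, 106, 107, 53, 54, 109, 55, 81, 72, 57,
  84, 115, 102, 62, 118, 120, 64, 123, 125, 66, 94, 67,
  128, 68, 131, 70, 134, 136, 86, 73, 140, 141, 75, 76,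
  108, 79, 110, 147, 112, 150, 135, 85, 137, 155, 88, 158,
  89, 161, 163, 91, 124, 92, 126, 167, 96, 170, 172, 98,
  175, 177, 100, 114, 101, 116, 183, 174, 104, 105, 142, 187,
  168, 190, 171, 111, 173, 176, 113, 178, 192, 197, 193, 117,
  200, 202, 119, 159, 206, 121, 162, 122, 164, 210, 212, 127,
  144, 215, 129, 146, 130, 148, 139, 132, 149, 133, 151, 179,
  224, 225, 227, 138, 184, 229, 211, 143, 213, 194, 145, 216,
  152, 154, 189, 238, 235, 153, 199, 198, 156, 201, 157, 203,
  244, 245, 160, 207, 246, 223, 165, 186, 166, 188, 214, 169,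
  191, 217, 253, 255, 220, 257, 259, 209, 180, 181, 263, 182,
  247, 185, 248, 260, 268, 264, 234, 196, 236, 237, 195, 274,
  240, 272, 275, 276, 204, 205, 208, 228, 230, 249, 266, 265,
  280, 218, 254, 219, 256, 221, 285, 222, 231, 277, 290, 226,
  233, 251, 250, 286, 232, 291, 270, 271, 241, 288, 239, 242,
  243, 261, 278, 284, 252, 281, 299, 295, 279, 258, 267, 296,
  273, 303, 262, 269, 301, 293, 298, 283, 287, 305, 294, 282,
  308, 292, 309, 289, 307, 297, 311, 304, 300, 302, 312, 306,
  310, 314, 313]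

def stepRot : List ℕ := [
  1, 3, 4, 5, 7, 0, 9, 11, 12, 14, 15, 16,
  18, 19, 20, 22, 24, 25, 27, 29, 31, 32, 34, 35,
  36, 38, 39, 40, 41, 43, 44, 45, 47, 48, 49, 51,
  53, 54, 55, 57, 59, 61, 62, 21, 64, 66, 67, 68,
  70, 72, 73, 75, 76, 2, 79, 81, 82, 84, 85, 86,
  8, 17, 88, 89, 91, 92, 94, 96, 13, 98, 100, 101,
  102, 104, 105, 23, 26, 108, 77, 110, 111, 28, 112, 113,
  114, 116, 60, 117, 119, 121, 122, 124, 126, 127, 6, 93,
  129, 130, 132, 133, 135, 137, 138, 139, 30, 33, 142, 143,
  144, 145, 146, 148, 149, 151, 152, 153, 154, 156, 157, 159,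
  160, 162, 164, 165, 50, 166, 56, 168, 169, 171, 173, 174,
  176, 178, 179, 180, 181, 182, 10, 42, 184, 185, 186, 188,
  189, 191, 192, 155, 193, 194, 195, 196, 52, 198, 58, 199,
  201, 203, 204, 205, 207, 208, 63, 209, 69, 211, 213, 214,
  170, 216, 217, 218, 118, 219, 183, 220, 215, 221, 222, 223,
  74, 226, 83, 172, 228, 230, 231, 232, 233, 234, 120, 235,
  236, 237, 65, 206, 71, 239, 80, 240, 241, 190, 242, 243,
  229, 103, 97, 87, 247, 248, 249, 250, 251, 134, 167, 90,
  252, 210, 254, 256, 212, 258, 99, 260, 261, 262, 264, 136,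
  265, 266, 267, 161, 269, 270, 246, 271, 272, 115, 273, 109,
  147, 187, 257, 131, 46, 277, 278, 268, 279, 95, 123, 175,
  281, 282, 244, 283, 150, 284, 286, 287, 288, 289, 291, 177,
  276, 140, 292, 280, 106, 293, 294, 295, 37, 128, 107, 238,
  296, 297, 78, 163, 298, 275, 300, 225, 301, 285, 259, 302,
  125, 202, 141, 245, 253, 299, 304, 197, 305, 255, 306, 307,
  158, 224, 263, 310, 274, 227, 290, 200, 312, 313, 311, 314,
  308, 309, 303]

/-- The image of `i` under the map coded in octal digits by `n`. -/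
def dec (n : ℕ) (i : Fin 8) : Fin 8 := ⟨(n >>> (3 * i.val)) % 8, Nat.mod_lt _ (by norm_num)⟩

/-- The map respects the binary tree on eight points. -/
def pres (f : Fin 8 → Fin 8) : Bool := (List.finRange 8).all fun i =>
  (f ⟨(i.val ^^^ 1) % 8, Nat.mod_lt _ (by norm_num)⟩).val == (f i).val ^^^ 1 &&
  (f ⟨(i.val ^^^ 2) % 8, Nat.mod_lt _ (by norm_num)⟩).val / 2 == ((f i).val / 2) ^^^ 1 &&
  (f ⟨(i.val ^^^ 4) % 8, Nat.mod_lt _ (by norm_num)⟩).val / 4 == ((f i).val / 4) ^^^ 1

def mkf (a b c d : Fin 8) (i : Fin 8) : Fin 8 :=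
  let v : Fin 8 := if i.val / 2 = 0 then a else if i.val / 2 = 1 then b else if i.val / 2 = 2 then c else d
  ⟨(v.val ^^^ (i.val % 2)) % 8, Nat.mod_lt _ (by norm_num)⟩

def iter8 (f : Fin 8 → Fin 8) (i : Fin 8) : Fin 8 := f (f (f (f (f (f (f (f i)))))))

def lu (L : List ℕ) (k : ℕ) : ℕ := L.getD k 0

def checkRep (k : ℕ) : Bool :=
  ((List.finRange 8).all fun i => dec (lu repsInv k) (dec (lu reps k) i) == i) &&
  pres (dec (lu wit k)) && ((List.finRange 8).any fun i => dec (lu wit k) i != i) &&
  ((List.finRange 8).all fun i => (List.finRange 8).any fun j => dec (lu wit k) j == i) &&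
  pres (fun i => dec (lu repsInv k) (dec (lu wit k) (dec (lu reps k) i))) &&
  decide (lu stepSwap k < 315) && decide (lu stepRot k < 315) &&
  pres (fun i => dec (lu repsInv (lu stepSwap k)) ((Equiv.swap (0 : Fin 8) 1) (dec (lu reps k) i))) &&
  pres (fun i => dec (lu repsInv (lu stepRot k)) (dec (lu reps k) i + 1))

theorem checks : (List.range 315).all checkRep = true := by decide +kernel

theorem check (k : ℕ) (hk : k < 315) : checkRep k = true :=
  List.all_eq_true.1 checks k (List.mem_range.2 hk)

theorem iter_all : ((List.finRange 8).all fun a => (List.finRange 8).all fun b => (List.finRange 8).all fun c =>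
    (List.finRange 8).all fun d => !pres (mkf a b c d) || (List.finRange 8).all fun i => iter8 (mkf a b c d) i == i) = true := by
  decide +kernel

theorem pres_at {f : Fin 8 → Fin 8} (h : pres f = true) (i : Fin 8) :
    (f ⟨(i.val ^^^ 1) % 8, Nat.mod_lt _ (by norm_num)⟩).val = (f i).val ^^^ 1 ∧
    (f ⟨(i.val ^^^ 2) % 8, Nat.mod_lt _ (by norm_num)⟩).val / 2 = ((f i).val / 2) ^^^ 1 ∧
    (f ⟨(i.val ^^^ 4) % 8, Nat.mod_lt _ (by norm_num)⟩).val / 4 = ((f i).val / 4) ^^^ 1 := by
  have := List.all_eq_true.1 h i (List.mem_finRange i)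
  simpa [and_assoc] using this

theorem pres_iff (f : Fin 8 → Fin 8) : pres f = true ↔ ∀ i : Fin 8,
    (f ⟨(i.val ^^^ 1) % 8, Nat.mod_lt _ (by norm_num)⟩).val = (f i).val ^^^ 1 ∧
    (f ⟨(i.val ^^^ 2) % 8, Nat.mod_lt _ (by norm_num)⟩).val / 2 = ((f i).val / 2) ^^^ 1 ∧
    (f ⟨(i.val ^^^ 4) % 8, Nat.mod_lt _ (by norm_num)⟩).val / 4 = ((f i).val / 4) ^^^ 1 := by
  simp [pres, and_assoc]

theorem arith : ∀ a b : Fin 8, (a.val = b.val ^^^ 1 → a = ⟨(b.val ^^^ 1) % 8, Nat.mod_lt _ (by norm_num)⟩) ∧
    (a.val / 2 = (b.val / 2) ^^^ 1 → a = ⟨(b.val ^^^ 2) % 8, Nat.mod_lt _ (by norm_num)⟩ ∨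
      a = ⟨((b.val ^^^ 2) % 8 ^^^ 1) % 8, Nat.mod_lt _ (by norm_num)⟩) ∧
    (a.val / 4 = (b.val / 4) ^^^ 1 → a.val / 2 = ((b.val ^^^ 4) % 8) / 2 ∨
      a.val / 2 = (((b.val ^^^ 4) % 8) / 2) ^^^ 1) := by decide +kernel

theorem tree_cases : ∀ u w : Fin 8, (u.val / 2 = w.val / 2 ∨ u.val / 2 = (w.val / 2) ^^^ 1) →
    (u = w ∨ u = ⟨(w.val ^^^ 1) % 8, Nat.mod_lt _ (by norm_num)⟩ ∨
      u = ⟨(w.val ^^^ 2) % 8, Nat.mod_lt _ (by norm_num)⟩ ∨
      u = ⟨((w.val ^^^ 2) % 8 ^^^ 1) % 8, Nat.mod_lt _ (by norm_num)⟩) := by decide +kernel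

theorem pres_comp {f g : Fin 8 → Fin 8} (hf : pres f = true) (hg : pres g = true) : pres (f ∘ g) = true := by
  rw [pres_iff]
  intro i
  obtain ⟨h1, h2, h4⟩ := pres_at hg i
  refine ⟨?_, ?_, ?_⟩
  · show (f (g _)).val = _
    rw [(arith _ _).1 h1]
    exact (pres_at hf (g i)).1
  · show (f (g _)).val / 2 = _
    rcases (arith _ _).2.1 h2 with e | e
    · rw [e]; exact (pres_at hf (g i)).2.1
    · rw [e]
      have e1 := (pres_at hf ⟨((g i).val ^^^ 2) % 8, Nat.mod_lt _ (by norm_num)⟩).1
      have e2 := (pres_at hf (g i)).2.1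
      show _ = ((f (g i)).val / 2) ^^^ 1
      rw [← e2, e1]
      generalize f ⟨((g i).val ^^^ 2) % 8, Nat.mod_lt _ (by norm_num)⟩ = v
      revert v; decide +kernel
  · show (f (g _)).val / 4 = ((f (g i)).val / 4) ^^^ 1
    have e4 := (pres_at hf (g i)).2.2
    have key : ∀ u w : Fin 8, (u.val / 2 = w.val / 2 ∨ u.val / 2 = (w.val / 2) ^^^ 1) →
        (f u).val / 4 = (f w).val / 4 := by
      intro u w huw
      have p1 := (pres_at hf w).1
      have p2 := (pres_at hf w).2.1
      have p3 := (pres_at hf ⟨(w.val ^^^ 2) % 8, Nat.mod_lt _ (by norm_num)⟩).1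
      have hu := tree_cases u w huw
      have q : ∀ x y z : Fin 8, x.val / 2 = (y.val / 2) ^^^ 1 → z.val = x.val ^^^ 1 →
          x.val / 4 = y.val / 4 ∧ z.val / 4 = y.val / 4 := by decide +kernel
      have q1 : ∀ x y : Fin 8, x.val = y.val ^^^ 1 → x.val / 4 = y.val / 4 := by decide +kernel
      rcases hu with rfl | rfl | rfl | rfl
      · rfl
      · exact q1 _ _ p1
      · exact (q _ _ _ p2 p3).1
      · exact (q _ _ _ p2 p3).2
    rw [← e4]
    exact key _ _ ((arith _ _).2.2 h4)

/-- A Sylow 2-subgroup, as the automorphisms of the binary tree. -/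
def P : Subgroup (Equiv.Perm (Fin 8)) where
  carrier := {g | pres g = true}
  mul_mem' {a b} ha hb := pres_comp (f := a) (g := b) ha hb
  one_mem' := by decide +kernel
  inv_mem' {a} ha := by
    have hpow : ∀ n, pres ((a ^ n : Equiv.Perm (Fin 8)) : Fin 8 → Fin 8) = true := by
      intro n
      induction n with
      | zero => simp only [pow_zero]; decide +kernel
      | succ n ih => rw [pow_succ]; exact pres_comp (f := ⇑(a ^ n)) (g := a) ih ha
    show pres (a⁻¹ : Equiv.Perm (Fin 8)) = true
    rw [inv_eq_of_mul_eq_one_right (show a * a ^ (orderOf a - 1) = 1 by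
      rw [← pow_succ', Nat.sub_add_cancel (orderOf_pos a), pow_orderOf_eq_one])]
    exact hpow _

theorem isPGroup_P : IsPGroup 2 P := by
  intro g
  refine ⟨3, Subtype.ext (Equiv.ext fun i => ?_)⟩
  have hg : pres (g.1 : Fin 8 → Fin 8) = true := g.2
  have he : (g.1 : Fin 8 → Fin 8) = mkf (g.1 0) (g.1 2) (g.1 4) (g.1 6) := by
    funext j
    have h1 := (pres_at hg 0).1
    have h3 := (pres_at hg 2).1
    have h5 := (pres_at hg 4).1
    have h7 := (pres_at hg 6).1
    fin_cases j <;> apply Fin.ext <;> simp [mkf] at h1 h3 h5 h7 ⊢ <;> (try simp_all)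
    all_goals (first | omega | (symm; exact Nat.mod_eq_of_lt (g.1 _).isLt) | skip)
  have h := List.all_eq_true.1 (List.all_eq_true.1 (List.all_eq_true.1 (List.all_eq_true.1 iter_all (g.1 0)
    (List.mem_finRange _)) (g.1 2) (List.mem_finRange _)) (g.1 4) (List.mem_finRange _)) (g.1 6) (List.mem_finRange _)
  rw [← he, hg] at h
  simp only [Bool.not_true, Bool.false_or, List.all_eq_true, beq_iff_eq] at h
  simpa [pow_succ, iter8] using h i (List.mem_finRange i)

theorem rep_exists (x : Equiv.Perm (Fin 8)) : ∃ k < 315, ∀ r : Equiv.Perm (Fin 8),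
    (∀ i, r i = dec (lu reps k) i) → r⁻¹ * x ∈ P := by
  have hinv : ∀ k < 315, ∀ i, dec (lu repsInv k) (dec (lu reps k) i) = i := by
    intro k hk i
    have h := check k hk
    simp only [checkRep, Bool.and_eq_true, List.all_eq_true, beq_iff_eq] at h
    exact h.1.1.1.1.1.1.1.1 i (List.mem_finRange i)
  have hx : x ∈ Submonoid.closure ({finRotate 8, Equiv.swap 0 1} : Set (Equiv.Perm (Fin 8))) := by
    have hg := Equiv.Perm.closure_cycle_adjacent_swap (isCycle_finRotate_of_le (n := 8) (by norm_num))
      (support_finRotate_of_le (n := 8) (by norm_num)) 0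
    rw [show (finRotate 8) 0 = 1 from rfl] at hg
    rw [← Subgroup.closure_toSubmonoid_of_finite, hg]
    trivial
  refine Submonoid.closure_induction_left ?_ ?_ hx
  · refine ⟨0, by norm_num, fun r hr => ?_⟩
    have : r = 1 := Equiv.ext fun i => by rw [hr]; revert i; decide +kernel
    rw [this]; simp [P.one_mem]
  · rintro s hs y - ⟨k, hk, hy⟩
    let rk : Equiv.Perm (Fin 8) := Equiv.ofBijective _ ((Finite.injective_iff_bijective).1
      (Function.LeftInverse.injective (g := dec (lu repsInv k)) (hinv k hk)))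
    have h := check k hk
    simp only [checkRep, Bool.and_eq_true, decide_eq_true_eq] at h
    have step : ∀ k', k' < 315 → pres (fun i => dec (lu repsInv k') (s (dec (lu reps k) i))) = true →
        ∀ r : Equiv.Perm (Fin 8), (∀ i, r i = dec (lu reps k') i) → r⁻¹ * (s * y) ∈ P := by
      intro k' hk' hp r hr
      have e : r⁻¹ * (s * y) = (r⁻¹ * s * rk) * (rk⁻¹ * y) := by group
      rw [e]
      refine P.mul_mem ?_ (hy rk fun i => rfl)
      show pres _ = true
      convert hp using 2
      funext i
      show r.symm (s (rk i)) = _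
      rw [Equiv.symm_apply_eq, hr]
      have hb := Finite.injective_iff_surjective.1
        (Function.LeftInverse.injective (g := dec (lu repsInv k')) (hinv k' hk'))
      obtain ⟨j, hj⟩ := hb (s (rk i))
      show s (rk i) = dec (lu reps k') (dec (lu repsInv k') (s (rk i)))
      rw [← hj, hinv k' hk']
    rcases hs with rfl | rfl
    · refine ⟨_, h.1.1.2, step _ h.1.1.2 ?_⟩
      convert h.2 using 2
      funext i
      exact congrArg _ (finRotate_apply _)
    · exact ⟨_, h.1.1.1.2, step _ h.1.1.1.2 h.1.2⟩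

theorem inter_P (x : Equiv.Perm (Fin 8)) : ∃ g : Equiv.Perm (Fin 8), g ≠ 1 ∧ g ∈ P ∧ x⁻¹ * g * x ∈ P := by
  obtain ⟨k, hk, hr⟩ := rep_exists x
  have h := check k hk
  simp only [checkRep, Bool.and_eq_true, List.all_eq_true, List.any_eq_true, beq_iff_eq, bne_iff_ne, decide_eq_true_eq] at h
  obtain ⟨⟨⟨⟨⟨⟨⟨⟨h1, h2⟩, h3⟩, h4⟩, h5⟩, -⟩, -⟩, -⟩, -⟩ := h
  let r : Equiv.Perm (Fin 8) := Equiv.ofBijective _ ((Finite.injective_iff_bijective).1
    (Function.LeftInverse.injective (g := dec (lu repsInv k)) fun i => h1 i (List.mem_finRange i)))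
  let g : Equiv.Perm (Fin 8) := Equiv.ofBijective (dec (lu wit k)) ((Finite.surjective_iff_bijective).1
    fun i => by obtain ⟨j, -, hj⟩ := h4 i (List.mem_finRange i); exact ⟨j, hj⟩)
  refine ⟨g, fun e => ?_, h2, ?_⟩
  · obtain ⟨i, -, hi⟩ := h3
    exact hi (show g i = i by rw [e]; rfl)
  · have hu := hr r fun i => rfl
    have e : x⁻¹ * g * x = (r⁻¹ * x)⁻¹ * (r⁻¹ * g * r) * (r⁻¹ * x) := by group
    rw [e]
    refine P.mul_mem (P.mul_mem (P.inv_mem hu) ?_) hu
    show pres _ = true
    convert h5 using 2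
    funext i
    show r.symm (g (r i)) = _
    rw [Equiv.symm_apply_eq]
    obtain ⟨j, hj⟩ := r.surjective (g (r i))
    show g (r i) = r (dec (lu repsInv k) (g (r i)))
    rw [← hj]
    exact congrArg r (h1 j (List.mem_finRange j)).symm

end Cfsg.Agent.S5763


namespace Cfsg.Agent.S5763

/-- In the symmetric group on 8 letters any two Sylow 2-subgroups have non-trivial intersection: for a Sylow 2-subgroup H and every element x, H ∩ xHx⁻¹ ≠ 1. -/
theorem result (H : Sylow 2 (Equiv.Perm (Fin 8))) (x : Equiv.Perm (Fin 8)) :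
    (H : Subgroup (Equiv.Perm (Fin 8))) ⊓ (H : Subgroup (Equiv.Perm (Fin 8))).map (MulAut.conj x).toMonoidHom ≠ ⊥ := by
  classical
  obtain ⟨Q, hQ⟩ := (isPGroup_P).exists_le_sylow
  obtain ⟨a, ha⟩ := MulAction.exists_smul_eq (Equiv.Perm (Fin 8)) Q H
  obtain ⟨g, hg1, hg, hgx⟩ := inter_P (a⁻¹ * x * a)
  intro hbot
  apply hg1
  have hmemH : ∀ u, u ∈ P → a * u * a⁻¹ ∈ (H : Subgroup (Equiv.Perm (Fin 8))) := by
    intro u hu
    rw [← ha, Sylow.coe_subgroup_smul, Subgroup.mem_pointwise_smul_iff_inv_smul_mem]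
    simp [mul_assoc]
    exact hQ hu
  have hm : a * g * a⁻¹ ∈ (H : Subgroup (Equiv.Perm (Fin 8))) ⊓
      (H : Subgroup (Equiv.Perm (Fin 8))).map (MulAut.conj x).toMonoidHom := by
    refine ⟨hmemH g hg, Subgroup.mem_map.2 ⟨_, hmemH _ hgx, ?_⟩⟩
    show x * _ * x⁻¹ = _
    group
  rw [hbot, Subgroup.mem_bot, mul_inv_eq_one, mul_eq_left] at hm
  exact hm

end Cfsg.Agent.S5763
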