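import Cfsg.Statements.S5885

set_option autoImplicit false
open Cfsg

namespace Cfsg.Agent.S5885

open MulAction Equiv
open scoped Pointwise

theorem realised {G : Type*} [Group G] [Finite G] (n : ℕ) (hn3 : 3 ≤ n)
    (hA : ∀ P : Subgroup (Equiv.Perm (Fin n)), MulAction.IsPreprimitive P (Fin n) → alternatingGroup (Fin n) ≤ P)
    (M : Subgroup G) (hM : IsCoatom M) (hn : M.index = n) [Fintype (G ⧸ M)] [DecidableEq (G ⧸ M)]
    (σ : Equiv.Perm (G ⧸ M)) (hσ : σ.sign = 1) : ∃ g : G, ∀ x, g • x = σ x := by
  have hcard : Fintype.card (G ⧸ M) = n := by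
    rw [← Nat.card_eq_fintype_card]; exact hn
  let e : G ⧸ M ≃ Fin n := Fintype.equivFinOfCardEq hcard
  have : Nontrivial (G ⧸ M) := Fintype.one_lt_card_iff_nontrivial.1 (by omega)
  have hprim : IsPreprimitive G (G ⧸ M) := by
    rw [← isCoatom_stabilizer_iff_preprimitive G ((1 : G) : G ⧸ M), MulAction.stabilizer_quotient]
    exact hM
  let φ : G →* Equiv.Perm (Fin n) := (e.permCongrHom.toMonoidHom).comp (MulAction.toPermHom G (G ⧸ M))
  let f : G ⧸ M →ₑ[φ.rangeRestrict] Fin n :=
    { toFun := e
      map_smul' := fun g x => by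
        show e (g • x) = φ g (e x)
        simp [φ, Equiv.permCongrHom] }
  have hP : IsPreprimitive φ.range (Fin n) := IsPreprimitive.of_surjective (f := f) e.surjective
  have := hA φ.range hP (x := e.permCongr σ) (by
    rw [Equiv.Perm.mem_alternatingGroup, Equiv.Perm.sign_permCongr]; exact hσ)
  obtain ⟨g, hg⟩ := this
  refine ⟨g, fun x => e.injective ?_⟩
  have := DFunLike.congr_fun hg (e x)
  simpa [φ, Equiv.permCongrHom] using this

theorem sign_three {α : Type*} [Fintype α] [DecidableEq α] {x y z : α}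
    (hxy : x ≠ y) (hzy : y ≠ z) : (Equiv.swap x y * Equiv.swap y z).sign = 1 := by
  simp [Equiv.Perm.sign_swap hxy, Equiv.Perm.sign_swap hzy]

theorem core {G X : Type*} [Group G] [MulAction G X] [Fintype X] [DecidableEq X]
    (hX : Odd (Fintype.card X)) (hX3 : 3 ≤ Fintype.card X)
    (hreal : ∀ σ : Equiv.Perm X, σ.sign = 1 → ∃ g : G, ∀ x, g • x = σ x)
    [IsPretransitive G X]
    (a : X) (H K : Subgroup G) (hK : IsCoatom K) (hH : H = K ⊓ stabilizer G a)
    (hmax : IsCoatom (H.subgroupOf (stabilizer G a)))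
    (L : Subgroup G) (hHL : H < L) (hLK : L ≤ K) : L = K := by
  -- enough to show the orbit of `a` under `L` contains its orbit under `K`
  suffices key : ∀ k ∈ K, k • a ∈ orbit L a by
    refine le_antisymm hLK fun k hk => ?_
    obtain ⟨⟨l, hl⟩, hla⟩ := key k hk
    have hla' : l • a = k • a := hla
    have hmem : l⁻¹ * k ∈ H := by
      rw [hH]
      refine ⟨K.mul_mem (K.inv_mem (hLK hl)) hk, ?_⟩
      show (l⁻¹ * k) • a = a
      rw [mul_smul, ← hla', inv_smul_smul]
    have := L.mul_mem hl (hHL.le hmem)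
    rwa [mul_inv_cancel_left] at this
  obtain ⟨l₀, hl₀L, hl₀H⟩ := SetLike.exists_of_lt hHL
  have hb : l₀ • a ≠ a := fun h => hl₀H (hH ▸ ⟨hLK hl₀L, h⟩)
  set b := l₀ • a with hbdef
  have horb : ∀ x : X, x ∈ orbit L a → ∀ l ∈ L, l • x ∈ orbit L a := by
    rintro x ⟨⟨l', hl'⟩, rfl⟩ l hl
    exact ⟨⟨l * l', L.mul_mem hl hl'⟩, mul_smul l l' a⟩
  have hbB : b ∈ orbit L a := horb a (mem_orbit_self a) l₀ hl₀L
  have hstabfix : ∀ (g : G), g • a = a → g ∈ K → g ∈ L := fun g h1 h2 => hHL.le (hH ▸ ⟨h2, h1⟩)
  by_cases hD : orbit K a = Set.univ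
  · -- transitive case
    by_contra hnot
    push Not at hnot
    obtain ⟨k, hk, hkB⟩ := hnot
    -- S = stabiliser of a and of the block B
    let S : Subgroup G := stabilizer G a ⊓ stabilizer G (orbit L a)
    have hHS : H ≤ S := by
      intro h hh
      refine ⟨(hH.le hh).2, ?_⟩
      refine mem_stabilizer_set.2 ?_
      intro x
      refine ⟨fun hx => ?_, fun hx => horb x hx h (hHL.le hh)⟩
      simpa using horb _ hx h⁻¹ (L.inv_mem (hHL.le hh))
    have hSne : ¬ stabilizer G a ≤ S := by
      intro hle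
      have hxb : k • a ≠ b := fun h => hkB (h ▸ hbB)
      have hxa : k • a ≠ a := fun h => hkB (h.symm ▸ mem_orbit_self a)
      have : ∃ y : X, y ≠ a ∧ y ≠ b ∧ y ≠ k • a := by
        by_contra hc
        push Not at hc
        have hsub : (Finset.univ : Finset X) ⊆ {a, b, k • a} := fun y _ => by
          simp only [Finset.mem_insert, Finset.mem_singleton]
          by_contra hy
          push Not at hy
          exact hy.2.2 (hc y hy.1 hy.2.1)
        have h3 : Fintype.card X = 3 := by
          have := Finset.card_le_card hsub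
          have := Finset.card_le_three (a := a) (b := b) (c := k • a)
          rw [Finset.card_univ] at *
          omega
        -- with three points the block is everything
        obtain ⟨g, hg⟩ : ∃ g : G, g ∈ K ∧ g • a = k • a := ⟨k, hk, rfl⟩
        have hgb : g • b ∈ ({a, b, k • a} : Finset X) := hsub (Finset.mem_univ _)
        simp only [Finset.mem_insert, Finset.mem_singleton] at hgb
        have hgl : ∀ y ∈ orbit L a, g • b = y → False := by
          intro y hy hgy
          obtain ⟨⟨l', hl'⟩, hl'a⟩ := hy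
          have hl'a' : l' • a = g • b := by rw [hgy]; exact hl'a
          have hmem : l'⁻¹ * (g * l₀) ∈ L := by
            refine hstabfix _ ?_ (K.mul_mem (K.inv_mem (hLK hl')) (K.mul_mem hg.1 (hLK hl₀L)))
            rw [mul_smul, mul_smul, ← hbdef, ← hl'a', inv_smul_smul]
          have hgL : g ∈ L := by
            have := L.mul_mem (L.mul_mem hl' hmem) (L.inv_mem hl₀L)
            simpa [mul_assoc] using this
          exact hkB (hg.2 ▸ horb a (mem_orbit_self a) g hgL)
        rcases hgb with h | h | h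
        · exact hgl a (mem_orbit_self a) h
        · exact hgl b hbB h
        · exact hb ((MulAction.injective g) (h.trans hg.2.symm))
      obtain ⟨y, hya, hyb, hyx⟩ := this
      obtain ⟨g, hg⟩ := hreal _ (sign_three (x := k • a) (y := b) (z := y) hxb (Ne.symm hyb))
      have hga : g • a = a := by
        rw [hg, Equiv.Perm.mul_apply, Equiv.swap_apply_of_ne_of_ne (Ne.symm hb) (Ne.symm hya),
          Equiv.swap_apply_of_ne_of_ne (Ne.symm hxa) (Ne.symm hb)]
      have hgy : g • y = k • a := by
        rw [hg, Equiv.Perm.mul_apply, Equiv.swap_apply_right, Equiv.swap_apply_right]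
      have hgb : g • b = y := by
        rw [hg, Equiv.Perm.mul_apply, Equiv.swap_apply_left,
          Equiv.swap_apply_of_ne_of_ne hyx hyb]
      have hgS := (hle hga).2
      replace hgS : ∀ x, g • x ∈ orbit L a ↔ x ∈ orbit L a := mem_stabilizer_set.1 hgS
      have h1 : y ∈ orbit L a := hgb ▸ (hgS b).2 hbB
      exact hkB (hgy ▸ (hgS y).2 h1)
    have hSH : ∀ g ∈ S, g ∈ K := by
      have : S.subgroupOf (stabilizer G a) = H.subgroupOf (stabilizer G a) := by
        rcases hmax.le_iff.1 (Subgroup.comap_mono (f := (stabilizer G a).subtype) hHS) with h | h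
        · exact absurd (Subgroup.subgroupOf_eq_top.1 h) hSne
        · exact h
      intro g hg
      have : (⟨g, hg.1⟩ : stabilizer G a) ∈ H.subgroupOf (stabilizer G a) := this ▸ hg
      exact (hH.le (Subgroup.mem_subgroupOf.1 this)).1
    -- blocks
    have hblock : ∀ k₁ ∈ K, ∀ x ∈ orbit L a, k₁ • x ∈ orbit L a → k₁ ∈ L := by
      rintro k₁ hk₁ _ ⟨⟨l₁, hl₁⟩, rfl⟩ ⟨⟨l₂, hl₂⟩, h2⟩
      have h2' : l₂ • a = k₁ • l₁ • a := h2
      have hmem : l₂⁻¹ * (k₁ * l₁) ∈ L := by
        refine hstabfix _ ?_ (K.mul_mem (K.inv_mem (hLK hl₂)) (K.mul_mem hk₁ (hLK hl₁)))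
        rw [mul_smul, mul_smul, ← h2', inv_smul_smul]
      have := L.mul_mem (L.mul_mem hl₂ hmem) (L.inv_mem hl₁)
      simpa [mul_assoc] using this
    -- the second block B₂ = k • B
    set x := k • a with hx
    set y := k • b with hy
    have hxy : x ≠ y := fun h => hb ((MulAction.injective k) h).symm
    have hyB : y ∉ orbit L a := fun h => hkB (horb a (mem_orbit_self a) k (hblock k hk b hbB h))
    obtain ⟨z, hzB, hzB2⟩ : ∃ z : X, z ∉ orbit L a ∧ z ∉ k • orbit L a := by
      by_contra hc
      push Not at hc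
      classical
      have hdisj : Disjoint (orbit L a) (k • orbit L a) := by
        rw [Set.disjoint_left]
        rintro w hw ⟨u, hu, rfl⟩
        exact hkB (horb a (mem_orbit_self a) k (hblock k hk u hu hw))
      have huniv : orbit L a ∪ k • orbit L a = Set.univ := Set.eq_univ_of_forall fun w => by
        by_cases hw : w ∈ orbit L a
        · exact Or.inl hw
        · exact Or.inr (hc w hw)
      have h := Set.ncard_union_eq hdisj
      rw [huniv, Set.ncard_univ, Nat.card_eq_fintype_card, Set.ncard_smul_set] at h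
      exact (Nat.not_even_iff_odd.2 hX) ⟨_, h⟩
    have hyz : y ≠ z := fun h => hzB2 (h ▸ Set.smul_mem_smul_set hbB)
    have hxz : x ≠ z := fun h => hzB2 (h ▸ Set.smul_mem_smul_set (mem_orbit_self a))
    obtain ⟨g, hg⟩ := hreal _ (sign_three (x := x) (y := y) (z := z) hxy hyz)
    have hgfix : ∀ w ∈ orbit L a, g • w = w := by
      intro w hw
      have h1 : w ≠ x := fun h => hkB (h ▸ hw)
      have h2 : w ≠ y := fun h => hyB (h ▸ hw)
      have h3 : w ≠ z := fun h => hzB (h ▸ hw)
      rw [hg, Equiv.Perm.mul_apply, Equiv.swap_apply_of_ne_of_ne h2 h3,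
        Equiv.swap_apply_of_ne_of_ne h1 h2]
    have hgx : g • x = y := by
      rw [hg, Equiv.Perm.mul_apply, Equiv.swap_apply_of_ne_of_ne hxy hxz, Equiv.swap_apply_left]
    have hgy : g • y = z := by
      rw [hg, Equiv.Perm.mul_apply, Equiv.swap_apply_left, Equiv.swap_apply_of_ne_of_ne hxz.symm hyz.symm]
    have hgS : g ∈ S := by
      refine ⟨hgfix a (mem_orbit_self a), ?_⟩
      refine mem_stabilizer_set.2 ?_
      intro w
      refine ⟨fun hw => ?_, fun hw => (hgfix w hw).symm ▸ hw⟩
      have h' : g • w = w := MulAction.injective g (hgfix _ hw)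
      exact h' ▸ hw
    have hgL : k⁻¹ * (g * k) ∈ L := by
      refine hblock _ (K.mul_mem (K.inv_mem hk) (K.mul_mem (hSH g hgS) hk)) a (mem_orbit_self a) ?_
      rw [mul_smul, mul_smul, ← hx, hgx, hy, inv_smul_smul]
      exact hbB
    have h' := horb b hbB _ hgL
    rw [mul_smul, mul_smul, ← hy, hgy] at h'
    exact hzB2 (Set.mem_smul_set_iff_inv_smul_mem.2 h')
  · -- intransitive case
    intro k hk
    have hKD : K = stabilizer G (orbit K a) := by
      have hle : K ≤ stabilizer G (orbit K a) := fun g hg => by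
        rw [mem_stabilizer_set]
        intro x
        exact mem_orbit_symm.trans ((iff_of_eq (by rw [MulAction.orbit_eq_iff.2 (show g • x ∈ orbit K x from ⟨⟨g, hg⟩, rfl⟩)])).trans mem_orbit_symm)
      rcases hK.le_iff.1 hle with h | h
      · exfalso
        apply hD
        refine Set.eq_univ_of_forall fun x => ?_
        obtain ⟨g, rfl⟩ := exists_smul_eq G a x
        have : g ∈ stabilizer G (orbit K a) := h ▸ Subgroup.mem_top g
        rw [mem_stabilizer_set] at this
        exact (this a).2 (mem_orbit_self a)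
      · exact h.symm
    have hbD : b ∈ orbit K a := ⟨⟨l₀, hLK hl₀L⟩, rfl⟩
    have hcD : k • a ∈ orbit K a := ⟨⟨k, hk⟩, rfl⟩
    set c := k • a with hc
    by_cases hca : c = a
    · rw [hca]; exact mem_orbit_self a
    by_cases hcb : c = b
    · rw [hcb]; exact hbB
    -- find an even permutation fixing a, preserving the orbit, b ↦ c
    suffices h : ∃ σ : Equiv.Perm X, σ.sign = 1 ∧ σ a = a ∧ σ b = c ∧ ∀ w, (σ w ∈ orbit K a ↔ w ∈ orbit K a) by
      obtain ⟨σ, hs, ha', hb', hσ⟩ := h
      obtain ⟨g, hg⟩ := hreal σ hs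
      have hgK : g ∈ K := by
        rw [hKD, mem_stabilizer_set]
        intro w; rw [hg]; exact hσ w
      have hgL : g ∈ L := hstabfix g (by rw [hg, ha']) hgK
      have := horb b hbB g hgL
      rwa [hg, hb'] at this
    have hpres : ∀ (D : Set X) (p q : X), (p ∈ D ↔ q ∈ D) → ∀ w, (Equiv.swap p q w ∈ D ↔ w ∈ D) := by
      intro D p q h w
      rcases eq_or_ne w p with rfl | h1
      · rw [Equiv.swap_apply_left]; exact h.symm
      rcases eq_or_ne w q with rfl | h2
      · rw [Equiv.swap_apply_right]; exact h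
      rw [Equiv.swap_apply_of_ne_of_ne h1 h2]
    by_cases hd : ∃ d ∈ orbit K a, d ≠ a ∧ d ≠ b ∧ d ≠ c
    · obtain ⟨d, hdD, hda, hdb, hdc⟩ := hd
      refine ⟨Equiv.swap b c * Equiv.swap c d, sign_three (Ne.symm hcb) hdc.symm, ?_, ?_, fun w => ?_⟩
      · rw [Equiv.Perm.mul_apply, Equiv.swap_apply_of_ne_of_ne (Ne.symm hca) hda.symm,
          Equiv.swap_apply_of_ne_of_ne (Ne.symm hb) (Ne.symm hca)]
      · rw [Equiv.Perm.mul_apply, Equiv.swap_apply_of_ne_of_ne (Ne.symm hcb) hdb.symm,
          Equiv.swap_apply_left]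
      · rw [Equiv.Perm.mul_apply, hpres _ _ _ (iff_of_true hbD hcD),
          hpres _ _ _ (iff_of_true hcD hdD)]
    · push Not at hd
      -- the orbit is {a, b, c}; its complement has at least two points
      have hDc : orbit K a ⊆ {a, b, c} := fun w hw => by
        simp only [Set.mem_insert_iff, Set.mem_singleton_iff]
        by_contra h
        push Not at h
        exact h.2.2 (hd w hw h.1 h.2.1)
      obtain ⟨p, hp⟩ : ∃ p, p ∉ orbit K a := by
        by_contra h
        push Not at h
        exact hD (Set.eq_univ_of_forall h)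
      obtain ⟨q, hq, hqp⟩ : ∃ q, q ∉ orbit K a ∧ q ≠ p := by
        by_contra h
        push Not at h
        have hsub : (Finset.univ : Finset X) ⊆ {a, b, c, p} := fun w _ => by
          simp only [Finset.mem_insert, Finset.mem_singleton]
          by_cases hw : w ∈ orbit K a
          · have := hDc hw
            simp only [Set.mem_insert_iff, Set.mem_singleton_iff] at this
            tauto
          · exact Or.inr (Or.inr (Or.inr (h w hw)))
        have h4 : ({a, b, c, p} : Finset X).card = 4 := by
          have hap : a ≠ p := fun h => hp (h ▸ mem_orbit_self a)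
          have hbp : b ≠ p := fun h => hp (h ▸ hbD)
          have hcp : c ≠ p := fun h => hp (h ▸ hcD)
          simp [Finset.card_insert_of_notMem, Ne.symm hb, Ne.symm hca, Ne.symm hcb, hap, hbp, hcp]
        have heq : ({a, b, c, p} : Finset X) = Finset.univ :=
          (Finset.univ_subset_iff.1 hsub)
        rw [heq, Finset.card_univ] at h4
        exact (Nat.not_even_iff_odd.2 hX) ⟨2, by omega⟩
      have hap : a ≠ p := fun h => hp (h ▸ mem_orbit_self a)
      have haq : a ≠ q := fun h => hq (h ▸ mem_orbit_self a)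
      have hbp : b ≠ p := fun h => hp (h ▸ hbD)
      have hbq : b ≠ q := fun h => hq (h ▸ hbD)
      refine ⟨Equiv.swap b c * Equiv.swap p q, ?_, ?_, ?_, fun w => ?_⟩
      · simp [Equiv.Perm.sign_swap (Ne.symm hcb), Equiv.Perm.sign_swap hqp.symm]
      · rw [Equiv.Perm.mul_apply, Equiv.swap_apply_of_ne_of_ne hap haq,
          Equiv.swap_apply_of_ne_of_ne (Ne.symm hb) (Ne.symm hca)]
      · rw [Equiv.Perm.mul_apply, Equiv.swap_apply_of_ne_of_ne hbp hbq, Equiv.swap_apply_left]
      · rw [Equiv.Perm.mul_apply, hpres _ _ _ (iff_of_true hbD hcD),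
          hpres _ _ _ (iff_of_false hp hq)]

/-- Let n be an odd positive integer such that every primitive permutation group of degree n contains the alternating group (so the symmetric and alternating groups are the only primitive groups of degree n). Let G be a finite group, M a maximal subgroup of G of index n, and H a maximal subgroup of M. Then H is a second maximal subgroup of G: H is maximal in every maximal subgroup K of G containing H. -/
theorem result {G : Type*} [Group G]
    [Finite G] (n : ℕ) (hodd : Odd n)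
    (hA : ∀ P : Subgroup (Equiv.Perm (Fin n)), MulAction.IsPreprimitive P (Fin n) → alternatingGroup (Fin n) ≤ P)
    (M : Subgroup G) (hM : IsCoatom M) (hn : M.index = n) (H : Subgroup G) (hHM : H ≤ M)
    (hmax : IsCoatom (H.subgroupOf M)) (K : Subgroup G) (hK : IsCoatom K) (hHK : H ≤ K) :
    IsCoatom (H.subgroupOf K) := by
  classical
  by_cases hKM : K = M
  · exact hKM ▸ hmax
  have hn3 : 3 ≤ n := by
    obtain ⟨j, hj⟩ := hodd
    rcases Nat.eq_zero_or_pos j with h | h
    · exact absurd (Subgroup.index_eq_one.1 (by omega)) hM.1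
    · omega
  have : Fintype (G ⧸ M) := Fintype.ofFinite _
  have hcard : Fintype.card (G ⧸ M) = n := by
    rw [← Nat.card_eq_fintype_card]; exact hn
  have hHeq : H = K ⊓ M := by
    rcases hmax.le_iff.1 (Subgroup.comap_mono (f := M.subtype) (le_inf hHK hHM)) with h | h
    · have hMK : M ≤ K := (Subgroup.subgroupOf_eq_top.1 h).trans inf_le_left
      rcases hM.le_iff.1 hMK with h' | h'
      · exact absurd h' hK.1
      · exact absurd h' hKM
    · exact le_antisymm (le_inf hHK hHM) fun g hg => by
        have : (⟨g, hg.2⟩ : M) ∈ (K ⊓ M).subgroupOf M := hg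
        exact (h ▸ this : (⟨g, hg.2⟩ : M) ∈ H.subgroupOf M)
  have hstab : stabilizer G ((1 : G) : G ⧸ M) = M := MulAction.stabilizer_quotient M
  refine ⟨fun htop => ?_, fun L' hL' => ?_⟩
  · have hKH : K ≤ H := Subgroup.subgroupOf_eq_top.1 htop
    rcases hK.le_iff.1 (hKH.trans hHM) with h | h
    · exact hM.1 h
    · exact hKM h.symm
  · let L : Subgroup G := L'.map K.subtype
    have hLK : L ≤ K := Subgroup.map_subtype_le L'
    have hL'' : L.subgroupOf K = L' := Subgroup.comap_map_eq_self_of_injective K.subtype_injective L'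
    have hHL : H < L := by
      refine lt_of_le_of_ne (fun h hh => ⟨⟨h, hHK hh⟩, hL'.le hh, rfl⟩) fun h => ?_
      exact hL'.ne (by rw [h, hL''])
    have hLK' := core (X := G ⧸ M) (hcard ▸ hodd) (hcard ▸ hn3) (realised n hn3 hA M hM hn)
      ((1 : G) : G ⧸ M) H K hK (by rw [hstab]; exact hHeq) (by rw [hstab]; exact hmax) L hHL hLK
    rw [← hL'', hLK', Subgroup.subgroupOf_self]

end Cfsg.Agent.S5885
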