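import Cfsg.Statements.S5887
import Cfsg.Agent.Lib.Classical.FieldNotMax

set_option autoImplicit false
open Cfsg

open Cfsg.Agent.Classical

namespace Cfsg.Agent.S5887

/-- Let F be a finite field, n a positive integer and r a composite number (r > 1, not prime) that divides n with r < n. Let K be a subalgebra of the algebra of n × n matrices over F which is a field of degree r over F (commutative, every non-zero element invertible, of dimension r over F). Then the normaliser N of K in GL_n(F) (a group of type ΓL_{n/r}(F_{q^r})) is not a maximal subgroup of GL_n(F), and N ∩ SL_n(F) is not a maximal subgroup of SL_n(F): both lie properly inside the normaliser of an intermediate subfield of prime degree over F. -/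
theorem result {F : Type*} [Field F]
    [Fintype F] (n r : ℕ) (hr1 : 1 < r) (hrp : ¬ r.Prime) (hrn : r ∣ n) (hlt : r < n)
    (K : Subalgebra F (Matrix (Fin n) (Fin n) F)) (hK : Cfsg.Geo.IsFieldSubalgebra r K) :
    ¬ IsCoatom (Cfsg.Geo.subalgebraNormalizer K) ∧
      ¬ Cfsg.Geo.IsMaximalIn (Cfsg.Geo.specialLinear (Fin n) F)
        (Cfsg.Geo.subalgebraNormalizer K ⊓ Cfsg.Geo.specialLinear (Fin n) F) := by
  have hp : r.minFac.Prime := Nat.minFac_prime (by omega)
  have hpd : r.minFac ∣ r := Nat.minFac_dvd r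
  have hlt2 : r.minFac < r := lt_of_le_of_ne (Nat.le_of_dvd (by omega) hpd) fun e => hrp (e ▸ hp)
  have hn : 2 * r.minFac < n := by
    obtain ⟨c, hc⟩ := hrn
    have hn0 : n ≠ 0 := by rintro rfl; omega
    have hc2 : 2 ≤ c := by
      by_contra h
      interval_cases c <;> omega
    rw [hc]
    calc 2 * r.minFac < 2 * r := by omega
      _ ≤ r * c := by rw [mul_comm 2 r]; exact Nat.mul_le_mul_left r hc2
  have := hp.two_le
  obtain ⟨L, hL, hLK, hle⟩ := FieldNotMax.exists_subfield K hK (by omega) (p := r.minFac) hp.ne_zero hpd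
  obtain ⟨g, hgS, hgL, hgK⟩ := FieldNotMax.exists_between_elt K hK L hL hLK hlt2 hn
  obtain ⟨s, hsS, hsL⟩ := FieldNotMax.not_all_normalize L hL hp.one_lt (by omega)
  constructor
  · intro h
    have := h.2 _ (lt_of_le_of_ne hle fun e => hgK (e ▸ hgL))
    exact hsL (this ▸ Subgroup.mem_top s)
  · rintro ⟨-, h⟩
    rcases h (Cfsg.Geo.subalgebraNormalizer L ⊓ Cfsg.Geo.specialLinear (Fin n) F) (inf_le_inf_right _ hle) inf_le_right with e | e
    · exact hgK (e.le (Subgroup.mem_inf.2 ⟨hgL, hgS⟩)).1
    · exact hsL (e.symm ▸ hsS : s ∈ Cfsg.Geo.subalgebraNormalizer L ⊓ Cfsg.Geo.specialLinear (Fin n) F).1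

end Cfsg.Agent.S5887
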