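import Cfsg.Statements.S5891
import Cfsg.Agent.Lib.Classical.DicksonRows

set_option autoImplicit false
open Cfsg

open Cfsg.Agent.Classical
open scoped MatrixGroups Classical Cfsg.Agent.Classical.Dickson
open OnePoint

namespace Cfsg.Agent.S5891

/-- Let F be a finite field of odd order q > 3 and characteristic p, and let M be a maximal subgroup of PGL₂(F) not containing the image L of SL₂(F) (a copy of PSL₂(F) of index 2). Then one of the following holds: |M| = q(q − 1) (M is the stabiliser of a point of the projective line); q ≠ 5 and M is dihedral of order 2(q − 1); M is dihedral of order 2(q + 1); q = p ≡ ±3 (mod 8) and M ≅ S₄; or q = q₀^r for an odd prime r and M ≅ PGL₂(F₀) with |F₀| = q₀. -/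
theorem result {F : Type*} [Field F] [Fintype F]
    (hodd : Odd (Fintype.card F)) (h3 : 3 < Fintype.card F) (M : Subgroup (Matrix.ProjGenLinGroup (Fin 2) F)) (hM : IsCoatom M)
    (hML : ¬ (Matrix.ProjGenLinGroup.mk.comp Matrix.SpecialLinearGroup.toGL).range ≤ M) :
    Nat.card M = Fintype.card F * (Fintype.card F - 1) ∨
    (Fintype.card F ≠ 5 ∧ Nonempty (M ≃* DihedralGroup (Fintype.card F - 1))) ∨
    Nonempty (M ≃* DihedralGroup (Fintype.card F + 1)) ∨
    ((Fintype.card F).Prime ∧ (Fintype.card F % 8 = 3 ∨ Fintype.card F % 8 = 5) ∧ Nonempty (M ≃* Equiv.Perm (Fin 4))) ∨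
    (∃ (F₀ : Type) (_ : Field F₀) (_ : Fintype F₀) (r : ℕ), r.Prime ∧ Odd r ∧ Fintype.card F = Fintype.card F₀ ^ r ∧
        Nonempty (M ≃* Matrix.ProjGenLinGroup (Fin 2) F₀)) := by
  obtain ⟨p, hp⟩ := CharP.exists F
  obtain ⟨n, hpp, hn⟩ := FiniteField.card F p
  haveI : Fact p.Prime := ⟨hpp⟩
  haveI : Finite (Matrix.ProjectiveSpecialLinearGroup (Fin 2) F) := Finite.of_surjective _ SL2Two.proj_surjective
  have hqodd : Fintype.card F % 2 = 1 := Nat.odd_iff.1 hodd
  have h2 : (2 : F) ≠ 0 := SL2Two.two_ne_zero' hodd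
  have A := Dickson.ambient_pglF (F := F)
  let P : PGL(2, F) →* PGL(2, AlgebraicClosure F) :=
    Matrix.ProjGenLinGroup.map (algebraMap F (AlgebraicClosure F))
  have hP : Function.Injective P := Dickson.map_injective _
  have hPr : P.range = Dickson.pglF F := rfl
  set M' := M.map P with hM'
  have hmax : Dickson.IsMax (Dickson.pglF F) M' := hPr ▸ Dickson.isMax_map (F := F) P hP hM
  have hrange : ∀ a, Dickson.emb a = P (Matrix.ProjectiveSpecialLinearGroup.toPGL a) := fun a => rfl
  have hnot : ¬ Dickson.pslF F ≤ M' := by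
    intro h
    refine hML ?_
    rintro _ ⟨a, rfl⟩
    have h' : Dickson.emb (QuotientGroup.mk a) ∈ M' := h ⟨_, rfl⟩
    rw [hrange, hM', Subgroup.mem_map_iff_mem hP] at h'
    exact h'
  have hsplit : ∀ g ∈ M', ∀ h ∈ M', g * g * (h * h) ∈ Dickson.pslF F := by
    intro g hg h hh
    obtain ⟨γ, rfl⟩ := hmax.1 hg
    obtain ⟨δ, rfl⟩ := hmax.1 hh
    induction γ using Matrix.ProjGenLinGroup.induction_on with | mk γ =>
    induction δ using Matrix.ProjGenLinGroup.induction_on with | mk δ =>
    rw [← map_mul, ← map_mul, ← map_mul, ← map_mul, ← map_mul, ← map_mul, Dickson.mem_pslF_iff, map_mul,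
      map_mul, map_mul]
    exact ⟨Matrix.GeneralLinearGroup.det γ * Matrix.GeneralLinearGroup.det δ, mul_mul_mul_comm _ _ _ _⟩
  have hnotle : ¬ M' ≤ Dickson.pslF F := by
    intro h
    rcases hmax.2.2 _ h (Dickson.pslF_le F) with e | e
    · exact hnot e.le
    · have hc1 := congrArg (fun S : Subgroup (PGL(2, AlgebraicClosure F)) => Nat.card S) e
      simp only [Dickson.card_pglF, Dickson.card_pslF] at hc1
      have hG := SL2.card_PSL2_mul (F := F)
      rw [Nat.gcd_eq_left (show 2 ∣ Fintype.card F - 1 by omega), hc1] at hG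
      have : 0 < Fintype.card F * (Fintype.card F ^ 2 - 1) := by
        have : 16 ≤ Fintype.card F ^ 2 := Nat.pow_le_pow_left (show 4 ≤ _ by omega) 2
        exact Nat.mul_pos (by omega) (by omega)
      omega
  have hG := SL2.card_PSL2_mul (F := F)
  rw [Nat.gcd_eq_left (show 2 ∣ Fintype.card F - 1 by omega)] at hG
  have hG60 : 60 ≤ Nat.card (Matrix.ProjectiveSpecialLinearGroup (Fin 2) F) := by
    have : 24 ≤ Fintype.card F ^ 2 - 1 := by
      have : 25 ≤ Fintype.card F ^ 2 := Nat.pow_le_pow_left (show 5 ≤ _ by omega) 2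
      omega
    have h120 := Nat.mul_le_mul (show 5 ≤ Fintype.card F by omega) this
    omega
  -- normalisers of Klein four groups
  have hMN : ∀ V : Subgroup (Matrix.ProjectiveSpecialLinearGroup (Fin 2) F), IsKleinFour V →
      M' ≤ Subgroup.normalizer ((V.map Dickson.emb : Subgroup (PGL(2, AlgebraicClosure F))) : Set (PGL(2, AlgebraicClosure F))) →
      M' = Dickson.pglF F ⊓ Subgroup.normalizer ((V.map Dickson.emb : Subgroup (PGL(2, AlgebraicClosure F))) : Set (PGL(2, AlgebraicClosure F))) := by
    intro V hV hle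
    rcases hmax.2.2 _ (le_inf hmax.1 hle) inf_le_left with e | e
    · exact e.symm
    · exfalso
      have h24 := Nat.le_of_dvd (by norm_num) (SL2Two.card_normalizer_klein_dvd h2 V hV).1
      rw [← Dickson.card_nz, inf_eq_left.2 ((Dickson.pslF_le F).trans (inf_eq_left.1 e)), Dickson.card_pslF] at h24
      omega
  have hiso : ∀ {T : Type} [Group T], (M' ≃* T) → Nonempty (M ≃* T) :=
    fun f => ⟨(M.equivMapOfInjective P hP).trans f⟩
  have hMc : Nat.card M' = Nat.card M := Subgroup.card_map_of_injective hP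
  rcases Dickson.max_cases p le_rfl (Dickson.pslF_le F) (fun c hc => Dickson.conj_pglF hc) A (by omega) hmax hnot with
    ⟨x, -, -, hcard⟩ | ⟨k, hk, hkc, ⟨f⟩⟩ | ⟨-, -, ⟨f⟩⟩ | ⟨-, hp3, ⟨f⟩⟩ | ⟨-, -, -, ⟨f⟩⟩ |
    ⟨K₀, c, m, hc, hK, h3', hm, hq, hle, hcase⟩
  · left
    rw [← hMc, hcard]
  · rcases hk with rfl | rfl
    · by_cases h5 : Fintype.card F = 5
      · exfalso
        have hk4 : Fintype.card F - 1 = 4 := by omega
        rw [hk4] at hkc f
        haveI : Finite ↥(Dickson.pglF F) := inferInstance
        haveI : Finite M' := Finite.of_injective _ (Subgroup.inclusion_injective hmax.1)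
        set S : Subgroup M' := (Dickson.pslF F).subgroupOf M' with hS
        have hsq : ∀ g : M', g * g ∈ S := fun g => by
          have := hsplit g g.2 1 M'.one_mem
          rwa [mul_one, mul_one] at this
        have hno4 : ∀ g : M', g ∈ S → orderOf g ≠ 4 := by
          rintro ⟨g, hg⟩ hgS ho
          obtain ⟨a, ha⟩ := hgS
          rw [← Subgroup.orderOf_coe] at ho
          change orderOf g = 4 at ho
          change Dickson.emb a = g at ha
          rw [← ha, orderOf_injective _ Dickson.emb_injective] at ho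
          exact SL2Two.psl_no_four h2 (by omega) a ho
        -- one of the two reflection classes lies in the special part
        obtain ⟨c₀, hc₀, hc₀S⟩ : ∃ c₀ : DihedralGroup 4, (c₀ = DihedralGroup.sr 0 ∨ c₀ = DihedralGroup.sr 1) ∧ f.symm c₀ ∈ S := by
          by_contra hcon
          push Not at hcon
          have h0 := hcon _ (Or.inl rfl)
          have h1 := hcon _ (Or.inr rfl)
          have hidx : Nat.card (Dickson.pglF F) = 2 * Nat.card (Dickson.pslF F) := by
            rw [Dickson.card_pglF, Dickson.card_pslF, hG]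
          set Q := (Dickson.pslF F).subgroupOf (Dickson.pglF F) with hQ
          have hQ2 : Q.index = 2 := by
            have h := Q.index_mul_card
            rw [Nat.card_congr (Subgroup.subgroupOfEquivOfLe (Dickson.pslF_le F)).toEquiv, hidx] at h
            exact Nat.eq_of_mul_eq_mul_right Nat.card_pos h
          have hmul := (Subgroup.mul_mem_iff_of_index_two hQ2 (a := (⟨_, hmax.1 (f.symm (DihedralGroup.sr 0)).2⟩ : Dickson.pglF F))
            (b := ⟨_, hmax.1 (f.symm (DihedralGroup.sr 1)).2⟩)).2 ⟨fun h => absurd h h0, fun h => absurd h h1⟩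
          refine hno4 (f.symm (DihedralGroup.sr 0) * f.symm (DihedralGroup.sr 1)) hmul ?_
          rw [← map_mul, MulEquiv.orderOf_eq, DihedralGroup.sr_mul_sr, sub_zero, DihedralGroup.orderOf_r_one]
        obtain ⟨hr2, hc2⟩ : (DihedralGroup.r 2 : DihedralGroup 4) * DihedralGroup.r 2 = 1 ∧ True := ⟨by decide, trivial⟩
        have hall : ∀ c₀ : DihedralGroup 4, (c₀ = DihedralGroup.sr 0 ∨ c₀ = DihedralGroup.sr 1) →
            c₀ * c₀ = 1 ∧ c₀ ≠ 1 ∧ DihedralGroup.r 2 * c₀ = c₀ * DihedralGroup.r 2 ∧ DihedralGroup.r 2 ≠ c₀ ∧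
            ∀ g, g * DihedralGroup.r 2 * g⁻¹ ∈ [DihedralGroup.r 2, c₀, DihedralGroup.r 2 * c₀] ∧
              g * c₀ * g⁻¹ ∈ [DihedralGroup.r 2, c₀, DihedralGroup.r 2 * c₀] := by
          rintro c₀ (rfl | rfl) <;> decide
        obtain ⟨hcc, hc1, hcm, hcne, hcg⟩ := hall c₀ hc₀
        obtain ⟨V', hV', hVle, hVn, hVmem⟩ := Dickson.klein_of_pair f hr2 (by decide) hcc hc1 hcm hcne hcg
        have hVpsl : V' ≤ Dickson.pslF F := by
          intro v hv
          have hrS : f.symm (DihedralGroup.r 2) ∈ S := by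
            rw [show (DihedralGroup.r 2 : DihedralGroup 4) = DihedralGroup.r 1 * DihedralGroup.r 1 by decide, map_mul]
            exact hsq _
          rcases hVmem v hv with rfl | ⟨t, ht, rfl⟩
          · exact (Dickson.pslF F).one_mem
          rcases ht with rfl | rfl | rfl
          · exact hrS
          · exact hc₀S
          · rw [map_mul]; exact S.mul_mem hrS hc₀S
        set V := V'.comap Dickson.emb
        have hVmap : V.map Dickson.emb = V' := Subgroup.map_comap_eq_self hVpsl
        haveI := hV'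
        have hV : IsKleinFour V := by
          have e : V ≃* V' := (V.equivMapOfInjective _ Dickson.emb_injective).trans (MulEquiv.subgroupCongr hVmap)
          exact ⟨(Nat.card_congr e.toEquiv).trans hV'.card_four,
            (Monoid.exponent_eq_of_mulEquiv e).trans hV'.exponent_two⟩
        have hM8 := hMN V hV (by rw [hVmap]; exact hVn)
        have h12 : 12 ∣ Nat.card M' := by
          rw [hM8]
          refine dvd_trans ?_ (Subgroup.card_dvd_of_le (inf_le_inf_right _ (Dickson.pslF_le F)))
          rw [Dickson.card_nz]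
          exact (SL2Two.card_normalizer_klein_dvd h2 V hV).2.1
        rw [hkc] at h12
        norm_num at h12
      · exact Or.inr (Or.inl ⟨h5, hiso f⟩)
    · exact Or.inr (Or.inr (Or.inl (hiso f)))
  · exfalso
    refine hnotle fun g hg => ?_
    obtain ⟨r, s, hrs⟩ := Dickson.alt_four_squares (f ⟨g, hg⟩)
    have e : (⟨g, hg⟩ : M') = f.symm r * f.symm r * (f.symm s * f.symm s) := by
      rw [← map_mul, ← map_mul, ← map_mul, ← hrs, MulEquiv.symm_apply_apply]
    have e' := congrArg Subtype.val e
    simp only [Subgroup.coe_mul] at e'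
    rw [e']
    exact hsplit _ (f.symm r).2 _ (f.symm s).2
  · -- octahedral subgroups
    obtain ⟨a, c, ha, ha1, hc, hc1, hac, hne, hra, hrc, hg⟩ := Dickson.perm_four_klein
    obtain ⟨V', hV', -, hVn, hVmem⟩ := Dickson.klein_of_pair f ha ha1 hc hc1 hac hne hg
    have hVpsl : V' ≤ Dickson.pslF F := by
      intro v hv
      obtain ⟨r, rfl⟩ := hra
      obtain ⟨s, rfl⟩ := hrc
      rcases hVmem v hv with rfl | ⟨t, ht, rfl⟩
      · exact (Dickson.pslF F).one_mem
      rcases ht with rfl | rfl | rfl
      · simpa [map_mul] using hsplit _ (f.symm r).2 1 M'.one_mem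
      · simpa [map_mul] using hsplit _ (f.symm s).2 1 M'.one_mem
      · simpa [map_mul] using hsplit _ (f.symm r).2 _ (f.symm s).2
    set V := V'.comap Dickson.emb
    have hVmap : V.map Dickson.emb = V' := Subgroup.map_comap_eq_self hVpsl
    haveI := hV'
    have hV : IsKleinFour V := by
      have e : V ≃* V' := (V.equivMapOfInjective _ Dickson.emb_injective).trans (MulEquiv.subgroupCongr hVmap)
      exact ⟨(Nat.card_congr e.toEquiv).trans hV'.card_four,
        (Monoid.exponent_eq_of_mulEquiv e).trans hV'.exponent_two⟩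
    have hMV := hMN V hV (by rw [hVmap]; exact hVn)
    have hM24 : Nat.card M' = 24 := by
      rw [Nat.card_congr f.toEquiv, Nat.card_perm, Nat.card_fin]; rfl
    haveI : Finite M' := Finite.of_injective _ (Subgroup.inclusion_injective hmax.1)
    have h8 : Fintype.card F % 8 = 3 ∨ Fintype.card F % 8 = 5 := by
      by_contra hne8
      refine hnotle ?_
      have hle' : Dickson.pslF F ⊓ Subgroup.normalizer ((V.map Dickson.emb : Subgroup (PGL(2, AlgebraicClosure F))) : Set (PGL(2, AlgebraicClosure F))) ≤ M' :=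
        (inf_le_inf_right _ (Dickson.pslF_le F)).trans hMV.ge
      rw [← Subgroup.eq_of_le_of_card_ge hle' (by
        rw [hM24, Dickson.card_nz, SL2Two.card_normalizer_klein h2 (by omega) V hV])]
      exact inf_le_left
    obtain ⟨L, j, hL, hLc, hqL, hj⟩ := Dickson.exists_prime_sub (F := F) p
    obtain ⟨V₀, hV₀, -, h24, -⟩ := Dickson.exists_klein_sub h2 hL
    obtain ⟨d, hd, hdV⟩ := Dickson.klein_conj h2 V V₀ hV hV₀
    have hmax' := Dickson.isMax_conj hmax (Dickson.conj_pglF hd)
    have hcM : Nat.card (M'.map (MulAut.conj d).toMonoidHom) = 24 := by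
      rw [Subgroup.card_map_of_injective (MulAut.conj d).injective, hM24]
    have hle0 : M'.map (MulAut.conj d).toMonoidHom ≤ Dickson.pglF F ⊓ Subgroup.normalizer
        ((V₀.map Dickson.emb : Subgroup (PGL(2, AlgebraicClosure F))) : Set (PGL(2, AlgebraicClosure F))) := by
      refine le_inf hmax'.1 ?_
      rw [← hdV]
      exact (Subgroup.map_mono (hMV.le.trans inf_le_right)).trans (Subgroup.le_normalizer_map _)
    have heq : M'.map (MulAut.conj d).toMonoidHom = Dickson.pglF F ⊓ Subgroup.normalizer
        ((V₀.map Dickson.emb : Subgroup (PGL(2, AlgebraicClosure F))) : Set (PGL(2, AlgebraicClosure F))) := by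
      rcases hmax'.2.2 _ hle0 inf_le_left with e | e
      · exact e.symm
      · exfalso
        have h24' := Nat.le_of_dvd (by norm_num) (SL2Two.card_normalizer_klein_dvd h2 V₀ hV₀).1
        rw [← Dickson.card_nz, inf_eq_left.2 ((Dickson.pslF_le F).trans (inf_eq_left.1 e)), Dickson.card_pslF] at h24'
        omega
    have hsub : M'.map (MulAut.conj d).toMonoidHom ≤ Dickson.subPGL L := by
      haveI : Finite ↥(M'.map (MulAut.conj d).toMonoidHom) := Finite.of_injective _ (Subgroup.inclusion_injective hmax'.1)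
      have hle1 : Dickson.subPGL L ⊓ Subgroup.normalizer
          ((V₀.map Dickson.emb : Subgroup (PGL(2, AlgebraicClosure F))) : Set (PGL(2, AlgebraicClosure F))) ≤
          M'.map (MulAut.conj d).toMonoidHom := by
        rw [heq]; exact inf_le_inf_right _ (Dickson.subPGL_le_pglF hL)
      rw [← Subgroup.eq_of_le_of_card_ge hle1 (hcM.le.trans h24)]
      exact inf_le_left
    haveI := Dickson.finite_of_le hL
    have hp5 : 5 ≤ p := by
      have := hpp.two_le
      rw [hn, ← Nat.odd_iff, Nat.odd_pow_iff n.ne_zero, Nat.odd_iff] at hqodd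
      omega
    have hbig : 120 ≤ p * (p ^ 2 - 1) := by
      have : 24 ≤ p ^ 2 - 1 := by
        have : 25 ≤ p ^ 2 := Nat.pow_le_pow_left hp5 2
        omega
      nlinarith
    have hqp : Fintype.card F = p := by
      rcases hmax'.2.2 _ hsub (Dickson.subPGL_le_pglF hL) with e | e
      · exfalso
        have := congrArg (fun S : Subgroup (PGL(2, AlgebraicClosure F)) => Nat.card S) e
        simp only [hcM, Dickson.card_subPGL L, hLc] at this
        omega
      · have := congrArg (fun S : Subgroup (PGL(2, AlgebraicClosure F)) => Nat.card S) e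
        simp only [Dickson.card_subPGL L, hLc, Dickson.card_pglF] at this
        by_contra hne'
        have hlt : p < Fintype.card F := by
          have hple : p ≤ Fintype.card F := hn ▸ Nat.le_self_pow n.ne_zero p
          omega
        have h2' : p ^ 2 - 1 ≤ Fintype.card F ^ 2 - 1 := Nat.sub_le_sub_right (Nat.pow_le_pow_left hlt.le 2) 1
        have : p * (p ^ 2 - 1) < Fintype.card F * (Fintype.card F ^ 2 - 1) :=
          Nat.mul_lt_mul_of_lt_of_le hlt h2' (by
            have : 25 ≤ p ^ 2 := Nat.pow_le_pow_left hp5 2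
            omega)
        omega
    exact Or.inr (Or.inr (Or.inr (Or.inl ⟨hqp ▸ hpp, h8, hiso f⟩)))
  · exfalso
    refine hnotle fun g hg => ?_
    obtain ⟨r, s, hrs⟩ := Dickson.alt_five_squares (f ⟨g, hg⟩)
    have e : (⟨g, hg⟩ : M') = f.symm r * f.symm r * (f.symm s * f.symm s) := by
      rw [← map_mul, ← map_mul, ← map_mul, ← hrs, MulEquiv.symm_apply_apply]
    have e' := congrArg Subtype.val e
    simp only [Subgroup.coe_mul] at e'
    rw [e']
    exact hsplit _ (f.symm r).2 _ (f.symm s).2
  · -- subfield subgroups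
    haveI := Dickson.finite_of_le hK
    haveI := Fintype.ofFinite K₀
    obtain ⟨F₀, i1, i2, ⟨σ⟩, hc0⟩ := Dickson.exists_type_field K₀
    rw [inf_eq_left.2 (Dickson.subPGL_le_pglF hK)] at hle
    have hMK : Nat.card M' = Nat.card (Dickson.subPGL K₀) := by
      rw [← hle]; exact (Subgroup.card_map_of_injective (MulAut.conj c).injective).symm
    rw [Dickson.card_subPGL K₀] at hMK
    have hne : Nat.card K₀ * (Nat.card K₀ ^ 2 - 1) ≠ 0 := by
      have : 9 ≤ Nat.card K₀ ^ 2 := Nat.pow_le_pow_left h3' 2
      exact Nat.mul_ne_zero (by omega) (by omega)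
    rcases hcase with ⟨-, ⟨f⟩⟩ | ⟨-, hh, -⟩
    · have hmo : Odd m := by
        refine Nat.not_even_iff_odd.1 fun he => hnot ?_
        have hle2 : M'.map (MulAut.conj c).toMonoidHom ≤ Dickson.pslF F := by
          rw [hle]; exact (Dickson.sub_le_pslF_iff hK hq).2 (Or.inr he)
        have := Subgroup.map_mono (f := (MulAut.conj c⁻¹).toMonoidHom) hle2
        rw [Dickson.map_conj_map, Dickson.conj_pslF ((Dickson.pglF F).inv_mem hc)] at this
        exact absurd this hnotle
      refine Or.inr (Or.inr (Or.inr (Or.inr ⟨F₀, i1, i2, m, hm, hmo, ?_,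
        ⟨((M.equivMapOfInjective P hP).trans f).trans (Dickson.pgl_congr σ).some⟩⟩)))
      rw [hc0, hq]
    · exfalso
      omega

end Cfsg.Agent.S5891
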