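import Cfsg.Statements.S5890
import Cfsg.Agent.Lib.Classical.DicksonMeet
import Cfsg.Agent.S5891

set_option autoImplicit false
open Cfsg

open Cfsg.Agent.Classical
open scoped MatrixGroups Classical Cfsg.Agent.Classical.Dickson
open OnePoint

namespace Cfsg.Agent.S5890

/-- Let F be a finite field with q ≥ 4 elements, let L ≤ PGL₂(F) be the image of SL₂(F) (a copy of PSL₂(F), of index gcd(2, q − 1)), and let M be a maximal subgroup of PGL₂(F) that does not contain L. Suppose q ∉ {7, 9, 11} and that q is not a prime congruent to ±11 or ±19 modulo 40. Then M ∩ L is a maximal subgroup of L. (For the excluded q there are maximal subgroups of PGL₂(q) — dihedral groups of order 12 and 16 at q = 7, of order 20 and 16 at q = 9, of order 20 at q = 11, and S₄ at the excluded primes — whose intersection with L is not maximal in L.) -/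
theorem result {F : Type*} [Field F]
    [Fintype F] (h4 : 4 ≤ Fintype.card F) (h7 : Fintype.card F ≠ 7) (h9 : Fintype.card F ≠ 9) (h11 : Fintype.card F ≠ 11)
    (h40 : (Fintype.card F).Prime → Fintype.card F % 40 ∉ ({11, 19, 21, 29} : Finset ℕ))
    (M : Subgroup (Matrix.ProjGenLinGroup (Fin 2) F)) (hM : IsCoatom M)
    (hML : ¬ (Matrix.ProjGenLinGroup.mk.comp Matrix.SpecialLinearGroup.toGL).range ≤ M) :
    IsCoatom ((M ⊓ (Matrix.ProjGenLinGroup.mk.comp Matrix.SpecialLinearGroup.toGL).range).subgroupOf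
      (Matrix.ProjGenLinGroup.mk.comp Matrix.SpecialLinearGroup.toGL).range) := by
  obtain ⟨p, hp⟩ := CharP.exists F
  obtain ⟨n, hpp, hn⟩ := FiniteField.card F p
  haveI : Fact p.Prime := ⟨hpp⟩
  haveI : Finite (Matrix.ProjectiveSpecialLinearGroup (Fin 2) F) := Finite.of_surjective _ SL2Two.proj_surjective
  let P : PGL(2, F) →* PGL(2, AlgebraicClosure F) :=
    Matrix.ProjGenLinGroup.map (algebraMap F (AlgebraicClosure F))
  have hP : Function.Injective P := Dickson.map_injective _
  set L : Subgroup (PGL(2, F)) := (Matrix.ProjGenLinGroup.mk.comp Matrix.SpecialLinearGroup.toGL).range with hL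
  have hLP : L.map P = Dickson.pslF F := by
    ext g
    constructor
    · rintro ⟨_, ⟨a, rfl⟩, rfl⟩
      exact ⟨QuotientGroup.mk a, rfl⟩
    · rintro ⟨a, rfl⟩
      induction a using QuotientGroup.induction_on with | H a =>
      exact ⟨_, ⟨a, rfl⟩, rfl⟩
  set M' := M.map P with hM'
  have hmax : Dickson.IsMax (Dickson.pglF F) M' := by
    have h := Dickson.isMax_map (F := F) P hP hM
    exact h
  have hnot : ¬ Dickson.pslF F ≤ M' := by
    rw [← hLP]
    exact fun h => hML ((Subgroup.map_le_map_iff_of_injective hP).1 h)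
  suffices h : Dickson.IsMax (Dickson.pslF F) (M' ⊓ Dickson.pslF F) by
    refine Dickson.isCoatom_of_isMax (F := F) (P.comp L.subtype) (hP.comp L.subtype_injective) ?_
    rw [MonoidHom.range_comp, Subgroup.range_subtype, hLP, ← Subgroup.map_map, Subgroup.subgroupOf_map_subtype,
      inf_assoc, inf_idem, Subgroup.map_inf _ _ _ hP, hLP]
    exact h
  rcases Nat.mod_two_eq_zero_or_one (Fintype.card F) with hev | hodd
  · -- in even characteristic the special part is everything
    have heq : Dickson.pslF F = Dickson.pglF F := by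
      refine Subgroup.eq_of_le_of_card_ge (Dickson.pslF_le F) ?_
      have hG := SL2.card_PSL2_mul (F := F)
      have hg : Nat.gcd 2 (Fintype.card F - 1) = 1 :=
        by
          rcases (Nat.dvd_prime Nat.prime_two).1 (Nat.gcd_dvd_left 2 (Fintype.card F - 1)) with h | h
          · exact h
          · have h' := Nat.gcd_dvd_right 2 (Fintype.card F - 1)
            rw [h] at h'
            omega
      rw [hg, one_mul] at hG
      rw [Dickson.card_pglF, Dickson.card_pslF, hG]
    rw [heq, inf_eq_left.2 hmax.1]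
    exact hmax
  have hq5 : 5 ≤ Fintype.card F := by omega
  have hp2 : p ≠ 2 := fun e => by
    have : 2 ∣ Fintype.card F := hn ▸ e ▸ dvd_pow_self p n.ne_zero
    omega
  have hnotle := Dickson.not_le_pslF hodd hmax hnot
  have h5891 := S5891.result (Nat.odd_iff.2 hodd) (by omega) M hM hML
  have hMc : Nat.card M' = Nat.card M := Subgroup.card_map_of_injective hP
  haveI : Finite M' := Finite.of_injective _ (Subgroup.inclusion_injective hmax.1)
  rcases Dickson.max_cases p le_rfl (Dickson.pslF_le F) (fun c hc => Dickson.conj_pglF hc)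
    (Dickson.ambient_pglF (F := F)) h4 hmax hnot with
    ⟨x, hx, hMx, -⟩ | ⟨k, hk, hkc, ⟨f⟩⟩ | ⟨-, -, ⟨f⟩⟩ | ⟨-, hp3, ⟨f⟩⟩ | ⟨-, -, -, ⟨f⟩⟩ |
    ⟨K₀, c, m, hc, hK, h3, hm, hq, hle, -⟩
  · rw [Dickson.orb_infty _ le_rfl (Dickson.pslF_le F), ← Dickson.orb_infty _ (Dickson.pslF_le F) le_rfl] at hx
    convert Dickson.st_max p hodd hq5 hx using 1
    rw [hMx]
    ext g
    simp only [Subgroup.mem_inf, Dickson.mem_st]
    exact ⟨fun h => ⟨h.2, h.1.2⟩, fun h => ⟨⟨Dickson.pslF_le F h.1, h.2⟩, h.1⟩⟩
  · by_cases hk6 : 6 ≤ k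
    · exact Dickson.meet_dihedral p hodd hq5 h7 h9 h11 hmax hk hk6 f
    · exfalso
      have h5 : Fintype.card F = 5 := by omega
      have h8 : Nat.card M = 8 := by omega
      rcases h5891 with h | ⟨h, -⟩ | ⟨⟨g⟩⟩ | ⟨-, -, ⟨g⟩⟩ | ⟨F₀, _, _, r, hr, -, hq, -⟩
      · rw [h8, h5] at h; omega
      · exact h h5
      · rw [Nat.card_congr g.toEquiv, DihedralGroup.nat_card, h5] at h8; omega
      · rw [Nat.card_congr g.toEquiv, Nat.card_perm, Nat.card_fin] at h8; exact absurd h8 (by decide)
      · rw [h5] at hq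
        exact hr.ne_one (Nat.Prime.eq_one_of_pow (x := Fintype.card F₀) (hq ▸ by norm_num))
  · exact absurd (Dickson.sq_gen_le Dickson.alt_four_squares hodd hmax.1 f) hnotle
  · have h24 : Nat.card M = 24 := by
      rw [← hMc, Nat.card_congr f.toEquiv, Nat.card_perm, Nat.card_fin]; decide
    have hnodih : ∀ j, j = Fintype.card F - 1 ∨ j = Fintype.card F + 1 → (M ≃* DihedralGroup j) → False := by
      intro j hj g
      have hjc : 2 * j = 24 := by rw [← h24, Nat.card_congr g.toEquiv, DihedralGroup.nat_card]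
      have ho : orderOf ((((M.equivMapOfInjective P hP).symm.trans g).symm.trans f) (DihedralGroup.r 1)) = j := by
        rw [MulEquiv.orderOf_eq, DihedralGroup.orderOf_r_one]
      rcases Dickson.perm_four_orders ((((M.equivMapOfInjective P hP).symm.trans g).symm.trans f) (DihedralGroup.r 1)) with e | e <;>
        rw [← orderOf_dvd_iff_pow_eq_one, ho] at e <;>
        have := Nat.le_of_dvd (by norm_num) e <;> omega
    rcases h5891 with h | ⟨-, ⟨g⟩⟩ | ⟨⟨g⟩⟩ | ⟨hprime, h8, -⟩ | ⟨F₀, _, _, r, hr, -, hq, ⟨g⟩⟩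
    · exfalso
      rw [h24] at h
      have : Fintype.card F ≤ 6 := by
        by_contra hlt
        have := Nat.mul_le_mul (show 7 ≤ Fintype.card F by omega) (show 6 ≤ Fintype.card F - 1 by omega)
        omega
      interval_cases Fintype.card F <;> omega
    · exact (hnodih _ (Or.inl rfl) g).elim
    · exact (hnodih _ (Or.inr rfl) g).elim
    · exact Dickson.meet_sym p hodd hq5 hprime h8 (h40 hprime) hmax hnot f
    · exfalso
      rw [Nat.card_congr g.toEquiv, Dickson.card_PGL2] at h24
      have h3 : Fintype.card F₀ = 3 := by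
        have h1 := Fintype.one_lt_card (α := F₀)
        have : Fintype.card F₀ < 4 := by
          by_contra hge
          have hsq : 15 ≤ Fintype.card F₀ ^ 2 - 1 := by
            have : 16 ≤ Fintype.card F₀ ^ 2 := Nat.pow_le_pow_left (show 4 ≤ _ by omega) 2
            omega
          have := Nat.mul_le_mul (show 4 ≤ Fintype.card F₀ by omega) hsq
          omega
        interval_cases hc : Fintype.card F₀ <;> omega
      rw [h3] at hq
      have hd : p ∣ 3 ^ r := hq ▸ hn ▸ dvd_pow_self p n.ne_zero
      exact hp3 ((Nat.prime_dvd_prime_iff_eq hpp Nat.prime_three).1 (hpp.dvd_of_dvd_pow hd))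
  · exact absurd (Dickson.sq_gen_le Dickson.alt_five_squares hodd hmax.1 f) hnotle
  · exact Dickson.meet_subfield p hnotle hK h3 hm hq hc hle

end Cfsg.Agent.S5890
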