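import Cfsg.Statements.S5892
import Cfsg.Agent.Lib.Classical.DicksonRows
import Cfsg.Agent.S1012

set_option autoImplicit false
open Cfsg

open Cfsg.Agent.Classical
open scoped MatrixGroups Classical Cfsg.Agent.Classical.Dickson
open OnePoint

namespace Cfsg.Agent.S5892

/-- Let F be a finite field of odd order q ≥ 5 and characteristic p, and let M be a maximal subgroup of PSL₂(F). Then one of the following holds: |M| = q(q − 1)/2 (the stabiliser of a point of the projective line); q ≥ 13 and M is dihedral of order q − 1; q ∉ {7, 9} and M is dihedral of order q + 1; q = q₀² and M ≅ PGL₂(F₀) with |F₀| = q₀; q = q₀^r for an odd prime r and M ≅ PSL₂(F₀) with |F₀| = q₀; q ≡ ±1 (mod 10) with q = p or q = p², p ≡ ±3 (mod 10), and M ≅ A₅; q = p ≡ ±3 (mod 8), q ≢ ±1 (mod 10), and M ≅ A₄; or q = p ≡ ±1 (mod 8) and M ≅ S₄. -/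
theorem result {F : Type*} [Field F] [Fintype F] (p : ℕ)
    [Fact p.Prime] [CharP F p] (hodd : Odd (Fintype.card F)) (h5 : 5 ≤ Fintype.card F)
    (M : Subgroup (Matrix.ProjectiveSpecialLinearGroup (Fin 2) F)) (hM : IsCoatom M) :
    2 * Nat.card M = Fintype.card F * (Fintype.card F - 1) ∨
    (13 ≤ Fintype.card F ∧ (∃ k : ℕ, 2 * k = Fintype.card F - 1 ∧ Nonempty (M ≃* DihedralGroup k))) ∨
    (Fintype.card F ≠ 7 ∧ Fintype.card F ≠ 9 ∧ (∃ k : ℕ, 2 * k = Fintype.card F + 1 ∧ Nonempty (M ≃* DihedralGroup k))) ∨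
    (∃ (F₀ : Type) (_ : Field F₀) (_ : Fintype F₀), Fintype.card F = Fintype.card F₀ ^ 2 ∧
        Nonempty (M ≃* Matrix.ProjGenLinGroup (Fin 2) F₀)) ∨
    (∃ (F₀ : Type) (_ : Field F₀) (_ : Fintype F₀) (r : ℕ), r.Prime ∧ Odd r ∧ Fintype.card F = Fintype.card F₀ ^ r ∧
        Nonempty (M ≃* Matrix.ProjectiveSpecialLinearGroup (Fin 2) F₀)) ∨
    ((Fintype.card F % 10 = 1 ∨ Fintype.card F % 10 = 9) ∧
        (Fintype.card F = p ∨ (Fintype.card F = p ^ 2 ∧ (p % 10 = 3 ∨ p % 10 = 7))) ∧
        Nonempty (M ≃* alternatingGroup (Fin 5))) ∨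
    (Fintype.card F = p ∧ (p % 8 = 3 ∨ p % 8 = 5) ∧ ¬ (p % 10 = 1 ∨ p % 10 = 9) ∧
        Nonempty (M ≃* alternatingGroup (Fin 4))) ∨
    (Fintype.card F = p ∧ (p % 8 = 1 ∨ p % 8 = 7) ∧ Nonempty (M ≃* Equiv.Perm (Fin 4))) := by
  have hpp : p.Prime := Fact.out
  haveI : Finite (Matrix.ProjectiveSpecialLinearGroup (Fin 2) F) := Finite.of_surjective _ SL2Two.proj_surjective
  obtain ⟨n, -, hn⟩ := FiniteField.card F p
  have hqodd : Fintype.card F % 2 = 1 := Nat.odd_iff.1 hodd
  have h2 : (2 : F) ≠ 0 := SL2Two.two_ne_zero' hodd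
  have hd : Nat.gcd 2 (Fintype.card F - 1) = 2 := Nat.gcd_eq_left (by omega)
  have A := Dickson.ambient_pslF (F := F)
  obtain ⟨hmax, hnot, hMc, ⟨eM⟩⟩ := Dickson.psl_max hM
  have hG := SL2.card_PSL2_mul (F := F)
  rw [hd] at hG
  have hGlow : ∀ b, b ≤ Fintype.card F → b * (b ^ 2 - 1) ≤ 2 * Nat.card (Matrix.ProjectiveSpecialLinearGroup (Fin 2) F) := by
    intro b hb
    rw [hG]
    exact Nat.mul_le_mul hb (Nat.sub_le_sub_right (Nat.pow_le_pow_left hb 2) 1)
  have hG60 : 60 ≤ Nat.card (Matrix.ProjectiveSpecialLinearGroup (Fin 2) F) := by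
    have := hGlow 5 h5
    omega
  -- a maximal subgroup normalising a Klein four group is the whole normaliser
  have hMN : ∀ V : Subgroup (Matrix.ProjectiveSpecialLinearGroup (Fin 2) F), IsKleinFour V →
      M ≤ Subgroup.normalizer (V : Set (Matrix.ProjectiveSpecialLinearGroup (Fin 2) F)) →
      M = Subgroup.normalizer (V : Set (Matrix.ProjectiveSpecialLinearGroup (Fin 2) F)) := by
    intro V hV hle
    rcases hle.eq_or_lt with e | e
    · exact e
    · exfalso
      have h24 := Nat.le_of_dvd (by norm_num) (SL2Two.card_normalizer_klein_dvd h2 V hV).1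
      rw [hM.2 _ e, Subgroup.card_top] at h24
      omega
  have hiso : ∀ {T : Type} [Group T], (M.map Dickson.emb ≃* T) → Nonempty (M ≃* T) := fun f => ⟨eM.trans f⟩
  rcases Dickson.max_cases p (Dickson.pslF_le F) le_rfl (fun c hc => Dickson.conj_pslF hc) A (by omega) hmax hnot with
    ⟨x, -, -, hcard⟩ | ⟨k, hk, hkc, ⟨f⟩⟩ | ⟨-, hp3, ⟨f⟩⟩ | ⟨-, hp3, ⟨f⟩⟩ | ⟨hp2, hp5, h5d, ⟨f⟩⟩ |
    ⟨K₀, c, m, hc, hK, h3, hm, hq, hle, hcase⟩
  · left
    rw [hMc, hd] at hcard
    rw [hcard, mul_comm, mul_assoc]
    congr 1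
    omega
  · -- dihedral subgroups
    rw [hd] at hk
    have key8 : k = 4 → (Fintype.card F % 8 = 1 ∨ Fintype.card F % 8 = 7) → False := by
      intro hk4 h8
      subst hk4
      obtain ⟨a, c, ha, ha1, hc, hc1, hac, hne, hg⟩ := Dickson.dihedral_four_klein
      obtain ⟨V, hV, -, hle, -⟩ := Dickson.klein_of_pair (eM.trans f) ha ha1 hc hc1 hac hne hg
      have h := SL2Two.card_normalizer_klein h2 h8 V hV
      rw [← hMN V hV hle, ← hMc, hkc] at h
      omega
    have key5 : k = 5 → (Fintype.card F = 9 ∨ Fintype.card F = 11) → False := by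
      intro hk5 hq
      subst hk5
      obtain ⟨t, ht⟩ := Icosa.exists_root (F := F) (by rcases hq with e | e <;> rw [e] <;> norm_num)
      obtain ⟨A', B', hAB⟩ := Icosa.exists_isPair ht
      obtain ⟨eH⟩ := hAB.nonempty_grp
      obtain ⟨a, b, ha, ha1, hb, hb1, hab, g, hg⟩ := Dickson.alt_five_inverting
      have hne : Icosa.IsPair.grp A' B' ≠ ⊤ := fun e => by
        have h60 := hAB.card_grp
        rw [e, Subgroup.card_top] at h60
        rcases hq with e' | e' <;> rw [e', h60] at hG <;> norm_num at hG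
      refine Dickson.dihedral_not_max (k := 5) (by norm_num) (by norm_num) ?_ hM (eM.trans f) hne
        (by rw [hAB.card_grp]; norm_num) (a := eH.symm a) (b := eH.symm b) (g := eH.symm g)
        (by rw [← map_mul, ha, map_one]) (fun e => ha1 (eH.symm.injective (e.trans (map_one _).symm)))
        (by rw [← map_pow, hb, map_one]) (fun e => hb1 (eH.symm.injective (e.trans (map_one _).symm)))
        (by rw [← map_mul, ← map_mul, hab, map_inv])
        (fun e => hg (eH.symm.injective (by simpa only [map_mul, map_inv] using e)))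
      intro h25
      obtain ⟨s, hs⟩ := h25
      rw [hs] at hG
      rcases hq with e | e <;> rw [e] at hG <;> norm_num at hG <;> omega
    by_cases hk1 : k = (Fintype.card F - 1) / 2
    · by_cases h13 : 13 ≤ Fintype.card F
      · exact Or.inr (Or.inl ⟨h13, k, by omega, hiso f⟩)
      exfalso
      rcases (show Fintype.card F = 5 ∨ Fintype.card F = 7 ∨ Fintype.card F = 9 ∨ Fintype.card F = 11 by omega) with e | e | e | e
      · obtain rfl : k = 2 := by omega
        have hV : IsKleinFour M := by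
          have g := eM.trans f
          refine ⟨by rw [Nat.card_congr g.toEquiv, DihedralGroup.nat_card], ?_⟩
          rw [Monoid.exponent_eq_of_mulEquiv g]
          exact IsKleinFour.exponent_two
        have h12 := (SL2Two.card_normalizer_klein_dvd h2 M hV).2.1
        rw [← hMN M hV Subgroup.le_normalizer, ← hMc, hkc] at h12
        norm_num at h12
      · obtain rfl : k = 3 := by omega
        have hk' := SL2Two.twelve_mul_card_klein (F := F) h2
        obtain ⟨⟨V, hV⟩⟩ : Nonempty {V : Subgroup (Matrix.ProjectiveSpecialLinearGroup (Fin 2) F) // IsKleinFour V} := by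
          by_contra hc
          rw [not_nonempty_iff] at hc
          rw [Nat.card_of_isEmpty, mul_zero] at hk'
          exact Nat.card_pos.ne hk'
        have h24 := SL2Two.card_normalizer_klein h2 (by omega) V hV
        obtain ⟨eH⟩ := S1012.result h24 (SL2Two.card_normalizer_klein_dvd h2 V hV).2.2
        obtain ⟨a, b, ha, ha1, hb, hb1, hab, g, hg⟩ := Dickson.perm_four_inverting
        refine Dickson.dihedral_not_max (k := 3) Nat.prime_three (by norm_num) ?_ hM (eM.trans f)
          (H := Subgroup.normalizer (V : Set (Matrix.ProjectiveSpecialLinearGroup (Fin 2) F)))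
          (fun h => by rw [h, Subgroup.card_top] at h24; omega)
          (by rw [h24]; norm_num) (a := eH.symm a) (b := eH.symm b) (g := eH.symm g)
          (by rw [← map_mul, ha, map_one]) (fun e => ha1 (eH.symm.injective (e.trans (map_one _).symm)))
          (by rw [← map_pow, hb, map_one]) (fun e => hb1 (eH.symm.injective (e.trans (map_one _).symm)))
          (by rw [← map_mul, ← map_mul, hab, map_inv])
          (fun e => hg (eH.symm.injective (by simpa only [map_mul, map_inv] using e)))
        intro h9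
        obtain ⟨w, hw⟩ := h9
        rw [e, hw] at hG
        norm_num at hG
        omega
      · exact key8 (by omega) (by omega)
      · exact key5 (by omega) (Or.inr e)
    · have hk2 : k = (Fintype.card F + 1) / 2 := hk.resolve_left hk1
      by_cases h79 : Fintype.card F = 7 ∨ Fintype.card F = 9
      · exfalso
        rcases h79 with e | e
        · exact key8 (by omega) (by omega)
        · exact key5 (by omega) (Or.inl e)
      · exact Or.inr (Or.inr (Or.inl ⟨fun e => h79 (Or.inl e), fun e => h79 (Or.inr e), k, by omega, hiso f⟩))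
  · -- tetrahedral subgroups
    obtain ⟨a, c, ha, ha1, hc, hc1, hac, hne, hg⟩ := Dickson.alt_four_klein
    obtain ⟨V, hV, -, hle, -⟩ := Dickson.klein_of_pair (eM.trans f) ha ha1 hc hc1 hac hne hg
    have hMV := hMN V hV hle
    have hM12 : Nat.card M = 12 := by
      rw [Nat.card_congr (eM.trans f).toEquiv, nat_card_alternatingGroup, Nat.card_fin]; rfl
    have h8 : Fintype.card F % 8 = 3 ∨ Fintype.card F % 8 = 5 := by
      by_contra hne8
      have h := SL2Two.card_normalizer_klein h2 (by omega) V hV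
      rw [← hMV, hM12] at h
      omega
    obtain ⟨L, j, hL, hLc, hqL, hj⟩ := Dickson.exists_prime_sub (F := F) p
    obtain ⟨V₀, hV₀, h12, -, -⟩ := Dickson.exists_klein_sub h2 hL
    obtain ⟨d, hd', hdV⟩ := Dickson.klein_conj h2 V V₀ hV hV₀
    have hc0 : Nat.card ↥(Dickson.pslF F ⊓ Subgroup.normalizer
        ((V₀.map Dickson.emb : Subgroup (PGL(2, AlgebraicClosure F))) : Set (PGL(2, AlgebraicClosure F)))) = 12 := by
      rw [Dickson.card_nz, Dickson.card_nz_three_five h8 hV₀]
    have hle0 : (M.map Dickson.emb).map (MulAut.conj d).toMonoidHom ≤ Dickson.pslF F ⊓ Subgroup.normalizer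
        ((V₀.map Dickson.emb : Subgroup (PGL(2, AlgebraicClosure F))) : Set (PGL(2, AlgebraicClosure F))) := by
      refine le_inf ((Subgroup.map_mono hmax.1).trans (Dickson.conj_pslF hd').le) ?_
      rw [← hdV, hMV]
      exact (Subgroup.map_mono (Subgroup.le_normalizer_map _)).trans (Subgroup.le_normalizer_map _)
    have hcM : Nat.card ((M.map Dickson.emb).map (MulAut.conj d).toMonoidHom) = 12 := by
      rw [Subgroup.card_map_of_injective (MulAut.conj d).injective, hMc, hM12]
    haveI : Finite ↥(Dickson.pslF F ⊓ Subgroup.normalizer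
        ((V₀.map Dickson.emb : Subgroup (PGL(2, AlgebraicClosure F))) : Set (PGL(2, AlgebraicClosure F)))) :=
      Finite.of_injective _ (Subgroup.inclusion_injective inf_le_left)
    have heq := Subgroup.eq_of_le_of_card_ge hle0 (le_of_eq (hc0.trans hcM.symm))
    have hsub : (M.map Dickson.emb).map (MulAut.conj d).toMonoidHom ≤ Dickson.subPGL L := by
      rw [heq]
      have h' := Subgroup.eq_of_le_of_card_ge
        (show Dickson.subPGL L ⊓ Dickson.pslF F ⊓ Subgroup.normalizer
          ((V₀.map Dickson.emb : Subgroup (PGL(2, AlgebraicClosure F))) : Set (PGL(2, AlgebraicClosure F))) ≤ _ from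
          inf_le_inf_right _ inf_le_right) (hc0.le.trans h12)
      exact h'.ge.trans (inf_le_left.trans inf_le_left)
    have hj1 : j = 1 := Dickson.eq_one_of_small (Dickson.isMax_conj hmax (Dickson.conj_pslF hd')) hL hj hqL hsub (by
      rw [hcM, hLc]
      have hp5' : 5 ≤ p := by
        rcases Nat.lt_or_ge p 5 with h | h
        · exfalso
          interval_cases p
          · norm_num at hpp
          · norm_num at hpp
          · rw [hn, Nat.pow_mod] at hqodd; simp at hqodd
          · exact hp3 rfl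
          · norm_num at hpp
        · exact h
      have : 24 ≤ p ^ 2 - 1 := by
        have : 25 ≤ p ^ 2 := Nat.pow_le_pow_left hp5' 2
        omega
      nlinarith)
    have hqp : Fintype.card F = p := by rw [hqL, hLc, hj1, pow_one]
    refine Or.inr (Or.inr (Or.inr (Or.inr (Or.inr (Or.inr (Or.inl
      ⟨hqp, by omega, fun h10 => ?_, hiso f⟩))))))
    -- then the tetrahedral group lies in an icosahedral one
    obtain ⟨t, ht⟩ := Icosa.exists_root (F := F) (by
      rw [hqp]
      refine Dvd.dvd.mul_left ?_ _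
      have : p ^ 2 % 5 = 1 := by
        rw [Nat.pow_mod]
        rcases (show p % 5 = 1 ∨ p % 5 = 4 by omega) with e | e <;> rw [e]
      have : 1 ≤ p ^ 2 := Nat.one_le_pow _ _ hpp.pos
      omega)
    obtain ⟨A', B', hAB⟩ := Icosa.exists_isPair ht
    obtain ⟨eH⟩ := hAB.nonempty_grp
    set H := Icosa.IsPair.grp A' B' with hH
    have hH60 : Nat.card H = 60 := hAB.card_grp
    let φ : alternatingGroup (Fin 5) →* Matrix.ProjectiveSpecialLinearGroup (Fin 2) F :=
      H.subtype.comp eH.symm.toMonoidHom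
    have hφ : Function.Injective φ := fun u v h => eH.symm.injective (Subtype.ext h)
    have hφH : ∀ u, φ u ∈ H := fun u => (eH.symm u).2
    obtain ⟨a', c', b', ha', ha1', hc', hc1', hac', hne', hb', hb1', hba, hbc⟩ :
        ∃ a c b : alternatingGroup (Fin 5), a * a = 1 ∧ a ≠ 1 ∧ c * c = 1 ∧ c ≠ 1 ∧ a * c = c * a ∧ a ≠ c ∧
          b ^ 3 = 1 ∧ b ≠ 1 ∧ b * a * b⁻¹ ∈ [a, c, a * c] ∧ b * c * b⁻¹ ∈ [a, c, a * c] :=
      ⟨⟨Equiv.swap 0 1 * Equiv.swap 2 3, Equiv.Perm.mem_alternatingGroup.2 (by decide)⟩,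
        ⟨Equiv.swap 0 2 * Equiv.swap 1 3, Equiv.Perm.mem_alternatingGroup.2 (by decide)⟩,
        ⟨Equiv.swap 0 2 * Equiv.swap 0 1, Equiv.Perm.mem_alternatingGroup.2 (by decide)⟩, by decide⟩
    obtain ⟨W, hW, hWmem, hWn⟩ := Dickson.exists_klein (a := φ a') (c := φ c') (by rw [← map_mul, ha', map_one])
      ((map_ne_one_iff φ hφ).2 ha1') (by rw [← map_mul, hc', map_one]) ((map_ne_one_iff φ hφ).2 hc1')
      (by rw [← map_mul, hac', map_mul]) (fun h => hne' (hφ h))
    have hmap : ∀ z, z ∈ [a', c', a' * c'] → φ z ∈ [φ a', φ c', φ a' * φ c'] := fun z hz => by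
      simp only [List.mem_cons, List.not_mem_nil, or_false] at hz ⊢
      rcases hz with rfl | rfl | rfl
      · exact Or.inl rfl
      · exact Or.inr (Or.inl rfl)
      · exact Or.inr (Or.inr (map_mul φ _ _))
    set N := Subgroup.normalizer (W : Set (Matrix.ProjectiveSpecialLinearGroup (Fin 2) F)) with hNdef
    have hN12 : Nat.card N = 12 := Dickson.card_nz_three_five h8 hW
    have hbN : φ b' ∈ N := hWn _ (by simpa only [map_mul, map_inv] using hmap _ hba)
      (by simpa only [map_mul, map_inv] using hmap _ hbc)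
    have hWH : W ≤ H := by
      intro w hw
      rcases (hWmem w).1 hw with rfl | rfl | rfl | rfl
      · exact H.one_mem
      · exact hφH _
      · exact hφH _
      · exact H.mul_mem (hφH _) (hφH _)
    have hNH : N ≤ H := by
      refine inf_eq_left.1 (Subgroup.eq_of_le_of_card_ge inf_le_left (le_of_eq_of_le hN12 ?_))
      refine Nat.le_of_dvd Nat.card_pos ?_
      haveI : Fact (Nat.Prime 3) := ⟨Nat.prime_three⟩
      refine Nat.Coprime.mul_dvd_of_dvd_of_dvd (m := 4) (n := 3) (by norm_num) ?_ ?_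
      · rw [← hW.card_four]
        exact Subgroup.card_dvd_of_le (le_inf Subgroup.le_normalizer hWH)
      · have h := orderOf_dvd_natCard (⟨φ b', hbN, hφH _⟩ : ↥(N ⊓ H))
        rw [← Subgroup.orderOf_coe] at h
        change orderOf (φ b') ∣ _ at h
        rwa [orderOf_injective φ hφ, orderOf_eq_prime hb' hb1'] at h
    obtain ⟨g, hg'⟩ := SL2Two.klein_conj_of_three_five h8 W V hW hV
    have hMH : M ≤ H.map (MulAut.conj g).toMonoidHom := by
      rw [hMV, hg']
      have hcardN : Nat.card (N.map (MulAut.conj g).toMonoidHom) = 12 := by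
        rw [Subgroup.card_map_of_injective (MulAut.conj g).injective, hN12]
      have heqN := Subgroup.eq_of_le_of_card_ge (Subgroup.le_normalizer_map (H := W) (MulAut.conj g).toMonoidHom) (by
        rw [hcardN, Dickson.card_nz_three_five h8 (V := W.map (MulAut.conj g).toMonoidHom) (hg' ▸ hV)])
      rw [← heqN]
      exact Subgroup.map_mono hNH
    have hcH : Nat.card (H.map (MulAut.conj g).toMonoidHom) = 60 := by
      rw [Subgroup.card_map_of_injective (MulAut.conj g).injective, hH60]
    rcases hMH.eq_or_lt with e | e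
    · rw [← e, hM12] at hcH; omega
    · rw [hM.2 _ e, Subgroup.card_top] at hcH
      have := hGlow 11 (by omega)
      omega
  · -- octahedral subgroups
    obtain ⟨a, c, ha, ha1, hc, hc1, hac, hne, -, -, hg⟩ := Dickson.perm_four_klein
    obtain ⟨V, hV, -, hle, -⟩ := Dickson.klein_of_pair (eM.trans f) ha ha1 hc hc1 hac hne hg
    have hMV := hMN V hV hle
    have hM24 : Nat.card M = 24 := by
      rw [Nat.card_congr (eM.trans f).toEquiv, Nat.card_perm, Nat.card_fin]; rfl
    have h8 : Fintype.card F % 8 = 1 ∨ Fintype.card F % 8 = 7 := by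
      by_contra hne8
      have h := Dickson.card_nz_three_five (F := F) (by omega) hV
      rw [← hMV, hM24] at h
      omega
    obtain ⟨L, j, hL, hLc, hqL, hj⟩ := Dickson.exists_prime_sub (F := F) p
    obtain ⟨V₀, hV₀, -, h24, h24'⟩ := Dickson.exists_klein_sub h2 hL
    obtain ⟨d, hd', hdV⟩ := Dickson.klein_conj h2 V V₀ hV hV₀
    have hc0 : Nat.card ↥(Dickson.pslF F ⊓ Subgroup.normalizer
        ((V₀.map Dickson.emb : Subgroup (PGL(2, AlgebraicClosure F))) : Set (PGL(2, AlgebraicClosure F)))) = 24 := by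
      rw [Dickson.card_nz, SL2Two.card_normalizer_klein h2 h8 V₀ hV₀]
    have hle0 : (M.map Dickson.emb).map (MulAut.conj d).toMonoidHom ≤ Dickson.pslF F ⊓ Subgroup.normalizer
        ((V₀.map Dickson.emb : Subgroup (PGL(2, AlgebraicClosure F))) : Set (PGL(2, AlgebraicClosure F))) := by
      refine le_inf ((Subgroup.map_mono hmax.1).trans (Dickson.conj_pslF hd').le) ?_
      rw [← hdV, hMV]
      exact (Subgroup.map_mono (Subgroup.le_normalizer_map _)).trans (Subgroup.le_normalizer_map _)
    have hcM : Nat.card ((M.map Dickson.emb).map (MulAut.conj d).toMonoidHom) = 24 := by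
      rw [Subgroup.card_map_of_injective (MulAut.conj d).injective, hMc, hM24]
    haveI : Finite ↥(Dickson.pslF F ⊓ Subgroup.normalizer
        ((V₀.map Dickson.emb : Subgroup (PGL(2, AlgebraicClosure F))) : Set (PGL(2, AlgebraicClosure F)))) :=
      Finite.of_injective _ (Subgroup.inclusion_injective inf_le_left)
    have heq := Subgroup.eq_of_le_of_card_ge hle0 (le_of_eq (hc0.trans hcM.symm))
    have hpodd : p % 2 = 1 := by
      rw [hn, ← Nat.odd_iff, Nat.odd_pow_iff n.ne_zero, Nat.odd_iff] at hqodd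
      exact hqodd
    have hsub : (M.map Dickson.emb).map (MulAut.conj d).toMonoidHom ≤ Dickson.subPGL L := by
      rw [heq]
      have hbig : 24 ≤ Nat.card ↥(Dickson.subPGL L ⊓ Dickson.pslF F ⊓ Subgroup.normalizer
          ((V₀.map Dickson.emb : Subgroup (PGL(2, AlgebraicClosure F))) : Set (PGL(2, AlgebraicClosure F)))) := by
        rcases Nat.even_or_odd j with he | ho
        · rw [(Dickson.card_sub_inf_pslF hL hqL).1 (Or.inr he)]
          exact h24
        · refine h24' ?_
          rw [hLc]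
          obtain ⟨i, rfl⟩ := ho
          rw [hqL, hLc, pow_succ, pow_mul] at h8
          have h1 : p ^ 2 % 8 = 1 := by
            rw [Nat.pow_mod]
            rcases (show p % 8 = 1 ∨ p % 8 = 3 ∨ p % 8 = 5 ∨ p % 8 = 7 by omega) with e | e | e | e <;> rw [e]
          rw [Nat.mul_mod, Nat.pow_mod, h1, one_pow] at h8
          simpa using h8
      have h' := Subgroup.eq_of_le_of_card_ge
        (show Dickson.subPGL L ⊓ Dickson.pslF F ⊓ Subgroup.normalizer
          ((V₀.map Dickson.emb : Subgroup (PGL(2, AlgebraicClosure F))) : Set (PGL(2, AlgebraicClosure F))) ≤ _ from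
          inf_le_inf_right _ inf_le_right) (hc0.le.trans hbig)
      exact h'.ge.trans (inf_le_left.trans inf_le_left)
    have hj1 : j = 1 := Dickson.eq_one_of_small (Dickson.isMax_conj hmax (Dickson.conj_pslF hd')) hL hj hqL hsub (by
      rw [hcM, hLc]
      have hp5' : 5 ≤ p := by
        have := hpp.two_le
        omega
      have : 24 ≤ p ^ 2 - 1 := by
        have : 25 ≤ p ^ 2 := Nat.pow_le_pow_left hp5' 2
        omega
      nlinarith)
    have hqp : Fintype.card F = p := by rw [hqL, hLc, hj1, pow_one]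
    exact Or.inr (Or.inr (Or.inr (Or.inr (Or.inr (Or.inr (Or.inr ⟨hqp, by omega, hiso f⟩))))))
  · -- icosahedral subgroups
    have h5q : 5 ∣ Fintype.card F ^ 2 - 1 := by
      rw [hd] at h5d
      have hsq : Fintype.card F ^ 2 - 1 = (Fintype.card F + 1) * (Fintype.card F - 1) := by
        simpa using Nat.sq_sub_sq (Fintype.card F) 1
      rw [hsq]
      rcases h5d with e | e
      · exact Dvd.dvd.mul_left (e.trans (Nat.div_dvd_of_dvd (by omega))) _
      · exact Dvd.dvd.mul_right (e.trans (Nat.div_dvd_of_dvd (by omega))) _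
    obtain ⟨g⟩ := hiso f
    have h := Dickson.icosa_field p hp2 hp5 h5q hM g
    refine Or.inr (Or.inr (Or.inr (Or.inr (Or.inr (Or.inl ⟨?_, ?_, ⟨g⟩⟩)))))
    · rcases h with ⟨e, h'⟩ | ⟨e, h'⟩
      · omega
      · rw [e, Nat.pow_mod]
        rcases h' with h' | h' <;> rw [h'] <;> simp
    · exact h.imp (fun e => e.1) id
  · -- subfield subgroups
    haveI := Dickson.finite_of_le hK
    haveI := Fintype.ofFinite K₀
    obtain ⟨F₀, i1, i2, ⟨σ⟩, hc0⟩ := Dickson.exists_type_field K₀
    have hrodd : Odd (Nat.card K₀) := (Nat.odd_pow_iff hm.ne_zero).1 (hq ▸ hodd)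
    have hMK : Nat.card (M.map Dickson.emb) = Nat.card ↥(Dickson.subPGL K₀ ⊓ Dickson.pslF F) := by
      rw [← hle]; exact (Subgroup.card_map_of_injective (MulAut.conj c).injective).symm
    have hne : Nat.card K₀ * (Nat.card K₀ ^ 2 - 1) ≠ 0 := by
      have : 9 ≤ Nat.card K₀ ^ 2 := Nat.pow_le_pow_left h3 2
      exact Nat.mul_ne_zero (by omega) (by omega)
    obtain ⟨hev, hod⟩ := Dickson.card_sub_inf_pslF hK hq
    rcases hcase with ⟨hh, ⟨f⟩⟩ | ⟨-, hh, ⟨f⟩⟩
    · have hm2 : m = 2 := by
        refine hm.eq_two_or_odd'.resolve_right fun ho => ?_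
        have := hod hrodd ho
        rw [← hMK, hh] at this
        omega
      refine Or.inr (Or.inr (Or.inr (Or.inl ⟨F₀, i1, i2, ?_, ⟨(eM.trans f).trans (Dickson.pgl_congr σ).some⟩⟩)))
      rw [hc0, hq, hm2]
    · have hmo : Odd m := by
        refine Nat.not_even_iff_odd.1 fun he => ?_
        rw [hev (Or.inr he), Dickson.card_subPGL K₀] at hMK
        rw [hMK] at hh
        omega
      refine Or.inr (Or.inr (Or.inr (Or.inr (Or.inl ⟨F₀, i1, i2, m, hm, hmo, ?_,
        ⟨(eM.trans f).trans (psl_congr σ).some⟩⟩))))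
      rw [hc0, hq]

end Cfsg.Agent.S5892
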