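import Cfsg.Statements.S5893
import Cfsg.Agent.Lib.Classical.DicksonTools
import Cfsg.Agent.Lib.Classical.SL2Two

set_option autoImplicit false
open Cfsg

open Cfsg.Agent.Classical
open scoped MatrixGroups Classical

namespace Cfsg.Agent.S5893

/-- Let F be a finite field of even order q ≥ 4 and let M be a maximal subgroup of PSL₂(F) (= SL₂(F) = PGL₂(F)). Then one of the following holds: |M| = q(q − 1) (the stabiliser of a point of the projective line, elementary abelian of order q extended by a cyclic group of order q − 1); M is dihedral of order 2(q − 1); M is dihedral of order 2(q + 1); or q = q₀^r for a prime r with q₀ ≠ 2 and M ≅ PSL₂(F₀) with |F₀| = q₀. -/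
theorem result {F : Type*} [Field F] [Fintype F]
    (heven : Even (Fintype.card F)) (h4 : 4 ≤ Fintype.card F) (M : Subgroup (Matrix.ProjectiveSpecialLinearGroup (Fin 2) F)) (hM : IsCoatom M) :
    Nat.card M = Fintype.card F * (Fintype.card F - 1) ∨
    Nonempty (M ≃* DihedralGroup (Fintype.card F - 1)) ∨
    Nonempty (M ≃* DihedralGroup (Fintype.card F + 1)) ∨
    (∃ (F₀ : Type) (_ : Field F₀) (_ : Fintype F₀) (r : ℕ), r.Prime ∧ Fintype.card F₀ ≠ 2 ∧
        Fintype.card F = Fintype.card F₀ ^ r ∧ Nonempty (M ≃* Matrix.ProjectiveSpecialLinearGroup (Fin 2) F₀)) := by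
  obtain ⟨p, hp⟩ := CharP.exists F
  obtain ⟨s, hpp, hs⟩ := FiniteField.card F p
  haveI : Fact p.Prime := ⟨hpp⟩
  have hp2 : p = 2 := ((Nat.prime_dvd_prime_iff_eq Nat.prime_two hpp).1
    (Nat.prime_two.dvd_of_dvd_pow (hs ▸ even_iff_two_dvd.1 heven))).symm
  obtain ⟨hmax, hnot, hcard, ⟨eM⟩⟩ := Dickson.psl_max hM
  have hd : Nat.gcd 2 (Fintype.card F - 1) = 1 := by
    have := Nat.even_iff.1 heven
    rcases (Nat.dvd_prime Nat.prime_two).1 (Nat.gcd_dvd_left 2 (Fintype.card F - 1)) with h | h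
    · exact h
    · have h' := Nat.gcd_dvd_right 2 (Fintype.card F - 1)
      rw [h] at h'
      omega
  rcases Dickson.max_cases p (Dickson.pslF_le F) le_rfl (fun c hc => Dickson.conj_pslF hc)
    (Dickson.ambient_pslF (F := F)) h4 hmax hnot with ⟨x, -, -, h⟩ | ⟨k, hk, -, ⟨e⟩⟩ | ⟨h, -⟩ | ⟨h, -⟩ | ⟨h, -⟩ |
    ⟨K₀, c, m, hc, hK, h3, hm, hq, -, h⟩
  · left
    rw [← hcard, h, hd, Nat.div_one]
  · rw [hd, Nat.div_one, Nat.div_one] at hk
    rcases hk with rfl | rfl
    · exact Or.inr (Or.inl ⟨eM.trans e⟩)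
    · exact Or.inr (Or.inr (Or.inl ⟨eM.trans e⟩))
  · exact absurd hp2 h
  · exact absurd hp2 h
  · exact absurd hp2 h
  · right; right; right
    have hKeven : Even (Nat.card K₀) := by
      by_contra hodd
      rw [Nat.not_even_iff_odd] at hodd
      exact Nat.not_even_iff_odd.2 (hodd.pow (n := m)) (hq ▸ heven)
    haveI := Dickson.finite_of_le hK
    haveI := Fintype.ofFinite K₀
    obtain ⟨F₀, i1, i2, ⟨σ⟩, hc0⟩ := Dickson.exists_type_field K₀
    refine ⟨F₀, i1, i2, m, hm, by omega, by rw [hc0]; exact hq, ?_⟩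
    rcases h with ⟨-, ⟨e⟩⟩ | ⟨hodd, -⟩
    · haveI : Finite (PGL(2, K₀)) := Finite.of_surjective _ Matrix.ProjGenLinGroup.mk_surjective
      refine ⟨(eM.trans e).trans (MulEquiv.trans ?_ (psl_congr σ).some)⟩
      refine (MulEquiv.ofBijective Matrix.ProjectiveSpecialLinearGroup.toPGL
        ((Nat.bijective_iff_injective_and_card _).2
          ⟨Matrix.ProjectiveSpecialLinearGroup.toPGL_injective, ?_⟩)).symm
      have h := SL2.card_PSL2_mul (F := K₀)
      rw [Dickson.card_PGL2, ← h]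
      have hd0 : Nat.gcd 2 (Fintype.card K₀ - 1) = 1 := by
        rw [Nat.card_eq_fintype_card] at hKeven h3
        rw [Nat.even_iff] at hKeven
        rcases (Nat.dvd_prime Nat.prime_two).1 (Nat.gcd_dvd_left 2 (Fintype.card K₀ - 1)) with h | h
        · exact h
        · have h' := Nat.gcd_dvd_right 2 (Fintype.card K₀ - 1)
          rw [h] at h'
          omega
      rw [hd0, one_mul]
    · exact absurd hKeven (Nat.not_even_iff_odd.2 hodd)

end Cfsg.Agent.S5893
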