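import Cfsg.Statements.S5894
import Cfsg.Agent.Lib.Classical.PartitionStab

set_option autoImplicit false
open Cfsg

namespace Cfsg.Agent.S5894

open MulAction
open scoped Pointwise


/-- For every m ≥ 2 the symmetric group on 2m letters has a maximal subgroup M of index 2m together with a maximal subgroup H of M that is not second maximal: some maximal subgroup K of the symmetric group contains H without H being maximal in K. (One may take M the stabiliser of a letter, H ≅ S_m × S_{m−1} inside it, and K ≅ S_m ≀ S₂ the stabiliser of a partition into two m-sets, with H < S_m × S_m < K.) So the prime-index hypothesis in the second-maximality criterion cannot be relaxed to any even index ≥ 4. -/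
theorem result (m : ℕ) (hm : 2 ≤ m) :
    ∃ M H K : Subgroup (Equiv.Perm (Fin (2 * m))), IsCoatom M ∧ M.index = 2 * m ∧ H ≤ M ∧ IsCoatom (H.subgroupOf M) ∧
      IsCoatom K ∧ H ≤ K ∧ ¬ IsCoatom (H.subgroupOf K) := by
  classical
  set α := Fin (2 * m)
  let a : α := ⟨0, by omega⟩
  have hcard : Fintype.card α = 2 * m := Fintype.card_fin _
  let M := stabilizer (Equiv.Perm α) a
  have hM : IsCoatom M := by
    have := Equiv.Perm.isCoatom_stabilizer (s := ({a} : Set α)) (Set.singleton_nonempty a) ⟨⟨1, by omega⟩, fun h => absurd (congrArg Fin.val (Set.mem_singleton_iff.1 h)) one_ne_zero⟩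
      (by rw [Nat.card_eq_fintype_card, hcard, Set.ncard_singleton]; omega)
    rwa [MulAction.stabilizer_singleton] at this
  -- the point stabiliser is the symmetric group on the other points
  let β := {x : α // x ≠ a}
  let φ : Equiv.Perm β →* Equiv.Perm α := Equiv.Perm.ofSubtype
  have hφ : Function.Injective φ := Equiv.Perm.ofSubtype_injective
  have hrange : φ.range = M := by
    ext g
    constructor
    · rintro ⟨h, rfl⟩
      exact Equiv.Perm.ofSubtype_apply_of_not_mem h (by simp)
    · intro hg
      have h' : ∀ x, x ≠ a ↔ g x ≠ a := fun x => by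
        have hga : g a = a := hg
        conv_rhs => rw [← hga]
        exact g.injective.ne_iff.symm
      refine ⟨g.subtypePerm fun x => (h' x).symm, Equiv.Perm.ofSubtype_subtypePerm _ fun x hx e => ?_⟩
      subst e
      exact hx hg
  let f : α → Fin 2 := fun x => if (x : ℕ) < m then 0 else 1
  have hf : ∀ i : Fin 2, Nat.card {x : α // f x = i} = m := by
    have h0 : Nat.card {x : α // f x = 0} = m := by
      rw [Nat.card_congr (β := Fin m)
        { toFun := fun x => ⟨x.1, by
            have := x.2
            simp only [f] at this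
            split_ifs at this with h
            · exact h
            · exact absurd this (by decide)⟩
          invFun := fun x => ⟨⟨x, by omega⟩, by simp [f]⟩
          left_inv := fun x => rfl
          right_inv := fun x => rfl }, Nat.card_fin]
    have hsum := Nat.card_congr (Equiv.sigmaFiberEquiv f)
    rw [Nat.card_sigma, Fin.sum_univ_two, h0, Nat.card_eq_fintype_card (α := α), hcard] at hsum
    rw [Fin.forall_fin_two]
    exact ⟨h0, by omega⟩
  let O : Set α := {x | f x = 0}
  let O' : Set β := {x | f x.1 = 0}
  have hP : IsCoatom (stabilizer (Equiv.Perm β) O') := by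
    have hc : O'.ncard = m - 1 := by
      have h1 : (Subtype.val '' O') = O \ {a} := by
        ext x; simp [O, O', β, and_comm]
      have h2 := Set.ncard_image_of_injective O' (Subtype.val_injective (p := fun x => x ≠ a))
      rw [h1, Set.ncard_diff_singleton_of_mem (show a ∈ O by simp [O, f, a]; omega)] at h2
      rw [← h2, ← Nat.card_coe_set_eq]
      exact congrArg (· - 1) (hf 0)
    have hb : Nat.card β = 2 * m - 1 := by
      rw [Nat.card_eq_fintype_card, Fintype.card_subtype_compl, hcard, Fintype.card_subtype_eq]
    have := Set.ncard_add_ncard_compl O'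
    refine Equiv.Perm.isCoatom_stabilizer ?_ ?_ (by omega) <;> rw [← Set.ncard_pos] <;> omega
  let H := (stabilizer (Equiv.Perm β) O').map φ
  let K := Classical.partStab f
  have hOO : ∀ g ∈ H, g ∈ stabilizer (Equiv.Perm α) O := by
    rintro g ⟨h, hh, rfl⟩
    refine mem_stabilizer_set.2 fun x => ?_
    by_cases hx : x = a
    · subst hx
      show φ h a ∈ O ↔ _
      rw [show φ h a = a from Equiv.Perm.ofSubtype_apply_of_not_mem h (by simp)]
    · show φ h x ∈ O ↔ _
      rw [show φ h x = (h ⟨x, hx⟩ : α) from Equiv.Perm.ofSubtype_apply_of_mem h hx]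
      exact (mem_stabilizer_set.1 hh) ⟨x, hx⟩
  have hOK : stabilizer (Equiv.Perm α) O ≤ K := by
    intro g hg x y
    have key : ∀ z, (f (g z) = 0 ↔ f z = 0) := fun z => (mem_stabilizer_set.1 hg) z
    have h2 : ∀ i j : Fin 2, (i = j ↔ (i = 0 ↔ j = 0)) := by decide
    rw [h2 (f x), h2 (f (g x)), key, key]
  refine ⟨M, H, K, hM, ?_, hrange ▸ Subgroup.map_le_range φ _, ?_, Classical.isCoatom_partStab f hm (by simp) hf,
    fun g hg => hOK (hOO g hg), ?_⟩
  · rw [MulAction.index_stabilizer_of_transitive _ a, Nat.card_eq_fintype_card, hcard]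
  · let e : Equiv.Perm β ≃* M := (MonoidHom.ofInjective hφ).trans (MulEquiv.subgroupCongr hrange)
    have : H.subgroupOf M = e.mapSubgroup (stabilizer (Equiv.Perm β) O') := by
      ext ⟨g, hg⟩
      constructor
      · rintro ⟨h, hh, he⟩
        exact ⟨h, hh, Subtype.ext he⟩
      · rintro ⟨h, hh, he⟩
        exact ⟨h, hh, congrArg Subtype.val he⟩
    rw [this]
    exact (e.mapSubgroup).isCoatom_iff _ |>.2 hP
  · intro hco
    let a' : α := ⟨m, by omega⟩
    let b : α := ⟨1, by omega⟩
    have hb : b ∈ O := by simp [O, f, b]; omega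
    have ha : a ∈ O := by simp [O, f, a]; omega
    have hswap : Equiv.swap a b ∈ stabilizer (Equiv.Perm α) O := by
      refine mem_stabilizer_set.2 fun x => ?_
      show Equiv.swap a b x ∈ O ↔ _
      rcases eq_or_ne x a with rfl | h1
      · rw [Equiv.swap_apply_left]; exact iff_of_true hb ha
      rcases eq_or_ne x b with rfl | h2
      · rw [Equiv.swap_apply_right]; exact iff_of_true ha hb
      rw [Equiv.swap_apply_of_ne_of_ne h1 h2]
    have hlt : H.subgroupOf K < (stabilizer (Equiv.Perm α) O).subgroupOf K := by
      rw [SetLike.lt_iff_le_and_exists]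
      refine ⟨fun g hg => hOO _ hg, ⟨⟨Equiv.swap a b, hOK hswap⟩, hswap, ?_⟩⟩
      intro hH
      have h' : Equiv.swap a b a = a := (hrange ▸ Subgroup.map_le_range φ _) hH
      rw [Equiv.swap_apply_left] at h'
      exact absurd (congrArg Fin.val h') one_ne_zero
    have htop := Subgroup.subgroupOf_eq_top.1 (hco.2 _ hlt)
    obtain ⟨g, hg, hga, -⟩ := Classical.exists_partStab_move f hf (y := a) (z := a')
    have := (mem_stabilizer_set.1 (htop hg) a).2 ha
    have h' : g a ∈ O := this
    rw [hga] at h'
    simp [O, f, a'] at h'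

end Cfsg.Agent.S5894
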