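import Cfsg.Statements.S5895
import Cfsg.Agent.Lib.Classical.Transvec

set_option autoImplicit false
open Cfsg

namespace Cfsg.Agent.S5895

open MulAction

/-- Linear automorphisms mapping the subspace into itself and back. -/
def setStab {K V : Type*} [Field K] [AddCommGroup V] [Module K V] (W : Submodule K V) : Subgroup (V ≃ₗ[K] V) where
  carrier := {e | ∀ x, x ∈ W ↔ e x ∈ W}
  mul_mem' {a b} ha hb := fun x => (hb x).trans (ha _)
  one_mem' := fun _ => Iff.rfl
  inv_mem' {a} ha := fun x => by
    have := ha (a⁻¹ x)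
    rw [show a (a⁻¹ x) = x from a.apply_symm_apply x] at this
    exact this.symm

theorem isCoatom_setStab {K V : Type*} [Field K] [AddCommGroup V] [Module K V] [FiniteDimensional K V]
    {v : V} (hv : v ≠ 0) {w : V} (hw : w ∉ Submodule.span K {v}) : IsCoatom (setStab (Submodule.span K {v})) := by
  set ℓ := Submodule.span K {v}
  have hvl : v ∈ ℓ := Submodule.mem_span_singleton_self v
  have hsuff : ∀ e : V ≃ₗ[K] V, e v ∈ ℓ → e ∈ setStab ℓ := by
    intro e he x
    obtain ⟨c, hc⟩ := Submodule.mem_span_singleton.1 he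
    constructor
    · intro hx
      obtain ⟨b, rfl⟩ := Submodule.mem_span_singleton.1 hx
      rw [map_smul, ← hc]
      exact ℓ.smul_mem _ (ℓ.smul_mem _ hvl)
    · intro hx
      obtain ⟨b, hb⟩ := Submodule.mem_span_singleton.1 hx
      have hc0 : c ≠ 0 := by
        rintro rfl
        rw [zero_smul, eq_comm, map_eq_zero_iff e e.injective] at hc
        exact hv hc
      have : e x = e ((b / c) • v) := by
        rw [map_smul, ← hc, smul_smul, div_mul_cancel₀ b hc0, hb]
      rw [e.injective this]
      exact ℓ.smul_mem _ hvl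
  constructor
  · intro h
    have hw0 : w ≠ 0 := fun e => hw (e ▸ ℓ.zero_mem)
    have hvw : v ∉ Submodule.span K {w} := by
      intro hmem
      obtain ⟨c, hc⟩ := Submodule.mem_span_singleton.1 hmem
      have hc0 : c ≠ 0 := by rintro rfl; exact hv (by simpa using hc.symm)
      exact hw ((Submodule.smul_mem_iff ℓ hc0).1 (hc ▸ hvl))
    have hvw' : v + w ∉ Submodule.span K {w} := fun hmem =>
      hvw (by simpa using Submodule.sub_mem _ hmem (Submodule.mem_span_singleton_self w))
    obtain ⟨T, -, hT⟩ := Classical.exists_equiv_fix hvw hvw'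
    have : T ∈ setStab ℓ := h ▸ Subgroup.mem_top T
    have h1 := (this v).1 hvl
    rw [hT] at h1
    exact hw (by simpa using ℓ.sub_mem h1 hvl)
  · intro L hL
    obtain ⟨g, hgL, hg⟩ := SetLike.exists_of_lt hL
    have hgv : g v ∉ ℓ := fun h => hg (hsuff g h)
    refine (Subgroup.eq_top_iff' L).2 fun k => ?_
    by_cases hk : k v ∈ ℓ
    · exact hL.le (hsuff k hk)
    obtain ⟨T, hTv, hT⟩ := Classical.exists_equiv_fix hgv hk
    have hTL : T ∈ L := hL.le (hsuff T (by rw [hTv]; exact hvl))
    have hfix : (T * g)⁻¹ * k ∈ L := hL.le (hsuff _ (by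
      show (T * g).symm (k v) ∈ ℓ
      have e : (T * g) v = k v := hT
      rw [← e, LinearEquiv.symm_apply_apply]
      exact hvl))
    have := L.mul_mem (L.mul_mem hTL hgL) hfix
    rwa [mul_inv_cancel_left] at this


/-- For every prime p and every d ≥ 2 there is a finite group G with a maximal subgroup M of index p^d and a maximal subgroup H of M that is not second maximal in G: some maximal subgroup K of G contains H without H being maximal in K. (One may take G the affine group V ⋊ GL(V) of V = 𝔽_p^d, M = GL(V), H the stabiliser in M of a line W of V, and K = V ⋊ H, with H < W ⋊ H < K.) So the prime-index hypothesis in the second-maximality criterion cannot be relaxed to prime-power index. -/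
theorem result (p d : ℕ) (hp : p.Prime)
    (hd : 2 ≤ d) :
    ∃ (G : Type) (_ : Group G) (_ : Finite G) (M H K : Subgroup G), IsCoatom M ∧ M.index = p ^ d ∧ H ≤ M ∧
      IsCoatom (H.subgroupOf M) ∧ IsCoatom K ∧ H ≤ K ∧ ¬ IsCoatom (H.subgroupOf K) := by
  have := Fact.mk hp
  let V := Fin d → ZMod p
  let A := V ≃ᵃ[ZMod p] V
  have : Finite A := Finite.of_injective (fun e : A => (e : V → V)) DFunLike.coe_injective
  let ψ : A →* Equiv.Perm V := { toFun := fun e => e.toEquiv, map_one' := rfl, map_mul' := fun _ _ => rfl }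
  letI : MulAction A V := MulAction.compHom V ψ
  let lin : A →* (V ≃ₗ[ZMod p] V) := AffineEquiv.linearHom
  let o : V := 0
  have hlin : ∀ T : V ≃ₗ[ZMod p] V, lin T.toAffineEquiv = T := fun T => rfl
  have hlinsurj : Function.Surjective lin := fun T => ⟨T.toAffineEquiv, hlin T⟩
  let v : V := Pi.single ⟨0, by omega⟩ 1
  let w : V := Pi.single ⟨1, by omega⟩ 1
  have hv : v ≠ 0 := fun h => one_ne_zero (α := ZMod p) (by
    have := congrFun h ⟨0, by omega⟩
    simp only [v] at this
    rwa [Pi.single_eq_same, Pi.zero_apply] at this)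
  set ℓ := Submodule.span (ZMod p) {v}
  have hw : w ∉ ℓ := by
    intro h
    obtain ⟨c, hc⟩ := Submodule.mem_span_singleton.1 h
    have := congrFun hc ⟨1, by omega⟩
    have h10 : (⟨1, by omega⟩ : Fin d) ≠ ⟨0, by omega⟩ := fun e => one_ne_zero (congrArg Fin.val e)
    have h1 : c * v ⟨1, by omega⟩ = w ⟨1, by omega⟩ := this
    simp only [v, w, Pi.single_eq_of_ne h10, Pi.single_eq_same, mul_zero] at h1
    exact zero_ne_one h1
  have hP : IsCoatom (setStab ℓ) := isCoatom_setStab hv hw
  have htrans : IsPretransitive A V := ⟨fun x y => ⟨AffineEquiv.constVAdd (ZMod p) V (y - x), by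
    show (y - x) + x = y
    abel⟩⟩
  let M : Subgroup A := stabilizer A o
  have hM : IsCoatom M := by
    refine ⟨fun h => ?_, fun L hL => ?_⟩
    · have : AffineEquiv.constVAdd (ZMod p) V v ∈ M := h ▸ Subgroup.mem_top _
      have h' : v + o = o := this
      exact hv (by simpa [o] using h')
    · obtain ⟨g, hgL, hg⟩ := SetLike.exists_of_lt hL
      refine (Subgroup.eq_top_iff' L).2 fun k => ?_
      suffices ∃ l ∈ L, l o = k o by
        obtain ⟨l, hl, hlo⟩ := this
        have hmem : l⁻¹ * k ∈ L := hL.le (by
          show l.symm (k o) = o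
          rw [← hlo, AffineEquiv.symm_apply_apply])
        have := L.mul_mem hl hmem
        rwa [mul_inv_cancel_left] at this
      by_cases hk : k o = o
      · exact ⟨1, L.one_mem, hk.symm⟩
      have h1 : g o ∉ Submodule.span (ZMod p) {(0 : V)} := by
        simp only [Submodule.span_zero_singleton, Submodule.mem_bot]; exact hg
      have h2 : k o ∉ Submodule.span (ZMod p) {(0 : V)} := by
        simp only [Submodule.span_zero_singleton, Submodule.mem_bot]; exact hk
      obtain ⟨T, -, hT⟩ := Classical.exists_equiv_fix h1 h2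
      have hTM : T.toAffineEquiv ∈ M := map_zero T
      exact ⟨T.toAffineEquiv * g, L.mul_mem (hL.le hTM) hgL, hT⟩
  refine ⟨A, inferInstance, inferInstance, M, (setStab ℓ).comap lin ⊓ M, (setStab ℓ).comap lin, hM, ?_,
    inf_le_right, ?_, Subgroup.isCoatom_comap_of_surjective hlinsurj hP, inf_le_left, ?_⟩
  · rw [MulAction.index_stabilizer_of_transitive A o, Nat.card_fun, Nat.card_zmod, Nat.card_fin]
  · have hs : Function.Surjective (lin.comp M.subtype) := fun T =>
      ⟨⟨T.toAffineEquiv, map_zero T⟩, hlin T⟩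
    have := Subgroup.isCoatom_comap_of_surjective hs hP
    rwa [Subgroup.inf_subgroupOf_right]
  · intro hco
    let S : Subgroup A :=
      { carrier := {e | e ∈ (setStab ℓ).comap lin ∧ e o ∈ ℓ}
        one_mem' := ⟨Subgroup.one_mem _, ℓ.zero_mem⟩
        mul_mem' := by
          rintro a b ⟨ha, ha'⟩ ⟨hb, hb'⟩
          refine ⟨Subgroup.mul_mem _ ha hb, ?_⟩
          show a (b o) ∈ ℓ
          have h := a.map_vadd o (b o)
          have e1 : b o +ᵥ o = b o := add_zero _
          rw [e1] at h
          rw [h]
          exact ℓ.add_mem ((ha (b o)).1 hb') ha'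
        inv_mem' := by
          rintro a ⟨ha, ha'⟩
          refine ⟨Subgroup.inv_mem _ ha, ?_⟩
          show a.symm o ∈ ℓ
          have h := a.map_vadd o (a.symm o)
          have e1 : a.symm o +ᵥ o = a.symm o := add_zero _
          rw [e1, AffineEquiv.apply_symm_apply] at h
          have h' : a.linear (a.symm o) = - a o := eq_neg_of_add_eq_zero_left h.symm
          refine (ha _).2 ?_
          show a.linear (a.symm o) ∈ ℓ
          rw [h']; exact ℓ.neg_mem ha' }
    have hHS : ((setStab ℓ).comap lin ⊓ M).subgroupOf ((setStab ℓ).comap lin) <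
        S.subgroupOf ((setStab ℓ).comap lin) := by
      rw [SetLike.lt_iff_le_and_exists]
      refine ⟨fun e he => ⟨e.2, ?_⟩, ⟨⟨AffineEquiv.constVAdd (ZMod p) V v, ?_⟩, ?_, ?_⟩⟩
      · have h' : e.1 o = o := he.2
        show e.1 o ∈ ℓ
        rw [h']; exact ℓ.zero_mem
      · exact fun x => Iff.rfl
      · exact ⟨fun x => Iff.rfl, by show v + o ∈ ℓ; simp [o, ℓ, Submodule.mem_span_singleton_self]⟩
      · intro he
        have h' : v + o = o := he.2
        exact hv (by simpa [o] using h')
    have htop := Subgroup.subgroupOf_eq_top.1 (hco.2 _ hHS)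
    have : AffineEquiv.constVAdd (ZMod p) V w ∈ S := htop (fun x => Iff.rfl)
    have h' : w + o ∈ ℓ := this.2
    exact hw (by simpa [o] using h')

end Cfsg.Agent.S5895
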