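import Cfsg.Statements.S5896
import Mathlib

set_option autoImplicit false
open Cfsg

namespace Cfsg.Agent.S5896

open Matrix

instance fact_five : Fact (Nat.Prime 5) := ⟨by norm_num⟩

variable {k : ℕ}

local notation "R5" => ZMod (5 ^ k)
local notation "SL5" => Matrix.SpecialLinearGroup (Fin 2) (ZMod (5 ^ k))

instance neZero_five_pow : NeZero (5 ^ k) := ⟨pow_ne_zero k (by norm_num)⟩

def u (x : R5) : SL5 := ⟨!![1, x; 0, 1], by simp [Matrix.det_fin_two]⟩

def l (x : R5) : SL5 := ⟨!![1, 0; x, 1], by simp [Matrix.det_fin_two]⟩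

def h (t : (R5)ˣ) : SL5 := ⟨!![(t : R5), 0; 0, ((t⁻¹ : (R5)ˣ) : R5)], by simp [Matrix.det_fin_two]⟩

@[simp] theorem u_coe (x : R5) : ((u x : SL5) : Matrix (Fin 2) (Fin 2) R5) = !![1, x; 0, 1] := rfl

@[simp] theorem l_coe (x : R5) : ((l x : SL5) : Matrix (Fin 2) (Fin 2) R5) = !![1, 0; x, 1] := rfl

@[simp] theorem h_coe (t : (R5)ˣ) :
    ((h t : SL5) : Matrix (Fin 2) (Fin 2) R5) = !![(t : R5), 0; 0, ((t⁻¹ : (R5)ˣ) : R5)] := rfl

theorem u_mul (x y : R5) : u x * u y = u (x + y) := by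
  ext i j
  fin_cases i <;> fin_cases j <;> simp [Matrix.mul_apply, Fin.sum_univ_two, add_comm]

theorem l_mul (x y : R5) : l x * l y = l (x + y) := by
  ext i j
  fin_cases i <;> fin_cases j <;> simp [Matrix.mul_apply, Fin.sum_univ_two]

theorem u_zero : u (0 : R5) = 1 := by
  ext i j
  fin_cases i <;> fin_cases j <;> simp

theorem l_zero : l (0 : R5) = 1 := by
  ext i j
  fin_cases i <;> fin_cases j <;> simp

theorem u_inv (x : R5) : (u x)⁻¹ = u (-x) :=
  inv_eq_of_mul_eq_one_right (by rw [u_mul, add_neg_cancel, u_zero])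

theorem l_inv (x : R5) : (l x)⁻¹ = l (-x) :=
  inv_eq_of_mul_eq_one_right (by rw [l_mul, add_neg_cancel, l_zero])

theorem l_pow (x : R5) (n : ℕ) : l x ^ n = l ((n : R5) * x) := by
  induction n with
  | zero => simp [l_zero]
  | succ n ih => rw [pow_succ, ih, l_mul, Nat.cast_succ, add_mul, one_mul]

theorem comm_h_u (t : (R5)ˣ) (x : R5) :
    h t * u x * (h t)⁻¹ * (u x)⁻¹ = u ((((t : R5)) ^ 2 - 1) * x) := by
  have e : h t * u x = u ((t : R5) ^ 2 * x) * h t := by
    ext i j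
    fin_cases i <;> fin_cases j <;> simp [Matrix.mul_apply, Fin.sum_univ_two]
    rw [mul_comm ((t : R5) ^ 2 * x), pow_two, mul_assoc (t : R5), Units.inv_mul_cancel_left]
  rw [e, mul_inv_cancel_right, u_inv, u_mul]
  congr 1
  ring

theorem comm_h_l (t : (R5)ˣ) (x : R5) :
    h t * l x * (h t)⁻¹ * (l x)⁻¹ = l ((((t⁻¹ : (R5)ˣ) : R5) ^ 2 - 1) * x) := by
  have e : h t * l x = l (((t⁻¹ : (R5)ˣ) : R5) ^ 2 * x) * h t := by
    ext i j
    fin_cases i <;> fin_cases j <;> simp [Matrix.mul_apply, Fin.sum_univ_two]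
    rw [mul_comm (((t⁻¹ : (R5)ˣ) : R5) ^ 2) x, mul_assoc, pow_two, mul_assoc, Units.inv_mul, mul_one, mul_comm]
  rw [e, mul_inv_cancel_right, l_inv, l_mul]
  congr 1
  ring

theorem h_eq (a b : R5) (t : (R5)ˣ) (ht : (t : R5) = 1 + a * b) :
    h t = (l (b * ((t⁻¹ : (R5)ˣ) : R5)))⁻¹ * (u a * l b) * (u (a * ((t⁻¹ : (R5)ˣ) : R5)))⁻¹ := by
  have e : u a * l b = l (b * ((t⁻¹ : (R5)ˣ) : R5)) * h t * u (a * ((t⁻¹ : (R5)ˣ) : R5)) := by
    have h1 : (t : R5) * ((t⁻¹ : (R5)ˣ) : R5) = 1 := t.mul_inv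
    ext i j
    fin_cases i <;> fin_cases j <;> simp [Matrix.mul_apply, Fin.sum_univ_two]
    · exact ht.symm
    · linear_combination -(a) * h1
    · linear_combination ((t⁻¹ : (R5)ˣ) : R5) * ht - h1
  rw [e]
  group

variable [hk : Fact (0 < k)]

/-- Reduction modulo `5`. -/
def red : R5 →+* ZMod 5 := ZMod.castHom (dvd_pow_self 5 hk.out.ne') (ZMod 5)

theorem isUnit_of_red {x : R5} (hx : red x ≠ 0) : IsUnit x := by
  rw [← ZMod.natCast_zmod_val x, map_natCast, ne_eq, ZMod.natCast_eq_zero_iff] at hx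
  rw [← ZMod.natCast_zmod_val x, ZMod.isUnit_iff_coprime]
  exact (Nat.coprime_comm.1 ((Nat.Prime.coprime_iff_not_dvd (by norm_num)).2 hx)).pow_right k

theorem exists_mul_five {x : R5} (hx : red x = 0) : ∃ y : R5, x = 5 * y := by
  rw [← ZMod.natCast_zmod_val x, map_natCast, ZMod.natCast_eq_zero_iff] at hx
  obtain ⟨y, hy⟩ := hx
  exact ⟨y, by rw [← ZMod.natCast_zmod_val x, hy, Nat.cast_mul]; rfl⟩

theorem red_five : red (5 : R5) = 0 := by
  rw [map_ofNat]
  decide

theorem red_det (g : SL5) :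
    red (g.1 0 0) * red (g.1 1 1) - red (g.1 0 1) * red (g.1 1 0) = 1 := by
  rw [← map_mul, ← map_mul, ← map_sub, ← Matrix.det_fin_two, g.2, map_one]

theorem red_diag {g : SL5} (hg : red (g.1 1 0) = 0) : red (g.1 0 0) * red (g.1 1 1) = 1 := by
  simpa [hg] using red_det g

/-- The Borel subgroup modulo `5`. -/
def borel : Subgroup SL5 where
  carrier := {g | red (g.1 1 0) = 0}
  one_mem' := by simp
  mul_mem' := fun {a b} ha hb => by
    simp only [Set.mem_ofPred_eq] at ha hb ⊢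
    simp [Matrix.mul_apply, Fin.sum_univ_two, ha, hb]
  inv_mem' := fun {a} ha => by
    simp only [Set.mem_ofPred_eq] at ha ⊢
    simp [Matrix.SpecialLinearGroup.coe_inv, Matrix.adjugate_fin_two, ha]

theorem u_mem_borel (x : R5) : u x ∈ borel (k := k) := by
  show red _ = 0
  simp

theorem l_mem_borel {x : R5} (hx : red x = 0) : l x ∈ borel (k := k) := by
  show red _ = 0
  simpa using hx

theorem decomp (g : SL5) (c : (R5)ˣ) (hc : (c : R5) = g.1 1 0) :
    g = u ((g.1 0 0 - 1) * ((c⁻¹ : (R5)ˣ) : R5)) * l (g.1 1 0) * u ((g.1 1 1 - 1) * ((c⁻¹ : (R5)ˣ) : R5)) := by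
  have h1 : (g.1 1 0) * ((c⁻¹ : (R5)ˣ) : R5) = 1 := by rw [← hc]; exact c.mul_inv
  have hd : g.1 0 0 * g.1 1 1 - g.1 0 1 * g.1 1 0 = 1 := by rw [← Matrix.det_fin_two]; exact g.2
  ext i j
  fin_cases i <;> fin_cases j <;> simp [Matrix.mul_apply, Fin.sum_univ_two]
  · linear_combination -(g.1 0 0 - 1) * h1
  · linear_combination (-(g.1 0 1) - (g.1 0 0 - 1) * (g.1 1 1 - 1) * ((c⁻¹ : (R5)ˣ) : R5)) * h1 - ((c⁻¹ : (R5)ˣ) : R5) * hd
  · linear_combination -(g.1 1 1 - 1) * h1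

/-- A subgroup containing all transvections is everything. -/
theorem eq_top_of_gen {K : Subgroup SL5} (hu : ∀ x, u x ∈ K) (hl : ∀ x, l x ∈ K) : K = ⊤ := by
  have key : ∀ g : SL5, red (g.1 1 0) ≠ 0 → g ∈ K := by
    intro g hg
    obtain ⟨c, hc⟩ := isUnit_of_red hg
    have e := decomp g c hc
    rw [e]
    exact mul_mem (mul_mem (hu _) (hl _)) (hu _)
  rw [eq_top_iff]
  intro g _
  by_cases hg : red (g.1 1 0) = 0
  · have h1 : l 1 * g ∈ K := key _ (by
      have h0 : red (g.1 0 0) ≠ 0 := left_ne_zero_of_mul_eq_one (red_diag hg)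
      simpa [Matrix.mul_apply, Fin.sum_univ_two, hg] using h0)
    simpa using mul_mem (inv_mem (hl 1)) h1
  · exact key g hg

theorem commutator_eq_top : commutator SL5 = ⊤ := by
  obtain ⟨t, ht⟩ := isUnit_of_red (x := (2 : R5)) (by rw [map_ofNat]; decide)
  obtain ⟨w, hw⟩ := isUnit_of_red (x := ((t : R5)) ^ 2 - 1) (by
    rw [map_sub, map_pow, ht, map_ofNat, map_one]; decide)
  obtain ⟨w', hw'⟩ := isUnit_of_red (x := ((t⁻¹ : (R5)ˣ) : R5) ^ 2 - 1) (by
    have h2 : red ((t⁻¹ : (R5)ˣ) : R5) = 3 := by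
      have h := congrArg red t.mul_inv
      rw [map_mul, ht, map_ofNat, map_one] at h
      generalize red ((t⁻¹ : (R5)ˣ) : R5) = z at h
      revert z; decide
    rw [map_sub, map_pow, h2, map_one]; decide)
  refine eq_top_of_gen (fun x => ?_) fun x => ?_
  · have e := comm_h_u t (((w⁻¹ : (R5)ˣ) : R5) * x)
    rw [← hw, Units.mul_inv_cancel_left, ← commutatorElement_def] at e
    rw [← e]
    exact Subgroup.commutator_mem_commutator (Subgroup.mem_top _) (Subgroup.mem_top _)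
  · have e := comm_h_l t (((w'⁻¹ : (R5)ˣ) : R5) * x)
    rw [← hw', Units.mul_inv_cancel_left, ← commutatorElement_def] at e
    rw [← e]
    exact Subgroup.commutator_mem_commutator (Subgroup.mem_top _) (Subgroup.mem_top _)

theorem borel_isCoatom : IsCoatom (borel (k := k)) := by
  refine ⟨fun h => ?_, fun K hK => ?_⟩
  · have h1 : l 1 ∈ borel (k := k) := h ▸ Subgroup.mem_top _
    have h2 : red ((l (1 : R5)).1 1 0) = 0 := h1
    simp at h2
  · obtain ⟨g, hgK, hg⟩ := SetLike.exists_of_lt hK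
    have hg' : red (g.1 1 0) ≠ 0 := hg
    obtain ⟨c, hc⟩ := isUnit_of_red hg'
    have h1 : (g.1 1 0) * ((c⁻¹ : (R5)ˣ) : R5) = 1 := by rw [← hc]; exact c.mul_inv
    have hlc : l (g.1 1 0) ∈ K := by
      have h2 : l (g.1 1 0) = (u ((g.1 0 0 - 1) * ((c⁻¹ : (R5)ˣ) : R5)))⁻¹ * g *
          (u ((g.1 1 1 - 1) * ((c⁻¹ : (R5)ˣ) : R5)))⁻¹ := by
        conv_rhs => arg 1; arg 2; rw [decomp g c hc]
        group
      rw [h2]
      exact mul_mem (mul_mem (inv_mem (hK.le (u_mem_borel _))) hgK) (inv_mem (hK.le (u_mem_borel _)))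
    refine eq_top_of_gen (fun x => hK.le (u_mem_borel x)) fun x => ?_
    have e2 := l_pow (g.1 1 0) (x * ((c⁻¹ : (R5)ˣ) : R5) : R5).val
    rw [ZMod.natCast_zmod_val, mul_assoc, mul_comm (((c⁻¹ : (R5)ˣ) : R5) : R5), h1, mul_one] at e2
    rw [← e2]
    exact pow_mem hlc _

theorem five_pow_exists (A : Matrix (Fin 2) (Fin 2) R5) (i : ℕ) :
    ∃ B : Matrix (Fin 2) (Fin 2) R5,
      (1 + (5 : ℕ) • A) ^ 5 ^ i = 1 + (5 ^ (i + 1) : ℕ) • B := by
  induction i with
  | zero => exact ⟨A, by simp⟩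
  | succ i ih =>
    obtain ⟨B, hB⟩ := ih
    obtain ⟨r, hr⟩ := (Commute.one_left ((5 ^ (i + 1) : ℕ) • B)).exists_add_pow_prime_eq (p := 5) (by norm_num)
    refine ⟨(5 ^ (4 * i + 3) : ℕ) • B ^ 5 + B * r, ?_⟩
    rw [pow_succ, pow_mul, hB, hr, one_pow, mul_one, add_assoc, smul_pow, smul_add, smul_smul,
      ← pow_mul, ← pow_add, show i + 1 + 1 + (4 * i + 3) = (i + 1) * 5 by ring]
    congr 2
    rw [nsmul_eq_mul, nsmul_eq_mul, pow_succ 5 (i + 1), Nat.mul_comm, Nat.cast_mul]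
    simp only [mul_assoc]

theorem borel_solvable : Group.IsSolvable (borel (k := k)) := by
  let f : borel (k := k) →* ZMod 5 :=
    { toFun := fun g => red (g.1.1 0 0)
      map_one' := by simp
      map_mul' := fun a b => by
        have hb : red (b.1.1 1 0) = 0 := b.2
        simp [Matrix.mul_apply, Fin.sum_univ_two, hb] }
  let f₁ : borel (k := k) →* (ZMod 5)ˣ := f.toHomUnits
  have hker : ∀ g : f₁.ker, red (g.1.1.1 0 0) = 1 ∧ red (g.1.1.1 1 1) = 1 := by
    intro g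
    have h1 : red (g.1.1.1 0 0) = 1 := congrArg Units.val g.2
    refine ⟨h1, ?_⟩
    have := red_diag (g := g.1.1) g.1.2
    rwa [h1, one_mul] at this
  let f₂ : f₁.ker →* Multiplicative (ZMod 5) :=
    { toFun := fun g => Multiplicative.ofAdd (red (g.1.1.1 0 1))
      map_one' := by simp
      map_mul' := fun a b => by
        rw [← ofAdd_add]
        congr 1
        simp [Matrix.mul_apply, Fin.sum_univ_two, (hker a).1, (hker b).2, add_comm] }
  have hp : IsPGroup 5 f₂.ker := by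
    intro g
    have hg01 : red (g.1.1.1.1 0 1) = 0 := g.2
    have hg10 : red (g.1.1.1.1 1 0) = 0 := g.1.1.2
    obtain ⟨a, ha⟩ := exists_mul_five (x := g.1.1.1.1 0 0 - 1) (by rw [map_sub, (hker g.1).1, map_one, sub_self])
    obtain ⟨b, hb⟩ := exists_mul_five hg01
    obtain ⟨c, hc⟩ := exists_mul_five hg10
    obtain ⟨d, hd⟩ := exists_mul_five (x := g.1.1.1.1 1 1 - 1) (by rw [map_sub, (hker g.1).2, map_one, sub_self])
    have hM : g.1.1.1.1 = 1 + (5 : ℕ) • !![a, b; c, d] := by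
      ext i j
      fin_cases i <;> fin_cases j <;> simp
      · linear_combination ha
      · exact hb
      · exact hc
      · linear_combination hd
    obtain ⟨B, hB⟩ := five_pow_exists !![a, b; c, d] (k - 1)
    refine ⟨k - 1, Subtype.ext (Subtype.ext (Subtype.ext (Subtype.ext ?_)))⟩
    simp only [SubmonoidClass.coe_pow, Matrix.SpecialLinearGroup.coe_pow, OneMemClass.coe_one, Matrix.SpecialLinearGroup.coe_one]
    rw [hM, hB, Nat.sub_add_cancel hk.out, nsmul_eq_mul]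
    ext i j
    simp [Matrix.natCast_mulVec, Matrix.mul_apply, Fin.sum_univ_two]
  have h2 : Group.IsSolvable f₂.ker := by
    have := hp.isNilpotent
    infer_instance
  have h1 : Group.IsSolvable f₁.ker := Group.isSolvable_of_ker_le_range f₂.ker.subtype f₂ (by simp)
  exact Group.isSolvable_of_ker_le_range f₁.ker.subtype f₁ (by simp)

theorem derived_contains (j : ℕ) : ∀ x : R5,
    u (5 ^ 3 ^ j * x) ∈ (derivedSeries (borel (k := k)) j).map (borel (k := k)).subtype ∧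
    l (5 ^ 3 ^ j * x) ∈ (derivedSeries (borel (k := k)) j).map (borel (k := k)).subtype := by
  induction j with
  | zero =>
    intro x
    rw [derivedSeries_zero, ← MonoidHom.range_eq_map, Subgroup.range_subtype]
    exact ⟨u_mem_borel _, l_mem_borel (by simp [red_five])⟩
  | succ j ih =>
    intro x
    set D := (derivedSeries (borel (k := k)) j).map (borel (k := k)).subtype
    rw [derivedSeries_succ, Subgroup.map_commutator]
    set m := 3 ^ j with hm
    have hm0 : 0 < m := by positivity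
    have hr : red ((5 : R5) ^ m) = 0 := by rw [map_pow, red_five, zero_pow hm0.ne']
    obtain ⟨t, ht⟩ := isUnit_of_red (x := 1 + (5 : R5) ^ m * 5 ^ m) (by simp [hr])
    obtain ⟨w, hw⟩ := isUnit_of_red (x := 2 + (5 : R5) ^ m * 5 ^ m) (by simp [hr, map_ofNat]; decide)
    have htD : h t ∈ D := by
      rw [h_eq _ _ t ht]
      have hu := (ih 1).1
      have hl := (ih 1).2
      rw [mul_one] at hu hl
      exact mul_mem (mul_mem (inv_mem (ih _).2) (mul_mem hu hl)) (inv_mem (ih _).1)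
    have h3 : (5 : R5) ^ 3 ^ (j + 1) = 5 ^ m * 5 ^ m * 5 ^ m := by
      rw [← pow_add, ← pow_add, pow_succ, ← hm]; ring_nf
    have hw1 : (w : R5) * ((w⁻¹ : (R5)ˣ) : R5) = 1 := w.mul_inv
    have ht1 : (t : R5) * ((t⁻¹ : (R5)ˣ) : R5) = 1 := t.mul_inv
    refine ⟨?_, ?_⟩
    · have e := comm_h_u t (5 ^ m * (((w⁻¹ : (R5)ˣ) : R5) * x))
      rw [← commutatorElement_def, show ((t : R5) ^ 2 - 1) * (5 ^ m * (((w⁻¹ : (R5)ˣ) : R5) * x)) = 5 ^ 3 ^ (j + 1) * x by
        rw [h3, show ((t : R5) ^ 2 - 1) = (5 ^ m * 5 ^ m) * (w : R5) by rw [ht, hw]; ring]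
        linear_combination (5 ^ m * 5 ^ m * 5 ^ m * x) * hw1] at e
      rw [← e]
      exact Subgroup.commutator_mem_commutator htD (ih _).1
    · have e := comm_h_l t (5 ^ m * (-((t : R5) ^ 2) * ((w⁻¹ : (R5)ˣ) : R5) * x))
      rw [← commutatorElement_def, show ((((t⁻¹ : (R5)ˣ) : R5)) ^ 2 - 1) *
          (5 ^ m * (-((t : R5) ^ 2) * ((w⁻¹ : (R5)ˣ) : R5) * x)) = 5 ^ 3 ^ (j + 1) * x by
        have ht2 : ((t : R5) ^ 2 - 1) = (5 ^ m * 5 ^ m) * (w : R5) := by rw [ht, hw]; ring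
        rw [h3]
        linear_combination (5 ^ m * 5 ^ m * 5 ^ m * x) * hw1 + (5 ^ m * ((w⁻¹ : (R5)ˣ) : R5) * x) * ht2 -
          (5 ^ m * ((w⁻¹ : (R5)ˣ) : R5) * x * ((t : R5) * ((t⁻¹ : (R5)ˣ) : R5) + 1)) * ht1] at e
      rw [← e]
      exact Subgroup.commutator_mem_commutator htD (ih _).2

/-- Finite perfect groups have solvable maximal subgroups of unbounded derived length: for every d there is a finite perfect group G (equal to its commutator subgroup) with a solvable maximal subgroup H whose derived length exceeds d, i.e. the d-th term of the derived series of H is non-trivial. (Take the derived subgroup of a wreath product S ≀ A₅ with S solvable of large derived length, and H the preimage of a maximal subgroup of A₅.) -/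
theorem result (d : ℕ) :
    ∃ (G : Type) (_ : Group G) (_ : Finite G) (H : Subgroup G), commutator G = ⊤ ∧ IsCoatom H ∧ Group.IsSolvable H ∧
      derivedSeries H d ≠ ⊥ := by
  haveI : Fact (0 < 3 ^ d + 1) := ⟨Nat.succ_pos _⟩
  refine ⟨Matrix.SpecialLinearGroup (Fin 2) (ZMod (5 ^ (3 ^ d + 1))), inferInstance, inferInstance, borel,
    commutator_eq_top, borel_isCoatom, borel_solvable, fun hbot => ?_⟩
  have h1 := (derived_contains (k := 3 ^ d + 1) d 1).1
  rw [hbot, Subgroup.map_bot, Subgroup.mem_bot, mul_one] at h1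
  have h2 := congrArg (fun g : Matrix.SpecialLinearGroup (Fin 2) (ZMod (5 ^ (3 ^ d + 1))) => g.1 0 1) h1
  have h3 : ((5 ^ 3 ^ d : ℕ) : ZMod (5 ^ (3 ^ d + 1))) = 0 := by
    simpa using h2
  rw [ZMod.natCast_eq_zero_iff, Nat.pow_dvd_pow_iff_le_right (by norm_num)] at h3
  omega

end Cfsg.Agent.S5896
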