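import Cfsg.Statements.S5902
-- import your own Cfsg.Agent.* helpers here

set_option autoImplicit false
open Cfsg

namespace Cfsg.Agent.S5902


/-- Let G be a finite group, X a subgroup whose own subgroup lattice is complemented, and suppose X lies in exactly one maximal subgroup M of G. Then every subgroup H of G not contained in the normal core of M has a complement in the subgroup lattice of G (some C with H ⊔ C = G and H ⊓ C = 1); in particular the subgroup lattice of G modulo the normal core of M is complemented. -/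
theorem result {G : Type*} [Group G] [Finite G] (X M : Subgroup G)
    (hK : ComplementedLattice (Subgroup X))
    (hM : IsCoatom M) (hXM : X ≤ M) (huniq : ∀ M' : Subgroup G, IsCoatom M' → X ≤ M' → M' = M) :
    (∀ H : Subgroup G, ¬ H ≤ M.normalCore → ∃ C : Subgroup G, H ⊔ C = ⊤ ∧ H ⊓ C = ⊥) ∧
    ComplementedLattice (Subgroup (G ⧸ M.normalCore)) := by
  classical
  -- complements relative to X and M
  have base : ∀ H : Subgroup G, ¬ H ≤ M → ∃ C : Subgroup G, H ⊔ C = ⊤ ∧ H ⊓ C = ⊥ := by
    intro H hH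
    obtain ⟨C', hC'⟩ := exists_isCompl (H.subgroupOf X)
    have h1 : (H.subgroupOf X).map X.subtype = H ⊓ X := Subgroup.subgroupOf_map_subtype H X
    have hinf : (H ⊓ X) ⊓ C'.map X.subtype = ⊥ := by
      rw [← h1, ← Subgroup.map_inf _ _ _ X.subtype_injective, hC'.inf_eq_bot, Subgroup.map_bot]
    have hsup : (H ⊓ X) ⊔ C'.map X.subtype = X := by
      rw [← h1, ← Subgroup.map_sup, hC'.sup_eq_top, ← MonoidHom.range_eq_map, Subgroup.range_subtype]
    refine ⟨C'.map X.subtype, ?_, ?_⟩
    · rcases eq_top_or_exists_le_coatom (H ⊔ C'.map X.subtype) with h | ⟨M', hM', hle⟩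
      · exact h
      · have hX' : X ≤ M' := hsup ▸ (sup_le_sup_right inf_le_left _).trans hle
        exact absurd (huniq M' hM' hX' ▸ le_sup_left.trans hle) hH
    · rw [← hinf, inf_assoc, inf_eq_right.2 (Subgroup.map_subtype_le C')]
  have main : ∀ H : Subgroup G, ¬ H ≤ M.normalCore → ∃ C : Subgroup G, H ⊔ C = ⊤ ∧ H ⊓ C = ⊥ := by
    intro H hH
    obtain ⟨g, hg⟩ : ∃ g : G, ¬ H.map (MulAut.conj g).toMonoidHom ≤ M := by
      by_contra h
      push Not at h
      exact hH fun x hx b => h b ⟨x, hx, rfl⟩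
    obtain ⟨C, hC1, hC2⟩ := base _ hg
    refine ⟨C.comap (MulAut.conj g).toMonoidHom, ?_, ?_⟩
    · have hb := (MulAut.conj g).bijective
      apply Subgroup.map_injective (f := (MulAut.conj g).toMonoidHom) hb.1
      rw [Subgroup.map_sup, Subgroup.map_comap_eq_self_of_surjective hb.2, hC1, Subgroup.map_top_of_surjective _ hb.2]
    · refine (Subgroup.eq_bot_iff_forall _).2 fun x hx => ?_
      have : MulAut.conj g x ∈ H.map (MulAut.conj g).toMonoidHom ⊓ C := ⟨⟨x, hx.1, rfl⟩, hx.2⟩
      rw [hC2, Subgroup.mem_bot] at this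
      exact (MulEquiv.map_eq_one_iff _).1 this
  refine ⟨main, ⟨fun H => ?_⟩⟩
  set π := QuotientGroup.mk' M.normalCore
  have hπ : Function.Surjective π := QuotientGroup.mk'_surjective _
  by_cases hH : H.comap π ≤ M.normalCore
  · refine ⟨⊤, ?_⟩
    have : H = ⊥ := by
      rw [← Subgroup.map_comap_eq_self_of_surjective hπ H]
      exact (Subgroup.map_eq_bot_iff _).2 (hH.trans (QuotientGroup.ker_mk' _).ge)
    rw [this]; exact isCompl_bot_top
  obtain ⟨C, hC1, hC2⟩ := main _ hH
  refine ⟨C.map π, IsCompl.of_eq ?_ ?_⟩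
  · refine (Subgroup.eq_bot_iff_forall _).2 ?_
    rintro _ ⟨hx, ⟨c, hc, rfl⟩⟩
    have : c ∈ H.comap π ⊓ C := ⟨hx, hc⟩
    rw [hC2, Subgroup.mem_bot] at this
    rw [this, map_one]
  · rw [← Subgroup.map_comap_eq_self_of_surjective hπ H, ← Subgroup.map_sup, hC1, Subgroup.map_top_of_surjective _ hπ]

end Cfsg.Agent.S5902
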