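import Cfsg.Statements.S5903
-- import your own Cfsg.Agent.* helpers here

set_option autoImplicit false
open Cfsg

namespace Cfsg.Agent.S5903


/-- Let G be a finite simple group, X a subgroup lying in exactly one maximal subgroup M of G, and N a subgroup of prime order with N ≤ X that is central in M. If the subgroup lattice of X/N is complemented, then the subgroup lattice of G is complemented. -/
theorem result {G : Type*} [Group G] [Finite G] [IsSimpleGroup G] (X M N : Subgroup G)
    (hM : IsCoatom M) (hXM : X ≤ M) (huniq : ∀ M' : Subgroup G, IsCoatom M' → X ≤ M' → M' = M)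
    (hNX : N ≤ X) (hN : (Nat.card N).Prime) (hcen : ∀ n ∈ N, ∀ m ∈ M, m * n = n * m)
    [(N.subgroupOf X).Normal] (hK : ComplementedLattice (Subgroup (X ⧸ N.subgroupOf X))) :
    ComplementedLattice (Subgroup G) := by
  classical
  refine ⟨fun H => ?_⟩
  by_cases hH1 : H = ⊤
  · exact ⟨⊥, hH1 ▸ isCompl_top_bot⟩
  by_cases hH0 : H = ⊥
  · exact ⟨⊤, hH0 ▸ isCompl_bot_top⟩
  -- key lemma for H outside M meeting N trivially
  have base : ∀ J : Subgroup G, ¬ J ≤ M → J ⊓ N = ⊥ → ∃ C : Subgroup G, J ⊔ C = ⊤ ∧ J ⊓ C = ⊥ := by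
    intro J hJ hJN
    set π := QuotientGroup.mk' (N.subgroupOf X)
    have hπ : Function.Surjective π := QuotientGroup.mk'_surjective _
    obtain ⟨C', hC'⟩ := exists_isCompl (((J ⊓ X).subgroupOf X).map π)
    set C := (C'.comap π).map X.subtype with hC
    have hNC : N ≤ C := fun x hx => ⟨⟨x, hNX hx⟩, by
      show π ⟨x, hNX hx⟩ ∈ C'
      rw [(QuotientGroup.eq_one_iff _).2 (show (⟨x, hNX hx⟩ : X) ∈ N.subgroupOf X from hx) |> fun e => (show π ⟨x, hNX hx⟩ = 1 from e)]
      exact C'.one_mem, rfl⟩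
    have hsup : X ≤ J ⊔ C := by
      intro x hx
      have htop : ((J ⊓ X).subgroupOf X) ⊔ C'.comap π = ⊤ := by
        have h1 : (((J ⊓ X).subgroupOf X) ⊔ C'.comap π).map π = ⊤ := by
          rw [Subgroup.map_sup, Subgroup.map_comap_eq_self_of_surjective hπ, hC'.sup_eq_top]
        have h2 : π.ker ≤ ((J ⊓ X).subgroupOf X) ⊔ C'.comap π :=
          (MonoidHom.ker_le_comap π C').trans le_sup_right
        have := congrArg (Subgroup.comap π) h1
        rwa [Subgroup.comap_map_eq_self h2, Subgroup.comap_top] at this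
      have hmem : (⟨x, hx⟩ : X) ∈ ((J ⊓ X).subgroupOf X) ⊔ C'.comap π := htop ▸ Subgroup.mem_top _
      have := Subgroup.mem_map_of_mem X.subtype hmem
      rw [Subgroup.map_sup, Subgroup.subgroupOf_map_subtype] at this
      exact (sup_le_sup_right (inf_le_left.trans inf_le_left) _ : _ ≤ J ⊔ C) this
    refine ⟨C, ?_, ?_⟩
    · rcases eq_top_or_exists_le_coatom (J ⊔ C) with h | ⟨M', hM', hle⟩
      · exact h
      · exact absurd (huniq M' hM' (hsup.trans hle) ▸ le_sup_left.trans hle) hJ
    · refine le_antisymm ?_ bot_le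
      rw [← hJN]
      rintro x ⟨hxJ, ⟨y, hy, rfl⟩⟩
      refine ⟨hxJ, ?_⟩
      have h1 : π y ∈ ((J ⊓ X).subgroupOf X).map π ⊓ C' := ⟨⟨y, ⟨hxJ, y.2⟩, rfl⟩, hy⟩
      rw [hC'.inf_eq_bot, Subgroup.mem_bot] at h1
      exact (QuotientGroup.eq_one_iff y).1 h1
  suffices hg : ∃ g : G, ¬ H.map (MulAut.conj g).toMonoidHom ≤ M ∧ H.map (MulAut.conj g).toMonoidHom ⊓ N = ⊥ by
    obtain ⟨g, hg1, hg2⟩ := hg
    obtain ⟨C, hC1, hC2⟩ := base _ hg1 hg2
    have hb := (MulAut.conj g).bijective
    refine ⟨C.comap (MulAut.conj g).toMonoidHom, IsCompl.of_eq ?_ ?_⟩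
    · refine (Subgroup.eq_bot_iff_forall _).2 fun x hx => ?_
      have : MulAut.conj g x ∈ H.map (MulAut.conj g).toMonoidHom ⊓ C := ⟨⟨x, hx.1, rfl⟩, hx.2⟩
      rw [hC2, Subgroup.mem_bot] at this
      exact (MulEquiv.map_eq_one_iff _).1 this
    · apply Subgroup.map_injective (f := (MulAut.conj g).toMonoidHom) hb.1
      rw [Subgroup.map_sup, Subgroup.map_comap_eq_self_of_surjective hb.2, hC1, Subgroup.map_top_of_surjective _ hb.2]
  by_contra hno
  push Not at hno
  have := Fact.mk hN
  -- the conjugates g⁻¹ N g of N are inside H or centralise H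
  let S : Set G := {x | ∃ g : G, ¬ H.map (MulAut.conj g).toMonoidHom ≤ M ∧ MulAut.conj g x ∈ N}
  have hSH : S ⊆ H := by
    rintro x ⟨g, hg, hx⟩
    have hne := hno g hg
    have hle : N ≤ H.map (MulAut.conj g).toMonoidHom := by
      rcases ((H.map (MulAut.conj g).toMonoidHom).subgroupOf N).eq_bot_or_eq_top_of_prime_card with h | h
      · exfalso
        apply hne
        refine (Subgroup.eq_bot_iff_forall _).2 fun z hz => ?_
        have : (⟨z, hz.2⟩ : N) ∈ (H.map (MulAut.conj g).toMonoidHom).subgroupOf N := hz.1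
        rw [h, Subgroup.mem_bot] at this
        exact congrArg Subtype.val this
      · exact Subgroup.subgroupOf_eq_top.1 h
    obtain ⟨z, hz, hzx⟩ := hle hx
    exact (MulAut.conj g).injective hzx ▸ hz
  set J := Subgroup.closure S
  have hJH : J ≤ H := (Subgroup.closure_le H).2 hSH
  have hSn : ∀ (g : G) (x : G), MulAut.conj g x ∈ N → x ∈ Subgroup.normalizer (J : Set G) := by
    intro g x hx
    by_cases hg : H.map (MulAut.conj g).toMonoidHom ≤ M
    · have hcomm : ∀ j ∈ J, x * j = j * x := by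
        intro j hj
        have := hcen _ hx _ (hg ⟨j, hJH hj, rfl⟩)
        apply (MulAut.conj g).injective
        rw [map_mul, map_mul]
        exact this.symm
      rw [Subgroup.mem_normalizer_iff]
      intro j
      constructor
      · intro hj; rw [hcomm j hj, mul_inv_cancel_right]; exact hj
      · intro hj
        have h1 := hcomm _ hj
        have : x * j * x⁻¹ = j := by
          have h2 : x * (x * j * x⁻¹) * x⁻¹ = x * j * x⁻¹ := by rw [h1, mul_inv_cancel_right]
          have h3 : x⁻¹ * (x * (x * j * x⁻¹) * x⁻¹) * x = x⁻¹ * (x * j * x⁻¹) * x := by rw [h2]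
          simpa [mul_assoc] using h3
        rwa [this] at hj
    · exact Subgroup.le_normalizer (Subgroup.subset_closure ⟨g, hg, hx⟩)
  have hN0 : N ≠ ⊥ := fun h => by rw [h, Subgroup.card_bot] at hN; exact Nat.not_prime_one hN
  have htop : Subgroup.normalizer (J : Set G) = ⊤ := by
    rcases Subgroup.Normal.eq_bot_or_eq_top (Subgroup.normalClosure_normal (s := (N : Set G))) with h | h
    · exact absurd (le_bot_iff.1 (h ▸ Subgroup.le_normalClosure)) hN0
    · refine top_le_iff.1 (h ▸ (Subgroup.closure_le _).2 ?_)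
      intro x hx
      obtain ⟨n, hn, hc⟩ := Group.mem_conjugatesOfSet_iff.1 hx
      obtain ⟨c, rfl⟩ := isConj_iff.1 hc
      exact hSn c⁻¹ _ (by simpa [mul_assoc] using hn)
  have hJn : J.Normal := Subgroup.normalizer_eq_top_iff.1 htop
  rcases hJn.eq_bot_or_eq_top with h | h
  · -- no conjugate of M misses H
    have hall : ∀ g : G, H.map (MulAut.conj g).toMonoidHom ≤ M := by
      intro g
      by_contra hg
      obtain ⟨z, hz, hz1⟩ := Subgroup.bot_or_exists_ne_one N |>.resolve_left hN0
      have : (MulAut.conj g).symm z ∈ J := Subgroup.subset_closure ⟨g, hg, by simpa [mul_assoc] using hz⟩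
      rw [h, Subgroup.mem_bot] at this
      exact hz1 ((MulEquiv.map_eq_one_iff (MulAut.conj g).symm).1 this)
    have hcore : H ≤ M.normalCore := fun x hx b => hall b ⟨x, hx, rfl⟩
    rcases (Subgroup.normalCore_normal M).eq_bot_or_eq_top with h' | h'
    · exact hH0 (le_bot_iff.1 (h' ▸ hcore))
    · exact hM.1 (top_le_iff.1 (h' ▸ Subgroup.normalCore_le M))
  · exact hH1 (top_le_iff.1 (h ▸ hJH))

end Cfsg.Agent.S5903
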