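import Cfsg.Statements.S5904
-- import your own Cfsg.Agent.* helpers here

set_option autoImplicit false
open scoped Pointwise
open Cfsg

namespace Cfsg.Agent.S5904

open MulAction
open scoped Pointwise


/-- Let Ω be a finite set with more than two elements and O ⊆ Ω a subset with exactly as many elements as its complement. Then the setwise stabilizer of O in the symmetric group on Ω is not a maximal subgroup (it is properly contained in the stabilizer of the partition {O, Ω ∖ O}, which is proper). -/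
theorem result {Ω : Type*} [Fintype Ω] [DecidableEq Ω] (hΩ : 2 < Fintype.card Ω)
    (O : Set Ω) (hO : Nat.card O = Nat.card ↥Oᶜ) :
    ¬ IsCoatom (MulAction.stabilizer (Equiv.Perm Ω) O) := by
  classical
  intro hco
  have hsum := Nat.card_congr (Equiv.Set.sumCompl O)
  rw [Nat.card_sum, ← hO, Nat.card_eq_fintype_card (α := Ω)] at hsum
  have h2 : 1 < Nat.card O := by omega
  have : Nontrivial O := (Finite.one_lt_card_iff_nontrivial).1 h2
  obtain ⟨⟨x, hx⟩, ⟨x', hx'⟩, hne⟩ := exists_pair_ne O
  obtain ⟨⟨y, hy⟩⟩ : Nonempty (Oᶜ : Set Ω) := (Nat.card_pos_iff.1 (hO ▸ (by omega : 0 < Nat.card O))).1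
  -- an element exchanging the two halves
  obtain ⟨e⟩ : Nonempty (O ≃ (Oᶜ : Set Ω)) := Finite.card_eq.1 hO
  let t : Equiv.Perm Ω := ((Equiv.Set.sumCompl O).symm.trans ((Equiv.sumComm _ _).trans (Equiv.sumCongr e.symm e))).trans (Equiv.Set.sumCompl O)
  have htO : t • O = Oᶜ := by
    ext z
    simp only [Set.mem_smul_set_iff_inv_smul_mem]
    constructor
    · intro hz
      have : z = t (t⁻¹ z) := (t.apply_symm_apply z).symm
      rw [this]
      have hh : ∀ w ∈ O, t w ∈ Oᶜ := fun w hw => by simp [t, Equiv.Set.sumCompl_symm_apply_of_mem hw]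
      exact hh _ hz
    · intro hz
      by_contra hcon
      have hh : ∀ w, w ∉ O → t w ∈ O := fun w hw => by simp [t, Equiv.Set.sumCompl_symm_apply_of_notMem hw]
      have := hh _ hcon
      rw [Equiv.Perm.smul_def, show t (t⁻¹ z) = z from t.apply_symm_apply z] at this
      exact hz this
  let L : Subgroup (Equiv.Perm Ω) := stabilizer (Equiv.Perm Ω) ({O, Oᶜ} : Set (Set Ω))
  have hle : stabilizer (Equiv.Perm Ω) O ≤ L := by
    intro g hg
    have h1 : g • O = O := hg
    show g • ({O, Oᶜ} : Set (Set Ω)) = _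
    rw [Set.smul_set_insert, Set.smul_set_singleton, Set.smul_set_compl, h1]
  have htL : t ∈ L := by
    show t • ({O, Oᶜ} : Set (Set Ω)) = _
    rw [Set.smul_set_insert, Set.smul_set_singleton, Set.smul_set_compl, htO, compl_compl, Set.pair_comm]
  rcases hco.le_iff.1 hle with h | h
  · have : Equiv.swap x y ∈ L := h ▸ Subgroup.mem_top _
    have hmem : Equiv.swap x y • O ∈ ({O, Oᶜ} : Set (Set Ω)) := by
      have h' : Equiv.swap x y • ({O, Oᶜ} : Set (Set Ω)) = {O, Oᶜ} := this
      rw [← h']
      exact Set.smul_mem_smul_set (Set.mem_insert _ _)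
    have hyim : y ∈ Equiv.swap x y • O := ⟨x, hx, Equiv.swap_apply_left x y⟩
    have hx'im : x' ∈ Equiv.swap x y • O := ⟨x', hx', Equiv.swap_apply_of_ne_of_ne (fun e => hne (Subtype.ext e.symm)) (fun e => hy (e ▸ hx'))⟩
    rcases hmem with h' | h'
    · exact hy (h' ▸ hyim)
    · rw [Set.mem_singleton_iff] at h'
      exact (h' ▸ hx'im) hx'
  · have : t ∈ stabilizer (Equiv.Perm Ω) O := h ▸ htL
    have h' : t • O = O := this
    rw [htO] at h'
    exact (h'.symm ▸ hy : y ∉ Oᶜ) hy

end Cfsg.Agent.S5904
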