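import Cfsg.Statements.S5908
import Cfsg.Agent.Lib.Classical.UnitaryThreeTwo

set_option autoImplicit false
open Cfsg

open Cfsg.Agent.Classical

namespace Cfsg.Agent.S5908

/-- The subgroup lattice of PSU₃(2) (the solvable group of order 72, realised over the field with 4 elements) is not complemented: some subgroup H has no subgroup X with H ⊔ X = ⊤ and H ⊓ X = ⊥. -/
theorem result {F : Type*} [Field F] [Fintype F] (hF : Fintype.card F = 4) :
    ¬ ComplementedLattice (Subgroup (Cfsg.PSU 3 F 2)) := by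
  intro hL
  obtain ⟨N, hN, hN9, -, ⟨e⟩⟩ := UnitaryThreeTwo.structure_of_card_four hF
  let φ : Cfsg.PSU 3 F 2 →* QuaternionGroup 2 := e.toMonoidHom.comp (QuotientGroup.mk' N)
  have hφ : Function.Surjective φ := e.surjective.comp (QuotientGroup.mk'_surjective N)
  have hsq : ∀ u : QuaternionGroup 2, u * u ∈ Subgroup.center (QuaternionGroup 2) ∧
      (u * u = 1 → u ∈ Subgroup.center (QuaternionGroup 2)) := by
    have h : ∀ u : QuaternionGroup 2, (∀ v, v * (u * u) = u * u * v) ∧ (u * u = 1 → ∀ v, v * u = u * v) := by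
      decide +kernel
    exact fun u => ⟨Subgroup.mem_center_iff.2 (h u).1, fun hu => Subgroup.mem_center_iff.2 ((h u).2 hu)⟩
  let H := (Subgroup.center (QuaternionGroup 2)).comap φ
  obtain ⟨K, hK⟩ := exists_isCompl H
  have hbot : K = ⊥ := by
    rw [Subgroup.eq_bot_iff_forall]
    intro k hk
    have hd : ∀ x, x ∈ H → x ∈ K → x = 1 := fun x hx hx' => Subgroup.disjoint_def.1 hK.disjoint hx hx'
    refine hd k ?_ hk
    show φ k ∈ Subgroup.center (QuaternionGroup 2)
    refine (hsq (φ k)).2 ?_
    rw [← map_mul, hd (k * k) (show φ (k * k) ∈ Subgroup.center (QuaternionGroup 2) by rw [map_mul]; exact (hsq (φ k)).1) (K.mul_mem hk hk), map_one]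
  have htop := hK.sup_eq_top
  rw [hbot, sup_bot_eq] at htop
  have hall : ∀ u : QuaternionGroup 2, u ∈ Subgroup.center (QuaternionGroup 2) := by
    intro u
    obtain ⟨x, rfl⟩ := hφ u
    exact (htop ▸ Subgroup.mem_top x : x ∈ H)
  have hne : ¬ ∀ u v : QuaternionGroup 2, v * u = u * v := by decide +kernel
  exact hne fun u v => Subgroup.mem_center_iff.1 (hall u) v

end Cfsg.Agent.S5908
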