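import Cfsg.Statements.S5909
import Cfsg.Agent.Lib.Classical.PartitionAlt
import Cfsg.Agent.Lib.Classical.SmallAlt

set_option autoImplicit false
open Cfsg

open Cfsg.Agent.Classical
open Equiv Equiv.Perm

namespace Cfsg.Agent.S5909

/-- Let Ω be a finite set whose size is not 8, and f : Ω → Fin b a labelling with b ≥ 2 whose fibres all have the same size a ≥ 2 (a partition into b blocks of size a). Then the even permutations preserving the partition — the intersection of the imprimitive wreath product S_a ≀ S_b with the alternating group — form a maximal subgroup of the alternating group on Ω. -/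
theorem result {Ω : Type*} [Fintype Ω] [DecidableEq Ω] (h8 : Fintype.card Ω ≠ 8) (a b : ℕ) (ha : 2 ≤ a) (hb : 2 ≤ b)
    (f : Ω → Fin b) (hf : ∀ i : Fin b, Nat.card {x : Ω // f x = i} = a) :
    IsCoatom ((Subgroup.closure {g : Equiv.Perm Ω | ∀ x y : Ω, f x = f y ↔ f (g x) = f (g y)} ⊓ alternatingGroup Ω).subgroupOf (alternatingGroup Ω)) := by
  classical
  rw [closure_partSet]
  change IsCoatom ((PartAlt.H f).subgroupOf (alternatingGroup Ω))
  refine ⟨fun htop => ?_, fun L' hL' => ?_⟩
  · obtain ⟨i, j, hij⟩ := Fintype.exists_pair_of_one_lt_card (α := Fin b) (by rw [Fintype.card_fin]; omega)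
    obtain ⟨x, hx, -⟩ := PartAlt.exists_pt f ha hb hf i ∅ (by simp; omega)
    obtain ⟨y, hy, -⟩ := PartAlt.exists_pt f ha hb hf j ∅ (by simp; omega)
    obtain ⟨x', hx', hfx⟩ := PartAlt.exists_mate f ha hb hf x
    obtain ⟨y', hy', hfy⟩ := PartAlt.exists_mate f ha hb hf y
    have d1 : x ≠ y := fun e => hij (by rw [← hx, ← hy, e])
    have d2 : x ≠ y' := fun e => hij (by rw [← hx, ← hy, ← hfy, e])
    have d3 : x' ≠ y := fun e => hij (by rw [← hx, ← hy, ← hfx, e])
    have d4 : x' ≠ y' := fun e => hij (by rw [← hx, ← hy, ← hfx, ← hfy, e])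
    have h3 := isThreeCycle_swap_mul_swap_same d1 d2 hy'.symm
    have hmem : (swap x y * swap x y') ∈ PartAlt.H f := Subgroup.subgroupOf_eq_top.1 htop (mem_alternatingGroup.2 h3.sign)
    have := (hmem.1 x x').1 hfx.symm
    rw [Perm.mul_apply, Perm.mul_apply, swap_apply_left, swap_apply_of_ne_of_ne d2.symm hy',
      swap_apply_of_ne_of_ne hx' d4, swap_apply_of_ne_of_ne hx' d3] at this
    exact hij (by rw [← hx, ← hy, ← hfy, this, hfx])
  set L := L'.map (alternatingGroup Ω).subtype with hLdef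
  have hHL : PartAlt.H f ≤ L := fun g hg =>
    ⟨⟨g, hg.2⟩, hL'.le (show (⟨g, hg.2⟩ : alternatingGroup Ω) ∈ (PartAlt.H f).subgroupOf _ from hg), rfl⟩
  obtain ⟨g', hg'L, hg'H⟩ := SetLike.exists_of_lt hL'
  have hgL : (g' : Perm Ω) ∈ L := ⟨g', hg'L, rfl⟩
  have hgS : (g' : Perm Ω) ∉ partStab f := fun h => hg'H ⟨h, g'.2⟩
  have fin : alternatingGroup Ω ≤ L → L' = ⊤ := fun h => eq_top_iff.2 fun x _ => by
    obtain ⟨y, hy, e⟩ := h x.2
    exact (Subtype.ext e : y = x) ▸ hy
  have hn : Fintype.card Ω = b * a := by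
    rw [← Fintype.card_congr (Equiv.sigmaFiberEquiv f), Fintype.card_sigma,
      Finset.sum_const_nat fun i _ => by rw [← Nat.card_eq_fintype_card, hf], Finset.card_univ, Fintype.card_fin]
  by_cases h : 3 ≤ a ∨ 5 ≤ b
  · have hor : 3 ≤ a ∨ 3 ≤ b := h.imp id (by omega)
    have hprim := PartAlt.isPreprimitive f ha hb hf hor L hHL hgL hgS
    obtain ⟨k, hk, hk3⟩ : ∃ k ∈ L, k.IsThreeCycle := by
      by_cases h3 : 3 ≤ a
      · obtain ⟨k, hk, hk3⟩ := PartAlt.exists_three f ha hb hf h3
        exact ⟨k, hHL hk, hk3⟩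
      · exact PartAlt.exists_three_two f ha hb hf (by omega) (h.resolve_left h3) L hHL hgL hgS
    exact fin (Equiv.Perm.alternatingGroup_le_of_isPreprimitive_of_isThreeCycle_mem hprim hk3 hk)
  push Not at h
  obtain rfl : a = 2 := by omega
  have hcard := PartAlt.card_H_transport f ha hb hf
  have hHi : Nat.card ((PartAlt.H f).subgroupOf (alternatingGroup Ω)) = Nat.card (PartAlt.H f) :=
    Nat.card_congr (Subgroup.subgroupOfEquivOfLe inf_le_right).toEquiv
  have hd := Subgroup.card_dvd_of_le hL'.le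
  rw [hHi, hcard, Nat.card_eq_fintype_card] at hd
  have hlt : Nat.card ((PartAlt.H f).subgroupOf (alternatingGroup Ω)) < Nat.card L' := by
    refine lt_of_le_of_ne (Nat.le_of_dvd Nat.card_pos (Subgroup.card_dvd_of_le hL'.le)) fun e => ?_
    exact hL'.ne (Subgroup.eq_of_le_of_card_ge hL'.le e.ge)
  rw [hHi, hcard, Nat.card_eq_fintype_card] at hlt
  haveI : Nontrivial Ω := Fintype.one_lt_card_iff_nontrivial.1 (by rw [hn]; omega)
  have hA : 2 * Nat.card (alternatingGroup Ω) = (b * 2).factorial := by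
    rw [Nat.card_eq_fintype_card, two_mul_card_alternatingGroup, Fintype.card_perm, hn]
  obtain rfl | rfl : b = 2 ∨ b = 3 := by
    rcases (show b = 2 ∨ b = 3 ∨ b = 4 by omega) with r | r | r
    · exact Or.inl r
    · exact Or.inr r
    · exact absurd (hn.trans (by rw [r])) h8
  · have e4 : Fintype.card {g : Perm (Fin 2 × Fin 2) // (∀ x y, x.1 = y.1 ↔ (g x).1 = (g y).1) ∧ sign g = 1} = 4 := by decide +kernel
    rw [e4] at hd hlt
    refine Subgroup.eq_top_of_card_eq L' ?_
    have h2 := Subgroup.card_subgroup_dvd_card L'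
    rw [show Nat.factorial (2 * 2) = 24 from rfl] at hA
    rw [show Nat.card (alternatingGroup Ω) = 12 by omega] at h2 ⊢
    have := Nat.le_of_dvd (by norm_num) h2
    interval_cases hl : Nat.card L' <;> omega
  · have e6 : Fintype.card {g : Perm (Fin 3 × Fin 2) // (∀ x y, x.1 = y.1 ↔ (g x).1 = (g y).1) ∧ sign g = 1} = 24 := by decide +kernel
    rw [e6] at hd hlt
    rw [show Nat.factorial (3 * 2) = 720 from rfl] at hA
    have hA' : Nat.card (alternatingGroup Ω) = 360 := by omega
    haveI : IsSimpleGroup (alternatingGroup Ω) := alternatingGroup.isSimpleGroup (by rw [Nat.card_eq_fintype_card, hn]; norm_num)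
    by_contra hne
    have hi := SmallAlt.dvd_factorial_index L' hne
    have hm := L'.card_mul_index
    rw [hA'] at hi hm
    obtain ⟨c, hc⟩ := hd
    have hc1 : 2 ≤ c := by
      by_contra; interval_cases c <;> omega
    rw [hc, mul_assoc] at hm
    have hci : c * L'.index = 15 := by omega
    have hcd : c ∣ 15 := ⟨_, hci.symm⟩
    have := Nat.le_of_dvd (by norm_num) hcd
    interval_cases c <;> first | omega | (rw [show L'.index = _ from (Nat.eq_div_of_mul_eq_right (by norm_num) hci)] at hi; norm_num [Nat.factorial] at hi)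

end Cfsg.Agent.S5909
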