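import Cfsg.Statements.S5910
import Cfsg.Agent.Lib.Classical.PartitionStab

set_option autoImplicit false
open Cfsg

open Cfsg.Agent.Classical
open Equiv

namespace Cfsg.Agent.S5910

/-- Bitwise sum. -/
def bx (a b : Fin 8) : Fin 8 := ⟨(a.val ^^^ b.val) % 8, Nat.mod_lt _ (by norm_num)⟩

/-- The affine group of the cube. -/
def agl : Subgroup (Equiv.Perm (Fin 8)) where
  carrier := {g | ∀ a b c, g (bx (bx a b) c) = bx (bx (g a) (g b)) (g c)}
  mul_mem' {g h} hg hh := fun a b c => by
    show g (h _) = bx (bx (g (h a)) (g (h b))) (g (h c))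
    rw [hh, hg]
  one_mem' := fun a b c => rfl
  inv_mem' {g} hg := fun a b c => by
    apply g.injective
    rw [hg]; simp

def mkf (a b c d : Fin 8) (i : Fin 8) : Fin 8 :=
  let v : Fin 8 := if i.val / 2 = 0 then a else if i.val / 2 = 1 then b else if i.val / 2 = 2 then c else d
  bx v ⟨i.val % 2, by omega⟩

def par (f : Fin 8 → Fin 8) : ℤˣ := ∏ i, ∏ j ∈ Finset.Ioi i, (if f i < f j then 1 else -1)

theorem par_eq (g : Equiv.Perm (Fin 8)) : par g = g.sign := (Equiv.Perm.sign_eq_prod_prod_Ioi g).symm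

/-- Whether the inversion count is odd. -/
def odd' (f : Fin 8 → Fin 8) : Bool := decide (par f = -1)

def aff (f : Fin 8 → Fin 8) : Bool := (List.finRange 8).all fun x =>
  f x == bx (bx (bx (f 0) (if x.val % 2 = 1 then bx (f 0) (f 1) else 0))
    (if x.val / 2 % 2 = 1 then bx (f 0) (f 2) else 0)) (if x.val / 4 % 2 = 1 then bx (f 0) (f 4) else 0)

theorem check : ((List.finRange 8).all fun a => (List.finRange 8).all fun b => (List.finRange 8).all fun c =>
    (List.finRange 8).all fun d =>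
      (a.val / 2 == b.val / 2) || (a.val / 2 == c.val / 2) || (a.val / 2 == d.val / 2) || (b.val / 2 == c.val / 2) ||
      (b.val / 2 == d.val / 2) || (c.val / 2 == d.val / 2) || odd' (mkf a b c d) || aff (mkf a b c d)) = true := by
  decide +kernel

theorem sign_of_odd (g : Equiv.Perm (Fin 8)) (h : odd' g = true) : g.sign = -1 := by
  rw [← par_eq]
  exact of_decide_eq_true h

theorem bx_laws : (∀ a b c d : Fin 8, bx (bx a b) (bx c d) = bx (bx a c) (bx b d)) ∧
    (∀ a : Fin 8, bx a a = 0 ∧ bx a 0 = a ∧ bx 0 a = a) := by decide +kernel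

theorem aff_affine (f : Fin 8 → Fin 8) (h : aff f = true) : ∀ a b c, f (bx (bx a b) c) = bx (bx (f a) (f b)) (f c) := by
  have hf : ∀ x : Fin 8, f x = bx (bx (bx (f 0) (if x.val % 2 = 1 then bx (f 0) (f 1) else 0))
      (if x.val / 2 % 2 = 1 then bx (f 0) (f 2) else 0)) (if x.val / 4 % 2 = 1 then bx (f 0) (f 4) else 0) := by
    intro x
    have := List.all_eq_true.1 h x (List.mem_finRange x)
    simpa using this
  intro a b c
  rw [hf (bx (bx a b) c), hf a, hf b, hf c]
  generalize f 0 = p0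
  generalize bx p0 (f 1) = u
  generalize bx p0 (f 2) = v
  generalize bx p0 (f 4) = w
  have hbit : ∀ a b c : Fin 8, ∀ k : Fin 3,
      ((bx (bx a b) c).val / 2 ^ k.val % 2 = 1 ↔
        Xor' (Xor' (a.val / 2 ^ k.val % 2 = 1) (b.val / 2 ^ k.val % 2 = 1)) (c.val / 2 ^ k.val % 2 = 1)) := by
    unfold Xor'; decide +kernel
  have h0 := hbit a b c 0
  have h1 := hbit a b c 1
  have h2 := hbit a b c 2
  simp only [Fin.val_zero, Fin.val_one, Fin.val_two, pow_zero, pow_one, Nat.div_one] at h0 h1 h2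
  norm_num at h0 h1 h2
  have hpart : ∀ (x : Fin 8) (A B C R : Prop) [Decidable A] [Decidable B] [Decidable C] [Decidable R],
      (R ↔ Xor' (Xor' A B) C) → (if R then x else 0) = bx (bx (if A then x else 0) (if B then x else 0)) (if C then x else 0) := by
    intro x A B C R _ _ _ _ hR
    obtain ⟨hxx, hx0, h0x⟩ := bx_laws.2 x
    have h00 := (bx_laws.2 0).1
    by_cases hA : A <;> by_cases hB : B <;> by_cases hC : C <;> simp_all [Xor']
  rw [hpart u _ _ _ _ h0, hpart v _ _ _ _ h1, hpart w _ _ _ _ h2]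
  have hp : p0 = bx (bx p0 p0) p0 := by
    obtain ⟨hxx, hx0, h0x⟩ := bx_laws.2 p0
    rw [hxx, h0x]
  conv_lhs => rw [hp]
  haveI : Std.Associative bx := ⟨by decide +kernel⟩
  haveI : Std.Commutative bx := ⟨by decide +kernel⟩
  ac_rfl

theorem mem_agl (g : Equiv.Perm (Fin 8)) (hp : ∀ x y : Fin 8, x.val / 2 = y.val / 2 ↔ (g x).val / 2 = (g y).val / 2)
    (hs : g.sign = 1) : g ∈ agl := by
  have hmate : ∀ u v : Fin 8, u ≠ v → u.val / 2 = v.val / 2 → v = bx u 1 := by decide +kernel
  have he : (g : Fin 8 → Fin 8) = mkf (g 0) (g 2) (g 4) (g 6) := by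
    funext i
    have h0 : ∀ u : Fin 8, bx u 0 = u := fun u => (bx_laws.2 u).2.1
    fin_cases i
    · exact (h0 _).symm
    · exact hmate _ _ (g.injective.ne (by decide)) ((hp 0 1).1 rfl)
    · exact (h0 _).symm
    · exact hmate _ _ (g.injective.ne (by decide)) ((hp 2 3).1 rfl)
    · exact (h0 _).symm
    · exact hmate _ _ (g.injective.ne (by decide)) ((hp 4 5).1 rfl)
    · exact (h0 _).symm
    · exact hmate _ _ (g.injective.ne (by decide)) ((hp 6 7).1 rfl)
  have h := List.all_eq_true.1 (List.all_eq_true.1 (List.all_eq_true.1 (List.all_eq_true.1 check (g 0) (List.mem_finRange _))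
    (g 2) (List.mem_finRange _)) (g 4) (List.mem_finRange _)) (g 6) (List.mem_finRange _)
  rw [← he] at h
  have hne : ∀ x y : Fin 8, x.val / 2 ≠ y.val / 2 → ((g x).val / 2 == (g y).val / 2) = false := fun x y hxy =>
    beq_eq_false_iff_ne.2 fun e => hxy ((hp x y).2 e)
  rw [hne 0 2 (by decide), hne 0 4 (by decide), hne 0 6 (by decide), hne 2 4 (by decide), hne 2 6 (by decide),
    hne 4 6 (by decide)] at h
  simp only [Bool.false_or, Bool.or_eq_true] at h
  rcases h with h | h
  · rw [sign_of_odd g h] at hs; exact absurd hs (by decide)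
  · exact aff_affine g h

end Cfsg.Agent.S5910


namespace Cfsg.Agent.S5910

/-- Let Ω be a set with 8 elements and f : Ω → Fin 4 a labelling whose four fibres all have size 2 (a partition of the 8 points into 4 pairs). Then the group of even permutations preserving this partition, (S₂ ≀ S₄) ∩ A₈, is not a maximal subgroup of the alternating group A₈ (it lies in a subgroup isomorphic to the affine group AGL₃(2)). -/
theorem result {Ω : Type*} [Fintype Ω] [DecidableEq Ω] (h8 : Fintype.card Ω = 8)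
    (f : Ω → Fin 4) (hf : ∀ i : Fin 4, Nat.card {x : Ω // f x = i} = 2) :
    ¬ IsCoatom ((Subgroup.closure {g : Equiv.Perm Ω | ∀ x y : Ω, f x = f y ↔ f (g x) = f (g y)} ⊓ alternatingGroup Ω).subgroupOf (alternatingGroup Ω)) := by
  classical
  rw [closure_partSet f]
  obtain ⟨e, he⟩ : ∃ e : Fin 8 ≃ Ω, ∀ x y : Fin 8, x.val / 2 = y.val / 2 ↔ f (e x) = f (e y) := by
    have hcard : ∀ i, Fintype.card {x : Ω // f x = i} = 2 := fun i => by rw [← Nat.card_eq_fintype_card, hf]
    let e0 : Ω ≃ Fin 4 × Fin 2 := ((Equiv.sigmaFiberEquiv f).symm.trans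
      (Equiv.sigmaCongrRight fun i => Fintype.equivFinOfCardEq (hcard i))).trans (Equiv.sigmaEquivProd (Fin 4) (Fin 2))
    have he0 : ∀ w, (e0 w).1 = f w := fun w => rfl
    refine ⟨(e0.trans finProdFinEquiv).symm, fun x y => ?_⟩
    rw [← he0, ← he0]
    show _ ↔ (e0 (e0.symm (finProdFinEquiv.symm x))).1 = (e0 (e0.symm (finProdFinEquiv.symm y))).1
    rw [e0.apply_symm_apply, e0.apply_symm_apply]
    revert x y; decide +kernel
  let ψ : Equiv.Perm (Fin 8) ≃* Equiv.Perm Ω := e.permCongrHom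
  have hψ : ∀ g x, ψ g (e x) = e (g x) := fun g x => by simp [ψ, Equiv.permCongrHom]
  have hsign : ∀ g, Equiv.Perm.sign (ψ g) = Equiv.Perm.sign g := fun g => Equiv.Perm.sign_permCongr e g
  intro hco
  let K : Subgroup (alternatingGroup Ω) := (agl.map ψ.toMonoidHom).subgroupOf (alternatingGroup Ω)
  have hlt : (partStab f ⊓ alternatingGroup Ω).subgroupOf (alternatingGroup Ω) < K := by
    refine lt_of_le_of_ne (fun u hu => ?_) fun heq => ?_
    · obtain ⟨g, hg⟩ := ψ.surjective (u : Equiv.Perm Ω)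
      refine ⟨g, mem_agl g (fun x y => ?_) ?_, hg⟩
      · rw [he, he, ← hψ g x, ← hψ g y, hg]
        exact hu.1 (e x) (e y)
      · rw [← hsign, hg]; exact Equiv.Perm.mem_alternatingGroup.1 u.2
    · let s : Equiv.Perm (Fin 8) := Equiv.swap 1 2 * Equiv.swap 5 6
      have hs : s ∈ agl := by
        show ∀ a b c, s (bx (bx a b) c) = bx (bx (s a) (s b)) (s c)
        decide +kernel
      have hev : ψ s ∈ alternatingGroup Ω := by
        rw [Equiv.Perm.mem_alternatingGroup, hsign, map_mul, Equiv.Perm.sign_swap (by decide), Equiv.Perm.sign_swap (by decide)]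
        rfl
      have hm : (⟨ψ s, hev⟩ : alternatingGroup Ω) ∈ K := ⟨s, hs, rfl⟩
      rw [← heq] at hm
      have h1 := (hm.1 (e 0) (e 1)).1 ((he 0 1).1 rfl)
      show False
      change f (ψ s (e 0)) = f (ψ s (e 1)) at h1
      rw [hψ, hψ, ← he] at h1
      revert h1; decide +kernel
  have htop := hco.2 K hlt
  let s : Equiv.Perm (Fin 8) := Equiv.swap 0 1 * Equiv.swap 1 4
  have hev : ψ s ∈ alternatingGroup Ω := by
    rw [Equiv.Perm.mem_alternatingGroup, hsign, map_mul, Equiv.Perm.sign_swap (by decide), Equiv.Perm.sign_swap (by decide)]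
    rfl
  obtain ⟨g, hg, hge⟩ : (⟨ψ s, hev⟩ : alternatingGroup Ω) ∈ K := htop ▸ Subgroup.mem_top _
  have := ψ.injective hge
  subst this
  have h1 : s (bx (bx 0 1) 2) = bx (bx (s 0) (s 1)) (s 2) := hg 0 1 2
  revert h1; decide +kernel

end Cfsg.Agent.S5910
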