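import Cfsg.Statements.S5911
import Cfsg.Agent.Lib.Classical.SymIndex

set_option autoImplicit false
open Cfsg

open Cfsg.Agent.Classical
open MulAction

namespace Cfsg.Agent.S5911

/-- Let Ω be a finite set whose size n is not 6. Then every subgroup of the symmetric group on Ω of index n is the stabilizer of a point. -/
theorem result {Ω : Type*} [Fintype Ω] [DecidableEq Ω] (h6 : Fintype.card Ω ≠ 6)
    (H : Subgroup (Equiv.Perm Ω)) (hH : H.index = Fintype.card Ω) :
    ∃ x : Ω, H = MulAction.stabilizer (Equiv.Perm Ω) x := by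
  classical
  by_cases h5 : 5 ≤ Fintype.card Ω
  · exact SymIndex.index_eq_card h5 h6 H hH
  have hpos : 0 < H.index := Nat.pos_of_ne_zero Subgroup.index_ne_zero_of_finite
  haveI : Nonempty Ω := Fintype.card_pos_iff.1 (by omega)
  suffices ∃ x : Ω, ∀ g ∈ H, g x = x by
    obtain ⟨x, hx⟩ := this
    refine ⟨x, Subgroup.eq_of_le_of_card_ge (fun g hg => mem_stabilizer_iff.2 (hx g hg)) ?_⟩
    have h1 := H.index_mul_card
    have h2 := (stabilizer (Equiv.Perm Ω) x).index_mul_card
    rw [index_stabilizer_of_transitive (Equiv.Perm Ω) x, Nat.card_eq_fintype_card (α := Ω)] at h2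
    rw [hH] at h1
    exact le_of_eq (Nat.eq_of_mul_eq_mul_left (by omega) (h2.trans h1.symm))
  have hc : H.index * Nat.card H = (Fintype.card Ω).factorial := by
    rw [H.index_mul_card, Nat.card_perm, Nat.card_eq_fintype_card]
  rw [hH] at hc
  have : Fintype.card Ω = 1 ∨ Fintype.card Ω = 2 ∨ Fintype.card Ω = 3 ∨ Fintype.card Ω = 4 := by omega
  rcases this with h | h | h | h <;> rw [h] at hc <;> norm_num [Nat.factorial, -Nat.card_eq_fintype_card] at hc
  · haveI : Subsingleton Ω := Fintype.card_le_one_iff_subsingleton.1 (by omega)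
    exact ⟨Classical.arbitrary Ω, fun g _ => Subsingleton.elim _ _⟩
  · have hb : H = ⊥ := by first | exact hc | exact Subgroup.eq_bot_of_card_eq H (by omega)
    exact ⟨Classical.arbitrary Ω, fun g hg => by rw [hb, Subgroup.mem_bot] at hg; simp [hg]⟩
  all_goals
    -- a cyclic normal subgroup with exactly one fixed point
    obtain ⟨C, hC, hCn, c, hcC, hord, hsupp⟩ : ∃ C : Subgroup H, C.Normal ∧ Nat.card C = Fintype.card Ω - 1 ∧
        ∃ c : Equiv.Perm Ω, (∃ hc : c ∈ H, (⟨c, hc⟩ : H) ∈ C) ∧ orderOf c = Fintype.card Ω - 1 ∧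
          c.support.card = Fintype.card Ω - 1 := by
      obtain ⟨p, hp, hpe⟩ : ∃ p, Nat.Prime p ∧ p = Fintype.card Ω - 1 := ⟨_, by rw [h]; norm_num, rfl⟩
      haveI : Fact p.Prime := ⟨hp⟩
      obtain ⟨⟨c, hcH⟩, hc'⟩ := exists_prime_orderOf_dvd_card' (G := H) p (by rw [hpe, h]; omega)
      have hoc : orderOf c = p := by rw [← hc', Subgroup.orderOf_mk]
      refine ⟨Subgroup.zpowers ⟨c, hcH⟩, ?_, by rw [Nat.card_zpowers, hc', hpe], c,
        ⟨hcH, Subgroup.mem_zpowers _⟩, hoc.trans hpe, ?_⟩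
      · first
        | exact Subgroup.normal_of_index_eq_two (by
            have := (Subgroup.zpowers (⟨c, hcH⟩ : H)).index_mul_card
            rw [Nat.card_zpowers, hc', hpe, h] at this
            omega)
        | (have : (Subgroup.zpowers (⟨c, hcH⟩ : H)) = ⊤ := Subgroup.eq_top_of_card_eq _ (by
            rw [Nat.card_zpowers, hc', hpe, h]; omega)
           rw [this]; infer_instance)
      · obtain ⟨k, hk⟩ := Equiv.Perm.cycleType_prime_order (σ := c) (by rw [hoc]; exact hp)
        have hle := Equiv.Perm.sum_cycleType_le c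
        rw [hk, hoc, Multiset.sum_replicate, smul_eq_mul, hpe, h] at hle
        have hk0 : k = 0 := by omega
        rw [← Equiv.Perm.sum_cycleType, hk, hoc, hk0, hpe]
        simp
    obtain ⟨x, hx⟩ := Finset.card_eq_one.1 (show (c.supportᶜ).card = 1 by
      rw [Finset.card_compl, hsupp]; omega)
    refine ⟨x, fun g hg => ?_⟩
    obtain ⟨hcH, hcm⟩ := hcC
    have hconj := hC.conj_mem _ hcm ⟨g⁻¹, H.inv_mem hg⟩
    have hgen : C = Subgroup.zpowers (⟨c, hcH⟩ : H) :=
      (Subgroup.eq_of_le_of_card_ge ((Subgroup.zpowers_le).2 hcm) (by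
        rw [Nat.card_zpowers, hCn, Subgroup.orderOf_mk, hord])).symm
    rw [hgen] at hconj
    obtain ⟨m, hm⟩ := Subgroup.mem_zpowers_iff.1 hconj
    have hm' : c ^ m = g⁻¹ * c * g := by simpa using congrArg Subtype.val hm
    have hfix : c x = x := by
      have : x ∈ c.supportᶜ := by rw [hx]; simp
      simpa using this
    have h3 : (g⁻¹ * c * g) x = x := by rw [← hm']; exact Equiv.Perm.zpow_apply_eq_self_of_apply_eq_self hfix m
    rw [Equiv.Perm.mul_apply, Equiv.Perm.mul_apply, Equiv.Perm.inv_def, Equiv.symm_apply_eq] at h3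
    have h4 : g x ∈ c.supportᶜ := by simpa using h3
    rw [hx] at h4
    exact Finset.mem_singleton.1 h4

end Cfsg.Agent.S5911
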