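import Cfsg.Statements.S5912
import Cfsg.Agent.Lib.Classical.SymSix

set_option autoImplicit false
open Cfsg

open Cfsg.Agent.Classical
open MulAction

namespace Cfsg.Agent.S5912

/-- The symmetric group on a 6-element set Ω has exactly two conjugacy classes of subgroups of index 6: there are two non-conjugate subgroups of index 6 (a point stabilizer and a transitive subgroup isomorphic to S₅), and every subgroup of index 6 is conjugate to one of them. -/
theorem result {Ω : Type*} [Fintype Ω] [DecidableEq Ω] (h6 : Fintype.card Ω = 6) :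
    ∃ H₁ H₂ : Subgroup (Equiv.Perm Ω), H₁.index = 6 ∧ H₂.index = 6 ∧
      (¬ ∃ g : Equiv.Perm Ω, Subgroup.map (MulAut.conj g).toMonoidHom H₁ = H₂) ∧
      ∀ H : Subgroup (Equiv.Perm Ω), H.index = 6 →
        ∃ g : Equiv.Perm Ω, Subgroup.map (MulAut.conj g).toMonoidHom H₁ = H ∨ Subgroup.map (MulAut.conj g).toMonoidHom H₂ = H := by
  classical
  haveI : Nonempty Ω := Fintype.card_pos_iff.1 (by omega)
  let x : Ω := Classical.arbitrary Ω
  obtain ⟨K, hK, hKn⟩ := SymSix.exists_index_six
  let e : Fin 6 ≃ Ω := (Fintype.equivFinOfCardEq h6).symm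
  let K' : Subgroup (Equiv.Perm Ω) := K.map e.permCongrHom.toMonoidHom
  have hK' : K'.index = 6 := (Subgroup.index_map_equiv _ e.permCongrHom).trans hK
  have hKn' : ∀ y : Ω, K' ≠ stabilizer (Equiv.Perm Ω) y := by
    intro y hy
    apply hKn (e.symm y)
    ext g
    rw [← Subgroup.mem_map_iff_mem (f := e.permCongrHom.toMonoidHom) e.permCongrHom.injective]
    show e.permCongrHom g ∈ K' ↔ _
    rw [hy, mem_stabilizer_iff, mem_stabilizer_iff]
    show e (g (e.symm y)) = y ↔ g (e.symm y) = e.symm y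
    rw [Equiv.eq_symm_apply]
  refine ⟨stabilizer (Equiv.Perm Ω) x, K', (SymSix.stab_index x).trans h6, hK', ?_, fun H hH => ?_⟩
  · rintro ⟨g, hg⟩
    rw [SymSix.map_conj_stabilizer] at hg
    exact hKn' _ hg.symm
  · by_cases hfix : ∃ y : Ω, H = stabilizer (Equiv.Perm Ω) y
    · obtain ⟨y, rfl⟩ := hfix
      exact ⟨Equiv.swap x y, Or.inl (by rw [SymSix.map_conj_stabilizer, Equiv.swap_apply_left])⟩
    · obtain ⟨π, hπ⟩ := SymSix.conj_of_no_fix h6 H K' hH hK' (not_exists.1 hfix) hKn'
      exact ⟨π, Or.inr hπ⟩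

end Cfsg.Agent.S5912
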