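import Cfsg.Statements.S5913
-- import your own Cfsg.Agent.* helpers here

set_option autoImplicit false
open Cfsg

namespace Cfsg.Agent.S5913


/-- Let S be a non-abelian simple group and n a natural number. Every normal subgroup N of the direct power S^n (functions Fin n → S) is a subproduct: there is a set T of coordinates such that N consists exactly of the elements whose coordinates outside T are trivial. In particular the minimal normal subgroups of S^n are its n factors. -/
theorem result {S : Type*} [Group S] [IsSimpleGroup S] (hS : ¬ IsMulCommutative S) (n : ℕ)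
    (N : Subgroup (Fin n → S)) [N.Normal] :
    ∃ T : Finset (Fin n), ∀ x : Fin n → S, x ∈ N ↔ ∀ i, i ∉ T → x i = 1 := by
  classical
  have key : ∀ i, (∃ x ∈ N, x i ≠ 1) → ∀ s : S, Pi.mulSingle i s ∈ N := by
    rintro i ⟨x, hx, hxi⟩
    have hc : Subgroup.center S = ⊥ := by
      rcases Subgroup.Normal.eq_bot_or_eq_top (inferInstance : (Subgroup.center S).Normal) with h | h
      · exact h
      · exact absurd ⟨⟨fun a b => (Subgroup.mem_center_iff.1 (h ▸ Subgroup.mem_top b)) a⟩⟩ hS
    obtain ⟨s, hs⟩ : ∃ s, s * x i ≠ x i * s := by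
      by_contra h
      push Not at h
      have : x i ∈ Subgroup.center S := Subgroup.mem_center_iff.2 h
      rw [hc, Subgroup.mem_bot] at this
      exact hxi this
    have hn : (N.comap (MonoidHom.mulSingle (fun _ : Fin n => S) i)).Normal := Subgroup.Normal.comap inferInstance _
    rcases hn.eq_bot_or_eq_top with h | h
    · exfalso
      have hcomm : x * Pi.mulSingle i s * x⁻¹ * (Pi.mulSingle i s)⁻¹ = Pi.mulSingle i (x i * s * (x i)⁻¹ * s⁻¹) := by
        funext j
        rcases eq_or_ne j i with rfl | hj
        · simp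
        · simp [hj]
      have hmem : Pi.mulSingle i (x i * s * (x i)⁻¹ * s⁻¹) ∈ N := by
        rw [← hcomm, mul_assoc, mul_assoc]
        refine N.mul_mem hx ?_
        have := (inferInstance : N.Normal).conj_mem _ (N.inv_mem hx) (Pi.mulSingle i s : Fin n → S)
        rwa [mul_assoc] at this
      have : x i * s * (x i)⁻¹ * s⁻¹ ∈ (⊥ : Subgroup S) := h ▸ hmem
      rw [Subgroup.mem_bot, mul_inv_eq_one, mul_inv_eq_iff_eq_mul] at this
      exact hs this.symm
    · intro s'
      have : s' ∈ N.comap (MonoidHom.mulSingle (fun _ : Fin n => S) i) := h ▸ Subgroup.mem_top _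
      exact this
  refine ⟨Finset.univ.filter fun i => ∃ x ∈ N, x i ≠ 1, fun x => ⟨fun hx i hi => ?_, fun hx => ?_⟩⟩
  · by_contra h
    exact hi (Finset.mem_filter.2 ⟨Finset.mem_univ i, x, hx, h⟩)
  · refine Subgroup.pi_mem_of_mulSingle_mem _ fun i => ?_
    by_cases hi : ∃ x ∈ N, x i ≠ 1
    · exact key i hi _
    · rw [hx i (by simpa using hi), Pi.mulSingle_one]; exact N.one_mem

end Cfsg.Agent.S5913
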