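import Cfsg.Statements.S5914
import Cfsg.Agent.Lib.Classical.MinimalNormal
import Cfsg.Agent.S5913

set_option autoImplicit false
open Cfsg

open Cfsg.Agent.Classical

namespace Cfsg.Agent.S5914

theorem forward_abelian {G : Type*} [Group G] [Finite G] [Nontrivial G]
    (h : ∀ H : Subgroup G, H.Characteristic → H = ⊥ ∨ H = ⊤) (hc : ∀ a b : G, a * b = b * a) :
    ∃ (S : Type) (_ : Group S) (_ : IsSimpleGroup S) (n : ℕ), 1 ≤ n ∧ Nonempty (G ≃* (Fin n → S)) := by
  classical
  obtain ⟨p, hp, hd⟩ := Nat.exists_prime_and_dvd (Finite.one_lt_card (α := G)).ne'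
  haveI : Fact p.Prime := ⟨hp⟩
  let H : Subgroup G :=
    { carrier := {x | x ^ p = 1}
      mul_mem' := fun {a b} ha hb => by
        show (a * b) ^ p = 1
        rw [(show Commute a b from hc a b).mul_pow, show a ^ p = 1 from ha, show b ^ p = 1 from hb, one_mul]
      one_mem' := one_pow p
      inv_mem' := fun {a} ha => by
        show a⁻¹ ^ p = 1
        rw [inv_pow, show a ^ p = 1 from ha, inv_one] }
  have hH : H.Characteristic := Subgroup.characteristic_iff_comap_eq.2 fun φ => by
    ext x
    show (φ x) ^ p = 1 ↔ x ^ p = 1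
    rw [← map_pow, MulEquiv.map_eq_one_iff]
  have htop : H = ⊤ := by
    refine (h H hH).resolve_left fun e => ?_
    obtain ⟨x, hx⟩ := exists_prime_orderOf_dvd_card' (G := G) p hd
    have hm : x ∈ H := show x ^ p = 1 by rw [← hx]; exact pow_orderOf_eq_one x
    rw [e, Subgroup.mem_bot] at hm
    rw [hm, orderOf_one] at hx
    exact hp.ne_one hx.symm
  have hexp : ∀ x : G, x ^ p = 1 := fun x => (htop ▸ Subgroup.mem_top x : x ∈ H)
  letI : CommGroup G := { ‹Group G› with mul_comm := hc }
  letI : Module (ZMod p) (Additive G) := AddCommGroup.zmodModule (n := p) fun x => hexp x.toMul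
  haveI : Module.Finite (ZMod p) (Additive G) := Module.Finite.of_finite
  let n := Module.finrank (ZMod p) (Additive G)
  have hn : 0 < n := Module.finrank_pos
  let e := (Module.finBasis (ZMod p) (Additive G)).equivFun
  refine ⟨Multiplicative (ZMod p), inferInstance, ?_, n, hn, ⟨?_⟩⟩
  · haveI : IsCyclic (Multiplicative (ZMod p)) := inferInstance
    exact isSimpleGroup_of_prime_card (p := p) (by simp)
  · exact
      { toFun := fun g i => Multiplicative.ofAdd (e (Additive.ofMul g) i)
        invFun := fun f => (e.symm fun i => (f i).toAdd).toMul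
        left_inv := fun g => by simp
        right_inv := fun f => by funext i; simp
        map_mul' := fun a b => by funext i; simp [ofMul_mul, map_add] }

theorem of_decomp {X : Type*} [Group X] [Finite X] (N U : Subgroup X) (D : SimpleDecomp N (X ⧸ U)) :
    ∃ (S : Type) (_ : Group S) (_ : IsSimpleGroup S) (n : ℕ), 1 ≤ n ∧ Nonempty (N ≃* (Fin n → S)) := by
  classical
  haveI : Fintype (X ⧸ U) := Fintype.ofFinite _
  let i₀ : X ⧸ U := ((1 : X) : X ⧸ U)
  have htr : ∀ i : X ⧸ U, ∃ x : X, x • i = i₀ := fun i => MulAction.exists_smul_eq X i i₀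
  choose c hc using htr
  let conjT : ∀ i, D.T i ≃* D.T i₀ := fun i =>
    { toFun := fun u => ⟨c i * u * (c i)⁻¹, by simpa [hc i] using D.conj_mem (c i) i u u.2⟩
      invFun := fun u => ⟨(c i)⁻¹ * u * c i, by
        have h2 := D.conj_mem (c i)⁻¹ i₀ u u.2
        have e : (c i)⁻¹ • i₀ = i := by rw [inv_smul_eq_iff, hc i]
        rw [e] at h2
        simpa using h2⟩
      left_inv := fun u => Subtype.ext (by show _ = _; group)
      right_inv := fun u => Subtype.ext (by show _ = _; group)
      map_mul' := fun u v => Subtype.ext (by show c i * ((u : X) * v) * (c i)⁻¹ = (c i * u * (c i)⁻¹) * (c i * v * (c i)⁻¹); group) }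
  let ψ : N ≃* ((X ⧸ U) → D.T i₀) :=
    MulEquiv.ofBijective
      ({ toFun := fun x i => conjT i ⟨D.proj i x, D.proj_mem i x⟩
         map_one' := by funext i; exact (congrArg (conjT i) (Subtype.ext (map_one _))).trans (map_one _)
         map_mul' := fun x y => by
           funext i
           exact (congrArg (conjT i) (Subtype.ext (map_mul _ _ _))).trans
             (map_mul (conjT i) ⟨_, D.proj_mem i x⟩ ⟨_, D.proj_mem i y⟩) } : N →* ((X ⧸ U) → D.T i₀))
      ⟨by
        refine (injective_iff_map_eq_one _).2 fun x hx => D.proj_ext x fun i => ?_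
        have h2 := congrFun hx i
        exact congrArg Subtype.val ((conjT i).injective (h2.trans (map_one _).symm)), fun f => by
        obtain ⟨x, hx⟩ := D.proj_surj (fun i => ((conjT i).symm (f i) : X)) fun i => ((conjT i).symm (f i)).2
        refine ⟨x, funext fun i => ?_⟩
        show conjT i ⟨D.proj i x, _⟩ = f i
        rw [← (conjT i).apply_symm_apply (f i)]
        exact congrArg (conjT i) (Subtype.ext (hx i))⟩
  haveI hsimp : IsSimpleGroup (D.T i₀) :=
    { exists_pair_ne := by
        obtain ⟨u, hu, v, hv, huv⟩ := D.nonabelian i₀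
        exact ⟨⟨u, hu⟩, 1, fun e => huv (by
          have e1 : u = 1 := congrArg Subtype.val e
          rw [e1, one_mul, mul_one])⟩
      eq_bot_or_eq_top_of_normal := D.simple i₀ }
  haveI : Small.{0} (D.T i₀) := Countable.toSmall _
  let eM : Shrink.{0} (D.T i₀) ≃* D.T i₀ := Shrink.mulEquiv
  haveI : Nontrivial (Shrink.{0} (D.T i₀)) := eM.toEquiv.nontrivial
  refine ⟨Shrink.{0} (D.T i₀), inferInstance,
    IsSimpleGroup.isSimpleGroup_of_surjective eM.symm.toMonoidHom eM.symm.surjective,
    Fintype.card (X ⧸ U), Fintype.card_pos, ⟨?_⟩⟩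
  exact ψ.trans (MulEquiv.arrowCongr (Fintype.equivFin _) eM.symm)

theorem forward_nonabelian {G : Type*} [Group G] [Finite G]
    (h : ∀ H : Subgroup G, H.Characteristic → H = ⊥ ∨ H = ⊤) (hna : ∃ a b : G, a * b ≠ b * a) :
    ∃ (S : Type) (_ : Group S) (_ : IsSimpleGroup S) (n : ℕ), 1 ≤ n ∧ Nonempty (G ≃* (Fin n → S)) := by
  classical
  let X := G ⋊[MonoidHom.id (MulAut G)] MulAut G
  haveI : Finite (MulAut G) := Finite.of_injective (fun f : MulAut G => (f : G → G)) DFunLike.coe_injective
  haveI : Finite X := Finite.of_equiv _ SemidirectProduct.equivProd.symm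
  let N : Subgroup X := (SemidirectProduct.inl : G →* X).range
  haveI hN : N.Normal := by
    show (SemidirectProduct.inl : G →* X).range.Normal
    rw [SemidirectProduct.range_inl_eq_ker_rightHom]
    exact MonoidHom.normal_ker _
  have hmin : ∀ K : Subgroup X, K.Normal → K ≤ N → K = ⊥ ∨ K = N := by
    intro K hK hKN
    have hchar : (K.comap (SemidirectProduct.inl : G →* X)).Characteristic :=
      Subgroup.characteristic_iff_le_comap.2 fun φ g hg => by
        show SemidirectProduct.inl (φ g) ∈ K
        rw [show φ g = (MonoidHom.id (MulAut G)) φ g from rfl, SemidirectProduct.inl_aut]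
        have h2 := hK.conj_mem _ hg (SemidirectProduct.inr φ)
        rwa [map_inv]
    rcases h _ hchar with e | e
    · left
      rw [eq_bot_iff]
      rintro x hx
      obtain ⟨g, rfl⟩ := hKN hx
      have : g ∈ K.comap (SemidirectProduct.inl : G →* X) := hx
      rw [e, Subgroup.mem_bot] at this
      rw [this, map_one]; exact one_mem _
    · right
      refine le_antisymm hKN ?_
      rintro _ ⟨g, rfl⟩
      have : g ∈ K.comap (SemidirectProduct.inl : G →* X) := e ▸ Subgroup.mem_top g
      exact this
  obtain ⟨a, b, hab⟩ := hna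
  obtain ⟨U, ⟨D⟩⟩ := exists_simpleDecomp N hmin ⟨_, ⟨a, rfl⟩, _, ⟨b, rfl⟩, fun e => hab (by
    rw [← map_mul, ← map_mul] at e
    exact SemidirectProduct.inl_injective e)⟩
  obtain ⟨S, i1, i2, n, hn, ⟨e⟩⟩ := of_decomp N U D
  exact ⟨S, i1, i2, n, hn,
    ⟨(MonoidHom.ofInjective (f := (SemidirectProduct.inl : G →* X)) SemidirectProduct.inl_injective).trans e⟩⟩

theorem pow_char {S : Type} [Group S] [Finite S] [IsSimpleGroup S] (n : ℕ) (H : Subgroup (Fin n → S))
    (hH : H.Characteristic) : H = ⊥ ∨ H = ⊤ := by
  classical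
  rcases eq_or_ne H ⊥ with h | h
  · exact Or.inl h
  right
  haveI := hH
  by_cases hc : IsMulCommutative S
  · haveI := hc
    letI : CommGroup S := { ‹Group S› with mul_comm := hc.is_comm.comm }
    obtain ⟨x, hx, hx1⟩ : ∃ x ∈ H, x ≠ 1 := by
      simpa [Subgroup.eq_bot_iff_forall] using h
    obtain ⟨i, hi⟩ : ∃ i, x i ≠ 1 := Function.ne_iff.1 hx1
    have hgen : ∀ s : S, s ∈ Subgroup.zpowers (x i) := fun s => by
      rcases (inferInstance : (Subgroup.zpowers (x i)).Normal).eq_bot_or_eq_top with e | e
      · exact absurd (Subgroup.zpowers_eq_bot.1 e) hi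
      · exact e ▸ Subgroup.mem_top s
    have hsingle : ∀ j : Fin n, ∀ s : S, Pi.mulSingle j s ∈ H := by
      intro j s
      obtain ⟨j', hj'⟩ : ∃ j', j' = i := ⟨i, rfl⟩
      -- a shear adding coordinate `i` to coordinate `k`
      have shear : ∀ k, k ≠ i → Pi.mulSingle k (x i) ∈ H := by
        intro k hk
        let φ : MulAut (Fin n → S) :=
          { toFun := fun f => f * Pi.mulSingle k (f i)
            invFun := fun f => f * Pi.mulSingle k (f i)⁻¹
            left_inv := fun f => by
              funext l
              rcases eq_or_ne l k with rfl | hl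
              · simp [Pi.mulSingle_eq_of_ne (Ne.symm hk)]
              · simp [hl]
            right_inv := fun f => by
              funext l
              rcases eq_or_ne l k with rfl | hl
              · simp [Pi.mulSingle_eq_of_ne (Ne.symm hk)]
              · simp [hl]
            map_mul' := fun f g => by
              rw [Pi.mul_apply, Pi.mulSingle_mul, mul_mul_mul_comm] }
        have h2 : φ x ∈ H := Subgroup.characteristic_iff_map_eq.1 hH φ ▸ Subgroup.mem_map_of_mem φ.toMonoidHom hx
        have h3 := H.mul_mem (H.inv_mem hx) h2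
        rwa [show x⁻¹ * φ x = Pi.mulSingle k (x i) from inv_mul_cancel_left _ _] at h3
      obtain ⟨z, rfl⟩ := Subgroup.mem_zpowers_iff.1 (hgen s)
      rw [Pi.mulSingle_zpow]
      refine H.zpow_mem ?_ z
      rcases eq_or_ne j i with rfl | hji
      · by_cases hex : ∃ k, k ≠ j
        · obtain ⟨k, hk⟩ := hex
          let π : MulAut (Fin n → S) := MulEquiv.arrowCongr (Equiv.swap k j) (MulEquiv.refl S)
          have h2 : π (Pi.mulSingle k (x j)) ∈ H := Subgroup.characteristic_iff_map_eq.1 hH π ▸
            Subgroup.mem_map_of_mem π.toMonoidHom (shear k hk)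
          convert h2 using 1
          funext l
          show _ = (Pi.mulSingle k (x j) : Fin n → S) ((Equiv.swap k j).symm l)
          rcases eq_or_ne l j with rfl | hl
          · simp
          · rw [Pi.mulSingle_eq_of_ne hl, Pi.mulSingle_eq_of_ne]
            intro e
            rw [Equiv.symm_apply_eq, Equiv.swap_apply_left] at e
            exact hl e
        · push Not at hex
          convert hx using 1
          funext l
          rw [hex l, Pi.mulSingle_eq_same]
      · exact shear j hji
    exact eq_top_iff.2 fun f _ => Subgroup.pi_mem_of_mulSingle_mem f fun j => hsingle j (f j)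
  · obtain ⟨T, hT⟩ := Cfsg.Agent.S5913.result hc n H
    have hT1 : T.Nonempty := by
      by_contra hne
      rw [Finset.not_nonempty_iff_eq_empty] at hne
      refine h (eq_bot_iff.2 fun x hx => ?_)
      exact Subgroup.mem_bot.2 (funext fun i => (hT x).1 hx i (by simp [hne]))
    obtain ⟨t, ht⟩ := hT1
    refine eq_top_iff.2 fun f _ => (hT f).2 fun i hi => ?_
    exfalso
    obtain ⟨s, hs⟩ := exists_ne (1 : S)
    let π : MulAut (Fin n → S) := MulEquiv.arrowCongr (Equiv.swap t i) (MulEquiv.refl S)
    have h2 : π (Pi.mulSingle t s) ∈ H := Subgroup.characteristic_iff_map_eq.1 hH π ▸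
      Subgroup.mem_map_of_mem π.toMonoidHom ((hT _).2 fun l hl => Pi.mulSingle_eq_of_ne (fun e : l = t => hl (e ▸ ht)) _)
    have h3 := (hT _).1 h2 i hi
    refine hs ?_
    rw [← h3]
    show s = (Pi.mulSingle t s : Fin n → S) ((Equiv.swap t i).symm i)
    simp

end Cfsg.Agent.S5914


namespace Cfsg.Agent.S5914

/-- A non-trivial finite group G is characteristically simple (its only characteristic subgroups are 1 and G) if and only if G is isomorphic to a direct power S^n (n ≥ 1) of some simple group S (possibly cyclic of prime order). -/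
theorem result {G : Type*} [Group G] [Finite G] [Nontrivial G] :
    (∀ H : Subgroup G, H.Characteristic → H = ⊥ ∨ H = ⊤) ↔
    ∃ (S : Type) (_ : Group S) (_ : IsSimpleGroup S) (n : ℕ), 1 ≤ n ∧ Nonempty (G ≃* (Fin n → S)) := by
  constructor
  · intro h
    by_cases hc : ∀ a b : G, a * b = b * a
    · exact forward_abelian h hc
    · push Not at hc
      exact forward_nonabelian h hc
  · rintro ⟨S, _, hS, n, hn, ⟨e⟩⟩ H hH
    haveI : Finite (Fin n → S) := Finite.of_equiv G e.toEquiv
    haveI : Nonempty (Fin n) := ⟨⟨0, hn⟩⟩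
    haveI : Finite S := Finite.of_injective (fun s : S => (fun _ : Fin n => s)) fun a b h => congrFun h (Classical.arbitrary _)
    have hH' : (H.map e.toMonoidHom).Characteristic := Subgroup.characteristic_iff_le_comap.2 fun φ x hx => by
      obtain ⟨g, hg, rfl⟩ := hx
      let ψ : MulAut G := (e.trans φ).trans e.symm
      refine ⟨ψ g, Subgroup.characteristic_iff_le_comap.1 hH ψ hg, ?_⟩
      show e (e.symm (φ (e g))) = φ (e g)
      rw [e.apply_symm_apply]
    rcases pow_char n _ hH' with hb | ht
    · exact Or.inl ((Subgroup.map_eq_bot_iff_of_injective H e.injective).1 hb)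
    · right
      apply Subgroup.map_injective (f := e.toMonoidHom) e.injective
      rw [ht, Subgroup.map_top_of_surjective _ e.surjective]

end Cfsg.Agent.S5914
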