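import Cfsg.Statements.S5938
import Cfsg.Agent.Lib.Classical.DicksonRows
import Cfsg.Agent.S1012

set_option autoImplicit false
open Cfsg

open Cfsg.Agent.Classical
open scoped MatrixGroups Classical commutatorElement Cfsg.Agent.Classical.Dickson

namespace Cfsg.Agent.S5938

/-- Let p be a prime with p ≡ ±1 (mod 8) and F a field with p elements. Then PSL_2(F) has a maximal subgroup isomorphic to the symmetric group S_4. -/
theorem result {F : Type*} [Field F] [Fintype F] (p : ℕ) [Fact p.Prime] (hF : Fintype.card F = p) (hp : p % 8 = 1 ∨ p % 8 = 7) : ∃ H : Subgroup (Matrix.ProjectiveSpecialLinearGroup (Fin 2) F), IsCoatom H ∧ Nonempty (H ≃* Equiv.Perm (Fin 4)) := by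
  have hpp : p.Prime := Fact.out
  have hch : CharP F p := by
    obtain ⟨r, hr⟩ := CharP.exists F
    obtain ⟨n, hrp, hn⟩ := FiniteField.card F r
    rw [hF] at hn
    have : r = p := by
      have := (hpp.pow_eq_iff.1 hn.symm).1
      exact this
    exact this ▸ hr
  haveI := hch
  haveI : Finite (Matrix.ProjectiveSpecialLinearGroup (Fin 2) F) := Finite.of_surjective _ SL2Two.proj_surjective
  have h8 : Fintype.card F % 8 = 1 ∨ Fintype.card F % 8 = 7 := by rw [hF]; exact hp
  have h2 : (2 : F) ≠ 0 := SL2Two.two_ne_zero' (Nat.odd_iff.2 (by omega))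
  obtain ⟨⟨V, hV⟩⟩ : Nonempty {V : Subgroup (Matrix.ProjectiveSpecialLinearGroup (Fin 2) F) // IsKleinFour V} := by
    have hk := SL2Two.twelve_mul_card_klein (F := F) h2
    by_contra hc
    rw [not_nonempty_iff] at hc
    rw [Nat.card_of_isEmpty, mul_zero] at hk
    exact Nat.card_pos.ne hk
  set H := Subgroup.normalizer (V : Set (Matrix.ProjectiveSpecialLinearGroup (Fin 2) F)) with hHdef
  have hH24 : Nat.card H = 24 := SL2Two.card_normalizer_klein h2 h8 V hV
  obtain ⟨eH⟩ := S1012.result hH24 (SL2Two.card_normalizer_klein_dvd h2 V hV).2.2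
  have hc := SL2.card_PSL2_mul (F := F)
  rw [Nat.gcd_eq_left (show 2 ∣ Fintype.card F - 1 by omega)] at hc
  have hq7 : 7 ≤ Fintype.card F := by have := Fintype.one_lt_card (α := F); omega
  have hbig : 24 < Nat.card (Matrix.ProjectiveSpecialLinearGroup (Fin 2) F) := by
    have : 48 ≤ Fintype.card F ^ 2 - 1 := by
      have : 49 ≤ Fintype.card F ^ 2 := by nlinarith
      omega
    nlinarith
  obtain ⟨M, hM, hle⟩ := (eq_top_or_exists_le_coatom H).resolve_left
    fun h => by rw [h, Subgroup.card_top] at hH24; omega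
  suffices hcard : Nat.card M = 24 by
    obtain rfl : H = M := Subgroup.eq_of_le_of_card_ge hle (by rw [hH24, hcard])
    exact ⟨H, hM, ⟨eH⟩⟩
  obtain ⟨hmax, hnot, hMc, ⟨eM⟩⟩ := Dickson.psl_max hM
  have hd24 : 24 ∣ Nat.card M := hH24 ▸ Subgroup.card_dvd_of_le hle
  obtain ⟨a, b, ha, hb, hb1, hab4, hab2, habc, hdc⟩ := Dickson.perm_four_gens
  let φ : Equiv.Perm (Fin 4) →* PGL(2, AlgebraicClosure F) := Dickson.emb.comp (H.subtype.comp eH.symm.toMonoidHom)
  have hφ : Function.Injective φ := fun u v h => eH.symm.injective (Subtype.ext (Dickson.emb_injective h))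
  have hφM : ∀ u, φ u ∈ M.map Dickson.emb := fun u => ⟨_, hle (eH.symm u).2, rfl⟩
  rcases Dickson.max_cases p (Dickson.pslF_le F) le_rfl (fun c hc => Dickson.conj_pslF hc)
    (Dickson.ambient_pslF (F := F)) (by omega) hmax hnot with
    ⟨x, -, hx, -⟩ | ⟨k, -, -, ⟨f⟩⟩ | ⟨-, -, ⟨f⟩⟩ | ⟨-, -, ⟨f⟩⟩ | ⟨-, -, -, ⟨f⟩⟩ | ⟨K₀, c, m, -, -, -, hm, hq, -⟩
  · exfalso
    have hfix : ∀ u, φ u • x = x := fun u => (hx ▸ hφM u : φ u ∈ Dickson.st (Dickson.pslF F) x).2
    refine hdc (hφ ?_)
    rw [map_commutatorElement, map_commutatorElement, map_commutatorElement, map_one]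
    exact Dickson.double_comm (hfix _) (hfix _) (hfix _) (hfix _)
  · exfalso
    let ψ : Equiv.Perm (Fin 4) →* DihedralGroup k :=
      f.toMonoidHom.comp (φ.codRestrict _ hφM)
    have hψ : Function.Injective ψ := fun u v h => hφ (congrArg Subtype.val (f.injective h))
    haveI : Fact (Nat.Prime 3) := ⟨Nat.prime_three⟩
    rcases Dickson.dihedral_two_three (ψ a) (ψ b) (by rw [orderOf_injective ψ hψ, orderOf_eq_prime hb hb1]) with h | h
    · rw [← map_mul, ← map_pow] at h
      exact hab2 (hψ (h.trans ψ.map_one.symm))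
    · rw [← map_mul, ← map_mul] at h
      exact habc (hψ h)
  · exfalso
    rw [Nat.card_congr (eM.trans f).toEquiv, nat_card_alternatingGroup, Nat.card_fin] at hd24
    exact absurd hd24 (by decide)
  · rw [Nat.card_congr (eM.trans f).toEquiv, Nat.card_perm, Nat.card_fin]
    rfl
  · exfalso
    rw [Nat.card_congr (eM.trans f).toEquiv, nat_card_alternatingGroup, Nat.card_fin] at hd24
    exact absurd hd24 (by decide)
  · exfalso
    rw [hF] at hq
    have := (hpp.pow_eq_iff.1 hq.symm).2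
    exact hm.ne_one this

end Cfsg.Agent.S5938
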