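import Cfsg.Statements.S5939
import Cfsg.Agent.Lib.Classical.DicksonRows
import Cfsg.Agent.S1012

set_option autoImplicit false
open Cfsg

open Cfsg.Agent.Classical
open scoped MatrixGroups Classical commutatorElement Cfsg.Agent.Classical.Dickson

namespace Cfsg.Agent.S5939

/-- Let p be a prime and F a finite field of characteristic p such that either F has p elements and p ≡ ±1 (mod 10), or F has p² elements and p ≡ ±3 (mod 10). Then PSL_2(F) has a maximal subgroup isomorphic to the alternating group A_5. -/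
theorem result {F : Type*} [Field F] [Fintype F] (p : ℕ) [Fact p.Prime] [CharP F p] (h : (Fintype.card F = p ∧ (p % 10 = 1 ∨ p % 10 = 9)) ∨ (Fintype.card F = p ^ 2 ∧ (p % 10 = 3 ∨ p % 10 = 7))) : ∃ H : Subgroup (Matrix.ProjectiveSpecialLinearGroup (Fin 2) F), IsCoatom H ∧ Nonempty (H ≃* alternatingGroup (Fin 5)) := by
  have hpp : p.Prime := Fact.out
  haveI : Finite (Matrix.ProjectiveSpecialLinearGroup (Fin 2) F) := Finite.of_surjective _ SL2Two.proj_surjective
  have hq : 9 ≤ Fintype.card F ∧ Fintype.card F % 2 = 1 ∧ 5 ∣ Fintype.card F * (Fintype.card F ^ 2 - 1) := by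
    have h2 := hpp.two_le
    rcases h with ⟨hc, h'⟩ | ⟨hc, h'⟩ <;> rw [hc]
    · refine ⟨by omega, by omega, Dvd.dvd.mul_left ?_ _⟩
      have hs : p ^ 2 % 5 = 1 := by
        rw [Nat.pow_mod]
        rcases (show p % 5 = 1 ∨ p % 5 = 4 by omega) with e | e <;> rw [e]
      have : 1 ≤ p ^ 2 := Nat.one_le_pow _ _ hpp.pos
      omega
    · have h3 : 3 ≤ p := by omega
      refine ⟨by nlinarith, ?_, Dvd.dvd.mul_left ?_ _⟩
      · rw [Nat.pow_mod, show p % 2 = 1 by omega]
      · rw [← pow_mul]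
        have hs : p ^ (2 * 2) % 5 = 1 := by
          rw [Nat.pow_mod]
          rcases (show p % 5 = 2 ∨ p % 5 = 3 by omega) with e | e <;> rw [e]
        have : 1 ≤ p ^ (2 * 2) := Nat.one_le_pow _ _ hpp.pos
        omega
  obtain ⟨t, ht⟩ := Icosa.exists_root hq.2.2
  obtain ⟨A, B, hAB⟩ := Icosa.exists_isPair ht
  set H := Icosa.IsPair.grp A B
  have hH60 : Nat.card H = 60 := hAB.card_grp
  obtain ⟨eH⟩ := hAB.nonempty_grp
  have hc := SL2.card_PSL2_mul (F := F)
  rw [Nat.gcd_eq_left (show 2 ∣ Fintype.card F - 1 by omega)] at hc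
  have hbig : 60 < Nat.card (Matrix.ProjectiveSpecialLinearGroup (Fin 2) F) := by
    have : 80 ≤ Fintype.card F ^ 2 - 1 := by
      have : 81 ≤ Fintype.card F ^ 2 := by nlinarith [hq.1]
      omega
    nlinarith [hq.1]
  obtain ⟨M, hM, hle⟩ := (eq_top_or_exists_le_coatom H).resolve_left
    fun h => by rw [h, Subgroup.card_top] at hH60; omega
  suffices hcard : Nat.card M = 60 by
    obtain rfl : H = M := Subgroup.eq_of_le_of_card_ge hle (by rw [hH60, hcard])
    exact ⟨H, hM, ⟨eH⟩⟩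
  obtain ⟨hmax, hnot, hMc, ⟨eM⟩⟩ := Dickson.psl_max hM
  have hd60 : 60 ∣ Nat.card M := hH60 ▸ Subgroup.card_dvd_of_le hle
  obtain ⟨a, b, ha, ha1, hb, hb1, hab5, hab1, hdc⟩ := Dickson.alt_five_gens
  let φ : alternatingGroup (Fin 5) →* PGL(2, AlgebraicClosure F) := Dickson.emb.comp (H.subtype.comp eH.symm.toMonoidHom)
  have hφ : Function.Injective φ := fun u v h => eH.symm.injective (Subtype.ext (Dickson.emb_injective h))
  have hφM : ∀ u, φ u ∈ M.map Dickson.emb := fun u => ⟨_, hle (eH.symm u).2, rfl⟩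
  rcases Dickson.max_cases p (Dickson.pslF_le F) le_rfl (fun c hc => Dickson.conj_pslF hc)
    (Dickson.ambient_pslF (F := F)) (by omega) hmax hnot with
    ⟨x, -, hx, -⟩ | ⟨k, -, -, ⟨f⟩⟩ | ⟨-, -, ⟨f⟩⟩ | ⟨-, -, ⟨f⟩⟩ | ⟨-, -, -, ⟨f⟩⟩ |
    ⟨K₀, c, m, -, hK, -, hm, hqK, -, hiso⟩
  · exfalso
    have hfix : ∀ u, φ u • x = x := fun u => (hx ▸ hφM u : φ u ∈ Dickson.st (Dickson.pslF F) x).2
    refine hdc (hφ ?_)
    rw [map_commutatorElement, map_commutatorElement, map_commutatorElement, map_one]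
    exact Dickson.double_comm (hfix _) (hfix _) (hfix _) (hfix _)
  · exfalso
    let ψ : alternatingGroup (Fin 5) →* DihedralGroup k := f.toMonoidHom.comp (φ.codRestrict _ hφM)
    have hψ : Function.Injective ψ := fun u v h => hφ (congrArg Subtype.val (f.injective h))
    haveI : Fact (Nat.Prime 3) := ⟨Nat.prime_three⟩
    haveI : Fact (Nat.Prime 5) := ⟨by norm_num⟩
    have ho5 : orderOf (ψ a * ψ b) = 5 := by
      rw [← map_mul, orderOf_injective ψ hψ, orderOf_eq_prime hab5 hab1]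
    rcases Dickson.dihedral_two_three (ψ a) (ψ b) (by rw [orderOf_injective ψ hψ, orderOf_eq_prime hb hb1]) with h | h
    · have := orderOf_dvd_of_pow_eq_one h
      rw [ho5] at this
      norm_num at this
    · have h6 : (ψ a * ψ b) ^ 6 = 1 := by
        rw [(show Commute (ψ a) (ψ b) from h).mul_pow, ← map_pow, ← map_pow, show a ^ 6 = (a ^ 2) ^ 3 by rw [← pow_mul],
          show b ^ 6 = (b ^ 3) ^ 2 by rw [← pow_mul], ha, hb, one_pow, one_pow, map_one, mul_one]
      have := orderOf_dvd_of_pow_eq_one h6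
      rw [ho5] at this
      norm_num at this
  · exfalso
    rw [Nat.card_congr (eM.trans f).toEquiv, nat_card_alternatingGroup, Nat.card_fin] at hd60
    exact absurd hd60 (by decide)
  · exfalso
    rw [Nat.card_congr (eM.trans f).toEquiv, Nat.card_perm, Nat.card_fin] at hd60
    exact absurd hd60 (by decide)
  · rw [Nat.card_congr (eM.trans f).toEquiv, nat_card_alternatingGroup, Nat.card_fin]
    rfl
  · exfalso
    rcases h with ⟨hc', h'⟩ | ⟨hc', h'⟩
    · rw [hc'] at hqK
      exact hm.ne_one (hpp.pow_eq_iff.1 hqK.symm).2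
    · rw [hc'] at hqK
      obtain ⟨j, hj, hjc⟩ := Dickson.card_subfield_pow p hK
      rw [hjc, ← pow_mul] at hqK
      have hjm : j * m = 2 := (Nat.pow_right_injective hpp.two_le hqK).symm
      have hj1 : j = 1 := by
        have := hm.two_le
        nlinarith
      rw [hjc, hj1, pow_one] at hiso
      have hd : 60 ∣ 2 * (p * (p ^ 2 - 1)) := by
        rw [← hMc] at hd60
        rcases hiso with ⟨hh, -⟩ | ⟨-, hh, -⟩
        · exact (hh ▸ hd60).mul_left 2
        · exact (hd60.mul_left 2 |>.trans (dvd_of_eq hh)).mul_left 2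
      have h5 : 5 ∣ 2 * (p * (p ^ 2 - 1)) := (show 5 ∣ 60 by norm_num).trans hd
      have hs : p ^ 2 % 5 = 4 := by
        rw [Nat.pow_mod]
        rcases (show p % 5 = 2 ∨ p % 5 = 3 by omega) with e | e <;> rw [e]
      rcases (Nat.Prime.dvd_mul (by norm_num)).1 h5 with e | e
      · norm_num at e
      rcases (Nat.Prime.dvd_mul (by norm_num)).1 e with e' | e'
      · omega
      · have : 1 ≤ p ^ 2 := Nat.one_le_pow _ _ hpp.pos
        omega

end Cfsg.Agent.S5939
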