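import Cfsg.Statements.S5940
import Cfsg.Agent.Lib.Classical.DicksonRows
import Cfsg.Agent.S1012

set_option autoImplicit false
open Cfsg

open Cfsg.Agent.Classical
open scoped MatrixGroups Classical commutatorElement Cfsg.Agent.Classical.Dickson

namespace Cfsg.Agent.S5940

/-- Let p ≥ 5 be a prime with p ≡ ±3 (mod 8) and p ≢ ±1 (mod 10), and F a field with p elements. Then PSL_2(F) has a maximal subgroup isomorphic to the alternating group A_4. -/
theorem result {F : Type*} [Field F] [Fintype F] (p : ℕ) [Fact p.Prime] (hF : Fintype.card F = p) (h5 : 5 ≤ p) (h8 : p % 8 = 3 ∨ p % 8 = 5) (h10 : p % 10 ≠ 1 ∧ p % 10 ≠ 9) : ∃ H : Subgroup (Matrix.ProjectiveSpecialLinearGroup (Fin 2) F), IsCoatom H ∧ Nonempty (H ≃* alternatingGroup (Fin 4)) := by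
  have hpp : p.Prime := Fact.out
  have hch : CharP F p := by
    obtain ⟨r, hr⟩ := CharP.exists F
    obtain ⟨n, hrp, hn⟩ := FiniteField.card F r
    rw [hF] at hn
    have : r = p := (hpp.pow_eq_iff.1 hn.symm).1
    exact this ▸ hr
  haveI := hch
  haveI : Finite (Matrix.ProjectiveSpecialLinearGroup (Fin 2) F) := Finite.of_surjective _ SL2Two.proj_surjective
  have h8' : Fintype.card F % 8 = 3 ∨ Fintype.card F % 8 = 5 := by rw [hF]; exact h8
  have h2 : (2 : F) ≠ 0 := SL2Two.two_ne_zero' (Nat.odd_iff.2 (by omega))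
  obtain ⟨⟨V, hV⟩⟩ : Nonempty {V : Subgroup (Matrix.ProjectiveSpecialLinearGroup (Fin 2) F) // IsKleinFour V} := by
    have hk := SL2Two.twelve_mul_card_klein (F := F) h2
    by_contra hc
    rw [not_nonempty_iff] at hc
    rw [Nat.card_of_isEmpty, mul_zero] at hk
    exact Nat.card_pos.ne hk
  set H := Subgroup.normalizer (V : Set (Matrix.ProjectiveSpecialLinearGroup (Fin 2) F)) with hHdef
  have hH12 : Nat.card H = 12 := Dickson.card_nz_three_five h8' hV
  obtain ⟨eH⟩ := SL2Two.nonempty_alt_four hH12 (SL2Two.card_normalizer_klein_dvd h2 V hV).2.2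
  have hc := SL2.card_PSL2_mul (F := F)
  rw [Nat.gcd_eq_left (show 2 ∣ Fintype.card F - 1 by omega)] at hc
  have hq5 : 5 ≤ Fintype.card F := by omega
  have hbig : 12 < Nat.card (Matrix.ProjectiveSpecialLinearGroup (Fin 2) F) := by
    have : 24 ≤ Fintype.card F ^ 2 - 1 := by
      have : 25 ≤ Fintype.card F ^ 2 := by nlinarith
      omega
    nlinarith
  obtain ⟨M, hM, hle⟩ := (eq_top_or_exists_le_coatom H).resolve_left
    fun h => by rw [h, Subgroup.card_top] at hH12; omega
  suffices hcard : Nat.card M = 12 by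
    obtain rfl : H = M := Subgroup.eq_of_le_of_card_ge hle (by rw [hH12, hcard])
    exact ⟨H, hM, ⟨eH⟩⟩
  obtain ⟨hmax, hnot, hMc, ⟨eM⟩⟩ := Dickson.psl_max hM
  obtain ⟨a, b, c₀, ha, ha1, hc2, hc1, hac, hne, hb, hb1, hab2, habc⟩ := Dickson.alt_four_gens
  let φ : alternatingGroup (Fin 4) →* PGL(2, AlgebraicClosure F) := Dickson.emb.comp (H.subtype.comp eH.symm.toMonoidHom)
  have hφ : Function.Injective φ := fun u v h => eH.symm.injective (Subtype.ext (Dickson.emb_injective h))
  have hφM : ∀ u, φ u ∈ M.map Dickson.emb := fun u => ⟨_, hle (eH.symm u).2, rfl⟩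
  rcases Dickson.max_cases p (Dickson.pslF_le F) le_rfl (fun c hc => Dickson.conj_pslF hc)
    (Dickson.ambient_pslF (F := F)) (by omega) hmax hnot with
    ⟨x, -, hx, -⟩ | ⟨k, -, -, ⟨f⟩⟩ | ⟨-, -, ⟨f⟩⟩ | ⟨-, -, ⟨f⟩⟩ | ⟨-, -, h5d, -⟩ | ⟨K₀, c, m, -, -, -, hm, hq, -⟩
  · exfalso
    have hfix : ∀ u, φ u • x = x := fun u => (hx ▸ hφM u : φ u ∈ Dickson.st (Dickson.pslF F) x).2
    refine hne (hφ (Dickson.invol_eq_of_fixed ?_ (hfix a) (hfix c₀) ?_ ?_ ?_ ?_ ?_))
    · intro e
      refine h2 ((algebraMap F (AlgebraicClosure F)).injective ?_)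
      rw [map_ofNat, map_zero]
      exact e
    · rw [← map_mul, ← pow_two, ha, map_one]
    · rw [← map_mul, ← pow_two, hc2, map_one]
    · rw [← map_mul, hac, map_mul]
    · exact (map_ne_one_iff φ hφ).2 ha1
    · exact (map_ne_one_iff φ hφ).2 hc1
  · exfalso
    let ψ : alternatingGroup (Fin 4) →* DihedralGroup k := f.toMonoidHom.comp (φ.codRestrict _ hφM)
    have hψ : Function.Injective ψ := fun u v h => hφ (congrArg Subtype.val (f.injective h))
    haveI : Fact (Nat.Prime 3) := ⟨Nat.prime_three⟩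
    rcases Dickson.dihedral_two_three (ψ a) (ψ b) (by rw [orderOf_injective ψ hψ, orderOf_eq_prime hb hb1]) with h | h
    · rw [← map_mul, ← map_pow] at h
      exact hab2 (hψ (h.trans ψ.map_one.symm))
    · rw [← map_mul, ← map_mul] at h
      exact habc (hψ h)
  · rw [Nat.card_congr (eM.trans f).toEquiv, nat_card_alternatingGroup, Nat.card_fin]
    rfl
  · exfalso
    let ψ : Equiv.Perm (Fin 4) →* Matrix.ProjectiveSpecialLinearGroup (Fin 2) F :=
      M.subtype.comp (eM.trans f).symm.toMonoidHom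
    have hψ : Function.Injective ψ := fun u v h => (eM.trans f).symm.injective (Subtype.ext h)
    have h4 : orderOf (finRotate 4 : Equiv.Perm (Fin 4)) = 4 :=
      orderOf_eq_prime_pow (p := 2) (n := 1) (by decide) (by decide)
    exact SL2Two.psl_no_four h2 h8' _ ((orderOf_injective ψ hψ _).trans h4)
  · exfalso
    have h5q : 5 ∣ Fintype.card F - 1 ∨ 5 ∣ Fintype.card F + 1 :=
      h5d.imp (fun e => e.trans (Nat.div_dvd_of_dvd (Nat.gcd_dvd_right _ _)))
        (fun e => e.trans (Nat.div_dvd_of_dvd (by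
          rw [Nat.gcd_eq_left (show 2 ∣ Fintype.card F - 1 by omega)]; omega)))
    rw [hF] at h5q
    omega
  · exfalso
    rw [hF] at hq
    exact hm.ne_one (hpp.pow_eq_iff.1 hq.symm).2

end Cfsg.Agent.S5940
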