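import Cfsg.Statements.S5941
import Cfsg.Agent.Lib.Classical.DicksonExists

set_option autoImplicit false
open Cfsg

open Cfsg.Agent.Classical
open scoped MatrixGroups Classical

namespace Cfsg.Agent.S5941

/-- Let K and F be finite fields of odd characteristic with #F = (#K)². Then PSL_2(F) has a maximal subgroup isomorphic to PGL_2(K). -/
theorem result {F K : Type*} [Field F] [Fintype F] [Field K] [Fintype K] (q : ℕ) (hK : Fintype.card K = q) (hF : Fintype.card F = q ^ 2) (hq : Odd q) : ∃ H : Subgroup (Matrix.ProjectiveSpecialLinearGroup (Fin 2) F), IsCoatom H ∧ Nonempty (H ≃* Matrix.ProjGenLinGroup (Fin 2) K) := by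
  subst hK
  obtain ⟨p, hp⟩ := CharP.exists F
  obtain ⟨s, hpp, hs⟩ := FiniteField.card F p
  haveI : Fact p.Prime := ⟨hpp⟩
  have h1 : 1 < Fintype.card K := Fintype.one_lt_card
  have h3 : 3 ≤ Fintype.card K := by rw [Nat.odd_iff] at hq; omega
  obtain ⟨L, hL, hLc⟩ := Dickson.exists_subfield_root (F := F) p h1 hF
  rw [← hLc] at hF
  have hmax := Dickson.subfield_max p hL (by rw [hLc]; exact h3) Nat.prime_two hF
  obtain ⟨H, hH, -, ⟨e⟩⟩ := Dickson.exists_coatom Dickson.emb Dickson.emb_injective hmax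
  haveI := Dickson.finite_of_le hL
  haveI := Fintype.ofFinite L
  have heq := (Dickson.card_sub_inf_pslF hL hF).1 (Or.inr even_two)
  refine ⟨H, hH, ⟨((e.trans (MulEquiv.subgroupCongr heq)).trans (Dickson.nonempty_subPGL L).some).trans
    (Dickson.pgl_congr (FiniteField.ringEquivOfCardEq (by rw [← Nat.card_eq_fintype_card, hLc]))).some⟩⟩

end Cfsg.Agent.S5941
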