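import Cfsg.Statements.S5942
import Cfsg.Agent.Lib.Classical.DicksonExists

set_option autoImplicit false
open Cfsg

open Cfsg.Agent.Classical
open scoped MatrixGroups Classical

namespace Cfsg.Agent.S5942

/-- Let K and F be finite fields of odd characteristic with #F = (#K)^r for an odd prime r. Then PSL_2(F) has a maximal subgroup isomorphic to PSL_2(K). -/
theorem result {F K : Type*} [Field F] [Fintype F] [Field K] [Fintype K] (q r : ℕ) (hK : Fintype.card K = q) (hF : Fintype.card F = q ^ r) (hq : Odd q) (hr : r.Prime) (hr2 : r ≠ 2) : ∃ H : Subgroup (Matrix.ProjectiveSpecialLinearGroup (Fin 2) F), IsCoatom H ∧ Nonempty (H ≃* Matrix.ProjectiveSpecialLinearGroup (Fin 2) K) := by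
  subst hK
  obtain ⟨p, hp⟩ := CharP.exists F
  obtain ⟨s, hpp, hs⟩ := FiniteField.card F p
  haveI : Fact p.Prime := ⟨hpp⟩
  have h1 : 1 < Fintype.card K := Fintype.one_lt_card
  have h3 : 3 ≤ Fintype.card K := by rw [Nat.odd_iff] at hq; omega
  obtain ⟨L, hL, hLc⟩ := Dickson.exists_subfield_root (F := F) p h1 hF
  rw [← hLc] at hF hq
  have hmax := Dickson.subfield_max p hL (by rw [hLc]; exact h3) hr hF
  obtain ⟨H, hH, -, ⟨e⟩⟩ := Dickson.exists_coatom Dickson.emb Dickson.emb_injective hmax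
  haveI := Dickson.finite_of_le hL
  haveI := Fintype.ofFinite L
  have hc := (Dickson.card_sub_inf_pslF hL hF).2 hq (hr.eq_two_or_odd'.resolve_left hr2)
  have hle : Nat.card ↥(Dickson.subPGL L ⊓ Dickson.pslF F) ≤
      Nat.card (Matrix.ProjectiveSpecialLinearGroup (Fin 2) L) := by
    have h := SL2.card_PSL2_mul (F := L)
    rw [Nat.card_eq_fintype_card (α := L)] at hc hq
    rw [Nat.gcd_eq_left (show 2 ∣ Fintype.card L - 1 by rw [Nat.odd_iff] at hq; omega)] at h
    omega
  exact ⟨H, hH, ⟨(e.trans (Dickson.nonempty_sub_psl hL hle).some).trans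
    (psl_congr (FiniteField.ringEquivOfCardEq (by rw [← Nat.card_eq_fintype_card, hLc]))).some⟩⟩

end Cfsg.Agent.S5942
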