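import Cfsg.Statements.S5943
import Cfsg.Agent.Lib.Classical.DicksonExists

set_option autoImplicit false
open Cfsg

open Cfsg.Agent.Classical
open scoped MatrixGroups Classical

namespace Cfsg.Agent.S5943

/-- Let K and F be finite fields of characteristic 2 with #K = q > 2 and #F = q^r for a prime r. Then PSL_2(F) has a maximal subgroup isomorphic to PSL_2(K) (which equals PGL_2(K) in characteristic 2). -/
theorem result {F K : Type*} [Field F] [Fintype F] [Field K] [Fintype K] (q r : ℕ) (hK : Fintype.card K = q) (hF : Fintype.card F = q ^ r) (hq : Even q) (hq2 : q ≠ 2) (hr : r.Prime) : ∃ H : Subgroup (Matrix.ProjectiveSpecialLinearGroup (Fin 2) F), IsCoatom H ∧ Nonempty (H ≃* Matrix.ProjectiveSpecialLinearGroup (Fin 2) K) := by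
  subst hK
  obtain ⟨p, hp⟩ := CharP.exists F
  obtain ⟨s, hpp, hs⟩ := FiniteField.card F p
  haveI : Fact p.Prime := ⟨hpp⟩
  have h1 : 1 < Fintype.card K := Fintype.one_lt_card
  obtain ⟨L, hL, hLc⟩ := Dickson.exists_subfield_root (F := F) p h1 hF
  rw [← hLc] at hF hq
  have hmax := Dickson.subfield_max p hL (by rw [hLc]; omega) hr hF
  obtain ⟨H, hH, -, ⟨e⟩⟩ := Dickson.exists_coatom Dickson.emb Dickson.emb_injective hmax
  haveI := Dickson.finite_of_le hL
  haveI := Fintype.ofFinite L
  have heq := (Dickson.card_sub_inf_pslF hL hF).1 (Or.inl hq)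
  have hle : Nat.card ↥(Dickson.subPGL L ⊓ Dickson.pslF F) ≤
      Nat.card (Matrix.ProjectiveSpecialLinearGroup (Fin 2) L) := by
    have h := SL2.card_PSL2_mul (F := L)
    rw [heq, Dickson.card_subPGL L, Nat.card_eq_fintype_card (α := L)]
    rw [Nat.card_eq_fintype_card (α := L), Nat.even_iff] at hq
    have hd : Nat.gcd 2 (Fintype.card L - 1) = 1 := by
      have := Fintype.one_lt_card (α := L)
      rcases (Nat.dvd_prime Nat.prime_two).1 (Nat.gcd_dvd_left 2 (Fintype.card L - 1)) with h | h
      · exact h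
      · have h' := Nat.gcd_dvd_right 2 (Fintype.card L - 1)
        rw [h] at h'
        omega
    rw [hd, one_mul] at h
    rw [h]
  exact ⟨H, hH, ⟨(e.trans (Dickson.nonempty_sub_psl hL hle).some).trans
    (psl_congr (FiniteField.ringEquivOfCardEq (by rw [← Nat.card_eq_fintype_card, hLc]))).some⟩⟩

end Cfsg.Agent.S5943
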