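import Cfsg.Statements.S5944
import Cfsg.Agent.Lib.Classical.SymIndex

set_option autoImplicit false
open Cfsg

open Cfsg.Agent.Classical

namespace Cfsg.Agent.S5944

/-- For n ≠ 4, every proper subgroup of the symmetric group S_n other than the alternating group A_n has index at least n. -/
theorem result (n : ℕ) (hn : n ≠ 4) (H : Subgroup (Equiv.Perm (Fin n))) (hH : H ≠ ⊤) (hA : H ≠ alternatingGroup (Fin n)) : n ≤ H.index := by
  classical
  by_cases h5 : 5 ≤ n
  · simpa using SymIndex.card_le_index (Ω := Fin n) (by simpa using h5) H hH hA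
  have hpos : 1 < H.index := Subgroup.one_lt_index_of_ne_top hH
  by_contra hlt
  have h2 : H.index = 2 ∧ n = 3 := by omega
  haveI : Nontrivial (Fin n) := Fin.nontrivial_iff_two_le.2 (by omega)
  exact hA (Equiv.Perm.eq_alternatingGroup_of_index_eq_two h2.1)

end Cfsg.Agent.S5944
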