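import Cfsg.Statements.S5945
import Cfsg.Agent.Lib.Classical.SymSix

set_option autoImplicit false
open Cfsg

open Cfsg.Agent.Classical
open MulAction
set_option maxHeartbeats 1600000

namespace Cfsg.Agent.S5945

/-- The symmetric group S_6 has exactly 12 subgroups of index 6; each of them is isomorphic to S_5, and at least one of them is not the stabilizer of any point. -/
theorem result : Nat.card {H : Subgroup (Equiv.Perm (Fin 6)) // H.index = 6} = 12 ∧ (∀ H : Subgroup (Equiv.Perm (Fin 6)), H.index = 6 → Nonempty (H ≃* Equiv.Perm (Fin 5))) ∧ ∃ H : Subgroup (Equiv.Perm (Fin 6)), H.index = 6 ∧ ∀ a : Fin 6, H ≠ MulAction.stabilizer (Equiv.Perm (Fin 6)) a := by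
  classical
  obtain ⟨K, hK, hKn⟩ := SymSix.exists_index_six
  have hcard : Fintype.card (Fin 6) = 6 := Fintype.card_fin 6
  have hKne : K ≠ ⊤ := fun e => by rw [e, Subgroup.index_top] at hK; omega
  obtain ⟨φ, hφ⟩ := SymIndex.exists_aut (Ω := Fin 6) (by simp) K (by simp [hK]) 0
  refine ⟨?_, fun H hH => ?_, K, hK, hKn⟩
  · have hnormal : Subgroup.normalizer (K : Set (Equiv.Perm (Fin 6))) = K := by
      by_contra hne
      have hlt : K < Subgroup.normalizer (K : Set (Equiv.Perm (Fin 6))) := lt_of_le_of_ne Subgroup.le_normalizer (Ne.symm hne)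
      have htop : Subgroup.normalizer (K : Set (Equiv.Perm (Fin 6))) = ⊤ := by
        by_contra hnt
        have h1 := Subgroup.relIndex_mul_index hlt.le
        have h2 := SymIndex.card_le_index (Ω := Fin 6) (by simp) _ hnt fun e => by
          have hle : K ≤ alternatingGroup (Fin 6) := e ▸ hlt.le
          have hA : (alternatingGroup (Fin 6)).map φ.toMonoidHom = alternatingGroup (Fin 6) :=
            Equiv.Perm.eq_alternatingGroup_of_index_eq_two ((Subgroup.index_map_equiv _ φ).trans alternatingGroup.index_eq_two)
          have hle' : stabilizer (Equiv.Perm (Fin 6)) (0 : Fin 6) ≤ alternatingGroup (Fin 6) := by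
            rw [← hφ, ← hA]; exact Subgroup.map_mono hle
          have hm : Equiv.swap (1 : Fin 6) 2 ∈ stabilizer (Equiv.Perm (Fin 6)) (0 : Fin 6) := by
            rw [mem_stabilizer_iff]; decide
          have := hle' hm
          rw [Equiv.Perm.mem_alternatingGroup, Equiv.Perm.sign_swap (by decide)] at this
          exact absurd this (by decide)
        rw [Fintype.card_fin] at h2
        rw [hK] at h1
        have h3 : K.relIndex (Subgroup.normalizer (K : Set (Equiv.Perm (Fin 6)))) ≠ 1 :=
          fun e => not_le_of_gt hlt (Subgroup.relIndex_eq_one.1 e)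
        generalize K.relIndex (Subgroup.normalizer (K : Set (Equiv.Perm (Fin 6)))) = r at h1 h3
        rcases r with _ | _ | r
        · omega
        · omega
        · have h4 := Nat.mul_le_mul (show 2 ≤ r + 1 + 1 by omega) h2
          rw [h1] at h4
          omega
      haveI := Subgroup.normalizer_eq_top_iff.1 htop
      have hn : Nontrivial K := by
        rw [Subgroup.nontrivial_iff_ne_bot]
        intro e; rw [e, Subgroup.index_bot, Nat.card_perm, Nat.card_fin] at hK; norm_num [Nat.factorial] at hK
      have := Subgroup.index_dvd_of_le (Equiv.Perm.alternatingGroup_le_of_normal (α := Fin 6) (N := K) (by simp) hn)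
      rw [hK, alternatingGroup.index_eq_two] at this
      norm_num at this
    -- stabilisers and conjugates of `K`
    have hidx : ∀ g : Equiv.Perm (Fin 6), (K.map (MulAut.conj g).toMonoidHom).index = 6 := fun g => by
      rw [Subgroup.index_map_of_bijective (MulAut.conj g).bijective, hK]
    let ψ : Fin 6 ⊕ (Equiv.Perm (Fin 6) ⧸ K) → {H : Subgroup (Equiv.Perm (Fin 6)) // H.index = 6} := fun s =>
      s.elim (fun x => ⟨stabilizer (Equiv.Perm (Fin 6)) x, (SymSix.stab_index x).trans hcard⟩)
        (fun g => ⟨K.map (MulAut.conj (Quotient.out g)).toMonoidHom, hidx _⟩)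
    have hKc : ∀ g : Equiv.Perm (Fin 6), ∀ x : Fin 6, K.map (MulAut.conj g).toMonoidHom ≠ stabilizer (Equiv.Perm (Fin 6)) x := by
      intro g x e
      refine hKn (g⁻¹ x) ?_
      have := congrArg (Subgroup.map (MulAut.conj g⁻¹).toMonoidHom) e
      rw [SymSix.map_conj_stabilizer, Subgroup.map_map] at this
      rw [← this]
      convert (Subgroup.map_id K).symm using 2
      ext u : 1
      simp [mul_assoc]
    have hb : Function.Bijective ψ := by
      constructor
      · rintro (x | a) (y | b) e <;> simp only [ψ, Sum.elim_inl, Sum.elim_inr, Subtype.mk.injEq] at e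
        · rw [SymSix.stabilizer_injective (by simp) e]
        · exact absurd e.symm (hKc _ _)
        · exact absurd e (hKc _ _)
        · congr 1
          rw [← QuotientGroup.out_eq' a, ← QuotientGroup.out_eq' b, QuotientGroup.eq]
          apply hnormal.le
          refine Subgroup.mem_normalizer_iff_map_conj_eq.2 ?_
          show K.map (MulAut.conj ((Quotient.out a)⁻¹ * Quotient.out b)).toMonoidHom = K
          rw [show (MulAut.conj ((Quotient.out a)⁻¹ * Quotient.out b)).toMonoidHom =
            (MulAut.conj (Quotient.out a)⁻¹).toMonoidHom.comp (MulAut.conj (Quotient.out b)).toMonoidHom by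
            ext u : 1; simp [mul_assoc], ← Subgroup.map_map, ← e, Subgroup.map_map]
          convert Subgroup.map_id K using 2
          ext u : 1
          simp [mul_assoc]
      · rintro ⟨H, hH⟩
        by_cases hfix : ∃ y : Fin 6, H = stabilizer (Equiv.Perm (Fin 6)) y
        · obtain ⟨y, rfl⟩ := hfix
          exact ⟨Sum.inl y, rfl⟩
        · obtain ⟨π, hπ⟩ := SymSix.conj_of_no_fix hcard H K hH hK (not_exists.1 hfix) hKn
          refine ⟨Sum.inr (π : Equiv.Perm (Fin 6) ⧸ K), Subtype.ext ?_⟩
          show K.map _ = H
          obtain ⟨k, hk⟩ := QuotientGroup.mk_out_eq_mul K π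
          rw [hk, ← hπ]
          have hkN : (k : Equiv.Perm (Fin 6)) ∈ Subgroup.normalizer (K : Set (Equiv.Perm (Fin 6))) := Subgroup.le_normalizer k.2
          conv_rhs => rw [← Subgroup.mem_normalizer_iff_map_conj_eq.1 hkN, Subgroup.map_map]
          first
            | (congr 1; done)
            | (congr 1; ext u : 1; simp [mul_assoc])
    rw [← Nat.card_congr (Equiv.ofBijective ψ hb), Nat.card_sum, Nat.card_fin,
      show Nat.card (Equiv.Perm (Fin 6) ⧸ K) = 6 from hK]
  · obtain ⟨e⟩ := SymSix.stab_equiv_five 0
    by_cases hfix : ∃ y : Fin 6, H = stabilizer (Equiv.Perm (Fin 6)) y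
    · obtain ⟨y, rfl⟩ := hfix
      exact SymSix.stab_equiv_five y
    · obtain ⟨π, hπ⟩ := SymSix.conj_of_no_fix hcard H K hH hK (not_exists.1 hfix) hKn
      exact ⟨(((K.equivMapOfInjective (MulAut.conj π).toMonoidHom (MulAut.conj π).injective).trans
        (MulEquiv.subgroupCongr hπ)).symm.trans
        ((K.equivMapOfInjective φ.toMonoidHom φ.injective).trans (MulEquiv.subgroupCongr hφ))).trans e⟩

end Cfsg.Agent.S5945
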