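import Cfsg.Statements.S5946
-- import your own Cfsg.Agent.* helpers here

set_option autoImplicit false
open Cfsg

namespace Cfsg.Agent.S5946


/-- Let F ⊆ K be finite fields with [K : F] = n ≥ 2 and regard K as an n-dimensional F-vector space. The Singer group M ≤ GL_F(K) of multiplications by the non-zero elements of K is self-centralizing: every F-linear automorphism of K commuting with all of M lies in M. -/
theorem result {F K : Type*} [Field F] [Fintype F] [Field K] [Fintype K] [Algebra F K] (n : ℕ) (hn : 2 ≤ n) (hdim : Module.finrank F K = n) :
    Subgroup.centralizer (((Units.map ((Algebra.lmul F K : K →ₐ[F] Module.End F K) : K →* Module.End F K)).range : Subgroup (Module.End F K)ˣ) : Set (Module.End F K)ˣ) = (Units.map ((Algebra.lmul F K : K →ₐ[F] Module.End F K) : K →* Module.End F K)).range := by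
  ext g
  constructor
  · intro hg
    have hcomm : ∀ (x : Kˣ) (y : K), (g : Module.End F K) ((x : K) * y) = (x : K) * (g : Module.End F K) y := by
      intro x y
      have := Subgroup.mem_centralizer_iff.1 hg _ ⟨x, rfl⟩
      have h' := LinearMap.congr_fun (congrArg Units.val this) y
      exact h'.symm
    set c := (g : Module.End F K) 1 with hc
    have hg' : ∀ y, (g : Module.End F K) y = y * c := by
      intro y
      rcases eq_or_ne y 0 with rfl | hy
      · simp
      · have := hcomm (Units.mk0 y hy) 1
        simpa [hc] using this
    have hc0 : c ≠ 0 := by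
      intro h
      have h1 : (((g⁻¹ : (Module.End F K)ˣ) : Module.End F K) * (g : Module.End F K)) 1 = 1 := by simp
      rw [Module.End.mul_apply, ← hc, h, map_zero] at h1
      exact one_ne_zero h1.symm
    refine ⟨Units.mk0 c hc0, Units.ext (LinearMap.ext fun y => ?_)⟩
    show c * y = _
    rw [hg' y, mul_comm]
  · rintro ⟨x, rfl⟩
    refine Subgroup.mem_centralizer_iff.2 ?_
    rintro _ ⟨y, rfl⟩
    rw [← map_mul, ← map_mul, mul_comm]

end Cfsg.Agent.S5946
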