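import Cfsg.Statements.S5947
import Cfsg.Agent.S2904

set_option autoImplicit false
open Cfsg

open Module Polynomial
set_option maxHeartbeats 800000

namespace Cfsg.Agent.S5947

/-- Let F ⊆ K be finite fields with |F| = q and [K : F] = n ≥ 2, regard K as an n-dimensional F-vector space, and let M ≤ GL_F(K) be the Singer group of multiplications by non-zero elements of K (cyclic of order q^n − 1). Assume (n, q) ≠ (6, 2), and that it is not the case that n = 2 with q a prime such that q + 1 is a power of 2. Then every abelian subgroup of GL_F(K) of order q^n − 1 is conjugate to M. -/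
theorem result {F K : Type*} [Field F] [Fintype F] [Field K] [Fintype K] [Algebra F K] (n : ℕ) (hn : 2 ≤ n) (hdim : Module.finrank F K = n)
    (hex1 : ¬ (n = 6 ∧ Fintype.card F = 2))
    (hex2 : ¬ (n = 2 ∧ (Fintype.card F).Prime ∧ ∃ a : ℕ, Fintype.card F + 1 = 2 ^ a))
    (U : Subgroup (Module.End F K)ˣ) (hU : IsMulCommutative U) (hcard : Nat.card U = Fintype.card K - 1) :
    ∃ g : (Module.End F K)ˣ, U.map (MulAut.conj g).toMonoidHom = (Units.map ((Algebra.lmul F K : K →ₐ[F] Module.End F K) : K →* Module.End F K)).range := by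
  classical
  set q := Fintype.card F with hq
  have hq1 : 1 < q := Fintype.one_lt_card
  have hKq : Fintype.card K = q ^ n := by rw [Module.card_eq_pow_finrank (K := F) (V := K), hdim]
  have hppd : ∃ r : ℕ, r.Prime ∧ r ∣ q ^ n - 1 ∧ ∀ k : ℕ, 0 < k → k < n → ¬ r ∣ q ^ k - 1 := by
    by_cases h2 : n = 2
    · subst h2
      by_cases hpow : ∃ a, q + 1 = 2 ^ a
      · exfalso
        obtain ⟨m, hm⟩ := hpow
        obtain ⟨a, hp, ha⟩ := FiniteField.card F (ringChar F)
        rw [← hq] at ha
        set p := ringChar F with hpd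
        rcases Nat.lt_or_ge (a : ℕ) 2 with ha1 | ha1
        · have ha' : (a : ℕ) = 1 := by have := a.pos; omega
          rw [ha', pow_one] at ha
          exact hex2 ⟨rfl, ha ▸ hp, m, hm⟩
        rcases Nat.eq_zero_or_pos m with rfl | hm0
        · omega
        have hodd : Odd q := by
          rw [Nat.odd_iff]
          have : 2 ∣ q + 1 := hm ▸ dvd_pow_self 2 (by omega)
          omega
        have hpodd : Odd p := (Nat.odd_pow_iff (by omega)).1 (ha ▸ hodd)
        rcases Nat.even_or_odd (a : ℕ) with ⟨b, hb⟩ | hao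
        · have h4 : q % 4 = 1 := by
            obtain ⟨c, hc⟩ := hpodd.pow (n := b)
            rw [ha, hb, pow_add, hc, show (2 * c + 1) * (2 * c + 1) = 1 + 4 * (c * c + c) by ring]
            omega
          rcases Nat.lt_or_ge m 2 with hm2 | hm2
          · rw [show m = 1 by omega] at hm; omega
          · have : 4 ∣ q + 1 := hm ▸ (pow_dvd_pow 2 hm2)
            omega
        · obtain ⟨c, hc⟩ := Nat.exists_eq_add_of_le hp.two_le
          have key : ∀ j, ∃ o, Odd o ∧ p ^ (2 * j + 1) + 1 = (p + 1) * o ∧ (0 < j → 1 < o) := by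
            intro j
            induction j with
            | zero => exact ⟨1, odd_one, by simp, by omega⟩
            | succ j ih =>
              obtain ⟨o, ho, he, -⟩ := ih
              have hpp : 1 ≤ p * p := Nat.mul_pos (by omega) (by omega)
              have h1 : (p - 1) ≤ p * p * o := by
                have : p ≤ p * p * o := by
                  calc p = p * 1 * 1 := by ring
                    _ ≤ p * p * o := Nat.mul_le_mul (Nat.mul_le_mul le_rfl (by omega)) ho.pos
                omega
              obtain ⟨v, hv⟩ := Nat.exists_eq_add_of_le h1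
              obtain ⟨p', hp'⟩ : ∃ p', p = p' + 1 := ⟨p - 1, by omega⟩
              refine ⟨v, ?_, ?_, fun _ => ?_⟩
              · have h2 : Odd (p * p * o) := (hpodd.mul hpodd).mul ho
                rw [Nat.odd_iff] at h2 ⊢
                rw [Nat.odd_iff] at hpodd
                omega
              · have h3 : p ^ (2 * (j + 1) + 1) + p * p = (p * p * o) * (p + 1) := by
                  rw [mul_assoc (p * p), mul_comm o, ← he]; ring
                rw [hv, hp'] at h3
                simp only [Nat.add_sub_cancel] at h3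
                rw [hp']
                nlinarith [h3]
              · have h5 : p * p ≤ p * p * o := Nat.le_mul_of_pos_right _ ho.pos
                have h6 : p + 2 ≤ p * p := by nlinarith [hp.two_le]
                omega
          obtain ⟨j, hj⟩ := hao
          obtain ⟨o, ho, he, ho1⟩ := key j
          rw [← hj, ← ha, hm] at he
          have ho' : o ∣ 2 ^ m := Dvd.intro_left _ he.symm
          obtain ⟨i, -, rfl⟩ := (Nat.dvd_prime_pow Nat.prime_two).1 ho'
          have h7 := ho1 (by omega)
          rcases Nat.eq_zero_or_pos i with rfl | hi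
          · simp at h7
          · exact Nat.not_odd_iff_even.2 (Nat.even_pow.2 ⟨even_two, by omega⟩) ho
      · obtain ⟨r, hr, hrd, hr2⟩ : ∃ r, r.Prime ∧ r ∣ q + 1 ∧ r ≠ 2 := by
          by_contra h
          push Not at h
          exact hpow ⟨_, Nat.eq_prime_pow_of_unique_prime_dvd (p := 2) (by omega) fun {d} hd hdd => h d hd hdd⟩
        refine ⟨r, hr, ?_, fun k hk0 hk2 hd => ?_⟩
        · exact hrd.trans ⟨q - 1, by simpa using Nat.sq_sub_sq q 1⟩
        · rw [show k = 1 by omega, pow_one] at hd
          have h2 : r ∣ 2 := by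
            have := Nat.dvd_sub hrd hd
            rwa [show q + 1 - (q - 1) = 2 by omega] at this
          exact hr2 ((Nat.prime_dvd_prime_iff_eq hr Nat.prime_two).1 h2)
    · by_contra hno
      exact Cfsg.Agent.S2904.zsigmondy q n hq1 (by omega) (fun h => hex1 ⟨h.2, h.1⟩) hno
  obtain ⟨r, hr, hrn, hrk⟩ := hppd
  haveI : Fact r.Prime := ⟨hr⟩
  haveI : Finite (Module.End F K) := Module.finite_of_finite F
  haveI : Fintype U := Fintype.ofFinite _
  obtain ⟨u, hu⟩ := exists_prime_orderOf_dvd_card' (G := U) r (by rw [hcard, hKq]; exact hrn)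
  set a : Module.End F K := ((u : (Module.End F K)ˣ) : Module.End F K) with ha
  have har : a ^ r = 1 := by
    rw [ha, ← Units.val_pow_eq_pow_val, ← SubmonoidClass.coe_pow, ← hu, pow_orderOf_eq_one]; rfl
  have ha1 : a ≠ 1 := fun h => by
    have : u = 1 := Subtype.ext (Units.ext h)
    rw [this, orderOf_one] at hu
    exact hr.ne_one hu.symm
  have hrF : (r : F) ≠ 0 := by
    intro h
    obtain ⟨e, hp, he⟩ := FiniteField.card F (ringChar F)
    have hpr : ringChar F ∣ r := (ringChar.spec F r).1 h
    rw [(Nat.prime_dvd_prime_iff_eq hp hr).1 hpr, ← hq] at he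
    have h2 : r ∣ q ^ n := dvd_pow (he ▸ dvd_pow_self _ e.ne_zero) (by omega)
    have h3 := Nat.dvd_sub h2 hrn
    rw [Nat.sub_sub_self (Nat.one_le_pow _ _ (by omega))] at h3
    exact hr.ne_one (Nat.dvd_one.1 h3)
  set μ := minpoly F a with hμ
  have hμ0 : μ ≠ 0 := minpoly.ne_zero (Algebra.IsIntegral.isIntegral a)
  have hdeg : μ.natDegree ≤ n := by
    have h1 := Polynomial.natDegree_le_of_dvd (LinearMap.minpoly_dvd_charpoly a) (LinearMap.charpoly_monic a).ne_zero
    rwa [LinearMap.charpoly_natDegree, hdim] at h1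
  have hμd : μ ∣ X ^ r - 1 := minpoly.dvd F a (by simp [har])
  have hsqf : Squarefree μ :=
    Squarefree.squarefree_of_dvd hμd ((separable_X_pow_sub_C (1 : F) hrF one_ne_zero).squarefree |> fun h => by simpa using h)
  obtain ⟨f, hf, hfd, hf1⟩ : ∃ f, Irreducible f ∧ f ∣ μ ∧ ¬ f ∣ X - C 1 := by
    by_contra h
    push Not at h
    have h1 : μ ∣ X - C 1 := by
      have h2 : ∀ g ∈ UniqueFactorizationMonoid.normalizedFactors μ, g ∣ X - C 1 := fun g hg =>
        h g (UniqueFactorizationMonoid.irreducible_of_normalized_factor g hg)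
          (UniqueFactorizationMonoid.dvd_of_mem_normalizedFactors hg)
      refine (UniqueFactorizationMonoid.prod_normalizedFactors hμ0).symm.dvd.trans ?_
      refine Multiset.prod_primes_dvd (X - C 1 : F[X]) (fun g hg => UniqueFactorizationMonoid.prime_of_normalized_factor g hg)
        h2 fun g => ?_
      rw [Multiset.countP_eq_card_filter]
      refine le_trans ?_ ((Multiset.nodup_iff_count_le_one.1
        ((UniqueFactorizationMonoid.squarefree_iff_nodup_normalizedFactors hμ0).1 hsqf)) (normalize g))
      rw [Multiset.count_eq_card_filter_eq]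
      refine Multiset.card_le_card (Multiset.le_iff_count.2 fun b => ?_)
      rw [Multiset.count_filter, Multiset.count_filter]
      by_cases hbm : b ∈ UniqueFactorizationMonoid.normalizedFactors μ
      · have hb := UniqueFactorizationMonoid.normalize_normalized_factor b hbm
        by_cases hgb : Associated g b
        · rw [if_pos hgb, if_pos ((normalize_eq_normalize_iff_associated.2 hgb).trans hb)]
        · rw [if_neg hgb]; exact Nat.zero_le _
      · rw [Multiset.count_eq_zero.2 hbm]; simp
    obtain ⟨v, hv⟩ := h1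
    have h2 := congrArg (aeval a) hv
    rw [map_mul, hμ, minpoly.aeval, zero_mul] at h2
    exact ha1 (sub_eq_zero.1 (by simpa using h2))
  haveI : Fact (Irreducible f) := ⟨hf⟩
  have hfn : n ≤ f.natDegree := by
    have hroot : (AdjoinRoot.root f) ^ r = 1 := by
      obtain ⟨v, hv⟩ := hfd.trans hμd
      have := congrArg (AdjoinRoot.mk f) hv
      rwa [map_mul, AdjoinRoot.mk_self, zero_mul, map_sub, map_pow, map_one, AdjoinRoot.mk_X, sub_eq_zero] at this
    have hne : AdjoinRoot.root f ≠ 1 := fun h => hf1 (by
      rw [← AdjoinRoot.mk_eq_zero, map_sub, AdjoinRoot.mk_X, AdjoinRoot.mk_C, map_one, h, sub_self])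
    haveI : Module.Finite F (AdjoinRoot f) := (AdjoinRoot.powerBasis hf.ne_zero).finite
    haveI : Finite (AdjoinRoot f) := Module.finite_of_finite F
    haveI : Fintype (AdjoinRoot f) := Fintype.ofFinite _
    have hL : Fintype.card (AdjoinRoot f) = q ^ f.natDegree := by
      rw [Module.card_eq_pow_finrank (K := F) (V := AdjoinRoot f), (AdjoinRoot.powerBasis hf.ne_zero).finrank,
        AdjoinRoot.powerBasis_dim]
    by_contra hlt
    have h1 : orderOf (AdjoinRoot.root f) = r := orderOf_eq_prime hroot hne
    have h2 : AdjoinRoot.root f ^ (q ^ f.natDegree - 1) = 1 := by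
      rw [← hL]; exact FiniteField.pow_card_sub_one_eq_one _ (fun h => by
        rw [h, zero_pow hr.ne_zero] at hroot; exact zero_ne_one hroot)
    exact hrk _ hf.natDegree_pos (by omega) (h1 ▸ orderOf_dvd_of_pow_eq_one h2)
  have hass : Associated f μ := by
    refine Polynomial.associated_of_dvd_of_natDegree_le hfd hμ0 ?_
    omega
  have hirr : Irreducible μ := hass.irreducible hf
  have hdegμ : μ.natDegree = n := le_antisymm hdeg (hfn.trans (Polynomial.natDegree_le_of_dvd hfd hμ0))
  haveI : Fact (Irreducible μ) := ⟨hirr⟩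
  let φ : AdjoinRoot μ →ₐ[F] Module.End F K := Ideal.Quotient.liftₐ (Ideal.span {μ}) (aeval a) (fun P hP => by
    obtain ⟨v, rfl⟩ := Ideal.mem_span_singleton.1 hP
    rw [map_mul, hμ, minpoly.aeval, zero_mul])
  haveI : Module.Finite F (AdjoinRoot μ) := (AdjoinRoot.powerBasis hμ0).finite
  haveI : Finite (AdjoinRoot μ) := Module.finite_of_finite F
  have hLn : finrank F (AdjoinRoot μ) = n := by
    rw [(AdjoinRoot.powerBasis hμ0).finrank, AdjoinRoot.powerBasis_dim, hdegμ]
  obtain ⟨ι⟩ := FiniteField.nonempty_algHom_of_finrank_dvd (F := F) (K := K) (L := AdjoinRoot μ) (by rw [hdim, hLn])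
  let ψ : K →ₐ[F] Module.End F K := φ.comp ι
  have hcomm : ∀ T ∈ U, ∀ x : K, Commute ((T : (Module.End F K)ˣ) : Module.End F K) (ψ x) := by
    intro T hT x
    show Commute _ (φ (ι x))
    obtain ⟨P, hP⟩ := AdjoinRoot.mk_surjective (ι x)
    rw [← hP]
    show Commute _ (aeval a P)
    clear hP
    induction P using Polynomial.induction_on' with
    | add p p' hp hp' => rw [map_add]; exact hp.add_right hp'
    | monomial m c =>
      rw [aeval_monomial]
      refine Commute.mul_right (show Commute _ _ from (Algebra.commutes c _).symm) (Commute.pow_right ?_ m)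
      exact congrArg Units.val (congrArg Subtype.val (hU.is_comm.comm ⟨T, hT⟩ u))
  let g₀ : K →ₗ[F] K := (LinearMap.applyₗ (1 : K)).comp ψ.toLinearMap
  have hg₀ : Function.Injective g₀ := (injective_iff_map_eq_zero _).2 fun x hx => by
    by_contra hx0
    have h1 : ψ x⁻¹ (ψ x 1) = 1 := by
      rw [← Module.End.mul_apply, ← map_mul ψ, inv_mul_cancel₀ hx0, map_one ψ, Module.End.one_apply]
    rw [show ψ x 1 = 0 from hx, map_zero] at h1
    exact zero_ne_one h1
  let e : K ≃ₗ[F] K := LinearEquiv.ofBijective g₀ ⟨hg₀, LinearMap.injective_iff_surjective.1 hg₀⟩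
  let g : (Module.End F K)ˣ := ⟨e.toLinearMap, e.symm.toLinearMap, LinearMap.ext fun x => e.apply_symm_apply x,
    LinearMap.ext fun x => e.symm_apply_apply x⟩
  set M := (Units.map ((Algebra.lmul F K : K →ₐ[F] Module.End F K) : K →* Module.End F K)).range with hM
  have hle : U.map (MulAut.conj g⁻¹).toMonoidHom ≤ M := by
    rintro _ ⟨T, hT, rfl⟩
    set S : (Module.End F K)ˣ := g⁻¹ * T * g with hS
    have hmul : ∀ x y, (S : Module.End F K) (x * y) = x * (S : Module.End F K) y := fun x y => by
      have he : ∀ x y, e (x * y) = ψ x (e y) := fun x y => by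
        show ψ (x * y) 1 = ψ x (ψ y 1)
        rw [map_mul]; rfl
      show e.symm ((T : Module.End F K) (e (x * y))) = x * e.symm ((T : Module.End F K) (e y))
      rw [LinearEquiv.symm_apply_eq, he, he, e.apply_symm_apply]
      exact LinearMap.congr_fun (hcomm T hT x).eq (e y)
    set c := (S : Module.End F K) 1 with hc
    have hSc : ∀ x, (S : Module.End F K) x = c * x := fun x => by
      rw [hc, mul_comm, ← hmul, mul_one]
    have hc0 : c ≠ 0 := fun h => by
      have h1 : ((S⁻¹ : (Module.End F K)ˣ) : Module.End F K) ((S : Module.End F K) 1) = 1 := by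
        rw [← Module.End.mul_apply, Units.inv_mul, Module.End.one_apply]
      rw [← hc, h, map_zero] at h1
      exact zero_ne_one h1
    refine ⟨Units.mk0 c hc0, Units.ext (LinearMap.ext fun x => ?_)⟩
    simpa [hS] using (hSc x).symm
  refine ⟨g⁻¹, Subgroup.eq_of_le_of_card_ge hle ?_⟩
  have h1 : Nat.card (U.map (MulAut.conj g⁻¹).toMonoidHom) = Nat.card U :=
    (Nat.card_congr (U.equivMapOfInjective _ (MulAut.conj g⁻¹).injective).toEquiv).symm
  have h2 : Nat.card M ≤ Nat.card Kˣ := Nat.card_le_card_of_surjective _ (MonoidHom.rangeRestrict_surjective _)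
  rw [h1, hcard]
  exact h2.trans (le_of_eq (by rw [Nat.card_units, Nat.card_eq_fintype_card]))

end Cfsg.Agent.S5947
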