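import Cfsg.Statements.S5949
import Cfsg.Agent.Lib.Classical.PrimeSubspaces

set_option autoImplicit false
open scoped MatrixGroups
open Cfsg

open Cfsg.Agent.Classical Module

namespace Cfsg.Agent.S5949

/-- Elements of prime order of PSL_n(q) with no fixed `m`-space. Here `T = PSL_n(F)` for a field `F` with `q = p^f` elements (`n ≥ 2`, `(n, q) ≠ (2, 2), (2, 3)`); an element of `T` of prime order `r` is represented by a matrix `x` of determinant 1 with `x^r` scalar and `x` not scalar; `i` denotes the multiplicative order of `q` modulo `r` (when `r ≠ p`), and `(a)_r` the `r`-part of `a`. Let `1 ≤ m ≤ n/2` and let `r` be a prime dividing the number of `m`-dimensional subspaces of `F^n`. Then every element of `T` of order `r` fixes some `m`-dimensional subspace (the action on `m`-spaces is `r`-elusive) if and only if `r ≠ p` and either (i) `i = 1` and (`r ∣ m`, or `(q−1)_r ≥ (n)_r` where in addition `q ≡ 1 (mod 4)` is required when `r = 2` and `n` is even), or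 (ii) `2 ≤ i ≤ m` and `n mod i ≥ m mod i`. -/
theorem result {F : Type*} [Field F] [Fintype F] {p : ℕ} [Fact p.Prime] [CharP F p] {q : ℕ} (hq : Fintype.card F = q)
    (n m : ℕ) (hn : 2 ≤ n) (hT : (n, q) ≠ (2, 2) ∧ (n, q) ≠ (2, 3)) (hm : 1 ≤ m) (hmn : 2 * m ≤ n)
    (r : ℕ) [Fact r.Prime] (hrΩ : r ∣ Nat.card {W : Submodule F (Fin n → F) // Module.finrank F ↥W = m}) :
    (∀ x : Matrix.SpecialLinearGroup (Fin n) F,
      (∃ c : F, ((x ^ r : Matrix.SpecialLinearGroup (Fin n) F) : Matrix (Fin n) (Fin n) F) = c • (1 : Matrix (Fin n) (Fin n) F)) →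
      (∀ c : F, (x : Matrix (Fin n) (Fin n) F) ≠ c • (1 : Matrix (Fin n) (Fin n) F)) →
      ∃ W : Submodule F (Fin n → F), Module.finrank F ↥W = m ∧ W.map (Matrix.toLin' (x : Matrix (Fin n) (Fin n) F)) ≤ W) ↔
    (r ≠ p ∧
      ((orderOf (q : ZMod r) = 1 ∧ (r ∣ m ∨ (padicValNat r n ≤ padicValNat r (q - 1) ∧ (r = 2 → Even n → q % 4 = 1)))) ∨
       (2 ≤ orderOf (q : ZMod r) ∧ orderOf (q : ZMod r) ≤ m ∧ m % orderOf (q : ZMod r) ≤ n % orderOf (q : ZMod r)))) := by
  classical
  subst hq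
  have hr : r.Prime := Fact.out
  obtain ⟨hrp, j, hjm, hdiv⟩ := PrimeSubspaces.dvd_count (p := p) (finrank_fin_fun F) (by omega : m ≤ n) hrΩ
  set i := orderOf (Fintype.card F : ZMod r) with hid
  have hi0 : i ≠ 0 := fun e => by rw [e, zero_dvd_iff] at hdiv; omega
  have hin : i ≤ n := (Nat.le_of_dvd (by omega) hdiv).trans (Nat.sub_le _ _)
  have hrF : (r : F) ≠ 0 := fun e => hrp
    ((Nat.prime_dvd_prime_iff_eq (Fact.out : p.Prime) hr).1 ((CharP.cast_eq_zero_iff F p r).1 e)).symm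
  have hQ : r ∣ Fintype.card F - 1 ↔ i = 1 := by
    rw [hid, orderOf_eq_one_iff, ← ZMod.natCast_eq_zero_iff, Nat.cast_sub Fintype.card_pos, Nat.cast_one, sub_eq_zero]
  constructor
  · intro h
    refine ⟨hrp, ?_⟩
    rcases Nat.lt_or_ge i 2 with hi | hi
    · have hi1 : i = 1 := by omega
      refine Or.inl ⟨hi1, ?_⟩
      by_contra hcon
      rw [not_or, not_and_or] at hcon
      obtain ⟨hrm, hcon⟩ := hcon
      obtain ⟨M, c, hdet, hMr, hMs, hW⟩ := PrimeSubspaces.exists_noroot (F := F) (r := r) (by omega : 0 < n) (hQ.2 hi1) (by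
        rcases hcon with h1 | h1
        · exact Or.inl (by omega)
        · simp only [Classical.not_imp] at h1
          obtain ⟨rfl, he, h4⟩ := h1
          obtain ⟨t, ht⟩ := hQ.2 hi1
          have := Fintype.one_lt_card (α := F)
          exact Or.inr ⟨rfl, he, by omega⟩)
      obtain ⟨W, hWm, hWi⟩ := h ⟨M, hdet⟩ ⟨c, (Matrix.SpecialLinearGroup.coe_pow _ r).trans hMr⟩ hMs
      exact hrm (hWm ▸ hW W hWi)
    · refine Or.inr ⟨hi, ?_⟩
      obtain ⟨M, hdet, hMr, hMs, hW⟩ := PrimeSubspaces.exists_blocks (p := p) (F := F) (r := r) hid hi hin hrF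
      obtain ⟨W, hWm, hWi⟩ := h ⟨M, hdet⟩ ⟨1, ((Matrix.SpecialLinearGroup.coe_pow _ r).trans hMr).trans (one_smul F _).symm⟩ hMs
      obtain ⟨a, b, hab, ha, -⟩ := hW W hWi
      have h1 : m % i ≤ n % i := by
        rw [← hWm, hab, Nat.add_mul_mod_self_left]
        exact (Nat.mod_le _ _).trans ha
      refine ⟨?_, h1⟩
      by_contra hlt
      obtain ⟨t, ht⟩ := hdiv
      rw [Nat.mod_eq_of_lt (by omega : m < i), show n = j + i * t by omega, Nat.add_mul_mod_self_left,
        Nat.mod_eq_of_lt (by omega : j < i)] at h1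
      omega
  · rintro ⟨-, h⟩ x ⟨c, hx⟩ -
    rw [Matrix.SpecialLinearGroup.coe_pow] at hx
    rcases h with ⟨hi1, hcond⟩ | ⟨hi, him, hmod⟩
    · obtain ⟨U, W, -, hU, -, hUi, -⟩ := PrimeSubspaces.scalar_chain (by omega : 0 < n) x.1 x.2 hx (hQ.2 hi1) (le_refl m)
        (by omega) (hcond.imp (fun h => ⟨h, fun _ => h⟩) id)
      exact ⟨U, hU, hUi⟩
    · have hc : c ≠ 0 := fun e => by
        have h1 := congrArg Matrix.det hx
        rw [Matrix.det_pow, x.2, one_pow, Matrix.det_smul, e, Fintype.card_fin, zero_pow (by omega), zero_mul] at h1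
        exact one_ne_zero h1
      obtain ⟨k, hk, hkW⟩ := PrimeSubspaces.moving_chain x.1 hrF (fun e => by have := hQ.1 e; omega) hx hc
      rw [← hid] at hk hkW
      have hkn : k ≤ n / i := (Nat.le_div_iff_mul_le (by omega)).2 (by rw [mul_comm]; exact hk)
      have hn' := Nat.div_add_mod n i
      have hm' := Nat.div_add_mod m i
      have hmul : i * k ≤ i * (n / i) := Nat.mul_le_mul_left _ hkn
      obtain ⟨b, a, hb, ha, hab⟩ : ∃ b a, b ≤ k ∧ a ≤ n - i * k ∧ a + i * b = m := by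
        rcases Nat.lt_or_ge k (m / i) with hlt | hge
        · have := Nat.mul_le_mul_left i hlt.le
          exact ⟨k, m - i * k, le_rfl, by omega, by omega⟩
        · exact ⟨m / i, m % i, hge, by omega, by omega⟩
      obtain ⟨U, W, -, hU, -, hUi, -⟩ := hkW b b a a le_rfl hb le_rfl ha
      exact ⟨U, by omega, hUi⟩

end Cfsg.Agent.S5949
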