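import Cfsg.Statements.S5950
import Cfsg.Agent.Lib.Classical.JordanSplit
import Cfsg.Agent.Lib.Classical.JordanType
import Cfsg.Agent.S5949

set_option autoImplicit false
open scoped MatrixGroups
open Cfsg

open Cfsg.Agent.Classical Module
set_option maxHeartbeats 1000000

namespace Cfsg.Agent.S5950

theorem parts_two {μ : Multiset ℕ} (hμ : ∀ a ∈ μ, 0 < a ∧ a ≤ 2) :
    μ = Multiset.replicate (μ.count 1) 1 + Multiset.replicate (μ.count 2) 2 := by
  refine Multiset.ext.2 fun b => ?_
  rw [Multiset.count_add, Multiset.count_replicate, Multiset.count_replicate]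
  by_cases hb : b ∈ μ
  · obtain ⟨h1, h2⟩ := hμ b hb
    interval_cases b <;> simp
  · have := Multiset.count_eq_zero_of_notMem hb
    split_ifs with e1 e2 e2 <;> subst_vars <;> omega

theorem part_two_iff {n m : ℕ} (hmn : 2 * m < n) :
    (∀ μ : Multiset ℕ, (∀ a ∈ μ, 0 < a ∧ a ≤ 2) → μ.sum = n → ∃ ν : Multiset ℕ, ν ≤ μ ∧ ν.sum = m) ↔ (Odd n ∨ Even m) := by
  constructor
  · intro h
    by_contra hc
    rw [not_or, Nat.not_odd_iff_even, Nat.not_even_iff_odd] at hc
    obtain ⟨⟨k, rfl⟩, hm⟩ := hc
    obtain ⟨ν, hν, hs⟩ := h (Multiset.replicate k 2) (fun a ha => by rw [Multiset.eq_of_mem_replicate ha]; omega)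
      (by rw [Multiset.sum_replicate, smul_eq_mul]; omega)
    obtain ⟨j, -, rfl⟩ := Multiset.le_replicate_iff.1 hν
    rw [Multiset.sum_replicate, smul_eq_mul] at hs
    exact Nat.not_even_iff_odd.2 hm ⟨j, by omega⟩
  · intro hc μ hμ hs
    have e := parts_two hμ
    set a := μ.count 1
    set b := μ.count 2
    rw [e, Multiset.sum_add, Multiset.sum_replicate, Multiset.sum_replicate, smul_eq_mul, smul_eq_mul] at hs
    simp only [Nat.odd_iff, Nat.even_iff] at hc
    refine ⟨Multiset.replicate (m - 2 * min b (m / 2)) 1 + Multiset.replicate (min b (m / 2)) 2, ?_, ?_⟩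
    · rw [e]
      exact add_le_add ((Multiset.replicate_le_replicate 1).2 (by omega)) ((Multiset.replicate_le_replicate 2).2 (by omega))
    · rw [Multiset.sum_add, Multiset.sum_replicate, Multiset.sum_replicate, smul_eq_mul, smul_eq_mul]
      omega

end Cfsg.Agent.S5950

namespace Cfsg.Agent.S5950

/-- Elements of prime order of PSL_n(q) fixing no decomposition `F^n = U ⊕ W` with `dim U = m`. Here `T = PSL_n(F)` for a field `F` with `q = p^f` elements (`n ≥ 2`, `(n, q) ≠ (2, 2), (2, 3)`); an element of `T` of prime order `r` is represented by a matrix `x` of determinant 1 with `x^r` scalar and `x` not scalar; `i` denotes the multiplicative order of `q` modulo `r` (when `r ≠ p`), and `(a)_r` the `r`-part of `a`. Let `n ≥ 3`, `1 ≤ m < n/2`, and let `r` be a prime dividing the number of such decompositions (unordered pairs `{U, W}` of complementary subspaces with `dim U = m`; since `m ≠ n − m` these are the ordered pairs with `dim U = m`). Then every element of `T` of order `r` fixes such a pair (fixes both `U` and `W` for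 some complementary `U, W` with `dim U = m`) if and only if one of: (i) `r = p > 2` and every partition of `n` into parts of size at most `p` contains, as a sub-multiset, a partition of `m`; (ii) `r = p = 2` and `n` is odd or `m` is even; (iii) `r ≠ p`, `i = 1`, and `r ∣ m` or `(q−1)_r ≥ (n)_r` (with `q ≡ 1 (mod 4)` required when `r = 2` and `n` is even); (iv) `r ≠ p`, `2 ≤ i ≤ m` and `n mod i ≥ m mod i`. -/
theorem result {F : Type*} [Field F] [Fintype F] {p : ℕ} [Fact p.Prime] [CharP F p] {q : ℕ} (hq : Fintype.card F = q)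
    (n m : ℕ) (hn : 3 ≤ n) (hm : 1 ≤ m) (hmn : 2 * m < n)
    (r : ℕ) [Fact r.Prime]
    (hrΩ : r ∣ Nat.card {P : Submodule F (Fin n → F) × Submodule F (Fin n → F) // IsCompl P.1 P.2 ∧ Module.finrank F ↥P.1 = m}) :
    (∀ x : Matrix.SpecialLinearGroup (Fin n) F,
      (∃ c : F, ((x ^ r : Matrix.SpecialLinearGroup (Fin n) F) : Matrix (Fin n) (Fin n) F) = c • (1 : Matrix (Fin n) (Fin n) F)) →
      (∀ c : F, (x : Matrix (Fin n) (Fin n) F) ≠ c • (1 : Matrix (Fin n) (Fin n) F)) →
      ∃ U W : Submodule F (Fin n → F), IsCompl U W ∧ Module.finrank F ↥U = m ∧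
        U.map (Matrix.toLin' (x : Matrix (Fin n) (Fin n) F)) ≤ U ∧ W.map (Matrix.toLin' (x : Matrix (Fin n) (Fin n) F)) ≤ W) ↔
    ((r = p ∧ 2 < p ∧ (∀ μ : Multiset ℕ, (∀ a ∈ μ, 0 < a ∧ a ≤ p) → μ.sum = n → ∃ ν : Multiset ℕ, ν ≤ μ ∧ ν.sum = m)) ∨
     (r = p ∧ p = 2 ∧ (Odd n ∨ Even m)) ∨
     (r ≠ p ∧
      ((orderOf (q : ZMod r) = 1 ∧ (r ∣ m ∨ (padicValNat r n ≤ padicValNat r (q - 1) ∧ (r = 2 → Even n → q % 4 = 1)))) ∨
       (2 ≤ orderOf (q : ZMod r) ∧ orderOf (q : ZMod r) ≤ m ∧ m % orderOf (q : ZMod r) ≤ n % orderOf (q : ZMod r))))) := by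
  classical
  have hr : r.Prime := Fact.out
  have hp : p.Prime := Fact.out
  by_cases hrp : r = p
  · subst hrp
    have key : (∀ x : Matrix.SpecialLinearGroup (Fin n) F,
        (∃ c : F, ((x ^ r : Matrix.SpecialLinearGroup (Fin n) F) : Matrix (Fin n) (Fin n) F) = c • (1 : Matrix (Fin n) (Fin n) F)) →
        (∀ c : F, (x : Matrix (Fin n) (Fin n) F) ≠ c • (1 : Matrix (Fin n) (Fin n) F)) →
        ∃ U W : Submodule F (Fin n → F), IsCompl U W ∧ Module.finrank F ↥U = m ∧
          U.map (Matrix.toLin' (x : Matrix (Fin n) (Fin n) F)) ≤ U ∧ W.map (Matrix.toLin' (x : Matrix (Fin n) (Fin n) F)) ≤ W) ↔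
        (∀ μ : Multiset ℕ, (∀ a ∈ μ, 0 < a ∧ a ≤ r) → μ.sum = n → ∃ ν : Multiset ℕ, ν ≤ μ ∧ ν.sum = m) := by
      haveI : CharP (Module.End F (Fin n → F)) r :=
        charP_of_injective_algebraMap (R := F) (fun s t h => by
          have := congrFun (LinearMap.congr_fun h (Pi.single ⟨0, by omega⟩ 1)) ⟨0, by omega⟩
          simpa [Module.algebraMap_end_apply] using this) r
      constructor
      · intro h μ hμ hsum
        obtain ⟨N, hN, hrk⟩ := JordanType.exists_nilpotent (F := F) (n := n) μ (fun b hb => (hμ b hb).2) hsum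
        have hrank : ∀ k, JordanType.rk N ⊤ k = (μ.map fun b => b - k).sum := fun k => by
          rw [JordanType.rk, Submodule.map_top, hrk]
        rcases eq_or_ne N 0 with rfl | hN0
        · refine ⟨Multiset.replicate m 1, ?_, by simp⟩
          have h1 : ∀ b ∈ μ, b = 1 := fun b hb => by
            have h := hrank 1
            rw [JordanType.rk, pow_one, Submodule.map_zero, finrank_bot, eq_comm, Multiset.sum_eq_zero_iff] at h
            have := h (b - 1) (Multiset.mem_map.2 ⟨b, hb, rfl⟩)
            have := (hμ b hb).1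
            omega
          have h2 := Multiset.eq_replicate_card.2 h1
          rw [h2]
          refine (Multiset.replicate_le_replicate 1).2 ?_
          rw [h2, Multiset.sum_replicate, smul_eq_mul, mul_one] at hsum
          omega
        · have hM : Matrix.toLin' (LinearMap.toMatrix' (1 + N)) = 1 + N := Matrix.toLin'_toMatrix' _
          set A := LinearMap.toMatrix' (1 + N) with hA
          have hAp : A ^ r = 1 := Matrix.toLin'.injective (by
            rw [Matrix.toLin'_pow, hM, add_pow_char_of_commute (p := r) (Commute.one_left N), one_pow, hN, add_zero,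
              Matrix.toLin'_one]; rfl)
          have hdet : A.det = 1 := by
            refine frobenius_inj F r ?_
            rw [frobenius_def, frobenius_def, one_pow, ← Matrix.det_pow, hAp, Matrix.det_one]
          obtain ⟨U, W, hc, hU, hUi, hWi⟩ := h ⟨A, hdet⟩
            ⟨1, ((Matrix.SpecialLinearGroup.coe_pow _ r).trans hAp).trans (one_smul F _).symm⟩ (fun z hz => by
              have h1 : (1 + N : Module.End F (Fin n → F)) = z • 1 := by
                rw [← hM, show A = z • 1 from hz, map_smul, Matrix.toLin'_one]; rfl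
              have h2 : N = (z - 1) • (1 : Module.End F (Fin n → F)) := by
                refine LinearMap.ext fun v => ?_
                have h4 := LinearMap.congr_fun h1 v
                simp only [LinearMap.add_apply, LinearMap.smul_apply, Module.End.one_apply] at h4 ⊢
                linear_combination (norm := module) h4
              refine hN0 ?_
              have h3 := hN
              rw [h2, smul_pow, one_pow] at h3
              have h0 : (z - 1) ^ r = 0 := by
                have := congrFun (LinearMap.congr_fun h3 (Pi.single ⟨0, by omega⟩ 1)) ⟨0, by omega⟩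
                simpa using this
              rw [h2, eq_zero_of_pow_eq_zero h0, zero_smul])
          have hinv : ∀ S : Submodule F (Fin n → F), S.map (Matrix.toLin' A) ≤ S → ∀ v ∈ S, N v ∈ S := fun S hS v hv => by
            have h1 : (1 + N : Module.End F (Fin n → F)) v ∈ S := hS ⟨v, hv, by rw [hM]⟩
            simpa using S.sub_mem h1 hv
          have hdrop : ∀ k, JordanType.drop N ⊤ k = μ.countP (k < ·) := fun k => by
            have := JordanType.rk_succ N ⊤ k
            rw [hrank, hrank, JordanType.sum_sub_succ] at this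
            omega
          obtain ⟨ν, hν, hνs⟩ := JordanType.sub_partition hN μ
            (fun k _ => by rw [hdrop, hdrop]; exact JordanType.countP_lt_succ μ k) U W (hinv U hUi) (hinv W hWi) hc
          exact ⟨ν, hν, hνs.trans hU⟩
      · intro h x ⟨c, hx⟩ _
        rw [Matrix.SpecialLinearGroup.coe_pow] at hx
        obtain ⟨a, ha⟩ := (Finite.injective_iff_surjective.1 (frobenius_inj F r)) c
        rw [frobenius_def] at ha
        have hc : c ≠ 0 := fun e => by
          have h1 := congrArg Matrix.det hx
          rw [Matrix.det_pow, x.2, one_pow, Matrix.det_smul, e, Fintype.card_fin, zero_pow (by omega), zero_mul] at h1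
          exact one_ne_zero h1
        have ha0 : a ≠ 0 := fun e => hc (by rw [← ha, e, zero_pow hr.ne_zero])
        set T := Matrix.toLin' (x : Matrix (Fin n) (Fin n) F) with hT
        let N : Module.End F (Fin n → F) := a⁻¹ • T - 1
        have hN : N ^ r = 0 := by
          show (a⁻¹ • T - 1 : Module.End F (Fin n → F)) ^ r = 0
          rw [sub_pow_char_of_commute (p := r) (Commute.one_right _), smul_pow, one_pow, hT, ← Matrix.toLin'_pow, hx,
            map_smul, Matrix.toLin'_one, inv_pow, ha, smul_smul, inv_mul_cancel₀ hc, one_smul]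
          exact sub_self _
        obtain ⟨U, W, hcp, hU, hUi, hWi⟩ := JordanSplit.exists_split N (p := r) (m := m) hN
          (by rw [finrank_fin_fun]; exact h)
        have hinv : ∀ S : Submodule F (Fin n → F), (∀ v ∈ S, N v ∈ S) → S.map T ≤ S := by
          rintro S hS _ ⟨v, hv, rfl⟩
          have : T v = a • (v + N v) := by simp [N, smul_smul, mul_inv_cancel₀ ha0]
          rw [this]
          exact S.smul_mem _ (S.add_mem hv (hS v hv))
        exact ⟨U, W, hcp, hU, hinv U hUi, hinv W hWi⟩
    rw [key]
    constructor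
    · intro h
      rcases hr.eq_two_or_odd with h2 | h2
      · subst h2
        exact Or.inr (Or.inl ⟨rfl, rfl, (part_two_iff hmn).1 h⟩)
      · exact Or.inl ⟨rfl, by have := hr.two_le; omega, h⟩
    · rintro (⟨-, -, h⟩ | ⟨-, h2, h⟩ | ⟨h, -⟩)
      · exact h
      · subst h2
        exact (part_two_iff hmn).2 h
      · exact absurd rfl h
  · have hrF : (r : F) ≠ 0 := fun e => hrp
      ((Nat.prime_dvd_prime_iff_eq hp hr).1 ((CharP.cast_eq_zero_iff F p r).1 e)).symm
    have hsub : r ∣ Nat.card {W : Submodule F (Fin n → F) // finrank F W = m} := by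
      by_contra hA
      haveI : Finite (Submodule F (Fin n → F)) := Finite.of_injective (fun W => (W : Set (Fin n → F))) SetLike.coe_injective
      haveI : Fintype {W : Submodule F (Fin n → F) // finrank F W = m} := Fintype.ofFinite _
      obtain ⟨⟨U₀⟩, -⟩ := Nat.card_ne_zero.1 (fun e => hA (e ▸ dvd_zero r))
      let E : {P : Submodule F (Fin n → F) × Submodule F (Fin n → F) // IsCompl P.1 P.2 ∧ finrank F P.1 = m} ≃
          Σ U : {W : Submodule F (Fin n → F) // finrank F W = m}, {W : Submodule F (Fin n → F) // IsCompl U.1 W} :=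
        { toFun := fun P => ⟨⟨P.1.1, P.2.2⟩, ⟨P.1.2, P.2.1⟩⟩
          invFun := fun Q => ⟨(Q.1.1, Q.2.1), Q.2.2, Q.1.2⟩
          left_inv := fun _ => rfl
          right_inv := fun _ => rfl }
      rw [Nat.card_congr E, Nat.card_sigma] at hrΩ
      have hcst : ∀ U : {W : Submodule F (Fin n → F) // finrank F W = m},
          Nat.card {W : Submodule F (Fin n → F) // IsCompl U.1 W} = Nat.card {W : Submodule F (Fin n → F) // IsCompl U₀.1 W} := by
        intro U
        obtain ⟨W₁, h₁⟩ := U.1.exists_isCompl
        obtain ⟨W₂, h₂⟩ := U₀.1.exists_isCompl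
        have hd : finrank F W₁ = finrank F W₂ := by
          have e1 := Submodule.finrank_add_eq_of_isCompl h₁
          have e2 := Submodule.finrank_add_eq_of_isCompl h₂
          rw [U.2] at e1; rw [U₀.2] at e2; omega
        let g : (Fin n → F) ≃ₗ[F] (Fin n → F) :=
          (Submodule.prodEquivOfIsCompl _ _ h₁).symm.trans
            (((LinearEquiv.ofFinrankEq _ _ (U.2.trans U₀.2.symm)).prodCongr (LinearEquiv.ofFinrankEq _ _ hd)).trans
              (Submodule.prodEquivOfIsCompl _ _ h₂))
        have hg : U.1.map g.toLinearMap = U₀.1 := by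
          refine Submodule.eq_of_le_of_finrank_eq ?_ (by rw [LinearEquiv.finrank_map_eq, U.2, U₀.2])
          rintro _ ⟨v, hv, rfl⟩
          simp only [g, LinearEquiv.coe_coe, LinearEquiv.trans_apply]
          rw [show (Submodule.prodEquivOfIsCompl _ _ h₁).symm v = (⟨v, hv⟩, 0) from
            (Submodule.prodEquivOfIsCompl _ _ h₁).symm_apply_eq.2 (by simp)]
          simp
        refine Nat.card_congr ((Submodule.orderIsoMapComap g).toEquiv.subtypeEquiv fun W => ?_)
        rw [(Submodule.orderIsoMapComap g).isCompl_iff]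
        show IsCompl (U.1.map g.toLinearMap) _ ↔ _
        rw [hg]; rfl
      rw [Finset.sum_congr rfl (fun U _ => hcst U), Finset.sum_const, Finset.card_univ, smul_eq_mul,
        ← Nat.card_eq_fintype_card] at hrΩ
      have h1 := ((hr.dvd_mul.1 hrΩ).resolve_left hA).trans (JordanSplit.card_compl_dvd U₀.1)
      obtain ⟨s, -, hs⟩ := FiniteField.card F p
      rw [hs, ← pow_mul] at h1
      exact hrp ((Nat.prime_dvd_prime_iff_eq hr hp).1 (hr.dvd_of_dvd_pow h1))
    have h49 := Cfsg.Agent.S5949.result hq n m (by omega)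
      ⟨fun e => absurd (congrArg Prod.fst e) (by show n ≠ 2; omega), fun e => absurd (congrArg Prod.fst e) (by show n ≠ 2; omega)⟩
      hm (by omega) r hsub (p := p)
    constructor
    · intro h
      exact Or.inr (Or.inr (h49.1 fun x h1 h2 => by
        obtain ⟨U, W, -, hU, hUi, -⟩ := h x h1 h2
        exact ⟨U, hU, hUi⟩))
    · intro h x h1 h2
      have h' := h.resolve_left (fun e => hrp e.1) |>.resolve_left (fun e => hrp e.1)
      obtain ⟨U, hU, hUi⟩ := h49.2 h' x h1 h2
      obtain ⟨c, hx⟩ := h1
      rw [Matrix.SpecialLinearGroup.coe_pow] at hx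
      have hc : c ≠ 0 := fun e => by
        have h3 := congrArg Matrix.det hx
        rw [Matrix.det_pow, x.2, one_pow, Matrix.det_smul, e, Fintype.card_fin, zero_pow (by omega), zero_mul] at h3
        exact one_ne_zero h3
      obtain ⟨E, hE, hEi⟩ := JordanSplit.exists_compl (Matrix.toLin' (x : Matrix (Fin n) (Fin n) F)) hrF hc
        (by rw [← Matrix.toLin'_pow, hx, map_smul, Matrix.toLin'_one]; rfl) U (fun v hv => hUi ⟨v, hv, rfl⟩)
      exact ⟨U, E, hE, hU, hUi, by rintro _ ⟨v, hv, rfl⟩; exact hEi v hv⟩

end Cfsg.Agent.S5950
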