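import Cfsg.Statements.S5951
import Cfsg.Agent.Lib.Classical.PrimeSubspaces

set_option autoImplicit false
open scoped MatrixGroups
open Cfsg

open Cfsg.Agent.Classical Module

namespace Cfsg.Agent.S5951

/-- Elements of prime order of PSL_n(q) fixing no pair of subspaces `U < W` with `dim U = m`, `dim W = n − m`. Here `T = PSL_n(F)` for a field `F` with `q = p^f` elements (`n ≥ 2`, `(n, q) ≠ (2, 2), (2, 3)`); an element of `T` of prime order `r` is represented by a matrix `x` of determinant 1 with `x^r` scalar and `x` not scalar; `i` denotes the multiplicative order of `q` modulo `r` (when `r ≠ p`), and `(a)_r` the `r`-part of `a`. Let `1 ≤ m < n/2` and let `r` be a prime dividing the number of such pairs. Then every element of `T` of order `r` fixes such a pair (both `U` and `W`) if and only if `r ≠ p` and either (i) `i = 1` and (`r ∣ m`, or `(q−1)_r ≥ (n)_r` with `q ≡ 1 (mod 4)` required when `r = 2` and `n` is even), or (ii) `2 ≤ i ≤ m` and `n mod i ≥ 2 (m mod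 i)`. -/
theorem result {F : Type*} [Field F] [Fintype F] {p : ℕ} [Fact p.Prime] [CharP F p] {q : ℕ} (hq : Fintype.card F = q)
    (n m : ℕ) (hn : 2 ≤ n) (hT : (n, q) ≠ (2, 2) ∧ (n, q) ≠ (2, 3)) (hm : 1 ≤ m) (hmn : 2 * m < n)
    (r : ℕ) [Fact r.Prime]
    (hrΩ : r ∣ Nat.card {P : Submodule F (Fin n → F) × Submodule F (Fin n → F) //
        P.1 ≤ P.2 ∧ Module.finrank F ↥P.1 = m ∧ Module.finrank F ↥P.2 = n - m}) :
    (∀ x : Matrix.SpecialLinearGroup (Fin n) F,
      (∃ c : F, ((x ^ r : Matrix.SpecialLinearGroup (Fin n) F) : Matrix (Fin n) (Fin n) F) = c • (1 : Matrix (Fin n) (Fin n) F)) →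
      (∀ c : F, (x : Matrix (Fin n) (Fin n) F) ≠ c • (1 : Matrix (Fin n) (Fin n) F)) →
      ∃ U W : Submodule F (Fin n → F), U ≤ W ∧ Module.finrank F ↥U = m ∧ Module.finrank F ↥W = n - m ∧
        U.map (Matrix.toLin' (x : Matrix (Fin n) (Fin n) F)) ≤ U ∧ W.map (Matrix.toLin' (x : Matrix (Fin n) (Fin n) F)) ≤ W) ↔
    (r ≠ p ∧
      ((orderOf (q : ZMod r) = 1 ∧ (r ∣ m ∨ (padicValNat r n ≤ padicValNat r (q - 1) ∧ (r = 2 → Even n → q % 4 = 1)))) ∨
       (2 ≤ orderOf (q : ZMod r) ∧ orderOf (q : ZMod r) ≤ m ∧ 2 * (m % orderOf (q : ZMod r)) ≤ n % orderOf (q : ZMod r)))) := by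
  classical
  subst hq
  have hr : r.Prime := Fact.out
  obtain ⟨hrp, j, hjm, hdiv⟩ : r ≠ p ∧ ∃ j < m,
      orderOf (Fintype.card F : ZMod r) ∣ n - j ∨ orderOf (Fintype.card F : ZMod r) ∣ n - m - j := by
    obtain ⟨c, hc, hcU⟩ := PrimeSubspaces.card_pairs (F := F) (m := m) (m' := n - m) (N := n) (finrank_fin_fun F) (by omega) (by omega)
    rw [hc] at hrΩ
    by_cases hA : r ∣ Nat.card {W : Submodule F (Fin n → F) // finrank F W = m}
    · obtain ⟨h1, j, hj, h2⟩ := PrimeSubspaces.dvd_count (p := p) (finrank_fin_fun F) (by omega : m ≤ n) hA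
      exact ⟨h1, j, hj, Or.inl h2⟩
    · have hcr := (hr.dvd_mul.1 hrΩ).resolve_left hA
      obtain ⟨⟨U⟩, -⟩ := Nat.card_ne_zero.1 (fun e => hA (e ▸ dvd_zero r))
      have hq : finrank F ((Fin n → F) ⧸ U.1) = n - m := by
        have := U.1.finrank_quotient_add_finrank
        rw [U.2, finrank_fin_fun] at this; omega
      rw [hcU U, PrimeChains.card_symm hq (by omega : m ≤ n - m)] at hcr
      obtain ⟨h1, j, hj, h2⟩ := PrimeSubspaces.dvd_count (p := p) hq (by omega : m ≤ n - m) hcr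
      exact ⟨h1, j, hj, Or.inr h2⟩
  set i := orderOf (Fintype.card F : ZMod r) with hid
  clear_value i
  have hi0 : i ≠ 0 := fun e => by
    rw [e, zero_dvd_iff, zero_dvd_iff] at hdiv; omega
  have hin : i ≤ n := by
    rcases hdiv with h | h <;> have := Nat.le_of_dvd (by omega) h <;> omega
  have hrF : (r : F) ≠ 0 := fun e => hrp
    ((Nat.prime_dvd_prime_iff_eq (Fact.out : p.Prime) hr).1 ((CharP.cast_eq_zero_iff F p r).1 e)).symm
  have hQ : r ∣ Fintype.card F - 1 ↔ i = 1 := by
    rw [hid, orderOf_eq_one_iff, ← ZMod.natCast_eq_zero_iff, Nat.cast_sub Fintype.card_pos, Nat.cast_one, sub_eq_zero]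
  constructor
  · intro h
    refine ⟨hrp, ?_⟩
    rcases Nat.lt_or_ge i 2 with hi | hi
    · have hi1 : i = 1 := by omega
      refine Or.inl ⟨hi1, ?_⟩
      by_contra hcon
      rw [not_or, not_and_or] at hcon
      obtain ⟨hrm, hcon⟩ := hcon
      obtain ⟨M, c, hdet, hMr, hMs, hW⟩ := PrimeSubspaces.exists_noroot (F := F) (r := r) (by omega : 0 < n) (hQ.2 hi1) (by
        rcases hcon with h1 | h1
        · exact Or.inl (by omega)
        · simp only [Classical.not_imp] at h1
          obtain ⟨rfl, he, h4⟩ := h1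
          obtain ⟨t, ht⟩ := hQ.2 hi1
          have := Fintype.one_lt_card (α := F)
          exact Or.inr ⟨rfl, he, by omega⟩)
      obtain ⟨U, W, -, hUm, -, hUi, -⟩ := h ⟨M, hdet⟩ ⟨c, (Matrix.SpecialLinearGroup.coe_pow _ r).trans hMr⟩ hMs
      exact hrm (hUm ▸ hW U hUi)
    · refine Or.inr ⟨hi, ?_⟩
      obtain ⟨M, hdet, hMr, hMs, hW⟩ := PrimeSubspaces.exists_blocks (p := p) (F := F) (r := r) hid hi hin hrF
      obtain ⟨U, W, hUW, hUm, hWm, hUi, hWi⟩ := h ⟨M, hdet⟩
        ⟨1, ((Matrix.SpecialLinearGroup.coe_pow _ r).trans hMr).trans (one_smul F _).symm⟩ hMs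
      obtain ⟨a, b, hab, ha, haK⟩ := hW U hUi
      obtain ⟨a', b', hab', ha', haK'⟩ := hW W hWi
      have haa : a ≤ a' := by rw [haK, haK']; exact Submodule.finrank_mono (inf_le_inf_right _ hUW)
      have hlt := Nat.mod_lt n (show i > 0 by omega)
      have hma : m % i = a := by
        rw [← hUm, hab, Nat.add_mul_mod_self_left, Nat.mod_eq_of_lt (by omega)]
      have hna : n % i = (a + a') % i := by
        rw [show n = a + a' + i * (b + b') by rw [Nat.mul_add]; omega, Nat.add_mul_mod_self_left]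
      have h1 : 2 * (m % i) ≤ n % i := by
        rcases Nat.lt_or_ge (a + a') i with hl | hl
        · rw [Nat.mod_eq_of_lt hl] at hna
          omega
        · rw [Nat.mod_eq_sub_mod hl, Nat.mod_eq_of_lt (show a + a' - i < i by omega)] at hna
          omega
      refine ⟨?_, h1⟩
      by_contra hlt'
      rw [Nat.mod_eq_of_lt (by omega : m < i)] at h1
      obtain ⟨t, ht⟩ | ⟨t, ht⟩ := hdiv
      · rw [show n = j + i * t by omega, Nat.add_mul_mod_self_left, Nat.mod_eq_of_lt (by omega : j < i)] at h1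
        omega
      · rw [show n = j + m + i * t by omega, Nat.add_mul_mod_self_left] at h1
        have := Nat.mod_le (j + m) i
        omega
  · rintro ⟨-, h⟩ x ⟨c, hx⟩ -
    rw [Matrix.SpecialLinearGroup.coe_pow] at hx
    rcases h with ⟨hi1, hcond⟩ | ⟨hi, him, hmod⟩
    · obtain ⟨U, W, hUW, hU, hW, hUi, hWi⟩ := PrimeSubspaces.scalar_chain (by omega : 0 < n) x.1 x.2 hx (hQ.2 hi1)
        (m := m) (m' := n - m) (by omega) (by omega) (hcond.imp (fun h => ⟨h, fun h' => Nat.dvd_sub h' h⟩) id)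
      exact ⟨U, W, hUW, hU, hW, hUi, hWi⟩
    · have hc : c ≠ 0 := fun e => by
        have h1 := congrArg Matrix.det hx
        rw [Matrix.det_pow, x.2, one_pow, Matrix.det_smul, e, Fintype.card_fin, zero_pow (by omega), zero_mul] at h1
        exact one_ne_zero h1
      obtain ⟨k, hk, hkW⟩ := PrimeSubspaces.moving_chain x.1 hrF (fun e => by have := hQ.1 e; omega) hx hc
      rw [← hid] at hk hkW
      have hkn : k ≤ n / i := (Nat.le_div_iff_mul_le (by omega)).2 (by rw [mul_comm]; exact hk)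
      have hn' := Nat.div_add_mod n i
      have hm' := Nat.div_add_mod m i
      have hmul : i * k ≤ i * (n / i) := Nat.mul_le_mul_left _ hkn
      obtain ⟨S, hSk, hS, hSs⟩ : ∃ S, S ≤ k ∧ 2 * m - i * S ≤ n - i * k ∧ S ≤ 2 * (m / i) := by
        rcases Nat.lt_or_ge k (2 * (m / i)) with hlt | hge
        · exact ⟨k, le_rfl, by omega, hlt.le⟩
        · exact ⟨2 * (m / i), hge, by rw [Nat.mul_left_comm i]; omega, le_rfl⟩
      obtain ⟨b, b'', hb, hb'', hbS⟩ : ∃ b b'', b ≤ m / i ∧ b'' ≤ m / i ∧ b + b'' = S :=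
        ⟨min (m / i) S, S - min (m / i) S, by omega, by omega, by omega⟩
      have hb1 := Nat.mul_le_mul_left i hb
      have hb2 := Nat.mul_le_mul_left i hb''
      have hsum : i * b + i * b'' = i * S := by rw [← Nat.mul_add, hbS]
      have hsub : i * (k - b'') + i * b'' = i * k := by rw [← Nat.mul_add, Nat.sub_add_cancel (by omega)]
      obtain ⟨U, W, hUW, hU, hW, hUi, hWi⟩ := hkW b (k - b'') (m - i * b) (n - i * k - (m - i * b''))
        (by omega) (by omega) (by omega) (by omega)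
      exact ⟨U, W, hUW, by omega, by omega, hUi, hWi⟩

end Cfsg.Agent.S5951
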