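import Cfsg.Statements.S5952


set_option autoImplicit false
open Cfsg

open Module
namespace Cfsg.Agent.S5952
open Submodule

variable {F V : Type*} [Field F] [AddCommGroup V] [Module F V] [FiniteDimensional F V]

/-- Dimensions of invariant subspaces inside an independent sum of irreducibles of dimension `a`
above a fixed invariant subspace. -/
theorem dim_decomp (f : V →ₗ[F] V) (hf : Function.Injective f) {a : ℕ} {ι : Type*} [DecidableEq ι]
    (U : ι → Submodule F V) (hUinv : ∀ j, (U j).map f ≤ U j) (hUdim : ∀ j, finrank F ↥(U j) = a)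
    (hUirr : ∀ j, ∀ W : Submodule F V, W ≤ U j → W.map f ≤ W → W = ⊥ ∨ W = U j)
    (E : Submodule F V) (hE : E.map f ≤ E) (S : Finset ι)
    (W : Submodule F V) (hW : W.map f ≤ W) (hWS : W ≤ E ⊔ S.sup U) :
    ∃ k e : ℕ, k ≤ S.card ∧ e ≤ finrank F E ∧ finrank F W = k * a + e := by
  induction S using Finset.induction_on generalizing W with
  | empty => exact ⟨0, _, le_rfl, Submodule.finrank_mono (by simpa using hWS), by simp⟩
  | @insert j S hj ih =>
    set A := E ⊔ S.sup U with hA
    have hfA : A.map f ≤ A := by
      have hS : (S.sup U).map f ≤ S.sup U := by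
        rw [Finset.sup_eq_iSup, Submodule.map_iSup]
        exact iSup_mono fun i => by rw [Submodule.map_iSup]; exact iSup_mono fun _ => hUinv i
      rw [hA, Submodule.map_sup]; exact sup_le_sup hE hS
    have hWA : (W ⊓ A).map f ≤ W ⊓ A := (Submodule.map_inf_le f).trans (inf_le_inf hW hfA)
    obtain ⟨k, e, hk, he, hd⟩ := ih (W ⊓ A) hWA inf_le_right
    set P := U j ⊓ (W ⊔ A) with hP
    have hPinv : P.map f ≤ P := (Submodule.map_inf_le f).trans (inf_le_inf (hUinv j) (by
      rw [Submodule.map_sup]; exact sup_le_sup hW hfA))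
    rw [Finset.sup_insert, sup_left_comm, ← hA] at hWS
    rcases hUirr j P inf_le_left hPinv with hP0 | hP1
    · refine ⟨k, e, hk.trans (Finset.card_le_card (Finset.subset_insert _ _)), he, ?_⟩
      rw [← hd, inf_eq_left.2]
      intro w hw
      obtain ⟨u, hu, x, hx, rfl⟩ := Submodule.mem_sup.1 (hWS hw)
      have : u ∈ P := ⟨hu, by
        simpa using Submodule.sub_mem _ (mem_sup_left hw : u + x ∈ W ⊔ A) (mem_sup_right hx : x ∈ W ⊔ A)⟩
      rw [hP0, Submodule.mem_bot] at this
      rwa [this, zero_add]
    · by_cases hUA : U j ≤ A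
      · refine ⟨k, e, hk.trans (Finset.card_le_card (Finset.subset_insert _ _)), he, ?_⟩
        rw [← hd, inf_eq_left.2 (hWS.trans (sup_le hUA le_rfl))]
      · have hUA0 : U j ⊓ A = ⊥ := by
          rcases hUirr j (U j ⊓ A) inf_le_left ((Submodule.map_inf_le f).trans (inf_le_inf (hUinv j) hfA)) with h | h
          · exact h
          · exact absurd (inf_eq_left.1 h) hUA
        refine ⟨k + 1, e, by rw [Finset.card_insert_of_notMem hj]; omega, he, ?_⟩
        have h1 := Submodule.finrank_sup_add_finrank_inf_eq W A
        have h2 := Submodule.finrank_sup_add_finrank_inf_eq (U j) A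
        have h3 : W ⊔ A = U j ⊔ A := le_antisymm (sup_le hWS le_sup_right)
          (sup_le (inf_eq_left.1 hP1) le_sup_right)
        rw [hUA0, finrank_bot, hUdim] at h2
        rw [h3, hd] at h1
        rw [add_mul, one_mul]
        omega

end Cfsg.Agent.S5952


namespace Cfsg.Agent.S5952

/-- Which dimensions of invariant subspaces a semisimple linear map has. Let `V` be a finite-dimensional vector space over a field `F` and `f` an invertible semisimple linear map of `V`. Suppose `V` is the internal direct sum of the fixed space `C_V(f)` (the eigenspace for 1) and subspaces `U_1, …, U_s`, each `f`-invariant of dimension `a ≥ 1` on which `f` acts irreducibly (no `f`-invariant subspaces other than 0 and `U_j`). Let `0 < m < dim V` and `ℓ = m mod a`. Then `f` leaves some `m`-dimensional subspace invariant if and only if `dim C_V(f) ≥ m`, or `a ≤ m` and `dim C_V(f) ≥ ℓ`. -/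
theorem result {F V : Type*} [Field F] [AddCommGroup V] [Module F V]
    [FiniteDimensional F V] (f : V →ₗ[F] V) (hf : Function.Bijective f) (hss : Module.End.IsSemisimple f)
    {s a : ℕ} (ha : 1 ≤ a) (U : Fin s → Submodule F V)
    (hUinv : ∀ j, (U j).map f ≤ U j) (hUdim : ∀ j, Module.finrank F ↥(U j) = a)
    (hUirr : ∀ j, ∀ W : Submodule F V, W ≤ U j → W.map f ≤ W → W = ⊥ ∨ W = U j)
    (hdec : DirectSum.IsInternal (fun o : Option (Fin s) => o.elim (Module.End.eigenspace f 1) U))
    (m : ℕ) (hm : 0 < m) (hmV : m < Module.finrank F V) :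
    (∃ W : Submodule F V, Module.finrank F ↥W = m ∧ W.map f ≤ W) ↔
    (m ≤ Module.finrank F ↥(Module.End.eigenspace f 1) ∨
      (a ≤ m ∧ m % a ≤ Module.finrank F ↥(Module.End.eigenspace f 1))) := by
  classical
  set E := Module.End.eigenspace f 1 with hE
  have hEinv : ∀ E' ≤ E, E'.map f ≤ E' := by
    rintro E' h' _ ⟨x, hx, rfl⟩
    have := Module.End.mem_eigenspace_iff.1 (h' hx)
    rw [one_smul] at this
    rw [this]; exact hx
  have hsup : E ⊔ Finset.univ.sup U = ⊤ := by
    rw [← hdec.submodule_iSup_eq_top, iSup_option, Finset.sup_univ_eq_iSup]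
    rfl
  constructor
  · rintro ⟨W, rfl, hW⟩
    obtain ⟨k, e, hk, he, hd⟩ := Cfsg.Agent.S5952.dim_decomp f hf.1 U hUinv hUdim hUirr E (hEinv E le_rfl) Finset.univ W hW (by rw [hsup]; exact le_top)
    rcases Nat.eq_zero_or_pos k with rfl | hk0
    · left; rw [hd]; simpa using he
    · right
      refine ⟨?_, ?_⟩
      · rw [hd]; exact le_add_right (Nat.le_mul_of_pos_left a hk0)
      · rw [hd, Nat.add_comm, Nat.add_mul_mod_self_right]
        exact (Nat.mod_le _ _).trans he
  · intro h
    have hind := hdec.submodule_iSupIndep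
    have hdim : ∀ (T : Finset (Fin s)) (E' : Submodule F V), E' ≤ E →
        finrank F ↥(E' ⊔ T.sup U) = finrank F ↥E' + T.card * a := by
      intro T
      induction T using Finset.induction_on with
      | empty => intro E' _; rw [Finset.sup_empty, sup_bot_eq, Finset.card_empty, Nat.zero_mul, Nat.add_zero]
      | @insert j T hj ih =>
        intro E' hE'
        rw [Finset.sup_insert, sup_left_comm, Finset.card_insert_of_notMem hj]
        have hdisj : U j ⊓ (E' ⊔ T.sup U) = ⊥ := by
          refine disjoint_iff.1 ((hind (some j)).mono_right (sup_le ?_ ?_))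
          · exact hE'.trans (le_iSup₂_of_le none (by simp) le_rfl)
          · exact Finset.sup_le fun i hi => le_iSup₂_of_le (some i) (fun e => hj (Option.some.inj e ▸ hi)) le_rfl
        have h2 := Submodule.finrank_sup_add_finrank_inf_eq (U j) (E' ⊔ T.sup U)
        rw [hdisj, finrank_bot, hUdim, ih E' hE'] at h2
        rw [add_mul, one_mul]; omega
    have hV : finrank F V = finrank F ↥E + s * a := by
      rw [← finrank_top F V, ← hsup, hdim _ _ le_rfl, Finset.card_univ, Fintype.card_fin]
    suffices ∃ k e, k ≤ s ∧ e ≤ finrank F ↥E ∧ m = k * a + e by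
      obtain ⟨k, e, hk, he, rfl⟩ := this
      obtain ⟨T, hT⟩ := (Finset.univ : Finset (Fin s)).exists_subset_card_eq (n := k) (by simpa using hk)
      obtain ⟨g, hg⟩ := exists_linearIndependent_of_le_finrank he
      set E' := (Submodule.span F (Set.range g)).map E.subtype with hE'
      refine ⟨E' ⊔ T.sup U, ?_, ?_⟩
      · rw [hdim T E' (Submodule.map_subtype_le _ _), hE',
          Submodule.finrank_map_subtype_eq, finrank_span_eq_card hg, Fintype.card_fin, hT.2]
        ring
      · rw [Submodule.map_sup]
        refine sup_le_sup (hEinv _ (Submodule.map_subtype_le _ _)) ?_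
        rw [Finset.sup_eq_iSup, Submodule.map_iSup]
        exact iSup_mono fun i => by rw [Submodule.map_iSup]; exact iSup_mono fun _ => hUinv i
    rcases h with h | ⟨h1, h2⟩
    · exact ⟨0, m, Nat.zero_le _, h, by simp⟩
    · by_cases hks : m / a ≤ s
      · exact ⟨m / a, m % a, hks, h2, by rw [Nat.div_add_mod' m a]⟩
      · have : s * a ≤ m := (Nat.le_div_iff_mul_le (by omega)).1 (by omega)
        exact ⟨s, m - s * a, le_rfl, by omega, by omega⟩

end Cfsg.Agent.S5952
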