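import Cfsg.Statements.S5957
import Cfsg.Agent.Lib.Classical.InvolChunks
import Cfsg.Agent.Lib.Classical.SquareZero

set_option autoImplicit false
open scoped MatrixGroups
open Cfsg

open Cfsg.Agent.Classical Module
set_option maxHeartbeats 800000

namespace Cfsg.Agent.S5957

/-- Involutions of PSL_n(q) and imprimitive subgroups. Here `T = PSL_n(F)` for a field `F` with `q = p^f` elements (`n ≥ 2`, `(n, q) ≠ (2, 2), (2, 3)`), `n = a·t` with `t ≥ 2`, and Ω is the set of direct-sum decompositions of `F^n` into `t` subspaces of dimension `a` (unordered; their number is the number of ordered ones divided by `t!`), whose stabilizers are the imprimitive subgroups of type GL_a(q) ≀ S_t (maximal except in some small cases; maximality is not assumed); an element of `T` of prime order `r` (a matrix `x` of determinant 1 with `x^r` scalar, `x` not scalar) fixes a point of Ω when it permutes the summands of some such decomposition. If the number of such decompositions is even, then every involution of `T` stabilizes one of them (the action is 2-elusive).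 -/
theorem result {F : Type*} [Field F] [Fintype F] {p : ℕ} [Fact p.Prime] [CharP F p] {q : ℕ} (hq : Fintype.card F = q)
    (n a t : ℕ) (hn : 2 ≤ n) (hT : (n, q) ≠ (2, 2) ∧ (n, q) ≠ (2, 3)) (hat : n = a * t) (ha : 1 ≤ a) (ht : 2 ≤ t)
    (hΩ : 2 ∣ Nat.card {D : Fin t → Submodule F (Fin n → F) // Cfsg.Geo.IsMDecomposition a D} / Nat.factorial t)
    (x : Matrix.SpecialLinearGroup (Fin n) F)
    (hx1 : ∃ z : F, ((x ^ 2 : Matrix.SpecialLinearGroup (Fin n) F) : Matrix (Fin n) (Fin n) F) = z • (1 : Matrix (Fin n) (Fin n) F))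
    (hx2 : ∀ z : F, (x : Matrix (Fin n) (Fin n) F) ≠ z • (1 : Matrix (Fin n) (Fin n) F)) :
    ∃ D : Fin t → Submodule F (Fin n → F), Cfsg.Geo.IsMDecomposition a D ∧
        ∃ σ : Equiv.Perm (Fin t), ∀ j, (D j).map (Matrix.toLin' (x : Matrix (Fin n) (Fin n) F)) = D (σ j) := by
  classical
  let T : (Fin n → F) →ₗ[F] (Fin n → F) := Matrix.toLin' (x : Matrix (Fin n) (Fin n) F)
  have hTinj : Function.Injective T := Function.LeftInverse.injective (g := Matrix.toLin' ((x⁻¹ : Matrix.SpecialLinearGroup (Fin n) F) : Matrix (Fin n) (Fin n) F))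
    fun v => by
      rw [← LinearMap.comp_apply, ← Matrix.toLin'_mul, ← Matrix.SpecialLinearGroup.coe_mul, inv_mul_cancel,
        Matrix.SpecialLinearGroup.coe_one, Matrix.toLin'_one, LinearMap.id_apply]
  obtain ⟨z, hz⟩ := hx1
  have hTT : ∀ v, T (T v) = z • v := fun v => by
    rw [← LinearMap.comp_apply, ← Matrix.toLin'_mul, ← Matrix.SpecialLinearGroup.coe_mul, ← pow_two, hz,
      map_smul, Matrix.toLin'_one, LinearMap.smul_apply, LinearMap.id_apply]
  have hz0 : z ≠ 0 := fun h => by
    have h1 : (Pi.single ⟨0, by omega⟩ 1 : Fin n → F) = 0 := hTinj (hTinj (by rw [hTT, h, zero_smul, map_zero, map_zero]))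
    simpa using congrFun h1 ⟨0, by omega⟩
  suffices H : ∃ (ι : Type) (_ : Fintype ι) (c : Basis ι F (Fin n → F)) (π : ι → ι),
      (∀ i, π (π i) = i) ∧ ∀ i, T (c i) ∈ Submodule.span F {c (π i)} by
    obtain ⟨ι, _, c, π, hπ, hc⟩ := H
    have hcard : Fintype.card ι = a * t := by rw [← hat, ← Module.finrank_eq_card_basis c, Module.finrank_pi, Fintype.card_fin]
    obtain ⟨f, σ, hσ, hf⟩ := InvolChunks.chunks hπ hcard
    let D : Fin t → Submodule F (Fin n → F) := fun j => Submodule.span F (c '' (↑(Finset.univ.filter fun i => f i = j) : Set ι))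
    have hDr : ∀ j, finrank F (D j) = a := fun j => by
      show finrank F (Submodule.span F _) = a
      rw [Set.image_eq_range]
      exact (finrank_span_eq_card (c.linearIndependent.comp _ Subtype.val_injective)).trans (by rw [← hf j]; exact Fintype.card_of_subtype _ (fun i => by simp))
    refine ⟨D, ⟨ht, ha, hDr, ?_, ?_⟩, σ, fun j => ?_⟩
    · intro j
      refine Disjoint.mono_right (c := Submodule.span F (c '' {i | f i ≠ j})) (iSup₂_le fun j' hj' => Submodule.span_mono ?_)
        (c.linearIndependent.disjoint_span_image ?_)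
      · rintro _ ⟨i, hi, rfl⟩
        simp only [Finset.coe_filter, Finset.mem_univ, true_and, Set.mem_ofPred_eq] at hi
        exact ⟨i, by show f i ≠ j; rw [hi]; exact hj', rfl⟩
      · rw [Set.disjoint_left]
        intro i hi hi'
        simp at hi
        exact hi' hi
    · rw [eq_top_iff, ← c.span_eq, Submodule.span_le]
      rintro _ ⟨i, rfl⟩
      exact Submodule.mem_iSup_of_mem (f i) (Submodule.subset_span ⟨i, by simp, rfl⟩)
    · refine Submodule.eq_of_le_of_finrank_eq ?_
        (by rw [hDr]; exact ((Submodule.equivMapOfInjective T hTinj (D j)).finrank_eq.symm.trans (hDr j)))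
      rw [Submodule.map_le_iff_le_comap, Submodule.span_le]
      rintro _ ⟨i, hi, rfl⟩
      simp only [Finset.coe_filter, Finset.mem_univ, true_and, Set.mem_ofPred_eq] at hi
      exact Submodule.span_mono (t := c '' _) (Set.singleton_subset_iff.2 (Set.mem_image_of_mem c (by simp [← hσ, hi]))) (hc i)
  have hfin : ∀ {ι : Type} [Fintype ι] (b : ι → Fin n → F), Submodule.span F (Set.range b) = ⊤ → Fintype.card ι = n →
      ∃ c : Basis ι F (Fin n → F), ∀ i, c i = b i := fun b hb hcd =>
    ⟨basisOfTopLeSpanOfCardEqFinrank b hb.ge (by rw [hcd, Module.finrank_pi, Fintype.card_fin]),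
      fun i => by rw [coe_basisOfTopLeSpanOfCardEqFinrank]⟩
  by_cases hsq : IsSquare z
  · obtain ⟨l, hl⟩ := hsq
    have hl0 : l ≠ 0 := fun h => hz0 (by rw [hl, h, zero_mul])
    by_cases h20 : (2 : F) = 0
    · -- square zero part
      let N : (Fin n → F) →ₗ[F] (Fin n → F) := T - l • LinearMap.id
      have hN : ∀ v, N (N v) = 0 := fun v => by
        have hll : l • T v + l • T v = 0 := by rw [← two_smul F, h20, zero_smul]
        simp only [N, LinearMap.sub_apply, LinearMap.smul_apply, LinearMap.id_apply, map_sub, map_smul, hTT,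
          smul_sub, smul_smul, ← hl]
        have hzz : z • v + z • v = 0 := by rw [← two_smul F, h20, zero_smul]
        linear_combination (norm := module) hzz - hll
      obtain ⟨k, b, h1, h2, h3⟩ := SquareZero.exists_basis N hN
      have hTb : ∀ v, T v = N v + l • v := fun v => by simp [N]
      let r := finrank F (LinearMap.range N)
      let b' : (Fin r ⊕ Fin r) ⊕ Fin k → Fin n → F :=
        Sum.elim (Sum.elim (fun i => b (.inl (.inl i))) fun i => T (b (.inl (.inl i)))) fun j => b (.inr j)
      obtain ⟨c, hc⟩ := hfin b' (by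
        rw [eq_top_iff, ← b.span_eq, Submodule.span_le]
        rintro _ ⟨(i | i) | i, rfl⟩
        · exact Submodule.subset_span ⟨.inl (.inl i), rfl⟩
        · rw [← h1, show N (b (.inl (.inl i))) = b' (.inl (.inr i)) - l • b' (.inl (.inl i)) from rfl]
          exact Submodule.sub_mem _ (Submodule.subset_span ⟨_, rfl⟩) (Submodule.smul_mem _ _ (Submodule.subset_span ⟨_, rfl⟩))
        · exact Submodule.subset_span ⟨.inr i, rfl⟩)
        (by rw [← Module.finrank_eq_card_basis b, Module.finrank_pi, Fintype.card_fin])
      refine ⟨_, inferInstance, c, Sum.map Sum.swap id, by rintro ((i | i) | i) <;> rfl, ?_⟩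
      rintro ((i | i) | i) <;> rw [hc, hc]
      · exact Submodule.mem_span_singleton_self _
      · exact Submodule.mem_span_singleton.2 ⟨z, (hTT _).symm⟩
      · exact Submodule.mem_span_singleton.2 ⟨l, by show l • b (.inr i) = T (b (.inr i)); rw [hTb, h3, zero_add]⟩
    · -- two eigenspaces
      let Ep := LinearMap.ker (T - l • LinearMap.id)
      let Em := LinearMap.ker (T + l • LinearMap.id)
      have hp : ∀ v, v ∈ Ep ↔ T v = l • v := fun v => by simp [Ep, sub_eq_zero]
      have hm : ∀ v, v ∈ Em ↔ T v = -(l • v) := fun v => by simp [Em, add_eq_zero_iff_eq_neg]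
      have h2l : (2 : F) * l ≠ 0 := mul_ne_zero h20 hl0
      have hsub : ∀ v ∈ Ep, ∀ w ∈ Em, v = w → v = 0 := fun v hv w hw e => by
        subst e
        have h4 : (2 * l) • v = 0 := by rw [mul_smul, two_smul]; nth_rw 1 [← (hp v).1 hv]; rw [(hm v).1 hw, neg_add_cancel]
        exact (smul_eq_zero.1 h4).resolve_left h2l
      have hcompl : IsCompl Ep Em := by
        refine ⟨Submodule.disjoint_def.2 fun v hv hv' => hsub v hv v hv' rfl, codisjoint_iff.2 (eq_top_iff.2 fun v _ => ?_)⟩
        refine Submodule.mem_sup.2 ⟨(2 * l)⁻¹ • (T v + l • v), ?_, (2 * l)⁻¹ • (l • v - T v), ?_, ?_⟩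
        · rw [hp]
          simp only [map_smul, map_add, hTT, hl, smul_add, smul_smul]
          rw [add_comm]
          congr 2 <;> ring
        · rw [hm]
          simp only [map_smul, map_sub, hTT, hl, smul_sub, smul_smul, neg_sub]
          congr 2 <;> ring
        · rw [← smul_add, show T v + l • v + (l • v - T v) = (2 * l) • v by module, smul_smul, inv_mul_cancel₀ h2l, one_smul]
      let c := ((Module.finBasis F Ep).prod (Module.finBasis F Em)).map (Submodule.prodEquivOfIsCompl Ep Em hcompl)
      refine ⟨_, inferInstance, c, id, fun i => rfl, ?_⟩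
      rintro (i | i)
      · have h4 : T (c (Sum.inl i)) = l • c (Sum.inl i) := (hp _).1 (by simp [c])
        exact Submodule.mem_span_singleton.2 ⟨l, h4.symm⟩
      · have h4 : T (c (Sum.inr i)) = -(l • c (Sum.inr i)) := (hm _).1 (by simp [c])
        exact Submodule.mem_span_singleton.2 ⟨-l, by rw [h4, neg_smul]; rfl⟩
  · -- no eigenvalue
    have key : ∀ m, m ≤ n / 2 + 1 → ∃ s, s ≤ m ∧ ∃ v : Fin s → Fin n → F,
        LinearIndependent F (Sum.elim v (T ∘ v)) ∧ (s = m ∨ Submodule.span F (Set.range (Sum.elim v (T ∘ v))) = ⊤) := by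
      intro m
      induction m with
      | zero => exact fun _ => ⟨0, le_rfl, Fin.elim0, linearIndependent_empty_type, Or.inl rfl⟩
      | succ m ih =>
        intro hm
        obtain ⟨s, hs, v, hv, h⟩ := ih (by omega)
        rcases h with rfl | h
        swap
        · exact ⟨s, by omega, v, hv, Or.inr h⟩
        rcases eq_or_ne (Submodule.span F (Set.range (Sum.elim v (T ∘ v)))) ⊤ with h | h
        · exact ⟨s, by omega, v, hv, Or.inr h⟩
        set W := Submodule.span F (Set.range (Sum.elim v (T ∘ v))) with hW
        obtain ⟨w, -, hw⟩ := SetLike.exists_of_lt (lt_top_iff_ne_top.2 h)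
        have hWT : ∀ y ∈ W, T y ∈ W := fun y hy => by
          refine (Submodule.map_span_le T _ W).2 ?_ ⟨y, hy, rfl⟩
          rintro _ ⟨i | i, rfl⟩
          · exact Submodule.subset_span ⟨Sum.inr i, rfl⟩
          · show T (T (v i)) ∈ W
            rw [hTT]
            exact W.smul_mem _ (Submodule.subset_span ⟨Sum.inl i, rfl⟩)
        have hind : ∀ r r' : F, r • w + r' • T w ∈ W → r = 0 ∧ r' = 0 := by
          intro r r' hr
          by_cases hr' : r' = 0
          · subst hr'
            rw [zero_smul, add_zero] at hr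
            exact ⟨by_contra fun hr0 => hw (by simpa [hr0] using W.smul_mem r⁻¹ hr), rfl⟩
          exfalso
          have h1 := hWT _ hr
          rw [map_add, map_smul, map_smul, hTT, smul_smul] at h1
          have h2 := W.sub_mem (W.smul_mem r hr) (W.smul_mem r' h1)
          have h3 : r • (r • w + r' • T w) - r' • (r • T w + (r' * z) • w) = (r * r - r' * (r' * z)) • w := by
            simp only [smul_add, smul_smul, sub_smul, mul_comm r' r]; abel
          rw [h3] at h2
          refine hw ?_
          have h4 : r * r - r' * (r' * z) ≠ 0 := fun e => hsq ⟨r / r', by field_simp; linear_combination -e⟩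
          simpa [smul_smul, h4] using W.smul_mem (r * r - r' * (r' * z))⁻¹ h2
        refine ⟨s + 1, le_rfl, Fin.cons w v, ?_, Or.inl rfl⟩
        rw [linearIndependent_sum]
        have hv' := linearIndependent_sum.1 hv
        simp only [Sum.elim_comp_inl, Sum.elim_comp_inr] at hv' ⊢
        have hWv : W = Submodule.span F (Set.range v) ⊔ Submodule.span F (Set.range (T ∘ v)) := by
          rw [hW, Set.Sum.elim_range, Submodule.span_union]
        have hTcons : T ∘ (Fin.cons w v : Fin (s + 1) → Fin n → F) = Fin.cons (T w) (T ∘ v) := by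
          funext i; refine Fin.cases rfl (fun i => rfl) i
        have hwA : w ∉ Submodule.span F (Set.range v) := fun e => hw (hWv ▸ Submodule.mem_sup_left e)
        have hwB : T w ∉ Submodule.span F (Set.range (T ∘ v)) := fun e =>
          one_ne_zero (hind 0 1 (by rw [zero_smul, one_smul, zero_add]; exact hWv ▸ Submodule.mem_sup_right e)).2
        refine ⟨linearIndependent_finCons.2 ⟨hv'.1, hwA⟩, hTcons ▸ linearIndependent_finCons.2 ⟨hv'.2.1, hwB⟩, ?_⟩
        rw [hTcons, Fin.range_cons, Fin.range_cons, Submodule.span_insert, Submodule.span_insert, Submodule.disjoint_def]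
        intro y hy hy'
        obtain ⟨_, h1, A, hA, rfl⟩ := Submodule.mem_sup.1 hy
        obtain ⟨r, rfl⟩ := Submodule.mem_span_singleton.1 h1
        obtain ⟨_, h2, B, hB, he⟩ := Submodule.mem_sup.1 hy'
        obtain ⟨r', rfl⟩ := Submodule.mem_span_singleton.1 h2
        obtain ⟨e1, e2⟩ := hind r (-r') (by
          rw [show r • w + -r' • T w = B - A by rw [neg_smul]; linear_combination (norm := abel) -he]
          exact W.sub_mem (hWv ▸ Submodule.mem_sup_right hB) (hWv ▸ Submodule.mem_sup_left hA))
        rw [neg_eq_zero] at e2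
        simp only [e1, e2, zero_smul, zero_add] at he ⊢
        exact Submodule.disjoint_def.1 hv'.2.2 A hA (he ▸ hB)
    obtain ⟨s, -, v, hv, h⟩ := key (n / 2 + 1) le_rfl
    have hle : s + s ≤ n := by simpa using hv.fintype_card_le_finrank
    have htop := h.resolve_left (by omega)
    let c : Basis (Fin s ⊕ Fin s) F (Fin n → F) := Basis.mk hv htop.ge
    refine ⟨_, inferInstance, c, Sum.swap, fun i => Sum.swap_swap i, ?_⟩
    rintro (i | i) <;> simp only [c, Basis.mk_apply]
    · exact Submodule.mem_span_singleton_self _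
    · exact Submodule.mem_span_singleton.2 ⟨z, (hTT _).symm⟩

end Cfsg.Agent.S5957
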