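import Cfsg.Statements.S5959
import Cfsg.Agent.Lib.Classical.JordanType

set_option autoImplicit false
open scoped MatrixGroups
open Cfsg

open Cfsg.Agent.Classical Module
set_option maxHeartbeats 800000

namespace Cfsg.Agent.S5959

/-- Elements of order `p` of PSL_n(q) and imprimitive subgroups: a necessary condition. Here `T = PSL_n(F)` for a field `F` with `q = p^f` elements (`n ≥ 2`, `(n, q) ≠ (2, 2), (2, 3)`), `n = a·t` with `t ≥ 2`, and Ω is the set of direct-sum decompositions of `F^n` into `t` subspaces of dimension `a` (unordered; their number is the number of ordered ones divided by `t!`), whose stabilizers are the imprimitive subgroups of type GL_a(q) ≀ S_t (maximal except in some small cases; maximality is not assumed); an element of `T` of prime order `r` (a matrix `x` of determinant 1 with `x^r` scalar, `x` not scalar) fixes a point of Ω when it permutes the summands of some such decomposition. Suppose `p > 2` divides the number of such decompositions. If every element of `T` of order `p` stabilizes such a decomposition,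 then every partition of `n` into parts of size at most `p` in which the part `p` occurs fewer than `a` times contains (as a sub-multiset) a partition of `a`. -/
theorem result {F : Type*} [Field F] [Fintype F] {p : ℕ} [Fact p.Prime] [CharP F p] {q : ℕ} (hq : Fintype.card F = q)
    (n a t : ℕ) (hn : 2 ≤ n) (hT : (n, q) ≠ (2, 2) ∧ (n, q) ≠ (2, 3)) (hat : n = a * t) (ha : 1 ≤ a) (ht : 2 ≤ t)
    (hp : 2 < p) (hΩ : p ∣ Nat.card {D : Fin t → Submodule F (Fin n → F) // Cfsg.Geo.IsMDecomposition a D} / Nat.factorial t)
    (h : ∀ x : Matrix.SpecialLinearGroup (Fin n) F,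
      (∃ z : F, ((x ^ p : Matrix.SpecialLinearGroup (Fin n) F) : Matrix (Fin n) (Fin n) F) = z • (1 : Matrix (Fin n) (Fin n) F)) →
      (∀ z : F, (x : Matrix (Fin n) (Fin n) F) ≠ z • (1 : Matrix (Fin n) (Fin n) F)) →
      ∃ D : Fin t → Submodule F (Fin n → F), Cfsg.Geo.IsMDecomposition a D ∧
        ∃ σ : Equiv.Perm (Fin t), ∀ j, (D j).map (Matrix.toLin' (x : Matrix (Fin n) (Fin n) F)) = D (σ j)) :
    (∀ μ : Multiset ℕ, (∀ b ∈ μ, 0 < b ∧ b ≤ p) → μ.sum = n → μ.count p < a → ∃ ν : Multiset ℕ, ν ≤ μ ∧ ν.sum = a) := by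
  classical
  intro μ hμ hsum hcount
  obtain ⟨N, hN, hrk⟩ := JordanType.exists_nilpotent (F := F) (n := n) μ (fun b hb => (hμ b hb).2) hsum
  have hrank : ∀ k, JordanType.rk N ⊤ k = (μ.map fun b => b - k).sum := fun k => by
    rw [JordanType.rk, Submodule.map_top, hrk]
  have hdrop : ∀ k, JordanType.drop N ⊤ k = μ.countP (k < ·) := fun k => by
    have := JordanType.rk_succ N ⊤ k
    rw [hrank, hrank, JordanType.sum_sub_succ] at this
    omega
  rcases eq_or_ne N 0 with rfl | hN0
  · refine ⟨Multiset.replicate a 1, ?_, by simp⟩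
    have h1 : ∀ b ∈ μ, b = 1 := fun b hb => by
      have h := hrank 1
      rw [JordanType.rk, pow_one, Submodule.map_zero, finrank_bot, eq_comm, Multiset.sum_eq_zero_iff] at h
      have := h (b - 1) (Multiset.mem_map.2 ⟨b, hb, rfl⟩)
      have := (hμ b hb).1
      omega
    have h2 := Multiset.eq_replicate_card.2 h1
    rw [h2]
    refine (Multiset.replicate_le_replicate 1).2 ?_
    rw [h2, Multiset.sum_replicate, smul_eq_mul, mul_one] at hsum
    rw [hsum, hat]; exact Nat.le_mul_of_pos_right a (by omega)
  have hpr : p.Prime := Fact.out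
  haveI : CharP (Module.End F (Fin n → F)) p :=
    charP_of_injective_algebraMap (R := F) (fun r s h => by
      have := congrFun (LinearMap.congr_fun h (Pi.single ⟨0, by omega⟩ 1)) ⟨0, by omega⟩
      simpa [Module.algebraMap_end_apply] using this) p
  let T : Module.End F (Fin n → F) := 1 + N
  have hTp : T ^ p = 1 := by
    show (1 + N : Module.End F (Fin n → F)) ^ p = 1
    rw [add_pow_char_of_commute (p := p) (Commute.one_left N), one_pow, hN, add_zero]
  have hdet : (LinearMap.toMatrix' T).det = 1 := by
    refine frobenius_inj F p ?_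
    rw [frobenius_def, frobenius_def, one_pow, ← Matrix.det_pow]
    rw [show LinearMap.toMatrix' T ^ p = LinearMap.toMatrix' (T ^ p) from (map_pow LinearMap.toMatrixAlgEquiv' T p).symm, hTp,
      show LinearMap.toMatrix' (1 : Module.End F (Fin n → F)) = 1 from LinearMap.toMatrix'_id, Matrix.det_one]
  let xs : Matrix.SpecialLinearGroup (Fin n) F := ⟨LinearMap.toMatrix' T, hdet⟩
  obtain ⟨D, hD, σ, hσ⟩ := h xs ⟨1, by
      rw [Matrix.SpecialLinearGroup.coe_pow, one_smul]
      show LinearMap.toMatrix' T ^ p = 1
      rw [show LinearMap.toMatrix' T ^ p = LinearMap.toMatrix' (T ^ p) from (map_pow LinearMap.toMatrixAlgEquiv' T p).symm, hTp]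
      exact LinearMap.toMatrix'_id⟩
    (fun z hz => by
      have hz' : LinearMap.toMatrix' T = z • (1 : Matrix (Fin n) (Fin n) F) := hz
      have hT : T = z • (1 : Module.End F (Fin n → F)) := LinearMap.toMatrix'.injective (hz'.trans (by
        rw [map_smul]; congr 1; exact LinearMap.toMatrix'_id.symm))
      have hN' : N = (z - 1) • (1 : Module.End F (Fin n → F)) := by
        refine LinearMap.ext fun v => ?_
        have h1 := LinearMap.congr_fun hT v
        simp [T] at h1
        simp only [LinearMap.smul_apply, Module.End.one_apply]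
        linear_combination (norm := module) h1
      refine hN0 ?_
      have hp' := hN
      rw [hN', smul_pow, one_pow] at hp'
      have h0 : (z - 1) ^ p = 0 := by
        have := congrFun (LinearMap.congr_fun hp' (Pi.single ⟨0, by omega⟩ 1)) ⟨0, by omega⟩
        simpa using this
      rw [hN', eq_zero_of_pow_eq_zero h0, zero_smul])
  have hσ' : ∀ j, (D j).map T = D (σ j) := fun j => by
    have := hσ j
    rwa [show Matrix.toLin' (xs : Matrix (Fin n) (Fin n) F) = T from
      Matrix.toLin'_toMatrix' T] at this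
  have hDinj : Function.Injective D := hD.indep.injective fun j e => by
    have := hD.finrank_eq j
    rw [e, finrank_bot] at this
    omega
  have hpowσ : ∀ m j, (D j).map (T ^ m) = D ((σ ^ m) j) := by
    intro m j
    induction m with
    | zero => rw [pow_zero, pow_zero, Module.End.one_eq_id, Submodule.map_id]; rfl
    | succ m ih => rw [pow_succ', Module.End.mul_eq_comp, Submodule.map_comp, ih, hσ', pow_succ']; rfl
  have hfix : ∀ j, σ j = j := by
    intro j
    by_contra hne
    have hσp : (σ ^ p) j = j := hDinj (by rw [← hpowσ, hTp, Module.End.one_eq_id, Submodule.map_id])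
    have hdist : ∀ m, m < p - 1 → (σ ^ m) j ≠ (σ ^ (p - 1)) j := by
      intro m hm e
      have h1 : (σ ^ (p - 1 - m)) j = j := (σ ^ m).injective (by
        rw [← Equiv.Perm.mul_apply, ← pow_add, show m + (p - 1 - m) = p - 1 by omega, e])
      have h2 := (Function.IsPeriodicPt.gcd (f := ⇑σ) (m := p - 1 - m) (n := p) (x := j)
        (by show (⇑σ)^[p - 1 - m] j = j; rw [← Equiv.Perm.coe_pow]; exact h1)
        (by show (⇑σ)^[p] j = j; rw [← Equiv.Perm.coe_pow]; exact hσp))
      rw [Nat.gcd_comm, (hpr.coprime_iff_not_dvd.2 (Nat.not_dvd_of_pos_of_lt (by omega) (by omega))).gcd_eq_one] at h2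
      exact hne h2
    have hinj : ∀ v ∈ D j, (N ^ (p - 1)) v = 0 → v = 0 := by
      intro v hv hv0
      have hexp : (N ^ (p - 1)) v = ∑ m ∈ Finset.range (p - 1 + 1),
          ((-1 : F) ^ (p - 1 - m) * ((p - 1).choose m : F)) • (T ^ m) v := by
        have h1 : N = T + (-1 : Module.End F (Fin n → F)) := by simp [T]
        rw [h1, (Commute.neg_one_right T).add_pow, LinearMap.sum_apply]
        refine Finset.sum_congr rfl fun m _ => ?_
        rw [Module.End.mul_apply, Module.End.mul_apply]
        rw [show ((-1 : Module.End F (Fin n → F)) ^ (p - 1 - m)) = ((-1 : F) ^ (p - 1 - m)) • 1 by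
            rw [← neg_one_smul F (1 : Module.End F (Fin n → F)), smul_pow, one_pow]]
        simp [mul_smul, Nat.cast_smul_eq_nsmul, Module.End.natCast_apply, ← nsmul_eq_mul, map_nsmul]
        exact smul_comm _ _ _
      rw [hexp, Finset.sum_range_succ, Nat.sub_self, pow_zero, Nat.choose_self, Nat.cast_one, mul_one, one_smul,
        add_eq_zero_iff_neg_eq] at hv0
      have hlast : (T ^ (p - 1)) v ∈ D ((σ ^ (p - 1)) j) := hpowσ (p - 1) j ▸ ⟨v, hv, rfl⟩
      have hrest : (T ^ (p - 1)) v ∈ ⨆ (i) (_ : i ≠ (σ ^ (p - 1)) j), D i := by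
        rw [← hv0]
        refine neg_mem (Submodule.sum_mem _ fun m hm => Submodule.smul_mem _ _ ?_)
        rw [Finset.mem_range] at hm
        exact Submodule.mem_iSup_of_mem _ (Submodule.mem_iSup_of_mem (hdist m hm) (hpowσ m j ▸ ⟨v, hv, rfl⟩))
      have h0 := Submodule.disjoint_def.1 (hD.indep _) _ hlast hrest
      have h2 : (T ^ (1 + (p - 1))) v = 0 := by rw [pow_add, Module.End.mul_apply, h0, map_zero]
      rwa [show 1 + (p - 1) = p by omega, hTp, Module.End.one_apply] at h2
    have h3 : a ≤ JordanType.rk N ⊤ (p - 1) := by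
      rw [← hD.finrank_eq j, JordanType.rk]
      refine LinearMap.finrank_le_finrank_of_injective (f := ((N ^ (p - 1)).domRestrict (D j)).codRestrict _
        fun v => ⟨v, trivial, rfl⟩) fun v w e => ?_
      have e' := congrArg Subtype.val e
      exact Subtype.ext (sub_eq_zero.1 (hinj _ (sub_mem v.2 w.2) (by rw [map_sub]; exact sub_eq_zero.2 e')))
    rw [hrank] at h3
    have h4 : (μ.map fun b => b - (p - 1)).sum = μ.count p := by
      have h5 := JordanType.sum_sub_succ μ (p - 1)
      have h6 : (μ.map fun b => b - (p - 1 + 1)).sum = 0 := by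
        refine Multiset.sum_eq_zero fun x hx => ?_
        obtain ⟨b, hb, rfl⟩ := Multiset.mem_map.1 hx
        have := (hμ b hb).2
        omega
      have h7 := JordanType.countP_lt_succ μ (p - 1)
      have h8 : μ.countP (p - 1 + 1 < ·) = 0 := Multiset.countP_eq_zero.2 fun b hb => by
        have := (hμ b hb).2
        omega
      rw [show p - 1 + 1 = p by omega] at h7 h8
      omega
    omega
  have hinvD : ∀ j v, v ∈ D j → N v ∈ D j := fun j v hv => by
    have h1 : T v ∈ D j := by
      have := hσ' j
      rw [hfix] at this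
      exact this ▸ ⟨v, hv, rfl⟩
    simpa [T] using Submodule.sub_mem _ h1 hv
  let j₀ : Fin t := ⟨0, by omega⟩
  obtain ⟨ν, hν, hνs⟩ := JordanType.sub_partition hN μ
    (fun k _ => by rw [hdrop, hdrop]; exact JordanType.countP_lt_succ μ k)
    (D j₀) (⨆ (i) (_ : i ≠ j₀), D i) (hinvD j₀)
    (fun v hv => by
      refine (show (⨆ (i) (_ : i ≠ j₀), D i).map N ≤ ⨆ (i) (_ : i ≠ j₀), D i from ?_) ⟨v, hv, rfl⟩
      rw [Submodule.map_iSup]
      refine iSup_le fun i => ?_
      rw [Submodule.map_iSup]
      exact iSup_le fun hi => (Submodule.map_le_iff_le_comap.2 (hinvD i)).trans (le_iSup₂_of_le i hi le_rfl))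
    ⟨hD.indep j₀, codisjoint_iff.2 (by rw [← hD.iSup_eq_top]; exact (iSup_split_single D j₀).symm)⟩
  exact ⟨ν, hν, hνs.trans (hD.finrank_eq j₀)⟩

end Cfsg.Agent.S5959
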