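import Cfsg.Statements.S5960
import Cfsg.Agent.Lib.Classical.SymplecticMatrix
import Cfsg.Agent.Lib.Classical.InvolChunks

set_option autoImplicit false
open scoped MatrixGroups
open Cfsg

open Cfsg.Agent.Classical Module
open Matrix hiding toLin'
set_option maxHeartbeats 1000000

namespace Cfsg.Agent.S5960

/-- Involutions of PSp_n(q) and imprimitive subgroups. Here `T = PSp_n(q)`, `n = 2d ≥ 4`, `(n, q) ≠ (4, 2)`, realised through the symplectic matrices over the field `F` with `q` elements and the standard alternating form; `n = a·t` with `a` even and `t ≥ 2`, and Ω is the (nonempty) set of orthogonal decompositions of `F^n` into `t` nondegenerate subspaces of dimension `a` (unordered; counted as ordered ones divided by `t!`), whose stabilizers are the imprimitive subgroups of type Sp_a(q) ≀ S_t (maximality is not assumed); an element of `T` of prime order `r` (a symplectic matrix `x` with `x^r` scalar, `x` not scalar) fixes a point of Ω when it permutes the summands of some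 such decomposition. If the number of such decompositions is even, then every involution of `T` stabilizes one of them (the action is 2-elusive). -/
theorem result {F : Type*} [Field F] [Fintype F] {p : ℕ} [Fact p.Prime] [CharP F p] {q : ℕ} (hq : Fintype.card F = q)
    (d : ℕ) (hd : 2 ≤ d) (hT : (d, q) ≠ (2, 2))
    (a t : ℕ) (hat : 2 * d = a * t) (ha : 2 ≤ a) (hae : Even a) (ht : 2 ≤ t) (hΩ : 2 ∣ Nat.card {D : Fin t → Submodule F (Fin d ⊕ Fin d → F) // (Cfsg.Geo.IsMDecomposition a D ∧ (∀ j, ∀ u ∈ D j, u ≠ 0 → ∃ v ∈ D j, Cfsg.sympForm d F u v ≠ 0) ∧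
          (∀ j j', j ≠ j' → ∀ u ∈ D j, ∀ v ∈ D j', Cfsg.sympForm d F u v = 0))} / Nat.factorial t)
    (x : ↥(Matrix.symplecticGroup (Fin d) F))
    (hx1 : ∃ z : F, ((x ^ 2 : ↥(Matrix.symplecticGroup (Fin d) F)) : Matrix (Fin d ⊕ Fin d) (Fin d ⊕ Fin d) F) = z • (1 : Matrix (Fin d ⊕ Fin d) (Fin d ⊕ Fin d) F))
    (hx2 : ∀ z : F, (x : Matrix (Fin d ⊕ Fin d) (Fin d ⊕ Fin d) F) ≠ z • (1 : Matrix (Fin d ⊕ Fin d) (Fin d ⊕ Fin d) F)) :
    ∃ D : Fin t → Submodule F (Fin d ⊕ Fin d → F), (Cfsg.Geo.IsMDecomposition a D ∧ (∀ j, ∀ u ∈ D j, u ≠ 0 → ∃ v ∈ D j, Cfsg.sympForm d F u v ≠ 0) ∧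
          (∀ j j', j ≠ j' → ∀ u ∈ D j, ∀ v ∈ D j', Cfsg.sympForm d F u v = 0)) ∧
        ∃ σ : Equiv.Perm (Fin t), ∀ j, (D j).map (Matrix.toLin' (x : Matrix (Fin d ⊕ Fin d) (Fin d ⊕ Fin d) F)) = D (σ j) := by
  classical
  let V := Fin d ⊕ Fin d → F
  let B := Sp.sympB F d
  let T : (Fin d ⊕ Fin d → F) →ₗ[F] (Fin d ⊕ Fin d → F) := Matrix.toLin' (x : Matrix (Fin d ⊕ Fin d) (Fin d ⊕ Fin d) F)
  have hTB : ∀ u v, B (T u) (T v) = B u v := fun u v => by
    simp only [T, Matrix.toLin'_apply]
    exact (Sp.mem_symplectic_iff d _).1 x.2 u v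
  have hneg : ∀ u v, B u v = - B v u := fun u v => (LinearMap.BilinForm.IsAlt.neg_eq (Sp.sympB_isAlt (F := F) d) v u).symm
  have halt : ∀ u, B u u = 0 := fun u => Sp.sympB_isAlt d u
  have hne : ∀ v, v ≠ 0 → ∃ u, B v u ≠ 0 := fun v hv => Sp.sympB_nondeg (F := F) d v hv
  obtain ⟨z, hz⟩ := hx1
  have hTT : ∀ v, T (T v) = z • v := fun v => by
    simp only [T, Matrix.toLin'_apply, Matrix.mulVec_mulVec]
    rw [show (x : Matrix (Fin d ⊕ Fin d) (Fin d ⊕ Fin d) F) * (x : Matrix (Fin d ⊕ Fin d) (Fin d ⊕ Fin d) F) =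
        z • (1 : Matrix (Fin d ⊕ Fin d) (Fin d ⊕ Fin d) F) by rw [← hz, pow_two]; rfl, Matrix.smul_mulVec, Matrix.one_mulVec]
  have hz2 : z * z = 1 := by
    obtain ⟨u, hu⟩ := hne (Pi.single (Sum.inl ⟨0, by omega⟩) 1) (by simp)
    have h := hTB (T (Pi.single (Sum.inl ⟨0, by omega⟩) 1)) (T u)
    rw [hTT, hTT, hTB] at h
    simp only [map_smul, LinearMap.smul_apply, smul_eq_mul] at h
    exact (mul_eq_right₀ hu).1 (by rw [mul_assoc]; exact h)
  have hz0 : z ≠ 0 := fun h => by simp [h] at hz2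
  have hTz : ∀ u v, B (T u) v = z * B u (T v) := fun u v => by
    rw [← hTB u (T v), hTT, map_smul, smul_eq_mul, ← mul_assoc, hz2, one_mul]
  have hTinj : Function.Injective T := fun p p' h => by
    have := congrArg T h
    rw [hTT, hTT] at this
    exact smul_right_injective _ hz0 this
  have cut : ∀ (S : Submodule F (Fin d ⊕ Fin d → F)) (v u : Fin d ⊕ Fin d → F), v ∈ S → u ∈ S → B v u ≠ 0 →
      (∀ s ∈ S, s ≠ 0 → ∃ w ∈ S, B s w ≠ 0) →
      finrank F S = finrank F (Submodule.span F {v, u}) + finrank F ↥(S ⊓ LinearMap.ker (B v) ⊓ LinearMap.ker (B u)) ∧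
        finrank F (Submodule.span F {v, u}) = 2 ∧
        S ≤ Submodule.span F {v, u} ⊔ (S ⊓ LinearMap.ker (B v) ⊓ LinearMap.ker (B u)) ∧
        (∀ s ∈ S ⊓ LinearMap.ker (B v) ⊓ LinearMap.ker (B u), s ≠ 0 →
          ∃ w ∈ S ⊓ LinearMap.ker (B v) ⊓ LinearMap.ker (B u), B s w ≠ 0) ∧
        ∀ p ∈ Submodule.span F {v, u}, ∀ s ∈ S ⊓ LinearMap.ker (B v) ⊓ LinearMap.ker (B u), B p s = 0 ∧ B s p = 0 := by
    intro S v u hv hu hvu hnd
    have huv : B u v ≠ 0 := by rw [hneg]; exact neg_ne_zero.2 hvu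
    set S' := S ⊓ LinearMap.ker (B v) ⊓ LinearMap.ker (B u) with hS'def
    have hS' : ∀ s, s ∈ S' ↔ s ∈ S ∧ B v s = 0 ∧ B u s = 0 := fun s => by simp [S', Submodule.mem_inf, and_assoc]
    have horth : ∀ p ∈ Submodule.span F {v, u}, ∀ s ∈ S', B p s = 0 ∧ B s p = 0 := by
      intro p hp s hs
      obtain ⟨r, r', rfl⟩ := Submodule.mem_span_pair.1 hp
      obtain ⟨-, h2, h3⟩ := (hS' s).1 hs
      constructor <;> simp [hneg s v, hneg s u, h2, h3]
    have hdec : ∀ s ∈ S, s - (B u s / B u v) • v - (B v s / B v u) • u ∈ S' := fun s hs =>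
      (hS' _).2 ⟨S.sub_mem (S.sub_mem hs (S.smul_mem _ hv)) (S.smul_mem _ hu),
        by rw [map_sub, map_sub, map_smul, map_smul, halt, smul_zero, sub_zero, smul_eq_mul,
          div_mul_cancel₀ _ hvu, sub_self],
        by rw [map_sub, map_sub, map_smul, map_smul, halt, smul_zero, sub_zero, smul_eq_mul,
          div_mul_cancel₀ _ huv, sub_self]⟩
    have hle : S ≤ Submodule.span F {v, u} ⊔ S' := fun s hs => by
      refine Submodule.mem_sup.2 ⟨(B u s / B u v) • v + (B v s / B v u) • u,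
        Submodule.mem_span_pair.2 ⟨_, _, rfl⟩, _, hdec s hs, by abel⟩
    have hind : ∀ r r' : F, r • v + r' • u = 0 → r = 0 ∧ r' = 0 := fun r r' h => by
      have h1 := congrArg (B u) h
      have h2 := congrArg (B v) h
      simp [halt, huv, hvu] at h1 h2
      exact ⟨h1, h2⟩
    have hdisj : Submodule.span F {v, u} ⊓ S' = ⊥ := by
      rw [eq_bot_iff]
      rintro p ⟨hp, hp'⟩
      obtain ⟨r, r', rfl⟩ := Submodule.mem_span_pair.1 hp
      obtain ⟨-, h2, h3⟩ := (hS' _).1 hp'
      simp [halt, huv, hvu] at h2 h3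
      simp [h2, h3]
    refine ⟨?_, ?_, hle, fun s hs hs0 => ?_, horth⟩
    · have h := Submodule.finrank_sup_add_finrank_inf_eq (Submodule.span F {v, u}) S'
      rw [hdisj, finrank_bot, add_zero, le_antisymm (sup_le (Submodule.span_le.2 (by simp [Set.pair_subset_iff, hv, hu])) (inf_le_left.trans inf_le_left)) hle] at h
      exact h
    · have h : LinearIndependent F ![v, u] := LinearIndependent.pair_iff.2 hind
      have h2 := finrank_span_eq_card h
      rwa [Matrix.range_cons_cons_empty, Fintype.card_fin] at h2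
    · obtain ⟨h1, h2, h3⟩ := (hS' s).1 hs
      obtain ⟨w, hw, hsw⟩ := hnd s h1 hs0
      refine ⟨_, hdec w hw, ?_⟩
      simpa [hneg s v, hneg s u, h2, h3] using hsw
  suffices key : ∀ k, ∀ S : Submodule F (Fin d ⊕ Fin d → F), finrank F S ≤ k → (∀ v ∈ S, T v ∈ S) →
      (∀ v ∈ S, v ≠ 0 → ∃ u ∈ S, B v u ≠ 0) →
      ∃ (ι : Type) (_ : Fintype ι) (P : ι → Submodule F (Fin d ⊕ Fin d → F)) (π : ι → ι),
        (∀ i, π (π i) = i) ∧ (∀ i, P i ≤ S) ∧ (∀ i, finrank F (P i) = 2) ∧ S ≤ ⨆ i, P i ∧
        (∀ i j, i ≠ j → ∀ u ∈ P i, ∀ v ∈ P j, B u v = 0) ∧ (∀ i, ∀ v ∈ P i, T v ∈ P (π i)) ∧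
        2 * Fintype.card ι = finrank F S by
    obtain ⟨ι, _, P, π, hπ, -, hP2, htop, horth, hTP, hcard⟩ := key _ ⊤ le_rfl (fun v _ => trivial)
      (fun v _ hv => (hne v hv).imp fun u h => ⟨trivial, h⟩)
    obtain ⟨b, rfl⟩ := hae
    rw [finrank_top, Sp.finrank_space, hat] at hcard
    obtain ⟨f, σ, hσ, hf⟩ := InvolChunks.chunks (b := b) hπ (t := t) (by
      have : (b + b) * t = 2 * (b * t) := by ring
      omega)
    let D : Fin t → Submodule F (Fin d ⊕ Fin d → F) := fun j => (Finset.univ.filter fun i => f i = j).sup P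
    have hsup : ∀ s : Finset ι, finrank F ↥(s.sup P) ≤ 2 * s.card := by
      intro s
      induction s using Finset.induction_on with
      | empty => simp
      | @insert i s hi ih =>
        rw [Finset.sup_insert, Finset.card_insert_of_notMem hi]
        have := Submodule.finrank_add_le_finrank_add_finrank (P i) (s.sup P)
        rw [hP2] at this
        omega
    have hmemD : ∀ i, P i ≤ D (f i) := fun i => Finset.le_sup (f := P) (by simp)
    have hDtop : ⨆ j, D j = ⊤ := eq_top_iff.2 (htop.trans (iSup_le fun i => (hmemD i).trans (le_iSup D (f i))))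
    have hDorth : ∀ j j', j ≠ j' → ∀ u ∈ D j, ∀ v ∈ D j', B u v = 0 := by
      intro j j' hne' u hu v hv
      have h1 : D j ≤ LinearMap.ker (B.flip v) := Finset.sup_le fun i hi w hw => by
        have h2 : D j' ≤ LinearMap.ker (B w) := Finset.sup_le fun i' hi' w' hw' => horth i i' (fun e => by
          subst e
          simp only [Finset.mem_filter] at hi hi'
          exact hne' (hi.2.symm.trans hi'.2)) w hw w' hw'
        exact h2 hv
      exact h1 hu
    have hall : ∀ j, ∀ u, (∀ v ∈ D j, B u v = 0) → (∀ j', j' ≠ j → ∀ v ∈ D j', B u v = 0) → u = 0 := by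
      intro j u h1 h2
      by_contra hu0
      obtain ⟨v, hv⟩ := hne u hu0
      have : (⨆ j', D j') ≤ LinearMap.ker (B u) := iSup_le fun j' => by
        rcases eq_or_ne j' j with rfl | h
        · exact h1
        · exact h2 j' h
      exact hv (this (hDtop ▸ Submodule.mem_top))
    have hindep : iSupIndep D := fun j => Submodule.disjoint_def.2 fun u hu hu' => by
      refine hall j u (fun v hv => ?_) fun j' hj' v hv => hDorth j j' (Ne.symm hj') u hu v hv
      have h1 : (⨆ (j' : Fin t) (_ : j' ≠ j), D j') ≤ LinearMap.ker (B.flip v) :=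
        iSup₂_le fun j' hj' w hw => hDorth j' j hj' w hw v hv
      exact h1 hu'
    have hDr : ∀ j, finrank F (D j) = b + b := by
      have hle : ∀ j, finrank F (D j) ≤ b + b := fun j => (hsup _).trans (by rw [hf]; omega)
      have hsum : 2 * d ≤ ∑ j, finrank F (D j) := by
        have key' : ∀ s : Finset (Fin t), finrank F ↥(s.sup D) ≤ ∑ j ∈ s, finrank F (D j) := by
          intro s
          induction s using Finset.induction_on with
          | empty => simp
          | @insert i s hi ih =>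
            rw [Finset.sup_insert, Finset.sum_insert hi]
            have := Submodule.finrank_add_le_finrank_add_finrank (D i) (s.sup D)
            omega
        have := key' Finset.univ
        rwa [Finset.sup_univ_eq_iSup, hDtop, finrank_top, Sp.finrank_space] at this
      intro j
      by_contra hne'
      have h1 : ∑ j, finrank F (D j) < ∑ _j : Fin t, (b + b) :=
        Finset.sum_lt_sum (fun j _ => hle j) ⟨j, Finset.mem_univ _, lt_of_le_of_ne (hle j) hne'⟩
      simp only [Finset.sum_const, Finset.card_univ, Fintype.card_fin, smul_eq_mul] at h1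
      rw [mul_comm t] at h1
      omega
    refine ⟨D, ⟨⟨ht, by omega, hDr, hindep, hDtop⟩, fun j u hu hu0 => ?_, fun j j' h u hu v hv => ?_⟩, σ, fun j => ?_⟩
    · by_contra h
      push Not at h
      exact hu0 (hall j u (fun v hv => by rw [Sp.sympB_apply]; exact h v hv) fun j' hj' v hv => hDorth j j' (Ne.symm hj') u hu v hv)
    · rw [← Sp.sympB_apply]; exact hDorth j j' h u hu v hv
    · refine Submodule.eq_of_le_of_finrank_eq ?_
        (by rw [hDr]; exact ((Submodule.equivMapOfInjective T hTinj (D j)).finrank_eq.symm.trans (hDr j)))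
      rw [Submodule.map_le_iff_le_comap]
      refine Finset.sup_le fun i hi v hv => ?_
      simp only [Finset.mem_filter] at hi
      rw [Submodule.mem_comap, ← hi.2, hσ]
      exact hmemD _ (hTP i v hv)
  intro k
  induction k with
  | zero =>
    intro S hS _ _
    exact ⟨Fin 0, inferInstance, Fin.elim0, id, fun i => i.elim0, fun i => i.elim0, fun i => i.elim0,
      by rw [Submodule.finrank_eq_zero.1 (by omega : finrank F S = 0)]; exact bot_le, fun i => i.elim0,
      fun i => i.elim0, by simp; omega⟩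
  | succ k ih =>
    intro S hS hinv hnd
    rcases eq_or_ne S ⊥ with rfl | hS0
    · exact ih ⊥ (by simp) hinv hnd
    obtain ⟨v₀, hv₀, hv₀0⟩ := Submodule.exists_mem_ne_zero_of_ne_bot hS0
    have inv' : ∀ (X : Submodule F (Fin d ⊕ Fin d → F)) (v u : Fin d ⊕ Fin d → F), (∀ s ∈ X, T s ∈ X) →
        (∀ s ∈ X, ∀ p, p = v ∨ p = u → B (T p) s = 0) → ∀ s ∈ X, B v (T s) = 0 ∧ B u (T s) = 0 := by
      intro X v u hX h s hs
      constructor
      · have := h s hs v (Or.inl rfl); rw [hTz] at this; exact (mul_eq_zero.1 this).resolve_left hz0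
      · have := h s hs u (Or.inr rfl); rw [hTz] at this; exact (mul_eq_zero.1 this).resolve_left hz0
    by_cases hplane : ∃ v ∈ S, ∃ u ∈ S, B v u ≠ 0 ∧ T v ∈ Submodule.span F {v, u} ∧ T u ∈ Submodule.span F {v, u}
    · obtain ⟨v, hv, u, hu, hvu, hTv, hTu⟩ := hplane
      obtain ⟨hfr, h2, hle, hnd', horth⟩ := cut S v u hv hu hvu hnd
      set S' := S ⊓ LinearMap.ker (B v) ⊓ LinearMap.ker (B u) with hS'
      have hinv' : ∀ s ∈ S', T s ∈ S' := fun s hs => by
        have e1 := (horth _ hTv s hs).1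
        have e2 := (horth _ hTu s hs).1
        rw [hTz, mul_eq_zero] at e1 e2
        exact ⟨⟨hinv s hs.1.1, e1.resolve_left hz0⟩, e2.resolve_left hz0⟩
      obtain ⟨ι, _, P, π, hπ, hPS, hP2, htop, hPo, hTP, hcard⟩ := ih S' (by omega) hinv' hnd'
      refine ⟨Option ι, inferInstance, fun o => o.elim (Submodule.span F {v, u}) P, Option.map π, ?_, ?_, ?_, ?_, ?_, ?_, ?_⟩
      · rintro (_ | i) <;> simp [hπ]
      · rintro (_ | i)
        · exact Submodule.span_le.2 (Set.pair_subset hv hu)
        · exact (hPS i).trans (inf_le_left.trans inf_le_left)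
      · rintro (_ | i)
        exacts [h2, hP2 i]
      · rw [iSup_option]
        exact hle.trans (sup_le_sup_left htop _)
      · rintro (_ | i) (_ | j) hij p hp s hs
        exacts [absurd rfl hij, (horth p hp s (hPS j hs)).1, (horth s hs p (hPS i hp)).2,
          hPo i j (fun e => hij (by rw [e])) p hp s hs]
      · rintro (_ | i) p hp
        · obtain ⟨r, r', rfl⟩ := Submodule.mem_span_pair.1 hp
          show T _ ∈ Submodule.span F {v, u}
          rw [map_add, map_smul, map_smul]
          exact Submodule.add_mem _ (Submodule.smul_mem _ _ hTv) (Submodule.smul_mem _ _ hTu)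
        · exact hTP i p hp
      · rw [Fintype.card_option]; omega
    -- only swapped pairs of planes are left
    push Not at hplane
    have hvT : ∀ v ∈ S, B v (T v) = 0 := fun v hv => by
      by_contra h
      exact hplane v hv (T v) (hinv v hv) h (Submodule.subset_span (by simp)) (by
        rw [hTT]; exact Submodule.smul_mem _ _ (Submodule.subset_span (by simp)))
    obtain ⟨v, hv, hmove⟩ : ∃ v ∈ S, ∀ c : F, T v ≠ c • v := by
      by_contra h
      push Not at h
      obtain ⟨u, hu, hvu⟩ := hnd v₀ hv₀ hv₀0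
      obtain ⟨c, hc⟩ := h v₀ hv₀
      obtain ⟨c', hc'⟩ := h u hu
      exact hplane v₀ hv₀ u hu hvu (by rw [hc]; exact Submodule.smul_mem _ _ (Submodule.subset_span (by simp)))
        (by rw [hc']; exact Submodule.smul_mem _ _ (Submodule.subset_span (by simp)))
    have hv0 : v ≠ 0 := fun e => hmove 0 (by rw [e, map_zero, smul_zero])
    obtain ⟨y, hy, hTy⟩ := hnd (T v) (hinv v hv) (fun e => hv0 (hTinj (by rw [e, map_zero])))
    obtain ⟨u, hu, hvu, hTvu⟩ : ∃ u ∈ S, B v u ≠ 0 ∧ B (T v) u = 0 := by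
      by_contra h
      push Not at h
      have hw : ∀ w ∈ S, B (v - (B v y / B (T v) y) • T v) w = 0 := fun w hw => by
        have h1 := h (w - (B (T v) w / B (T v) y) • y) (S.sub_mem hw (S.smul_mem _ hy))
        by_cases h2 : B v (w - (B (T v) w / B (T v) y) • y) = 0
        · simp at h2 ⊢
          rw [← h2]; field_simp
        · exfalso; refine h1 h2 ?_
          simp [hTy]
      have hmem := S.sub_mem hv (S.smul_mem (B v y / B (T v) y) (hinv v hv))
      have h0 : v - (B v y / B (T v) y) • T v = 0 := by_contra fun h0 => by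
        obtain ⟨w, hw', hne'⟩ := hnd _ hmem h0
        exact hne' (hw w hw')
      have h4 := congrArg T (sub_eq_zero.1 h0)
      rw [map_smul, hTT, smul_smul] at h4
      exact hmove _ h4
    obtain ⟨hfr, h2, hle, hnd', horth⟩ := cut S v u hv hu hvu hnd
    set S' := S ⊓ LinearMap.ker (B v) ⊓ LinearMap.ker (B u) with hS'
    have hmemS' : ∀ s, s ∈ S' ↔ s ∈ S ∧ B v s = 0 ∧ B u s = 0 := fun s => by simp [S', Submodule.mem_inf, and_assoc]
    have hvTu : B v (T u) = 0 := by rw [hTz] at hTvu; exact (mul_eq_zero.1 hTvu).resolve_left hz0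
    have huTv : B u (T v) = 0 := by rw [hneg, hTvu, neg_zero]
    obtain ⟨hfr', h2', hle', hnd'', horth'⟩ := cut S' (T v) (T u) ((hmemS' _).2 ⟨hinv v hv, hvT v hv, huTv⟩)
      ((hmemS' _).2 ⟨hinv u hu, hvTu, hvT u hu⟩) (by rw [hTB]; exact hvu) hnd'
    set S'' := S' ⊓ LinearMap.ker (B (T v)) ⊓ LinearMap.ker (B (T u)) with hS''
    have hinv'' : ∀ s ∈ S'', T s ∈ S'' := fun s hs => by
      have hm : ∀ p ∈ Submodule.span F {v, u}, B p s = 0 := fun p hp => (horth p hp s hs.1.1).1
      have e1 : B (T v) (T s) = 0 := by rw [hTB]; exact hm v (Submodule.subset_span (by simp))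
      have e2 : B (T u) (T s) = 0 := by rw [hTB]; exact hm u (Submodule.subset_span (by simp))
      have e3 : B (T v) s = 0 := hs.1.2
      have e4 : B (T u) s = 0 := hs.2
      rw [hTz, mul_eq_zero] at e3 e4
      exact ⟨⟨(hmemS' _).2 ⟨hinv s hs.1.1.1.1, e3.resolve_left hz0, e4.resolve_left hz0⟩, e1⟩, e2⟩
    obtain ⟨ι, _, P, π, hπ, hPS, hP2, htop, hPo, hTP, hcard⟩ := ih S'' (by omega) hinv'' hnd''
    have hP'' : ∀ i, P i ≤ S' := fun i => (hPS i).trans (inf_le_left.trans inf_le_left)
    have hle₁ : Submodule.span F {v, u} ≤ S := Submodule.span_le.2 (Set.pair_subset hv hu)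
    have hle₂ : Submodule.span F {T v, T u} ≤ S' := Submodule.span_le.2
      (Set.pair_subset ((hmemS' _).2 ⟨hinv v hv, hvT v hv, huTv⟩) ((hmemS' _).2 ⟨hinv u hu, hvTu, hvT u hu⟩))
    refine ⟨Bool ⊕ ι, inferInstance, Sum.elim (fun b => if b then Submodule.span F {v, u} else Submodule.span F {T v, T u}) P,
      Sum.map Bool.not π, ?_, ?_, ?_, ?_, ?_, ?_, ?_⟩
    · rintro (b | i) <;> simp [hπ]
    · rintro ((_ | _) | i)
      exacts [hle₂.trans (inf_le_left.trans inf_le_left), hle₁, (hP'' i).trans (inf_le_left.trans inf_le_left)]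
    · rintro ((_ | _) | i)
      exacts [h2', h2, hP2 i]
    · rw [iSup_sum, iSup_bool_eq]
      refine hle.trans (sup_le (le_sup_of_le_left le_sup_left) (hle'.trans (sup_le ?_ ?_)))
      · exact le_sup_of_le_left le_sup_right
      · exact le_sup_of_le_right htop
    · rintro ((_ | _) | i) ((_ | _) | j) hij p hp s hs
      · exact absurd rfl hij
      · exact (horth s hs p (hle₂ hp)).2
      · exact (horth' p hp s (hPS j hs)).1
      · exact (horth p hp s (hle₂ hs)).1
      · exact absurd rfl hij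
      · exact (horth p hp s (hP'' j hs)).1
      · exact (horth' s hs p (hPS i hp)).2
      · exact (horth s hs p (hP'' i hp)).2
      · exact hPo i j (fun e => hij (by rw [e])) p hp s hs
    · rintro ((_ | _) | i) p hp
      · obtain ⟨r, r', rfl⟩ := Submodule.mem_span_pair.1 hp
        show T _ ∈ Submodule.span F {v, u}
        rw [map_add, map_smul, map_smul, hTT, hTT, smul_smul, smul_smul]
        exact Submodule.mem_span_pair.2 ⟨_, _, rfl⟩
      · obtain ⟨r, r', rfl⟩ := Submodule.mem_span_pair.1 hp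
        show T _ ∈ Submodule.span F {T v, T u}
        rw [map_add, map_smul, map_smul]
        exact Submodule.mem_span_pair.2 ⟨_, _, rfl⟩
      · exact hTP i p hp
    · rw [Fintype.card_sum, Fintype.card_bool]; omega

end Cfsg.Agent.S5960
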