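import Cfsg.Statements.S5962
import Cfsg.Agent.Lib.Classical.SymplecticMatrix
import Cfsg.Agent.Lib.Classical.Disc

set_option autoImplicit false
open scoped MatrixGroups
open Cfsg

open Cfsg.Agent.Classical Module
open Matrix hiding toLin'
set_option maxHeartbeats 800000

namespace Cfsg.Agent.S5962

/-- Involutions of PSp_n(q), q odd, and the subgroups GL_{n/2}(q).2. Here `T = PSp_n(q)`, `n = 2d ≥ 4`, `q` odd, realised through the symplectic matrices over the field `F` with `q` elements; Ω is the set of unordered pairs `{U, W}` of complementary totally isotropic `d`-spaces (`F^n = U ⊕ W`), whose stabilizers are the subgroups of type GL_d(q).2 (maximal except in some small cases; maximality is not assumed); an element of `T` of prime order `r` (a symplectic matrix `x` with `x^r` scalar, `x` not scalar) fixes such a pair when it fixes or interchanges `U` and `W`. If the number of such pairs is even, every involution of `T` fixes one of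 them (the action is 2-elusive). -/
theorem result {F : Type*} [Field F] [Fintype F] {p : ℕ} [Fact p.Prime] [CharP F p] {q : ℕ} (hq : Fintype.card F = q)
    (d : ℕ) (hd : 2 ≤ d) (hT : (d, q) ≠ (2, 2)) (hodd : Odd q)
    (hΩ : 2 ∣ Nat.card {P : Submodule F (Fin d ⊕ Fin d → F) × Submodule F (Fin d ⊕ Fin d → F) // IsCompl P.1 P.2 ∧ (∀ u ∈ P.1, ∀ v ∈ P.1, Cfsg.sympForm d F u v = 0) ∧ (∀ u ∈ P.2, ∀ v ∈ P.2, Cfsg.sympForm d F u v = 0)} / 2)
    (x : ↥(Matrix.symplecticGroup (Fin d) F))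
    (hx1 : ∃ z : F, ((x ^ 2 : ↥(Matrix.symplecticGroup (Fin d) F)) : Matrix (Fin d ⊕ Fin d) (Fin d ⊕ Fin d) F) = z • (1 : Matrix (Fin d ⊕ Fin d) (Fin d ⊕ Fin d) F))
    (hx2 : ∀ z : F, (x : Matrix (Fin d ⊕ Fin d) (Fin d ⊕ Fin d) F) ≠ z • (1 : Matrix (Fin d ⊕ Fin d) (Fin d ⊕ Fin d) F)) :
    ∃ U W : Submodule F (Fin d ⊕ Fin d → F), IsCompl U W ∧ (∀ u ∈ U, ∀ v ∈ U, Cfsg.sympForm d F u v = 0) ∧ (∀ u ∈ W, ∀ v ∈ W, Cfsg.sympForm d F u v = 0) ∧
        ((U.map (Matrix.toLin' (x : Matrix (Fin d ⊕ Fin d) (Fin d ⊕ Fin d) F)) = U ∧ W.map (Matrix.toLin' (x : Matrix (Fin d ⊕ Fin d) (Fin d ⊕ Fin d) F)) = W) ∨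
         (U.map (Matrix.toLin' (x : Matrix (Fin d ⊕ Fin d) (Fin d ⊕ Fin d) F)) = W ∧ W.map (Matrix.toLin' (x : Matrix (Fin d ⊕ Fin d) (Fin d ⊕ Fin d) F)) = U)) := by
  classical
  let B := Sp.sympB F d
  let T : (Fin d ⊕ Fin d → F) →ₗ[F] (Fin d ⊕ Fin d → F) := Matrix.toLin' (x : Matrix (Fin d ⊕ Fin d) (Fin d ⊕ Fin d) F)
  have hTB : ∀ u v, B (T u) (T v) = B u v := fun u v => by
    simp only [T, Matrix.toLin'_apply]
    exact (Sp.mem_symplectic_iff d _).1 x.2 u v
  have hneg : ∀ u v, B u v = - B v u := fun u v => (LinearMap.BilinForm.IsAlt.neg_eq (Sp.sympB_isAlt (F := F) d) v u).symm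
  have h20 : (2 : F) ≠ 0 := Disc.two_ne_zero_of_odd (by rw [hq]; exact hodd)
  obtain ⟨z, hz⟩ := hx1
  have hTT : ∀ v, T (T v) = z • v := fun v => by
    simp only [T, Matrix.toLin'_apply, Matrix.mulVec_mulVec]
    rw [show (x : Matrix (Fin d ⊕ Fin d) (Fin d ⊕ Fin d) F) * (x : Matrix (Fin d ⊕ Fin d) (Fin d ⊕ Fin d) F) =
        z • (1 : Matrix (Fin d ⊕ Fin d) (Fin d ⊕ Fin d) F) by rw [← hz, pow_two]; rfl, Matrix.smul_mulVec, Matrix.one_mulVec]
  have hne : ∀ v, v ≠ 0 → ∃ u, B v u ≠ 0 := fun v hv => Sp.sympB_nondeg (F := F) d v hv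
  have hz2 : z * z = 1 := by
    obtain ⟨u, hu⟩ := hne (Pi.single (Sum.inl ⟨0, by omega⟩) 1) (by simp)
    have h := hTB (T (Pi.single (Sum.inl ⟨0, by omega⟩) 1)) (T u)
    rw [hTT, hTT, hTB] at h
    simp only [map_smul, LinearMap.smul_apply, smul_eq_mul] at h
    exact (mul_eq_right₀ hu).1 (by rw [mul_assoc]; exact h)
  have hz0 : z ≠ 0 := fun h => by simp [h] at hz2
  have hTz : ∀ u v, B (T u) v = z * B u (T v) := fun u v => by
    rw [← hTB u (T v), hTT, map_smul, smul_eq_mul, ← mul_assoc, hz2, one_mul]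
  -- the two shapes
  suffices key : ∀ k, ∀ S : Submodule F (Fin d ⊕ Fin d → F), finrank F S ≤ k → (∀ v ∈ S, T v ∈ S) →
      (∀ v ∈ S, v ≠ 0 → ∃ u ∈ S, B v u ≠ 0) →
      ∃ U W : Submodule F (Fin d ⊕ Fin d → F), U ≤ S ∧ W ≤ S ∧ S ≤ U ⊔ W ∧ (∀ u ∈ U, ∀ v ∈ U, B u v = 0) ∧
        (∀ u ∈ W, ∀ v ∈ W, B u v = 0) ∧
        ((∀ u ∈ U, T u ∈ if z = 1 then U else W) ∧ (∀ w ∈ W, T w ∈ if z = 1 then W else U)) by
    obtain ⟨U, W, -, -, hUW, hU, hW, hTU, hTW⟩ := key _ ⊤ le_rfl (fun v _ => trivial)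
      (fun v _ hv => (hne v hv).imp fun u h => ⟨trivial, h⟩)
    have hmap : ∀ {X Y : Submodule F (Fin d ⊕ Fin d → F)}, (∀ u ∈ X, T u ∈ Y) → (∀ u ∈ Y, T u ∈ X) → X.map T = Y := by
      intro X Y hX hY
      refine le_antisymm (Submodule.map_le_iff_le_comap.2 hX) fun y hy => ⟨z • T y, X.smul_mem _ (hY y hy), ?_⟩
      rw [map_smul, hTT, smul_smul, hz2, one_smul]
    refine ⟨U, W, ⟨disjoint_iff_inf_le.2 fun v hv => ?_, codisjoint_iff_le_sup.2 hUW⟩, fun u hu v hv => ?_,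
      fun u hu v hv => ?_, ?_⟩
    · by_contra hv0
      obtain ⟨u, hu⟩ := hne v hv0
      obtain ⟨a, ha, b, hb, rfl⟩ := Submodule.mem_sup.1 (hUW (Submodule.mem_top : u ∈ ⊤))
      rw [map_add, hU v hv.1 a ha, hW v hv.2 b hb, add_zero] at hu
      exact hu rfl
    · rw [← Sp.sympB_apply]; exact hU u hu v hv
    · rw [← Sp.sympB_apply]; exact hW u hu v hv
    · split_ifs at hTU hTW with hz1
      · exact Or.inl ⟨hmap hTU hTU, hmap hTW hTW⟩
      · exact Or.inr ⟨hmap hTU hTW, hmap hTW hTU⟩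
  intro k
  induction k with
  | zero =>
    intro S hS _ _
    have hS0 : S = ⊥ := Submodule.finrank_eq_zero.1 (by omega)
    refine ⟨⊥, ⊥, bot_le, bot_le, by rw [hS0]; exact bot_le, ?_, ?_, ?_, ?_⟩ <;> intro u hu
    any_goals (rw [Submodule.mem_bot] at hu; subst hu; intro v _; simp)
    all_goals (rw [Submodule.mem_bot] at hu; subst hu; simp)
  | succ k ih =>
    intro S hS hinv hnd
    rcases eq_or_ne S ⊥ with rfl | hS0
    · exact ih ⊥ (by simp) hinv hnd
    obtain ⟨v₀, hv₀, hv₀0⟩ := Submodule.exists_mem_ne_zero_of_ne_bot hS0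
    -- an adapted pair
    obtain ⟨v, hv, u, hu, hvu, hTv, hTu⟩ : ∃ v ∈ S, ∃ u ∈ S, B v u ≠ 0 ∧
        T v ∈ Submodule.span F {if z = 1 then v else u} ∧ T u ∈ Submodule.span F {if z = 1 then u else v} := by
      by_cases hz1 : z = 1
      · simp only [if_pos hz1]
        simp only [hz1, one_smul] at hTT
        obtain ⟨v, ε, hv, hv0, hε, hTv⟩ : ∃ (v : Fin d ⊕ Fin d → F) (ε : F), v ∈ S ∧ v ≠ 0 ∧ ε * ε = 1 ∧ T v = ε • v := by
          by_cases h1 : v₀ + T v₀ = 0
          · refine ⟨v₀, -1, hv₀, hv₀0, by ring, ?_⟩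
            rw [neg_one_smul]; exact eq_neg_of_add_eq_zero_right h1
          · exact ⟨_, 1, S.add_mem hv₀ (hinv _ hv₀), h1, one_mul 1, by rw [map_add, hTT, one_smul, add_comm]⟩
        obtain ⟨y, hy, hvy⟩ := hnd v hv hv0
        refine ⟨v, hv, y + ε • T y, S.add_mem hy (S.smul_mem _ (hinv _ hy)), ?_,
          Submodule.mem_span_singleton.2 ⟨ε, hTv.symm⟩, Submodule.mem_span_singleton.2 ⟨ε, ?_⟩⟩
        · have h := hTB v y
          rw [hTv, map_smul, LinearMap.smul_apply] at h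
          rw [map_add, map_smul, h, ← two_mul]
          exact mul_ne_zero h20 hvy
        · rw [map_add, map_smul, hTT, smul_add, smul_smul, hε, one_smul, add_comm]
      · simp only [if_neg hz1]
        have hz' : z = -1 := (mul_self_eq_one_iff.1 hz2).resolve_left hz1
        have hsymm : ∀ a b, B a (T b) = B b (T a) := fun a b => by
          rw [hneg b (T a), hTz, hz']; ring
        obtain ⟨v, hv, hvv⟩ : ∃ v ∈ S, B v (T v) ≠ 0 := by
          by_contra h
          push Not at h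
          obtain ⟨y, hy, hvy⟩ := hnd v₀ hv₀ hv₀0
          have hw : T y ∈ S := hinv _ hy
          have h3 := h (v₀ + T y) (S.add_mem hv₀ hw)
          simp only [map_add, LinearMap.add_apply, hsymm (T y) v₀, h v₀ hv₀, h (T y) hw, zero_add, add_zero] at h3
          rw [← two_mul, hTT, map_smul, smul_eq_mul] at h3
          exact mul_ne_zero h20 (mul_ne_zero hz0 hvy) h3
        exact ⟨v, hv, T v, hinv v hv, hvv, Submodule.mem_span_singleton_self _,
          Submodule.mem_span_singleton.2 ⟨z, (hTT v).symm⟩⟩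
    -- the complement
    let S' : Submodule F (Fin d ⊕ Fin d → F) := S ⊓ LinearMap.ker (B v) ⊓ LinearMap.ker (B u)
    have hS' : ∀ s, s ∈ S' ↔ s ∈ S ∧ B v s = 0 ∧ B u s = 0 := fun s => by
      simp [S', Submodule.mem_inf, and_assoc]
    have hvv : B v v = 0 := Sp.sympB_isAlt d v
    have huu : B u u = 0 := Sp.sympB_isAlt d u
    have hdec : ∀ s ∈ S, ∃ a b : F, s - a • v - b • u ∈ S' := fun s hs =>
      ⟨B u s / B u v, B v s / B v u, (hS' _).2 ⟨S.sub_mem (S.sub_mem hs (S.smul_mem _ hv)) (S.smul_mem _ hu),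
        by rw [map_sub, map_sub, map_smul, map_smul, hvv, smul_zero, sub_zero, smul_eq_mul,
          div_mul_cancel₀ _ hvu, sub_self],
        by rw [map_sub, map_sub, map_smul, map_smul, huu, smul_zero, sub_zero, smul_eq_mul,
          div_mul_cancel₀ _ (by rw [hneg u v]; exact neg_ne_zero.2 hvu), sub_self]⟩⟩
    have hlt : finrank F S' < finrank F S := by
      refine Submodule.finrank_lt_finrank_of_lt (lt_of_le_of_ne (fun s hs => ((hS' s).1 hs).1) fun h => ?_)
      exact hvu ((hS' u).1 (h.symm ▸ hu)).2.1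
    have hinv' : ∀ s ∈ S', T s ∈ S' := by
      intro s hs
      obtain ⟨h1, h2, h3⟩ := (hS' s).1 hs
      have hP : ∀ p, p ∈ Submodule.span F {v} ⊔ Submodule.span F {u} → B p s = 0 := by
        intro p hp
        obtain ⟨a, ha, b, hb, rfl⟩ := Submodule.mem_sup.1 hp
        obtain ⟨r, rfl⟩ := Submodule.mem_span_singleton.1 ha
        obtain ⟨r', rfl⟩ := Submodule.mem_span_singleton.1 hb
        simp [h2, h3]
      have hsub : ∀ p, p = v ∨ p = u → Submodule.span F {p} ≤ Submodule.span F {v} ⊔ Submodule.span F {u} := by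
        rintro p (rfl | rfl)
        · exact le_sup_left
        · exact le_sup_right
      refine (hS' _).2 ⟨hinv s h1, ?_, ?_⟩
      · have h4 := hP _ (hsub _ (by split_ifs <;> simp) hTv)
        rw [hTz] at h4
        exact (mul_eq_zero.1 h4).resolve_left hz0
      · have h4 := hP _ (hsub _ (by split_ifs <;> simp) hTu)
        rw [hTz] at h4
        exact (mul_eq_zero.1 h4).resolve_left hz0
    have hnd' : ∀ s ∈ S', s ≠ 0 → ∃ w ∈ S', B s w ≠ 0 := by
      intro s hs hs0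
      obtain ⟨h1, h2, h3⟩ := (hS' s).1 hs
      obtain ⟨w, hw, hsw⟩ := hnd s h1 hs0
      obtain ⟨a, b, hab⟩ := hdec w hw
      exact ⟨_, hab, by simpa [hneg s v, hneg s u, h2, h3] using hsw⟩
    obtain ⟨U, W, hUS, hWS, hUW, hU, hW, hTU, hTW⟩ := ih S' (by omega) hinv' hnd'
    have hiso : ∀ (p : Fin d ⊕ Fin d → F) (X : Submodule F (Fin d ⊕ Fin d → F)), B p p = 0 →
        (∀ y ∈ X, B p y = 0) → (∀ a ∈ X, ∀ b ∈ X, B a b = 0) →
        ∀ a ∈ Submodule.span F {p} ⊔ X, ∀ b ∈ Submodule.span F {p} ⊔ X, B a b = 0 := by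
      intro p X hp hpX hX a ha b hb
      obtain ⟨_, hr, a', ha', rfl⟩ := Submodule.mem_sup.1 ha
      obtain ⟨r, rfl⟩ := Submodule.mem_span_singleton.1 hr
      obtain ⟨_, hr', b', hb', rfl⟩ := Submodule.mem_sup.1 hb
      obtain ⟨r', rfl⟩ := Submodule.mem_span_singleton.1 hr'
      simp [hp, hpX b' hb', hneg a' p, hpX a' ha', hX a' ha' b' hb']
    refine ⟨Submodule.span F {v} ⊔ U, Submodule.span F {u} ⊔ W,
      sup_le (by simpa using hv) (hUS.trans (fun s hs => ((hS' s).1 hs).1)),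
      sup_le (by simpa using hu) (hWS.trans (fun s hs => ((hS' s).1 hs).1)), fun s hs => ?_,
      hiso v U hvv (fun y hy => ((hS' y).1 (hUS hy)).2.1) hU, hiso u W huu (fun y hy => ((hS' y).1 (hWS hy)).2.2) hW,
      ?_, ?_⟩
    · obtain ⟨a, b, hab⟩ := hdec s hs
      obtain ⟨c, hc, e', he', hce⟩ := Submodule.mem_sup.1 (hUW hab)
      refine Submodule.mem_sup.2 ⟨a • v + c, Submodule.add_mem_sup (Submodule.smul_mem _ _ (Submodule.mem_span_singleton_self v)) hc,
        b • u + e', Submodule.add_mem_sup (Submodule.smul_mem _ _ (Submodule.mem_span_singleton_self u)) he', ?_⟩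
      rw [add_add_add_comm, hce]; abel
    all_goals
      intro p hp
      obtain ⟨_, hr, p', hp', rfl⟩ := Submodule.mem_sup.1 hp
      obtain ⟨r, rfl⟩ := Submodule.mem_span_singleton.1 hr
      rw [map_add, map_smul]
      split_ifs at hTv hTu hTU hTW ⊢
      all_goals
        refine Submodule.add_mem_sup (Submodule.smul_mem _ r ?_) ?_
        · first | exact hTv | exact hTu
        · first | exact hTU _ hp' | exact hTW _ hp'

end Cfsg.Agent.S5962
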