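import Cfsg.Statements.S5963
import Cfsg.Agent.Lib.Classical.PolarPairs
import Cfsg.Agent.Lib.Classical.Disc
import Cfsg.Agent.Lib.Classical.FieldExtension

set_option autoImplicit false
open scoped MatrixGroups
open Cfsg

open Cfsg.Agent.Classical Module
open Matrix hiding toLin'
set_option maxHeartbeats 4000000

namespace Cfsg.Agent.S5963

/-- Derangements of odd prime order of PSp_n(q), q odd, on pairs of complementary totally isotropic subspaces. Here `T = PSp_n(q)`, `n = 2d ≥ 4`, `q` odd, realised through the symplectic matrices over the field `F` with `q` elements; Ω is the set of unordered pairs `{U, W}` of complementary totally isotropic `d`-spaces (`F^n = U ⊕ W`), whose stabilizers are the subgroups of type GL_d(q).2 (maximal except in some small cases; maximality is not assumed); an element of `T` of prime order `r` (a symplectic matrix `x` with `x^r` scalar, `x` not scalar) fixes such a pair when it fixes or interchanges `U` and `W`. For every odd prime `r ≠ p` dividing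 the number of such pairs, some element of `T` of order `r` fixes no such pair (the action is never `r`-elusive for odd `r ≠ p`). -/
theorem result {F : Type*} [Field F] [Fintype F] {p : ℕ} [Fact p.Prime] [CharP F p] {q : ℕ} (hq : Fintype.card F = q)
    (d : ℕ) (hd : 2 ≤ d) (hT : (d, q) ≠ (2, 2)) (hodd : Odd q)
    (r : ℕ) [Fact r.Prime] (hr2 : r ≠ 2) (hrp : r ≠ p) (hΩ : r ∣ Nat.card {P : Submodule F (Fin d ⊕ Fin d → F) × Submodule F (Fin d ⊕ Fin d → F) // IsCompl P.1 P.2 ∧ (∀ u ∈ P.1, ∀ v ∈ P.1, Cfsg.sympForm d F u v = 0) ∧ (∀ u ∈ P.2, ∀ v ∈ P.2, Cfsg.sympForm d F u v = 0)} / 2) :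
    ∃ x : ↥(Matrix.symplecticGroup (Fin d) F),
      (∃ z : F, ((x ^ r : ↥(Matrix.symplecticGroup (Fin d) F)) : Matrix (Fin d ⊕ Fin d) (Fin d ⊕ Fin d) F) = z • (1 : Matrix (Fin d ⊕ Fin d) (Fin d ⊕ Fin d) F)) ∧
      (∀ z : F, (x : Matrix (Fin d ⊕ Fin d) (Fin d ⊕ Fin d) F) ≠ z • (1 : Matrix (Fin d ⊕ Fin d) (Fin d ⊕ Fin d) F)) ∧
      ¬ (∃ U W : Submodule F (Fin d ⊕ Fin d → F), IsCompl U W ∧ (∀ u ∈ U, ∀ v ∈ U, Cfsg.sympForm d F u v = 0) ∧ (∀ u ∈ W, ∀ v ∈ W, Cfsg.sympForm d F u v = 0) ∧
        ((U.map (Matrix.toLin' (x : Matrix (Fin d ⊕ Fin d) (Fin d ⊕ Fin d) F)) = U ∧ W.map (Matrix.toLin' (x : Matrix (Fin d ⊕ Fin d) (Fin d ⊕ Fin d) F)) = W) ∨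
         (U.map (Matrix.toLin' (x : Matrix (Fin d ⊕ Fin d) (Fin d ⊕ Fin d) F)) = W ∧ W.map (Matrix.toLin' (x : Matrix (Fin d ⊕ Fin d) (Fin d ⊕ Fin d) F)) = U))) := by
  classical
  have hr : r.Prime := Fact.out
  have h20 : (2 : F) ≠ 0 := Disc.two_ne_zero_of_odd (by rw [hq]; exact hodd)
  have hq2 : 2 ≤ q := hq ▸ Fintype.one_lt_card
  have hrq : ∀ e : ℕ, ¬ r ∣ q ^ e := fun e h6 => by
    obtain ⟨s, -, hs⟩ := FiniteField.card F p
    rw [← hq, hs, ← pow_mul] at h6
    exact hrp ((Nat.prime_dvd_prime_iff_eq hr Fact.out).1 (hr.dvd_of_dvd_pow h6))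
  -- some q^k+1 is divisible
  have hex : ∃ s, 0 < s ∧ s ≤ d ∧ r ∣ q ^ s + 1 := by
    have h1 := PolarPairs.card_mul (F := F) (d := d)
    rw [Sp.card_eq d _ (Sp.sympB_isAlt (F := F) d) (Sp.sympB_nondeg (F := F) d) (Sp.finrank_space (F := F) d),
      Nat.card_eq_fintype_card (α := F), hq] at h1
    have hprod : (∏ i : Fin d, (q ^ d - q ^ (i : ℕ))) =
        q ^ (∑ i ∈ Finset.range d, i) * ∏ k ∈ Finset.range d, (q ^ (k + 1) - 1) := by
      rw [Fin.prod_univ_eq_prod_range (fun i => q ^ d - q ^ i) d, ← Finset.prod_pow_eq_pow_sum,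
        show (∏ i ∈ Finset.range d, (q ^ d - q ^ i)) = ∏ i ∈ Finset.range d, q ^ i * (q ^ (d - i) - 1) from
          Finset.prod_congr rfl fun i hi => by
            rw [Nat.mul_sub, mul_one, ← pow_add, Nat.add_sub_cancel' (Finset.mem_range.1 hi).le],
        Finset.prod_mul_distrib]
      congr 1
      rw [← Finset.prod_range_reflect]
      exact Finset.prod_congr rfl fun i hi => by
        rw [show d - (d - 1 - i) = i + 1 by have := Finset.mem_range.1 hi; omega]
    have hpos : 0 < ∏ k ∈ Finset.range d, (q ^ (k + 1) - 1) := Finset.prod_pos fun k _ => by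
      have := Nat.one_lt_pow (show k + 1 ≠ 0 by omega) (show 1 < q by omega)
      omega
    rw [hprod, show (∏ i ∈ Finset.range d, (q ^ (2 * (i + 1)) - 1)) =
      (∏ i ∈ Finset.range d, (q ^ (i + 1) + 1)) * ∏ i ∈ Finset.range d, (q ^ (i + 1) - 1) by
        rw [← Finset.prod_mul_distrib]
        exact Finset.prod_congr rfl fun i _ => by rw [mul_comm 2, pow_mul, ← Nat.sq_sub_sq, one_pow],
      ← mul_assoc, ← mul_assoc] at h1
    have h2 := Nat.eq_of_mul_eq_mul_right hpos h1
    have h3 : r ∣ Nat.card (PolarPairs.Pairs F d) := by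
      obtain ⟨t, ht⟩ := hΩ
      have hP : Nat.card (PolarPairs.Pairs F d) / 2 = r * t := ht
      by_cases he : 2 ∣ Nat.card (PolarPairs.Pairs F d)
      · exact ⟨t * 2, by rw [← mul_assoc, ← hP, Nat.div_mul_cancel he]⟩
      · exfalso
        refine he ?_
        have hinv : Function.Involutive (fun P : PolarPairs.Pairs F d => (⟨(P.1.2, P.1.1), P.2.1.symm, P.2.2.2, P.2.2.1⟩ : PolarPairs.Pairs F d)) := fun P => rfl
        haveI : Fintype (PolarPairs.Pairs F d) := Fintype.ofFinite _
        rw [Nat.card_eq_fintype_card, ← even_iff_two_dvd]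
        refine Nat.not_odd_iff_even.1 fun ho => ?_
        obtain ⟨P, hP'⟩ := Equiv.Perm.exists_fixed_point_of_prime (p := 2) (n := 1)
          (by rw [← even_iff_two_dvd]; exact Nat.not_even_iff_odd.2 ho) (σ := hinv.toPerm _)
          (Equiv.ext fun P => by rw [pow_one, pow_two, Equiv.Perm.mul_apply]; exact hinv P)
        have h4 : P.1.2 = P.1.1 := congrArg (fun X : PolarPairs.Pairs F d => X.1.1) hP'
        have h5 := P.2.1.disjoint
        rw [h4, disjoint_self] at h5
        have h6 := (PolarPairs.finrank_pair P).1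
        rw [h5, finrank_bot] at h6
        omega
    have h7 : r ∣ q ^ (d ^ 2) * ∏ i ∈ Finset.range d, (q ^ (i + 1) + 1) := h2 ▸ Dvd.dvd.mul_right h3 _
    obtain ⟨k, hk, h8⟩ := (hr.prime.dvd_finsetProd_iff _).1 ((hr.dvd_mul.1 h7).resolve_left (hrq _))
    exact ⟨k + 1, by omega, by have := Finset.mem_range.1 hk; omega, h8⟩
  let s := Nat.find hex
  obtain ⟨hs0, hsd, hrs⟩ : 0 < s ∧ s ≤ d ∧ r ∣ q ^ s + 1 := Nat.find_spec hex
  have hmin : ∀ t, 0 < t → t < s → ¬ r ∣ q ^ t + 1 := fun t h0 h1 h2 => Nat.find_min hex h1 ⟨h0, by omega, h2⟩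
  clear_value s
  -- no smaller field
  have hnofield : ∀ t, 0 < t → t ∣ 2 * s → r ∣ q ^ t - 1 → t = 2 * s := by
    intro t ht0 htd hrt
    have hz : ∀ e : ℕ, r ∣ q ^ e + 1 ↔ ((q : ZMod r) ^ e) = -1 := fun e => by
      rw [← ZMod.natCast_eq_zero_iff]; push_cast; exact add_eq_zero_iff_eq_neg
    have ht1 : (q : ZMod r) ^ t = 1 := by
      have h1 := (ZMod.natCast_eq_zero_iff _ _).2 hrt
      rw [Nat.cast_sub (Nat.one_le_pow t q (by omega))] at h1
      push_cast at h1
      exact sub_eq_zero.1 h1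
    have hne : (-1 : ZMod r) ≠ 1 := fun e => by
      have h1 : ((2 : ℕ) : ZMod r) = 0 := by push_cast; linear_combination -e
      exact hr2 ((Nat.prime_dvd_prime_iff_eq hr Nat.prime_two).1 ((ZMod.natCast_eq_zero_iff _ _).1 h1))
    have hs1 := (hz s).1 hrs
    have hndvd : ∀ u, (q : ZMod r) ^ u = 1 → ¬ u ∣ s := fun u hu ⟨e, he⟩ => by
      rw [he, pow_mul, hu, one_pow] at hs1
      exact hne hs1.symm
    rcases Nat.even_or_odd t with ⟨u, rfl⟩ | ho
    · have hus : u ∣ s := by
        rw [← two_mul] at htd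
        exact Nat.dvd_of_mul_dvd_mul_left two_pos htd
      rw [pow_add, mul_self_eq_one_iff] at ht1
      rcases ht1 with h1 | h1
      · exact absurd hus (hndvd u h1)
      · have := Nat.le_of_dvd hs0 hus
        rcases lt_or_eq_of_le this with h2 | h2
        · exact absurd ((hz u).2 h1) (hmin u (by omega) h2)
        · omega
    · exact absurd ((Nat.coprime_two_right.2 ho).dvd_of_dvd_mul_left htd) (hndvd t ht1)
  -- the field and the element
  obtain ⟨k, -, hk⟩ := FiniteField.card F p
  rw [hq] at hk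
  let L := GaloisField p (k * (2 * s))
  haveI : Fintype L := Fintype.ofFinite L
  have hLc : Fintype.card L = q ^ (2 * s) := by
    rw [← Nat.card_eq_fintype_card, GaloisField.card p _ (Nat.mul_ne_zero k.ne_zero (by omega)), hk, pow_mul]
  obtain ⟨i⟩ := FieldExt.exists_emb F L (by omega : 2 * s ≠ 0) (by rw [hLc, hq])
  letI : Algebra F L := i.toAlgebra
  haveI : Module.Finite F L := Module.Finite.of_finite
  haveI : CharP L p := charP_of_injective_algebraMap (algebraMap F L).injective p
  have hfd : finrank F L = 2 * s := by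
    have := Module.card_eq_pow_finrank (K := F) (V := L)
    rw [hLc, hq] at this
    exact (Nat.pow_right_injective (hq ▸ Fintype.one_lt_card) this).symm
  have hLpow : ∀ x : L, x ^ (q ^ (2 * s)) = x := fun x => by rw [← hLc]; exact FiniteField.pow_card x
  let σ₀ : L →ₐ[F] L :=
    { iterateFrobenius L p ((k : ℕ) * s) with
      commutes' := fun e => by
        show (algebraMap F L e) ^ p ^ ((k : ℕ) * s) = algebraMap F L e
        rw [← map_pow, pow_mul, ← hk, ← hq, FiniteField.pow_card_pow] }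
  have hσ₀ : ∀ x, σ₀ x = x ^ q ^ s := fun x => by
    show x ^ p ^ ((k : ℕ) * s) = _
    rw [hk, pow_mul]
  let σ : L ≃ₐ[F] L := AlgEquiv.ofBijective σ₀ (Finite.injective_iff_bijective.1 σ₀.toRingHom.injective)
  have hσ : ∀ x, σ x = x ^ q ^ s := hσ₀
  have hσσ : ∀ x, σ (σ x) = x := fun x => by
    rw [hσ, hσ, ← pow_mul, ← pow_add, ← two_mul, hLpow]
  obtain ⟨ζu, hζ⟩ := exists_prime_orderOf_dvd_card' (G := Lˣ) r (by
    rw [Nat.card_units, Nat.card_eq_fintype_card, hLc]
    refine hrs.trans ⟨q ^ s - 1, ?_⟩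
    rw [mul_comm 2, pow_mul, ← Nat.sq_sub_sq, one_pow])
  set ζ : L := (ζu : L) with hζd
  have hζr : ζ ^ r = 1 := by rw [hζd, ← Units.val_pow_eq_pow_val, ← hζ, pow_orderOf_eq_one]; rfl
  have hζo : orderOf ζ = r := by rw [hζd, orderOf_units, hζ]
  have hζ0 : ζ ≠ 0 := ζu.ne_zero
  have hζ1 : ζ ≠ 1 := fun e0 => hr.ne_one (by rw [← hζo, e0, orderOf_one])
  have hζn : σ ζ * ζ = 1 := by
    rw [hσ, ← pow_succ, ← orderOf_dvd_iff_pow_eq_one, hζo]; exact hrs
  have hgen : Algebra.adjoin F {ζ} = ⊤ := by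
    let K := IntermediateField.adjoin F ({ζ} : Set L)
    haveI : Fintype K := Fintype.ofFinite K
    have hKc : Fintype.card K = q ^ finrank F K := by
      rw [Module.card_eq_pow_finrank (K := F) (V := K), hq]
    let ζK : Kˣ := Units.mk0 ⟨ζ, IntermediateField.mem_adjoin_simple_self F ζ⟩ (fun e => hζ0 (congrArg Subtype.val e))
    have hK : finrank F K = 2 * s := by
      refine hnofield _ Module.finrank_pos (Dvd.intro _ ((Module.finrank_mul_finrank F K L).trans hfd)) ?_
      rw [← hKc, ← Fintype.card_units]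
      refine dvd_trans (dvd_of_eq ?_) (orderOf_dvd_card (x := ζK))
      rw [← hζo, ← orderOf_injective (K.val.toMonoidHom.comp (Units.coeHom K))
        (fun a c h => Units.ext (Subtype.ext h)) ζK]
      rfl
    have hKtop : K = ⊤ := IntermediateField.eq_of_le_of_finrank_eq le_top (by rw [hK, IntermediateField.finrank_top', hfd])
    rw [← IntermediateField.adjoin_simple_toSubalgebra_of_isAlgebraic (Algebra.IsAlgebraic.isAlgebraic ζ)]
    show K.toSubalgebra = ⊤
    rw [hKtop]; rfl
  set c : L := ζ - σ ζ with hc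
  have hc0 : c ≠ 0 := fun e => by
    rw [← sub_eq_zero.1 e] at hζn
    have h1 : r ∣ 2 := hζo ▸ orderOf_dvd_iff_pow_eq_one.2 (by rw [pow_two, hζn])
    exact hr2 ((Nat.prime_dvd_prime_iff_eq hr Nat.prime_two).1 h1)
  have hσc : σ c = -c := by rw [hc, map_sub, hσσ, neg_sub]
  let R := Fin (d - s) ⊕ Fin (d - s) → F
  let b₂ := Sp.sympB F (d - s)
  let B' : LinearMap.BilinForm F (L × R) := LinearMap.mk₂ F (fun x y => Algebra.trace F L (c * (σ x.1 * y.1)) + b₂ x.2 y.2)
    (fun x x' y => by rw [Prod.fst_add, Prod.snd_add, map_add σ, add_mul, mul_add, map_add, map_add b₂, LinearMap.add_apply]; ring)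
    (fun e x y => by rw [Prod.smul_fst, Prod.smul_snd, map_smul σ, smul_mul_assoc, mul_smul_comm, map_smul, map_smul b₂, LinearMap.smul_apply, smul_add])
    (fun x y y' => by rw [Prod.fst_add, Prod.snd_add, mul_add, mul_add, map_add, map_add (b₂ x.2)]; ring)
    (fun e x y => by rw [Prod.smul_fst, Prod.smul_snd, mul_smul_comm, mul_smul_comm, map_smul, map_smul (b₂ x.2), smul_add])
  have hB' : ∀ x y, B' x y = Algebra.trace F L (c * (σ x.1 * y.1)) + b₂ x.2 y.2 := fun x y => rfl
  have hself : ∀ y : L, Algebra.trace F L (c * (σ y * y)) = 0 := fun y => by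
    have h1 := Algebra.trace_eq_of_algEquiv σ (c * (σ y * y))
    rw [map_mul σ, map_mul σ, hσσ, hσc, neg_mul, map_neg, mul_comm y] at h1
    have h2 : (2 : F) * Algebra.trace F L (c * (σ y * y)) = 0 := by linear_combination -h1
    exact (mul_eq_zero.1 h2).resolve_left h20
  have hA' : B'.IsAlt := fun x => by rw [hB', hself, Sp.sympB_isAlt (F := F) (d - s), add_zero]
  have hN' : Sp.Nondeg B' := fun x hx => by
    by_contra hh
    push Not at hh
    refine hx (Prod.ext ?_ ?_)
    · refine σ.injective ?_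
      rw [Prod.fst_zero, map_zero]
      refine (mul_eq_zero.1 (?_ : c * σ x.1 = 0)).resolve_left hc0
      refine (traceForm_nondegenerate F L).1 _ fun y => ?_
      have h1 := hh (y, 0)
      rw [hB', map_zero, add_zero, ← mul_assoc c] at h1
      exact (Algebra.traceForm_apply F _ _).trans h1
    · by_contra h2
      obtain ⟨z, hz⟩ := Sp.sympB_nondeg (F := F) (d - s) x.2 h2
      have h1 := hh (0, z)
      rw [hB', mul_zero, mul_zero, map_zero, zero_add] at h1
      exact hz h1
  have hrk : finrank F (L × R) = 2 * d := by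
    rw [finrank_prod, hfd, Sp.finrank_space]; omega
  obtain ⟨-, e, he⟩ := Sp.exists_equiv (2 * d) (Sp.sympB F d) B' (Sp.sympB_isAlt (F := F) d) (Sp.sympB_nondeg (F := F) d) hA' hN' (Sp.finrank_space (F := F) d) hrk
  let T : (Fin d ⊕ Fin d → F) →ₗ[F] (Fin d ⊕ Fin d → F) :=
    e.symm.toLinearMap ∘ₗ (LinearMap.mulLeft F ζ).prodMap LinearMap.id ∘ₗ e.toLinearMap
  have hT : ∀ v, e (T v) = (ζ * (e v).1, (e v).2) := fun v => by simp [T]
  have hTB : ∀ u v, Sp.sympB F d (T u) (T v) = Sp.sympB F d u v := fun u v => by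
    rw [← he, ← he, hT, hT, hB', hB', map_mul σ, show σ ζ * σ (e u).1 * (ζ * (e v).1) = (σ ζ * ζ) * (σ (e u).1 * (e v).1) by ring, hζn, one_mul]
  let M := LinearMap.toMatrix' T
  have hMv : ∀ v, M *ᵥ v = T v := fun v => LinearMap.toMatrix'_mulVec T v
  have hmem : M ∈ Matrix.symplecticGroup (Fin d) F := (Sp.mem_symplectic_iff d M).2 fun u v => by rw [hMv, hMv, hTB]
  have hTr : ∀ (j : ℕ) v, e ((M ^ j) *ᵥ v) = (ζ ^ j * (e v).1, (e v).2) := by
    intro j
    induction j with
    | zero => intro v; simp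
    | succ j ih => intro v; rw [pow_succ', ← Matrix.mulVec_mulVec, hMv, hT, ih, ← mul_assoc, ← pow_succ']
  have hMr : M ^ r = 1 := Matrix.ext_of_mulVec_single fun j => e.injective (by rw [hTr, hζr, one_mul, Matrix.one_mulVec])
  refine ⟨⟨M, hmem⟩, ⟨1, by rw [SubmonoidClass.coe_pow, one_smul]; exact hMr⟩, fun u hu => ?_, ?_⟩
  · have h1 := hT (e.symm (1, 0))
    rw [← hMv, show M = u • 1 from hu, Matrix.smul_mulVec, Matrix.one_mulVec, map_smul, LinearEquiv.apply_symm_apply] at h1
    have h2 : u • (1 : L) = ζ * 1 := congrArg Prod.fst h1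
    rw [mul_one, Algebra.smul_def, mul_one] at h2
    have h3 : u ^ r = 1 := (algebraMap F L).injective (by rw [map_pow, h2, hζr, map_one])
    have h4 : orderOf u = r := by rw [← hζo, ← h2]; exact (orderOf_injective (algebraMap F L).toMonoidHom (algebraMap F L).injective u).symm
    have hu0 : u ≠ 0 := fun e0 => by rw [e0, zero_pow hr.ne_zero] at h3; exact zero_ne_one h3
    have h5 := orderOf_dvd_card (x := Units.mk0 u hu0)
    rw [← orderOf_units, Units.val_mk0, h4, Fintype.card_units, hq, ← pow_one q] at h5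
    have := hnofield 1 one_pos (one_dvd _) h5
    omega
  · rintro ⟨U, W, hC, hU, hW, hcase⟩
    have hTv : ∀ v, Matrix.toLin' M v = T v := fun v => by rw [Matrix.toLin'_apply]; exact hMv v
    have hpair := PolarPairs.finrank_pair (⟨(U, W), hC, hU, hW⟩ : PolarPairs.Pairs F d)
    have hinv : ∀ v ∈ U, T v ∈ U := by
      rcases hcase with ⟨h1, -⟩ | ⟨h1, h2⟩
      · intro v hv
        rw [← h1]
        exact ⟨v, hv, hTv v⟩
      · exfalso
        have hit : ∀ j : ℕ, ∀ v ∈ U, (M ^ (2 * j + 1)) *ᵥ v ∈ W := by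
          intro j
          induction j with
          | zero => intro v hv; rw [← h1]; exact ⟨v, hv, by rw [Matrix.toLin'_apply, pow_one]⟩
          | succ j ih =>
            intro v hv
            rw [show 2 * (j + 1) + 1 = 1 + (1 + (2 * j + 1)) by ring, pow_add, pow_add, pow_one, ← Matrix.mulVec_mulVec, ← Matrix.mulVec_mulVec]
            rw [← h1]
            refine ⟨M *ᵥ ((M ^ (2 * j + 1)) *ᵥ v), ?_, Matrix.toLin'_apply M _⟩
            rw [← h2]
            exact ⟨_, ih v hv, Matrix.toLin'_apply M _⟩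
        obtain ⟨j, hj⟩ := hr.odd_of_ne_two hr2
        have h6 : finrank F U = d := hpair.1
        have h7 : U = ⊥ := le_bot_iff.1 fun v hv => by
          have := hit j v hv
          rw [← hj, hMr, Matrix.one_mulVec] at this
          exact hC.disjoint.le_bot ⟨hv, this⟩
        rw [h7, finrank_bot] at h6
        omega
    have hrF : (r : F) ≠ 0 := fun h => by
      rw [CharP.cast_eq_zero_iff F p] at h
      exact hrp ((Nat.prime_dvd_prime_iff_eq Fact.out hr).1 h).symm
    have hU'0 : ∀ v ∈ U, (e v).1 = 0 := by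
      intro v hv
      have hsum : e.symm ((0 : L), (r : F) • (e v).2) ∈ U := by
        have h1 : ∀ j : ℕ, (M ^ j) *ᵥ v ∈ U := by
          intro j
          induction j with
          | zero => simpa using hv
          | succ j ih => rw [pow_succ', ← Matrix.mulVec_mulVec, hMv]; exact hinv _ ih
        have h2 : e (∑ j ∈ Finset.range r, (M ^ j) *ᵥ v) = ((0 : L), (r : F) • (e v).2) := by
          rw [map_sum]
          simp only [hTr]
          refine Prod.ext ?_ ?_
          · rw [Prod.fst_sum, ← Finset.sum_mul]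
            rw [(mul_eq_zero.1 ((geom_sum_mul ζ r).trans (by rw [hζr, sub_self]))).resolve_right (sub_ne_zero.2 hζ1), zero_mul]
          · rw [Prod.snd_sum, Finset.sum_const, Finset.card_range, Nat.cast_smul_eq_nsmul]
        rw [← h2, LinearEquiv.symm_apply_apply]
        exact U.sum_mem fun j _ => h1 j
      set y := (e v).1 with hy
      have hy' : e.symm (y, 0) ∈ U := by
        have h3 : e.symm ((0 : L), (e v).2) ∈ U := by
          have := U.smul_mem ((r : F)⁻¹) hsum
          rwa [← map_smul, Prod.smul_mk, smul_zero, inv_smul_smul₀ hrF] at this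
        have := U.sub_mem hv h3
        rwa [← e.symm_apply_apply v, ← map_sub, e.symm_apply_apply v, show e v - ((0 : L), (e v).2) = (y, 0) from Prod.ext (sub_zero _) (sub_self _)] at this
      by_contra hy0
      let S : Submodule F L := U.comap (e.symm.toLinearMap ∘ₗ LinearMap.inl F L R)
      have hSζ : ∀ a ∈ S, ζ * a ∈ S := fun a ha => by
        show e.symm (ζ * a, 0) ∈ U
        have h4 := hinv _ (show e.symm (a, 0) ∈ U from ha)
        rwa [show T (e.symm (a, 0)) = e.symm (ζ * a, 0) from e.injective (by rw [hT, e.apply_symm_apply, e.apply_symm_apply])] at h4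
      have hSall : ∀ P ∈ Algebra.adjoin F {ζ}, ∀ a ∈ S, P * a ∈ S := fun P hP => by
        induction hP using Algebra.adjoin_induction with
        | mem z hz => rw [Set.mem_singleton_iff.1 hz]; exact hSζ
        | algebraMap u => intro a ha; rw [← Algebra.smul_def]; exact S.smul_mem _ ha
        | add a₁ a₂ _ _ h1 h2 => intro a ha; rw [add_mul]; exact S.add_mem (h1 a ha) (h2 a ha)
        | mul a₁ a₂ _ _ h1 h2 => intro a ha; rw [mul_assoc]; exact h1 _ (h2 a ha)
      have hStop : ∀ a : L, e.symm (a, 0) ∈ U := fun a => by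
        have := hSall (a * y⁻¹) (hgen ▸ Algebra.mem_top) y hy'
        rw [mul_assoc, inv_mul_cancel₀ hy0, mul_one] at this
        exact this
      obtain ⟨⟨w, z⟩, hwz⟩ := hN' (y, 0) (fun h => hy0 (congrArg Prod.fst h))
      have h5 := hU _ (hStop y) _ (hStop w)
      rw [← Sp.sympB_apply, ← he, e.apply_symm_apply, e.apply_symm_apply, hB'] at h5
      rw [hB'] at hwz
      simp only [map_zero, LinearMap.zero_apply, add_zero] at h5 hwz
      exact hwz h5
    let π : U →ₗ[F] R := (LinearMap.snd F L R).comp (e.toLinearMap.comp U.subtype)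
    have hπ : Function.Injective π := by
      refine (injective_iff_map_eq_zero π).2 fun v hv => ?_
      exact Subtype.ext (e.map_eq_zero_iff.1 (Prod.ext (hU'0 v v.2) hv))
    have hiso := PolarPairs.finrank_iso_le (LinearMap.range π) (by
      rintro _ ⟨u, rfl⟩ _ ⟨v, rfl⟩
      have h5 := hU u u.2 v v.2
      rw [← Sp.sympB_apply, ← he, hB', hU'0 u u.2, hU'0 v v.2, mul_zero, mul_zero, map_zero, zero_add] at h5
      rw [← Sp.sympB_apply]
      exact h5)
    rw [LinearMap.finrank_range_of_inj hπ, hpair.1] at hiso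
    omega

end Cfsg.Agent.S5963
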