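import Cfsg.Statements.S5964
import Cfsg.Agent.Lib.Classical.SubfieldInvol

set_option autoImplicit false
open scoped MatrixGroups
open Cfsg

open Cfsg.Agent.Classical Module
open Matrix hiding toLin'
set_option maxHeartbeats 1000000

namespace Cfsg.Agent.S5964

/-- Involutions of PSL_n(q) and subfield subgroups. Here `T = PSL_n(F)` for a field `F` with `q = p^f` elements (`n ≥ 2`, `(n, q) ≠ (2, 2), (2, 3)`), `F₀` is the subfield with `q₀` elements where `q = q₀^k` for a prime `k`, and `H` is the subgroup of matrices of determinant 1 lying in the subfield group of `F₀` (invertible matrices over `F₀` times scalars) — a maximal subgroup of type GL_n(q₀) (the case `n = 2`, `q₀ = 2` is excluded); Ω is the set of `T`-conjugates of `H` (cosets of `H`), so an element of `T` of prime order `r` (a matrix `x` of determinant 1 with `x^r` scalar, `x` not scalar) fixes a point of Ω when some conjugate of `x` by a matrix of determinant 1 lies in `H`. Suppose the index of `H` is even. Then every involution of `T` is conjugate in `T` into `H` if and only if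 either `q` is even, or `k = 2` and `(n)_2 ≤ (q − 1)_2`. (For `q` odd and `k` odd the index of `H` is odd, so that case does not arise.) -/
theorem result {F : Type*} [Field F] [Fintype F] {p : ℕ} [Fact p.Prime] [CharP F p] {q : ℕ} (hq : Fintype.card F = q)
    (n : ℕ) (hn : 2 ≤ n) (hT : (n, q) ≠ (2, 2) ∧ (n, q) ≠ (2, 3))
    (F₀ : Subfield F) (k q₀ : ℕ) (hk : k.Prime) (hF₀ : Nat.card ↥F₀ = q₀) (hqk : q = q₀ ^ k) (hC5 : ¬ (n = 2 ∧ q₀ = 2)) (hΩ : 2 ∣ ((Cfsg.Geo.subfieldSubgroup F₀ 1).comap (Matrix.SpecialLinearGroup.toGL : Matrix.SpecialLinearGroup (Fin n) F →* GL (Fin n) F)).index) :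
    (∀ x : Matrix.SpecialLinearGroup (Fin n) F,
      (∃ z : F, ((x ^ 2 : Matrix.SpecialLinearGroup (Fin n) F) : Matrix (Fin n) (Fin n) F) = z • (1 : Matrix (Fin n) (Fin n) F)) →
      (∀ z : F, (x : Matrix (Fin n) (Fin n) F) ≠ z • (1 : Matrix (Fin n) (Fin n) F)) →
      ∃ P : Matrix.SpecialLinearGroup (Fin n) F, P⁻¹ * x * P ∈ ((Cfsg.Geo.subfieldSubgroup F₀ 1).comap (Matrix.SpecialLinearGroup.toGL : Matrix.SpecialLinearGroup (Fin n) F →* GL (Fin n) F))) ↔
    (Odd q → (k = 2 ∧ padicValNat 2 n ≤ padicValNat 2 (q - 1))) := by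
  classical
  have hn0 : n ≠ 0 := by omega
  have hq0 : q - 1 ≠ 0 := by
    have := Fintype.one_lt_card (α := F)
    omega
  obtain ⟨s, m, hm, hnm⟩ := Nat.exists_eq_two_pow_mul_odd hn0
  obtain ⟨u, w, hw, hqw⟩ := Nat.exists_eq_two_pow_mul_odd hq0
  have hval : ∀ (k o : ℕ), Odd o → padicValNat 2 (2 ^ k * o) = k := fun k o ho => by
    rw [padicValNat.mul (by positivity) (fun e => by simp [e] at ho), padicValNat.prime_pow,
      padicValNat.eq_zero_of_not_dvd (fun d => Nat.not_even_iff_odd.2 ho (even_iff_two_dvd.2 d)), add_zero]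
  rw [show padicValNat 2 (q - 1) = u by rw [hqw, hval u w hw], show padicValNat 2 n = s by rw [hnm, hval s m hm]]
  have hodd2 : Odd q → (2 : F) ≠ 0 := fun ho e => by
    have hc : CharP F 2 := CharTwo.of_one_ne_zero_of_two_eq_zero one_ne_zero e
    obtain ⟨k', -, hk'⟩ := FiniteField.card F 2
    rw [← hq, hk'] at ho
    exact Nat.not_even_iff_odd.2 ho (Nat.even_pow.2 ⟨even_two, k'.ne_zero⟩)
  constructor
  · intro h hodd
    have h20 := hodd2 hodd
    have hq₀ : Odd q₀ := (Nat.odd_pow_iff hk.ne_zero).1 (hqk ▸ hodd)
    have hk2 : k = 2 := by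
      rcases hk.eq_two_or_odd' with h2 | h2
      · exact h2
      · exact absurd hΩ (fun hd => Nat.not_even_iff_odd.2
          (SubfieldInvol.odd_index F₀ (by omega) h2 hq₀ hF₀ (hq.trans hqk)) (even_iff_two_dvd.2 hd))
    refine ⟨hk2, ?_⟩
    by_contra hlt
    push Not at hlt
    obtain ⟨y, hy⟩ := IsCyclic.exists_generator (α := Fˣ)
    have hy' : orderOf y = 2 ^ u * w := by
      rw [orderOf_eq_card_of_forall_mem_zpowers hy, Nat.card_units, Nat.card_eq_fintype_card, hq, hqw]
    set L := y ^ w with hLdef
    have hu1 : 1 ≤ u := by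
      by_contra h0
      rw [show u = 0 by omega, pow_zero, one_mul] at hqw
      have h1 := hodd
      rw [Nat.odd_iff] at h1 hw
      omega
    have hL : ∀ i, L ^ i = 1 ↔ 2 ^ u ∣ i := fun i => by
      rw [hLdef, ← pow_mul, ← orderOf_dvd_iff_pow_eq_one, hy', mul_comm w i]
      exact ⟨fun d => Nat.dvd_of_mul_dvd_mul_right hw.pos d, fun d => Nat.mul_dvd_mul_right d w⟩
    set z : F := -(L : F) with hz
    obtain ⟨m', hm'⟩ : ∃ m', n = 2 * m' := ⟨2 ^ (s - 1) * m, by
      rw [hnm, ← mul_assoc, ← pow_succ']; congr 2; omega⟩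
    have hdvd : 2 ^ u ∣ m' := by
      have : m' = 2 ^ (s - 1) * m := by
        have h1 : 2 * m' = 2 * (2 ^ (s - 1) * m) := by
          rw [← hm', hnm, ← mul_assoc, ← pow_succ']; congr 2; omega
        omega
      rw [this]
      exact (pow_dvd_pow 2 (by omega)).mul_right m
    let Bk : Matrix (Fin 2) (Fin 2) F := !![0, z; 1, 0]
    let e : Fin 2 × Fin m' ≃ Fin n := finProdFinEquiv.trans (finCongr hm'.symm)
    let A : Matrix (Fin n) (Fin n) F := (Matrix.blockDiagonal fun _ : Fin m' => Bk).submatrix e.symm e.symm
    have hdet : A.det = 1 := by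
      have h0 := (hL m').2 hdvd
      rw [Matrix.det_submatrix_equiv_self, Matrix.det_blockDiagonal, Finset.prod_const, Finset.card_univ,
        Fintype.card_fin, show Bk.det = (L : F) by simp [Bk, Matrix.det_fin_two, hz], ← Units.val_pow_eq_pow_val, h0,
        Units.val_one]
    have hAA : A * A = z • 1 := by
      show Matrix.submatrix _ _ _ * Matrix.submatrix _ _ _ = _
      rw [Matrix.submatrix_mul_equiv, ← Matrix.blockDiagonal_mul,
        show (fun _ : Fin m' => Bk * Bk) = z • (1 : Fin m' → Matrix (Fin 2) (Fin 2) F) from funext fun _ => by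
          ext i j; fin_cases i <;> fin_cases j <;> simp [Bk, Matrix.mul_apply, Fin.sum_univ_two],
        Matrix.blockDiagonal_smul, Matrix.blockDiagonal_one, Matrix.submatrix_smul, Pi.smul_apply, Pi.smul_apply,
        Matrix.submatrix_one_equiv]
    let xs : Matrix.SpecialLinearGroup (Fin n) F := ⟨A, hdet⟩
    have hxx : (xs : Matrix (Fin n) (Fin n) F) * (xs : Matrix (Fin n) (Fin n) F) = z • 1 := hAA
    obtain ⟨P, hP⟩ := h xs ⟨z, by rw [pow_two, Matrix.SpecialLinearGroup.coe_mul]; exact hxx⟩ (fun r hr => by
      have hm0 : 0 < m' := by omega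
      have h1 := congrFun (congrFun hr (e (1, ⟨0, hm0⟩))) (e (0, ⟨0, hm0⟩))
      simp [xs, A, Bk, Matrix.blockDiagonal_apply] at h1)
    have hz0 : z ≠ 0 := neg_ne_zero.2 L.ne_zero
    obtain ⟨c, hc, b, hb⟩ := SubfieldInvol.square_of_mem F₀ (by omega) hz0 xs hxx hP
    -- the scalar is a non-square
    haveI : Fintype F₀ := Fintype.ofFinite _
    have hF₀' : Fintype.card F₀ = q₀ := by rw [← hF₀, Nat.card_eq_fintype_card]
    have hchar : ringChar F ≠ 2 := fun e0 => h20 (by
      haveI : CharP F 2 := ringChar.of_eq e0
      exact CharTwo.two_eq_zero)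
    have hb0 : (b : F) ≠ 0 := fun e0 => hz0 (by rw [hb, e0, mul_zero])
    obtain ⟨q', hq'⟩ := hq₀
    have hbsq : ((b : F)) ^ (Fintype.card F / 2) = 1 := by
      have h1 : (b : F) ^ (q₀ - 1) = 1 := by
        have := FiniteField.pow_card_sub_one_eq_one b (fun e0 => hb0 (by rw [e0]; rfl))
        rw [hF₀'] at this
        exact_mod_cast congrArg Subtype.val this
      have h2 : Fintype.card F / 2 = (q₀ - 1) * (q' + 1) := by
        rw [hq, hqk, hk2, hq', Nat.add_sub_cancel]
        have : (2 * q' + 1) ^ 2 = 2 * (2 * q' * (q' + 1)) + 1 := by ring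
        omega
      rw [h2, pow_mul, h1, one_pow]
    have hnsq : z ^ (Fintype.card F / 2) = -1 := by
      have h2 : Fintype.card F / 2 = 2 ^ (u - 1) * w := by
        rw [hq]
        have h3 : q - 1 = 2 * (2 ^ (u - 1) * w) := by
          rw [hqw, ← mul_assoc, ← pow_succ']; congr 2; omega
        omega
      have heven : Even (Fintype.card F / 2) := by
        rw [hq, hqk, hk2, hq']
        have : (2 * q' + 1) ^ 2 = 2 * (2 * (q' * (q' + 1))) + 1 := by ring
        rw [Nat.even_iff]; omega
      rw [hz, heven.neg_pow, ← Units.val_pow_eq_pow_val]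
      have h4 : (L ^ (Fintype.card F / 2) : Fˣ) * L ^ (Fintype.card F / 2) = 1 := by
        rw [← pow_add, hL, h2, ← two_mul, ← mul_assoc, ← pow_succ', show u - 1 + 1 = u by omega]
        exact Dvd.intro _ rfl
      refine (mul_self_eq_one_iff.1 (by rw [← Units.val_mul, h4, Units.val_one])).resolve_left fun e0 => ?_
      rw [Units.val_eq_one, hL, h2] at e0
      have h5 := (Nat.Coprime.dvd_of_dvd_mul_right (Nat.Coprime.pow_left u (Nat.prime_two.coprime_iff_not_dvd.2
        (fun d => Nat.not_even_iff_odd.2 hw (even_iff_two_dvd.2 d)))) e0)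
      have h6 := Nat.le_of_dvd (by positivity) h5
      have h7 : 2 ^ (u - 1) < 2 ^ u := Nat.pow_lt_pow_right (by norm_num) (by omega)
      omega
    rw [hb, mul_pow, hbsq, mul_one, ← pow_two, ← pow_mul,
      show 2 * (Fintype.card F / 2) = Fintype.card F - 1 by
        rw [hq, hqk, hk2, hq']
        have : (2 * q' + 1) ^ 2 = 2 * (2 * (q' * (q' + 1))) + 1 := by ring
        omega,
      FiniteField.pow_card_sub_one_eq_one c hc] at hnsq
    exact h20 (by linear_combination hnsq)
  · intro hus x hx1 hx2
    obtain ⟨z, hz⟩ := hx1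
    let T : (Fin n → F) →ₗ[F] (Fin n → F) := Matrix.toLin' (x : Matrix (Fin n) (Fin n) F)
    have hT : ∀ v, T v = (x : Matrix (Fin n) (Fin n) F) *ᵥ v := fun v => Matrix.toLin'_apply _ _
    have hTT : ∀ v, T (T v) = z • v := fun v => by
      rw [← LinearMap.comp_apply, ← Matrix.toLin'_mul, ← Matrix.SpecialLinearGroup.coe_mul, ← pow_two, hz,
        map_smul, Matrix.toLin'_one, LinearMap.smul_apply, LinearMap.id_apply]
    have hz0 : z ≠ 0 := fun e => by
      have h1 := congrArg Matrix.det hz
      rw [Matrix.SpecialLinearGroup.det_coe, Matrix.det_smul, Matrix.det_one, Fintype.card_fin, e, zero_pow hn0,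
        zero_mul] at h1
      exact one_ne_zero h1
    by_cases h20 : (2 : F) = 0
    · -- characteristic two
      haveI : CharP F 2 := CharTwo.of_one_ne_zero_of_two_eq_zero one_ne_zero h20
      have hsq : ∀ r : F, IsSquare r := fun r => FiniteField.isSquare_of_char_two (ringChar.eq F 2) r
      obtain ⟨l, hl⟩ := hsq z
      have hl0 : l ≠ 0 := fun h => hz0 (by rw [hl, h, zero_mul])
      let N : (Fin n → F) →ₗ[F] (Fin n → F) := l⁻¹ • T - LinearMap.id
      have hN : ∀ v, N (N v) = 0 := fun v => by
        have h0 : ∀ y : Fin n → F, y + y = 0 := fun y => by rw [← two_smul F, h20, zero_smul]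
        simp only [N, LinearMap.sub_apply, LinearMap.smul_apply, LinearMap.id_apply, map_sub, map_smul, hTT,
          smul_sub, smul_smul, hl, show l⁻¹ * (l⁻¹ * (l * l)) = 1 by field_simp, one_smul]
        linear_combination (norm := module) h0 v - h0 (l⁻¹ • T v)
      obtain ⟨j, b, h1, h2, h3⟩ := SquareZero.exists_basis N hN
      have hTb : ∀ v, T v = l • N v + l • v := fun v => by
        simp [N, smul_sub, smul_smul, hl0]
      let r := finrank F (LinearMap.range N)
      rcases Nat.eq_zero_or_pos r with hr | hr
      · exfalso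
        have hN0 : N = 0 := LinearMap.range_eq_bot.1 (Submodule.finrank_eq_zero.1 hr)
        refine hx2 l (Matrix.toLin'.injective (LinearMap.ext fun v => ?_))
        show T v = _
        rw [hTb, hN0, LinearMap.zero_apply, smul_zero, zero_add, map_smul, Matrix.toLin'_one]
        rfl
      let g : Matrix ((Fin r ⊕ Fin r) ⊕ Fin j) ((Fin r ⊕ Fin r) ⊕ Fin j) F₀ :=
        Matrix.fromBlocks (Matrix.fromBlocks 1 0 1 1) 0 0 1
      refine SubfieldInvol.conj_mem F₀ x b hl0 g (fun i => ?_) fun r0 hr0 => ?_
      · have hite : ∀ (P : Prop) [Decidable P] (y : Fin n → F), (((if P then 1 else 0 : F₀) : F)) • y = if P then y else 0 := by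
          intro P _ y
          split_ifs <;> simp
        rw [← hT, hTb]
        rcases i with (i | i) | i
        · simp [g, h1, Fintype.sum_sum_type, Matrix.one_apply, hite]
          try module
        · simp [g, h2, Fintype.sum_sum_type, Matrix.one_apply, hite]
        · simp [g, h3, Fintype.sum_sum_type, Matrix.one_apply, hite]
      · obtain ⟨s0, hs0⟩ := hsq r0
        let d₀ : Fin r → F := Function.update 1 ⟨0, hr⟩ s0
        refine ⟨Sum.elim (Sum.elim d₀ d₀) 1, ?_, ?_⟩
        · simp [Fintype.prod_sum_type, d₀, Finset.prod_update_of_mem, hs0]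
        · rintro ((i | i) | i) ((i' | i') | i') hne <;> simp [g, Matrix.one_apply] at hne ⊢ <;> simp [hne]
    · have hodd : Odd q := by
        rw [← hq, Nat.odd_iff]
        exact FiniteField.odd_card_of_char_ne_two (fun e0 => h20 (by
          haveI : CharP F 2 := ringChar.of_eq e0
          exact CharTwo.two_eq_zero))
      obtain ⟨-, hsu⟩ := hus hodd
      obtain ⟨l, hl⟩ : IsSquare z := by
        by_contra hsq
        have hchar : ringChar F ≠ 2 := fun e0 => h20 (by
          haveI : CharP F 2 := ringChar.of_eq e0
          exact CharTwo.two_eq_zero)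
        have hzn : z ^ (Fintype.card F / 2) = -1 := by
          have h := FiniteField.pow_dichotomy hchar hz0
          refine h.resolve_left fun e0 => hsq ((FiniteField.isSquare_iff hchar hz0).2 e0)
        -- the pairs
        have key : ∀ m, m ≤ n / 2 + 1 → ∃ s, s ≤ m ∧ ∃ v : Fin s → Fin n → F,
            LinearIndependent F (Sum.elim v (T ∘ v)) ∧ (s = m ∨ Submodule.span F (Set.range (Sum.elim v (T ∘ v))) = ⊤) := by
          intro m
          induction m with
          | zero => exact fun _ => ⟨0, le_rfl, Fin.elim0, linearIndependent_empty_type, Or.inl rfl⟩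
          | succ m ih =>
            intro hm
            obtain ⟨s, hs, v, hv, h⟩ := ih (by omega)
            rcases h with rfl | h
            swap
            · exact ⟨s, by omega, v, hv, Or.inr h⟩
            rcases eq_or_ne (Submodule.span F (Set.range (Sum.elim v (T ∘ v)))) ⊤ with h | h
            · exact ⟨s, by omega, v, hv, Or.inr h⟩
            set W := Submodule.span F (Set.range (Sum.elim v (T ∘ v))) with hW
            obtain ⟨w, -, hw⟩ := SetLike.exists_of_lt (lt_top_iff_ne_top.2 h)
            have hWT : ∀ y ∈ W, T y ∈ W := fun y hy => by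
              refine (Submodule.map_span_le T _ W).2 ?_ ⟨y, hy, rfl⟩
              rintro _ ⟨i | i, rfl⟩
              · exact Submodule.subset_span ⟨Sum.inr i, rfl⟩
              · show T (T (v i)) ∈ W
                rw [hTT]
                exact W.smul_mem _ (Submodule.subset_span ⟨Sum.inl i, rfl⟩)
            have hind : ∀ r r' : F, r • w + r' • T w ∈ W → r = 0 ∧ r' = 0 := by
              intro r r' hr
              by_cases hr' : r' = 0
              · subst hr'
                rw [zero_smul, add_zero] at hr
                exact ⟨by_contra fun hr0 => hw (by simpa [hr0] using W.smul_mem r⁻¹ hr), rfl⟩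
              exfalso
              have h1 := hWT _ hr
              rw [map_add, map_smul, map_smul, hTT, smul_smul] at h1
              have h2 := W.sub_mem (W.smul_mem r hr) (W.smul_mem r' h1)
              have h3 : r • (r • w + r' • T w) - r' • (r • T w + (r' * z) • w) = (r * r - r' * (r' * z)) • w := by
                simp only [smul_add, smul_smul, sub_smul, mul_comm r' r]; abel
              rw [h3] at h2
              refine hw ?_
              have h4 : r * r - r' * (r' * z) ≠ 0 := fun e => hsq ⟨r / r', by field_simp; linear_combination -e⟩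
              simpa [smul_smul, h4] using W.smul_mem (r * r - r' * (r' * z))⁻¹ h2
            refine ⟨s + 1, le_rfl, Fin.cons w v, ?_, Or.inl rfl⟩
            rw [linearIndependent_sum]
            have hv' := linearIndependent_sum.1 hv
            simp only [Sum.elim_comp_inl, Sum.elim_comp_inr] at hv' ⊢
            have hWv : W = Submodule.span F (Set.range v) ⊔ Submodule.span F (Set.range (T ∘ v)) := by
              rw [hW, Set.Sum.elim_range, Submodule.span_union]
            have hTcons : T ∘ (Fin.cons w v : Fin (s + 1) → Fin n → F) = Fin.cons (T w) (T ∘ v) := by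
              funext i; refine Fin.cases rfl (fun i => rfl) i
            have hwA : w ∉ Submodule.span F (Set.range v) := fun e => hw (hWv ▸ Submodule.mem_sup_left e)
            have hwB : T w ∉ Submodule.span F (Set.range (T ∘ v)) := fun e =>
              one_ne_zero (hind 0 1 (by rw [zero_smul, one_smul, zero_add]; exact hWv ▸ Submodule.mem_sup_right e)).2
            refine ⟨linearIndependent_finCons.2 ⟨hv'.1, hwA⟩, hTcons ▸ linearIndependent_finCons.2 ⟨hv'.2.1, hwB⟩, ?_⟩
            rw [hTcons, Fin.range_cons, Fin.range_cons, Submodule.span_insert, Submodule.span_insert, Submodule.disjoint_def]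
            intro y hy hy'
            obtain ⟨_, h1, A, hA, rfl⟩ := Submodule.mem_sup.1 hy
            obtain ⟨r, rfl⟩ := Submodule.mem_span_singleton.1 h1
            obtain ⟨_, h2, B, hB, he⟩ := Submodule.mem_sup.1 hy'
            obtain ⟨r', rfl⟩ := Submodule.mem_span_singleton.1 h2
            obtain ⟨e1, e2⟩ := hind r (-r') (by
              rw [show r • w + -r' • T w = B - A by rw [neg_smul]; linear_combination (norm := abel) -he]
              exact W.sub_mem (hWv ▸ Submodule.mem_sup_right hB) (hWv ▸ Submodule.mem_sup_left hA))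
            rw [neg_eq_zero] at e2
            simp only [e1, e2, zero_smul, zero_add] at he ⊢
            exact Submodule.disjoint_def.1 hv'.2.2 A hA (he ▸ hB)
        obtain ⟨r, -, v, hv, h⟩ := key (n / 2 + 1) le_rfl
        have hle : r + r ≤ n := by simpa using hv.fintype_card_le_finrank
        have htop := h.resolve_left (by omega)
        let c : Basis (Fin r ⊕ Fin r) F (Fin n → F) := Basis.mk hv htop.ge
        have hr : r + r = n := by
          have := Module.finrank_eq_card_basis c
          simpa using this.symm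
        let e : Fin r ⊕ Fin r ≃ Fin 2 × Fin r :=
          ((Equiv.prodCongr finTwoEquiv (Equiv.refl (Fin r))).trans (Equiv.boolProdEquivSum _)).symm
        let c' := c.reindex e
        have hc0 : ∀ i, c' (0, i) = v i := fun i => by
          simp [c', c, e, Basis.mk_apply, Equiv.boolProdEquivSum, finTwoEquiv]
        have hc1 : ∀ i, c' (1, i) = T (v i) := fun i => by
          simp [c', c, e, Basis.mk_apply, Equiv.boolProdEquivSum, finTwoEquiv]
        have hmat : LinearMap.toMatrix c' c' T = Matrix.blockDiagonal fun _ : Fin r => !![0, z; 1, 0] := by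
          ext ⟨i, a'⟩ ⟨j, b'⟩
          rw [LinearMap.toMatrix_apply]
          have : T (c' (j, b')) = ![c' (1, b'), z • c' (0, b')] j := by
            fin_cases j <;> simp [hc0, hc1, hTT]
          rw [this]
          rcases eq_or_ne a' b' with rfl | hne
          · fin_cases j <;> fin_cases i <;> simp
          · fin_cases j <;> fin_cases i <;> simp [hne, Ne.symm hne, Matrix.blockDiagonal_apply_ne]
        have hdet := LinearMap.det_toMatrix c' T
        rw [hmat, Matrix.det_blockDiagonal, Finset.prod_const, Finset.card_univ, Fintype.card_fin,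
          LinearMap.det_toLin', Matrix.SpecialLinearGroup.det_coe, Matrix.det_fin_two] at hdet
        simp at hdet
        -- the parity
        obtain ⟨d', hd'⟩ := Nat.exists_eq_add_of_le hsu
        have hs1 : 1 ≤ s := by
          by_contra h0
          rw [show s = 0 by omega, pow_zero, one_mul] at hnm
          rw [hnm] at hr
          rw [Nat.odd_iff] at hm
          omega
        have h2n : r = 2 ^ (s - 1) * m := by
          have h1 : 2 * r = 2 * (2 ^ (s - 1) * m) := by
            rw [two_mul r, hr, hnm, ← mul_assoc, ← pow_succ']; congr 2; omega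
          omega
        have hhalf : Fintype.card F / 2 = 2 ^ (u - 1) * w := by
          rw [hq]
          have h3 : q - 1 = 2 * (2 ^ (u - 1) * w) := by
            rw [hqw, ← mul_assoc, ← pow_succ']; congr 2; omega
          have := hodd
          rw [Nat.odd_iff] at this
          omega
        have heven : Even (Fintype.card F / 2) := by
          rw [hq, hqk, show k = 2 from (hus hodd).1]
          obtain ⟨q', hq'⟩ : Odd q₀ := (Nat.odd_pow_iff hk.ne_zero).1 (hqk ▸ hodd)
          have : (2 * q' + 1) ^ 2 = 2 * (2 * (q' * (q' + 1))) + 1 := by ring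
          rw [hq', Nat.even_iff]
          omega
        have hm1 : (-z) ^ (Fintype.card F / 2) = -1 := by rw [heven.neg_pow, hzn]
        have h1 : ((-z) ^ (Fintype.card F / 2)) ^ m = 1 := by
          rw [← pow_mul]
          have : Fintype.card F / 2 * m = r * (2 ^ d' * w) := by
            rw [hhalf, h2n, show u - 1 = s - 1 + d' by omega, pow_add]; ring
          rw [this, pow_mul, hdet, one_pow]
        rw [hm1, hm.neg_one_pow] at h1
        exact h20 (by linear_combination -h1)
      have hl0 : l ≠ 0 := fun h => hz0 (by rw [hl, h, zero_mul])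
      let Ep := LinearMap.ker (T - l • LinearMap.id)
      let Em := LinearMap.ker (T + l • LinearMap.id)
      have hp : ∀ v, v ∈ Ep ↔ T v = l • v := fun v => by simp [Ep, sub_eq_zero]
      have hm' : ∀ v, v ∈ Em ↔ T v = -(l • v) := fun v => by simp [Em, add_eq_zero_iff_eq_neg]
      have h2l : (2 : F) * l ≠ 0 := mul_ne_zero h20 hl0
      have hcompl : IsCompl Ep Em := by
        refine ⟨Submodule.disjoint_def.2 fun v hv hv' => ?_, codisjoint_iff.2 (eq_top_iff.2 fun v _ => ?_)⟩
        · have h4 : (2 * l) • v = 0 := by
            rw [mul_smul, two_smul]; nth_rw 1 [← (hp v).1 hv]; rw [(hm' v).1 hv', neg_add_cancel]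
          exact (smul_eq_zero.1 h4).resolve_left h2l
        refine Submodule.mem_sup.2 ⟨(2 * l)⁻¹ • (T v + l • v), ?_, (2 * l)⁻¹ • (l • v - T v), ?_, ?_⟩
        · rw [hp]
          simp only [map_smul, map_add, hTT, hl, smul_add, smul_smul]
          rw [add_comm]
          congr 2 <;> ring
        · rw [hm']
          simp only [map_smul, map_sub, hTT, hl, smul_sub, smul_smul, neg_sub]
          congr 2 <;> ring
        · rw [← smul_add, show T v + l • v + (l • v - T v) = (2 * l) • v by module, smul_smul, inv_mul_cancel₀ h2l, one_smul]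
      let c₀ := ((Module.finBasis F Ep).prod (Module.finBasis F Em)).map (Submodule.prodEquivOfIsCompl Ep Em hcompl)
      have hc₀ : ∀ i, T (c₀ i) = Sum.elim (fun _ => l) (fun _ => -l) i • c₀ i := by
        rintro (i | i)
        · exact (hp _).1 (by simp [c₀])
        · exact ((hm' _).1 (by simp [c₀])).trans (neg_smul l _).symm
      haveI : Nonempty (Fin (finrank F Ep) ⊕ Fin (finrank F Em)) := Fintype.card_pos_iff.1 (by
        rw [← Module.finrank_eq_card_basis c₀, Module.finrank_pi, Fintype.card_fin]; omega)
      let i₀ : Fin (finrank F Ep) ⊕ Fin (finrank F Em) := Classical.arbitrary _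
      refine SubfieldInvol.conj_mem F₀ x c₀ hl0 (Matrix.diagonal (Sum.elim (fun _ => (1 : F₀)) fun _ => -1)) (fun i => ?_)
        fun r0 hr0 => ⟨Function.update 1 i₀ r0, by rw [Finset.prod_update_of_mem (Finset.mem_univ _)]; simp, fun a b hab => ?_⟩
      · rw [← hT, hc₀, Finset.sum_eq_single i (fun j _ hj => by simp [Matrix.diagonal_apply_ne _ hj]) (by simp),
          Matrix.diagonal_apply_eq]
        rcases i with i | i <;> simp [smul_smul]
      · rw [show a = b from by_contra fun hne => hab (Matrix.diagonal_apply_ne _ hne)]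

end Cfsg.Agent.S5964
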