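import Cfsg.Statements.S5966
import Cfsg.Agent.Lib.Classical.SubfieldCube

set_option autoImplicit false
open scoped MatrixGroups
open Cfsg

open Cfsg.Agent.Classical Module
open Matrix hiding toLin'
set_option maxHeartbeats 1000000

namespace Cfsg.Agent.S5966

/-- Elements of order 3 of PSL_n(q) in characteristic 3 and subfield subgroups. Here `T = PSL_n(F)` for a field `F` with `q` elements, `q` a power of 3 (`n ≥ 2`, `(n, q) ≠ (2, 2), (2, 3)`), `F₀` is the subfield with `q₀` elements where `q = q₀^k` for a prime `k`, and `H` is the subgroup of matrices of determinant 1 lying in the subfield group of `F₀` (invertible matrices over `F₀` times scalars) — a maximal subgroup of type GL_n(q₀) (the case `n = 2`, `q₀ = 2` is excluded); Ω is the set of `T`-conjugates of `H` (cosets of `H`), so an element of `T` of prime order `r` (a matrix `x` of determinant 1 with `x^r` scalar, `x` not scalar) fixes a point of Ω when some conjugate of `x` by a matrix of determinant 1 lies in `H`. Suppose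 3 divides the index of `H`. Then every element of `T` of order 3 is conjugate in `T` into `H` if and only if `n` is odd, or `n` is even and `k > 2`. -/
theorem result {F : Type*} [Field F] [Fintype F] [CharP F 3] {q : ℕ} (hq : Fintype.card F = q)
    (n : ℕ) (hn : 2 ≤ n) (hT : (n, q) ≠ (2, 3))
    (F₀ : Subfield F) (k q₀ : ℕ) (hk : k.Prime) (hF₀ : Nat.card ↥F₀ = q₀) (hqk : q = q₀ ^ k) (hC5 : ¬ (n = 2 ∧ q₀ = 2)) (hΩ : 3 ∣ ((Cfsg.Geo.subfieldSubgroup F₀ 1).comap (Matrix.SpecialLinearGroup.toGL : Matrix.SpecialLinearGroup (Fin n) F →* GL (Fin n) F)).index) :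
    (∀ x : Matrix.SpecialLinearGroup (Fin n) F,
      (∃ z : F, ((x ^ 3 : Matrix.SpecialLinearGroup (Fin n) F) : Matrix (Fin n) (Fin n) F) = z • (1 : Matrix (Fin n) (Fin n) F)) →
      (∀ z : F, (x : Matrix (Fin n) (Fin n) F) ≠ z • (1 : Matrix (Fin n) (Fin n) F)) →
      ∃ P : Matrix.SpecialLinearGroup (Fin n) F, P⁻¹ * x * P ∈ ((Cfsg.Geo.subfieldSubgroup F₀ 1).comap (Matrix.SpecialLinearGroup.toGL : Matrix.SpecialLinearGroup (Fin n) F →* GL (Fin n) F))) ↔
    (Odd n ∨ (Even n ∧ 2 < k)) := by
  classical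
  haveI : Fintype F₀ := Fintype.ofFinite _
  haveI : CharP F₀ 3 := (RingHom.charP_iff_charP (F₀.subtype : F₀ →+* F) 3).2 inferInstance
  haveI : Fact (Nat.Prime 3) := ⟨Nat.prime_three⟩
  have h30 : (3 : F) = 0 := by exact_mod_cast CharP.cast_eq_zero F 3
  have hcube : ∀ r : F, ∃ s, s ^ 3 = r := Finite.injective_iff_surjective.1 (frobenius_inj F 3)
  have hcube₀ : ∀ r : F₀, ∃ s, s ^ 3 = r := Finite.injective_iff_surjective.1 (frobenius_inj F₀ 3)
  have hchar : ringChar F ≠ 2 := by rw [ringChar.eq F 3]; norm_num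
  have hq₀' : Fintype.card F₀ = q₀ := by rw [← hF₀, Nat.card_eq_fintype_card]
  have hodd : Odd q₀ := by
    rw [← hq₀', Nat.odd_iff]
    exact FiniteField.odd_card_of_char_ne_two (by rw [ringChar.eq F₀ 3]; norm_num)
  obtain ⟨q', hq'⟩ := hodd
  constructor
  · intro h
    rcases Nat.even_or_odd n with he | ho
    swap
    · exact Or.inl ho
    refine Or.inr ⟨he, ?_⟩
    by_contra hk2
    have hk2 : k = 2 := le_antisymm (by omega) hk.two_le
    obtain ⟨m, hm⟩ := he
    -- elements of the subfield are squares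
    have hsq : ∀ w : F₀, (w : F) ≠ 0 → IsSquare (w : F) := fun w hw => by
      rw [FiniteField.isSquare_iff hchar hw]
      have h1 : (w : F) ^ (q₀ - 1) = 1 := by
        have := FiniteField.pow_card_sub_one_eq_one w (fun e0 => hw (by rw [e0]; rfl))
        rw [hq₀'] at this
        exact_mod_cast congrArg Subtype.val this
      have h2 : Fintype.card F / 2 = (q₀ - 1) * (q' + 1) := by
        rw [hq, hqk, hk2, hq', Nat.add_sub_cancel]
        have : (2 * q' + 1) ^ 2 = 2 * (2 * q' * (q' + 1)) + 1 := by ring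
        omega
      rw [h2, pow_mul, h1, one_pow]
    obtain ⟨ν, hν⟩ := FiniteField.exists_nonsquare hchar
    have hν0 : ν ≠ 0 := fun e0 => hν (e0 ▸ IsSquare.zero)
    have hm0 : 0 < m := by omega
    let Δ : Matrix (Fin m) (Fin m) F := Matrix.diagonal (Function.update 1 ⟨0, hm0⟩ ν)
    have hΔ : Δ.det = ν := by
      rw [Matrix.det_diagonal, Finset.prod_update_of_mem (Finset.mem_univ _)]
      simp
    let e : Fin m ⊕ Fin m ≃ Fin n := finSumFinEquiv.trans (finCongr hm.symm)
    set S' : Matrix (Fin m ⊕ Fin m) (Fin m ⊕ Fin m) F := Matrix.fromBlocks 0 0 Δ 0 with hS'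
    have hSS : S' * S' = 0 := by simp [hS', Matrix.fromBlocks_multiply]
    let A : Matrix (Fin n) (Fin n) F := (1 + S').submatrix e.symm e.symm
    have hdet : A.det = 1 := by
      rw [Matrix.det_submatrix_equiv_self, hS', ← Matrix.fromBlocks_one, Matrix.fromBlocks_add]
      simp only [add_zero, zero_add]
      rw [Matrix.det_fromBlocks_zero₁₂, Matrix.det_one, one_mul]
    let xs : Matrix.SpecialLinearGroup (Fin n) F := ⟨A, hdet⟩
    have h13 : (1 + S') ^ 3 = 1 := by
      have h3 : (3 : ℕ) • S' = 0 := by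
        rw [← Nat.cast_smul_eq_nsmul F, Nat.cast_ofNat, h30, zero_smul]
      calc (1 + S') ^ 3 = 1 + (3 : ℕ) • S' + (3 : ℕ) • (S' * S') + S' * S' * S' := by noncomm_ring
        _ = 1 := by rw [h3, hSS]; simp
    have hA3 : (xs : Matrix (Fin n) (Fin n) F) ^ 3 = 1 := by
      have := congrArg (fun M : Matrix (Fin m ⊕ Fin m) (Fin m ⊕ Fin m) F => M.submatrix e.symm e.symm) h13
      simp only [pow_succ, pow_zero, one_mul, ← Matrix.submatrix_mul_equiv _ _ _ e.symm, Matrix.submatrix_one_equiv] at this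
      show A ^ 3 = 1
      simp only [pow_succ, pow_zero, one_mul]
      exact this
    obtain ⟨P, hP⟩ := h xs ⟨1, by rw [Matrix.SpecialLinearGroup.coe_pow, hA3, one_smul]⟩ (fun r hr => by
      have h1 := congrFun (congrFun hr (e (.inr ⟨0, hm0⟩))) (e (.inl ⟨0, hm0⟩))
      simp [xs, A, hS', Δ, hν0] at h1)
    have hcent : ∀ g : GL (Fin n) F, g ∈ Cfsg.Geo.scalars (Fin n) F → ∀ h : GL (Fin n) F, h * g = g * h := fun g hg h => by
      obtain ⟨c, hc⟩ := (Cfsg.Geo.mem_scalars_iff g).1 hg
      exact Units.ext (by rw [Units.val_mul, Units.val_mul, hc, Matrix.mul_smul, Matrix.smul_mul, one_mul, mul_one])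
    haveI : (Cfsg.Geo.scalars (Fin n) F).Normal := ⟨fun g hg h => by rwa [hcent g hg h, mul_inv_cancel_right]⟩
    obtain ⟨y, hy, hyP⟩ := hP
    obtain ⟨a, ⟨u, rfl⟩, b, hb, rfl⟩ := Subgroup.mem_sup_of_normal_right.1 hy
    obtain ⟨c, hc⟩ := (Cfsg.Geo.mem_scalars_iff b).1 hb
    have hy1 : (c : F) • (u : Matrix (Fin n) (Fin n) F₀).map F₀.subtype =
        ((P⁻¹ * xs * P : Matrix.SpecialLinearGroup (Fin n) F) : Matrix (Fin n) (Fin n) F) := by
      have h1 := congrArg (fun g : GL (Fin n) F => (g : Matrix (Fin n) (Fin n) F)) hyP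
      simp only [map_one, MulEquiv.toMonoidHom_eq_coe, MonoidHom.coe_coe, MulAut.one_apply, Units.val_mul, hc,
        Matrix.mul_smul, mul_one] at h1
      exact h1
    have hc3 : (c : F) ^ 3 • (((u : Matrix (Fin n) (Fin n) F₀)) ^ 3).map F₀.subtype = 1 := by
      rw [Matrix.map_pow, ← smul_pow, hy1, ← Matrix.SpecialLinearGroup.coe_pow]
      have : (P⁻¹ * xs * P) ^ 3 = 1 := by
        have hx3 : xs ^ 3 = 1 := Subtype.ext (by rw [Matrix.SpecialLinearGroup.coe_pow, hA3]; rfl)
        have h1 := conj_pow (a := P⁻¹) (b := xs) (i := 3)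
        rwa [inv_inv, hx3, mul_one, inv_mul_cancel] at h1
      rw [this, Matrix.SpecialLinearGroup.coe_one]
    have hn' : 0 < n := by omega
    have h00 := congrFun (congrFun hc3 ⟨0, hn'⟩) ⟨0, hn'⟩
    rw [Matrix.smul_apply, Matrix.map_apply, Matrix.one_apply_eq, smul_eq_mul] at h00
    set w := ((u : Matrix (Fin n) (Fin n) F₀) ^ 3) ⟨0, hn'⟩ ⟨0, hn'⟩
    obtain ⟨c', hc'⟩ := hcube₀ w⁻¹
    have hcc : (c' : F) = c := frobenius_inj F 3 (by
      rw [frobenius_def, frobenius_def, ← SubmonoidClass.coe_pow, hc']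
      push_cast
      exact inv_eq_of_mul_eq_one_left h00)
    set M₀ : Matrix (Fin m ⊕ Fin m) (Fin m ⊕ Fin m) F₀ := ((c' • (u : Matrix (Fin n) (Fin n) F₀)) - 1).submatrix e e with hM₀
    set P' : Matrix (Fin m ⊕ Fin m) (Fin m ⊕ Fin m) F := (P : Matrix (Fin n) (Fin n) F).submatrix e e with hP'
    have hP'det : P'.det = 1 := by rw [hP', Matrix.det_submatrix_equiv_self, Matrix.SpecialLinearGroup.det_coe]
    have hPM : P' * M₀.map F₀.subtype = S' * P' := by
      have h1 : M₀.map F₀.subtype = ((P⁻¹ * xs * P : Matrix.SpecialLinearGroup (Fin n) F) : Matrix (Fin n) (Fin n) F).submatrix e e - 1 := by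
        rw [← hy1]
        ext i j
        simp [hM₀, hcc, Matrix.one_apply, e.injective.eq_iff]
        split_ifs <;> simp [hcc]
      rw [h1, mul_sub, mul_one, hP', Matrix.submatrix_mul_equiv, ← Matrix.SpecialLinearGroup.coe_mul,
        show P * (P⁻¹ * xs * P) = xs * P by group, Matrix.SpecialLinearGroup.coe_mul,
        ← Matrix.submatrix_mul_equiv _ _ _ e, show (xs : Matrix (Fin n) (Fin n) F).submatrix e e = 1 + S' by
          ext i j; simp [xs, A], add_mul, one_mul, add_sub_cancel_left]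
    have hMinj : Function.Injective (fun v : Fin m ⊕ Fin m → F => P' *ᵥ v) :=
      Matrix.mulVec_injective_iff_isUnit.2 ((Matrix.isUnit_iff_isUnit_det _).2 (by rw [hP'det]; exact isUnit_one))
    have hMM : ∀ v, M₀ *ᵥ (M₀ *ᵥ v) = 0 := fun v => by
      rw [Matrix.mulVec_mulVec]
      have h1 : (M₀ * M₀).map F₀.subtype = 0 := by
        have h2 : P' * (M₀.map F₀.subtype * M₀.map F₀.subtype) = 0 := by
          rw [← mul_assoc, hPM, mul_assoc, hPM, ← mul_assoc, hSS, zero_mul]
        rw [Matrix.map_mul]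
        ext i j
        have h3 := congrFun (congrFun h2 i) j
        have h4 : (M₀.map F₀.subtype * M₀.map F₀.subtype) = 0 := by
          rw [← one_mul (M₀.map F₀.subtype * M₀.map F₀.subtype),
            ← Matrix.nonsing_inv_mul P' (by rw [hP'det]; exact isUnit_one), mul_assoc, h2, mul_zero]
        rw [h4]
      rw [Matrix.map_injective Subtype.val_injective (h1.trans (Matrix.map_zero _ rfl).symm), Matrix.zero_mulVec]
    obtain ⟨j, b₀, hb1, hb2, hb3⟩ := SquareZero.exists_basis (Matrix.toLin' M₀) (fun v => by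
      simp only [Matrix.toLin'_apply]; exact hMM v)
    let r := finrank F₀ (LinearMap.range (Matrix.toLin' M₀))
    rcases Nat.eq_zero_or_pos j with hj | hj
    swap
    · have hcoord : ∀ y, b₀.coord (.inr ⟨0, hj⟩) (Matrix.toLin' M₀ y) = 0 := fun y => by
        refine LinearMap.congr_fun (b₀.ext (f₁ := b₀.coord (.inr ⟨0, hj⟩) ∘ₗ Matrix.toLin' M₀) (f₂ := 0) fun i => ?_) y
        rcases i with (i | i) | i
        · simp [-Matrix.toLin'_apply, hb1]
        · simp [-Matrix.toLin'_apply, hb2]
        · simp [-Matrix.toLin'_apply, hb3]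
      set v := b₀ (.inr ⟨0, hj⟩) with hv
      have hv0 : M₀ *ᵥ v = 0 := by rw [← Matrix.toLin'_apply]; exact hb3 _
      set vF : Fin m ⊕ Fin m → F := fun i => (v i : F) with hvF
      have h1 : M₀.map F₀.subtype *ᵥ vF = 0 := by
        funext i
        have := congrFun hv0 i
        simpa [Matrix.mulVec, dotProduct, hvF] using congrArg (fun t : F₀ => (t : F)) this
      have h2 : S' *ᵥ (P' *ᵥ vF) = 0 := by rw [Matrix.mulVec_mulVec, ← hPM, ← Matrix.mulVec_mulVec, h1, Matrix.mulVec_zero]
      set y := P' *ᵥ vF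
      have hΔu : IsUnit Δ.det := by rw [hΔ]; exact hν0.isUnit
      have h3 : Δ *ᵥ (y ∘ Sum.inl) = 0 := by
        have := congrArg (fun f => f ∘ Sum.inr) h2
        simpa [hS', Matrix.fromBlocks_mulVec] using this
      have h4 : y ∘ Sum.inl = 0 := Matrix.mulVec_injective_iff_isUnit.2 ((Matrix.isUnit_iff_isUnit_det _).2 hΔu)
        (h3.trans (Matrix.mulVec_zero _).symm)
      obtain ⟨y', hy'⟩ : ∃ y', S' *ᵥ y' = y := ⟨Sum.elim (Δ⁻¹ *ᵥ (y ∘ Sum.inr)) 0, by
        funext i
        rcases i with i | i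
        · simpa [hS', Matrix.fromBlocks_mulVec] using (congrFun h4 i).symm
        · simp [hS', Matrix.fromBlocks_mulVec, Matrix.mul_nonsing_inv _ hΔu]⟩
      obtain ⟨z', hz'⟩ : ∃ z', P' *ᵥ z' = y' := ⟨P'⁻¹ *ᵥ y', by
        rw [Matrix.mulVec_mulVec, Matrix.mul_nonsing_inv _ (by rw [hP'det]; exact isUnit_one), Matrix.one_mulVec]⟩
      have h5 : M₀.map F₀.subtype *ᵥ z' = vF := hMinj (by
        show P' *ᵥ _ = P' *ᵥ _
        rw [Matrix.mulVec_mulVec, hPM, ← Matrix.mulVec_mulVec, hz', hy'])
      obtain ⟨π, hπ⟩ := LinearMap.exists_leftInverse_of_injective (Algebra.linearMap F₀ F)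
        (LinearMap.ker_eq_bot.2 (algebraMap F₀ F).injective)
      have hπ1 : ∀ a : F₀, π (a : F) = a := fun a => LinearMap.congr_fun hπ a
      have h6 : Matrix.toLin' M₀ (fun i => π (z' i)) = v := by
        funext i
        have := congrArg π (congrFun h5 i)
        simp only [hvF, hπ1, Matrix.mulVec, dotProduct, map_sum, Matrix.map_apply] at this
        rw [← this, Matrix.toLin'_apply, Matrix.mulVec, dotProduct]
        refine Finset.sum_congr rfl fun s _ => ?_
        show _ = π (((M₀ i s : F₀) : F) * z' s)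
        rw [← smul_eq_mul (M₀ i s) (π (z' s)), ← map_smul]; rfl
      have := hcoord (fun i => π (z' i))
      rw [h6, hv, Basis.coord_apply, Basis.repr_self, Finsupp.single_eq_same] at this
      exact one_ne_zero this
    subst hj
    have hrm : r = m := by
      have := Module.finrank_eq_card_basis b₀
      simp at this
      omega
    let σ : Fin m ⊕ Fin m ≃ (Fin r ⊕ Fin r) ⊕ Fin 0 :=
      ((finCongr hrm.symm).sumCongr (finCongr hrm.symm)).trans (Equiv.sumEmpty _ _).symm
    let Q₀ : Matrix (Fin m ⊕ Fin m) (Fin m ⊕ Fin m) F₀ := Matrix.of fun i t => b₀ (σ t) i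
    have hQ₀ : Q₀.det ≠ 0 := by
      have : Q₀ = (Pi.basisFun F₀ (Fin m ⊕ Fin m)).toMatrix (b₀.reindex σ.symm) := by
        ext i t; simp [Q₀, Module.Basis.toMatrix_apply]
      rw [this, ← Module.Basis.det_apply]
      exact ((Pi.basisFun F₀ _).isUnit_det (b₀.reindex σ.symm)).ne_zero
    have hMQ : M₀ * Q₀ = Q₀ * Matrix.fromBlocks 0 0 1 0 := by
      ext i t
      rcases t with t | t
      · have := congrFun (hb1 ((finCongr hrm.symm) t)) i
        rw [Matrix.toLin'_apply] at this
        replace this := congrArg (fun y : F₀ => (y : F)) this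
        simp [Matrix.mul_apply, Fintype.sum_sum_type, Matrix.one_apply]
        simpa [Q₀, σ, Matrix.mulVec, dotProduct, Fintype.sum_sum_type] using this
      · have := congrFun (hb2 ((finCongr hrm.symm) t)) i
        rw [Matrix.toLin'_apply] at this
        replace this := congrArg (fun y : F₀ => (y : F)) this
        simp [Matrix.mul_apply, Fintype.sum_sum_type]
        simpa [Q₀, σ, Matrix.mulVec, dotProduct, Fintype.sum_sum_type] using this
    set W := P' * Q₀.map F₀.subtype with hW
    have hWS : S' * W = W * Matrix.fromBlocks 0 0 1 0 := by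
      have hone : (Matrix.fromBlocks 0 0 1 0 : Matrix (Fin m ⊕ Fin m) (Fin m ⊕ Fin m) F) =
          (Matrix.fromBlocks 0 0 1 0 : Matrix (Fin m ⊕ Fin m) (Fin m ⊕ Fin m) F₀).map F₀.subtype := by
        simp [Matrix.fromBlocks_map]
      rw [hW, ← mul_assoc, ← hPM, mul_assoc, ← Matrix.map_mul, hMQ, Matrix.map_mul, ← hone, mul_assoc]
    have hdW : W.det = ((Q₀.det : F₀) : F) := by
      rw [hW, Matrix.det_mul, hP'det, one_mul, ← RingHom.mapMatrix_apply, ← RingHom.map_det]
      rfl
    rw [← Matrix.fromBlocks_toBlocks W, hS', Matrix.fromBlocks_multiply, Matrix.fromBlocks_multiply] at hWS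
    simp only [Matrix.zero_mul, Matrix.mul_zero, Matrix.mul_one, add_zero, zero_add] at hWS
    obtain ⟨h11, -, h21, -⟩ := Matrix.fromBlocks_inj.1 hWS
    rw [← Matrix.fromBlocks_toBlocks W, ← h11, Matrix.det_fromBlocks_zero₁₂, ← h21, Matrix.det_mul, hΔ] at hdW
    have hQF : ((Q₀.det : F₀) : F) ≠ 0 := fun e0 => hQ₀ (Subtype.ext e0)
    obtain ⟨t, ht⟩ := hsq _ hQF
    have hA0 : W.toBlocks₁₁.det ≠ 0 := fun e0 => hQF (by rw [← hdW, e0, zero_mul])
    refine hν ⟨t / W.toBlocks₁₁.det, ?_⟩
    field_simp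
    linear_combination hdW + ht
  · intro hnk x hx1 hx2
    obtain ⟨z, hz⟩ := hx1
    obtain ⟨l, hl⟩ := hcube z
    let T : (Fin n → F) →ₗ[F] (Fin n → F) := Matrix.toLin' (x : Matrix (Fin n) (Fin n) F)
    have hT : ∀ v, T v = (x : Matrix (Fin n) (Fin n) F) *ᵥ v := fun v => Matrix.toLin'_apply _ _
    have hTT : ∀ v, T (T (T v)) = z • v := fun v => by
      rw [hT, hT, hT, Matrix.mulVec_mulVec, Matrix.mulVec_mulVec, ← pow_three', ← Matrix.SpecialLinearGroup.coe_pow, hz,
        Matrix.smul_mulVec, Matrix.one_mulVec]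
    have hl0 : l ≠ 0 := fun e0 => by
      have h1 := congrArg Matrix.det hz
      rw [Matrix.SpecialLinearGroup.det_coe, Matrix.det_smul, Matrix.det_one, Fintype.card_fin, ← hl, e0,
        zero_pow (by norm_num : (3 : ℕ) ≠ 0), zero_pow (by omega : n ≠ 0), zero_mul] at h1
      exact one_ne_zero h1
    let N : (Fin n → F) →ₗ[F] (Fin n → F) := l⁻¹ • T - LinearMap.id
    have hN : ∀ v, N (N (N v)) = 0 := fun v => by
      have h0 : ∀ y : Fin n → F, (3 : F) • y = 0 := fun y => by rw [h30, zero_smul]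
      set S : (Fin n → F) →ₗ[F] (Fin n → F) := l⁻¹ • T with hS
      have hS3 : S (S (S v)) = v := by
        simp only [hS, LinearMap.smul_apply, map_smul, hTT, smul_smul]
        rw [← hl]
        convert one_smul F v using 2
        field_simp
      have hNS : ∀ y, N y = S y - y := fun y => rfl
      simp only [hNS, map_sub, hS3]
      linear_combination (norm := module) h0 (S v) - h0 (S (S v))
    obtain ⟨r, s, j, b, h1, h2, h3, h4⟩ := SubfieldCube.exists_basis N hN
    have hTb : ∀ v, T v = l • N v + l • v := fun v => by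
      simp [N, smul_sub, smul_smul, hl0]
    let g₁ : Matrix (Fin r × Fin 3) (Fin r × Fin 3) F₀ :=
      Matrix.of fun i t => if i.1 = t.1 ∧ ((i.2 : ℕ) = t.2 ∨ (i.2 : ℕ) = t.2 + 1) then 1 else 0
    let g₂ : Matrix ((Fin s ⊕ Fin s) ⊕ Fin j) ((Fin s ⊕ Fin s) ⊕ Fin j) F₀ :=
      Matrix.fromBlocks (Matrix.fromBlocks 1 0 1 1) 0 0 1
    refine SubfieldCube.conj_mem_ratio F₀ x b hl0 (Matrix.fromBlocks g₁ 0 0 g₂) (fun i => ?_) fun r0 hr0 => ?_
    · have hite : ∀ (P : Prop) [Decidable P] (y : Fin n → F), (((if P then 1 else 0 : F₀) : F)) • y = if P then y else 0 := by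
        intro P _ y
        split_ifs <;> simp
      rw [← hT, hTb]
      rcases i with ⟨i, a⟩ | (i | i) | i
      · fin_cases a <;> simp [g₁, Fintype.sum_sum_type, Fintype.sum_prod_type, Fin.sum_univ_three, hite, ite_and,
          (h1 i).1, (h1 i).2.1, (h1 i).2.2, Finset.sum_add_distrib] <;> try module
      · simp [g₂, h2, Fintype.sum_sum_type, Matrix.one_apply, hite]
        try module
      · simp [g₂, h3, Fintype.sum_sum_type, Matrix.one_apply, hite]
      · simp [g₂, h4, Fintype.sum_sum_type, Matrix.one_apply, hite]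
    · rcases Nat.eq_zero_or_pos r with hr | hr
      swap
      · obtain ⟨t, ht⟩ := hcube r0
        refine ⟨Sum.elim (fun p => Function.update (1 : Fin r → F) ⟨0, hr⟩ t p.1) 1, ?_, ?_⟩
        · simp [Fintype.prod_sum_type, Fintype.prod_prod_type, Finset.prod_pow, Finset.prod_update_of_mem, ht]
        · rintro (⟨i, a⟩ | i) (⟨i', a'⟩ | i') hne
          · refine ⟨1, ?_⟩
            simp [g₁] at hne
            simp [hne.1]
          · simp at hne
          · simp at hne
          · exact ⟨1, by simp⟩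
      rcases Nat.eq_zero_or_pos j with hj | hj
      swap
      · refine ⟨Sum.elim 1 (Sum.elim 1 (Function.update 1 ⟨0, hj⟩ r0)), ?_, ?_⟩
        · simp [Fintype.prod_sum_type, Finset.prod_update_of_mem]
        · rintro (i | (i | i) | i) (i' | (i' | i') | i') hne <;>
            simp [g₂, Matrix.one_apply] at hne ⊢ <;> refine ⟨1, ?_⟩ <;> simp [hne]
      subst hr hj
      have hn2 : n = s + s := by
        have := Module.finrank_eq_card_basis b
        simpa using this
      have hkodd : Odd k := by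
        rcases hnk with ho | ⟨-, hk2⟩
        · exact absurd ho (Nat.not_odd_iff_even.2 ⟨s, hn2⟩)
        · exact hk.odd_of_ne_two (by omega)
      obtain ⟨t, w, htw⟩ : ∃ (t : F) (w : F₀), r0 = t * t * w := by
        obtain ⟨w₀, hw₀⟩ := FiniteField.exists_nonsquare (F := F₀) (by rw [ringChar.eq F₀ 3]; norm_num)
        have hw0 : w₀ ≠ 0 := fun e0 => hw₀ (e0 ▸ IsSquare.zero)
        have hw1 : (w₀ : F) ^ (Fintype.card F / 2) = -1 := by
          have h1 : w₀ ^ (q₀ / 2) = -1 := by
            have h := FiniteField.pow_dichotomy (F := F₀) (by rw [ringChar.eq F₀ 3]; norm_num) hw0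
            rw [hq₀'] at h
            refine h.resolve_left fun e0 => hw₀ ((FiniteField.isSquare_iff (by rw [ringChar.eq F₀ 3]; norm_num) hw0).2 ?_)
            rwa [hq₀']
          obtain ⟨o, ho, he⟩ := SubfieldInvol.sub_one_factor (a := q₀) ⟨q', hq'⟩ hkodd 1
          rw [pow_one, pow_one] at he
          have h2 : Fintype.card F / 2 = q₀ / 2 * o := by
            rw [hq, hqk]
            have h3 : q₀ / 2 = q' := by omega
            have h4 : q₀ - 1 = 2 * q' := by omega
            rw [h4, mul_assoc] at he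
            rw [h3]
            have h5 : 1 ≤ q₀ ^ k := Nat.one_le_pow _ _ (by omega)
            omega
          rw [h2, pow_mul, ← SubmonoidClass.coe_pow, h1]
          push_cast
          exact ho.neg_one_pow
        rcases FiniteField.pow_dichotomy hchar hr0 with h | h
        · obtain ⟨t, ht⟩ := (FiniteField.isSquare_iff hchar hr0).2 h
          exact ⟨t, 1, by simp [ht]⟩
        · have hwF : (w₀ : F) ≠ 0 := fun e0 => hw0 (Subtype.ext e0)
          obtain ⟨t, ht⟩ := (FiniteField.isSquare_iff hchar (div_ne_zero hr0 hwF)).2 (by rw [div_pow, h, hw1]; ring)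
          exact ⟨t, w₀, by rw [← ht, div_mul_cancel₀ _ hwF]⟩
      have hwF : (w : F) ≠ 0 := fun e0 => hr0 (by rw [htw, e0, mul_zero])
      let d₀ : Fin s → F := Function.update 1 ⟨0, by omega⟩ t
      let d₁ : Fin s → F := Function.update 1 ⟨0, by omega⟩ (t * w)
      refine ⟨Sum.elim 1 (Sum.elim (Sum.elim d₀ d₁) 1), ?_, ?_⟩
      · simp [Fintype.prod_sum_type, d₀, d₁, Finset.prod_update_of_mem, htw, mul_assoc]
        exact Or.inl (mul_comm _ _)
      · rintro (⟨i, -⟩ | (i | i) | i) (⟨i', -⟩ | (i' | i') | i') hne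
        all_goals first
          | exact i.elim0
          | exact i'.elim0
          | (simp [g₂, Matrix.one_apply] at hne; done)
          | (simp [g₂, Matrix.one_apply] at hne; subst hne; refine ⟨1, ?_⟩; simp; done)
          | skip
        simp [g₂, Matrix.one_apply] at hne
        subst hne
        rcases eq_or_ne i ⟨0, by omega⟩ with rfl | hi
        · exact ⟨w⁻¹, by simp [d₀, d₁]; field_simp⟩
        · exact ⟨1, by simp [d₀, d₁, Function.update_of_ne hi]⟩

end Cfsg.Agent.S5966
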