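import Cfsg.Statements.S5967
import Cfsg.Agent.Lib.Classical.SimilitudeConj
import Cfsg.Agent.Lib.Classical.SquareZero

set_option autoImplicit false
open scoped MatrixGroups
open Cfsg

open Cfsg.Agent.Classical Module
open Matrix hiding toLin'
set_option maxHeartbeats 1000000

namespace Cfsg.Agent.S5967

/-- Involutions of PSL_n(q) and the symplectic-type subgroups. Here `T = PSL_n(F)` for a field `F` with `q` elements, `n ≥ 4` even, `f` is a nondegenerate alternating form on `F^n`, and `H` is the subgroup of matrices of determinant 1 preserving `f` up to a scalar — a maximal subgroup of type Sp_n(q); Ω is the set of `T`-conjugates of `H` (cosets of `H`), so an element of `T` of prime order `r` (a matrix `x` of determinant 1 with `x^r` scalar, `x` not scalar) fixes a point of Ω when some conjugate of `x` by a matrix of determinant 1 preserves `f` up to a scalar. Suppose the index of `H` is even. Then every involution of `T` is conjugate in `T` into `H` if and only if `(q − 1)_2 ≤ (n)_2`. -/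
theorem result {F : Type*} [Field F] [Fintype F] {p : ℕ} [Fact p.Prime] [CharP F p] {q : ℕ} (hq : Fintype.card F = q)
    (n : ℕ) (hn : 4 ≤ n) (he : Even n) (f : (Fin n → F) → (Fin n → F) → F) (hf : Cfsg.Geo.IsSymplecticForm f)
    (hΩ : 2 ∣ ((Cfsg.Geo.similarityGroup f).comap (Matrix.SpecialLinearGroup.toGL : Matrix.SpecialLinearGroup (Fin n) F →* GL (Fin n) F)).index) :
    (∀ x : Matrix.SpecialLinearGroup (Fin n) F,
      (∃ z : F, ((x ^ 2 : Matrix.SpecialLinearGroup (Fin n) F) : Matrix (Fin n) (Fin n) F) = z • (1 : Matrix (Fin n) (Fin n) F)) →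
      (∀ z : F, (x : Matrix (Fin n) (Fin n) F) ≠ z • (1 : Matrix (Fin n) (Fin n) F)) →
      ∃ P : Matrix.SpecialLinearGroup (Fin n) F, P⁻¹ * x * P ∈ ((Cfsg.Geo.similarityGroup f).comap (Matrix.SpecialLinearGroup.toGL : Matrix.SpecialLinearGroup (Fin n) F →* GL (Fin n) F))) ↔
    padicValNat 2 (q - 1) ≤ padicValNat 2 n := by
  classical
  have hn0 : n ≠ 0 := by omega
  have hq0 : q - 1 ≠ 0 := by
    have := Fintype.one_lt_card (α := F)
    omega
  obtain ⟨s, m, hm, hnm⟩ := Nat.exists_eq_two_pow_mul_odd hn0
  obtain ⟨u, w, hw, hqw⟩ := Nat.exists_eq_two_pow_mul_odd hq0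
  have hval : ∀ (k o : ℕ), Odd o → padicValNat 2 (2 ^ k * o) = k := fun k o ho => by
    rw [padicValNat.mul (by positivity) (fun e => by simp [e] at ho), padicValNat.prime_pow,
      padicValNat.eq_zero_of_not_dvd (fun d => Nat.not_even_iff_odd.2 ho (even_iff_two_dvd.2 d)), add_zero]
  rw [show padicValNat 2 (q - 1) = u by rw [hqw, hval u w hw], show padicValNat 2 n = s by rw [hnm, hval s m hm]]
  constructor
  · intro h
    by_contra hlt
    push Not at hlt
    -- an element that is no similitude
    obtain ⟨y, hy⟩ := IsCyclic.exists_generator (α := Fˣ)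
    have hy' : orderOf y = 2 ^ u * w := by
      rw [orderOf_eq_card_of_forall_mem_zpowers hy, Nat.card_units, Nat.card_eq_fintype_card, hq, hqw]
    set L := y ^ (2 ^ (u - s - 1) * w) with hLdef
    have hLs : (L : F) ^ (2 ^ s) = -1 := by
      have h1 : ((L : F) ^ (2 ^ s)) * ((L : F) ^ (2 ^ s)) = 1 := by
        rw [← pow_add, ← Units.val_pow_eq_pow_val, hLdef, ← pow_mul]
        have h0 : 2 ^ (u - s - 1) * w * (2 ^ s + 2 ^ s) = 2 ^ u * w := by
          have : 2 ^ u = 2 ^ (u - s - 1) * (2 ^ s + 2 ^ s) := by
            rw [← mul_two, ← mul_assoc, ← pow_add, ← pow_succ]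
            congr 1
            omega
          rw [this]; ring
        rw [h0, ← hy', pow_orderOf_eq_one, Units.val_one]
      refine (mul_self_eq_one_iff.1 h1).resolve_left fun e => ?_
      rw [← Units.val_pow_eq_pow_val, Units.val_eq_one, hLdef, ← pow_mul, ← orderOf_dvd_iff_pow_eq_one, hy'] at e
      have h0 : 2 ^ u * w = 2 * (2 ^ (u - s - 1) * w * 2 ^ s) := by
        have : 2 ^ u = 2 * (2 ^ (u - s - 1) * 2 ^ s) := by
          rw [← pow_add, ← pow_succ']
          congr 1
          omega
        rw [this]; ring
      have hpos : 0 < 2 ^ (u - s - 1) * w * 2 ^ s := by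
        have := hw.pos
        positivity
      have := Nat.le_of_dvd hpos e
      omega
    set l : F := (L : F) with hl
    have hl0 : l ≠ 0 := L.ne_zero
    have h21 : (-1 : F) ≠ 1 := by
      intro e
      have he2 : (2 : F) = 0 := by linear_combination -e
      have hc : CharP F 2 := CharTwo.of_one_ne_zero_of_two_eq_zero one_ne_zero he2
      obtain ⟨k, -, hk⟩ := FiniteField.card F 2
      have hev : Even q := by
        rw [← hq, hk]
        exact (Nat.even_pow.2 ⟨even_two, k.ne_zero⟩)
      rw [Nat.even_iff] at hev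
      obtain ⟨u', rfl⟩ : ∃ u', u = u' + 1 := ⟨u - 1, by omega⟩
      rw [pow_succ', mul_assoc] at hqw
      omega
    let e : Fin n := ⟨n - 1, by omega⟩
    let ε : Fin n → F := fun i => if i = e then -l else l
    have hdet : (Matrix.diagonal ε).det = 1 := by
      have hln : l ^ n = -1 := by rw [hnm, pow_mul, hLs, hm.neg_one_pow]
      rw [Matrix.det_diagonal, ← Finset.mul_prod_erase _ _ (Finset.mem_univ e)]
      rw [Finset.prod_congr rfl (g := fun _ => l) (fun i hi => if_neg (Finset.mem_erase.1 hi).1), Finset.prod_const,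
        Finset.card_erase_of_mem (Finset.mem_univ e), Finset.card_univ, Fintype.card_fin]
      show (if e = e then -l else l) * l ^ (n - 1) = 1
      rw [if_pos rfl, neg_mul, ← pow_succ', show n - 1 + 1 = n by omega, hln, neg_neg]
    let xs : Matrix.SpecialLinearGroup (Fin n) F := ⟨Matrix.diagonal ε, hdet⟩
    obtain ⟨P, μ, hP⟩ := h xs ⟨l * l, by
        rw [pow_two, Matrix.SpecialLinearGroup.coe_mul]
        show Matrix.diagonal ε * Matrix.diagonal ε = _
        rw [Matrix.diagonal_mul_diagonal, Matrix.smul_one_eq_diagonal]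
        congr 1
        funext i
        simp only [ε]
        split_ifs <;> ring⟩
      (fun z hz => by
        have h1 : ε e = z := by
          have := congrFun (congrFun hz e) e
          simpa [xs] using this
        have h2 : ε ⟨0, by omega⟩ = z := by
          have := congrFun (congrFun hz ⟨0, by omega⟩) ⟨0, by omega⟩
          simpa [xs] using this
        simp only [ε, e, if_pos] at h1
        simp only [ε, e, Fin.ext_iff, show (0 : ℕ) ≠ n - 1 by omega, if_false] at h2
        exact h21 (mul_right_cancel₀ hl0 (by rw [neg_one_mul, one_mul]; exact h1.trans h2.symm)))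
    let f' : (Fin n → F) → (Fin n → F) → F := fun v w =>
      f ((P⁻¹ : Matrix.SpecialLinearGroup (Fin n) F).1 *ᵥ v) ((P⁻¹ : Matrix.SpecialLinearGroup (Fin n) F).1 *ᵥ w)
    have hx' : ∀ v w, f' ((xs : Matrix (Fin n) (Fin n) F) *ᵥ v) ((xs : Matrix (Fin n) (Fin n) F) *ᵥ w) = μ * f' v w := by
      intro v w
      have h1 := hP ((P⁻¹ : Matrix.SpecialLinearGroup (Fin n) F).1 *ᵥ v) ((P⁻¹ : Matrix.SpecialLinearGroup (Fin n) F).1 *ᵥ w)
      have key : ∀ v, ((P⁻¹ * xs * P : Matrix.SpecialLinearGroup (Fin n) F) : Matrix (Fin n) (Fin n) F) *ᵥ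
          ((P⁻¹ : Matrix.SpecialLinearGroup (Fin n) F).1 *ᵥ v) =
          (P⁻¹ : Matrix.SpecialLinearGroup (Fin n) F).1 *ᵥ ((xs : Matrix (Fin n) (Fin n) F) *ᵥ v) := fun v => by
        rw [Matrix.mulVec_mulVec, ← Matrix.SpecialLinearGroup.coe_mul, mul_inv_cancel_right,
          Matrix.SpecialLinearGroup.coe_mul, ← Matrix.mulVec_mulVec]
      change f (((P⁻¹ * xs * P : Matrix.SpecialLinearGroup (Fin n) F) : Matrix (Fin n) (Fin n) F) *ᵥ _)
        (((P⁻¹ * xs * P : Matrix.SpecialLinearGroup (Fin n) F) : Matrix (Fin n) (Fin n) F) *ᵥ _) = _ at h1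
      rw [key, key] at h1
      exact h1
    have hxe : ∀ i, (xs : Matrix (Fin n) (Fin n) F) *ᵥ Pi.single i 1 = ε i • (Pi.single i 1 : Fin n → F) := fun i => by
      funext j
      simp [xs, Matrix.mulVec_diagonal, Pi.single_apply]
      split_ifs with hij <;> simp_all
    have hfs : ∀ i j, f' (Pi.single i 1) (Pi.single j 1) * (ε i * ε j - μ) = 0 := fun i j => by
      have h1 := hx' (Pi.single i 1) (Pi.single j 1)
      rw [hxe, hxe] at h1
      simp only [f', Matrix.mulVec_smul, hf.bilinear.smul_left, hf.bilinear.smul_right] at h1 ⊢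
      linear_combination h1
    have hrad : ∀ v, (∀ j, f' v (Pi.single j 1) = 0) → v = 0 := by
      intro v hv
      by_contra hv0
      have hv1 : (P⁻¹ : Matrix.SpecialLinearGroup (Fin n) F).1 *ᵥ v ≠ 0 := fun e0 => hv0 (by
        have := congrArg (fun y => (P : Matrix (Fin n) (Fin n) F) *ᵥ y) e0
        rwa [Matrix.mulVec_mulVec, ← Matrix.SpecialLinearGroup.coe_mul, mul_inv_cancel,
          Matrix.SpecialLinearGroup.coe_one, Matrix.one_mulVec, Matrix.mulVec_zero] at this)
      obtain ⟨y, hy⟩ := (hf.nondegenerate _ hv1).2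
      apply hy
      let φ : (Fin n → F) →ₗ[F] F := (MaxLin.bilinOf hf.bilinear ((P⁻¹ : Matrix.SpecialLinearGroup (Fin n) F).1 *ᵥ v)) ∘ₗ
        Matrix.toLin' (P⁻¹ : Matrix.SpecialLinearGroup (Fin n) F).1
      have hφ : φ = 0 := LinearMap.pi_ext fun j r => by
        show f _ (Matrix.toLin' _ (Pi.single j r)) = 0
        rw [Matrix.toLin'_apply, show (Pi.single j r : Fin n → F) = r • Pi.single j 1 by
          rw [← Pi.single_smul, smul_eq_mul, mul_one], Matrix.mulVec_smul, hf.bilinear.smul_right]
        exact mul_eq_zero_of_right r (hv j)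
      have h2 := LinearMap.congr_fun hφ ((P : Matrix (Fin n) (Fin n) F) *ᵥ y)
      change f _ (Matrix.toLin' _ _) = 0 at h2
      rwa [Matrix.toLin'_apply, Matrix.mulVec_mulVec, ← Matrix.SpecialLinearGroup.coe_mul, inv_mul_cancel,
        Matrix.SpecialLinearGroup.coe_one, Matrix.one_mulVec] at h2
    have hne : ∀ j, ε j = if j = e then -l else l := fun j => rfl
    by_cases hμ : l * l = μ
    · refine one_ne_zero (α := F) ?_
      have h0 := congrFun (hrad (Pi.single e 1) fun j => by
        rcases eq_or_ne j e with rfl | hj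
        · exact hf.alternating _
        · refine (mul_eq_zero.1 (hfs e j)).resolve_right fun h1 => h21 ?_
          rw [hne, hne, if_pos rfl, if_neg hj, ← hμ] at h1
          have : (2 : F) * (l * l) = 0 := by linear_combination -h1
          have h22 := (mul_eq_zero.1 this).resolve_right (mul_ne_zero hl0 hl0)
          linear_combination -h22) e
      simpa using h0
    · have hpp : ∀ i j, i ≠ e → j ≠ e → f' (Pi.single i 1) (Pi.single j 1) = 0 := fun i j hi hj =>
        (mul_eq_zero.1 (hfs i j)).resolve_right fun h1 => hμ (by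
          rw [hne, hne, if_neg hi, if_neg hj] at h1; linear_combination h1)
      let i₀ : Fin n := ⟨0, by omega⟩
      let i₁ : Fin n := ⟨1, by omega⟩
      have hi₀ : i₀ ≠ e := by simp only [i₀, e, ne_eq, Fin.ext_iff]; omega
      have hi₁ : i₁ ≠ e := by simp only [i₁, e, ne_eq, Fin.ext_iff]; omega
      set c₀ := f' (Pi.single i₀ 1) (Pi.single e 1) with hc0
      set c₁ := f' (Pi.single i₁ 1) (Pi.single e 1) with hc1
      have hadd : ∀ (r r' : F) v v' w, f' (r • v + r' • v') w = r * f' v w + r' * f' v' w := fun r r' v v' w => by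
        simp only [f', Matrix.mulVec_add, Matrix.mulVec_smul, hf.bilinear.add_left, hf.bilinear.smul_left]
      have hu := hrad (c₁ • Pi.single i₀ 1 + (-c₀) • Pi.single i₁ 1) fun j => by
        rw [hadd]
        rcases eq_or_ne j e with rfl | hj
        · rw [← hc0, ← hc1]; ring
        · rw [hpp _ _ hi₀ hj, hpp _ _ hi₁ hj]; ring
      have hc0' : c₀ = 0 := by
        have := congrFun hu i₁
        simpa [i₀, i₁, Pi.single_apply, Fin.ext_iff] using this
      refine one_ne_zero (α := F) ?_
      have h0 := congrFun (hrad (Pi.single i₀ 1) fun j => by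
        rcases eq_or_ne j e with rfl | hj
        · exact hc0'
        · exact hpp _ _ hi₀ hj) i₀
      simpa using h0
  · intro hus x hx1 hx2
    obtain ⟨z, hz⟩ := hx1
    let T : (Fin n → F) →ₗ[F] (Fin n → F) := Matrix.toLin' (x : Matrix (Fin n) (Fin n) F)
    have hT : ∀ v, T v = (x : Matrix (Fin n) (Fin n) F) *ᵥ v := fun v => Matrix.toLin'_apply _ _
    have hTT : ∀ v, T (T v) = z • v := fun v => by
      rw [← LinearMap.comp_apply, ← Matrix.toLin'_mul, ← Matrix.SpecialLinearGroup.coe_mul, ← pow_two, hz,
        map_smul, Matrix.toLin'_one, LinearMap.smul_apply, LinearMap.id_apply]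
    have hz0 : z ≠ 0 := fun e => by
      have h1 := congrArg Matrix.det hz
      rw [Matrix.SpecialLinearGroup.det_coe, Matrix.det_smul, Matrix.det_one, Fintype.card_fin, e, zero_pow hn0,
        zero_mul] at h1
      exact one_ne_zero h1
    have hnot : ∀ l : F, (2 : F) ≠ 0 → l ^ n ≠ -1 := fun l h2 e => by
      apply h2
      have h1 : (l ^ n) ^ w = 1 := by
        obtain ⟨d, hd⟩ := Nat.exists_eq_add_of_le hus
        have hnw : n * w = (q - 1) * (2 ^ d * m) := by rw [hqw, hnm, hd, pow_add]; ring
        rw [← pow_mul, hnw, pow_mul, ← hq,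
          FiniteField.pow_card_sub_one_eq_one l (fun e0 => by rw [e0, zero_pow hn0] at e; exact one_ne_zero (neg_eq_zero.1 e.symm)),
          one_pow]
      rw [e, hw.neg_one_pow] at h1
      linear_combination -h1
    by_cases h20 : (2 : F) = 0
    · -- characteristic two
      have hneg : ∀ r : F, -r = r := fun r => by linear_combination -r * h20
      haveI : CharP F 2 := CharTwo.of_one_ne_zero_of_two_eq_zero one_ne_zero h20
      have hsq : ∀ r : F, IsSquare r := fun r => FiniteField.isSquare_of_char_two (ringChar.eq F 2) r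
      obtain ⟨l, hl⟩ := hsq z
      let N : (Fin n → F) →ₗ[F] (Fin n → F) := T - l • LinearMap.id
      have hN : ∀ v, N (N v) = 0 := fun v => by
        have hll : l • T v + l • T v = 0 := by rw [← two_smul F, h20, zero_smul]
        simp only [N, LinearMap.sub_apply, LinearMap.smul_apply, LinearMap.id_apply, map_sub, map_smul, hTT,
          smul_sub, smul_smul, ← hl]
        have hzz : z • v + z • v = 0 := by rw [← two_smul F, h20, zero_smul]
        linear_combination (norm := module) hzz - hll
      obtain ⟨k, b, h1, h2, h3⟩ := SquareZero.exists_basis N hN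
      have hTb : ∀ v, T v = N v + l • v := fun v => by simp [N]
      let r := finrank F (LinearMap.range N)
      have hcard : n = r + r + k := by
        have := Module.finrank_eq_card_basis b
        simpa using this
      obtain ⟨j, hj⟩ : Even k := by
        rw [Nat.even_iff] at he ⊢
        omega
      let ψ : Fin j ⊕ Fin j ≃ Fin k := finSumFinEquiv.trans (finCongr hj.symm)
      let c' : (Fin r ⊕ Fin j) ⊕ (Fin r ⊕ Fin j) → Fin n → F :=
        Sum.elim (Sum.elim (fun i => b (.inl (.inl i))) fun i => b (.inr (ψ (.inl i))))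
          (Sum.elim (fun i => T (b (.inl (.inl i)))) fun i => b (.inr (ψ (.inr i))))
      have hspan : ⊤ ≤ Submodule.span F (Set.range c') := by
        rw [← b.span_eq, Submodule.span_le]
        rintro _ ⟨(i | i) | i, rfl⟩
        · exact Submodule.subset_span ⟨.inl (.inl i), rfl⟩
        · rw [← h1, show N (b (.inl (.inl i))) = c' (.inr (.inl i)) - l • c' (.inl (.inl i)) from rfl]
          exact Submodule.sub_mem _ (Submodule.subset_span ⟨_, rfl⟩) (Submodule.smul_mem _ _ (Submodule.subset_span ⟨_, rfl⟩))
        · obtain ⟨i | i, rfl⟩ := ψ.surjective i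
          · exact Submodule.subset_span ⟨.inl (.inr i), rfl⟩
          · exact Submodule.subset_span ⟨.inr (.inr i), rfl⟩
      let c := basisOfTopLeSpanOfCardEqFinrank c' hspan (by rw [Module.finrank_pi]; simp; omega)
      have hc : ∀ i, c i = c' i := fun i => by rw [coe_basisOfTopLeSpanOfCardEqFinrank]
      haveI : Nonempty (Fin r ⊕ Fin j) := Fintype.card_pos_iff.1 (by simp; omega)
      let k₀ : Fin r ⊕ Fin j := Classical.arbitrary _
      refine SimConj.exists_conj hf x c hz0 (Sum.elim (fun _ => 0) fun _ => l) (Sum.elim (fun _ => 1) fun _ => 0)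
        (Sum.elim (fun _ => z) fun _ => 0) (Sum.elim (fun _ => 0) fun _ => l) (fun i => ?_) (fun i => ?_) ?_ fun r0 hr0 => ?_
      · rcases i with i | i <;> rw [hc, hc, ← hT]
        · simp [c']
        · simp [c', hTb, h3]
      · rcases i with i | i <;> rw [hc, hc, ← hT]
        · simp [c', hTT]
        · simp [c', hTb, h3]
      · rintro (i | i) <;> simp [hneg, hl]
      · obtain ⟨s0, hs0⟩ := hsq r0
        have hs00 : s0 ≠ 0 := fun e => hr0 (by rw [hs0, e, mul_zero])
        refine ⟨Function.update 1 k₀ s0, 0, 0, Function.update 1 k₀ s0, by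
          rw [Finset.prod_update_of_mem (Finset.mem_univ _)]; simp [hs0], fun i => ?_⟩
        rcases eq_or_ne i k₀ with rfl | hi
        · simp [hs00, mul_comm]
        · simp [hi]
    by_cases hsq : IsSquare z
    · obtain ⟨l, hl⟩ := hsq
      have hl0 : l ≠ 0 := fun h => hz0 (by rw [hl, h, zero_mul])
      let Ep := LinearMap.ker (T - l • LinearMap.id)
      let Em := LinearMap.ker (T + l • LinearMap.id)
      have hp : ∀ v, v ∈ Ep ↔ T v = l • v := fun v => by simp [Ep, sub_eq_zero]
      have hm' : ∀ v, v ∈ Em ↔ T v = -(l • v) := fun v => by simp [Em, add_eq_zero_iff_eq_neg]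
      have h2l : (2 : F) * l ≠ 0 := mul_ne_zero h20 hl0
      have hcompl : IsCompl Ep Em := by
        refine ⟨Submodule.disjoint_def.2 fun v hv hv' => ?_, codisjoint_iff.2 (eq_top_iff.2 fun v _ => ?_)⟩
        · have h4 : (2 * l) • v = 0 := by
            rw [mul_smul, two_smul]; nth_rw 1 [← (hp v).1 hv]; rw [(hm' v).1 hv', neg_add_cancel]
          exact (smul_eq_zero.1 h4).resolve_left h2l
        refine Submodule.mem_sup.2 ⟨(2 * l)⁻¹ • (T v + l • v), ?_, (2 * l)⁻¹ • (l • v - T v), ?_, ?_⟩
        · rw [hp]
          simp only [map_smul, map_add, hTT, hl, smul_add, smul_smul]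
          rw [add_comm]
          congr 2 <;> ring
        · rw [hm']
          simp only [map_smul, map_sub, hTT, hl, smul_sub, smul_smul, neg_sub]
          congr 2 <;> ring
        · rw [← smul_add, show T v + l • v + (l • v - T v) = (2 * l) • v by module, smul_smul, inv_mul_cancel₀ h2l, one_smul]
      let c₀ := ((Module.finBasis F Ep).prod (Module.finBasis F Em)).map (Submodule.prodEquivOfIsCompl Ep Em hcompl)
      have hc₀ : ∀ i, T (c₀ i) = Sum.elim (fun _ => l) (fun _ => -l) i • c₀ i := by
        rintro (i | i)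
        · exact (hp _).1 (by simp [c₀])
        · exact ((hm' _).1 (by simp [c₀])).trans (neg_smul l _).symm
      have hdetT : l ^ n * (-1) ^ finrank F Em = 1 := by
        have h1 : LinearMap.toMatrix c₀ c₀ T = Matrix.diagonal (Sum.elim (fun _ => l) fun _ => -l) := by
          ext i j
          rw [LinearMap.toMatrix_apply, hc₀, map_smul, Module.Basis.repr_self, Finsupp.smul_single, Finsupp.single_apply,
            Matrix.diagonal_apply]
          rcases eq_or_ne i j with rfl | hij
          · simp
          · simp [hij, Ne.symm hij]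
        have h2 := LinearMap.det_toMatrix c₀ T
        rw [h1, Matrix.det_diagonal, Fintype.prod_sum_type] at h2
        simp only [Sum.elim_inl, Sum.elim_inr, Finset.prod_const, Finset.card_univ, Fintype.card_fin] at h2
        have h3 : finrank F Ep + finrank F Em = n := by
          rw [Submodule.finrank_add_eq_of_isCompl hcompl, Module.finrank_pi, Fintype.card_fin]
        calc l ^ n * (-1) ^ finrank F Em = l ^ (finrank F Ep + finrank F Em) * (-1) ^ finrank F Em := by rw [h3]
          _ = l ^ finrank F Ep * (-l) ^ finrank F Em := by rw [pow_add, neg_pow l (finrank F Em)]; ring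
          _ = 1 := by rw [h2, LinearMap.det_toLin', Matrix.SpecialLinearGroup.det_coe]
      obtain ⟨j₂, hj₂⟩ : Even (finrank F Em) := by
        rcases Nat.even_or_odd (finrank F Em) with h | h
        · exact h
        · exfalso
          rw [h.neg_one_pow, mul_neg_one] at hdetT
          exact hnot l h20 (by linear_combination -hdetT)
      obtain ⟨j₁, hj₁⟩ : Even (finrank F Ep) := by
        have h1 : finrank F Ep + finrank F Em = n := by
          rw [Submodule.finrank_add_eq_of_isCompl hcompl, Module.finrank_pi, Fintype.card_fin]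
        rw [Nat.even_iff] at he ⊢
        omega
      let ψ : (Fin (finrank F Ep) ⊕ Fin (finrank F Em)) ≃ (Fin j₁ ⊕ Fin j₂) ⊕ (Fin j₁ ⊕ Fin j₂) :=
        ((finSumFinEquiv.trans (finCongr hj₁.symm)).symm.sumCongr (finSumFinEquiv.trans (finCongr hj₂.symm)).symm).trans
          (Equiv.sumSumSumComm _ _ _ _)
      let c := c₀.reindex ψ
      haveI : Nonempty (Fin j₁ ⊕ Fin j₂) := by
        have h1 : finrank F Ep + finrank F Em = n := by
          rw [Submodule.finrank_add_eq_of_isCompl hcompl, Module.finrank_pi, Fintype.card_fin]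
        exact Fintype.card_pos_iff.1 (by simp; omega)
      let k₀ : Fin j₁ ⊕ Fin j₂ := Classical.arbitrary _
      refine SimConj.exists_conj hf x c (μ := l * l) (mul_ne_zero hl0 hl0) (Sum.elim (fun _ => l) fun _ => -l) 0 0
        (Sum.elim (fun _ => l) fun _ => -l) (fun i => ?_) (fun i => ?_) ?_ fun r0 hr0 => ?_
      · rcases i with i | i <;> rw [← hT, Basis.reindex_apply, hc₀] <;> simp [ψ]
      · rcases i with i | i <;> rw [← hT, Basis.reindex_apply, hc₀] <;> simp [ψ]
      · rintro (i | i) <;> simp
      · refine ⟨Function.update 1 k₀ r0, 0, 0, 1, by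
          rw [Finset.prod_update_of_mem (Finset.mem_univ _)]; simp, fun i => ?_⟩
        rcases eq_or_ne i k₀ with rfl | hi
        · simp [hr0]
        · simp [hi]
    · -- no eigenvalue
      have key : ∀ m, m ≤ n / 2 + 1 → ∃ s, s ≤ m ∧ ∃ v : Fin s → Fin n → F,
          LinearIndependent F (Sum.elim v (T ∘ v)) ∧ (s = m ∨ Submodule.span F (Set.range (Sum.elim v (T ∘ v))) = ⊤) := by
        intro m
        induction m with
        | zero => exact fun _ => ⟨0, le_rfl, Fin.elim0, linearIndependent_empty_type, Or.inl rfl⟩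
        | succ m ih =>
          intro hm
          obtain ⟨s, hs, v, hv, h⟩ := ih (by omega)
          rcases h with rfl | h
          swap
          · exact ⟨s, by omega, v, hv, Or.inr h⟩
          rcases eq_or_ne (Submodule.span F (Set.range (Sum.elim v (T ∘ v)))) ⊤ with h | h
          · exact ⟨s, by omega, v, hv, Or.inr h⟩
          set W := Submodule.span F (Set.range (Sum.elim v (T ∘ v))) with hW
          obtain ⟨w, -, hw⟩ := SetLike.exists_of_lt (lt_top_iff_ne_top.2 h)
          have hWT : ∀ y ∈ W, T y ∈ W := fun y hy => by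
            refine (Submodule.map_span_le T _ W).2 ?_ ⟨y, hy, rfl⟩
            rintro _ ⟨i | i, rfl⟩
            · exact Submodule.subset_span ⟨Sum.inr i, rfl⟩
            · show T (T (v i)) ∈ W
              rw [hTT]
              exact W.smul_mem _ (Submodule.subset_span ⟨Sum.inl i, rfl⟩)
          have hind : ∀ r r' : F, r • w + r' • T w ∈ W → r = 0 ∧ r' = 0 := by
            intro r r' hr
            by_cases hr' : r' = 0
            · subst hr'
              rw [zero_smul, add_zero] at hr
              exact ⟨by_contra fun hr0 => hw (by simpa [hr0] using W.smul_mem r⁻¹ hr), rfl⟩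
            exfalso
            have h1 := hWT _ hr
            rw [map_add, map_smul, map_smul, hTT, smul_smul] at h1
            have h2 := W.sub_mem (W.smul_mem r hr) (W.smul_mem r' h1)
            have h3 : r • (r • w + r' • T w) - r' • (r • T w + (r' * z) • w) = (r * r - r' * (r' * z)) • w := by
              simp only [smul_add, smul_smul, sub_smul, mul_comm r' r]; abel
            rw [h3] at h2
            refine hw ?_
            have h4 : r * r - r' * (r' * z) ≠ 0 := fun e => hsq ⟨r / r', by field_simp; linear_combination -e⟩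
            simpa [smul_smul, h4] using W.smul_mem (r * r - r' * (r' * z))⁻¹ h2
          refine ⟨s + 1, le_rfl, Fin.cons w v, ?_, Or.inl rfl⟩
          rw [linearIndependent_sum]
          have hv' := linearIndependent_sum.1 hv
          simp only [Sum.elim_comp_inl, Sum.elim_comp_inr] at hv' ⊢
          have hWv : W = Submodule.span F (Set.range v) ⊔ Submodule.span F (Set.range (T ∘ v)) := by
            rw [hW, Set.Sum.elim_range, Submodule.span_union]
          have hTcons : T ∘ (Fin.cons w v : Fin (s + 1) → Fin n → F) = Fin.cons (T w) (T ∘ v) := by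
            funext i; refine Fin.cases rfl (fun i => rfl) i
          have hwA : w ∉ Submodule.span F (Set.range v) := fun e => hw (hWv ▸ Submodule.mem_sup_left e)
          have hwB : T w ∉ Submodule.span F (Set.range (T ∘ v)) := fun e =>
            one_ne_zero (hind 0 1 (by rw [zero_smul, one_smul, zero_add]; exact hWv ▸ Submodule.mem_sup_right e)).2
          refine ⟨linearIndependent_finCons.2 ⟨hv'.1, hwA⟩, hTcons ▸ linearIndependent_finCons.2 ⟨hv'.2.1, hwB⟩, ?_⟩
          rw [hTcons, Fin.range_cons, Fin.range_cons, Submodule.span_insert, Submodule.span_insert, Submodule.disjoint_def]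
          intro y hy hy'
          obtain ⟨_, h1, A, hA, rfl⟩ := Submodule.mem_sup.1 hy
          obtain ⟨r, rfl⟩ := Submodule.mem_span_singleton.1 h1
          obtain ⟨_, h2, B, hB, he⟩ := Submodule.mem_sup.1 hy'
          obtain ⟨r', rfl⟩ := Submodule.mem_span_singleton.1 h2
          obtain ⟨e1, e2⟩ := hind r (-r') (by
            rw [show r • w + -r' • T w = B - A by rw [neg_smul]; linear_combination (norm := abel) -he]
            exact W.sub_mem (hWv ▸ Submodule.mem_sup_right hB) (hWv ▸ Submodule.mem_sup_left hA))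
          rw [neg_eq_zero] at e2
          simp only [e1, e2, zero_smul, zero_add] at he ⊢
          exact Submodule.disjoint_def.1 hv'.2.2 A hA (he ▸ hB)
      obtain ⟨s', -, v, hv, h⟩ := key (n / 2 + 1) le_rfl
      have hle : s' + s' ≤ n := by simpa using hv.fintype_card_le_finrank
      have htop := h.resolve_left (by omega)
      let c : Basis (Fin s' ⊕ Fin s') F (Fin n → F) := Basis.mk hv htop.ge
      have hs' : s' + s' = n := by
        have := Module.finrank_eq_card_basis c
        simpa using this.symm
      haveI : Nonempty (Fin s') := Fintype.card_pos_iff.1 (by simp; omega)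
      let k₀ : Fin s' := Classical.arbitrary _
      refine SimConj.exists_conj hf x c (μ := -z) (neg_ne_zero.2 hz0) 0 1 (fun _ => z) 0
        (fun i => ?_) (fun i => ?_) (fun i => by simp) fun r0 hr0 => ?_
      · rw [← hT]; simp [c, Basis.mk_apply]
      · rw [← hT]; simp [c, Basis.mk_apply, hTT]
      · obtain ⟨a₁, b₁, hab⟩ : ∃ a₁ b₁ : F, a₁ * a₁ - z * (b₁ * b₁) = r0 := by
          have hodd : Fintype.card F % 2 = 1 := FiniteField.odd_card_of_char_ne_two (fun e => h20 (by
            haveI : CharP F 2 := ringChar.of_eq e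
            exact CharTwo.two_eq_zero))
          obtain ⟨a₁, b₁, hab⟩ := FiniteField.exists_root_sum_quadratic
            (f := Polynomial.X ^ 2 - Polynomial.C r0) (g := Polynomial.C (-z) * Polynomial.X ^ 2)
            (Polynomial.degree_X_pow_sub_C (by norm_num) r0)
            (Polynomial.degree_C_mul_X_pow 2 (neg_ne_zero.2 hz0)) hodd
          simp at hab
          exact ⟨a₁, b₁, by linear_combination hab⟩
        obtain ⟨a₀, b₀, ha₀, hab0⟩ : ∃ a₀ b₀ : F, a₀ ≠ 0 ∧ a₀ * a₀ - z * (b₀ * b₀) = r0 := by
          by_cases ha : a₁ = 0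
          · have hb : b₁ ≠ 0 := fun e => hr0 (by rw [← hab, ha, e]; ring)
            have h1z : (1 : F) - z ≠ 0 := fun e => hsq ⟨1, by linear_combination -e⟩
            refine ⟨2 * z / (1 - z) * b₁, (1 + z) / (1 - z) * b₁,
              mul_ne_zero (div_ne_zero (mul_ne_zero h20 hz0) h1z) hb, ?_⟩
            rw [← hab, ha]
            field_simp
            ring
          · exact ⟨a₁, b₁, ha, hab⟩
        refine ⟨Function.update 1 k₀ a₀, Function.update 0 k₀ (z * b₀), Function.update 0 k₀ (b₀ / a₀),
          Function.update 1 k₀ (a₀ - z * b₀ * b₀ / a₀), by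
          rw [Finset.prod_update_of_mem (Finset.mem_univ _), Finset.prod_update_of_mem (Finset.mem_univ _)]
          simp
          rw [← hab0]; field_simp, fun i => ?_⟩
        rcases eq_or_ne i k₀ with rfl | hi
        · simp only [Function.update_self, Pi.zero_apply, Pi.one_apply]
          refine ⟨ha₀, fun e => hr0 ?_, ?_, ?_, ?_⟩
          · rw [← hab0]; field_simp at e; linear_combination e
          all_goals first | (field_simp; done) | (field_simp; ring)
        · simp [hi]

end Cfsg.Agent.S5967
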