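import Cfsg.Statements.S5968
import Cfsg.Agent.Lib.Classical.DerangAlt

set_option autoImplicit false
open scoped MatrixGroups
open Cfsg

open Cfsg.Agent.Classical Module
open Matrix hiding toLin'
set_option maxHeartbeats 1000000

namespace Cfsg.Agent.S5968

/-- Derangements of odd prime order of PSL_n(q) on the cosets of a symplectic-type subgroup. Here `T = PSL_n(F)` for a field `F` with `q` elements, `n ≥ 4` even, `f` is a nondegenerate alternating form on `F^n`, and `H` is the subgroup of matrices of determinant 1 preserving `f` up to a scalar — a maximal subgroup of type Sp_n(q); Ω is the set of `T`-conjugates of `H` (cosets of `H`), so an element of `T` of prime order `r` (a matrix `x` of determinant 1 with `x^r` scalar, `x` not scalar) fixes a point of Ω when some conjugate of `x` by a matrix of determinant 1 preserves `f` up to a scalar. For every odd prime `r` dividing the index of `H`, with `(n, r) ≠ (6, 3)`, there is an element of `T` of order `r` with no conjugate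 in `H`. (For `n = 6`, `r = 3` this can fail: when `(q − 1)_3 = 3` every element of order 3 is conjugate into `H`.) -/
theorem result {F : Type*} [Field F] [Fintype F] {p : ℕ} [Fact p.Prime] [CharP F p] {q : ℕ} (hq : Fintype.card F = q)
    (n : ℕ) (hn : 4 ≤ n) (he : Even n) (f : (Fin n → F) → (Fin n → F) → F) (hf : Cfsg.Geo.IsSymplecticForm f)
    (r : ℕ) [Fact r.Prime] (hr2 : r ≠ 2) (hgap : ¬ (n = 6 ∧ r = 3)) (hΩ : r ∣ ((Cfsg.Geo.similarityGroup f).comap (Matrix.SpecialLinearGroup.toGL : Matrix.SpecialLinearGroup (Fin n) F →* GL (Fin n) F)).index) :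
    ∃ x : Matrix.SpecialLinearGroup (Fin n) F,
      (∃ z : F, ((x ^ r : Matrix.SpecialLinearGroup (Fin n) F) : Matrix (Fin n) (Fin n) F) = z • (1 : Matrix (Fin n) (Fin n) F)) ∧
      (∀ z : F, (x : Matrix (Fin n) (Fin n) F) ≠ z • (1 : Matrix (Fin n) (Fin n) F)) ∧
      ∀ P : Matrix.SpecialLinearGroup (Fin n) F, P⁻¹ * x * P ∉ ((Cfsg.Geo.similarityGroup f).comap (Matrix.SpecialLinearGroup.toGL : Matrix.SpecialLinearGroup (Fin n) F →* GL (Fin n) F)) := by
  classical
  have hr : r.Prime := Fact.out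
  let g0 : LinearMap.BilinForm F (Fin n → F) := LinearMap.mk₂ F f hf.bilinear.add_left
    (fun c x v => by rw [hf.bilinear.smul_left, smul_eq_mul]) hf.bilinear.add_right
    (fun c v x => by rw [hf.bilinear.smul_right, smul_eq_mul])
  have hg0 : ∀ u v, g0 u v = f u v := fun u v => rfl
  have hA0 : g0.IsAlt := hf.alternating
  have hN0 : Sp.Nondeg g0 := fun u hu => (hf.nondegenerate u hu).2
  obtain ⟨d, hd⟩ := he
  suffices key : ∃ M : Matrix (Fin n) (Fin n) F, DerangAlt.Good r M by
    obtain ⟨M, hdet, hpow, hns, hgood⟩ := key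
    let xs : Matrix.SpecialLinearGroup (Fin n) F := ⟨M, hdet⟩
    refine ⟨xs, ⟨1, by rw [Matrix.SpecialLinearGroup.coe_pow, one_smul]; exact hpow⟩, hns, fun P hP => ?_⟩
    obtain ⟨c, hc⟩ := hP
    let L : (Fin n → F) →ₗ[F] (Fin n → F) := ((P⁻¹ : Matrix.SpecialLinearGroup (Fin n) F) : Matrix (Fin n) (Fin n) F).mulVecLin
    have hL : ∀ v, L ((P : Matrix (Fin n) (Fin n) F) *ᵥ v) = v := fun v => by
      show ((P⁻¹ : Matrix.SpecialLinearGroup (Fin n) F) : Matrix (Fin n) (Fin n) F) *ᵥ ((P : Matrix (Fin n) (Fin n) F) *ᵥ v) = v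
      rw [Matrix.mulVec_mulVec, ← Matrix.SpecialLinearGroup.coe_mul, inv_mul_cancel, Matrix.SpecialLinearGroup.coe_one, Matrix.one_mulVec]
    have hL' : ∀ v, (P : Matrix (Fin n) (Fin n) F) *ᵥ L v = v := fun v => by
      show (P : Matrix (Fin n) (Fin n) F) *ᵥ (((P⁻¹ : Matrix.SpecialLinearGroup (Fin n) F) : Matrix (Fin n) (Fin n) F) *ᵥ v) = v
      rw [Matrix.mulVec_mulVec, ← Matrix.SpecialLinearGroup.coe_mul, mul_inv_cancel, Matrix.SpecialLinearGroup.coe_one, Matrix.one_mulVec]
    refine hgood (LinearMap.BilinForm.comp g0 L L) c (fun v => hA0 (L v)) (fun u hu => ?_) c.ne_zero (fun u v => ?_)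
    · obtain ⟨w, hw⟩ := hN0 (L u) fun e => hu (by rw [← hL' u, e, Matrix.mulVec_zero])
      exact ⟨(P : Matrix (Fin n) (Fin n) F) *ᵥ w, by simpa [hL] using hw⟩
    · have hconj : ∀ w, ((P⁻¹ * xs * P : Matrix.SpecialLinearGroup (Fin n) F) : Matrix (Fin n) (Fin n) F) *ᵥ w = L (M *ᵥ ((P : Matrix (Fin n) (Fin n) F) *ᵥ w)) := fun w => by
        show _ = ((P⁻¹ : Matrix.SpecialLinearGroup (Fin n) F) : Matrix (Fin n) (Fin n) F) *ᵥ (M *ᵥ ((P : Matrix (Fin n) (Fin n) F) *ᵥ w))
        rw [Matrix.SpecialLinearGroup.coe_mul, Matrix.SpecialLinearGroup.coe_mul, ← Matrix.mulVec_mulVec, ← Matrix.mulVec_mulVec]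
      have h1 : f (((P⁻¹ * xs * P : Matrix.SpecialLinearGroup (Fin n) F) : Matrix (Fin n) (Fin n) F) *ᵥ L u) (((P⁻¹ * xs * P : Matrix.SpecialLinearGroup (Fin n) F) : Matrix (Fin n) (Fin n) F) *ᵥ L v) = c * f (L u) (L v) := hc (L u) (L v)
      rw [hconj, hconj, hL', hL'] at h1
      exact h1
  by_cases hrp : r = p
  · subst hrp
    exact DerangAlt.unipotent (by omega) (lt_of_le_of_ne hr.two_le (Ne.symm hr2))
  by_cases hr1 : r ∣ q - 1
  · obtain ⟨ζu, hζ⟩ := exists_prime_orderOf_dvd_card' (G := Fˣ) r (by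
      rw [Nat.card_units, Nat.card_eq_fintype_card, hq]; exact hr1)
    exact DerangAlt.split hn hr hr2 hgap (z := (ζu : F))
      (by rw [← Units.val_pow_eq_pow_val, ← hζ, pow_orderOf_eq_one]; rfl)
      (fun e => by rw [Units.val_eq_one.1 e, orderOf_one] at hζ; exact hr.ne_one hζ.symm)
  -- the index
  obtain ⟨k, hk⟩ : ∃ k < d, r ∣ q ^ (2 * k + 1) - 1 := by
    have hq2 : 2 ≤ q := hq ▸ Fintype.one_lt_card
    have hrq : ∀ e : ℕ, ¬ r ∣ q ^ e := fun e h6 => by
      obtain ⟨s, -, hs⟩ := FiniteField.card F p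
      rw [← hq, hs, ← pow_mul] at h6
      exact hrp ((Nat.prime_dvd_prime_iff_eq hr Fact.out).1 (hr.dvd_of_dvd_pow h6))
    let H := (Cfsg.Geo.similarityGroup f).comap (Matrix.SpecialLinearGroup.toGL : Matrix.SpecialLinearGroup (Fin n) F →* GL (Fin n) F)
    let toG : Sp.Grp g0 →* GL (Fin n) F :=
      { toFun := fun g => ⟨LinearMap.toMatrix' (g : (Fin n → F) ≃ₗ[F] (Fin n → F)).toLinearMap,
          LinearMap.toMatrix' (g : (Fin n → F) ≃ₗ[F] (Fin n → F)).symm.toLinearMap,
          by rw [← LinearMap.toMatrix'_comp, LinearEquiv.comp_coe, LinearEquiv.symm_trans_self]; exact LinearMap.toMatrix'_id,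
          by rw [← LinearMap.toMatrix'_comp, LinearEquiv.comp_coe, LinearEquiv.self_trans_symm]; exact LinearMap.toMatrix'_id⟩
        map_one' := Units.ext LinearMap.toMatrix'_id
        map_mul' := fun a b => Units.ext (LinearMap.toMatrix'_comp _ _) }
    have hmv : ∀ (g : Sp.Grp g0) v, ((toG g : GL (Fin n) F) : Matrix (Fin n) (Fin n) F) *ᵥ v = (g : (Fin n → F) ≃ₗ[F] (Fin n → F)) v := fun g v =>
      LinearMap.toMatrix'_mulVec _ v
    let δ : Sp.Grp g0 →* Fˣ := Matrix.GeneralLinearGroup.det.comp toG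
    let ι₀ : δ.ker → H := fun g =>
      ⟨⟨(toG g.1 : Matrix (Fin n) (Fin n) F), congrArg Units.val (MonoidHom.mem_ker.1 g.2)⟩, 1, fun u v => by
        show f ((toG g.1 : Matrix (Fin n) (Fin n) F) *ᵥ u) ((toG g.1 : Matrix (Fin n) (Fin n) F) *ᵥ v) = _
        rw [hmv, hmv, Units.val_one, one_mul]
        exact g.1.2 u v⟩
    have hι : Function.Injective ι₀ := fun a b h => by
      have h1 : (toG a.1 : Matrix (Fin n) (Fin n) F) = toG b.1 := congrArg (fun x : H => ((x : Matrix.SpecialLinearGroup (Fin n) F) : Matrix (Fin n) (Fin n) F)) h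
      refine Subtype.ext (Subtype.ext (LinearEquiv.ext fun v => ?_))
      rw [← hmv, ← hmv, h1]
    let ι₁ : δ.ker →* H :=
      { toFun := ι₀
        map_one' := Subtype.ext (Subtype.ext (by show (toG 1 : Matrix (Fin n) (Fin n) F) = 1; rw [map_one]; rfl))
        map_mul' := fun a b => Subtype.ext (Subtype.ext (by show (toG (a.1 * b.1) : Matrix (Fin n) (Fin n) F) = _; rw [map_mul]; rfl)) }
    have hker : Nat.card δ.ker ∣ Nat.card H := by
      rw [Nat.card_congr (MonoidHom.ofInjective (f := ι₁) hι).toEquiv]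
      exact Subgroup.card_subgroup_dvd_card _
    have hgrp : Nat.card (Sp.Grp g0) ∣ Nat.card H * (q - 1) := by
      rw [← δ.ker.card_mul_index, Subgroup.index_ker]
      refine mul_dvd_mul hker ?_
      have := Subgroup.card_subgroup_dvd_card δ.range
      rwa [Nat.card_units, Nat.card_eq_fintype_card (α := F), hq] at this
    have hGL : Nat.card (GL (Fin n) F) = Nat.card (Matrix.SpecialLinearGroup (Fin n) F) * (q - 1) := by
      have hsurj : Function.Surjective (Matrix.GeneralLinearGroup.det (n := Fin n) (R := F)) := fun u => by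
        refine ⟨Matrix.GeneralLinearGroup.mkOfDetNeZero (Matrix.diagonal fun i : Fin n => if i.val = 0 then (u : F) else 1) ?_, ?_⟩
        · rw [Matrix.det_diagonal]; exact Finset.prod_ne_zero_iff.2 fun i _ => by split_ifs <;> simp
        · refine Units.ext ?_
          show Matrix.det _ = (u : F)
          refine Matrix.det_diagonal.trans ((Finset.prod_eq_single (⟨0, by omega⟩ : Fin n) (fun b _ hb => if_neg fun h => hb (Fin.ext h)) (by simp)).trans ?_)
          simp
      rw [← (Matrix.GeneralLinearGroup.det (n := Fin n) (R := F)).ker.card_mul_index, Subgroup.index_ker,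
        MonoidHom.range_eq_top.2 hsurj, Subgroup.card_top, Nat.card_units, Nat.card_eq_fintype_card (α := F), hq]
      congr 1
      refine Nat.card_congr
        { toFun := fun g => ⟨(g.1 : Matrix (Fin n) (Fin n) F), congrArg Units.val (MonoidHom.mem_ker.1 g.2)⟩
          invFun := fun s => ⟨Matrix.SpecialLinearGroup.toGL s, MonoidHom.mem_ker.2 (Units.ext (Matrix.SpecialLinearGroup.det_coe s))⟩
          left_inv := fun g => Subtype.ext (Units.ext rfl)
          right_inv := fun s => Subtype.ext rfl }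
    have hdvd : H.index * Nat.card (Sp.Grp g0) ∣ Nat.card (GL (Fin n) F) := by
      rw [hGL, ← H.index_mul_card, mul_assoc]
      exact mul_dvd_mul_left _ hgrp
    rw [Sp.card_eq d g0 hA0 hN0 (by rw [finrank_fin_fun]; omega), Matrix.card_GL_field, Nat.card_eq_fintype_card (α := F), hq] at hdvd
    have hprod : (∏ i : Fin n, (q ^ n - q ^ (i : ℕ))) =
        q ^ (∑ i ∈ Finset.range n, i) * ((∏ k ∈ Finset.range d, (q ^ (2 * k + 1) - 1)) * ∏ k ∈ Finset.range d, (q ^ (2 * (k + 1)) - 1)) := by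
      rw [Fin.prod_univ_eq_prod_range (fun i => q ^ n - q ^ i) n, ← Finset.prod_pow_eq_pow_sum,
        show (∏ i ∈ Finset.range n, (q ^ n - q ^ i)) = ∏ i ∈ Finset.range n, q ^ i * (q ^ (n - i) - 1) from
          Finset.prod_congr rfl fun i hi => by
            rw [Nat.mul_sub, mul_one, ← pow_add, Nat.add_sub_cancel' (Finset.mem_range.1 hi).le],
        Finset.prod_mul_distrib]
      congr 1
      rw [← Finset.prod_range_reflect]
      rw [Finset.prod_congr rfl (g := fun i => q ^ (i + 1) - 1) fun i hi => by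
        rw [show n - (n - 1 - i) = i + 1 by have := Finset.mem_range.1 hi; omega]]
      rw [hd, show d + d = 2 * d by ring]
      clear hd hdvd
      induction d with
      | zero => simp
      | succ e ih =>
        rw [show 2 * (e + 1) = 2 * e + 1 + 1 by ring, Finset.prod_range_succ, Finset.prod_range_succ, ih,
          Finset.prod_range_succ, Finset.prod_range_succ, show 2 * e + 1 + 1 = 2 * (e + 1) by ring]
        ring
    rw [hprod] at hdvd
    have hpos : 0 < ∏ k ∈ Finset.range d, (q ^ (2 * (k + 1)) - 1) := Finset.prod_pos fun k _ => by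
      have := Nat.one_lt_pow (show 2 * (k + 1) ≠ 0 by omega) (show 1 < q by omega)
      omega
    rw [← mul_assoc (q ^ (∑ i ∈ Finset.range n, i)), ← mul_assoc H.index] at hdvd
    have h2 : H.index ∣ q ^ (∑ i ∈ Finset.range n, i) * ∏ k ∈ Finset.range d, (q ^ (2 * k + 1) - 1) :=
      (Dvd.intro _ rfl).trans (Nat.dvd_of_mul_dvd_mul_right hpos hdvd)
    rcases hr.dvd_mul.1 (hΩ.trans h2) with h3 | h3
    · exact absurd h3 (hrq _)
    · obtain ⟨k, hk, h4⟩ := (hr.prime.dvd_finsetProd_iff _).1 h3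
      exact ⟨k, Finset.mem_range.1 hk, h4⟩
  exact DerangAlt.oddDegree p hr hr2 (by rwa [hq]) ⟨k, rfl⟩ (by omega) (by rw [hq]; exact hk.2)

end Cfsg.Agent.S5968
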