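import Cfsg.Statements.S5969
import Cfsg.Agent.Lib.Classical.QuadExtInvol

set_option autoImplicit false
open scoped MatrixGroups
open Cfsg

open Cfsg.Agent.Classical Module
open Matrix hiding toLin'
set_option maxHeartbeats 1000000

namespace Cfsg.Agent.S5969

/-- Involutions of PSL_n(q) and extension-field subgroups of degree 2. Here `T = PSL_n(F)` for a field `F` with `q = p^f` elements (`n ≥ 2`, `(n, q) ≠ (2, 2), (2, 3)`), `k` is a prime dividing `n`, `K` is a subalgebra of the `n × n` matrices that is a field of degree `k` over `F` (an extension-field structure F_{q^k} on `F^n`), and `H` is the subgroup of matrices of determinant 1 normalizing `K` — a subgroup of type GL_{n/k}(q^k) (maximal except in some small cases; maximality is not assumed); Ω is the set of cosets of `H` in `T`, so an element of `T` of prime order `r` (a matrix `x` of determinant 1 with `x^r` scalar, `x` not scalar) fixes a point of Ω when some conjugate of `x` by a matrix of determinant 1 normalizes `K`. Take `k = 2` and suppose the index of `H` is even. Then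 every involution of `T` is conjugate in `T` into `H` if and only if `n = 2`, or `q` is odd and `(q − 1)_2 ≤ (n)_2`. -/
theorem result {F : Type*} [Field F] [Fintype F] {p : ℕ} [Fact p.Prime] [CharP F p] {q : ℕ} (hq : Fintype.card F = q)
    (n : ℕ) (hn : 2 ≤ n) (hT : (n, q) ≠ (2, 2) ∧ (n, q) ≠ (2, 3))
    (k : ℕ) (hk : k.Prime) (hkn : k ∣ n) (K : Subalgebra F (Matrix (Fin n) (Fin n) F)) (hK : Cfsg.Geo.IsFieldSubalgebra k K) (hk2 : k = 2) (hΩ : 2 ∣ ((Cfsg.Geo.subalgebraNormalizer K).comap (Matrix.SpecialLinearGroup.toGL : Matrix.SpecialLinearGroup (Fin n) F →* GL (Fin n) F)).index) :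
    (∀ x : Matrix.SpecialLinearGroup (Fin n) F,
      (∃ z : F, ((x ^ 2 : Matrix.SpecialLinearGroup (Fin n) F) : Matrix (Fin n) (Fin n) F) = z • (1 : Matrix (Fin n) (Fin n) F)) →
      (∀ z : F, (x : Matrix (Fin n) (Fin n) F) ≠ z • (1 : Matrix (Fin n) (Fin n) F)) →
      ∃ P : Matrix.SpecialLinearGroup (Fin n) F, P⁻¹ * x * P ∈ ((Cfsg.Geo.subalgebraNormalizer K).comap (Matrix.SpecialLinearGroup.toGL : Matrix.SpecialLinearGroup (Fin n) F →* GL (Fin n) F))) ↔
    (n = 2 ∨ (Odd q ∧ padicValNat 2 (q - 1) ≤ padicValNat 2 n)) := by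
  classical
  subst hk2
  have hn0 : n ≠ 0 := by omega
  have hq0 : q - 1 ≠ 0 := by
    have := Fintype.one_lt_card (α := F)
    omega
  obtain ⟨s, m, hm, hnm⟩ := Nat.exists_eq_two_pow_mul_odd hn0
  obtain ⟨u, w, hw, hqw⟩ := Nat.exists_eq_two_pow_mul_odd hq0
  have hval : ∀ (k o : ℕ), Odd o → padicValNat 2 (2 ^ k * o) = k := fun k o ho => by
    rw [padicValNat.mul (by positivity) (fun e => by simp [e] at ho), padicValNat.prime_pow,
      padicValNat.eq_zero_of_not_dvd (fun d => Nat.not_even_iff_odd.2 ho (even_iff_two_dvd.2 d)), add_zero]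
  rw [show padicValNat 2 (q - 1) = u by rw [hqw, hval u w hw], show padicValNat 2 n = s by rw [hnm, hval s m hm]]
  constructor
  · intro h
    by_contra hcon
    push Not at hcon
    obtain ⟨hn2, hcon⟩ := hcon
    have hn3 : 3 ≤ n := by omega
    have main : ∀ (A : Matrix (Fin n) (Fin n) F) (hA : A.det = 1) (l z : F) (a b : Fin n → F), a ≠ 0 → b ≠ 0 →
        A = l • 1 + Matrix.vecMulVec a b → A * A = z • 1 → (∀ c : F, A ≠ c • 1) → False := by
      intro A hdetA l z a b ha hb hA hAA hns
      let xs : Matrix.SpecialLinearGroup (Fin n) F := ⟨A, hdetA⟩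
      obtain ⟨P, hP⟩ := h xs ⟨z, by rw [pow_two, Matrix.SpecialLinearGroup.coe_mul]; exact hAA⟩ hns
      refine QuadExtInvol.rank_one_not_mem hK hn3 hP l ?_
      have h1 : ((Matrix.SpecialLinearGroup.toGL (P⁻¹ * xs * P) : GL (Fin n) F) :
          Matrix (Fin n) (Fin n) F) - l • 1 = Matrix.vecMulVec ((P⁻¹ : Matrix.SpecialLinearGroup (Fin n) F).1 *ᵥ a) (b ᵥ* (P : Matrix (Fin n) (Fin n) F)) := by
        show ((P⁻¹ * xs * P : Matrix.SpecialLinearGroup (Fin n) F) : Matrix (Fin n) (Fin n) F) - l • 1 = _
        rw [Matrix.SpecialLinearGroup.coe_mul, Matrix.SpecialLinearGroup.coe_mul]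
        show _ * A * _ - _ = _
        rw [hA, mul_add, add_mul, Matrix.mul_smul, mul_one, Matrix.smul_mul, ← Matrix.SpecialLinearGroup.coe_mul,
          inv_mul_cancel, Matrix.SpecialLinearGroup.coe_one, Matrix.mul_vecMulVec, Matrix.vecMulVec_mul, add_sub_cancel_left]
      have hPinj : ∀ (Q : Matrix.SpecialLinearGroup (Fin n) F), IsUnit (Q : Matrix (Fin n) (Fin n) F) := fun Q =>
        (Matrix.isUnit_iff_isUnit_det _).2 (by rw [Matrix.SpecialLinearGroup.det_coe]; exact isUnit_one)
      set a' := (P⁻¹ : Matrix.SpecialLinearGroup (Fin n) F).1 *ᵥ a with ha'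
      set b' := b ᵥ* (P : Matrix (Fin n) (Fin n) F) with hb'
      have ha0 : a' ≠ 0 := fun e => ha (Matrix.mulVec_injective_iff_isUnit.2 (hPinj P⁻¹) (by rw [← ha', e, Matrix.mulVec_zero]))
      have hb0 : b' ≠ 0 := fun e => hb (Matrix.vecMul_injective_iff_isUnit.2 (hPinj P) (by
        show b ᵥ* _ = 0 ᵥ* _
        rw [← hb', e, Matrix.zero_vecMul]))
      rw [h1]
      obtain ⟨i, hi⟩ := Function.ne_iff.1 hb0
      have hrange : LinearMap.range (Matrix.toLin' (Matrix.vecMulVec a' b')) = Submodule.span F {a'} := by
        refine le_antisymm ?_ ?_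
        · rintro _ ⟨v, rfl⟩
          exact Submodule.mem_span_singleton.2 ⟨b' ⬝ᵥ v, by rw [Matrix.toLin'_apply, Matrix.vecMulVec_mulVec]; ext j; simp [mul_comm]⟩
        · refine (Submodule.span_singleton_le_iff_mem _ _).2 ⟨Pi.single i (b' i)⁻¹, ?_⟩
          rw [Matrix.toLin'_apply, Matrix.vecMulVec_mulVec]
          ext j
          simp [show b' i ≠ 0 from hi]
      rw [hrange, finrank_span_singleton ha0]
    let e₀ : Fin n := ⟨0, by omega⟩
    let e₁ : Fin n := ⟨n - 1, by omega⟩
    have he01 : e₀ ≠ e₁ := by simp [e₀, e₁, Fin.ext_iff]; omega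
    by_cases hodd : Odd q
    · have hlt := hcon hodd
      obtain ⟨y, hy⟩ := IsCyclic.exists_generator (α := Fˣ)
      have hy' : orderOf y = 2 ^ u * w := by
        rw [orderOf_eq_card_of_forall_mem_zpowers hy, Nat.card_units, Nat.card_eq_fintype_card, hq, hqw]
      set L := y ^ (2 ^ (u - s - 1) * w) with hLdef
      have hLs : (L : F) ^ (2 ^ s) = -1 := by
        have h1 : ((L : F) ^ (2 ^ s)) * ((L : F) ^ (2 ^ s)) = 1 := by
          rw [← pow_add, ← Units.val_pow_eq_pow_val, hLdef, ← pow_mul]
          have h0 : 2 ^ (u - s - 1) * w * (2 ^ s + 2 ^ s) = 2 ^ u * w := by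
            have : 2 ^ u = 2 ^ (u - s - 1) * (2 ^ s + 2 ^ s) := by
              rw [← mul_two, ← mul_assoc, ← pow_add, ← pow_succ]
              congr 1
              omega
            rw [this]; ring
          rw [h0, ← hy', pow_orderOf_eq_one, Units.val_one]
        refine (mul_self_eq_one_iff.1 h1).resolve_left fun e => ?_
        rw [← Units.val_pow_eq_pow_val, Units.val_eq_one, hLdef, ← pow_mul, ← orderOf_dvd_iff_pow_eq_one, hy'] at e
        have h0 : 2 ^ u * w = 2 * (2 ^ (u - s - 1) * w * 2 ^ s) := by
          have : 2 ^ u = 2 * (2 ^ (u - s - 1) * 2 ^ s) := by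
            rw [← pow_add, ← pow_succ']
            congr 1
            omega
          rw [this]; ring
        have hpos : 0 < 2 ^ (u - s - 1) * w * 2 ^ s := by
          have := hw.pos
          positivity
        have := Nat.le_of_dvd hpos e
        omega
      set l : F := (L : F) with hl
      have hl0 : l ≠ 0 := L.ne_zero
      have h20 : (2 : F) ≠ 0 := fun e => by
        have hc : CharP F 2 := CharTwo.of_one_ne_zero_of_two_eq_zero one_ne_zero e
        obtain ⟨k', -, hk'⟩ := FiniteField.card F 2
        rw [← hq, hk'] at hodd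
        exact Nat.not_even_iff_odd.2 hodd (Nat.even_pow.2 ⟨even_two, k'.ne_zero⟩)
      let ε : Fin n → F := fun i => if i = e₁ then -l else l
      refine main (Matrix.diagonal ε) ?_ l (l * l) (Pi.single e₁ (-(2 * l))) (Pi.single e₁ 1)
        (by simp [h20, hl0]) (by simp) ?_ ?_ fun c hc => ?_
      · have hln : l ^ n = -1 := by rw [hnm, pow_mul, hLs, hm.neg_one_pow]
        rw [Matrix.det_diagonal, ← Finset.mul_prod_erase _ _ (Finset.mem_univ e₁)]
        rw [Finset.prod_congr rfl (g := fun _ => l) (fun i hi => if_neg (Finset.mem_erase.1 hi).1), Finset.prod_const,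
          Finset.card_erase_of_mem (Finset.mem_univ e₁), Finset.card_univ, Fintype.card_fin]
        show (if e₁ = e₁ then -l else l) * l ^ (n - 1) = 1
        rw [if_pos rfl, neg_mul, ← pow_succ', show n - 1 + 1 = n by omega, hln, neg_neg]
      · ext i j
        simp [ε, Matrix.vecMulVec_apply, Matrix.diagonal_apply, Matrix.one_apply, Pi.single_apply]
        split_ifs <;> (try simp_all) <;> ring
      · rw [Matrix.diagonal_mul_diagonal, Matrix.smul_one_eq_diagonal]
        congr 1
        funext i
        simp only [ε]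
        split_ifs <;> ring
      · have h1 := congrFun (congrFun hc e₀) e₀
        have h2 := congrFun (congrFun hc e₁) e₁
        simp [ε, he01] at h1 h2
        exact mul_ne_zero h20 hl0 (by linear_combination h1 - h2)
    · have h20 : (2 : F) = 0 := by
        by_contra h
        refine hodd ?_
        rw [← hq, Nat.odd_iff]
        exact FiniteField.odd_card_of_char_ne_two (fun e0 => h (by
          haveI : CharP F 2 := ringChar.of_eq e0
          exact CharTwo.two_eq_zero))
      refine main (Matrix.transvection e₀ e₁ 1) (Matrix.det_transvection_of_ne _ _ he01 1) 1 1 (Pi.single e₀ 1) (Pi.single e₁ 1)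
        (by simp) (by simp) ?_ ?_ fun c hc => ?_
      · rw [Matrix.transvection, one_smul, ← Matrix.single_eq_single_vecMulVec_single]
      · rw [Matrix.transvection_mul_transvection_same _ _ he01, show (1 : F) + 1 = 0 by linear_combination h20,
          Matrix.transvection_zero, one_smul]
      · have h1 := congrFun (congrFun hc e₀) e₁
        simp [Matrix.transvection, he01] at h1
  · intro hus x hx1 hx2
    obtain ⟨z, hz⟩ := hx1
    let T : (Fin n → F) →ₗ[F] (Fin n → F) := Matrix.toLin' (x : Matrix (Fin n) (Fin n) F)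
    have hTT : ∀ v, T (T v) = z • v := fun v => by
      rw [← LinearMap.comp_apply, ← Matrix.toLin'_mul, ← Matrix.SpecialLinearGroup.coe_mul, ← pow_two, hz,
        map_smul, Matrix.toLin'_one, LinearMap.smul_apply, LinearMap.id_apply]
    have hz0 : z ≠ 0 := fun e => by
      have h1 := congrArg Matrix.det hz
      rw [Matrix.SpecialLinearGroup.det_coe, Matrix.det_smul, Matrix.det_one, Fintype.card_fin, e, zero_pow hn0,
        zero_mul] at h1
      exact one_ne_zero h1
    obtain ⟨k, α, β, hk, hkk, hirr, hne, hall⟩ := QuadExtInvol.generator K hK (by omega)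
    suffices H : ∃ (j : Matrix (Fin n) (Fin n) F) (α' β' : F) (J : (Fin n → F) →ₗ[F] (Fin n → F)) (γ δ : F),
        j ∈ K ∧ (∀ y ∈ K, ∃ r s : F, y = r • j + s • 1) ∧ j * j = α' • j + β' • 1 ∧ (∀ c : F, c * c ≠ α' * c + β') ∧
        (∀ r : F, r ≠ 0 → ∃ a b : F, a * a + α' * (a * b) - β' * (b * b) = r) ∧
        J ∘ₗ J = α' • J + β' • LinearMap.id ∧ T ∘ₗ J = (γ • J + δ • LinearMap.id) ∘ₗ T by
      obtain ⟨j, α', β', J, γ, δ, hjK, hjall, hjj, hjirr, hnorm, hJJ, hTJ⟩ := H
      set J' := LinearMap.toMatrix' J with hJ'
      have hJJ' : J' * J' = α' • J' + β' • 1 := by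
        rw [hJ', ← LinearMap.toMatrix'_comp, hJJ, map_add, map_smul, map_smul, LinearMap.toMatrix'_id]
      have hxJ : (x : Matrix (Fin n) (Fin n) F) * J' = (γ • J' + δ • 1) * (x : Matrix (Fin n) (Fin n) F) := by
        have := congrArg LinearMap.toMatrix' hTJ
        rwa [LinearMap.toMatrix'_comp, LinearMap.toMatrix'_comp, map_add, map_smul, map_smul, LinearMap.toMatrix'_id,
          LinearMap.toMatrix'_toLin'] at this
      obtain ⟨P, hP⟩ := QuadExtInvol.exists_intertwine j J' α' β' hjj hJJ' hjirr (by omega) hnorm
      refine ⟨P, QuadExtInvol.conj_mem hjK hjall _ ?_⟩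
      have hgj : ((P⁻¹ * x * P : Matrix.SpecialLinearGroup (Fin n) F) : Matrix (Fin n) (Fin n) F) * j =
          (γ • j + δ • 1) * ((P⁻¹ * x * P : Matrix.SpecialLinearGroup (Fin n) F) : Matrix (Fin n) (Fin n) F) := by
        have hPinv : ((P⁻¹ : Matrix.SpecialLinearGroup (Fin n) F) : Matrix (Fin n) (Fin n) F) * (γ • J' + δ • 1) =
            (γ • j + δ • 1) * ((P⁻¹ : Matrix.SpecialLinearGroup (Fin n) F) : Matrix (Fin n) (Fin n) F) := by
          have h1 : ((P⁻¹ : Matrix.SpecialLinearGroup (Fin n) F) : Matrix (Fin n) (Fin n) F) * J' =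
              j * ((P⁻¹ : Matrix.SpecialLinearGroup (Fin n) F) : Matrix (Fin n) (Fin n) F) := by
            have h2 := congrArg (fun M => ((P⁻¹ : Matrix.SpecialLinearGroup (Fin n) F) : Matrix (Fin n) (Fin n) F) * M *
              ((P⁻¹ : Matrix.SpecialLinearGroup (Fin n) F) : Matrix (Fin n) (Fin n) F)) hP
            simp only [← mul_assoc, ← Matrix.SpecialLinearGroup.coe_mul, inv_mul_cancel,
              Matrix.SpecialLinearGroup.coe_one, one_mul] at h2
            simp only [mul_assoc, ← Matrix.SpecialLinearGroup.coe_mul, mul_inv_cancel,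
              Matrix.SpecialLinearGroup.coe_one, mul_one] at h2
            exact h2.symm
          rw [mul_add, add_mul, Matrix.mul_smul, Matrix.smul_mul, h1, Matrix.mul_smul, Matrix.smul_mul, mul_one, one_mul]
        rw [Matrix.SpecialLinearGroup.coe_mul, Matrix.SpecialLinearGroup.coe_mul, mul_assoc _ _ j, hP, ← mul_assoc,
          mul_assoc _ _ J', hxJ, ← mul_assoc, hPinv, mul_assoc, mul_assoc, mul_assoc]
      set g := Matrix.SpecialLinearGroup.toGL (P⁻¹ * x * P) with hg
      have : (g : Matrix (Fin n) (Fin n) F) * j * ((g⁻¹ : GL (Fin n) F) : Matrix (Fin n) (Fin n) F) = γ • j + δ • 1 := by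
        rw [show (g : Matrix (Fin n) (Fin n) F) * j = (γ • j + δ • 1) * (g : Matrix (Fin n) (Fin n) F) from hgj,
          mul_assoc, Units.mul_inv, mul_one]
      rw [this]
      exact K.add_mem (K.smul_mem hjK γ) (K.smul_mem K.one_mem δ)
    by_cases h20 : (2 : F) = 0
    · -- characteristic two
      haveI : CharP F 2 := CharTwo.of_one_ne_zero_of_two_eq_zero one_ne_zero h20
      have hsq : ∀ r : F, IsSquare r := fun r => FiniteField.isSquare_of_char_two (ringChar.eq F 2) r
      have hn2 : n = 2 := by
        rcases hus with h | ⟨hodd, -⟩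
        · exact h
        · exfalso
          obtain ⟨k', -, hk'⟩ := FiniteField.card F 2
          rw [← hq, hk'] at hodd
          exact Nat.not_even_iff_odd.2 hodd (Nat.even_pow.2 ⟨even_two, k'.ne_zero⟩)
      have hα : α ≠ 0 := by
        rintro rfl
        obtain ⟨c, hc⟩ := hsq β
        exact hirr c (by rw [zero_mul, zero_add, hc])
      obtain ⟨l, hl⟩ := hsq z
      have hl0 : l ≠ 0 := fun h => hz0 (by rw [hl, h, zero_mul])
      let N : (Fin n → F) →ₗ[F] (Fin n → F) := l⁻¹ • T - LinearMap.id
      have hN : ∀ v, N (N v) = 0 := fun v => by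
        have h0 : ∀ y : Fin n → F, y + y = 0 := fun y => by rw [← two_smul F, h20, zero_smul]
        simp only [N, LinearMap.sub_apply, LinearMap.smul_apply, LinearMap.id_apply, map_sub, map_smul, hTT,
          smul_sub, smul_smul, hl, show l⁻¹ * (l⁻¹ * (l * l)) = 1 by field_simp, one_smul]
        linear_combination (norm := module) h0 v - h0 (l⁻¹ • T v)
      have hTb : ∀ v, T v = l • N v + l • v := fun v => by
        simp [N, smul_sub, smul_smul, hl0]
      obtain ⟨v, hv⟩ : ∃ v, N v ≠ 0 := by
        by_contra h
        push Not at h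
        refine hx2 l (Matrix.toLin'.injective (LinearMap.ext fun v => ?_))
        show T v = _
        rw [hTb, h, smul_zero, zero_add, map_smul, Matrix.toLin'_one]
        rfl
      have hli : LinearIndependent F ![N v, v] := by
        refine LinearIndependent.pair_iff.2 fun r r' h => ?_
        have h1 := congrArg N h
        rw [map_add, map_smul, map_smul, hN, smul_zero, zero_add, map_zero] at h1
        have hr' : r' = 0 := (smul_eq_zero.1 h1).resolve_right hv
        rw [hr', zero_smul, add_zero] at h
        exact ⟨(smul_eq_zero.1 h).resolve_right hv, hr'⟩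
      let c := basisOfLinearIndependentOfCardEqFinrank hli (by rw [Module.finrank_pi, Fintype.card_fin, Fintype.card_fin, hn2])
      have hc : ⇑c = ![N v, v] := coe_basisOfLinearIndependentOfCardEqFinrank _ _
      set b₀ := β / (α * α) with hb₀
      let J : (Fin n → F) →ₗ[F] (Fin n → F) := c.constr F ![v, b₀ • N v + v]
      have hJe : J (N v) = v := by
        have := c.constr_basis F ![v, b₀ • N v + v] 0
        rwa [hc] at this
      have hJf : J v = b₀ • N v + v := by
        have := c.constr_basis F ![v, b₀ • N v + v] 1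
        rwa [hc] at this
      refine ⟨α⁻¹ • k, 1, b₀, J, 1, 1, K.smul_mem hk _, fun y hy => ?_, ?_, fun e he => hirr (α * e) ?_, fun r hr => ?_, ?_, ?_⟩
      · obtain ⟨r, s', rfl⟩ := hall y hy
        exact ⟨r * α, s', by rw [smul_smul, mul_assoc, mul_inv_cancel₀ hα, mul_one]⟩
      · rw [Matrix.smul_mul, Matrix.mul_smul, hkk, hb₀, smul_smul]
        match_scalars <;> field_simp
      · rw [hb₀] at he
        field_simp at he
        linear_combination he
      · obtain ⟨e, he⟩ := hsq r
        exact ⟨e, 0, by rw [he]; ring⟩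
      · refine c.ext fun i => ?_
        fin_cases i
        · simp [hc, hJe, hJf]; module
        · simp [hc, hJe, hJf]; module
      · refine c.ext fun i => ?_
        have h0 : ∀ y : Fin n → F, y + y = 0 := fun y => by rw [← two_smul F, h20, zero_smul]
        fin_cases i
        · simp [hc, hJe, hJf, hTb, hN]
          module
        · simp [hc, hJe, hJf, hTb, hN]
          linear_combination (norm := module) -h0 (l • v)
    · have hchar : ringChar F ≠ 2 := fun e0 => h20 (by
        haveI : CharP F 2 := ringChar.of_eq e0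
        exact CharTwo.two_eq_zero)
      set ν := β + α * α / 4 with hν
      have h40 : (4 : F) ≠ 0 := by
        rw [show (4 : F) = 2 * 2 by norm_num]; exact mul_ne_zero h20 h20
      have hνsq : ¬ IsSquare ν := fun ⟨c, hc⟩ => hirr (c + α / 2) (by
        rw [hν] at hc; field_simp at hc ⊢; linear_combination -hc)
      set j : Matrix (Fin n) (Fin n) F := k - (α / 2) • 1 with hj
      have hν0 : ν ≠ 0 := fun e => hνsq (e ▸ IsSquare.zero)
      suffices H : ∃ (J : (Fin n → F) →ₗ[F] (Fin n → F)) (γ : F),
          J ∘ₗ J = ν • LinearMap.id ∧ T ∘ₗ J = (γ • J) ∘ₗ T by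
        obtain ⟨J, γ, hJJ, hTJ⟩ := H
        refine ⟨j, 0, ν, J, γ, 0, K.sub_mem hk (K.smul_mem K.one_mem _), fun y hy => ?_, ?_, fun e he => hνsq ⟨e, by linear_combination -he⟩,
          fun r hr => ?_, by rw [zero_smul, zero_add, hJJ], by rw [zero_smul, add_zero, hTJ]⟩
        · obtain ⟨r, s', rfl⟩ := hall y hy
          exact ⟨r, s' + r * (α / 2), by rw [hj]; module⟩
        · rw [hj, hν]
          simp only [sub_mul, mul_sub, Matrix.smul_mul, Matrix.mul_smul, one_mul, mul_one, hkk, zero_smul, smul_smul,
            zero_add, smul_sub]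
          match_scalars <;> field_simp <;> ring
        · obtain ⟨a₁, b₁, hab⟩ := FiniteField.exists_root_sum_quadratic
            (f := Polynomial.X ^ 2 - Polynomial.C r) (g := Polynomial.C (-ν) * Polynomial.X ^ 2)
            (Polynomial.degree_X_pow_sub_C (by norm_num) r)
            (Polynomial.degree_C_mul_X_pow 2 (neg_ne_zero.2 hν0)) (FiniteField.odd_card_of_char_ne_two hchar)
          simp at hab
          exact ⟨a₁, b₁, by linear_combination hab⟩
      by_cases hsq : IsSquare z
      · obtain ⟨l, hl⟩ := hsq
        have hl0 : l ≠ 0 := fun h => hz0 (by rw [hl, h, zero_mul])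
        let Ep := LinearMap.ker (T - l • LinearMap.id)
        let Em := LinearMap.ker (T + l • LinearMap.id)
        have hp : ∀ v, v ∈ Ep ↔ T v = l • v := fun v => by simp [Ep, sub_eq_zero]
        have hm' : ∀ v, v ∈ Em ↔ T v = -(l • v) := fun v => by simp [Em, add_eq_zero_iff_eq_neg]
        have h2l : (2 : F) * l ≠ 0 := mul_ne_zero h20 hl0
        have hcompl : IsCompl Ep Em := by
          refine ⟨Submodule.disjoint_def.2 fun v hv hv' => ?_, codisjoint_iff.2 (eq_top_iff.2 fun v _ => ?_)⟩
          · have h4 : (2 * l) • v = 0 := by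
              rw [mul_smul, two_smul]; nth_rw 1 [← (hp v).1 hv]; rw [(hm' v).1 hv', neg_add_cancel]
            exact (smul_eq_zero.1 h4).resolve_left h2l
          refine Submodule.mem_sup.2 ⟨(2 * l)⁻¹ • (T v + l • v), ?_, (2 * l)⁻¹ • (l • v - T v), ?_, ?_⟩
          · rw [hp]
            simp only [map_smul, map_add, hTT, hl, smul_add, smul_smul]
            rw [add_comm]
            congr 2 <;> ring
          · rw [hm']
            simp only [map_smul, map_sub, hTT, hl, smul_sub, smul_smul, neg_sub]
            congr 2 <;> ring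
          · rw [← smul_add, show T v + l • v + (l • v - T v) = (2 * l) • v by module, smul_smul, inv_mul_cancel₀ h2l, one_smul]
        let c₀ := ((Module.finBasis F Ep).prod (Module.finBasis F Em)).map (Submodule.prodEquivOfIsCompl Ep Em hcompl)
        have hc₀ : ∀ i, T (c₀ i) = Sum.elim (fun _ => l) (fun _ => -l) i • c₀ i := by
          rintro (i | i)
          · exact (hp _).1 (by simp [c₀])
          · exact ((hm' _).1 (by simp [c₀])).trans (neg_smul l _).symm
        have hpm : finrank F Ep + finrank F Em = n := by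
          rw [Submodule.finrank_add_eq_of_isCompl hcompl, Module.finrank_pi, Fintype.card_fin]
        -- pair the eigenvectors
        obtain ⟨κ, hκ, ψ, γ, hγ⟩ : ∃ (κ : Type) (_ : Fintype κ) (ψ : (Fin (finrank F Ep) ⊕ Fin (finrank F Em)) ≃ κ ⊕ κ) (γ : F),
            γ * γ = 1 ∧ ∀ i, Sum.elim (fun _ => l) (fun _ => -l) (ψ.symm (Sum.inr i)) =
              γ * Sum.elim (fun _ => l) (fun _ => -l) (ψ.symm (Sum.inl i)) := by
          by_cases hmev : Even (finrank F Em)
          · obtain ⟨j₂, hj₂⟩ := hmev
            obtain ⟨j₁, hj₁⟩ : Even (finrank F Ep) := by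
              have : 2 ∣ n := hkn
              rw [Nat.even_iff]; omega
            refine ⟨Fin j₁ ⊕ Fin j₂, inferInstance, ((finSumFinEquiv.trans (finCongr hj₁.symm)).symm.sumCongr
              (finSumFinEquiv.trans (finCongr hj₂.symm)).symm).trans (Equiv.sumSumSumComm _ _ _ _), 1, one_mul 1, fun i => ?_⟩
            rcases i with i | i <;> simp
          · have hn2 : n = 2 := by
              rcases hus with h | ⟨-, hsu⟩
              · exact h
              · exfalso
                have hdetT : l ^ n * (-1) ^ finrank F Em = 1 := by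
                  have h1 : LinearMap.toMatrix c₀ c₀ T = Matrix.diagonal (Sum.elim (fun _ => l) fun _ => -l) := by
                    ext i j
                    rw [LinearMap.toMatrix_apply, hc₀, map_smul, Module.Basis.repr_self, Finsupp.smul_single,
                      Finsupp.single_apply, Matrix.diagonal_apply]
                    rcases eq_or_ne i j with rfl | hij
                    · simp
                    · simp [hij, Ne.symm hij]
                  have h2 := LinearMap.det_toMatrix c₀ T
                  rw [h1, Matrix.det_diagonal, Fintype.prod_sum_type] at h2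
                  simp only [Sum.elim_inl, Sum.elim_inr, Finset.prod_const, Finset.card_univ, Fintype.card_fin] at h2
                  calc l ^ n * (-1) ^ finrank F Em = l ^ (finrank F Ep + finrank F Em) * (-1) ^ finrank F Em := by rw [hpm]
                    _ = l ^ finrank F Ep * (-l) ^ finrank F Em := by rw [pow_add, neg_pow l (finrank F Em)]; ring
                    _ = 1 := by rw [h2, LinearMap.det_toLin', Matrix.SpecialLinearGroup.det_coe]
                rw [(Nat.not_even_iff_odd.1 hmev).neg_one_pow, mul_neg_one] at hdetT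
                have hln : l ^ n = -1 := by linear_combination -hdetT
                have h1 : (l ^ n) ^ w = 1 := by
                  obtain ⟨d', hd'⟩ := Nat.exists_eq_add_of_le hsu
                  have hnw : n * w = (q - 1) * (2 ^ d' * m) := by rw [hqw, hnm, hd', pow_add]; ring
                  rw [← pow_mul, hnw, pow_mul, ← hq, FiniteField.pow_card_sub_one_eq_one l hl0, one_pow]
                rw [hln, hw.neg_one_pow] at h1
                exact h20 (by linear_combination -h1)
            have hodd' := Nat.not_even_iff_odd.1 hmev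
            rw [Nat.odd_iff] at hodd'
            have h11 : finrank F Ep = 1 ∧ finrank F Em = 1 := by omega
            refine ⟨Fin 1, inferInstance, (finCongr h11.1).sumCongr (finCongr h11.2), -1, by ring, fun i => ?_⟩
            simp
        obtain ⟨hγ1, hγ⟩ := hγ
        let c := c₀.reindex ψ
        let J : (Fin n → F) →ₗ[F] (Fin n → F) := c.constr F (Sum.elim (fun i => c (.inr i)) fun i => ν • c (.inl i))
        have hJl : ∀ i, J (c (.inl i)) = c (.inr i) := fun i => c.constr_basis F _ _
        have hJr : ∀ i, J (c (.inr i)) = ν • c (.inl i) := fun i => c.constr_basis F _ _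
        have hTc : ∀ i, T (c i) = Sum.elim (fun _ => l) (fun _ => -l) (ψ.symm i) • c i := fun i => by
          simp only [c, Basis.reindex_apply]; exact hc₀ _
        refine ⟨J, γ, c.ext fun i => ?_, c.ext fun i => ?_⟩
        · rcases i with i | i <;> simp [hJl, hJr]
        · rcases i with i | i
          · simp [hJl, hTc, hγ i, smul_smul]
          · simp [hJl, hJr, hTc, hγ i, smul_smul]
            congr 1
            linear_combination (-ν * Sum.elim (fun _ => l) (fun _ => -l) (ψ.symm (Sum.inl i))) * hγ1
      · obtain ⟨e, he⟩ : IsSquare (z / ν) := by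
          have h1 : z ^ (Fintype.card F / 2) = -1 := (FiniteField.pow_dichotomy hchar hz0).resolve_left fun e0 =>
            hsq ((FiniteField.isSquare_iff hchar hz0).2 e0)
          have h2 : ν ^ (Fintype.card F / 2) = -1 := (FiniteField.pow_dichotomy hchar hν0).resolve_left fun e0 =>
            hνsq ((FiniteField.isSquare_iff hchar hν0).2 e0)
          rw [FiniteField.isSquare_iff hchar (div_ne_zero hz0 hν0), div_pow, h1, h2]
          ring
        have he0 : e ≠ 0 := fun h => div_ne_zero hz0 hν0 (by rw [he, h, zero_mul])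
        refine ⟨e⁻¹ • T, 1, LinearMap.ext fun v => ?_, LinearMap.ext fun v => ?_⟩
        · simp only [LinearMap.comp_apply, LinearMap.smul_apply, map_smul, hTT, smul_smul, LinearMap.id_apply]
          congr 1
          field_simp at he ⊢
          linear_combination he
        · simp

end Cfsg.Agent.S5969
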