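import Cfsg.Statements.S5970
import Cfsg.Agent.Lib.Classical.SingerNormal
import Cfsg.Agent.Lib.Classical.CyclicPrime
import Cfsg.Agent.Lib.Classical.FieldExtension

set_option autoImplicit false
open scoped MatrixGroups
open Cfsg

open Cfsg.Agent.Classical Module
open Matrix hiding toLin'
set_option maxHeartbeats 1000000

namespace Cfsg.Agent.S5970

/-- Elements of order `n` of PSL_n(q), `n` prime, and the normalizer of a Singer cycle. Here `T = PSL_n(F)` for a field `F` with `q = p^f` elements (`n ≥ 2`, `(n, q) ≠ (2, 2), (2, 3)`), `k` is a prime dividing `n`, `K` is a subalgebra of the `n × n` matrices that is a field of degree `k` over `F` (an extension-field structure F_{q^k} on `F^n`), and `H` is the subgroup of matrices of determinant 1 normalizing `K` — a subgroup of type GL_{n/k}(q^k) (maximal except in some small cases; maximality is not assumed); Ω is the set of cosets of `H` in `T`, so an element of `T` of prime order `r` (a matrix `x` of determinant 1 with `x^r` scalar, `x` not scalar) fixes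 a point of Ω when some conjugate of `x` by a matrix of determinant 1 normalizes `K`. Take `k = n > 3` prime with `n ≠ p` (so `H` is the normalizer of a Singer cycle), and suppose `n` divides the index of `H`. Then every element of `T` of order `n` is conjugate in `T` into `H` if and only if the multiplicative order of `q` modulo `n` is `n − 1`. -/
theorem result {F : Type*} [Field F] [Fintype F] {p : ℕ} [Fact p.Prime] [CharP F p] {q : ℕ} (hq : Fintype.card F = q)
    (n : ℕ) (hn : 2 ≤ n) (hT : (n, q) ≠ (2, 2) ∧ (n, q) ≠ (2, 3))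
    (k : ℕ) (hk : k.Prime) (hkn : k ∣ n) (K : Subalgebra F (Matrix (Fin n) (Fin n) F)) (hK : Cfsg.Geo.IsFieldSubalgebra k K) (hkn' : k = n) (hn3 : 3 < n) (hnp : n ≠ p) (hΩ : n ∣ ((Cfsg.Geo.subalgebraNormalizer K).comap (Matrix.SpecialLinearGroup.toGL : Matrix.SpecialLinearGroup (Fin n) F →* GL (Fin n) F)).index) :
    (∀ x : Matrix.SpecialLinearGroup (Fin n) F,
      (∃ z : F, ((x ^ n : Matrix.SpecialLinearGroup (Fin n) F) : Matrix (Fin n) (Fin n) F) = z • (1 : Matrix (Fin n) (Fin n) F)) →
      (∀ z : F, (x : Matrix (Fin n) (Fin n) F) ≠ z • (1 : Matrix (Fin n) (Fin n) F)) →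
      ∃ P : Matrix.SpecialLinearGroup (Fin n) F, P⁻¹ * x * P ∈ ((Cfsg.Geo.subalgebraNormalizer K).comap (Matrix.SpecialLinearGroup.toGL : Matrix.SpecialLinearGroup (Fin n) F →* GL (Fin n) F))) ↔
    orderOf (q : ZMod n) = n - 1 := by
  classical
  subst hkn'
  haveI : Fact k.Prime := ⟨hk⟩
  haveI : NeZero k := ⟨hk.ne_zero⟩
  have hq2 : 2 ≤ q := hq ▸ Fintype.one_lt_card
  have hkF : (k : F) ≠ 0 := fun h => by
    rw [CharP.cast_eq_zero_iff F p] at h
    exact hnp ((Nat.prime_dvd_prime_iff_eq Fact.out hk).1 h).symm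
  have hqk : (q : ZMod k) ≠ 0 := fun h => by
    rw [ZMod.natCast_eq_zero_iff] at h
    obtain ⟨s, -, hs⟩ := FiniteField.card F p
    rw [← hq, hs] at h
    exact hnp ((Nat.prime_dvd_prime_iff_eq hk Fact.out).1 (hk.dvd_of_dvd_pow h))
  have hid : orderOf (q : ZMod k) ∣ k - 1 := orderOf_dvd_of_pow_eq_one (ZMod.pow_card_sub_one_eq_one hqk)
  have hi0 : 0 < orderOf (q : ZMod k) := Nat.pos_of_ne_zero fun h => by
    rw [h] at hid; have := Nat.eq_zero_of_zero_dvd hid; omega
  constructor
  · intro h
    by_contra hne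
    set i := orderOf (q : ZMod k) with hi
    have hik : i + 2 ≤ k := by
      have := Nat.le_of_dvd (by omega) hid
      omega
    -- a counterexample
    suffices key : ∃ M : Matrix (Fin k) (Fin k) F, M.det = 1 ∧ M ^ k = 1 ∧ (∀ c : F, M ≠ c • 1) ∧
        ∃ v w : Fin k → F, M *ᵥ v = v ∧ M *ᵥ w = w ∧ v ≠ 0 ∧ ∀ a : F, w ≠ a • v by
      obtain ⟨M, hdet, hpow, hns, v, w, hv, hw, hv0, hvw⟩ := key
      let xs : Matrix.SpecialLinearGroup (Fin k) F := ⟨M, hdet⟩
      obtain ⟨P, hP⟩ := h xs ⟨1, by rw [Matrix.SpecialLinearGroup.coe_pow, one_smul]; exact hpow⟩ hns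
      let g : GL (Fin k) F := Matrix.SpecialLinearGroup.toGL (P⁻¹ * xs * P)
      let Pm : Matrix (Fin k) (Fin k) F := P
      let Pi' : Matrix (Fin k) (Fin k) F := ((P⁻¹ : Matrix.SpecialLinearGroup (Fin k) F) : Matrix (Fin k) (Fin k) F)
      have hPP : Pm * Pi' = 1 := by
        show (P : Matrix (Fin k) (Fin k) F) * ((P⁻¹ : Matrix.SpecialLinearGroup (Fin k) F) : Matrix (Fin k) (Fin k) F) = 1
        rw [← Matrix.SpecialLinearGroup.coe_mul, mul_inv_cancel, Matrix.SpecialLinearGroup.coe_one]
      have hgm : (g : Matrix (Fin k) (Fin k) F) = Pi' * M * Pm := by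
        show ((P⁻¹ * xs * P : Matrix.SpecialLinearGroup (Fin k) F) : Matrix (Fin k) (Fin k) F) = _
        rw [Matrix.SpecialLinearGroup.coe_mul, Matrix.SpecialLinearGroup.coe_mul]
      have hfix : ∀ u, M *ᵥ u = u → (g : Matrix (Fin k) (Fin k) F) *ᵥ (Pi' *ᵥ u) = (1 : F) • (Pi' *ᵥ u) := fun u hu => by
        rw [hgm, Matrix.mulVec_mulVec, mul_assoc _ Pm Pi', hPP, mul_one, ← Matrix.mulVec_mulVec, hu, one_smul]
      have hinj : ∀ u u', Pi' *ᵥ u = Pi' *ᵥ u' → u = u' := fun u u' e => by
        rw [← Matrix.one_mulVec u, ← Matrix.one_mulVec u', ← hPP, ← Matrix.mulVec_mulVec, ← Matrix.mulVec_mulVec, e]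
      obtain ⟨a, ha⟩ := SingerNormal.eigen_line hk hK (g := g) hP (fun c hc => hns c (by
        have h1 : Pm * (g : Matrix (Fin k) (Fin k) F) * Pi' = M := by
          rw [hgm, ← mul_assoc, ← mul_assoc, hPP, one_mul, mul_assoc, hPP, mul_one]
        rw [← h1, hc, Matrix.mul_smul, mul_one, Matrix.smul_mul, hPP]))
        (fun e => hv0 (hinj _ _ (e.trans (Matrix.mulVec_zero _).symm))) (hfix v hv) (hfix w hw)
      exact hvw a (hinj _ _ (by rw [ha, Matrix.mulVec_smul]))
    by_cases hi1 : i = 1
    · have hkq : k ∣ q - 1 := by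
        rw [← ZMod.natCast_eq_zero_iff, Nat.cast_sub (by omega), Nat.cast_one, sub_eq_zero]
        rwa [hi, orderOf_eq_one_iff] at hi1
      obtain ⟨zu, hz⟩ := exists_prime_orderOf_dvd_card' (G := Fˣ) k (by
        rw [Nat.card_units, Nat.card_eq_fintype_card, hq]; exact hkq)
      have hz1 : (zu : F) ≠ 1 := fun e => by
        rw [Units.val_eq_one.1 e, orderOf_one] at hz; exact hk.ne_one hz.symm
      have hzk : (zu : F) ^ k = 1 := by rw [← Units.val_pow_eq_pow_val, ← hz, pow_orderOf_eq_one]; rfl
      let μ : Fin k → F := fun j => if j.val = 0 then (zu : F) else if j.val = 1 then (zu : F)⁻¹ else 1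
      let a : Fin k := ⟨2, by omega⟩
      let b : Fin k := ⟨3, by omega⟩
      have hfix : ∀ j : Fin k, 2 ≤ j.val → Matrix.diagonal μ *ᵥ Pi.single j 1 = Pi.single j 1 := fun j hj => by
        funext s
        rw [Matrix.mulVec_diagonal]
        by_cases hs : s = j
        · subst hs; simp only [μ, if_neg (show s.val ≠ 0 by omega), if_neg (show s.val ≠ 1 by omega), one_mul]
        · rw [Pi.single_eq_of_ne hs, mul_zero]
      refine ⟨Matrix.diagonal μ, ?_, ?_, fun c hc => hz1 ?_, Pi.single a 1, Pi.single b 1, hfix a le_rfl, hfix b (by simp [b]),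
        by simp, fun c hc => one_ne_zero (α := F) ?_⟩
      · rw [Matrix.det_diagonal]
        obtain ⟨e, he⟩ : ∃ e, k = e + 1 + 1 := ⟨k - 2, by omega⟩
        rw [← (finCongr he.symm).prod_comp, Fin.prod_univ_succ, Fin.prod_univ_succ,
          Finset.prod_eq_one fun x _ => by simp [μ]]
        simp [μ]
      · rw [Matrix.diagonal_pow, ← Matrix.diagonal_one]
        refine congrArg _ (funext fun j => ?_)
        simp only [μ, Pi.pow_apply]
        split_ifs
        · exact hzk
        · rw [inv_pow, hzk, inv_one]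
        · exact one_pow _
      · have h1 := congrFun (congrFun hc ⟨0, by omega⟩) ⟨0, by omega⟩
        have h2 := congrFun (congrFun hc a) a
        simp [μ, a] at h1 h2
        rw [h1, ← h2]
      · simpa [a, b] using congrFun hc b
    · obtain ⟨s, -, hs⟩ := FiniteField.card F p
      rw [hq] at hs
      let L := GaloisField p (s * i)
      haveI : Fintype L := Fintype.ofFinite L
      have hLc : Fintype.card L = q ^ i := by
        rw [← Nat.card_eq_fintype_card, GaloisField.card p _ (Nat.mul_ne_zero s.ne_zero (by omega)), hs, pow_mul]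
      obtain ⟨ι⟩ := FieldExt.exists_emb F L (by omega : i ≠ 0) (by rw [hLc, hq])
      letI : Algebra F L := ι.toAlgebra
      haveI : Module.Finite F L := Module.Finite.of_finite
      have hfd : finrank F L = i := by
        have := Module.card_eq_pow_finrank (K := F) (V := L)
        rw [hLc, hq] at this
        exact (Nat.pow_right_injective (hq ▸ Fintype.one_lt_card) this).symm
      obtain ⟨ζu, hζ⟩ := exists_prime_orderOf_dvd_card' (G := Lˣ) k (by
        rw [Nat.card_units, Nat.card_eq_fintype_card, hLc, ← ZMod.natCast_eq_zero_iff, Nat.cast_sub (Nat.one_le_pow i q (by omega)),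
          Nat.cast_pow, Nat.cast_one, hi, pow_orderOf_eq_one, sub_self])
      set ζ : L := (ζu : L) with hζd
      have hζk : ζ ^ k = 1 := by rw [hζd, ← Units.val_pow_eq_pow_val, ← hζ, pow_orderOf_eq_one]; rfl
      have hζ1 : ζ ≠ 1 := fun e0 => by
        rw [Units.val_eq_one.1 e0, orderOf_one] at hζ
        exact hk.ne_one hζ.symm
      have hroot1 : ∀ u : F, u ^ k = 1 → u = 1 := fun u hu => by
        by_contra hu1
        have hu0 : u ≠ 0 := fun e => by rw [e, zero_pow hk.ne_zero] at hu; exact zero_ne_one hu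
        have h1 : orderOf (Units.mk0 u hu0) = k :=
          orderOf_eq_prime (Units.ext (by simpa using hu)) (fun e => hu1 (congrArg Units.val e))
        have h2 := orderOf_dvd_card (x := Units.mk0 u hu0)
        rw [h1, Fintype.card_units, hq, ← ZMod.natCast_eq_zero_iff, Nat.cast_sub (by omega), Nat.cast_one, sub_eq_zero] at h2
        exact hi1 (by rw [hi, h2, orderOf_one])
      let R := Fin (k - i) → F
      let φ : (Fin k → F) ≃ₗ[F] L × R :=
        LinearEquiv.ofFinrankEq _ _ (by rw [finrank_prod, finrank_fin_fun, finrank_fin_fun, hfd]; omega)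
      let T : (Fin k → F) →ₗ[F] (Fin k → F) :=
        φ.symm.toLinearMap ∘ₗ (LinearMap.mulLeft F ζ).prodMap LinearMap.id ∘ₗ φ.toLinearMap
      have hT : ∀ y z, T (φ.symm (y, z)) = φ.symm (ζ * y, z) := fun y z => by simp [T]
      let M := LinearMap.toMatrix' T
      have hMv : ∀ v, M *ᵥ v = T v := fun v => LinearMap.toMatrix'_mulVec T v
      have hpow : M ^ k = 1 := by
        have h1 : ∀ (j : ℕ) y z, (M ^ j) *ᵥ φ.symm (y, z) = φ.symm (ζ ^ j * y, z) := by
          intro j
          induction j with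
          | zero => intro y z; simp
          | succ j ih => intro y z; rw [pow_succ', ← Matrix.mulVec_mulVec, ih, hMv, hT, ← mul_assoc, ← pow_succ']
        refine Matrix.ext_of_mulVec_single fun j => ?_
        obtain ⟨⟨y, z⟩, hyz⟩ := φ.symm.surjective (Pi.single j 1)
        rw [← hyz, h1, hζk, one_mul, Matrix.one_mulVec]
      have hfix : ∀ z, M *ᵥ φ.symm (0, z) = φ.symm (0, z) := fun z => by rw [hMv, hT, mul_zero]
      refine ⟨M, hroot1 _ (by rw [← Matrix.det_pow, hpow, Matrix.det_one]), hpow, fun u hu => ?_,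
        φ.symm (0, Pi.single ⟨0, by omega⟩ 1), φ.symm (0, Pi.single ⟨1, by omega⟩ 1), hfix _, hfix _, fun e => ?_, fun c hc => ?_⟩
      · have h1 := hT 1 0
        rw [← hMv, hu, Matrix.smul_mulVec, Matrix.one_mulVec, ← map_smul, φ.symm.injective.eq_iff, Prod.smul_mk,
          Prod.mk.injEq, mul_one, Algebra.smul_def, mul_one] at h1
        have h2 : u ^ k = 1 := (algebraMap F L).injective (by rw [map_pow, h1.1, hζk, map_one])
        rw [hroot1 u h2, map_one] at h1
        exact hζ1 h1.1.symm
      · have h1 := congrFun (congrArg Prod.snd (φ.symm.map_eq_zero_iff.1 e)) (⟨0, by omega⟩ : Fin (k - i))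
        simp [R] at h1
      · rw [← map_smul] at hc
        have h1 := congrFun (congrArg Prod.snd (φ.symm.injective hc)) (⟨1, by omega⟩ : Fin (k - i))
        simp [R] at h1
  · intro hi x ⟨z, hz⟩ hns
    have hroot1 : ∀ u : F, u ^ k = 1 → u = 1 := fun u hu => by
      by_contra hu1
      have hu0 : u ≠ 0 := fun e => by rw [e, zero_pow hk.ne_zero] at hu; exact zero_ne_one hu
      have h1 : orderOf (Units.mk0 u hu0) = k :=
        orderOf_eq_prime (Units.ext (by simpa using hu)) (fun e => hu1 (congrArg Units.val e))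
      have h2 := orderOf_dvd_card (x := Units.mk0 u hu0)
      rw [h1, Fintype.card_units, hq, ← ZMod.natCast_eq_zero_iff, Nat.cast_sub (by omega), Nat.cast_one, sub_eq_zero] at h2
      rw [h2, orderOf_one] at hi
      omega
    rw [Matrix.SpecialLinearGroup.coe_pow] at hz
    have hz1 : z = 1 := by
      refine hroot1 z ?_
      have h1 := congrArg Matrix.det hz
      rw [Matrix.det_pow, Matrix.SpecialLinearGroup.det_coe, one_pow, Matrix.det_smul, Matrix.det_one, mul_one, Fintype.card_fin] at h1
      exact h1.symm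
    rw [hz1, one_smul] at hz
    obtain ⟨g, hgN, hgdet, hgk, hg1⟩ := SingerNormal.exists_semilinear hk (by omega) hroot1 hK
    set M := (x : Matrix (Fin k) (Fin k) F) with hM
    set H := (g : Matrix (Fin k) (Fin k) F) with hH
    have hord : orderOf (Fintype.card F : ZMod k) = k - 1 := by rw [hq]; exact hi
    have hend : ∀ A : Matrix (Fin k) (Fin k) F, A ^ k = 1 → A ≠ 1 →
        ∃ v, Submodule.span F (Set.range fun j : Fin k => (A ^ (j : ℕ)) *ᵥ v) = ⊤ ∧
          finrank F (LinearMap.ker (Matrix.toLin' A - 1)) = 1 := fun A hA hA1 => by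
      have h1 : ∀ j : ℕ, Matrix.toLin' (A ^ j) = Matrix.toLin' A ^ j := fun j => Matrix.toLin'_pow A j
      obtain ⟨v, hv, hker⟩ := CyclicPrime.exists_cyclic (by omega) hkF hord (Matrix.toLin' A)
        (by rw [← h1, hA, Matrix.toLin'_one]; rfl)
        (fun e => hA1 (Matrix.toLin'.injective (e.trans Matrix.toLin'_one.symm)))
      refine ⟨v, ?_, hker⟩
      simp only [← h1, Matrix.toLin'_apply] at hv
      exact hv
    obtain ⟨v, hv, -⟩ := hend M hz (fun e => hns 1 (by rw [one_smul]; exact e))
    obtain ⟨w, hw, hker⟩ := hend H hgk hg1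
    have hcard : Fintype.card (Fin k) = finrank F (Fin k → F) := by rw [finrank_fin_fun, Fintype.card_fin]
    let bv := Basis.mk (linearIndependent_of_top_le_span_of_card_eq_finrank hv.ge hcard) hv.ge
    let bw := Basis.mk (linearIndependent_of_top_le_span_of_card_eq_finrank hw.ge hcard) hw.ge
    let E := bv.equiv bw (Equiv.refl _)
    have hE : ∀ m : ℕ, E ((M ^ m) *ᵥ v) = (H ^ m) *ᵥ w := fun m => by
      rw [pow_eq_pow_mod m hz, pow_eq_pow_mod m hgk]
      have hm : m % k < k := Nat.mod_lt _ hk.pos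
      have h1 : bv ⟨m % k, hm⟩ = (M ^ (m % k)) *ᵥ v := Basis.mk_apply _ _ _
      have h2 : bw ⟨m % k, hm⟩ = (H ^ (m % k)) *ᵥ w := Basis.mk_apply _ _ _
      rw [← h1, ← h2]
      exact bv.equiv_apply _ bw (Equiv.refl _)
    let P := LinearMap.toMatrix' E.toLinearMap
    have hPM : P * M = H * P := by
      refine Matrix.toLin'.injective (bv.ext fun j => ?_)
      rw [Matrix.toLin'_mul, Matrix.toLin'_mul, LinearMap.comp_apply, LinearMap.comp_apply, Matrix.toLin'_toMatrix',
        Basis.mk_apply, Matrix.toLin'_apply, Matrix.toLin'_apply, Matrix.mulVec_mulVec, ← pow_succ']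
      show E _ = H *ᵥ E _
      rw [hE, hE, Matrix.mulVec_mulVec, ← pow_succ']
    have hPdet : P.det ≠ 0 := by
      show (LinearMap.toMatrix' E.toLinearMap).det ≠ 0
      rw [LinearMap.det_toMatrix']
      exact E.isUnit_det'.ne_zero
    -- correcting the determinant
    obtain ⟨⟨e, he⟩, he0, hall⟩ := finrank_eq_one_iff'.1 hker
    let S : Matrix (Fin k) (Fin k) F := (k : F)⁻¹ • ∑ j ∈ Finset.range k, H ^ j
    have hHS : H * S = S := by
      rw [Matrix.mul_smul, Finset.mul_sum]
      refine congrArg _ ?_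
      have h1 := Finset.sum_range_succ' (fun j => H ^ j) k
      rw [Finset.sum_range_succ, hgk, pow_zero, add_left_inj] at h1
      rw [h1]
      exact Finset.sum_congr rfl fun j _ => (pow_succ' H j).symm
    have hSH : S * H = H * S := by
      rw [Matrix.smul_mul, Matrix.mul_smul, Finset.sum_mul, Finset.mul_sum]
      exact congrArg _ (Finset.sum_congr rfl fun j _ => by rw [← pow_succ, pow_succ'])
    have hcol : ∀ u, ∃ a : F, a • e = S *ᵥ u := fun u => by
      obtain ⟨a, ha⟩ := hall ⟨S *ᵥ u, by
        rw [LinearMap.mem_ker, LinearMap.sub_apply, Matrix.toLin'_apply, Matrix.mulVec_mulVec, hHS]; simp⟩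
      exact ⟨a, congrArg Subtype.val ha⟩
    choose a ha using fun j => hcol (Pi.single j 1)
    have hS : S = Matrix.vecMulVec e a := Matrix.ext fun s j => by
      have h1 := congrFun (ha j) s
      rw [Matrix.mulVec_single_one, Matrix.col_apply] at h1
      rw [← h1, Matrix.vecMulVec_apply, Pi.smul_apply, smul_eq_mul, mul_comm]
    have hHe : H *ᵥ e = e := by
      have h1 := LinearMap.mem_ker.1 he
      rw [LinearMap.sub_apply, Matrix.toLin'_apply, Module.End.one_apply, sub_eq_zero] at h1
      exact h1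
    have hHje : ∀ j : ℕ, (H ^ j) *ᵥ e = e := by
      intro j
      induction j with
      | zero => simp
      | succ j ih => rw [pow_succ, ← Matrix.mulVec_mulVec, hHe, ih]
    have hae : a ⬝ᵥ e = 1 := by
      have h1 : S *ᵥ e = e := by
        rw [Matrix.smul_mulVec, Matrix.sum_mulVec, Finset.sum_congr rfl (fun j _ => hHje j), Finset.sum_const,
          Finset.card_range, ← Nat.cast_smul_eq_nsmul F, inv_smul_smul₀ hkF]
      rw [hS, Matrix.vecMulVec_mulVec] at h1
      obtain ⟨s, hs⟩ := Function.ne_iff.1 (fun h => he0 (Subtype.ext h) : e ≠ 0)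
      have h2 := congrFun h1 s
      simp at h2
      exact (mul_eq_left₀ hs).1 h2
    let t : F := P.det⁻¹ - 1
    let D : Matrix (Fin k) (Fin k) F := 1 + t • S
    have hD : D.det = P.det⁻¹ := by
      show (1 + t • S).det = _
      rw [hS, ← Matrix.smul_vecMulVec, Matrix.vecMulVec_eq Unit, Matrix.det_one_add_replicateCol_mul_replicateRow,
        dotProduct_smul, hae, smul_eq_mul, mul_one]
      exact add_sub_cancel 1 _
    have hDH : D * H = H * D := by
      show (1 + t • S) * H = H * (1 + t • S)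
      rw [add_mul, mul_add, one_mul, mul_one, Matrix.smul_mul, Matrix.mul_smul, hSH]
    let R : Matrix.SpecialLinearGroup (Fin k) F := ⟨D * P, by rw [Matrix.det_mul, hD, inv_mul_cancel₀ hPdet]⟩
    let gs : Matrix.SpecialLinearGroup (Fin k) F := ⟨H, hgdet⟩
    refine ⟨R⁻¹, ?_⟩
    have hR : R * x = gs * R := Subtype.ext (by
      show D * P * M = H * (D * P)
      rw [mul_assoc, hPM, ← mul_assoc, hDH, mul_assoc])
    rw [inv_inv, hR, mul_inv_cancel_right]
    show Matrix.SpecialLinearGroup.toGL gs ∈ Cfsg.Geo.subalgebraNormalizer K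
    rw [show Matrix.SpecialLinearGroup.toGL gs = g from Units.ext rfl]
    exact hgN

end Cfsg.Agent.S5970
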