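import Cfsg.Statements.S5971
import Cfsg.Agent.Lib.Classical.SingerNormal
import Cfsg.Agent.Lib.Classical.CyclicPrime
import Cfsg.Agent.Lib.Classical.CyclicConj

set_option autoImplicit false
open scoped MatrixGroups
open Cfsg

open Cfsg.Agent.Classical Module
open Matrix hiding toLin'
set_option maxHeartbeats 1000000
theorem Cfsg.Agent.S5971.ord_two : orderOf (2 : ZMod 3) = 2 := orderOf_eq_prime (by decide) (by decide)

namespace Cfsg.Agent.S5971

/-- Elements of order 3 of PSL_3(q) and the normalizer of a Singer cycle. Here `T = PSL_n(F)` for a field `F` with `q = p^f` elements (`n ≥ 2`, `(n, q) ≠ (2, 2), (2, 3)`), `k` is a prime dividing `n`, `K` is a subalgebra of the `n × n` matrices that is a field of degree `k` over `F` (an extension-field structure F_{q^k} on `F^n`), and `H` is the subgroup of matrices of determinant 1 normalizing `K` — a subgroup of type GL_{n/k}(q^k) (maximal except in some small cases; maximality is not assumed); Ω is the set of cosets of `H` in `T`, so an element of `T` of prime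 order `r` (a matrix `x` of determinant 1 with `x^r` scalar, `x` not scalar) fixes a point of Ω when some conjugate of `x` by a matrix of determinant 1 normalizes `K`. Take `n = k = 3` and suppose 3 divides the index of `H`. Then every element of `T` of order 3 is conjugate in `T` into `H` if and only if `q ≡ 4, 7` or `8 (mod 9)`. -/
theorem result {F : Type*} [Field F] [Fintype F] {p : ℕ} [Fact p.Prime] [CharP F p] {q : ℕ} (hq : Fintype.card F = q)
    (n : ℕ) (hn : n = 3) (k : ℕ) (hk : k.Prime) (hkn : k ∣ n) (K : Subalgebra F (Matrix (Fin n) (Fin n) F)) (hK : Cfsg.Geo.IsFieldSubalgebra k K) (hk3 : k = 3) (hΩ : 3 ∣ ((Cfsg.Geo.subalgebraNormalizer K).comap (Matrix.SpecialLinearGroup.toGL : Matrix.SpecialLinearGroup (Fin n) F →* GL (Fin n) F)).index) :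
    (∀ x : Matrix.SpecialLinearGroup (Fin n) F,
      (∃ z : F, ((x ^ 3 : Matrix.SpecialLinearGroup (Fin n) F) : Matrix (Fin n) (Fin n) F) = z • (1 : Matrix (Fin n) (Fin n) F)) →
      (∀ z : F, (x : Matrix (Fin n) (Fin n) F) ≠ z • (1 : Matrix (Fin n) (Fin n) F)) →
      ∃ P : Matrix.SpecialLinearGroup (Fin n) F, P⁻¹ * x * P ∈ ((Cfsg.Geo.subalgebraNormalizer K).comap (Matrix.SpecialLinearGroup.toGL : Matrix.SpecialLinearGroup (Fin n) F →* GL (Fin n) F))) ↔
    (q % 9 = 4 ∨ q % 9 = 7 ∨ q % 9 = 8) := by
  classical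
  subst hn hk3
  haveI : Fact (Nat.Prime 3) := ⟨Nat.prime_three⟩
  have hq2 : 2 ≤ q := hq ▸ Fintype.one_lt_card
  obtain ⟨s, -, hs⟩ := FiniteField.card F p
  rw [hq] at hs
  have hp3 : q % 3 ≠ 0 → (3 : F) ≠ 0 := fun h e => by
    have h1 : ((3 : ℕ) : F) = 0 := by exact_mod_cast e
    rw [CharP.cast_eq_zero_iff F p] at h1
    have h2 : p = 3 := (Nat.prime_dvd_prime_iff_eq Fact.out Nat.prime_three).1 h1
    exact h (Nat.mod_eq_zero_of_dvd (by rw [hs, h2]; exact dvd_pow_self 3 s.ne_zero))
  have hroot : q % 3 ≠ 1 → ∀ u : F, u ^ 3 = 1 → u = 1 := fun hq1 u hu => by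
    by_contra hu1
    have hu0 : u ≠ 0 := fun e => by rw [e, zero_pow three_ne_zero] at hu; exact zero_ne_one hu
    have h1 : orderOf (Units.mk0 u hu0) = 3 :=
      orderOf_eq_prime (Units.ext (by simpa using hu)) (fun e => hu1 (congrArg Units.val e))
    have h2 := orderOf_dvd_card (x := Units.mk0 u hu0)
    rw [h1, Fintype.card_units, hq] at h2
    omega
  constructor
  · intro h
    by_contra hcon
    -- an element with a two-dimensional eigenspace is not conjugate into the normalizer
    have main : ∀ (M : Matrix (Fin 3) (Fin 3) F) (l z : F), M.det = 1 → M ^ 3 = z • 1 → (∀ c : F, M ≠ c • 1) →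
        ∀ v w : Fin 3 → F, M *ᵥ v = l • v → M *ᵥ w = l • w → v ≠ 0 → (∀ a : F, w ≠ a • v) → False := by
      intro M l z hdet hpow hns v w hv hw hv0 hvw
      let xs : Matrix.SpecialLinearGroup (Fin 3) F := ⟨M, hdet⟩
      obtain ⟨P, hP⟩ := h xs ⟨z, by rw [Matrix.SpecialLinearGroup.coe_pow]; exact hpow⟩ hns
      let g : GL (Fin 3) F := Matrix.SpecialLinearGroup.toGL (P⁻¹ * xs * P)
      let Pm : Matrix (Fin 3) (Fin 3) F := P
      let Pi' : Matrix (Fin 3) (Fin 3) F := ((P⁻¹ : Matrix.SpecialLinearGroup (Fin 3) F) : Matrix (Fin 3) (Fin 3) F)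
      have hPP : Pm * Pi' = 1 := by
        show (P : Matrix (Fin 3) (Fin 3) F) * ((P⁻¹ : Matrix.SpecialLinearGroup (Fin 3) F) : Matrix (Fin 3) (Fin 3) F) = 1
        rw [← Matrix.SpecialLinearGroup.coe_mul, mul_inv_cancel, Matrix.SpecialLinearGroup.coe_one]
      have hgm : (g : Matrix (Fin 3) (Fin 3) F) = Pi' * M * Pm := by
        show ((P⁻¹ * xs * P : Matrix.SpecialLinearGroup (Fin 3) F) : Matrix (Fin 3) (Fin 3) F) = _
        rw [Matrix.SpecialLinearGroup.coe_mul, Matrix.SpecialLinearGroup.coe_mul]
      have hfix : ∀ u, M *ᵥ u = l • u → (g : Matrix (Fin 3) (Fin 3) F) *ᵥ (Pi' *ᵥ u) = l • (Pi' *ᵥ u) := fun u hu => by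
        rw [hgm, Matrix.mulVec_mulVec, mul_assoc _ Pm Pi', hPP, mul_one, ← Matrix.mulVec_mulVec, hu, Matrix.mulVec_smul]
      have hinj : ∀ u u', Pi' *ᵥ u = Pi' *ᵥ u' → u = u' := fun u u' e => by
        rw [← Matrix.one_mulVec u, ← Matrix.one_mulVec u', ← hPP, ← Matrix.mulVec_mulVec, ← Matrix.mulVec_mulVec, e]
      obtain ⟨a, ha⟩ := SingerNormal.eigen_line Nat.prime_three hK (g := g) hP (fun c hc => hns c (by
        have h1 : Pm * (g : Matrix (Fin 3) (Fin 3) F) * Pi' = M := by
          rw [hgm, ← mul_assoc, ← mul_assoc, hPP, one_mul, mul_assoc, hPP, mul_one]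
        rw [← h1, hc, Matrix.mul_smul, mul_one, Matrix.smul_mul, hPP]))
        (fun e => hv0 (hinj _ _ (e.trans (Matrix.mulVec_zero _).symm))) (hfix v hv) (hfix w hw)
      exact hvw a (hinj _ _ (by rw [ha, Matrix.mulVec_smul]))
    rcases (show q % 3 = 0 ∨ q % 9 = 1 ∨ q % 9 = 2 ∨ q % 9 = 5 by omega) with h0 | h1 | h25
    · have hF : (3 : F) = 0 := by
        have h1 : (q : F) = 0 := by rw [← hq]; exact_mod_cast CharP.cast_eq_zero_iff F p _ |>.2 (hq ▸ hs ▸ dvd_pow_self p s.ne_zero)
        have hp' : p = 3 := by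
          have h2 : 3 ∣ p := Nat.prime_three.dvd_of_dvd_pow (hs ▸ Nat.dvd_of_mod_eq_zero h0)
          exact ((Nat.prime_dvd_prime_iff_eq Nat.prime_three Fact.out).1 h2).symm
        have := CharP.cast_eq_zero F p
        rw [hp'] at this
        exact_mod_cast this
      refine main (Matrix.transvection 0 2 1) 1 1 (Matrix.det_transvection_of_ne _ _ (by decide) 1) ?_ (fun c hc => ?_)
        (Pi.single 0 1) (Pi.single 1 1) ?_ ?_ (by simp) (fun a ha => by simpa using congrFun ha 1)
      · rw [pow_three, Matrix.transvection_mul_transvection_same _ _ (by decide), Matrix.transvection_mul_transvection_same _ _ (by decide),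
          show (1 : F) + (1 + 1) = 0 by linear_combination hF, Matrix.transvection_zero, one_smul]
      · simpa [Matrix.transvection] using congrFun (congrFun hc 0) 2
      · rw [one_smul, Matrix.mulVec_single_one]; ext i; fin_cases i <;> simp [Matrix.transvection, Matrix.col]
      · rw [one_smul, Matrix.mulVec_single_one]; ext i; fin_cases i <;> simp [Matrix.transvection, Matrix.col]
    · obtain ⟨au, ha⟩ : ∃ au : Fˣ, orderOf au = 9 := by
        obtain ⟨g, hg⟩ := IsCyclic.exists_generator (α := Fˣ)
        have h9 : 9 ∣ q - 1 := by omega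
        obtain ⟨t, ht⟩ := h9
        refine ⟨g ^ t, ?_⟩
        rw [orderOf_pow, orderOf_eq_card_of_forall_mem_zpowers hg, Nat.card_units, Nat.card_eq_fintype_card, hq, ht,
          Nat.gcd_mul_left_left, Nat.mul_div_cancel _ (by omega : 0 < t)]
      set a : F := (au : F) with had
      have ha9 : a ^ 9 = 1 := by rw [had, ← Units.val_pow_eq_pow_val, ← ha, pow_orderOf_eq_one]; rfl
      have ha3 : a ^ 3 ≠ 1 := fun e => by
        have h2 : orderOf au ∣ 3 := orderOf_dvd_of_pow_eq_one (Units.ext (by rw [Units.val_pow_eq_pow_val]; exact e))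
        rw [ha] at h2
        exact absurd (Nat.le_of_dvd (by omega) h2) (by omega)
      have ha0 : a ≠ 0 := au.ne_zero
      refine main (Matrix.diagonal ![a, a, (a * a)⁻¹]) a (a ^ 3) ?_ ?_ (fun c hc => ha3 ?_) (Pi.single 0 1) (Pi.single 1 1) ?_ ?_
        (by simp) (fun b hb => by simpa using congrFun hb 1)
      · simp [Matrix.det_diagonal, Fin.prod_univ_three]; field_simp
      · rw [Matrix.diagonal_pow, Matrix.smul_one_eq_diagonal]
        refine congrArg _ (funext fun i => ?_)
        fin_cases i <;> simp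
        field_simp
        linear_combination -ha9
      · have e1 := congrFun (congrFun hc 0) 0
        have e2 := congrFun (congrFun hc 2) 2
        simp at e1 e2
        rw [← e1] at e2
        field_simp at e2
        linear_combination -e2
      · ext i; fin_cases i <;> simp [Matrix.mulVec_diagonal]
      · ext i; fin_cases i <;> simp [Matrix.mulVec_diagonal]
    · -- the index is prime to three
      obtain ⟨g, hgN, hgdet, hg3, hg1⟩ := SingerNormal.exists_semilinear Nat.prime_three (by omega) (hroot (by omega)) hK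
      set Hs := (Cfsg.Geo.subalgebraNormalizer K).comap (Matrix.SpecialLinearGroup.toGL : Matrix.SpecialLinearGroup (Fin 3) F →* GL (Fin 3) F)
      let gs : Hs := ⟨⟨(g : Matrix (Fin 3) (Fin 3) F), hgdet⟩, by
        show Matrix.SpecialLinearGroup.toGL (⟨(g : Matrix (Fin 3) (Fin 3) F), hgdet⟩ : Matrix.SpecialLinearGroup (Fin 3) F) ∈ Cfsg.Geo.subalgebraNormalizer K
        rw [show Matrix.SpecialLinearGroup.toGL (⟨(g : Matrix (Fin 3) (Fin 3) F), hgdet⟩ : Matrix.SpecialLinearGroup (Fin 3) F) = g from Units.ext rfl]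
        exact hgN⟩
      have hord : orderOf gs = 3 := orderOf_eq_prime (Subtype.ext (Subtype.ext (by simpa using hg3)))
        (fun e => hg1 (by simpa [gs] using congrArg (fun x : Hs => ((x : Matrix.SpecialLinearGroup (Fin 3) F) : Matrix (Fin 3) (Fin 3) F)) e))
      have h9 : 3 * 3 ∣ Nat.card (Matrix.SpecialLinearGroup (Fin 3) F) := by
        rw [← Hs.index_mul_card]
        exact mul_dvd_mul hΩ ((dvd_of_eq hord.symm).trans (orderOf_dvd_natCard gs))
      have hGL : Nat.card (GL (Fin 3) F) = Nat.card (Matrix.SpecialLinearGroup (Fin 3) F) * (q - 1) := by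
        have hsurj : Function.Surjective (Matrix.GeneralLinearGroup.det (n := Fin 3) (R := F)) := fun u => by
          refine ⟨Matrix.GeneralLinearGroup.mkOfDetNeZero (Matrix.diagonal ![(u : F), 1, 1]) ?_, ?_⟩
          · simp [Matrix.det_diagonal, Fin.prod_univ_three]
          · refine Units.ext ?_
            show Matrix.det _ = (u : F)
            simp [Matrix.GeneralLinearGroup.mkOfDetNeZero, Matrix.det_diagonal, Fin.prod_univ_three]
        rw [← (Matrix.GeneralLinearGroup.det (n := Fin 3) (R := F)).ker.card_mul_index, Subgroup.index_ker,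
          MonoidHom.range_eq_top.2 hsurj, Subgroup.card_top, Nat.card_units, Nat.card_eq_fintype_card (α := F), hq]
        congr 1
        refine Nat.card_congr
          { toFun := fun g => ⟨(g.1 : Matrix (Fin 3) (Fin 3) F), congrArg Units.val (MonoidHom.mem_ker.1 g.2)⟩
            invFun := fun s => ⟨Matrix.SpecialLinearGroup.toGL s, MonoidHom.mem_ker.2 (Units.ext (Matrix.SpecialLinearGroup.det_coe s))⟩
            left_inv := fun g => Subtype.ext (Units.ext rfl)
            right_inv := fun s => Subtype.ext rfl }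
      rw [Matrix.card_GL_field, hq, Fin.prod_univ_three] at hGL
      have hz : ((Nat.card (Matrix.SpecialLinearGroup (Fin 3) F) : ℕ) : ZMod 9) = 0 :=
        (ZMod.natCast_eq_zero_iff _ _).2 h9
      have h3 := congrArg (fun m : ℕ => (m : ZMod 9)) hGL
      simp only [Fin.val_zero, Fin.val_one, Fin.val_two, pow_zero, pow_one] at h3
      push_cast [hz, Nat.cast_sub (Nat.one_le_pow 3 q (by omega)), Nat.cast_sub (Nat.le_self_pow three_ne_zero q),
        Nat.cast_sub (Nat.pow_le_pow_right (show 0 < q by omega) (show 2 ≤ 3 by omega))] at h3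
      rcases h25 with e | e <;>
      · rw [show (q : ZMod 9) = ((q % 9 : ℕ) : ZMod 9) from (ZMod.natCast_mod q 9).symm, e, zero_mul] at h3
        exact absurd h3 (by decide)
  · intro hq9 x ⟨z, hz⟩ hns
    have h3F : (3 : F) ≠ 0 := hp3 (by omega)
    rw [Matrix.SpecialLinearGroup.coe_pow] at hz
    set M := (x : Matrix (Fin 3) (Fin 3) F) with hM
    have hz3 : z ^ 3 = 1 := by
      have h1 := congrArg Matrix.det hz
      rw [Matrix.det_pow, Matrix.SpecialLinearGroup.det_coe, one_pow, Matrix.det_smul, Matrix.det_one, mul_one, Fintype.card_fin] at h1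
      exact h1.symm
    have hz1 : z = 1 := by
      by_contra hz1
      have hz0 : z ≠ 0 := fun e => by rw [e, zero_pow three_ne_zero] at hz3; exact zero_ne_one hz3
      have hnr : ∀ a : F, a ^ 3 ≠ z := fun a ha => by
        have ha0 : a ≠ 0 := fun e => hz0 (by rw [← ha, e, zero_pow three_ne_zero])
        have h1 : orderOf (Units.mk0 a ha0) = 3 ^ (1 + 1) := orderOf_eq_prime_pow
          (fun e => hz1 (ha ▸ by simpa using congrArg Units.val e))
          (Units.ext (by simp; rw [show (9 : ℕ) = 3 * 3 by norm_num, pow_mul, ha, hz3]))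
        have h2 := orderOf_dvd_card (x := Units.mk0 a ha0)
        rw [h1, Fintype.card_units, hq] at h2
        omega
      have hirr : Irreducible (Polynomial.X ^ 3 - Polynomial.C z : Polynomial F) :=
        X_pow_sub_C_irreducible_of_prime Nat.prime_three hnr
      have hmon : (Polynomial.X ^ 3 - Polynomial.C z : Polynomial F).Monic := Polynomial.monic_X_pow_sub_C z three_ne_zero
      have hev : Polynomial.aeval M (Polynomial.X ^ 3 - Polynomial.C z) = 0 := by
        simp [hz, Algebra.algebraMap_eq_smul_one]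
      have hmin := minpoly.eq_of_irreducible_of_monic hirr hev hmon
      have hchar : M.charpoly = Polynomial.X ^ 3 - Polynomial.C z :=
        Polynomial.eq_of_monic_of_dvd_of_natDegree_le hmon M.charpoly_monic (hmin ▸ Matrix.minpoly_dvd_charpoly M)
          (by rw [Matrix.charpoly_natDegree_eq_dim, Fintype.card_fin, Polynomial.natDegree_X_pow_sub_C])
      have hdet := Matrix.det_eq_sign_charpoly_coeff M
      rw [hM, Matrix.SpecialLinearGroup.det_coe, ← hM, hchar, Fintype.card_fin, Polynomial.coeff_sub,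
        Polynomial.coeff_X_pow, Polynomial.coeff_C_zero, if_neg (by omega)] at hdet
      exact hz1 (by linear_combination -hdet)
    rw [hz1, one_smul] at hz
    obtain ⟨g, hgN, hg3, hg1, u, hu0, hu⟩ := SingerNormal.exists_semilinear₀ Nat.prime_three hK
    set H := (g : Matrix (Fin 3) (Fin 3) F) with hH
    have hHns : ∀ c : F, H ≠ c • 1 := fun c hc => by
      refine hg1 ?_
      rw [hc, Matrix.smul_mulVec, Matrix.one_mulVec] at hu
      have : c = 1 := by
        obtain ⟨i, hi⟩ := Function.ne_iff.1 hu0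
        have h1 := congrFun hu i
        simp at h1
        exact (mul_eq_right₀ hi).1 h1
      rw [hc, this, one_smul]
    have key : H.det = 1 ∧ ∃ v w : Fin 3 → F,
        Submodule.span F (Set.range fun j : Fin 3 => (M ^ (j : ℕ)) *ᵥ v) = ⊤ ∧
        Submodule.span F (Set.range fun j : Fin 3 => (H ^ (j : ℕ)) *ᵥ w) = ⊤ ∧
        finrank F (LinearMap.ker (Matrix.toLin' H - 1)) = 1 := by
      by_cases h31 : q % 3 = 1
      · obtain ⟨zu, hzu⟩ := exists_prime_orderOf_dvd_card' (G := Fˣ) 3 (by
          rw [Nat.card_units, Nat.card_eq_fintype_card, hq]; omega)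
        have hr3 : (zu : F) ^ 3 = 1 := by rw [← Units.val_pow_eq_pow_val, ← hzu, pow_orderOf_eq_one]; rfl
        have hr1 : (zu : F) ≠ 1 := fun e => by
          rw [Units.val_eq_one.1 e, orderOf_one] at hzu; omega
        obtain ⟨-, v, hv, -⟩ := CyclicConj.exists_cyclic_three h3F hz (fun c hc => by
          have h1 := CyclicConj.rank_ne_one h3F hz x.2 hc
          have h2 : (M - c • 1).rank ≠ 0 := fun e => hns c (sub_eq_zero.1 (RankOneDet.eq_zero_of_rank e))
          show 2 ≤ (M - c • 1).rank
          have h1' : (M - c • 1).rank ≠ 1 := h1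
          omega) hr3 hr1
        obtain ⟨hd, w, hw, hker⟩ := CyclicConj.exists_cyclic_three h3F hg3 (fun c hc => by
          have h1 := LinearMap.finrank_range_add_finrank_ker (H - c • 1).mulVecLin
          rw [finrank_fin_fun] at h1
          have h2 : finrank F (LinearMap.ker (H - c • 1).mulVecLin) ≤ 1 := by
            by_cases hb : LinearMap.ker (H - c • 1).mulVecLin = ⊥
            · rw [hb, finrank_bot]; omega
            obtain ⟨v, hv, hv0⟩ := Submodule.exists_mem_ne_zero_of_ne_bot hb
            have hev : ∀ y ∈ LinearMap.ker (H - c • 1).mulVecLin, H *ᵥ y = c • y := fun y hy => by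
              rw [LinearMap.mem_ker, Matrix.mulVecLin_apply, Matrix.sub_mulVec, Matrix.smul_mulVec, Matrix.one_mulVec, sub_eq_zero] at hy
              exact hy
            refine le_trans (Submodule.finrank_mono (t := Submodule.span F {v}) fun y hy => ?_) (le_of_eq (finrank_span_singleton hv0))
            obtain ⟨a, ha⟩ := SingerNormal.eigen_line Nat.prime_three hK hgN hHns hv0 (hev v hv) (hev y hy)
            exact Submodule.mem_span_singleton.2 ⟨a, ha.symm⟩
          show 2 ≤ finrank F (LinearMap.range (H - c • 1).mulVecLin)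
          omega) hr3 hr1
        exact ⟨hd, v, w, hv, hw, hker⟩
      · have hd : H.det = 1 := hroot h31 _ (by rw [← Matrix.det_pow, hg3, Matrix.det_one])
        have hord : orderOf (Fintype.card F : ZMod 3) = 3 - 1 := by
          rw [hq, show (q : ZMod 3) = ((q % 3 : ℕ) : ZMod 3) from (ZMod.natCast_mod q 3).symm, show q % 3 = 2 by omega]
          show orderOf (2 : ZMod 3) = 2
          exact Cfsg.Agent.S5971.ord_two
        have hend : ∀ A : Matrix (Fin 3) (Fin 3) F, A ^ 3 = 1 → A ≠ 1 →
            ∃ v, Submodule.span F (Set.range fun j : Fin 3 => (A ^ (j : ℕ)) *ᵥ v) = ⊤ ∧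
              finrank F (LinearMap.ker (Matrix.toLin' A - 1)) = 1 := fun A hA hA1 => by
          have h1 : ∀ j : ℕ, Matrix.toLin' (A ^ j) = Matrix.toLin' A ^ j := fun j => Matrix.toLin'_pow A j
          obtain ⟨v, hv, hker⟩ := CyclicPrime.exists_cyclic le_rfl (by exact_mod_cast h3F) hord (Matrix.toLin' A)
            (by rw [← h1, hA, Matrix.toLin'_one]; rfl)
            (fun e => hA1 (Matrix.toLin'.injective (e.trans Matrix.toLin'_one.symm)))
          refine ⟨v, ?_, hker⟩
          simp only [← h1, Matrix.toLin'_apply] at hv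
          exact hv
        obtain ⟨v, hv, -⟩ := hend M hz (fun e => hns 1 (by rw [one_smul]; exact e))
        obtain ⟨w, hw, hker⟩ := hend H hg3 hg1
        exact ⟨hd, v, w, hv, hw, hker⟩
    obtain ⟨hd, v, w, hv, hw, hker⟩ := key
    obtain ⟨R, hRd, hR⟩ := CyclicConj.exists_intertwine (by exact_mod_cast h3F) hz hg3 hv hw hker
    let Rs : Matrix.SpecialLinearGroup (Fin 3) F := ⟨R, hRd⟩
    let gs : Matrix.SpecialLinearGroup (Fin 3) F := ⟨H, hd⟩
    refine ⟨Rs⁻¹, ?_⟩
    have hRx : Rs * x = gs * Rs := Subtype.ext hR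
    rw [inv_inv, hRx, mul_inv_cancel_right]
    show Matrix.SpecialLinearGroup.toGL gs ∈ Cfsg.Geo.subalgebraNormalizer K
    rw [show Matrix.SpecialLinearGroup.toGL gs = g from Units.ext rfl]
    exact hgN

end Cfsg.Agent.S5971
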