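import Cfsg.Statements.S5983
import Cfsg.Agent.Lib.Classical.MinusTorus
import Cfsg.Agent.Lib.Classical.SympInvolution

set_option autoImplicit false
open scoped MatrixGroups
open Cfsg

open Cfsg.Agent.Classical Module SympForms
open Matrix hiding toLin'
open QuadraticMap (polar polarBilin)
set_option maxHeartbeats 1000000

namespace Cfsg.Agent.S5983

/-- Elements of prime order of PSp_n(q), q even, and the subgroups of orthogonal type. Here `T = Sp_{2d}(F)` for a field `F` of characteristic 2 with `q` elements (`d ≥ 2`, `(d, q) ≠ (2, 2)`), realised as the invertible matrices preserving the standard alternating form; `Q` is a non-degenerate quadratic form on `F^{2d}` whose polar form is that alternating form, and `H` is the subgroup of `T` preserving `Q` up to a scalar (equivalently preserving `Q`) — a subgroup of type O^±_{2d}(q) (maximality is not assumed); `Q` is of plus type when `F^{2d}` contains a `d`-dimensional subspace on which `Q` vanishes, of minus type otherwise. Ω is the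 set of cosets of `H` in `T`, so an element of `T` of prime order `r` (`x ∈ T` with `x^r` scalar, `x` not scalar) fixes a point of Ω exactly when some `T`-conjugate of `x` preserves `Q`. Let `r` be a prime dividing the index of `H`. Then every element of `T` of order `r` fixes a point of Ω if and only if `r = 2` and either `Q` is of plus type or `d` is odd. -/
theorem result {F : Type*} [Field F] [Fintype F] {p : ℕ} [Fact p.Prime] [CharP F p] {q : ℕ} (hq : Fintype.card F = q)
    (hp : p = 2) (d : ℕ) (hd : 2 ≤ d) (hT : (d, q) ≠ (2, 2)) (Q : (Fin d ⊕ Fin d → F) → F) (hQ : Cfsg.Geo.IsNondegenerateQuadraticForm Q)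
    (hQf : ∀ u v, QuadraticMap.polar Q u v = Cfsg.sympForm d F u v)
    (r : ℕ) [Fact r.Prime]
    (hΩ : r ∣ (Cfsg.Geo.quadSimilarityGroup Q).relIndex (Cfsg.spGL d F)) :
    (∀ x ∈ Cfsg.spGL d F, (∃ z : F, ((x ^ r : GL (Fin d ⊕ Fin d) F) : Matrix (Fin d ⊕ Fin d) (Fin d ⊕ Fin d) F) = z • (1 : Matrix (Fin d ⊕ Fin d) (Fin d ⊕ Fin d) F)) →
      (∀ z : F, (x : Matrix (Fin d ⊕ Fin d) (Fin d ⊕ Fin d) F) ≠ z • (1 : Matrix (Fin d ⊕ Fin d) (Fin d ⊕ Fin d) F)) →
      ∃ g ∈ Cfsg.spGL d F, g⁻¹ * x * g ∈ Cfsg.Geo.quadSimilarityGroup Q) ↔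
    (r = 2 ∧ (Cfsg.Geo.IsPlusTypeOn Q ⊤ ∨ Odd d)) := by
  classical
  haveI hc2 : CharP F 2 := hp ▸ (inferInstance : CharP F p)
  have h20 : (2 : F) = 0 := by exact_mod_cast CharP.cast_eq_zero F 2
  have hneg : ∀ a : F, -a = a := fun a => CharTwo.neg_eq a
  have hvv : ∀ v : Fin d ⊕ Fin d → F, v + v = 0 := fun v => by funext i; exact CharTwo.add_self_eq_zero _
  have hSF0 : IsSF (Q0 (F := F) (d := d)) := fun u v => rfl
  have hf : ∀ u v, Cfsg.sympForm d F u v = polar Q0 u v := fun u v => by
    rw [← Sp.sympB_apply, Cfsg.Agent.Classical.CharTwo.polar_QP_eq_sympB]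
  -- the given form
  obtain ⟨l, hl⟩ := Cfsg.Agent.Classical.CharTwo.exists_sqrt_linear (fun v => Q v - Q0 v)
    (fun u v => by
      have e := (hQf u v).trans (hf u v)
      simp only [polar] at e
      linear_combination e)
    (fun c v => by simp only [QuadraticMap.map_smul, smul_eq_mul, hQ.smul]; ring)
  set aQ := (LinearMap.BilinForm.toDual (polarBilin (Q0 (F := F) (d := d))) PlusMax.nondeg).symm l with haQ
  set Qq := shift Q0 aQ with hQq
  have hQe : ∀ v, Q v = Qq v := fun v => by
    rw [hQq, shift_apply, ← QuadraticMap.polarBilin_apply_apply, haQ, LinearMap.BilinForm.apply_toDual_symm_apply, hl]; ring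
  have hSFq : IsSF Qq := isSF_shift hSF0 aQ
  have htype : Cfsg.Geo.IsPlusTypeOn Q ⊤ ↔ Plus Qq := by
    refine ⟨fun ⟨U, _, hU, hU2⟩ => ⟨U, by rw [finrank_top, finrank_V] at hU2; omega, fun w hw => (hQe w).symm.trans (hU w hw)⟩,
      fun ⟨U, hU, hU'⟩ => ⟨U, le_top, fun w hw => (hQe w).trans (hU' w hw), by rw [finrank_top, finrank_V]; omega⟩⟩
  rw [htype]
  -- the stabiliser
  have hH : ∀ g ∈ Cfsg.spGL d F, g ∈ Cfsg.Geo.quadSimilarityGroup Q ↔
      ∀ v, Qq ((g : Matrix (Fin d ⊕ Fin d) (Fin d ⊕ Fin d) F) *ᵥ v) = Qq v := by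
    intro g hg
    refine ⟨fun ⟨c, hc⟩ v => ?_, fun h => ⟨1, fun v => by rw [Units.val_one, one_mul, hQe, hQe, h]⟩⟩
    have hc1 : (c : F) = 1 := by
      let u : Fin d ⊕ Fin d → F := Pi.single (Sum.inl ⟨0, by omega⟩) 1
      let w : Fin d ⊕ Fin d → F := Pi.single (Sum.inr ⟨0, by omega⟩) 1
      have huw : Cfsg.sympForm d F u w = 1 := by
        rw [← Sp.sympB_apply, Sp.sympB_sum]; simp [u, w, Pi.single_apply, hneg]
      have h1 : polar Q ((g : Matrix (Fin d ⊕ Fin d) (Fin d ⊕ Fin d) F) *ᵥ u) ((g : Matrix (Fin d ⊕ Fin d) (Fin d ⊕ Fin d) F) *ᵥ w) = (c : F) * polar Q u w := by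
        simp only [polar, ← Matrix.mulVec_add, hc]; ring
      have h2 : Cfsg.sympForm d F ((g : Matrix (Fin d ⊕ Fin d) (Fin d ⊕ Fin d) F) *ᵥ u) ((g : Matrix (Fin d ⊕ Fin d) (Fin d ⊕ Fin d) F) *ᵥ w) = Cfsg.sympForm d F u w := hg u w
      rw [hQf, hQf, h2, huw, mul_one] at h1
      exact h1.symm
    rw [← hQe, ← hQe, hc, hc1, one_mul]
  -- isometries of forms lie in the symplectic group
  have hglue : ∀ (Q' : QuadraticForm F (Fin d ⊕ Fin d → F)), IsSF Q' → (Plus Qq ↔ Plus Q') →
      ∃ g ∈ Cfsg.spGL d F, ∀ v, Q' ((g : Matrix (Fin d ⊕ Fin d) (Fin d ⊕ Fin d) F) *ᵥ v) = Qq v := by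
    intro Q' h' ht
    obtain ⟨e, he⟩ := exists_iso hSFq h' ht
    let g : GL (Fin d ⊕ Fin d) F := Matrix.GeneralLinearGroup.mkOfDetNeZero (LinearMap.toMatrix' e.toLinearMap) (by
      rw [← isUnit_iff_ne_zero, ← Matrix.isUnit_iff_isUnit_det, ← Matrix.mulVec_injective_iff_isUnit]
      intro v w hvw
      rw [LinearMap.toMatrix'_mulVec, LinearMap.toMatrix'_mulVec] at hvw
      exact e.injective hvw)
    have hg : ∀ v, (g : Matrix (Fin d ⊕ Fin d) (Fin d ⊕ Fin d) F) *ᵥ v = e v := fun v => LinearMap.toMatrix'_mulVec _ v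
    refine ⟨g, fun u v => ?_, fun v => by rw [hg, he]⟩
    show Cfsg.sympForm d F ((g : Matrix (Fin d ⊕ Fin d) (Fin d ⊕ Fin d) F) *ᵥ u) ((g : Matrix (Fin d ⊕ Fin d) (Fin d ⊕ Fin d) F) *ᵥ v) = _
    rw [hg, hg, hf, hf, ← h' (e u) (e v), ← hSFq u v]
    simp only [polar, ← map_add e, he]
  -- fixing a point
  have hfix : ∀ x ∈ Cfsg.spGL d F, (∃ g ∈ Cfsg.spGL d F, g⁻¹ * x * g ∈ Cfsg.Geo.quadSimilarityGroup Q) ↔
      ∃ Q' : QuadraticForm F (Fin d ⊕ Fin d → F), IsSF Q' ∧ (Plus Qq ↔ Plus Q') ∧
        ∀ v, Q' ((x : Matrix (Fin d ⊕ Fin d) (Fin d ⊕ Fin d) F) *ᵥ v) = Q' v := by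
    intro x hx
    constructor
    · rintro ⟨g, hg, hgx⟩
      have h1 := (hH _ (mul_mem (mul_mem (inv_mem hg) hx) hg)).1 hgx
      let L : (Fin d ⊕ Fin d → F) →ₗ[F] (Fin d ⊕ Fin d → F) := ((g⁻¹ : GL (Fin d ⊕ Fin d) F) : Matrix (Fin d ⊕ Fin d) (Fin d ⊕ Fin d) F).mulVecLin
      have hL : ∀ v, L ((g : Matrix (Fin d ⊕ Fin d) (Fin d ⊕ Fin d) F) *ᵥ v) = v := fun v => by
        simp [L, Matrix.mulVec_mulVec]
      have hL' : ∀ v, (g : Matrix (Fin d ⊕ Fin d) (Fin d ⊕ Fin d) F) *ᵥ (L v) = v := fun v => by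
        simp [L, Matrix.mulVec_mulVec]
      refine ⟨Qq.comp L, fun u v => ?_, ?_, fun v => ?_⟩
      · show polar (Qq.comp L) u v = _
        rw [show polar (⇑(Qq.comp L)) u v = polar Qq (L u) (L v) by simp only [polar, QuadraticMap.comp_apply, map_add],
          hSFq, ← hf, ← hf]
        exact inv_mem hg u v
      · let eL : (Fin d ⊕ Fin d → F) ≃ₗ[F] (Fin d ⊕ Fin d → F) := LinearEquiv.ofLinear ((g : Matrix (Fin d ⊕ Fin d) (Fin d ⊕ Fin d) F).mulVecLin) L (LinearMap.ext hL') (LinearMap.ext hL)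
        refine ⟨plus_congr eL (fun v => ?_), plus_congr eL.symm (fun v => ?_)⟩
        · show Qq (L _) = _; exact congrArg Qq (hL v)
        · rfl
      · show Qq (L _) = Qq (L v)
        rw [← h1 (L v)]
        refine congrArg Qq ?_
        rw [Units.val_mul, Units.val_mul, ← Matrix.mulVec_mulVec, hL', ← Matrix.mulVec_mulVec]
        rfl
    · rintro ⟨Q', h', ht, hx'⟩
      obtain ⟨g, hg, hgQ⟩ := hglue Q' h' ht
      refine ⟨g, hg, (hH _ (mul_mem (mul_mem (inv_mem hg) hx) hg)).2 fun v => ?_⟩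
      rw [← hgQ, Units.val_mul, Units.val_mul, Matrix.mulVec_mulVec, ← Matrix.mul_assoc, ← Matrix.mul_assoc, ← Units.val_mul, mul_inv_cancel,
        Units.val_one, Matrix.one_mul, ← Matrix.mulVec_mulVec, hx', hgQ]
  have hN : ∀ T : (Fin d ⊕ Fin d → F) → (Fin d ⊕ Fin d → F), ∀ Q' : QuadraticForm F (Fin d ⊕ Fin d → F),
      ∀ v, Q' (T v) = Q' v + Q' (T v + v) + polar Q' v (T v + v) := fun T Q' v => by
    rw [← QuadraticMap.map_add ⇑Q', add_left_comm, hvv, add_zero]
  constructor
  · intro h
    by_cases hr : r = 2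
    · refine ⟨hr, ?_⟩
      subst hr
      by_contra hcon
      push Not at hcon
      obtain ⟨hnp, hdo⟩ := hcon
      obtain ⟨j, hj⟩ := Nat.not_odd_iff_even.1 hdo
      let e : Fin d ≃ Fin j ⊕ Fin j := (finCongr hj).trans finSumFinEquiv.symm
      let σ : Equiv.Perm (Fin d) := (e.trans (Equiv.sumComm _ _)).trans e.symm
      have hσσ : ∀ i, σ (σ i) = i := fun i => by simp [σ]
      have hσne : ∀ i, σ i ≠ i := fun i he => by
        have := congrArg e he
        simp [σ] at this
        rcases h' : e i with a | a <;> simp [h'] at this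
      let S : Matrix (Fin d) (Fin d) F := Matrix.of fun i k => if k = σ i then 1 else 0
      have hSv : ∀ v i, (S *ᵥ v) i = v (σ i) := fun v i => by simp [S, Matrix.mulVec, dotProduct]
      have hSvv : ∀ v : Fin d → F, ∑ i, v (σ i) * v i = 0 := fun v =>
        Finset.sum_involution (fun i _ => σ i) (fun i _ => by rw [hσσ, mul_comm]; exact CharTwo.add_self_eq_zero _)
          (fun i _ _ => hσne i) (fun i _ => Finset.mem_univ _) (fun i _ => hσσ i)
      let M : Matrix (Fin d ⊕ Fin d) (Fin d ⊕ Fin d) F := Matrix.fromBlocks 1 S 0 1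
      have hMv : ∀ v, M *ᵥ v = Sum.elim (v ∘ Sum.inl + S *ᵥ (v ∘ Sum.inr)) (v ∘ Sum.inr) := fun v => by
        simp [M, Matrix.fromBlocks_mulVec]
      let A : GL (Fin d ⊕ Fin d) F := Matrix.GeneralLinearGroup.mkOfDetNeZero M (by simp [M, Matrix.det_fromBlocks_zero₂₁])
      have hA : (A : Matrix (Fin d ⊕ Fin d) (Fin d ⊕ Fin d) F) = M := rfl
      have hQ0A : ∀ v, Q0 (M *ᵥ v) = Q0 v := by
        intro v
        rw [hMv, PlusMax.QP_apply, PlusMax.QP_apply]
        simp only [Cfsg.quadFormPlus, Sum.elim_inl, Sum.elim_inr, Pi.add_apply, hSv, Function.comp_apply, add_mul,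
          Finset.sum_add_distrib, add_eq_left]
        exact hSvv fun i => v (Sum.inr i)
      have hAsp : A ∈ Cfsg.spGL d F := fun u v => by
        show Cfsg.sympForm d F (M *ᵥ u) (M *ᵥ v) = _
        rw [hf, hf]
        simp only [polar, ← Matrix.mulVec_add, hQ0A]
      have hsq : M * M = 1 := by
        have hSS : S + S = 0 := by ext i k; exact CharTwo.add_self_eq_zero _
        simp [M, Matrix.fromBlocks_multiply, hSS]
      obtain ⟨Q', h', ht, hx'⟩ := (hfix A hAsp).1 (h A hAsp
        ⟨1, by rw [pow_two, Units.val_mul, hA, hsq, one_smul]⟩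
        (fun c hc => by
          have h1 := congrFun (congrFun hc (Sum.inl (σ ⟨0, by omega⟩))) (Sum.inr ⟨0, by omega⟩)
          simp [hA, M, S, hσσ] at h1))
      refine hnp (ht.2 ?_)
      let E : (Fin d → F) →ₗ[F] (Fin d ⊕ Fin d → F) :=
        { toFun := fun w => Sum.elim w 0
          map_add' := fun w w' => by funext i; rcases i with i | i <;> simp
          map_smul' := fun c w => by funext i; rcases i with i | i <;> simp }
      refine ⟨LinearMap.range E, by
        rw [LinearMap.finrank_range_of_inj (fun w w' hw => funext fun i => congrFun hw (Sum.inl i)), finrank_fin_fun], ?_⟩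
      rintro _ ⟨w, rfl⟩
      let v : Fin d ⊕ Fin d → F := Sum.elim 0 (w ∘ σ)
      have h1 : M *ᵥ v + v = E w := by
        rw [hMv]; funext i
        rcases i with i | i
        · simp [v, E, hSv, hσσ]
        · simp [v, E, CharTwo.add_self_eq_zero]
      have h2 := hN (fun y => M *ᵥ y) Q' v
      simp only [h1] at h2
      rw [← hA, hx', h' v (E w), ← hf, ← Sp.sympB_apply, Sp.sympB_sum] at h2
      simp [v, E] at h2
      rw [hSvv, add_zero, left_eq_add] at h2
      exact h2
    · exfalso
      have hr' : r.Prime := Fact.out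
      -- the number of points
      let Xp := {a : Fin d ⊕ Fin d → F // Plus (shift Q0 a)}
      let Xm := {a : Fin d ⊕ Fin d → F // ¬ Plus (shift Q0 a)}
      have hm := card_minus (F := F) (d := d) (by omega)
      rw [hq] at hm
      have hpm : Nat.card Xp + Nat.card Xm = q ^ (2 * d) := by
        rw [← Nat.card_sum, Nat.card_congr (Equiv.sumCompl _), Nat.card_fun, Nat.card_eq_fintype_card (α := F), hq,
          Nat.card_eq_fintype_card, Fintype.card_sum, Fintype.card_fin, two_mul]
      have hindex : (Cfsg.Geo.quadSimilarityGroup Q).relIndex (Cfsg.spGL d F) =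
          Nat.card {a : Fin d ⊕ Fin d → F // Plus Qq ↔ Plus (shift Q0 a)} := by
        rw [Subgroup.relIndex, Subgroup.index]
        have hex : ∀ g : ↥(Cfsg.spGL d F), ∃ a, (Plus Qq ↔ Plus (shift Q0 a)) ∧
            ∀ v, shift Q0 a (((g : GL (Fin d ⊕ Fin d) F) : Matrix (Fin d ⊕ Fin d) (Fin d ⊕ Fin d) F) *ᵥ v) = Qq v := by
          intro g
          let L : (Fin d ⊕ Fin d → F) →ₗ[F] (Fin d ⊕ Fin d → F) := (((g⁻¹ : ↥(Cfsg.spGL d F)) : GL (Fin d ⊕ Fin d) F) : Matrix (Fin d ⊕ Fin d) (Fin d ⊕ Fin d) F).mulVecLin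
          have hL : ∀ v, L (((g : GL (Fin d ⊕ Fin d) F) : Matrix (Fin d ⊕ Fin d) (Fin d ⊕ Fin d) F) *ᵥ v) = v := fun v => by
            simp [L, Matrix.mulVec_mulVec]
          have hSFL : IsSF (Qq.comp L) := fun u v => by
            rw [show polar (⇑(Qq.comp L)) u v = polar Qq (L u) (L v) by simp only [polar, QuadraticMap.comp_apply, map_add],
              hSFq, ← hf, ← hf]
            exact (g⁻¹).2 u v
          obtain ⟨a, ha⟩ := exists_shift hSF0 hSFL
          refine ⟨a, ?_, fun v => by rw [← ha, QuadraticMap.comp_apply, hL]⟩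
          let eg : (Fin d ⊕ Fin d → F) ≃ₗ[F] (Fin d ⊕ Fin d → F) :=
            LinearEquiv.ofBijective (((g : GL (Fin d ⊕ Fin d) F) : Matrix (Fin d ⊕ Fin d) (Fin d ⊕ Fin d) F).mulVecLin)
              ⟨fun u v huv => by rw [← hL u, ← hL v]; exact congrArg L huv,
                LinearMap.injective_iff_surjective.1 (fun u v huv => by rw [← hL u, ← hL v]; exact congrArg L huv)⟩
          have heg : ∀ v, shift Q0 a (eg v) = Qq v := fun v => by
            show shift Q0 a (_ *ᵥ v) = _
            rw [← ha, QuadraticMap.comp_apply, hL]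
          exact ⟨plus_congr eg heg, plus_congr eg.symm fun v => by rw [← heg, LinearEquiv.apply_symm_apply]⟩
        choose π hπ1 hπ2 using hex
        let Hs := (Cfsg.Geo.quadSimilarityGroup Q).subgroupOf (Cfsg.spGL d F)
        have hinv : ∀ (g : ↥(Cfsg.spGL d F)), ∀ k ∈ Hs, π (g * k) = π g := fun g k hk => by
          refine shift_inj (Q := Q0) fun y => ?_
          have hsur : ∃ v, y = (((g * k : ↥(Cfsg.spGL d F)) : GL (Fin d ⊕ Fin d) F) : Matrix (Fin d ⊕ Fin d) (Fin d ⊕ Fin d) F) *ᵥ v :=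
            ⟨_, (show _ = _ *ᵥ ((((g * k)⁻¹ : ↥(Cfsg.spGL d F)) : GL (Fin d ⊕ Fin d) F) : Matrix (Fin d ⊕ Fin d) (Fin d ⊕ Fin d) F) *ᵥ y by
              rw [Matrix.mulVec_mulVec, ← Units.val_mul, ← Subgroup.coe_mul, mul_inv_cancel, Subgroup.coe_one, Units.val_one, Matrix.one_mulVec])⟩
          obtain ⟨v, rfl⟩ := hsur
          rw [hπ2, Subgroup.coe_mul, Units.val_mul, ← Matrix.mulVec_mulVec, hπ2]
          exact ((hH k k.2).1 hk v).symm
        refine Nat.card_congr (Equiv.ofBijective (fun c => (⟨π c.out, hπ1 c.out⟩ : {a : Fin d ⊕ Fin d → F // Plus Qq ↔ Plus (shift Q0 a)})) ⟨fun c₁ c₂ he => ?_, fun a => ?_⟩)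
        · have he' : π c₁.out = π c₂.out := congrArg Subtype.val he
          rw [← c₁.out_eq', ← c₂.out_eq', QuotientGroup.eq]
          refine (hH _ ((c₁.out⁻¹ * c₂.out).2)).2 fun v => ?_
          rw [← hπ2 c₁.out, he', Matrix.mulVec_mulVec, ← Units.val_mul, ← Subgroup.coe_mul, mul_inv_cancel_left, hπ2]
        · obtain ⟨g, hg, hgQ⟩ := hglue _ (isSF_shift hSF0 a.1) a.2
          refine ⟨QuotientGroup.mk (⟨g, hg⟩ : ↥(Cfsg.spGL d F)), Subtype.ext ?_⟩
          obtain ⟨k, hk⟩ := QuotientGroup.mk_out_eq_mul Hs (⟨g, hg⟩ : ↥(Cfsg.spGL d F))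
          show π _ = a.1
          rw [hk, hinv _ _ k.2]
          refine shift_inj (Q := Q0) fun y => ?_
          have hy : y = (g : Matrix (Fin d ⊕ Fin d) (Fin d ⊕ Fin d) F) *ᵥ (((g⁻¹ : GL (Fin d ⊕ Fin d) F) : Matrix (Fin d ⊕ Fin d) (Fin d ⊕ Fin d) F) *ᵥ y) := by
            rw [Matrix.mulVec_mulVec, ← Units.val_mul, mul_inv_cancel, Units.val_one, Matrix.one_mulVec]
          rw [hy, hgQ]
          exact hπ2 ⟨g, hg⟩ _
      rw [hindex] at hΩ
      have hrq : ∀ N : ℕ, r ∣ q ^ d * N → r ∣ N := fun N hdvd => (hr'.dvd_mul.1 hdvd).resolve_left fun h6 => by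
        obtain ⟨k, -, hk⟩ := FiniteField.card F 2
        rw [← hq, hk, ← pow_mul] at h6
        exact hr ((Nat.prime_dvd_prime_iff_eq hr' Nat.prime_two).1 (hr'.dvd_of_dvd_pow h6))
      by_cases hPq : Plus Qq
      · have hcount : r ∣ q ^ d + 1 := hrq _ (by
          have h1 : Nat.card {a : Fin d ⊕ Fin d → F // Plus Qq ↔ Plus (shift Q0 a)} = Nat.card Xp :=
            Nat.card_congr (Equiv.subtypeEquivRight fun a => by simp [hPq])
          rw [h1] at hΩ
          have h2 : q ^ d * (q ^ d + 1) = 2 * Nat.card Xp := by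
            rw [two_mul d, pow_add] at hm hpm
            change 2 * Nat.card Xm + q ^ d = _ at hm
            rw [Nat.mul_add, mul_one]; omega
          rw [h2]; exact Dvd.dvd.mul_left hΩ 2)
        rw [← hq] at hcount
        obtain ⟨Qm, T, hSFm, hnPm, hTQ, hTr, hTfix⟩ := MinusTorus.exists_torus hd hr' hcount
        have hTinj : Function.Injective T := by
          intro u v huv
          have h1 := congrArg (fun y => (T ^ (r - 1)) y) huv
          simp only [← Module.End.mul_apply, ← pow_succ] at h1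
          rwa [Nat.sub_add_cancel hr'.one_le, hTr] at h1
        let A : GL (Fin d ⊕ Fin d) F := Matrix.GeneralLinearGroup.mkOfDetNeZero (LinearMap.toMatrix' T) (by
          rw [← isUnit_iff_ne_zero, ← Matrix.isUnit_iff_isUnit_det, ← Matrix.mulVec_injective_iff_isUnit]
          intro v w hvw
          rw [LinearMap.toMatrix'_mulVec, LinearMap.toMatrix'_mulVec] at hvw
          exact hTinj hvw)
        have hA : ∀ v, (A : Matrix (Fin d ⊕ Fin d) (Fin d ⊕ Fin d) F) *ᵥ v = T v := fun v => LinearMap.toMatrix'_mulVec T v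
        have hTpol : ∀ u v, polar Q0 (T u) (T v) = polar Q0 u v := fun u v => by
          rw [← hSFm (T u) (T v), ← hSFm u v]; simp only [polar, ← map_add T, hTQ]
        have hAsp : A ∈ Cfsg.spGL d F := fun u v => by
          show Cfsg.sympForm d F _ _ = _
          rw [show Cfsg.glToMat (Fin d ⊕ Fin d) F A *ᵥ u = T u from hA u, show Cfsg.glToMat (Fin d ⊕ Fin d) F A *ᵥ v = T v from hA v, hf, hf, hTpol]
        have hApow : ∀ (j : ℕ) v, ((A : Matrix (Fin d ⊕ Fin d) (Fin d ⊕ Fin d) F) ^ j) *ᵥ v = (T ^ j) v := by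
          intro j
          induction j with
          | zero => intro v; simp
          | succ j ih => intro v; rw [pow_succ, ← Matrix.mulVec_mulVec, hA, ih, pow_succ, Module.End.mul_apply]
        obtain ⟨Q', h', ht, hx'⟩ := (hfix A hAsp).1 (h A hAsp
          ⟨1, Matrix.ext_of_mulVec_single fun i => by
            rw [Units.val_pow_eq_pow_val, hApow, hTr, one_smul, Matrix.one_mulVec]; rfl⟩
          (fun c hc => by
            let w : Fin d ⊕ Fin d → F := Pi.single (Sum.inl ⟨0, by omega⟩) 1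
            let w' : Fin d ⊕ Fin d → F := Pi.single (Sum.inr ⟨0, by omega⟩) 1
            have h1 : polar Q0 w w' = 1 := by
              rw [Cfsg.Agent.Classical.CharTwo.polar_QP_eq_sympB, Sp.sympB_sum]; simp [w, w', Pi.single_apply, hneg]
            have hTc : ∀ v, T v = c • v := fun v => by rw [← hA, hc, Matrix.smul_mulVec, Matrix.one_mulVec]
            have h2 := hTpol w w'
            rw [hTc, hTc, QuadraticMap.polar_smul_left, QuadraticMap.polar_smul_right, h1, smul_eq_mul, smul_eq_mul, mul_one] at h2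
            have hc1 : c = 1 := Cfsg.Agent.Classical.CharTwo.sq_inj (by rw [pow_two, h2, one_pow])
            have h3 := hTfix w (by rw [hTc, hc1, one_smul])
            exact (one_ne_zero : (1 : F) ≠ 0) (by rw [← h1, h3, QuadraticMap.polar_zero_left])))
        obtain ⟨b, hb⟩ := exists_shift hSFm h'
        have hb0 : b = 0 := by
          refine (PlusMax.nondeg (F := F) (m := d)).1 b fun y => ?_
          obtain ⟨v, rfl⟩ := (LinearMap.injective_iff_surjective (f := T - LinearMap.id)).1 (fun u v huv => by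
            refine sub_eq_zero.1 (hTfix (u - v) ?_)
            simp only [LinearMap.sub_apply, LinearMap.id_apply] at huv
            rw [map_sub, sub_eq_sub_iff_sub_eq_sub]; exact huv) y
          show polar Q0 b (T v - v) = 0
          have h1 := hx' v
          rw [hA, hb, hb, shift_apply, shift_apply, hTQ, add_right_inj] at h1
          rw [QuadraticMap.polar_sub_right, Cfsg.Agent.Classical.CharTwo.sq_inj h1, sub_self]
        refine hnPm (plus_congr (LinearEquiv.refl F _) (fun v => ?_) (ht.1 hPq))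
        rw [hb, hb0, shift_apply, QuadraticMap.polar_zero_left]; simp
      · have hcount : r ∣ q ^ d - 1 := hrq _ (by
          have h1 : Nat.card {a : Fin d ⊕ Fin d → F // Plus Qq ↔ Plus (shift Q0 a)} = Nat.card Xm :=
            Nat.card_congr (Equiv.subtypeEquivRight fun a => by simp [hPq])
          rw [h1] at hΩ
          have h2 : q ^ d * (q ^ d - 1) = 2 * Nat.card Xm := by
            rw [two_mul d, pow_add] at hm
            change 2 * Nat.card Xm + q ^ d = _ at hm
            rw [Nat.mul_sub, mul_one]; omega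
          rw [h2]; exact Dvd.dvd.mul_left hΩ 2)
        obtain ⟨k, -, hk⟩ := FiniteField.card F 2
        let L := GaloisField 2 (k * d)
        haveI : Fintype L := Fintype.ofFinite L
        have hLc : Fintype.card L = q ^ d := by
          rw [← Nat.card_eq_fintype_card, GaloisField.card 2 _ (Nat.mul_ne_zero k.ne_zero (by omega)), ← hq, hk, pow_mul]
        obtain ⟨i⟩ := FieldExt.exists_emb F L (by omega : d ≠ 0) (by rw [hLc, hq])
        letI : Algebra F L := i.toAlgebra
        haveI : Module.Finite F L := Module.Finite.of_finite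
        have hfd : finrank F L = d := by
          have := Module.card_eq_pow_finrank (K := F) (V := L)
          rw [hLc, hq] at this
          exact (Nat.pow_right_injective (hq ▸ Fintype.one_lt_card) this).symm
        let b : Basis (Fin d) F L := (Module.finBasisOfFinrankEq F L hfd)
        obtain ⟨ζu, hζ⟩ := exists_prime_orderOf_dvd_card' (G := Lˣ) r (by
          rw [Nat.card_units, Nat.card_eq_fintype_card, hLc]; exact hcount)
        set ζ : L := (ζu : L) with hζd
        have hζr : ζ ^ r = 1 := by rw [hζd, ← Units.val_pow_eq_pow_val, ← hζ, pow_orderOf_eq_one]; rfl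
        have hζ1 : ζ ≠ 1 := fun e0 => by
          rw [Units.val_eq_one.1 e0, orderOf_one] at hζ
          exact hr'.ne_one hζ.symm
        let ρ := Algebra.leftMulMatrix b
        have hρd : ∀ y : L, y ≠ 0 → (ρ y).det ≠ 0 := fun y hy => by
          have h1 : ρ y * ρ y⁻¹ = 1 := by rw [← map_mul, mul_inv_cancel₀ hy, map_one]
          have h2 := congrArg Matrix.det h1
          rw [Matrix.det_mul, Matrix.det_one] at h2
          exact left_ne_zero_of_mul_eq_one h2
        have hζ0 : ζ ≠ 0 := ζu.ne_zero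
        set A₀ := ρ ζ with hA₀
        set B₀ := (ρ ζ⁻¹)ᵀ with hB₀
        have hAB : A₀ᵀ * B₀ = 1 := by rw [hA₀, hB₀, ← Matrix.transpose_mul, ← map_mul, inv_mul_cancel₀ hζ0, map_one, Matrix.transpose_one]
        let M : Matrix (Fin d ⊕ Fin d) (Fin d ⊕ Fin d) F := Matrix.fromBlocks A₀ 0 0 B₀
        let A : GL (Fin d ⊕ Fin d) F := Matrix.GeneralLinearGroup.mkOfDetNeZero M (by
          simp only [M, Matrix.det_fromBlocks_zero₁₂, hA₀, hB₀, Matrix.det_transpose]
          exact mul_ne_zero (hρd _ hζ0) (hρd _ (inv_ne_zero hζ0)))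
        have hA : (A : Matrix (Fin d ⊕ Fin d) (Fin d ⊕ Fin d) F) = M := rfl
        have hMv : ∀ v, M *ᵥ v = Sum.elim (A₀ *ᵥ (v ∘ Sum.inl)) (B₀ *ᵥ (v ∘ Sum.inr)) := fun v => by
          simp [M, Matrix.fromBlocks_mulVec]
        have hQ0A : ∀ v, Q0 (M *ᵥ v) = Q0 v := by
          intro v
          rw [hMv, PlusMax.QP_apply, PlusMax.QP_apply]
          show (A₀ *ᵥ (v ∘ Sum.inl)) ⬝ᵥ (B₀ *ᵥ (v ∘ Sum.inr)) = (v ∘ Sum.inl) ⬝ᵥ (v ∘ Sum.inr)
          rw [Matrix.dotProduct_mulVec, ← Matrix.mulVec_transpose, Matrix.mulVec_mulVec, ← Matrix.transpose_transpose A₀,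
            ← Matrix.transpose_mul, hAB, Matrix.transpose_one, Matrix.one_mulVec]
        have hAsp : A ∈ Cfsg.spGL d F := fun u v => by
          show Cfsg.sympForm d F (M *ᵥ u) (M *ᵥ v) = _
          rw [hf, hf]
          simp only [polar, ← Matrix.mulVec_add, hQ0A]
        have hpow : M ^ r = 1 := by
          rw [Matrix.fromBlocks_diagonal_pow, hA₀, hB₀, ← map_pow, hζr, map_one, ← Matrix.transpose_pow, ← map_pow,
            inv_pow, hζr, inv_one, map_one, Matrix.transpose_one, Matrix.fromBlocks_one]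
        have hu : IsUnit (ρ (ζ - 1)) :=
          (Matrix.isUnit_iff_isUnit_det _).2 (hρd _ (sub_ne_zero.2 hζ1)).isUnit
        obtain ⟨Q', h', ht, hx'⟩ := (hfix A hAsp).1 (h A hAsp
          ⟨1, by rw [Units.val_pow_eq_pow_val, hA, hpow, one_smul]⟩
          (fun c hc => by
            have h1 : A₀ = c • (1 : Matrix (Fin d) (Fin d) F) := by
              have := congrArg Matrix.toBlocks₁₁ hc
              rw [hA, Matrix.toBlocks_fromBlocks₁₁] at this
              rw [this]; ext i k; simp [Matrix.toBlocks₁₁, Matrix.one_apply]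
            have h2 := hpow
            have hcr : c ^ r = 1 := by
              have h3 : A₀ ^ r = 1 := by rw [hA₀, ← map_pow, hζr, map_one]
              rw [h1, smul_pow, one_pow] at h3
              simpa using congrFun (congrFun h3 ⟨0, by omega⟩) ⟨0, by omega⟩
            have hcc : c * c = 1 := by
              have h3 := hQ0A (Sum.elim (Pi.single ⟨0, by omega⟩ 1) (Pi.single ⟨0, by omega⟩ 1))
              rw [← hA, hc, Matrix.smul_mulVec, Matrix.one_mulVec, QuadraticMap.map_smul] at h3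
              simpa [PlusMax.QP_apply, Cfsg.quadFormPlus, Pi.single_apply] using h3
            have hc1 : c = 1 := Cfsg.Agent.Classical.CharTwo.sq_inj (by rw [pow_two, hcc, one_pow])
            rw [map_sub, map_one, ← hA₀, h1, hc1, one_smul, sub_self] at hu
            haveI : Nonempty (Fin d) := ⟨⟨0, by omega⟩⟩
            exact not_isUnit_zero hu))
        refine hPq (ht.2 ?_)
        let E : (Fin d → F) →ₗ[F] (Fin d ⊕ Fin d → F) :=
          { toFun := fun w => Sum.elim w 0
            map_add' := fun w w' => by funext i; rcases i with i | i <;> simp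
            map_smul' := fun c w => by funext i; rcases i with i | i <;> simp }
        refine ⟨LinearMap.range E, by
          rw [LinearMap.finrank_range_of_inj (fun w w' hw => funext fun i => congrFun hw (Sum.inl i)), finrank_fin_fun], ?_⟩
        rintro _ ⟨w, rfl⟩
        obtain ⟨u, rfl⟩ := Matrix.mulVec_surjective_iff_isUnit.2 hu w
        have h1 : E ((ρ (ζ - 1)) *ᵥ u) = M *ᵥ E u + E u := by
          rw [hMv]; funext i
          rcases i with i | i
          · show ((ρ (ζ - 1)) *ᵥ u) i = _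
            rw [map_sub, map_one, Matrix.sub_mulVec, Matrix.one_mulVec]
            simp [E, hA₀, sub_eq_add_neg, hneg, Function.comp_def]
          · simp [E, Function.comp_def, Matrix.mulVec, dotProduct]
        rw [h1, QuadraticMap.map_add ⇑Q', ← hA, hx', hA, h' (M *ᵥ E u) (E u), hMv,
          CharTwo.add_self_eq_zero, zero_add, Cfsg.Agent.Classical.CharTwo.polar_QP_eq_sympB, Sp.sympB_sum]
        simp [E, Function.comp_def, Matrix.mulVec, dotProduct]
  · rintro ⟨rfl, hcase⟩ x hxS ⟨z, hz⟩ -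
    rw [hfix x hxS]
    let T : (Fin d ⊕ Fin d → F) →ₗ[F] (Fin d ⊕ Fin d → F) := Matrix.toLin' (x : Matrix (Fin d ⊕ Fin d) (Fin d ⊕ Fin d) F)
    have hTv : ∀ v, (x : Matrix (Fin d ⊕ Fin d) (Fin d ⊕ Fin d) F) *ᵥ v = T v := fun v => rfl
    have hTB : ∀ u v, polar Q0 (T u) (T v) = polar Q0 u v := fun u v => by
      rw [← hf, ← hf]; exact hxS u v
    have hTT0 : ∀ v, T (T v) = z • v := fun v => by
      rw [← LinearMap.comp_apply, ← Matrix.toLin'_mul, ← Units.val_mul, ← pow_two, hz,
        map_smul, Matrix.toLin'_one, LinearMap.smul_apply, LinearMap.id_apply]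
    have hz1 : z = 1 := by
      let u : Fin d ⊕ Fin d → F := Pi.single (Sum.inl ⟨0, by omega⟩) 1
      let w : Fin d ⊕ Fin d → F := Pi.single (Sum.inr ⟨0, by omega⟩) 1
      have huw : polar Q0 u w = 1 := by
        rw [Cfsg.Agent.Classical.CharTwo.polar_QP_eq_sympB, Sp.sympB_sum]; simp [u, w, Pi.single_apply, hneg]
      have h1 := hTB (T u) (T w)
      rw [hTT0, hTT0, hTB, QuadraticMap.polar_smul_left, QuadraticMap.polar_smul_right, huw, smul_eq_mul, smul_eq_mul, mul_one] at h1
      exact Cfsg.Agent.Classical.CharTwo.sq_inj (by rw [pow_two, h1, one_pow])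
    have hTT : ∀ v, T (T v) = v := fun v => by rw [hTT0, hz1, one_smul]
    let N : (Fin d ⊕ Fin d → F) →ₗ[F] (Fin d ⊕ Fin d → F) := T + LinearMap.id
    have hNv : ∀ v, N v = T v + v := fun v => rfl
    have hBc : ∀ u v : Fin d ⊕ Fin d → F, polar Q0 u v = polar Q0 v u := fun u v => QuadraticMap.polar_comm _ u v
    have hTsym : ∀ u v, polar Q0 (T u) v = polar Q0 u (T v) := fun u v => by
      rw [← hTB u (T v), hTT]
    have hker : ∀ v, N v = 0 ↔ T v = v := fun v => by
      rw [hNv]; exact ⟨fun h => by rw [eq_neg_of_add_eq_zero_left h]; funext i; exact hneg _, fun h => by rw [h]; exact hvv v⟩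
    -- an invariant form
    let D : (Fin d ⊕ Fin d → F) → F := fun v => Q0 (N v) + polar Q0 v (N v)
    obtain ⟨lam, hlam⟩ := Cfsg.Agent.Classical.CharTwo.exists_sqrt_linear D
      (fun u v => by
        have e1 : polar Q0 (N u) (N v) = 2 * polar Q0 u v + 2 * polar Q0 u (T v) := by
          rw [hNv, hNv, QuadraticMap.polar_add_left, QuadraticMap.polar_add_right, QuadraticMap.polar_add_right, hTB, hTsym u v]; ring
        have e2 : polar Q0 u (N v) = polar Q0 u (T v) + polar Q0 u v := by rw [hNv, QuadraticMap.polar_add_right]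
        have e3 : polar Q0 v (N u) = polar Q0 u (T v) + polar Q0 u v := by
          rw [hNv, QuadraticMap.polar_add_right, hBc v (T u), hTsym u v, hBc v u]
        simp only [D, map_add, QuadraticMap.map_add ⇑Q0, QuadraticMap.polar_add_left, QuadraticMap.polar_add_right]
        linear_combination e1 + e2 + e3 + (2 * (polar Q0 u v + polar Q0 u (T v))) * h20)
      (fun c v => by simp only [D, map_smul, QuadraticMap.map_smul, QuadraticMap.polar_smul_left, QuadraticMap.polar_smul_right, smul_eq_mul]; ring)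
    have hlker : ∀ v, N v = 0 → lam v = 0 := fun v hv => by
      have := hlam v
      simp only [D, hv, map_zero, QuadraticMap.polar_zero_right, add_zero] at this
      exact pow_eq_zero_iff two_ne_zero |>.1 this
    obtain ⟨s, hs⟩ := N.rangeRestrict.exists_rightInverse_of_surjective (LinearMap.range_eq_top.2 N.surjective_rangeRestrict)
    obtain ⟨μ, hμ⟩ := LinearMap.exists_extend (lam.comp s)
    have hμN : ∀ v, μ (N v) = lam v := fun v => by
      have h1 := LinearMap.congr_fun hμ ⟨N v, v, rfl⟩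
      simp only [LinearMap.comp_apply, Submodule.subtype_apply] at h1
      rw [h1, ← sub_eq_zero, ← map_sub]
      refine hlker _ ?_
      have h2 : N (s ⟨N v, v, rfl⟩) = N v := congrArg Subtype.val (LinearMap.congr_fun hs ⟨N v, v, rfl⟩)
      rw [map_sub, h2, sub_self]
    let Q1 := shift Q0 ((LinearMap.BilinForm.toDual (polarBilin (Q0 (F := F) (d := d))) PlusMax.nondeg).symm μ)
    have hSF1 : IsSF Q1 := isSF_shift hSF0 _
    have hQ1 : ∀ v, Q1 v = Q0 v + μ v ^ 2 := fun v => by
      show shift _ _ v = _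
      rw [shift_apply, ← QuadraticMap.polarBilin_apply_apply, LinearMap.BilinForm.apply_toDual_symm_apply]
    have hinv : ∀ v, Q1 (T v) = Q1 v := fun v => by
      rw [hN T Q1 v, ← hNv, hSF1, hQ1 (N v), hμN, hlam]
      linear_combination (Q0 (N v) + polar Q0 v (N v)) * h20
    by_cases ht : Plus Qq ↔ Plus Q1
    · exact ⟨Q1, hSF1, ht, fun v => by rw [hTv, hinv]⟩
    by_cases hs1 : ∃ u, T u = u ∧ Q1 u ≠ 0
    · obtain ⟨u, hTu, hQu⟩ := hs1
      obtain ⟨κ, hκ⟩ : ∃ κ : F, ∀ t, t ^ 2 + t ≠ κ := by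
        by_contra hcon
        push Not at hcon
        have hsur : Function.Surjective fun t : F => t ^ 2 + t := hcon
        exact zero_ne_one (α := F) (Finite.injective_iff_surjective.2 hsur (show (0 : F) ^ 2 + 0 = 1 ^ 2 + 1 by linear_combination -h20))
      obtain ⟨c, hc⟩ := FiniteField.isSquare_of_char_two (ringChar.eq F 2) (κ / Q1 u)
      have hQc : Q1 (c • u) = κ := by
        rw [QuadraticMap.map_smul, smul_eq_mul, ← hc, div_mul_cancel₀ _ hQu]
      have hflip := plus_shift_flip hd hSF1 (c • u) (by rw [hQc]; exact hκ)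
      refine ⟨shift Q1 (c • u), isSF_shift hSF1 _, by rw [hflip]; exact not_iff.1 (fun hh => ht hh.symm) |>.symm, fun v => ?_⟩
      rw [hTv, shift_apply Q1, shift_apply Q1, hinv]
      have h1 := hTB (c • u) v
      rw [map_smul, hTu] at h1
      rw [h1]
    exfalso
    push Not at hs1
    have hrk : LinearMap.range N ≤ LinearMap.ker N := by
      rintro _ ⟨v, rfl⟩
      rw [LinearMap.mem_ker, hNv, hNv, map_add, hTT, add_comm v (T v)]; exact hvv _
    have hker_perp : LinearMap.ker N ≤ PlusMax.perp (LinearMap.ker N) := fun v hv => (PlusMax.mem_perp _ _).2 fun t htm => by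
      have e : ∀ y, y ∈ LinearMap.ker N → Q1 y = 0 := fun y hy => hs1 y ((hker y).1 hy)
      show polar Q0 t v = 0
      rw [← hSF1, polar, e _ ((LinearMap.ker N).add_mem htm hv), e _ htm, e _ hv]; ring
    have h1 : finrank F (LinearMap.ker N) ≤ 2 * d - finrank F (LinearMap.ker N) :=
      (Submodule.finrank_mono hker_perp).trans (le_of_eq (PlusMax.finrank_perp _))
    have h2 : finrank F (LinearMap.range N) + finrank F (LinearMap.ker N) = 2 * d :=
      (LinearMap.finrank_range_add_finrank_ker N).trans PlusMax.finrank_V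
    have h3 : finrank F (LinearMap.range N) ≤ finrank F (LinearMap.ker N) := Submodule.finrank_mono hrk
    have hkd : finrank F (LinearMap.ker N) = d := by omega
    have hP1 : Plus Q1 := ⟨LinearMap.ker N, hkd, fun w hw => hs1 w ((hker w).1 hw)⟩
    have hperp : LinearMap.ker N = PlusMax.perp (LinearMap.ker N) := Submodule.eq_of_le_of_finrank_le hker_perp (by
      rw [PlusMax.finrank_perp, hkd]; omega)
    have hre : LinearMap.range N = LinearMap.ker N := Submodule.eq_of_le_of_finrank_le hrk (by omega)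
    obtain ⟨C, hC⟩ := exists_isCompl (LinearMap.ker N)
    let sB : LinearMap.BilinForm F C := LinearMap.mk₂ F (fun a c : C => polar Q0 (a : (Fin d ⊕ Fin d → F)) (N c))
      (fun a a' c => by simp [QuadraticMap.polar_add_left])
      (fun t a c => by simp [QuadraticMap.polar_smul_left])
      (fun a c c' => by simp [QuadraticMap.polar_add_right])
      (fun t a c => by simp [QuadraticMap.polar_smul_right])
    have hsB : ∀ a c : C, sB a c = polar Q0 (a : (Fin d ⊕ Fin d → F)) (N c) := fun a c => by simp [sB]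
    have hsalt : sB.IsAlt := fun a => by
      rw [hsB, ← hSF1]
      have h5 := hN T Q1 (a : Fin d ⊕ Fin d → F)
      rw [hinv, ← hNv] at h5
      have h6 : Q1 (N (a : Fin d ⊕ Fin d → F)) = 0 := hs1 _ ((hker _).1 (hrk ⟨_, rfl⟩))
      rw [h6, add_zero] at h5
      exact add_eq_left.1 h5.symm
    have hsnd : Sp.Nondeg sB := fun a ha => by
      by_contra hh
      push Not at hh
      refine ha (Subtype.ext (Submodule.disjoint_def.1 hC.disjoint _ ?_ a.2))
      rw [hperp, PlusMax.mem_perp]
      intro w hw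
      rw [← hre] at hw
      obtain ⟨y, rfl⟩ := hw
      obtain ⟨k₁, hk₁, c, hc, rfl⟩ := Submodule.mem_sup.1 (hC.sup_eq_top.ge (Submodule.mem_top : y ∈ ⊤))
      rw [map_add, LinearMap.mem_ker.1 hk₁, zero_add, QuadraticMap.polar_comm, ← hsB a ⟨c, hc⟩]
      exact hh _
    have hev := (Sp.exists_equiv (finrank F C) sB sB hsalt hsnd hsalt hsnd rfl rfl).1
    have h4 := Submodule.finrank_add_eq_of_isCompl hC
    rw [hkd, PlusMax.finrank_V] at h4
    rw [show finrank F C = d by omega] at hev
    rcases hcase with hPq | hdo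
    · exact ht (iff_of_true hPq hP1)
    · exact Nat.not_even_iff_odd.2 hdo hev

end Cfsg.Agent.S5983
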