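import Cfsg.Statements.S5985
import Cfsg.Agent.Lib.Classical.PlusMaximal
import Cfsg.Agent.Lib.Classical.OmegaRank
import Cfsg.Agent.Lib.Classical.QuadZeros
import Cfsg.Agent.Lib.Classical.CharTwoForms
import Cfsg.Agent.Lib.Classical.FieldExtension
import Cfsg.Agent.Lib.Classical.SympInvolution

set_option autoImplicit false
open scoped MatrixGroups
open Cfsg

open Cfsg.Agent.Classical Module
open Matrix hiding toLin'
open QuadraticMap (polar polarBilin)
set_option maxHeartbeats 1000000

namespace Cfsg.Agent.S5985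

/-- Elements of prime order of Ω⁺_n(q), q even, with no fixed nonsingular 1-space. Here `T = PΩ⁺_n(F)`, `n = 2d ≥ 8`, realised through `Ω⁺_n(q)`, the commutator subgroup of the isometry group of `Q = Σ xᵢyᵢ` over the field `F` with `q` elements; an element of `T` of prime order `r` is an element `x` of `Ω⁺_n(q)` with `x^r` scalar and `x` not scalar; `q` is even (so the centre is trivial). Let Ω be the set of 1-dimensional subspaces spanned by a vector `v` with `Q(v) ≠ 0`, and let `r` be a prime dividing their number. Then every element of `T` of order `r` fixes some nonsingular 1-space if and only if `r = 2` and `n ≡ 2 (mod 4)` (that is, `d` is odd). -/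
theorem result {F : Type*} [Field F] [Fintype F] {p : ℕ} [Fact p.Prime] [CharP F p] {q : ℕ} (hq : Fintype.card F = q)
    (hp : p = 2) (d : ℕ) (hd : 4 ≤ d) (r : ℕ) [Fact r.Prime]
    (hrΩ : r ∣ Nat.card {W : Submodule F (Fin d ⊕ Fin d → F) // Module.finrank F ↥W = 1 ∧ ∃ v ∈ W, Cfsg.quadFormPlus d F v ≠ 0}) :
    (∀ x : GL (Fin d ⊕ Fin d) F, x ∈ Cfsg.Geo.omegaGL (Cfsg.quadFormPlus d F) →
      (∃ z : F, ((x ^ r : GL (Fin d ⊕ Fin d) F) : Matrix (Fin d ⊕ Fin d) (Fin d ⊕ Fin d) F) = z • (1 : Matrix (Fin d ⊕ Fin d) (Fin d ⊕ Fin d) F)) →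
      (∀ z : F, (x : Matrix (Fin d ⊕ Fin d) (Fin d ⊕ Fin d) F) ≠ z • (1 : Matrix (Fin d ⊕ Fin d) (Fin d ⊕ Fin d) F)) →
      ∃ W : Submodule F (Fin d ⊕ Fin d → F), (Module.finrank F ↥W = 1 ∧ ∃ v ∈ W, Cfsg.quadFormPlus d F v ≠ 0) ∧ W.map (Matrix.toLin' (x : Matrix (Fin d ⊕ Fin d) (Fin d ⊕ Fin d) F)) ≤ W) ↔ (r = 2 ∧ Odd d) := by
  classical
  haveI hc2 : CharP F 2 := hp ▸ (inferInstance : CharP F p)
  have h20 : (2 : F) = 0 := by exact_mod_cast CharP.cast_eq_zero F 2
  have hneg : ∀ a : F, -a = a := fun a => CharTwo.neg_eq a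
  have hvv : ∀ v : Fin d ⊕ Fin d → F, v + v = 0 := fun v => by funext i; exact CharTwo.add_self_eq_zero _
  let Q := PlusMax.QP (F := F) (m := d)
  have hQe : Cfsg.quadFormPlus d F = ⇑Q := funext fun v => (PlusMax.QP_apply v).symm
  have hnd := PlusMax.nondeg (F := F) (m := d)
  -- membership
  have hmem : ∀ A : GL (Fin d ⊕ Fin d) F,
      (∀ v, Cfsg.quadFormPlus d F ((A : Matrix (Fin d ⊕ Fin d) (Fin d ⊕ Fin d) F) *ᵥ v) = Cfsg.quadFormPlus d F v) →
      Even ((A : Matrix (Fin d ⊕ Fin d) (Fin d ⊕ Fin d) F) - 1).rank → A ∈ Cfsg.Geo.omegaGL (Cfsg.quadFormPlus d F) := by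
    intro A hA hev
    exact ⟨⟨A, fun v _ => hA v⟩, (OmegaRank.mem_iff _ Q hQe hnd (by simp; omega) ⟨A, fun v _ => hA v⟩).2 hev, rfl⟩
  have hiso : ∀ A : GL (Fin d ⊕ Fin d) F, A ∈ Cfsg.Geo.omegaGL (Cfsg.quadFormPlus d F) →
      ∀ v, Cfsg.quadFormPlus d F ((A : Matrix (Fin d ⊕ Fin d) (Fin d ⊕ Fin d) F) *ᵥ v) = Cfsg.quadFormPlus d F v := by
    rintro _ ⟨t, -, rfl⟩ v
    exact t.2 v v
  constructor
  · intro h
    by_cases hr : r = 2
    · refine ⟨hr, ?_⟩
      subst hr
      by_contra hdo
      obtain ⟨j, hj⟩ := Nat.not_odd_iff_even.1 hdo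
      let e : Fin d ≃ Fin j ⊕ Fin j := (finCongr hj).trans finSumFinEquiv.symm
      let σ : Equiv.Perm (Fin d) := (e.trans (Equiv.sumComm _ _)).trans e.symm
      have hσσ : ∀ i, σ (σ i) = i := fun i => by simp [σ]
      have hσne : ∀ i, σ i ≠ i := fun i he => by
        have := congrArg e he
        simp [σ] at this
        rcases h' : e i with a | a <;> simp [h'] at this
      let S : Matrix (Fin d) (Fin d) F := Matrix.of fun i k => if k = σ i then 1 else 0
      have hSv : ∀ v i, (S *ᵥ v) i = v (σ i) := fun v i => by simp [S, Matrix.mulVec, dotProduct]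
      let M : Matrix (Fin d ⊕ Fin d) (Fin d ⊕ Fin d) F := Matrix.fromBlocks 1 S 0 1
      have hMv : ∀ v, M *ᵥ v = Sum.elim (v ∘ Sum.inl + S *ᵥ (v ∘ Sum.inr)) (v ∘ Sum.inr) := fun v => by
        simp [M, Matrix.fromBlocks_mulVec]
      have hdet : M.det ≠ 0 := by simp [M, Matrix.det_fromBlocks_zero₂₁]
      let A : GL (Fin d ⊕ Fin d) F := Matrix.GeneralLinearGroup.mkOfDetNeZero M hdet
      have hA : (A : Matrix (Fin d ⊕ Fin d) (Fin d ⊕ Fin d) F) = M := rfl
      have hAQ : ∀ v, Cfsg.quadFormPlus d F ((A : Matrix (Fin d ⊕ Fin d) (Fin d ⊕ Fin d) F) *ᵥ v) = Cfsg.quadFormPlus d F v := by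
        intro v
        rw [hA, hMv]
        simp only [Cfsg.quadFormPlus, Sum.elim_inl, Sum.elim_inr, Pi.add_apply, hSv, Function.comp_apply, add_mul,
          Finset.sum_add_distrib, add_eq_left]
        refine Finset.sum_involution (fun i _ => σ i) (fun i _ => ?_) (fun i _ _ => hσne i) (fun i _ => Finset.mem_univ _)
          (fun i _ => hσσ i)
        rw [hσσ, mul_comm]
        exact CharTwo.add_self_eq_zero _
      have hM1 : M - 1 = Matrix.fromBlocks 0 S 0 0 := by
        rw [← Matrix.fromBlocks_one, sub_eq_iff_eq_add, Matrix.fromBlocks_add]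
        simp [M]
      have hrank : ((A : Matrix (Fin d ⊕ Fin d) (Fin d ⊕ Fin d) F) - 1).rank = d := by
        rw [hA, hM1, Matrix.rank]
        let E : (Fin d → F) →ₗ[F] (Fin d ⊕ Fin d → F) :=
          { toFun := fun w => Sum.elim w 0
            map_add' := fun w w' => by funext i; rcases i with i | i <;> simp
            map_smul' := fun c w => by funext i; rcases i with i | i <;> simp }
        have hr : LinearMap.range (Matrix.fromBlocks 0 S 0 0 : Matrix (Fin d ⊕ Fin d) (Fin d ⊕ Fin d) F).mulVecLin = LinearMap.range E := by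
          refine le_antisymm ?_ ?_
          · rintro _ ⟨v, rfl⟩
            exact ⟨S *ᵥ (v ∘ Sum.inr), by simp [E, Matrix.fromBlocks_mulVec]⟩
          · rintro _ ⟨w, rfl⟩
            refine ⟨Sum.elim 0 (w ∘ σ), ?_⟩
            simp [E, Matrix.fromBlocks_mulVec]
            funext i
            rcases i with i | i <;> simp [hSv, hσσ]
        rw [hr, LinearMap.finrank_range_of_inj (fun w w' hw => funext fun i => congrFun hw (Sum.inl i))]
        simp
      have hsq : M * M = 1 := by
        have hSS : S + S = 0 := by ext i k; exact CharTwo.add_self_eq_zero _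
        simp [M, Matrix.fromBlocks_multiply, hSS]
      obtain ⟨W, ⟨hW1, v, hv, hQv⟩, hWA⟩ := h A (hmem A hAQ (hrank.symm ▸ ⟨j, hj⟩))
        ⟨1, by rw [pow_two, Units.val_mul, hA, hsq, one_smul]⟩
        (fun c hc => by
          have h1 := congrFun (congrFun hc (Sum.inl (σ ⟨0, by omega⟩))) (Sum.inr ⟨0, by omega⟩)
          simp [hA, M, S, hσσ] at h1)
      have hv0 : v ≠ 0 := fun e0 => hQv (by simp [e0, Cfsg.quadFormPlus])
      obtain ⟨c, hc⟩ := (finrank_eq_one_iff_of_nonzero' (⟨v, hv⟩ : W) (fun e0 => hv0 (congrArg Subtype.val e0))).1 hW1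
        ⟨M *ᵥ v, hWA ⟨v, hv, by rw [Matrix.toLin'_apply, hA]⟩⟩
      have hc' : c • v = M *ᵥ v := congrArg Subtype.val hc
      rcases eq_or_ne (v ∘ Sum.inr) 0 with h0 | h0
      · exact hQv (Finset.sum_eq_zero fun i _ => by rw [show v (Sum.inr i) = 0 from congrFun h0 i, mul_zero])
      · obtain ⟨i, hi⟩ := Function.ne_iff.1 h0
        have h1 := congrFun hc' (Sum.inr i)
        rw [hMv, Pi.smul_apply, smul_eq_mul] at h1
        have hc1 : c = 1 := (mul_eq_right₀ hi).1 h1
        have h2 := congrFun hc' (Sum.inl (σ i))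
        rw [hMv, hc1, one_smul] at h2
        simp [hSv, hσσ] at h2
        exact hi h2
    · exfalso
      have hr' : r.Prime := Fact.out
      -- the number of points
      have hcount : r ∣ q ^ d - 1 := by
        let Ω := {W : Submodule F (Fin d ⊕ Fin d → F) // Module.finrank F ↥W = 1 ∧ ∃ v ∈ W, Cfsg.quadFormPlus d F v ≠ 0}
        haveI : Fintype Ω := Fintype.ofFinite _
        let gen : Ω → (Fin d ⊕ Fin d → F) := fun W => W.2.2.choose
        have hgen : ∀ W : Ω, gen W ∈ W.1 ∧ Cfsg.quadFormPlus d F (gen W) ≠ 0 := fun W => W.2.2.choose_spec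
        have hgen0 : ∀ W : Ω, gen W ≠ 0 := fun W e0 => (hgen W).2 (by simp [e0, Cfsg.quadFormPlus])
        have hsmul : ∀ (c : F) (v : (Fin d ⊕ Fin d → F)), Cfsg.quadFormPlus d F (c • v) = c * c * Cfsg.quadFormPlus d F v := fun c v => by
          rw [hQe, QuadraticMap.map_smul, smul_eq_mul]
        let f : Ω × Fˣ → {v : (Fin d ⊕ Fin d → F) // Cfsg.quadFormPlus d F v ≠ 0} := fun p => ⟨(p.2 : F) • gen p.1, by
          rw [hsmul]; exact mul_ne_zero (mul_ne_zero p.2.ne_zero p.2.ne_zero) (hgen p.1).2⟩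
        have hspan : ∀ W : Ω, Submodule.span F {gen W} = W.1 := fun W =>
          Submodule.eq_of_le_of_finrank_eq ((Submodule.span_singleton_le_iff_mem _ _).2 (hgen W).1)
            (by rw [finrank_span_singleton (hgen0 W), W.2.1])
        have hf : Function.Bijective f := by
          refine ⟨fun ⟨W, c⟩ ⟨W', c'⟩ he => ?_, fun ⟨v, hv⟩ => ?_⟩
          · have he' : (c : F) • gen W = (c' : F) • gen W' := congrArg Subtype.val he
            have hW : W = W' := by
              refine Subtype.ext ?_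
              rw [← hspan W, ← hspan W', ← Submodule.span_singleton_smul_eq c.isUnit (gen W),
                ← Submodule.span_singleton_smul_eq c'.isUnit (gen W'), he']
            subst hW
            rw [Units.ext (smul_left_injective F (hgen0 W) he')]
          · have hv0 : v ≠ 0 := fun e0 => hv (by simp [e0, Cfsg.quadFormPlus])
            let W : Ω := ⟨Submodule.span F {v}, finrank_span_singleton hv0, v, Submodule.mem_span_singleton_self v, hv⟩
            obtain ⟨c, hc⟩ := Submodule.mem_span_singleton.1 ((hspan W).ge (Submodule.mem_span_singleton_self v))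
            have hc0 : c ≠ 0 := fun e0 => hv0 (by rw [← hc, e0, zero_smul])
            exact ⟨(W, Units.mk0 c hc0), Subtype.ext hc⟩
        have h1 := Nat.card_congr (Equiv.ofBijective f hf)
        rw [Nat.card_prod, Nat.card_units, Nat.card_eq_fintype_card (α := F), hq] at h1
        have hz : (q : ℤ) * Nat.card {v : (Fin d ⊕ Fin d → F) // Cfsg.quadFormPlus d F v = 0} = q ^ (2 * d) + q ^ d * (q - 1) := by
          let E : {v : (Fin d ⊕ Fin d → F) // Cfsg.quadFormPlus d F v = 0} ≃ QuadZeros.T (fun _ : Unit => (0 : F)) d :=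
            { toFun := fun v => ⟨((), fun i => (v.1 (Sum.inl i), v.1 (Sum.inr i))), (zero_add _).trans v.2⟩
              invFun := fun p => ⟨Sum.elim (fun i => (p.1.2 i).1) fun i => (p.1.2 i).2, (zero_add _).symm.trans p.2⟩
              left_inv := fun v => Subtype.ext (funext fun i => by rcases i with i | i <;> rfl)
              right_inv := fun p => rfl }
          have h3 := QuadZeros.card_eq (fun _ : Unit => (0 : F)) d
          rw [← Nat.card_congr E, hq, show Nat.card Unit = 1 by simp, show Nat.card {x : Unit // (0 : F) = 0} = 1 by simp] at h3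
          rw [h3]; push_cast; ring
        have htot : Nat.card {v : (Fin d ⊕ Fin d → F) // Cfsg.quadFormPlus d F v = 0} + Nat.card {v : (Fin d ⊕ Fin d → F) // Cfsg.quadFormPlus d F v ≠ 0} = q ^ (2 * d) := by
          rw [← Nat.card_sum, Nat.card_congr (Equiv.sumCompl _), Nat.card_fun, Nat.card_eq_fintype_card (α := F), hq,
            Nat.card_eq_fintype_card, Fintype.card_sum, Fintype.card_fin, two_mul]
        have hq2 : 2 ≤ q := hq ▸ Fintype.one_lt_card
        have h4 : q * Nat.card Ω = q ^ d * (q ^ d - 1) := by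
          have h5 : ((q * Nat.card Ω : ℕ) : ℤ) = ((q ^ d * (q ^ d - 1) : ℕ) : ℤ) := by
            have h6 : ((q : ℤ) - 1) ≠ 0 := by omega
            refine mul_left_cancel₀ h6 ?_
            have h7 : (Nat.card {v : (Fin d ⊕ Fin d → F) // Cfsg.quadFormPlus d F v ≠ 0} : ℤ) = Nat.card Ω * ((q : ℤ) - 1) := by
              rw [← h1]; push_cast [Nat.cast_sub (show 1 ≤ q by omega)]; ring
            have h8 : (Nat.card {v : (Fin d ⊕ Fin d → F) // Cfsg.quadFormPlus d F v = 0} : ℤ) + Nat.card {v : (Fin d ⊕ Fin d → F) // Cfsg.quadFormPlus d F v ≠ 0} = (q : ℤ) ^ (2 * d) := by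
              exact_mod_cast htot
            push_cast [Nat.cast_sub (Nat.one_le_pow d q (by omega))]
            rw [h7] at h8
            rw [two_mul, pow_add] at h8 hz
            linear_combination (q : ℤ) * h8 - hz
          exact_mod_cast h5
        have h5 : r ∣ q ^ d * (q ^ d - 1) := h4 ▸ Dvd.dvd.mul_left hrΩ q
        refine (hr'.dvd_mul.1 h5).resolve_left fun h6 => ?_
        obtain ⟨k, -, hk⟩ := FiniteField.card F 2
        rw [← hq, hk, ← pow_mul] at h6
        exact hr ((Nat.prime_dvd_prime_iff_eq hr' Nat.prime_two).1 (hr'.dvd_of_dvd_pow h6))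
      -- an element of the extension field
      obtain ⟨k, -, hk⟩ := FiniteField.card F 2
      let L := GaloisField 2 (k * d)
      haveI : Fintype L := Fintype.ofFinite L
      have hLc : Fintype.card L = q ^ d := by
        rw [← Nat.card_eq_fintype_card, GaloisField.card 2 _ (Nat.mul_ne_zero k.ne_zero (by omega)), ← hq, hk, pow_mul]
      obtain ⟨i⟩ := FieldExt.exists_emb F L (by omega : d ≠ 0) (by rw [hLc, hq])
      letI : Algebra F L := i.toAlgebra
      haveI : Module.Finite F L := Module.Finite.of_finite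
      have hfd : finrank F L = d := by
        have := Module.card_eq_pow_finrank (K := F) (V := L)
        rw [hLc, hq] at this
        exact (Nat.pow_right_injective (hq ▸ Fintype.one_lt_card) this).symm
      let b : Basis (Fin d) F L := (Module.finBasisOfFinrankEq F L hfd)
      obtain ⟨ζu, hζ⟩ := exists_prime_orderOf_dvd_card' (G := Lˣ) r (by
        rw [Nat.card_units, Nat.card_eq_fintype_card, hLc]; exact hcount)
      set ζ : L := (ζu : L) with hζd
      have hζr : ζ ^ r = 1 := by rw [hζd, ← Units.val_pow_eq_pow_val, ← hζ, pow_orderOf_eq_one]; rfl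
      have hζ1 : ζ ≠ 1 := fun e0 => by
        rw [Units.val_eq_one.1 e0, orderOf_one] at hζ
        exact hr'.ne_one hζ.symm
      let ρ := Algebra.leftMulMatrix b
      have hρd : ∀ y : L, y ≠ 0 → (ρ y).det ≠ 0 := fun y hy => by
        have h1 : ρ y * ρ y⁻¹ = 1 := by rw [← map_mul, mul_inv_cancel₀ hy, map_one]
        have h2 := congrArg Matrix.det h1
        rw [Matrix.det_mul, Matrix.det_one] at h2
        exact left_ne_zero_of_mul_eq_one h2
      have hζ0 : ζ ≠ 0 := ζu.ne_zero
      set A₀ := ρ ζ with hA₀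
      set B₀ := (ρ ζ⁻¹)ᵀ with hB₀
      have hAB : A₀ᵀ * B₀ = 1 := by rw [hA₀, hB₀, ← Matrix.transpose_mul, ← map_mul, inv_mul_cancel₀ hζ0, map_one, Matrix.transpose_one]
      let M : Matrix (Fin d ⊕ Fin d) (Fin d ⊕ Fin d) F := Matrix.fromBlocks A₀ 0 0 B₀
      have hdet : M.det ≠ 0 := by
        simp only [M, Matrix.det_fromBlocks_zero₁₂, hA₀, hB₀, Matrix.det_transpose]
        exact mul_ne_zero (hρd _ hζ0) (hρd _ (inv_ne_zero hζ0))
      let A : GL (Fin d ⊕ Fin d) F := Matrix.GeneralLinearGroup.mkOfDetNeZero M hdet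
      have hA : (A : Matrix (Fin d ⊕ Fin d) (Fin d ⊕ Fin d) F) = M := rfl
      have hMv : ∀ v, M *ᵥ v = Sum.elim (A₀ *ᵥ (v ∘ Sum.inl)) (B₀ *ᵥ (v ∘ Sum.inr)) := fun v => by
        simp [M, Matrix.fromBlocks_mulVec]
      have hAQ : ∀ v, Cfsg.quadFormPlus d F ((A : Matrix (Fin d ⊕ Fin d) (Fin d ⊕ Fin d) F) *ᵥ v) = Cfsg.quadFormPlus d F v := by
        intro v
        rw [hA, hMv]
        show (A₀ *ᵥ (v ∘ Sum.inl)) ⬝ᵥ (B₀ *ᵥ (v ∘ Sum.inr)) = (v ∘ Sum.inl) ⬝ᵥ (v ∘ Sum.inr)
        rw [Matrix.dotProduct_mulVec, ← Matrix.mulVec_transpose, Matrix.mulVec_mulVec, ← Matrix.transpose_transpose A₀,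
          ← Matrix.transpose_mul, hAB, Matrix.transpose_one, Matrix.one_mulVec]
      have hM1 : M - 1 = Matrix.fromBlocks (ρ (ζ - 1)) 0 0 (ρ (ζ⁻¹ - 1))ᵀ := by
        rw [← Matrix.fromBlocks_one, sub_eq_iff_eq_add, Matrix.fromBlocks_add]
        simp [M, hA₀, hB₀]
      have hu : IsUnit (M - 1) := by
        rw [hM1, Matrix.isUnit_iff_isUnit_det, Matrix.det_fromBlocks_zero₁₂, Matrix.det_transpose]
        refine (mul_ne_zero (hρd _ (sub_ne_zero.2 hζ1)) (hρd _ (sub_ne_zero.2 ?_))).isUnit
        exact fun e0 => hζ1 (inv_eq_one.1 e0)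
      have hpow : M ^ r = 1 := by
        rw [Matrix.fromBlocks_diagonal_pow, hA₀, hB₀, ← map_pow, hζr, map_one, ← Matrix.transpose_pow, ← map_pow,
          inv_pow, hζr, inv_one, map_one, Matrix.transpose_one, Matrix.fromBlocks_one]
      obtain ⟨W, ⟨hW1, v, hv, hQv⟩, hWA⟩ := h A (hmem A hAQ (by
          rw [hA, Matrix.rank_of_isUnit _ hu, Fintype.card_sum]; exact ⟨_, rfl⟩))
        ⟨1, by rw [Units.val_pow_eq_pow_val, hA, hpow, one_smul]⟩
        (fun c hc => by
          rw [hA] at hc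
          have hcQ : ∀ w, Cfsg.quadFormPlus d F (c • w) = Cfsg.quadFormPlus d F w := fun w => by
            rw [← hAQ w, hA, hc, Matrix.smul_mulVec, Matrix.one_mulVec]
          have hcc : c * c = 1 := by
            have := hcQ (Sum.elim (Pi.single ⟨0, by omega⟩ 1) (Pi.single ⟨0, by omega⟩ 1))
            simpa [Cfsg.quadFormPlus, Pi.single_apply] using this
          have hc1 : c = 1 := Cfsg.Agent.Classical.CharTwo.sq_inj (by rw [sq, hcc, one_pow])
          rw [hc, hc1, one_smul, sub_self] at hu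
          haveI : Nonempty (Fin d) := ⟨⟨0, by omega⟩⟩
          exact not_isUnit_zero hu)
      have hv0 : v ≠ 0 := fun e0 => hQv (by simp [e0, Cfsg.quadFormPlus])
      obtain ⟨c, hc⟩ := (finrank_eq_one_iff_of_nonzero' (⟨v, hv⟩ : W) (fun e0 => hv0 (congrArg Subtype.val e0))).1 hW1
        ⟨M *ᵥ v, hWA ⟨v, hv, by rw [Matrix.toLin'_apply, hA]⟩⟩
      have hc' : c • v = M *ᵥ v := congrArg Subtype.val hc
      have hc1 : c = 1 := by
        refine Cfsg.Agent.Classical.CharTwo.sq_inj ?_
        have h1 := hAQ v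
        rw [hA, ← hc', hQe, QuadraticMap.map_smul, smul_eq_mul] at h1
        rw [sq, one_pow]
        exact (mul_eq_right₀ (by rwa [hQe] at hQv)).1 h1
      refine hv0 (Matrix.mulVec_injective_iff_isUnit.2 hu ?_)
      rw [Matrix.mulVec_zero, Matrix.sub_mulVec, Matrix.one_mulVec, ← hc', hc1, one_smul, sub_self]
  · rintro ⟨rfl, hdo⟩ x hxΩ ⟨z, hz⟩ -
    have hxQ := hiso x hxΩ
    let T : (Fin d ⊕ Fin d → F) →ₗ[F] (Fin d ⊕ Fin d → F) := Matrix.toLin' (x : Matrix (Fin d ⊕ Fin d) (Fin d ⊕ Fin d) F)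
    have hTQ : ∀ v, Q (T v) = Q v := fun v => by
      have := hxQ v
      rwa [hQe] at this
    have hTT0 : ∀ v, T (T v) = z • v := fun v => by
      rw [← LinearMap.comp_apply, ← Matrix.toLin'_mul, ← Units.val_mul, ← pow_two, hz,
        map_smul, Matrix.toLin'_one, LinearMap.smul_apply, LinearMap.id_apply]
    have hz1 : z = 1 := by
      refine Cfsg.Agent.Classical.CharTwo.sq_inj ?_
      have h1 := hTQ (T (Sum.elim (Pi.single ⟨0, by omega⟩ 1) (Pi.single ⟨0, by omega⟩ 1)))
      rw [hTT0, hTQ, QuadraticMap.map_smul] at h1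
      have hQ1 : Q (Sum.elim (Pi.single ⟨0, by omega⟩ 1) (Pi.single ⟨0, by omega⟩ 1)) = 1 := by
        rw [← hQe]; simp [Cfsg.quadFormPlus, Pi.single_apply]
      rw [hQ1, smul_eq_mul, mul_one] at h1
      rw [sq, one_pow, h1]
    have hTT : ∀ v, T (T v) = v := fun v => by rw [hTT0, hz1, one_smul]
    let N : (Fin d ⊕ Fin d → F) →ₗ[F] (Fin d ⊕ Fin d → F) := T + LinearMap.id
    have hN : ∀ v, N v = T v + v := fun v => rfl
    have hNN : ∀ v, N (N v) = 0 := fun v => by
      rw [hN, hN, map_add, hTT, add_comm v (T v)]; exact hvv _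
    suffices key : ∃ v, T v = v ∧ Q v ≠ 0 by
      obtain ⟨v, hTv, hQv⟩ := key
      have hv0 : v ≠ 0 := fun e0 => hQv (by rw [e0, map_zero])
      refine ⟨Submodule.span F {v}, ⟨finrank_span_singleton hv0, v, Submodule.mem_span_singleton_self v, by rwa [hQe]⟩, ?_⟩
      rw [Submodule.map_span, Set.image_singleton]
      show Submodule.span F {T v} ≤ _
      rw [hTv]
    by_contra hcon
    push Not at hcon
    have hker : ∀ v, N v = 0 ↔ T v = v := fun v => by
      rw [hN]; exact ⟨fun h => by rw [eq_neg_of_add_eq_zero_left h]; funext i; exact hneg _, fun h => by rw [h]; exact hvv v⟩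
    have hrk : LinearMap.range N ≤ LinearMap.ker N := by
      rintro _ ⟨v, rfl⟩; exact hNN v
    have hker_perp : LinearMap.ker N ≤ PlusMax.perp (LinearMap.ker N) := fun v hv => (PlusMax.mem_perp _ _).2 fun t ht => by
      have e : ∀ y, y ∈ LinearMap.ker N → Q y = 0 := fun y hy => hcon y ((hker y).1 hy)
      show polar Q t v = 0
      rw [polar, e _ ((LinearMap.ker N).add_mem ht hv), e _ ht, e _ hv]; ring
    have h1 : finrank F (LinearMap.ker N) ≤ 2 * d - finrank F (LinearMap.ker N) :=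
      (Submodule.finrank_mono hker_perp).trans (le_of_eq (PlusMax.finrank_perp _))
    have h2 : finrank F (LinearMap.range N) + finrank F (LinearMap.ker N) = 2 * d :=
      (LinearMap.finrank_range_add_finrank_ker N).trans PlusMax.finrank_V
    have h3 : finrank F (LinearMap.range N) ≤ finrank F (LinearMap.ker N) := Submodule.finrank_mono hrk
    have hkd : finrank F (LinearMap.ker N) = d := by omega
    have hperp : LinearMap.ker N = PlusMax.perp (LinearMap.ker N) := Submodule.eq_of_le_of_finrank_le hker_perp (by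
      rw [PlusMax.finrank_perp, hkd]; omega)
    have hre : LinearMap.range N = LinearMap.ker N := Submodule.eq_of_le_of_finrank_le hrk (by omega)
    obtain ⟨C, hC⟩ := exists_isCompl (LinearMap.ker N)
    let s : LinearMap.BilinForm F C := LinearMap.mk₂ F (fun a c : C => polar Q (a : (Fin d ⊕ Fin d → F)) (N c))
      (fun a a' c => by simp [QuadraticMap.polar_add_left])
      (fun t a c => by simp [QuadraticMap.polar_smul_left])
      (fun a c c' => by simp [QuadraticMap.polar_add_right])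
      (fun t a c => by simp [QuadraticMap.polar_smul_right])
    have hs : ∀ a c : C, s a c = polar Q (a : (Fin d ⊕ Fin d → F)) (N c) := fun a c => by simp [s]
    have hsalt : s.IsAlt := fun a => by
      rw [hs]
      have h5 : Q (T (a : (Fin d ⊕ Fin d → F))) = Q (a : (Fin d ⊕ Fin d → F)) + Q (N a) + polar Q (a : (Fin d ⊕ Fin d → F)) (N a) := by
        have h7 : T (a : (Fin d ⊕ Fin d → F)) = (a : (Fin d ⊕ Fin d → F)) + N a := by
          rw [hN, add_comm (T (a : (Fin d ⊕ Fin d → F))), ← add_assoc, hvv, zero_add]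
        rw [h7, QuadraticMap.map_add ⇑Q]
      have h6 : Q (N (a : (Fin d ⊕ Fin d → F))) = 0 := hcon _ ((hker _).1 (hNN _))
      rw [hTQ, h6, add_zero] at h5
      exact add_eq_left.1 h5.symm
    have hsnd : Sp.Nondeg s := fun a ha => by
      by_contra h
      push Not at h
      refine ha (Subtype.ext (Submodule.disjoint_def.1 hC.disjoint _ ?_ a.2))
      rw [hperp, PlusMax.mem_perp]
      intro w hw
      rw [← hre] at hw
      obtain ⟨y, rfl⟩ := hw
      obtain ⟨k₁, hk₁, c, hc, rfl⟩ := Submodule.mem_sup.1 (hC.sup_eq_top.ge (Submodule.mem_top : y ∈ ⊤))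
      rw [map_add, LinearMap.mem_ker.1 hk₁, zero_add, QuadraticMap.polar_comm, ← hs a ⟨c, hc⟩]
      exact h _
    have hev := (Sp.exists_equiv (finrank F C) s s hsalt hsnd hsalt hsnd rfl rfl).1
    have h4 := Submodule.finrank_add_eq_of_isCompl hC
    rw [hkd, PlusMax.finrank_V] at h4
    rw [show finrank F C = d by omega] at hev
    exact Nat.not_even_iff_odd.2 hdo hev

end Cfsg.Agent.S5985
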