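import Cfsg.Statements.S5986
import Cfsg.Agent.Lib.Classical.WittDecomp
import Cfsg.Agent.Lib.Classical.OmegaRank
import Cfsg.Agent.Lib.Classical.QuadZeros
import Cfsg.Agent.Lib.Classical.CharTwoForms
import Cfsg.Agent.Lib.Classical.FieldExtension

set_option autoImplicit false
open scoped MatrixGroups
open Cfsg

open Cfsg.Agent.Classical Module
open Matrix hiding toLin'
open QuadraticMap (polar polarBilin)
set_option maxHeartbeats 1000000

namespace Cfsg.Agent.S5986

/-- Elements of prime order of Ω⁻_n(q), q even, with no fixed nonsingular 1-space. Here `T = PΩ⁻_n(F)`, `n = 2d ≥ 8`, realised through `Ω⁻_n(q)`, the commutator subgroup of the isometry group of `Q = Σ_{i<d−1} xᵢyᵢ + z₁² + a z₁z₂ + b z₂²` with `z₁² + a z₁z₂ + b z₂²` anisotropic, over the field `F` with `q` elements; an element of `T` of prime order `r` is an element `x` of `Ω⁻_n(q)` with `x^r` scalar and `x` not scalar; `q` is even (so the centre is trivial). Let Ω be the set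 of 1-dimensional subspaces spanned by a vector `v` with `Q(v) ≠ 0`, and let `r` be a prime dividing their number. Then every element of `T` of order `r` fixes some nonsingular 1-space if and only if `r = 2`. -/
theorem result {F : Type*} [Field F] [Fintype F] {p : ℕ} [Fact p.Prime] [CharP F p] {q : ℕ} (hq : Fintype.card F = q)
    (hp : p = 2) (d : ℕ) (hd : 4 ≤ d) (a b : F) (hab : ∀ x y : F, x ^ 2 + a * x * y + b * y ^ 2 = 0 → x = 0 ∧ y = 0) (r : ℕ) [Fact r.Prime]
    (hrΩ : r ∣ Nat.card {W : Submodule F ((Fin (d - 1) ⊕ Fin (d - 1)) ⊕ Fin 2 → F) // Module.finrank F ↥W = 1 ∧ ∃ v ∈ W, Cfsg.quadFormMinus (d - 1) F a b v ≠ 0}) :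
    (∀ x : GL ((Fin (d - 1) ⊕ Fin (d - 1)) ⊕ Fin 2) F, x ∈ Cfsg.Geo.omegaGL (Cfsg.quadFormMinus (d - 1) F a b) →
      (∃ z : F, ((x ^ r : GL ((Fin (d - 1) ⊕ Fin (d - 1)) ⊕ Fin 2) F) : Matrix ((Fin (d - 1) ⊕ Fin (d - 1)) ⊕ Fin 2) ((Fin (d - 1) ⊕ Fin (d - 1)) ⊕ Fin 2) F) = z • (1 : Matrix ((Fin (d - 1) ⊕ Fin (d - 1)) ⊕ Fin 2) ((Fin (d - 1) ⊕ Fin (d - 1)) ⊕ Fin 2) F)) →
      (∀ z : F, (x : Matrix ((Fin (d - 1) ⊕ Fin (d - 1)) ⊕ Fin 2) ((Fin (d - 1) ⊕ Fin (d - 1)) ⊕ Fin 2) F) ≠ z • (1 : Matrix ((Fin (d - 1) ⊕ Fin (d - 1)) ⊕ Fin 2) ((Fin (d - 1) ⊕ Fin (d - 1)) ⊕ Fin 2) F)) →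
      ∃ W : Submodule F ((Fin (d - 1) ⊕ Fin (d - 1)) ⊕ Fin 2 → F), (Module.finrank F ↥W = 1 ∧ ∃ v ∈ W, Cfsg.quadFormMinus (d - 1) F a b v ≠ 0) ∧ W.map (Matrix.toLin' (x : Matrix ((Fin (d - 1) ⊕ Fin (d - 1)) ⊕ Fin 2) ((Fin (d - 1) ⊕ Fin (d - 1)) ⊕ Fin 2) F)) ≤ W) ↔ r = 2 := by
  classical
  haveI hc2 : CharP F 2 := hp ▸ (inferInstance : CharP F p)
  have h20 : (2 : F) = 0 := by exact_mod_cast CharP.cast_eq_zero F 2
  have hneg : ∀ e : F, -e = e := fun e => CharTwo.neg_eq e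
  have hvv : ∀ v : (Fin (d - 1) ⊕ Fin (d - 1)) ⊕ Fin 2 → F, v + v = 0 := fun v => by funext i; exact CharTwo.add_self_eq_zero _
  let Q := WittDec.QM (d - 1) a b
  have hQe : Cfsg.quadFormMinus (d - 1) F a b = ⇑Q := funext fun v => (WittDec.QM_apply _ a b v).symm
  have hnd := WittDec.QM_nondeg (d - 1) a b hab
  have hV : finrank F ((Fin (d - 1) ⊕ Fin (d - 1)) ⊕ Fin 2 → F) = 2 * d := by
    rw [finrank_pi]; simp only [Fintype.card_sum, Fintype.card_fin]; omega
  -- membership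
  have hmem : ∀ A : GL ((Fin (d - 1) ⊕ Fin (d - 1)) ⊕ Fin 2) F,
      (∀ v, Cfsg.quadFormMinus (d - 1) F a b ((A : Matrix ((Fin (d - 1) ⊕ Fin (d - 1)) ⊕ Fin 2) ((Fin (d - 1) ⊕ Fin (d - 1)) ⊕ Fin 2) F) *ᵥ v) = Cfsg.quadFormMinus (d - 1) F a b v) →
      Even ((A : Matrix ((Fin (d - 1) ⊕ Fin (d - 1)) ⊕ Fin 2) ((Fin (d - 1) ⊕ Fin (d - 1)) ⊕ Fin 2) F) - 1).rank → A ∈ Cfsg.Geo.omegaGL (Cfsg.quadFormMinus (d - 1) F a b) := by
    intro A hA hev
    exact ⟨⟨A, fun v _ => hA v⟩, (OmegaRank.mem_iff _ Q hQe hnd (by simp; omega) ⟨A, fun v _ => hA v⟩).2 hev, rfl⟩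
  have hiso : ∀ A : GL ((Fin (d - 1) ⊕ Fin (d - 1)) ⊕ Fin 2) F, A ∈ Cfsg.Geo.omegaGL (Cfsg.quadFormMinus (d - 1) F a b) →
      ∀ v, Cfsg.quadFormMinus (d - 1) F a b ((A : Matrix ((Fin (d - 1) ⊕ Fin (d - 1)) ⊕ Fin 2) ((Fin (d - 1) ⊕ Fin (d - 1)) ⊕ Fin 2) F) *ᵥ v) = Cfsg.quadFormMinus (d - 1) F a b v := by
    rintro _ ⟨t, -, rfl⟩ v
    exact t.2 v v
  constructor
  · intro h
    by_contra hr
    have hr' : r.Prime := Fact.out
    -- the number of points
    have hcount : r ∣ q ^ d + 1 := by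
      let Ω := {W : Submodule F ((Fin (d - 1) ⊕ Fin (d - 1)) ⊕ Fin 2 → F) // Module.finrank F ↥W = 1 ∧ ∃ v ∈ W, Cfsg.quadFormMinus (d - 1) F a b v ≠ 0}
      haveI : Fintype Ω := Fintype.ofFinite _
      let gen : Ω → ((Fin (d - 1) ⊕ Fin (d - 1)) ⊕ Fin 2 → F) := fun W => W.2.2.choose
      have hgen : ∀ W : Ω, gen W ∈ W.1 ∧ Cfsg.quadFormMinus (d - 1) F a b (gen W) ≠ 0 := fun W => W.2.2.choose_spec
      have hgen0 : ∀ W : Ω, gen W ≠ 0 := fun W e0 => (hgen W).2 (by simp [e0, hQe])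
      have hsmul : ∀ (c : F) (v : ((Fin (d - 1) ⊕ Fin (d - 1)) ⊕ Fin 2 → F)), Cfsg.quadFormMinus (d - 1) F a b (c • v) = c * c * Cfsg.quadFormMinus (d - 1) F a b v := fun c v => by
        rw [hQe, QuadraticMap.map_smul, smul_eq_mul]
      let f : Ω × Fˣ → {v : ((Fin (d - 1) ⊕ Fin (d - 1)) ⊕ Fin 2 → F) // Cfsg.quadFormMinus (d - 1) F a b v ≠ 0} := fun p => ⟨(p.2 : F) • gen p.1, by
        rw [hsmul]; exact mul_ne_zero (mul_ne_zero p.2.ne_zero p.2.ne_zero) (hgen p.1).2⟩
      have hspan : ∀ W : Ω, Submodule.span F {gen W} = W.1 := fun W =>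
        Submodule.eq_of_le_of_finrank_eq ((Submodule.span_singleton_le_iff_mem _ _).2 (hgen W).1)
          (by rw [finrank_span_singleton (hgen0 W), W.2.1])
      have hf : Function.Bijective f := by
        refine ⟨fun ⟨W, c⟩ ⟨W', c'⟩ he => ?_, fun ⟨v, hv⟩ => ?_⟩
        · have he' : (c : F) • gen W = (c' : F) • gen W' := congrArg Subtype.val he
          have hW : W = W' := by
            refine Subtype.ext ?_
            rw [← hspan W, ← hspan W', ← Submodule.span_singleton_smul_eq c.isUnit (gen W),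
              ← Submodule.span_singleton_smul_eq c'.isUnit (gen W'), he']
          subst hW
          rw [Units.ext (smul_left_injective F (hgen0 W) he')]
        · have hv0 : v ≠ 0 := fun e0 => hv (by simp [e0, hQe])
          let W : Ω := ⟨Submodule.span F {v}, finrank_span_singleton hv0, v, Submodule.mem_span_singleton_self v, hv⟩
          obtain ⟨c, hc⟩ := Submodule.mem_span_singleton.1 ((hspan W).ge (Submodule.mem_span_singleton_self v))
          have hc0 : c ≠ 0 := fun e0 => hv0 (by rw [← hc, e0, zero_smul])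
          exact ⟨(W, Units.mk0 c hc0), Subtype.ext hc⟩
      have h1 := Nat.card_congr (Equiv.ofBijective f hf)
      rw [Nat.card_prod, Nat.card_units, Nat.card_eq_fintype_card (α := F), hq] at h1
      have hz : (q : ℤ) * Nat.card {v : ((Fin (d - 1) ⊕ Fin (d - 1)) ⊕ Fin 2 → F) // Cfsg.quadFormMinus (d - 1) F a b v = 0} = (q : ℤ) ^ 2 * (q : ℤ) ^ (2 * (d - 1)) + (q : ℤ) ^ (d - 1) * ((q : ℤ) - (q : ℤ) ^ 2) := by
        let E : {v : ((Fin (d - 1) ⊕ Fin (d - 1)) ⊕ Fin 2 → F) // Cfsg.quadFormMinus (d - 1) F a b v = 0} ≃ QuadZeros.T (fun z : Fin 2 → F => z 0 ^ 2 + a * z 0 * z 1 + b * z 1 ^ 2) (d - 1) :=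
          { toFun := fun v => ⟨(fun i => v.1 (Sum.inr i), fun i => (v.1 (Sum.inl (Sum.inl i)), v.1 (Sum.inl (Sum.inr i)))), (add_comm _ _).trans v.2⟩
            invFun := fun p => ⟨Sum.elim (Sum.elim (fun i => (p.1.2 i).1) fun i => (p.1.2 i).2) p.1.1, (add_comm _ _).trans p.2⟩
            left_inv := fun v => Subtype.ext (funext fun i => by rcases i with (i | i) | i <;> rfl)
            right_inv := fun p => rfl }
        have h3 := QuadZeros.card_eq (fun z : Fin 2 → F => z 0 ^ 2 + a * z 0 * z 1 + b * z 1 ^ 2) (d - 1)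
        have h0 : Nat.card {z : Fin 2 → F // z 0 ^ 2 + a * z 0 * z 1 + b * z 1 ^ 2 = 0} = 1 := by
          rw [Nat.card_eq_one_iff_exists]
          refine ⟨⟨0, by simp⟩, fun z => Subtype.ext (funext fun i => ?_)⟩
          obtain ⟨h0, h1⟩ := hab _ _ z.2
          fin_cases i
          · exact h0
          · exact h1
        rw [← Nat.card_congr E, h0, Nat.card_fun, Nat.card_eq_fintype_card (α := F), Nat.card_fin, hq] at h3
        rw [h3]; push_cast; ring
      have htot : Nat.card {v : ((Fin (d - 1) ⊕ Fin (d - 1)) ⊕ Fin 2 → F) // Cfsg.quadFormMinus (d - 1) F a b v = 0} + Nat.card {v : ((Fin (d - 1) ⊕ Fin (d - 1)) ⊕ Fin 2 → F) // Cfsg.quadFormMinus (d - 1) F a b v ≠ 0} = q ^ (2 * d) := by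
        rw [← Nat.card_sum, Nat.card_congr (Equiv.sumCompl _), Nat.card_fun, Nat.card_eq_fintype_card (α := F), hq,
          Nat.card_eq_fintype_card, ← hV, finrank_pi]
      have hq2 : 2 ≤ q := hq ▸ Fintype.one_lt_card
      have h4 : q * Nat.card Ω = q ^ d * (q ^ d + 1) := by
        have h5 : ((q * Nat.card Ω : ℕ) : ℤ) = ((q ^ d * (q ^ d + 1) : ℕ) : ℤ) := by
          have h6 : ((q : ℤ) - 1) ≠ 0 := by omega
          refine mul_left_cancel₀ h6 ?_
          have h7 : (Nat.card {v : ((Fin (d - 1) ⊕ Fin (d - 1)) ⊕ Fin 2 → F) // Cfsg.quadFormMinus (d - 1) F a b v ≠ 0} : ℤ) = Nat.card Ω * ((q : ℤ) - 1) := by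
            rw [← h1]; push_cast [Nat.cast_sub (show 1 ≤ q by omega)]; ring
          have h8 : (Nat.card {v : ((Fin (d - 1) ⊕ Fin (d - 1)) ⊕ Fin 2 → F) // Cfsg.quadFormMinus (d - 1) F a b v = 0} : ℤ) + Nat.card {v : ((Fin (d - 1) ⊕ Fin (d - 1)) ⊕ Fin 2 → F) // Cfsg.quadFormMinus (d - 1) F a b v ≠ 0} = (q : ℤ) ^ (2 * d) := by
            exact_mod_cast htot
          push_cast
          rw [h7] at h8
          generalize Nat.card {v : ((Fin (d - 1) ⊕ Fin (d - 1)) ⊕ Fin 2 → F) // Cfsg.quadFormMinus (d - 1) F a b v = 0} = N0 at hz h8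
          generalize Nat.card Ω = N1 at h8 ⊢
          obtain ⟨e, rfl⟩ : ∃ e, d = e + 1 := ⟨d - 1, by omega⟩
          simp only [Nat.add_sub_cancel] at hz
          rw [two_mul, pow_add] at hz h8
          rw [pow_succ] at h8 ⊢
          linear_combination (q : ℤ) * h8 - hz
        exact_mod_cast h5
      have h5 : r ∣ q ^ d * (q ^ d + 1) := h4 ▸ Dvd.dvd.mul_left hrΩ q
      refine (hr'.dvd_mul.1 h5).resolve_left fun h6 => ?_
      obtain ⟨k, -, hk⟩ := FiniteField.card F 2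
      rw [← hq, hk, ← pow_mul] at h6
      exact hr ((Nat.prime_dvd_prime_iff_eq hr' Nat.prime_two).1 (hr'.dvd_of_dvd_pow h6))
    -- the quadratic extension of the extension field
    obtain ⟨k, -, hk⟩ := FiniteField.card F 2
    rw [hq] at hk
    let L := GaloisField 2 (k * (2 * d))
    haveI : Fintype L := Fintype.ofFinite L
    haveI : CharP L 2 := inferInstance
    have hLc : Fintype.card L = q ^ (2 * d) := by
      rw [← Nat.card_eq_fintype_card, GaloisField.card 2 _ (Nat.mul_ne_zero k.ne_zero (by omega)), hk, pow_mul]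
    obtain ⟨i⟩ := FieldExt.exists_emb F L (by omega : 2 * d ≠ 0) (by rw [hLc, hq])
    letI : Algebra F L := i.toAlgebra
    haveI : Module.Finite F L := Module.Finite.of_finite
    have hfd : finrank F L = 2 * d := by
      have := Module.card_eq_pow_finrank (K := F) (V := L)
      rw [hLc, hq] at this
      exact (Nat.pow_right_injective (hq ▸ Fintype.one_lt_card) this).symm
    have hLpow : ∀ x : L, x ^ (q ^ (2 * d)) = x := fun x => by rw [← hLc]; exact FiniteField.pow_card x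
    let σ₀ : L →ₐ[F] L :=
      { iterateFrobenius L 2 ((k : ℕ) * d) with
        commutes' := fun e => by
          show (algebraMap F L e) ^ 2 ^ ((k : ℕ) * d) = algebraMap F L e
          rw [← map_pow, pow_mul, ← hk, ← hq, FiniteField.pow_card_pow] }
    have hσ₀ : ∀ x, σ₀ x = x ^ q ^ d := fun x => by
      show x ^ 2 ^ ((k : ℕ) * d) = _
      rw [hk, pow_mul]
    let σ : L ≃ₐ[F] L := AlgEquiv.ofBijective σ₀ (Finite.injective_iff_bijective.1 σ₀.toRingHom.injective)
    have hσ : ∀ x, σ x = x ^ q ^ d := hσ₀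
    have hσσ : ∀ x, σ (σ x) = x := fun x => by
      rw [hσ, hσ, ← pow_mul, ← pow_add, ← two_mul, hLpow]
    obtain ⟨ζu, hζ⟩ := exists_prime_orderOf_dvd_card' (G := Lˣ) r (by
      rw [Nat.card_units, Nat.card_eq_fintype_card, hLc]
      refine hcount.trans ⟨q ^ d - 1, ?_⟩
      rw [mul_comm 2, pow_mul, ← Nat.sq_sub_sq, one_pow])
    set ζ : L := (ζu : L) with hζd
    have hζr : ζ ^ r = 1 := by rw [hζd, ← Units.val_pow_eq_pow_val, ← hζ, pow_orderOf_eq_one]; rfl
    have hζ1 : ζ ≠ 1 := fun e0 => by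
      rw [Units.val_eq_one.1 e0, orderOf_one] at hζ
      exact hr'.ne_one hζ.symm
    have hζ0 : ζ ≠ 0 := ζu.ne_zero
    have hζn : σ ζ * ζ = 1 := by
      rw [hσ, ← pow_succ, hζd, ← Units.val_pow_eq_pow_val, orderOf_dvd_iff_pow_eq_one.1 (hζ.symm ▸ hcount)]; rfl
    have hζt : ζ + σ ζ ≠ 0 := fun e0 => by
      have h1 : σ ζ = ζ := by rw [eq_neg_of_add_eq_zero_right e0]; exact CharTwo.neg_eq ζ
      rw [h1] at hζn
      exact hζ1 (Cfsg.Agent.Classical.CharTwo.sq_inj (by rw [sq, hζn, one_pow]))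
    let c : L := ζ / (ζ + σ ζ)
    have hc : c + σ c = 1 := by
      show ζ / (ζ + σ ζ) + σ (ζ / (ζ + σ ζ)) = 1
      rw [map_div₀, map_add, hσσ, add_comm (σ ζ) ζ, ← add_div, div_self hζt]
    let B : L →ₗ[F] L →ₗ[F] F := LinearMap.mk₂ F (fun x y => Algebra.trace F L (c * (σ x * y)))
      (fun x x' y => by simp [add_mul, mul_add])
      (fun e x y => by simp [mul_smul_comm, smul_mul_assoc])
      (fun x y y' => by simp [mul_add])
      (fun e x y => by simp [mul_smul_comm])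
    have hB : ∀ x y, B x y = Algebra.trace F L (c * (σ x * y)) := fun x y => rfl
    let Q' : QuadraticForm F L := LinearMap.BilinMap.toQuadraticMap B
    have hQ' : ∀ x, Q' x = Algebra.trace F L (c * (σ x * x)) := fun x => rfl
    have hpol : ∀ x y, polar Q' x y = Algebra.trace F L (σ x * y) := fun x y => by
      rw [LinearMap.BilinMap.polar_toQuadraticMap, hB, hB]
      rw [show Algebra.trace F L (c * (σ y * x)) = Algebra.trace F L (σ c * (σ x * y)) by
        rw [← Algebra.trace_eq_of_algEquiv σ (c * (σ y * x)), map_mul σ, map_mul σ, hσσ, mul_comm y]]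
      rw [← map_add, ← add_mul, hc, one_mul]
    have hnd' : (polarBilin Q').Nondegenerate := by
      have h1 : ∀ x, (∀ y, polar Q' x y = 0) → x = 0 := fun x hx => by
        refine σ.injective ?_
        rw [map_zero]
        exact (traceForm_nondegenerate F L).1 (σ x) fun y => (Algebra.traceForm_apply F _ _).trans ((hpol x y).symm.trans (hx y))
      exact ⟨h1, fun y hy => h1 y fun x => by rw [QuadraticMap.polar_comm]; exact hy x⟩
    have hmul : ∀ u y : L, σ u * u = 1 → Q' (u * y) = Q' y := fun u y hu => by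
      rw [hQ', hQ', map_mul σ, show σ u * σ y * (u * y) = (σ u * u) * (σ y * y) by ring, hu, one_mul]
    have hminus : ¬ ∃ W : Submodule F L, finrank F W = d ∧ ∀ w ∈ W, Q' w = 0 := by
      intro hW
      obtain ⟨φ, hφ⟩ := WittDec.exists_equiv_plus Q' hnd' hfd hW
      let K : Subgroup Lˣ := (powMonoidHom (q ^ d + 1)).ker
      have hKc : Nat.card K = q ^ d + 1 := by
        rw [IsCyclic.card_powMonoidHom_ker, Nat.card_units, Nat.card_eq_fintype_card, hLc]
        refine Nat.gcd_eq_right ⟨q ^ d - 1, ?_⟩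
        rw [mul_comm 2, pow_mul, ← Nat.sq_sub_sq, one_pow]
      let S : Set Lˣ := {u | Q' (u : L) = 0}
      have hS : QuotientGroup.mk ⁻¹' ((QuotientGroup.mk : Lˣ → Lˣ ⧸ K) '' S) = S := by
        refine Set.Subset.antisymm (fun u hu => ?_) (Set.subset_preimage_image _ _)
        obtain ⟨w, hw, hwu⟩ := hu
        rw [QuotientGroup.eq] at hwu
        have hk1 : ((w⁻¹ * u : Lˣ) : L) ^ (q ^ d + 1) = 1 := by
          rw [← Units.val_pow_eq_pow_val, show (w⁻¹ * u) ^ (q ^ d + 1) = 1 from hwu]; rfl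
        show Q' (u : L) = 0
        rw [show (u : L) = ((w⁻¹ * u : Lˣ) : L) * (w : L) from
          (congrArg Units.val (show u = w⁻¹ * u * w by rw [mul_comm w⁻¹ u, inv_mul_cancel_right])).trans (Units.val_mul _ _),
          hmul _ _ (by rw [hσ, ← pow_succ, hk1])]
        exact hw
      have hdvd : q ^ d + 1 ∣ Nat.card S := by
        rw [← hKc]
        have h1 := Nat.card_congr (QuotientGroup.preimageMkEquivSubgroupProdSet K ((QuotientGroup.mk : Lˣ → Lˣ ⧸ K) '' S))
        rw [hS, Nat.card_prod] at h1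
        exact ⟨_, h1⟩
      have hz : (q : ℤ) * Nat.card {v : (Fin d ⊕ Fin d → F) // Cfsg.quadFormPlus d F v = 0} = (q : ℤ) ^ (2 * d) + (q : ℤ) ^ d * ((q : ℤ) - 1) := by
        let E : {v : (Fin d ⊕ Fin d → F) // Cfsg.quadFormPlus d F v = 0} ≃ QuadZeros.T (fun _ : Unit => (0 : F)) d :=
          { toFun := fun v => ⟨((), fun i => (v.1 (Sum.inl i), v.1 (Sum.inr i))), (zero_add _).trans v.2⟩
            invFun := fun p => ⟨Sum.elim (fun i => (p.1.2 i).1) fun i => (p.1.2 i).2, (zero_add _).symm.trans p.2⟩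
            left_inv := fun v => Subtype.ext (funext fun i => by rcases i with i | i <;> rfl)
            right_inv := fun p => rfl }
        have h3 := QuadZeros.card_eq (fun _ : Unit => (0 : F)) d
        rw [← Nat.card_congr E, hq, show Nat.card Unit = 1 by simp, show Nat.card {x : Unit // (0 : F) = 0} = 1 by simp] at h3
        rw [h3]; push_cast; ring
      have hsplit : Nat.card {v : (Fin d ⊕ Fin d → F) // Cfsg.quadFormPlus d F v = 0} = Nat.card S + 1 := by
        rw [← Finite.card_option]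
        refine Nat.card_congr ((φ.toEquiv.subtypeEquiv (q := fun y => Q' y = 0) fun v => ?_).trans ?_)
        · show _ ↔ Q' (φ v) = 0
          rw [hφ]
        · exact
            { toFun := fun y => if h : y.1 = 0 then none else some ⟨Units.mk0 y.1 h, y.2⟩
              invFun := fun o => o.elim ⟨0, QuadraticMap.map_zero Q'⟩ fun u => ⟨(u.1 : L), u.2⟩
              left_inv := fun y => by
                by_cases h : y.1 = 0
                · simp [h]; exact Subtype.ext h.symm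
                · simp [h]
              right_inv := fun o => by
                rcases o with _ | u
                · simp
                · simp [u.1.ne_zero] }
      obtain ⟨t, ht⟩ := hdvd
      rw [hsplit, ht, two_mul, pow_add] at hz
      push_cast at hz
      have h9 : ((q : ℤ) ^ d + 1) ∣ 2 * (q : ℤ) - 2 :=
        ⟨(q : ℤ) ^ d + q - 2 - (q : ℤ) * t, by linear_combination hz⟩
      have h10 : q * q ≤ q ^ d := by
        rw [← pow_two]; exact Nat.pow_le_pow_right (hq ▸ Fintype.card_pos) (by omega)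
      have hq2 : (2 : ℤ) ≤ q := by exact_mod_cast (hq ▸ Fintype.one_lt_card : 1 < q)
      have h11 := Int.le_of_dvd (by omega) h9
      have h12 : (q : ℤ) * q ≤ (q : ℤ) ^ d := by exact_mod_cast h10
      nlinarith
    obtain ⟨φ, hφ⟩ := WittDec.exists_equiv_minus Q' hnd' hfd hminus a b hab
    let T : ((Fin (d - 1) ⊕ Fin (d - 1)) ⊕ Fin 2 → F) →ₗ[F] ((Fin (d - 1) ⊕ Fin (d - 1)) ⊕ Fin 2 → F) :=
      φ.symm.toLinearMap ∘ₗ LinearMap.mulLeft F ζ ∘ₗ φ.toLinearMap
    have hT : ∀ v, φ (T v) = ζ * φ v := fun v => by simp [T]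
    let M := LinearMap.toMatrix' T
    have hMv : ∀ v, M *ᵥ v = T v := fun v => LinearMap.toMatrix'_mulVec T v
    have hdet : M.det ≠ 0 := by
      rw [← isUnit_iff_ne_zero, ← Matrix.isUnit_iff_isUnit_det, ← Matrix.mulVec_injective_iff_isUnit]
      intro v w hvw
      rw [hMv, hMv] at hvw
      have h1 := congrArg φ hvw
      rw [hT, hT] at h1
      exact φ.injective (mul_left_cancel₀ hζ0 h1)
    let A : GL ((Fin (d - 1) ⊕ Fin (d - 1)) ⊕ Fin 2) F := Matrix.GeneralLinearGroup.mkOfDetNeZero M hdet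
    have hA : (A : Matrix ((Fin (d - 1) ⊕ Fin (d - 1)) ⊕ Fin 2) ((Fin (d - 1) ⊕ Fin (d - 1)) ⊕ Fin 2) F) = M := rfl
    have hAQ : ∀ v, Cfsg.quadFormMinus (d - 1) F a b ((A : Matrix ((Fin (d - 1) ⊕ Fin (d - 1)) ⊕ Fin 2) ((Fin (d - 1) ⊕ Fin (d - 1)) ⊕ Fin 2) F) *ᵥ v) = Cfsg.quadFormMinus (d - 1) F a b v := fun v => by
      rw [hA, hMv, ← hφ, ← hφ, hT, hmul _ _ hζn]
    have hfix : ∀ v, M *ᵥ v = v → v = 0 := fun v hv => by
      rw [hMv] at hv
      have h1 := hT v
      rw [hv] at h1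
      by_contra hv0
      exact hζ1 ((mul_eq_right₀ (fun e0 => hv0 (φ.map_eq_zero_iff.1 e0))).1 h1.symm)
    have hu : IsUnit (M - 1) := by
      rw [← Matrix.mulVec_injective_iff_isUnit]
      intro v w hvw
      refine sub_eq_zero.1 (hfix _ ?_)
      have h1 : (M - 1) *ᵥ (v - w) = 0 := by rw [Matrix.mulVec_sub, sub_eq_zero]; exact hvw
      rwa [Matrix.sub_mulVec, Matrix.one_mulVec, sub_eq_zero] at h1
    have hpow : M ^ r = 1 := by
      have h1 : ∀ (j : ℕ) (v), φ ((M ^ j) *ᵥ v) = ζ ^ j * φ v := by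
        intro j
        induction j with
        | zero => intro v; simp
        | succ j ih => intro v; rw [pow_succ, ← Matrix.mulVec_mulVec, ih, hMv, hT, ← mul_assoc, pow_succ]
      refine Matrix.ext_of_mulVec_single fun i => φ.injective ?_
      rw [h1, hζr, one_mul, Matrix.one_mulVec]
    obtain ⟨W, ⟨hW1, v, hv, hQv⟩, hWA⟩ := h A (hmem A hAQ (by
        rw [hA, Matrix.rank_of_isUnit _ hu, ← finrank_pi (R := F), hV]; exact even_two_mul d))
      ⟨1, by rw [Units.val_pow_eq_pow_val, hA, hpow, one_smul]⟩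
      (fun e he => by
        rw [hA] at he
        haveI : Nontrivial ((Fin (d - 1) ⊕ Fin (d - 1)) ⊕ Fin 2 → F) := inferInstance
        let w : (Fin (d - 1) ⊕ Fin (d - 1)) ⊕ Fin 2 → F := Pi.single (Sum.inr 0) 1
        have hw1 : Cfsg.quadFormMinus (d - 1) F a b w = 1 := by simp [w, Cfsg.quadFormMinus]
        have h1 := hAQ w
        rw [hA, he, Matrix.smul_mulVec, Matrix.one_mulVec, hQe, QuadraticMap.map_smul, smul_eq_mul, ← hQe, hw1, mul_one] at h1
        have he1 : e = 1 := Cfsg.Agent.Classical.CharTwo.sq_inj (by rw [sq, h1, one_pow])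
        have h2 : w = 0 := hfix w (by rw [he, he1, one_smul, Matrix.one_mulVec])
        exact (one_ne_zero : (1 : F) ≠ 0) (by simpa [w] using congrFun h2 (Sum.inr 0)))
    have hv0 : v ≠ 0 := fun e0 => hQv (by simp [e0, hQe])
    obtain ⟨e, he⟩ := (finrank_eq_one_iff_of_nonzero' (⟨v, hv⟩ : W) (fun e0 => hv0 (congrArg Subtype.val e0))).1 hW1
      ⟨M *ᵥ v, hWA ⟨v, hv, by rw [Matrix.toLin'_apply, hA]⟩⟩
    have he' : e • v = M *ᵥ v := congrArg Subtype.val he
    have he1 : e = 1 := by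
      refine Cfsg.Agent.Classical.CharTwo.sq_inj ?_
      have h1 := hAQ v
      rw [hA, ← he', hQe, QuadraticMap.map_smul, smul_eq_mul] at h1
      rw [sq, one_pow]
      exact (mul_eq_right₀ (by rwa [hQe] at hQv)).1 h1
    exact hv0 (hfix v (by rw [← he', he1, one_smul]))
  · rintro rfl x hxΩ ⟨z, hz⟩ -
    have hxQ := hiso x hxΩ
    let T : ((Fin (d - 1) ⊕ Fin (d - 1)) ⊕ Fin 2 → F) →ₗ[F] ((Fin (d - 1) ⊕ Fin (d - 1)) ⊕ Fin 2 → F) := Matrix.toLin' (x : Matrix ((Fin (d - 1) ⊕ Fin (d - 1)) ⊕ Fin 2) ((Fin (d - 1) ⊕ Fin (d - 1)) ⊕ Fin 2) F)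
    have hTQ : ∀ v, Q (T v) = Q v := fun v => by
      have := hxQ v
      rwa [hQe] at this
    have hTT0 : ∀ v, T (T v) = z • v := fun v => by
      rw [← LinearMap.comp_apply, ← Matrix.toLin'_mul, ← Units.val_mul, ← pow_two, hz,
        map_smul, Matrix.toLin'_one, LinearMap.smul_apply, LinearMap.id_apply]
    have hz1 : z = 1 := by
      refine Cfsg.Agent.Classical.CharTwo.sq_inj ?_
      have h1 := hTQ (T (Pi.single (Sum.inr 0) 1))
      rw [hTT0, hTQ, QuadraticMap.map_smul] at h1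
      have hQ1 : Q (Pi.single (Sum.inr 0) 1) = 1 := by
        rw [← hQe]; simp [Cfsg.quadFormMinus]
      rw [hQ1, smul_eq_mul, mul_one] at h1
      rw [sq, one_pow, h1]
    have hTT : ∀ v, T (T v) = v := fun v => by rw [hTT0, hz1, one_smul]
    let N : ((Fin (d - 1) ⊕ Fin (d - 1)) ⊕ Fin 2 → F) →ₗ[F] ((Fin (d - 1) ⊕ Fin (d - 1)) ⊕ Fin 2 → F) := T + LinearMap.id
    have hN : ∀ v, N v = T v + v := fun v => rfl
    suffices key : ∃ v, T v = v ∧ Q v ≠ 0 by
      obtain ⟨v, hTv, hQv⟩ := key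
      have hv0 : v ≠ 0 := fun e0 => hQv (by rw [e0, map_zero])
      refine ⟨Submodule.span F {v}, ⟨finrank_span_singleton hv0, v, Submodule.mem_span_singleton_self v, by rwa [hQe]⟩, ?_⟩
      rw [Submodule.map_span, Set.image_singleton]
      show Submodule.span F {T v} ≤ _
      rw [hTv]
    by_contra hcon
    push Not at hcon
    have hrk : LinearMap.range N ≤ LinearMap.ker N := by
      rintro _ ⟨v, rfl⟩
      rw [LinearMap.mem_ker, hN, hN, map_add, hTT, add_comm v (T v)]; exact hvv _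
    have h1 : finrank F (LinearMap.ker N) ≤ d - 1 :=
      (WittDec.QM_decomp (d - 1) a b).finrank_le_of_singular hnd (WittDec.plane_aniso a b hab) _ fun v hv => hcon v (by
        rw [LinearMap.mem_ker, hN] at hv
        rw [eq_neg_of_add_eq_zero_left hv]; funext i; exact hneg _)
    have h2 : finrank F (LinearMap.range N) + finrank F (LinearMap.ker N) = 2 * d :=
      (LinearMap.finrank_range_add_finrank_ker N).trans hV
    have h3 : finrank F (LinearMap.range N) ≤ finrank F (LinearMap.ker N) := Submodule.finrank_mono hrk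
    omega

end Cfsg.Agent.S5986
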