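import Cfsg.Statements.S5997
import Cfsg.Agent.Lib.GL2.SLClasses

set_option autoImplicit false
open scoped MatrixGroups
open Cfsg

open Cfsg.Agent.Classical
open Matrix
open scoped MatrixGroups

namespace Cfsg.Agent.S5997Aux

open QuaternionGroup

abbrev Q := QuaternionGroup 2

set_option maxRecDepth 20000 in
set_option maxHeartbeats 1000000 in
/-- Endomorphisms that are automorphisms have twelfth power one. -/
theorem twelve : ∀ u v : Q, v * u = u⁻¹ * v → v * v = u * u → u * v ≠ v * u → u * u * (u * u) = 1 →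
    (fun g : Q => match g with
      | .a k => u ^ k.val
      | .xa k => v * u ^ k.val)^[12] (.a 1) = .a 1 ∧
    (fun g : Q => match g with
      | .a k => u ^ k.val
      | .xa k => v * u ^ k.val)^[12] (.xa 0) = .xa 0 := by decide

theorem aut_pow_twelve (σ : MulAut Q) : σ ^ 12 = 1 := by
  set u := σ (a 1)
  set v := σ (xa 0)
  have hσ : (fun g : Q => match g with
      | .a k => u ^ k.val
      | .xa k => v * u ^ k.val) = (σ : Q → Q) := by
    funext g
    rcases g with k | k
    · show u ^ k.val = σ (a k)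
      rw [← map_pow, a_one_pow, ZMod.natCast_zmod_val]
    · show v * u ^ k.val = σ (xa k)
      rw [← map_pow, ← map_mul, a_one_pow, ZMod.natCast_zmod_val, xa_mul_a, zero_add]
  have key := twelve u v
    (by rw [← map_mul, ← map_inv, ← map_mul]; exact congrArg σ (by decide))
    (by rw [← map_mul, ← map_mul]; exact congrArg σ (by decide))
    (fun e => by
      rw [← map_mul, ← map_mul] at e
      exact absurd (σ.injective e) (by decide))
    (by rw [← map_mul, ← map_mul, ← map_one σ]; exact congrArg σ (by decide))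
  rw [hσ] at key
  have hpow : ∀ n : ℕ, ∀ g, (σ ^ n) g = (σ : Q → Q)^[n] g := by
    intro n
    induction n with
    | zero => intro g; rfl
    | succ n ih => intro g; rw [pow_succ, MulAut.mul_apply, ih, ← Function.iterate_succ_apply]
  have ha : (σ ^ 12) (a 1) = a 1 := (hpow 12 _).trans key.1
  have hb : (σ ^ 12) (xa 0) = xa 0 := (hpow 12 _).trans key.2
  refine MulEquiv.ext fun g => ?_
  rw [MulAut.one_apply]
  rcases g with k | k
  · rw [← ZMod.natCast_zmod_val k, ← a_one_pow, map_pow, ha]
  · rw [show (xa k : Q) = xa 0 * a 1 ^ k.val by rw [a_one_pow, ZMod.natCast_zmod_val, xa_mul_a, zero_add],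
      map_mul, map_pow, ha, hb]

variable {F : Type*} [Field F]

local notation "M2" => Matrix (Fin 2) (Fin 2) F
local notation "G2" => GL (Fin 2) F

theorem comm_of_nonscalar {g a b : G2} (hg : ¬ ∃ c : F, (g : M2) = c • 1) (ha : g * a = a * g) (hb : g * b = b * g) :
    a * b = b * a := by
  obtain ⟨x, y, hxy⟩ := SL2.exists_affine hg (congrArg Units.val ha)
  obtain ⟨x', y', hxy'⟩ := SL2.exists_affine hg (congrArg Units.val hb)
  refine Units.ext ?_
  rw [Units.val_mul, Units.val_mul, hxy, hxy']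
  simp only [add_mul, mul_add, smul_mul_smul_comm, one_mul, mul_one]
  rw [mul_comm x' x, mul_comm y' y, mul_comm x' y, mul_comm y' x]
  abel

theorem facts_of_sq {A : M2} (hA : ¬ ∃ c : F, A = c • 1) (h : A * A = -1) : A.trace = 0 ∧ A.det = 1 := by
  have hs := SL2.sq_eq A
  rw [h] at hs
  have : ((-1 : F)) • (1 : M2) + (0 : F) • A = (-A.det) • (1 : M2) + A.trace • A := by
    rw [zero_smul, add_zero, neg_one_smul, hs, neg_smul, sub_eq_add_neg, add_comm]
  obtain ⟨e1, e2⟩ := SL2.eq_of_nonscalar hA this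
  exact ⟨e2.symm, by linear_combination e1⟩

end Cfsg.Agent.S5997Aux

open Cfsg.Agent.S5997Aux
open QuaternionGroup (a xa)

namespace Cfsg.Agent.S5997

/-- Elements of prime order of PSL_2(p) and the normalizer of a quaternion subgroup. Here `T = PSL_2(F)` for the field `F` with `p` elements, `p ≥ 5` prime; `R` is a subgroup of GL_2(F) isomorphic to the quaternion group of order 8 (an absolutely irreducible 2-group of symplectic type), and `H` is the subgroup of matrices of determinant 1 normalizing `R` — a subgroup of type 2^{1+2}.O₂⁻(2), isomorphic modulo scalars to A₄ or S₄ (maximality is not assumed). Ω is the set of cosets of `H` in `T`, so an element of `T` of prime order `r` (a matrix `x` of determinant 1 with `x^r` scalar, `x` not scalar) fixes a point of Ω exactly when some conjugate of `x` by a matrix of determinant 1 normalizes `R`. Let `r` be a prime dividing the index of `H`. Then every element of `T` of order `r` fixes a point of Ω if and only if `r = 2` or `r = 3`. -/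
theorem result {F : Type*} [Field F] [Fintype F] {p : ℕ} [Fact p.Prime] [CharP F p] (hF : Fintype.card F = p) (hp : 5 ≤ p)
    (R : Subgroup (GL (Fin 2) F)) (hR : Nonempty (↥R ≃* QuaternionGroup 2))
    (r : ℕ) [Fact r.Prime]
    (hΩ : r ∣ (Cfsg.Geo.subgroupNormalizer R).relIndex (Cfsg.Geo.specialLinear (Fin 2) F)) :
    (∀ x ∈ Cfsg.Geo.specialLinear (Fin 2) F, (∃ z : F, ((x ^ r : GL (Fin 2) F) : Matrix (Fin 2) (Fin 2) F) = z • (1 : Matrix (Fin 2) (Fin 2) F)) →
      (∀ z : F, (x : Matrix (Fin 2) (Fin 2) F) ≠ z • (1 : Matrix (Fin 2) (Fin 2) F)) →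
      ∃ g ∈ Cfsg.Geo.specialLinear (Fin 2) F, g⁻¹ * x * g ∈ Cfsg.Geo.subgroupNormalizer R) ↔ (r = 2 ∨ r = 3) := by
  classical
  obtain ⟨e⟩ := hR
  have h2 : (2 : F) ≠ 0 := by
    intro h
    have h' := (CharP.cast_eq_zero_iff F p 2).1 (by exact_mod_cast h)
    have := Nat.le_of_dvd two_pos h'
    omega
  have h3 : (3 : F) ≠ 0 := by
    intro h
    have h' := (CharP.cast_eq_zero_iff F p 3).1 (by exact_mod_cast h)
    have := Nat.le_of_dvd three_pos h'
    omega
  set i : GL (Fin 2) F := (e.symm (a 1) : GL (Fin 2) F) with hi0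
  set j : GL (Fin 2) F := (e.symm (xa 0) : GL (Fin 2) F) with hj0
  have hi : i ∈ R := (e.symm (a 1)).2
  have hj : j ∈ R := (e.symm (xa 0)).2
  have hmem : ∀ g ∈ R, ∃ m n : ℕ, g = j ^ m * i ^ n := by
    intro g hg
    obtain ⟨q, hq⟩ : ∃ q, e.symm q = ⟨g, hg⟩ := ⟨e ⟨g, hg⟩, e.symm_apply_apply _⟩
    rcases q with k | k
    · refine ⟨0, k.val, ?_⟩
      rw [pow_zero, one_mul, hi0, ← SubmonoidClass.coe_pow, ← map_pow, QuaternionGroup.a_one_pow,
        ZMod.natCast_zmod_val, hq]
    · refine ⟨1, k.val, ?_⟩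
      rw [pow_one, hi0, hj0, ← SubmonoidClass.coe_pow, ← map_pow, ← Subgroup.coe_mul, ← map_mul,
        QuaternionGroup.a_one_pow, ZMod.natCast_zmod_val, QuaternionGroup.xa_mul_a, zero_add, hq]
  have hrel : j * i = i⁻¹ * j := by
    rw [hi0, hj0, ← Subgroup.coe_inv, ← map_inv, ← Subgroup.coe_mul, ← map_mul, ← Subgroup.coe_mul, ← map_mul]
    exact congrArg (fun q => (e.symm q : GL (Fin 2) F)) (by decide)
  have hjj : j * j = i * i := by
    rw [hi0, hj0, ← Subgroup.coe_mul, ← map_mul, ← Subgroup.coe_mul, ← map_mul]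
    exact congrArg (fun q => (e.symm q : GL (Fin 2) F)) (by decide)
  have hne : i * j ≠ j * i := by
    rw [hi0, hj0, ← Subgroup.coe_mul, ← map_mul, ← Subgroup.coe_mul, ← map_mul]
    intro he
    exact absurd (e.symm.injective (Subtype.ext he)) (by decide)
  have hi4 : (i * i) * (i * i) = 1 := by
    rw [hi0, ← Subgroup.coe_mul, ← map_mul, ← Subgroup.coe_mul, ← map_mul,
      show (a 1 * a 1 * (a 1 * a 1) : QuaternionGroup 2) = 1 by decide, map_one]; rfl
  have hi2 : i * i ≠ 1 := by
    rw [hi0, ← Subgroup.coe_mul, ← map_mul]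
    intro he
    exact absurd (e.symm.injective ((Subtype.ext he).trans (map_one e.symm).symm)) (by decide)
  -- the central involution
  have hz : ((i * i : GL (Fin 2) F) : Matrix (Fin 2) (Fin 2) F) = -1 := by
    by_cases hs : ∃ c : F, ((i * i : GL (Fin 2) F) : Matrix (Fin 2) (Fin 2) F) = c • 1
    · obtain ⟨c, hc⟩ := hs
      have e4 := congrArg Units.val hi4
      rw [Units.val_mul, hc, Units.val_one, smul_mul_smul_comm, one_mul] at e4
      have hc1 : c * c = 1 := by
        have := congrFun (congrFun e4 0) 0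
        simpa using this
      rcases mul_self_eq_one_iff.1 hc1 with r | r <;> rw [r] at hc
      · exact absurd (Units.ext (by rw [hc, one_smul]; rfl)) hi2
      · rw [hc, neg_one_smul]
    · exact absurd (comm_of_nonscalar (g := i * i) hs (by group) (by rw [← hjj]; group)) hne
  have I2 : (i : Matrix (Fin 2) (Fin 2) F) * i = -1 := by rw [← Units.val_mul, hz]
  have J2 : (j : Matrix (Fin 2) (Fin 2) F) * j = -1 := by rw [← Units.val_mul, hjj, hz]
  have Iinv : ((i⁻¹ : GL (Fin 2) F) : Matrix (Fin 2) (Fin 2) F) = -(i : Matrix (Fin 2) (Fin 2) F) :=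
    Units.inv_eq_of_mul_eq_one_right (by rw [mul_neg, I2, neg_neg])
  have JI : (j : Matrix (Fin 2) (Fin 2) F) * i = -((i : Matrix (Fin 2) (Fin 2) F) * j) := by
    rw [← Units.val_mul, hrel, Units.val_mul, Iinv, neg_mul]
  have hIns : ¬ ∃ c : F, (i : Matrix (Fin 2) (Fin 2) F) = c • 1 := fun ⟨c, hc⟩ => hne (Units.ext (by
    rw [Units.val_mul, Units.val_mul, hc, smul_mul_assoc, one_mul, mul_smul_comm, mul_one]))
  have hJns : ¬ ∃ c : F, (j : Matrix (Fin 2) (Fin 2) F) = c • 1 := fun ⟨c, hc⟩ => hne (Units.ext (by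
    rw [Units.val_mul, Units.val_mul, hc, smul_mul_assoc, one_mul, mul_smul_comm, mul_one]))
  set A : Matrix (Fin 2) (Fin 2) F := ↑i with hA
  set B : Matrix (Fin 2) (Fin 2) F := ↑j with hB
  have rA : ∀ X, A * (A * X) = -X := fun X => by rw [← mul_assoc, I2, neg_one_mul]
  have rB : ∀ X, B * (B * X) = -X := fun X => by rw [← mul_assoc, J2, neg_one_mul]
  have rBA : ∀ X, B * (A * X) = -(A * (B * X)) := fun X => by rw [← mul_assoc, JI, neg_mul, mul_assoc]
  have trA : A.trace = 0 := (facts_of_sq hIns I2).1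
  have trB : B.trace = 0 := (facts_of_sq hJns J2).1
  have trK : (A * B).trace = 0 := by
    have h' := congrArg Matrix.trace JI
    rw [Matrix.trace_mul_comm, Matrix.trace_neg] at h'
    exact (mul_eq_zero.1 (show (2 : F) * (A * B).trace = 0 by linear_combination h')).resolve_left h2
  -- the element of order three
  set c : F := 2⁻¹ with hc
  set W : Matrix (Fin 2) (Fin 2) F := c • (-1 + A + B + A * B) with hW
  have trW : W.trace = -1 := by
    rw [hW, Matrix.trace_smul, Matrix.trace_add, Matrix.trace_add, Matrix.trace_add, Matrix.trace_neg, trA, trB, trK]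
    simp [hc]; field_simp
  have W2 : W * W = -W - 1 := by
    rw [hW, smul_mul_smul_comm]
    have hs : (-1 + A + B + A * B) * (-1 + A + B + A * B) = (-2 : F) • (-1 + A + B + A * B) + (-4 : F) • (1 : Matrix (Fin 2) (Fin 2) F) := by
      simp only [add_mul, mul_add, neg_mul, mul_neg, one_mul, mul_one, mul_assoc, I2, J2, JI, rA, rB, rBA, neg_neg]
      module
    rw [hs, smul_add, smul_smul, smul_smul, show c * c * (-2 : F) = -c by rw [hc]; field_simp,
      show c * c * (-4 : F) = -1 by rw [hc]; field_simp; ring]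
    module
  have hWns : ¬ ∃ d : F, W = d • 1 := by
    rintro ⟨d, hd⟩
    have e1 := congrArg Matrix.trace hd
    rw [trW, Matrix.trace_smul, Matrix.trace_one, Fintype.card_fin, smul_eq_mul] at e1
    rw [hd, smul_mul_smul_comm, one_mul] at W2
    have e2 := congrFun (congrFun W2 0) 0
    simp at e2
    refine h3 ?_
    push_cast at e1
    linear_combination 4 * e2 + (2 * d + 1) * e1
  have detW : W.det = 1 := by
    have hs := SL2.sq_eq W
    rw [W2, trW] at hs
    have : ((-1 : F)) • (1 : Matrix (Fin 2) (Fin 2) F) + (-1 : F) • W = (-W.det) • (1 : Matrix (Fin 2) (Fin 2) F) + (-1 : F) • W := by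
      rw [neg_one_smul, neg_one_smul, ← sub_eq_add_neg, sub_eq_neg_add, ← sub_eq_add_neg, hs]
      module
    have := (SL2.eq_of_nonscalar hWns this).1
    linear_combination this
  set w : GL (Fin 2) F := GeneralLinearGroup.mkOfDetNeZero W (by rw [detW]; exact one_ne_zero) with hw
  have hwc : (w : Matrix (Fin 2) (Fin 2) F) = W := rfl
  have w1 : w * j * w⁻¹ = i := by
    rw [mul_inv_eq_iff_eq_mul]
    refine Units.ext ?_
    rw [Units.val_mul, Units.val_mul, hwc, ← hA, ← hB, hW, smul_mul_assoc, mul_smul_comm]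
    simp only [add_mul, mul_add, neg_mul, mul_neg, one_mul, mul_one, mul_assoc, I2, J2, JI, rA, rB, rBA, neg_neg]
    abel_nf
  have w2 : w * (i * j) * w⁻¹ = j := by
    rw [mul_inv_eq_iff_eq_mul]
    refine Units.ext ?_
    rw [Units.val_mul, Units.val_mul, Units.val_mul, hwc, ← hA, ← hB, hW, smul_mul_assoc, mul_smul_comm]
    simp only [add_mul, mul_add, neg_mul, mul_neg, one_mul, mul_one, mul_assoc, I2, J2, JI, rA, rB, rBA, neg_neg]
    abel_nf
  haveI : Finite R := Finite.of_equiv _ e.symm.toEquiv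
  have hwN : w ∈ Cfsg.Geo.subgroupNormalizer R := by
    have wi : w * i * w⁻¹ ∈ R := by
      rw [show w * i * w⁻¹ = (w * (i * j) * w⁻¹) * (w * j * w⁻¹)⁻¹ by group, w1, w2]
      exact mul_mem hj (inv_mem hi)
    have hle : R.map (MulAut.conj w).toMonoidHom ≤ R := by
      rintro _ ⟨g, hg, rfl⟩
      obtain ⟨m, n, rfl⟩ := hmem g hg
      rw [MulEquiv.coe_toMonoidHom, map_mul, map_pow, map_pow, MulAut.conj_apply, MulAut.conj_apply, w1]
      exact mul_mem (pow_mem hi m) (pow_mem wi n)
    have heq := Subgroup.eq_of_le_of_card_ge hle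
      (le_of_eq (Subgroup.card_map_of_injective (MulAut.conj w).injective).symm)
    show w ∈ Subgroup.normalizer (R : Set (GL (Fin 2) F))
    rw [Subgroup.mem_normalizer_iff]
    intro z
    refine ⟨fun hz => heq ▸ Subgroup.mem_map_of_mem (MulAut.conj w).toMonoidHom hz, fun hz => ?_⟩
    rw [← heq] at hz
    obtain ⟨u, hu, hu'⟩ := hz
    exact (MulAut.conj w).injective hu' ▸ hu
  have hSL : ∀ x : GL (Fin 2) F, x ∈ Cfsg.Geo.specialLinear (Fin 2) F ↔ (x : Matrix (Fin 2) (Fin 2) F).det = 1 := by
    intro x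
    rw [Cfsg.Geo.specialLinear, MonoidHom.mem_ker, Units.ext_iff]; rfl
  have conjinto : ∀ (x t : GL (Fin 2) F), (x : Matrix (Fin 2) (Fin 2) F).det = 1 → (t : Matrix (Fin 2) (Fin 2) F).det = 1 →
      GL2.Nonscalar (x : Matrix (Fin 2) (Fin 2) F) → GL2.Nonscalar (t : Matrix (Fin 2) (Fin 2) F) →
      (x : Matrix (Fin 2) (Fin 2) F).trace = (t : Matrix (Fin 2) (Fin 2) F).trace →
      (x : Matrix (Fin 2) (Fin 2) F).trace * (x : Matrix (Fin 2) (Fin 2) F).trace ≠ 4 →
      t ∈ Cfsg.Geo.subgroupNormalizer R →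
      ∃ g ∈ Cfsg.Geo.specialLinear (Fin 2) F, g⁻¹ * x * g ∈ Cfsg.Geo.subgroupNormalizer R := by
    intro x t hx ht nx nt htr h4 htN
    obtain ⟨X', hX'⟩ : ∃ X' : SpecialLinearGroup (Fin 2) F, SpecialLinearGroup.toGL X' = x :=
      ⟨⟨_, hx⟩, Units.ext rfl⟩
    obtain ⟨T', hT'⟩ : ∃ T' : SpecialLinearGroup (Fin 2) F, SpecialLinearGroup.toGL T' = t :=
      ⟨⟨_, ht⟩, Units.ext rfl⟩
    subst hX' hT'
    obtain ⟨γ, hγ⟩ := isConj_iff.1 (GL2.isConj_of_trace (g := X') (h := T') nx nt htr h4)
    refine ⟨SpecialLinearGroup.toGL γ⁻¹, (hSL _).2 (γ⁻¹).2, ?_⟩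
    rw [← map_inv, inv_inv, ← map_mul, ← map_mul, hγ]
    exact htN
  constructor
  · intro hall
    by_contra hr
    push Not at hr
    have hrp : r.Prime := Fact.out
    have hr5 : 5 ≤ r := by
      have := hrp.two_le
      have : r ≠ 4 := fun e4 => by rw [e4] at hrp; exact absurd hrp (by decide)
      omega
    haveI : Finite (Cfsg.Geo.specialLinear (Fin 2) F) := inferInstance
    have hdvd : r ∣ Nat.card (Cfsg.Geo.specialLinear (Fin 2) F) := hΩ.trans (Subgroup.index_dvd_card _)
    obtain ⟨⟨x, hx⟩, hxo⟩ := exists_prime_orderOf_dvd_card' r hdvd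
    rw [Subgroup.orderOf_mk] at hxo
    have hxr : x ^ r = 1 := by rw [← hxo]; exact pow_orderOf_eq_one x
    obtain ⟨g, hg, hy⟩ := hall x hx ⟨1, by rw [hxr, one_smul]; rfl⟩ (fun z hz => by
      have hd := (hSL x).1 hx
      rw [hz, Matrix.det_smul, Matrix.det_one, mul_one, Fintype.card_fin] at hd
      have : x ^ 2 = 1 := Units.ext (by rw [Units.val_pow_eq_pow_val, hz, smul_pow, one_pow, hd, one_smul]; rfl)
      have := Nat.le_of_dvd two_pos (orderOf_dvd_of_pow_eq_one this)
      omega)
    set y := g⁻¹ * x * g with hy0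
    have hyo : orderOf y = r := by
      rw [hy0, ← hxo]
      exact (SemiconjBy.orderOf_eq g⁻¹ (by show g⁻¹ * x = g⁻¹ * x * g * g⁻¹; group)).symm
    have hyr : y ^ r = 1 := by rw [← hyo]; exact pow_orderOf_eq_one y
    change y ∈ Subgroup.normalizer (R : Set (GL (Fin 2) F)) at hy
    let σ : MulAut R :=
      { toFun := fun u => ⟨y * u * y⁻¹, (Subgroup.mem_normalizer_iff.1 hy _).1 u.2⟩
        invFun := fun u => ⟨y⁻¹ * u * y, (Subgroup.mem_normalizer_iff.1 hy _).2 (by
          rw [show y * (y⁻¹ * u * y) * y⁻¹ = (u : GL (Fin 2) F) by group]; exact u.2)⟩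
        left_inv := fun u => Subtype.ext (by simp only; group)
        right_inv := fun u => Subtype.ext (by simp only; group)
        map_mul' := fun u v => Subtype.ext (by simp only [Subgroup.coe_mul]; group) }
    have hσn : ∀ (n : ℕ) (u : R), ((σ ^ n) u : GL (Fin 2) F) = y ^ n * u * (y ^ n)⁻¹ := by
      intro n
      induction n with
      | zero => intro u; simp
      | succ n ih =>
        intro u
        rw [pow_succ, MulAut.mul_apply, ih]
        show y ^ n * (y * (u : GL (Fin 2) F) * y⁻¹) * (y ^ n)⁻¹ = _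
        rw [pow_succ]; group
    have h1 : σ ^ r = 1 := MulEquiv.ext fun u => Subtype.ext (by rw [hσn, hyr]; simp)
    have h12 : σ ^ 12 = 1 := by
      refine (MulAut.congr e).injective ?_
      rw [map_pow, map_one]
      exact aut_pow_twelve _
    have hσ : σ = 1 := by
      have hcop : Nat.Coprime r 12 := hrp.coprime_iff_not_dvd.2 fun hd => by
        have := Nat.le_of_dvd (by norm_num) hd
        interval_cases r <;> simp_all (config := { decide := true })
      have := (pow_gcd_eq_one (a := σ) (m := r) (n := 12)).2 ⟨h1, h12⟩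
      rwa [hcop.gcd_eq_one, pow_one] at this
    have hc : ∀ u : R, y * (u : GL (Fin 2) F) = u * y := fun u => by
      have := hσn 1 u
      rw [pow_one, hσ, MulAut.one_apply, pow_one] at this
      exact (eq_mul_inv_iff_mul_eq.1 this).symm
    by_cases hys : ∃ z : F, (y : Matrix (Fin 2) (Fin 2) F) = z • 1
    · obtain ⟨z, hz⟩ := hys
      have hd : (y : Matrix (Fin 2) (Fin 2) F).det = 1 := (hSL y).1 (mul_mem (mul_mem (inv_mem hg) hx) hg)
      rw [hz, Matrix.det_smul, Matrix.det_one, mul_one, Fintype.card_fin] at hd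
      have : y ^ 2 = 1 := Units.ext (by rw [Units.val_pow_eq_pow_val, hz, smul_pow, one_pow, hd, one_smul]; rfl)
      have := Nat.le_of_dvd two_pos (orderOf_dvd_of_pow_eq_one this)
      omega
    · exact hne (comm_of_nonscalar hys (hc ⟨i, hi⟩) (hc ⟨j, hj⟩))
  · intro hr x hx hxr hxns
    obtain ⟨z, hz⟩ := hxr
    have hd := (hSL x).1 hx
    have nx : GL2.Nonscalar (x : Matrix (Fin 2) (Fin 2) F) := fun ⟨z', hz'⟩ => hxns z' hz'
    set X : Matrix (Fin 2) (Fin 2) F := ↑x with hX
    set t := X.trace with ht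
    have hsq : X * X = t • X - 1 := by
      have := SL2.sq_eq X
      rwa [hd, one_smul] at this
    rcases hr with rfl | rfl
    · rw [pow_two, Units.val_mul, hsq] at hz
      have : (-1 : F) • (1 : Matrix (Fin 2) (Fin 2) F) + t • X = z • (1 : Matrix (Fin 2) (Fin 2) F) + (0 : F) • X := by
        rw [← hz]; module
      have ht0 := (SL2.eq_of_nonscalar nx this).2
      refine conjinto x i hd (facts_of_sq hIns I2).2 nx hIns ?_ ?_
        (Subgroup.le_normalizer hi)
      · rw [← hX, ← ht, ht0, ← hA, trA]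
      · rw [← hX, ← ht, ht0, mul_zero, show (4 : F) = 2 * 2 by norm_num]
        exact (mul_ne_zero h2 h2).symm
    · rw [pow_succ, pow_two, Units.val_mul, Units.val_mul, ← hX, hsq, sub_mul, smul_mul_assoc, hsq, one_mul] at hz
      have : (-t : F) • (1 : Matrix (Fin 2) (Fin 2) F) + (t * t - 1) • X = z • (1 : Matrix (Fin 2) (Fin 2) F) + (0 : F) • X := by
        rw [← hz]; module
      have ht1 : t * t = 1 := sub_eq_zero.1 (SL2.eq_of_nonscalar nx this).2
      have h4 : t * t ≠ 4 := by rw [ht1]; exact fun e => h3 (by linear_combination -e)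
      rcases mul_self_eq_one_iff.1 ht1 with h | h
      · refine conjinto x (-w) hd ?_ nx ?_ ?_ (by rw [← hX, ← ht]; exact h4) ?_
        · rw [Units.val_neg, Matrix.det_neg, hwc, detW, Fintype.card_fin]; norm_num
        · rintro ⟨d, hd'⟩
          rw [Units.val_neg, hwc] at hd'
          exact hWns ⟨-d, by rw [neg_smul, ← hd', neg_neg]⟩
        · rw [← hX, ← ht, h, Units.val_neg, hwc, Matrix.trace_neg, trW, neg_neg]
        · show -w ∈ Subgroup.normalizer (R : Set (GL (Fin 2) F))
          have hwN' : w ∈ Subgroup.normalizer (R : Set (GL (Fin 2) F)) := hwN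
          rw [Subgroup.mem_normalizer_iff] at hwN' ⊢
          intro u
          rw [show -w * u * (-w)⁻¹ = w * u * w⁻¹ from Units.ext (by simp)]
          exact hwN' u
      · refine conjinto x w hd detW nx hWns ?_ (by rw [← hX, ← ht]; exact h4) hwN
        rw [← hX, ← ht, h, hwc, trW]

end Cfsg.Agent.S5997
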